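import Cfsg.Agent.Lib.Local.FS.Normal

set_option autoImplicit false

namespace Cfsg.Agent.Local.FS

open Cfsg Cfsg.FusionSystem Cfsg.Agent.Fusion

variable {Ω : Type*} [Group Ω] {S : Subgroup Ω} [Finite S] {F : FusionSystem S}
  {P Q R : Subgroup Ω} {f f' : Ω → Ω} {p : ℕ}

theorem centric_mem (hQ : F.IsCentric Q) (hf : Map F R f) (hQR : Q ≤ R) {x : Ω} (hx : x ∈ S)
    (hc : ∀ y ∈ Q, f y * x = x * f y) : x ∈ im Q f := by
  refine hQ.2 _ (isConj_iff.2 ⟨f, hf.restrict hQR, rfl⟩) (mem_centralizerIn.2 ⟨hx, fun y hy => ?_⟩)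
  obtain ⟨z, hz, rfl⟩ := (hf.restrict hQR).mem_im.1 hy
  exact hc z hz

omit [Finite S] in
theorem centric_mono (hQ : F.IsCentric Q) (hQR : Q ≤ R) (hR : R ≤ S) : F.IsCentric R := by
  refine ⟨hR, fun T hT => ?_⟩
  obtain ⟨f, hf, rfl⟩ := isConj_iff.1 hT
  intro x hx
  refine (im_mono hQR) (hQ.2 _ (isConj_iff.2 ⟨f, hf.restrict hQR, rfl⟩) ?_)
  exact mem_centralizerIn.2 ⟨(mem_centralizerIn.1 hx).1,
    fun y hy => (mem_centralizerIn.1 hx).2 y (im_mono hQR hy)⟩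

theorem centric_inv_mem (hQ : F.IsCentric Q) {x : Ω} (hx : x ∈ S) (hc : ∀ y ∈ Q, y * x = x * y) :
    x ∈ Q :=
  hQ.2 Q (isConj_refl hQ.1) (mem_centralizerIn.2 ⟨hx, hc⟩)

/-- One normal step. -/
theorem centric_agree_normal [Fact p.Prime] (hS : IsPGroup p S) (hF : F.IsSaturated p)
    (hQ : F.IsCentric Q) (hQR : Q ≤ R) (hn : R ≤ Subgroup.normalizer (Q : Set Ω))
    (hf : Map F R f) (hf' : Map F R f') (h : ∀ x ∈ Q, f x = f' x) :
    ∃ z ∈ Q, (∀ y ∈ Q, y * z = z * y) ∧ ∀ r ∈ R, f' r = f (z * r * z⁻¹) := by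
  haveI := finite_of_le hf.le
  haveI := mulAut_finite_of_le hf.le
  have hd : ∀ r ∈ R, (f r)⁻¹ * f' r ∈ im Q f := by
    intro r hr
    refine centric_mem hQ hf hQR (S.mul_mem (S.inv_mem (hf.mem hr)) (hf'.mem hr)) fun y hy => ?_
    have hc : r * y * r⁻¹ ∈ Q := conj_mem_of_normalizer (hn hr) hy
    have h1 := h _ hc
    rw [hf.map_conj hr (hQR hy), hf'.map_conj hr (hQR hy), ← h y hy] at h1
    calc f y * ((f r)⁻¹ * f' r) = (f r)⁻¹ * (f r * f y * (f r)⁻¹) * f' r := by group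
      _ = (f r)⁻¹ * (f' r * f y * (f' r)⁻¹) * f' r := by rw [h1]
      _ = _ := by group
  have hm : ∀ r ∈ R, f' r ∈ im R f := fun r hr => by
    simpa using (im R f).mul_mem (mem_im_of_mem hr) (im_mono hQR (hd r hr))
  obtain ⟨g, hg, hgf, hfg, -⟩ := hf.exists_inv
  have hθ : Map F R (g ∘ f') := hf'.comp hg hm
  have hθi : im R (g ∘ f') = R :=
    Subgroup.eq_of_le_of_card_ge (im_le_iff.2 fun r hr => (hfg _ (hm r hr)).2) hθ.card_im.ge
  obtain ⟨α, hα, hαθ⟩ := exists_aut hθ hθi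
  have hαQ : ∀ x ∈ Q, av α x = x := fun x hx => by
    rw [hαθ x (hQR hx)]
    show g (f' x) = x
    rw [← h x hx, hgf x (hQR hx)]
  have hαR : ∀ r ∈ R, r⁻¹ * av α r ∈ Q := by
    intro r hr
    obtain ⟨u, hu, hu'⟩ := (hf.restrict hQR).mem_im.1 (hd r hr)
    have h1 : f' r = f (r * u) := by rw [hf.map_mul hr (hQR hu), hu', mul_inv_cancel_left]
    rw [hαθ r hr]
    show r⁻¹ * g (f' r) ∈ Q
    rw [h1, hgf _ (R.mul_mem hr (hQR hu))]
    simpa using hu
  obtain ⟨k, hk⟩ := exists_pow_eq_one_of_stabilizes (hS.to_le hf.le) (α := α)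
    (fun i => if i = 0 then ⊥ else if i = 1 then Q else R) 2 rfl (by simp)
    (monotone_nat_of_le_succ fun i => by rcases i with _ | _ | i <;> simp [hQR])
    (fun i hi x hx hxC => by
      rcases i with _ | _ | i
      · simp only [zero_add, one_ne_zero, if_false, if_true] at hxC ⊢
        rw [Subgroup.mem_bot, hαQ x hxC, inv_mul_cancel]
      · simpa using hαR x hx
      · omega)
  obtain ⟨T, hRT, hT⟩ := exists_fullyNormalized (F := F) hf.le
  haveI := mulAut_finite_of_le hT.1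
  obtain ⟨e', he', hei⟩ := isConj_iff.1 hRT
  obtain ⟨e, he⟩ := exists_equiv he' hei
  have hzm : MulAut.congr e α ∈ F.autGroup T := congr_mem_autGroup he' hei he hα
  have hzp : IsPGroup p ↥(Subgroup.zpowers (MulAut.congr e α)) := by
    obtain ⟨j, -, hj⟩ := (Nat.dvd_prime_pow Fact.out).1
      (orderOf_dvd_of_pow_eq_one (show (MulAut.congr e α) ^ p ^ k = 1 by rw [← map_pow, hk, map_one]))
    exact IsPGroup.of_card ((Nat.card_zpowers _).trans hj)
  obtain ⟨χ, hχ, hle⟩ := (fa_iff.1 (fc_fa_of_fn hS hF hT).2).2.conj_le hzp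
    (Subgroup.zpowers_le.2 hzm)
  obtain ⟨s, hs, hsχ⟩ := mem_autInducedBy.1 (hle (conj_mem_cj (Subgroup.mem_zpowers _)))
  have hem : ∀ x ∈ R, e' x ∈ T := fun x hx => hei.le (mem_im_of_mem hx)
  set w := av χ ∘ e' with hwdef
  have hw : Map F R w := he'.comp (map_of_mem_autGroup hT.1 hχ) hem
  have hws : ∀ x ∈ R, w (av α x) = s * w x * s⁻¹ := by
    intro x hx
    have h1 := hsχ _ (av_mem χ (hem x hx))
    rw [av_mul _ _ (av_mem χ (hem x hx)), av_inv_av χ (hem x hx), av_mul _ _ (hem x hx),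
      av_congr_apply he α hx] at h1
    exact h1
  have hsQ : s ∈ im Q w := centric_mem hQ hw hQR hs fun y hy => by
    have h1 := hws y (hQR hy)
    rw [hαQ y hy] at h1
    exact eq_mul_inv_iff_mul_eq.1 h1
  obtain ⟨z, hz, rfl⟩ := (hw.restrict hQR).mem_im.1 hsQ
  have hkey : ∀ x ∈ R, av α x = z * x * z⁻¹ := fun x hx =>
    hw.injOn (av_mem α hx) (R.mul_mem (R.mul_mem (hQR hz) hx) (R.inv_mem (hQR hz)))
      (by rw [hws x hx, hw.map_conj (hQR hz) hx])
  refine ⟨z, hz, fun y hy => ?_, fun r hr => ?_⟩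
  · have h1 := (hαQ y hy).symm.trans (hkey y (hQR hy))
    exact eq_mul_inv_iff_mul_eq.1 h1
  · rw [← hkey r hr, hαθ r hr]
    exact ((hfg _ (hm r hr)).1).symm

/-- Two maps agreeing on a centric subgroup differ by conjugation by an element of its centre. -/
theorem centric_agree [Fact p.Prime] (hS : IsPGroup p S) (hF : F.IsSaturated p)
    (hQ : F.IsCentric Q) (hQP : Q ≤ P) (hf : Map F P f) (hf' : Map F P f')
    (h : ∀ x ∈ Q, f x = f' x) :
    ∃ z ∈ Q, (∀ y ∈ Q, y * z = z * y) ∧ ∀ r ∈ P, f' r = f (z * r * z⁻¹) := by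
  suffices ∀ n, ∀ (Q : Subgroup Ω) (f : Ω → Ω), Nat.card P - Nat.card Q = n → F.IsCentric Q → Q ≤ P →
      Map F P f → (∀ x ∈ Q, f x = f' x) →
      ∃ z ∈ Q, (∀ y ∈ Q, y * z = z * y) ∧ ∀ r ∈ P, f' r = f (z * r * z⁻¹) from
    this _ Q f rfl hQ hQP hf h
  intro n
  induction n using Nat.strong_induction_on with
  | _ n ih =>
  intro Q f hn hQ hQP hf h
  rcases eq_or_lt_of_le hQP with rfl | hlt
  · exact ⟨1, Q.one_mem, fun y _ => by simp, fun r hr => by simp [h r hr]⟩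
  set R := P ⊓ Subgroup.normalizer (Q : Set Ω)
  have hQR : Q < R := lt_inf_normalizer hS hlt hf.le
  obtain ⟨z, hz, hzc, hzR⟩ := centric_agree_normal hS hF hQ hQR.le inf_le_right
    (hf.restrict inf_le_left) (hf'.restrict inf_le_left) h
  have hzP := hQP hz
  have hf2 : Map F P (f ∘ fun x => z * x * z⁻¹) :=
    (map_conjBy hf.le (hf.le hzP)).comp hf fun x hx => P.mul_mem (P.mul_mem hzP hx) (P.inv_mem hzP)
  obtain ⟨w, hw, hwc, hwP⟩ := ih _ (by
      have h1 := card_lt_of_lt hQR (inf_le_left.trans hf.le)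
      haveI := finite_of_le hf.le
      have h2 : Nat.card R ≤ Nat.card P := Subgroup.card_le_of_le inf_le_left
      omega) R _ rfl (centric_mono hQ hQR.le (inf_le_left.trans hf.le)) inf_le_left hf2
    fun x hx => (hzR x hx).symm
  have hwQ : w ∈ Q := centric_inv_mem hQ (hf.le hw.1) fun y hy => hwc y (hQR.le hy)
  refine ⟨z * w, Q.mul_mem hz hwQ, fun y hy => ?_, fun r hr => ?_⟩
  · rw [← mul_assoc, hzc y hy, mul_assoc, hwc y (hQR.le hy), mul_assoc]
  · rw [hwP r hr]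
    show f (z * (w * r * w⁻¹) * z⁻¹) = _
    congr 1
    group

end Cfsg.Agent.Local.FS

namespace Cfsg.Agent.Local.FS

open Cfsg Cfsg.FusionSystem Cfsg.Agent.Fusion

section Extend

variable {Ω : Type*} [Group Ω] {S : Subgroup Ω} [Finite S] {F F' : FusionSystem S}
  {P Q R : Subgroup Ω} {f : Ω → Ω} {p : ℕ}

omit [Finite S] in
theorem map_of_le (hle : F' ≤ F) (h : Map F' P f) : Map F P f :=
  let ⟨φ, hφ, he⟩ := h; ⟨φ, hle P hφ, he⟩

omit [Finite S] in
theorem centric_of_le (hle : F' ≤ F) (h : F.IsCentric P) : F'.IsCentric P :=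
  ⟨h.1, fun Q ⟨φ, hφ, hr⟩ => h.2 Q ⟨φ, hle P hφ, hr⟩⟩

theorem fc_of_centric (h : F.IsCentric P) : F.IsFullyCentralized P := by
  refine ⟨h.1, fun Q hQ => ?_⟩
  obtain ⟨f, hf, hi⟩ := isConj_iff.1 (isConj_symm hQ)
  refine (hf.restrict (h.2 Q hQ)).card_le fun x hx => ?_
  have := hf.mem_centralizer le_rfl (h.2 Q hQ hx) (mem_centralizerIn.1 hx).2
  rwa [hi] at this

/-- Membership in a saturated subsystem is detected on centric subgroups. -/
theorem map_of_centric_restrict [Fact p.Prime] (hS : IsPGroup p S) (hF : F.IsSaturated p)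
    (hF' : F'.IsSaturated p) (hle : F' ≤ F) (hQ : F.IsCentric Q) (hQP : Q ≤ P) (hf : Map F P f)
    (h : Map F' Q f) : Map F' P f := by
  suffices ∀ n, ∀ Q : Subgroup Ω, Nat.card P - Nat.card Q = n → F.IsCentric Q → Q ≤ P → Map F' Q f →
      Map F' P f from this _ Q rfl hQ hQP h
  intro n
  induction n using Nat.strong_induction_on with
  | _ n ih =>
  intro Q hn hQ hQP h
  rcases eq_or_lt_of_le hQP with rfl | hlt
  · exact h
  set R := P ⊓ Subgroup.normalizer (Q : Set Ω)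
  have hQR : Q < R := lt_inf_normalizer hS hlt hf.le
  have hQ' : F.IsCentric (im Q f) := by
    refine ⟨h.im_le, fun T hT => hQ.2 T (isConj_trans (isConj_iff.2 ⟨f, hf.restrict hQP, rfl⟩) hT)⟩
  obtain ⟨g, hg, hgf⟩ := (receptive_iff.1
    (receptive_of_fc hS hF' (fc_of_centric (centric_of_le hle hQ')))).2 Q f h rfl
  have hRN : R ≤ Nf S Q f := fun r hr =>
    ⟨hf.le hr.1, hr.2, f r, hf.mem hr.1, fun x hx => hf.map_conj hr.1 (hQP hx)⟩
  have hgR := hg.restrict hRN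
  obtain ⟨z, hz, -, hzR⟩ := centric_agree hS hF hQ hQR.le (map_of_le hle hgR)
    (hf.restrict inf_le_left) hgf
  have hzR' : z ∈ R := hQR.le hz
  have h1 : Map F' R (g ∘ fun x => z * x * z⁻¹) :=
    (map_conjBy (hgR.le) (hgR.le hzR')).comp hgR fun x hx => R.mul_mem (R.mul_mem hzR' hx) (R.inv_mem hzR')
  refine ih _ ?_ R rfl (centric_mono hQ hQR.le (inf_le_left.trans hf.le)) inf_le_left
    (h1.congr fun x hx => (hzR x hx).symm)
  have h2 := card_lt_of_lt hQR (inf_le_left.trans hf.le)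
  haveI := finite_of_le hf.le
  have h3 : Nat.card R ≤ Nat.card P := Subgroup.card_le_of_le inf_le_left
  omega

theorem exists_minimal_centric (hP : F.IsCentric P) :
    ∃ Q, Q ≤ P ∧ F.IsCentric Q ∧ ∀ R, R < Q → ¬ F.IsCentric R := by
  suffices ∀ n, ∀ P : Subgroup Ω, Nat.card P = n → F.IsCentric P →
      ∃ Q, Q ≤ P ∧ F.IsCentric Q ∧ ∀ R, R < Q → ¬ F.IsCentric R from this _ P rfl hP
  intro n
  induction n using Nat.strong_induction_on with
  | _ n ih =>
  intro P hn hP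
  by_cases hmin : ∀ R, R < P → ¬ F.IsCentric R
  · exact ⟨P, le_rfl, hP, hmin⟩
  push Not at hmin
  obtain ⟨R, hR, hRc⟩ := hmin
  obtain ⟨Q, hQ, h⟩ := ih _ (hn ▸ card_lt_of_lt hR hP.1) R rfl hRc
  exact ⟨Q, hQ.trans hR.le, h⟩

end Extend

end Cfsg.Agent.Local.FS
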