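import Cfsg.Agent.Lib.Local.FS.Sub
import Cfsg.Agent.Lib.Local.FS.Centric

set_option autoImplicit false

namespace Cfsg.Agent.Local.FS

open Cfsg Cfsg.FusionSystem Cfsg.Agent.Fusion

variable {Ω : Type*} [Group Ω] {S T : Subgroup Ω} [Finite S] {F : FusionSystem S} {E : FusionSystem T}
  {Q : Subgroup Ω} {p : ℕ} [Fact p.Prime]

omit [Fact p.Prime] in
/-- A strongly closed subgroup has no other conjugate. -/
theorem eq_of_isConj_stronglyClosed {R : Subgroup Ω} (hQ : F.StronglyClosed Q) (h : F.IsConj Q R) :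
    R = Q := by
  obtain ⟨f, hf, rfl⟩ := isConj_iff.1 h
  haveI := finite_of_le hQ.1
  exact Subgroup.eq_of_le_of_card_ge (im_le_iff.2 fun x hx => stronglyClosed_map hQ hf hx hx) hf.card_im.ge

/-- The trace of a normal subgroup in a saturated subsystem on a strongly closed subgroup is normal there. -/
theorem normal_inf_of_sub (hS : IsPGroup p S) (hT : F.StronglyClosed T) (hsub : E.IsSubsystemOf F)
    (hE : E.IsSaturated p) (hQ : F.IsNormal Q) : E.IsNormal (Q ⊓ T) := by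
  haveI := finite_of_le hT.1
  have hpT := hS.to_le hT.1
  have hQc := normal_stronglyClosed hQ
  refine normal_of_centric_radical hpT hE (stronglyClosed_iff.2 ⟨inf_le_right, fun P f hP hf x hx => ?_⟩)
    fun P hC hR => ?_
  · exact ⟨stronglyClosed_map hQc (hf.of_sub hsub) hx (hP hx).1, hf.mem hx⟩
  refine le_of_inf_normalizer_le hpT inf_le_right ?_ hC.1 ?_
  · exact fun x hx => mem_normalizer_of_conj_mem (inf_le_right.trans hT.1) fun y hy =>
      ⟨stronglyClosed_conj_mem hQc (hT.1 hx) hy.1, T.mul_mem (T.mul_mem hx hy.2) (T.inv_mem hx)⟩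
  refine le_of_normal_autInducedBy hpT hC hR (inf_le_inf_right _ inf_le_right) ?_
  rintro α hα a ⟨haQ, han⟩
  have hαF := (map_of_mem_autGroup hC.1 hα).of_sub hsub
  obtain ⟨g, hg, hgα, hgQ⟩ := (normal_iff.1 hQ).2 P _ hαF
  have ha' : a ∈ P ⊔ Q := Subgroup.mem_sup_right haQ.1
  have hgP : im P g = P := (im_congr hgα).trans (im_av α)
  refine ⟨g a, ⟨⟨hgQ.le (mem_im_of_mem haQ.1), stronglyClosed_map hT hg ha' haQ.2⟩, ?_⟩, fun x hx => ?_⟩
  · have := (hg.mem_normalizer le_sup_left ha' han).2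
    rwa [hgP] at this
  · have hy : av α⁻¹ x ∈ P := av_mem _ hx
    rw [← hgα _ (conj_mem_of_normalizer han hy), hg.map_conj ha' (Subgroup.mem_sup_left hy), hgα _ hy,
      av_av_inv α hx]

/-- The elements stabilizing the chain `1 ≤ W ≤ Q`. -/
def chainStab (S Q W : Subgroup Ω) : Subgroup Ω where
  carrier := {s | s ∈ S ∧ (∀ q ∈ W, s * q * s⁻¹ = q) ∧ ∀ q ∈ Q, q⁻¹ * (s * q * s⁻¹) ∈ W}
  one_mem' := ⟨S.one_mem, fun q _ => by simp, fun q _ => by simp⟩
  mul_mem' := by
    rintro a b ⟨ha, haW, haQ⟩ ⟨hb, hbW, hbQ⟩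
    refine ⟨S.mul_mem ha hb, fun q hq => ?_, fun q hq => ?_⟩
    · rw [show a * b * q * (a * b)⁻¹ = a * (b * q * b⁻¹) * a⁻¹ by group, hbW q hq, haW q hq]
    · rw [show q⁻¹ * (a * b * q * (a * b)⁻¹) = (q⁻¹ * (a * q * a⁻¹)) * (a * (q⁻¹ * (b * q * b⁻¹)) * a⁻¹) by
        group, haW _ (hbQ q hq)]
      exact W.mul_mem (haQ q hq) (hbQ q hq)
  inv_mem' := by
    rintro a ⟨ha, haW, haQ⟩
    have h1 : ∀ q ∈ W, a⁻¹ * q * a⁻¹⁻¹ = q := fun q hq => by
      conv_lhs => rw [← haW q hq]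
      group
    refine ⟨S.inv_mem ha, h1, fun q hq => ?_⟩
    rw [show q⁻¹ * (a⁻¹ * q * a⁻¹⁻¹) = (a⁻¹ * (q⁻¹ * (a * q * a⁻¹))⁻¹ * a⁻¹⁻¹) by group,
      h1 _ (W.inv_mem (haQ q hq))]
    exact W.inv_mem (haQ q hq)

theorem chainStab_normal (hS : IsPGroup p S) (hF : F.IsSaturated p) {W : Subgroup Ω}
    (hQ : F.IsNormal Q) (hQC : F.IsCentric Q) (hW : F.StronglyClosed W) (hWQ : W ≤ Q) :
    F.IsNormal (chainStab S Q W) := by
  have hQc := normal_stronglyClosed hQ
  have hD : F.StronglyClosed (chainStab S Q W) := by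
    refine stronglyClosed_iff.2 ⟨fun s hs => hs.1, fun P f hP hf x hx => ?_⟩
    obtain ⟨g, hg, hgf, hgQ⟩ := (normal_iff.1 hQ).2 P f hf
    have hgW : im W g = W := by
      haveI := finite_of_le hW.1
      refine Subgroup.eq_of_le_of_card_ge (im_le_iff.2 fun y hy =>
        stronglyClosed_map hW hg (Subgroup.mem_sup_right (hWQ hy)) hy) ?_
      exact (hg.restrict (hWQ.trans le_sup_right)).card_im.ge
    have hxD := hP hx
    refine ⟨hf.mem hx, fun q hq => ?_, fun q hq => ?_⟩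
    · obtain ⟨r, hr, rfl⟩ := (hg.restrict (hWQ.trans le_sup_right)).mem_im.1 (hgW.ge hq)
      rw [← hgf x hx, ← hg.map_conj (Subgroup.mem_sup_left hx) (Subgroup.mem_sup_right (hWQ hr)),
        hxD.2.1 r hr]
    · obtain ⟨r, hr, rfl⟩ := (hg.restrict le_sup_right).mem_im.1 (hgQ.ge hq)
      have hr' : r ∈ P ⊔ Q := Subgroup.mem_sup_right hr
      have hc : x * r * x⁻¹ ∈ P ⊔ Q :=
        Subgroup.mul_mem _ (Subgroup.mul_mem _ (Subgroup.mem_sup_left hx) hr')
          (Subgroup.inv_mem _ (Subgroup.mem_sup_left hx))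
      rw [← hgf x hx, ← hg.map_conj (Subgroup.mem_sup_left hx) hr', ← hg.map_inv hr',
        ← hg.map_mul (Subgroup.inv_mem _ hr') hc]
      exact hgW.le (mem_im_of_mem (hxD.2.2 r hr))
  refine normal_of_centric_radical hS hF hD fun R hC hR => ?_
  refine le_of_inf_normalizer_le hS hD.1 (stronglyClosed_le_normalizer hD) hC.1 ?_
  rintro a ⟨haD, han⟩
  have hQR := normal_le_centric_radical hS hQ hC hR
  haveI := finite_of_le hC.1
  haveI := mulAut_finite_of_le hC.1
  let K : Subgroup ↥(F.autGroup R) :=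
    { carrier := {β | (∀ q ∈ W, av (β : MulAut R) q = q) ∧ ∀ q ∈ Q, q⁻¹ * av (β : MulAut R) q ∈ W}
      one_mem' := ⟨fun q hq => av_one (hQR (hWQ hq)), fun q hq => by
        show q⁻¹ * av (1 : MulAut R) q ∈ W
        rw [av_one (hQR hq), inv_mul_cancel]; exact W.one_mem⟩
      mul_mem' := by
        rintro β γ ⟨hβW, hβQ⟩ ⟨hγW, hγQ⟩
        refine ⟨fun q hq => ?_, fun q hq => ?_⟩
        · show av ((β : MulAut R) * (γ : MulAut R)) q = q
          rw [av_mul _ _ (hQR (hWQ hq)), hγW q hq, hβW q hq]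
        · show q⁻¹ * av ((β : MulAut R) * (γ : MulAut R)) q ∈ W
          rw [av_mul _ _ (hQR hq)]
          have hu := hγQ q hq
          have hmap := map_of_mem_autGroup hC.1 β.2
          rw [show av (γ : MulAut R) q = q * (q⁻¹ * av (γ : MulAut R) q) by group,
            hmap.map_mul (hQR hq) (hQR (hWQ hu)), hβW _ hu, ← mul_assoc]
          exact W.mul_mem (hβQ q hq) hu
      inv_mem' := by
        rintro β ⟨hβW, hβQ⟩
        have h1 : ∀ q ∈ W, av ((β : MulAut R)⁻¹) q = q := fun q hq => by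
          conv_lhs => rw [← hβW q hq]
          exact av_inv_av _ (hQR (hWQ hq))
        refine ⟨h1, fun q hq => ?_⟩
        show q⁻¹ * av ((β : MulAut R)⁻¹) q ∈ W
        have hu := hβQ q hq
        have hinv := (β : ↥(F.autGroup R))⁻¹.2
        have hmap := map_of_mem_autGroup hC.1 (show ((β : MulAut R)⁻¹) ∈ F.autGroup R from hinv)
        have h2 : av ((β : MulAut R)⁻¹) q * (q⁻¹ * av (β : MulAut R) q) = q := by
          rw [← h1 _ hu, ← hmap.map_mul (hQR hq) (hQR (hWQ hu)), mul_inv_cancel_left,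
            av_inv_av _ (hQR hq)]
        rw [eq_mul_inv_of_mul_eq h2, ← mul_assoc, inv_mul_cancel, one_mul]
        exact W.inv_mem hu }
  have hKn : K.Normal := by
    refine ⟨fun β hβ γ => ?_⟩
    have hγi : ((γ : MulAut R)⁻¹) ∈ F.autGroup R := Subgroup.inv_mem _ γ.2
    refine ⟨fun q hq => ?_, fun q hq => ?_⟩
    · show av ((γ : MulAut R) * (β : MulAut R) * (γ : MulAut R)⁻¹) q = q
      have h := stronglyClosed_map hW (map_of_mem_autGroup hC.1 hγi) (hQR (hWQ hq)) hq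
      rw [av_mul _ _ (hQR (hWQ hq)), av_mul _ _ (av_mem _ (hQR (hWQ hq))), hβ.1 _ h,
        av_av_inv _ (hQR (hWQ hq))]
    · show q⁻¹ * av ((γ : MulAut R) * (β : MulAut R) * (γ : MulAut R)⁻¹) q ∈ W
      have hm := map_of_mem_autGroup hC.1 γ.2
      have h := stronglyClosed_map hQc (map_of_mem_autGroup hC.1 hγi) (hQR hq) hq
      rw [av_mul _ _ (hQR hq), av_mul _ _ (av_mem _ (hQR hq))]
      have hu := hβ.2 _ h
      have h3 := stronglyClosed_map hW hm (hQR (hWQ hu)) hu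
      have hqR : av ((γ : MulAut R)⁻¹) q ∈ R := av_mem _ (hQR hq)
      rw [hm.map_mul (R.inv_mem hqR) (av_mem _ hqR), hm.map_inv hqR, av_av_inv _ (hQR hq)] at h3
      exact h3
  have hKp : IsPGroup p ↥K := by
    rintro ⟨⟨β, hβ⟩, hβW, hβQ⟩
    haveI := finite_of_le hQ.1
    have hmap := (map_of_mem_autGroup hC.1 hβ).restrict hQR
    obtain ⟨δ, -, hδ⟩ := exists_aut hmap (eq_of_isConj_stronglyClosed hQc (isConj_iff.2 ⟨_, hmap, rfl⟩))
    obtain ⟨k, hk⟩ := exists_pow_eq_one_of_stabilizes (hS.to_le hQ.1) (α := δ)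
      (fun i => if i = 0 then ⊥ else if i = 1 then W else Q) 2 rfl (by simp)
      (monotone_nat_of_le_succ fun i => by rcases i with _ | _ | i <;> simp [hWQ])
      (fun i hi x hx hxC => by
        rcases i with _ | _ | i
        · simp only [zero_add, one_ne_zero, if_false, if_true] at hxC ⊢
          rw [Subgroup.mem_bot, hδ x hx, hβW x hxC, inv_mul_cancel]
        · simpa [hδ x hx] using hβQ x hx
        · omega)
    have hfix : ∀ q ∈ Q, av (β ^ p ^ k) q = q := fun q hq => by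
      rw [av_pow hQR (fun y hy => (hδ y hy).symm) _ q hq, hk, av_one hq]
    obtain ⟨z, hz, -, hzr⟩ := centric_agree hS hF hQC hQR (map_id hC.1)
      (map_of_mem_autGroup hC.1 (Subgroup.pow_mem _ hβ (p ^ k))) (fun q hq => (hfix q hq).symm)
    have hit : ∀ n : ℕ, ∀ r ∈ R, av ((β ^ p ^ k) ^ n) r = z ^ n * r * (z ^ n)⁻¹ := by
      intro n
      induction n with
      | zero => intro r hr; simp [av_one hr]
      | succ n ih =>
        intro r hr
        rw [pow_succ', av_mul _ _ hr, hzr _ (av_mem _ hr), ih r hr]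
        simp only [id, pow_succ', mul_inv_rev, mul_assoc]
    obtain ⟨j, hj⟩ := hS ⟨z, hQ.1 hz⟩
    have hzj : z ^ p ^ j = 1 := congrArg Subtype.val hj
    refine ⟨k + j, Subtype.ext (Subtype.ext (show β ^ p ^ (k + j) = 1 from aut_ext fun r hr => ?_))⟩
    rw [pow_add, pow_mul, hit _ r hr, hzj, av_one hr]; simp
  obtain ⟨β, hβ, hβF⟩ := exists_aut_conj han
  have hβF' : β ∈ F.autGroup R := autInducedBy_le_autGroup hC.1 (hβF S haD.1)
  have hβK : (⟨β, hβF'⟩ : ↥(F.autGroup R)) ∈ K :=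
    ⟨fun q hq => by rw [hβ q (hQR (hWQ hq))]; exact haD.2.1 q hq,
      fun q hq => by rw [hβ q (hQR hq)]; exact haD.2.2 q hq⟩
  have hin : β ∈ Inn R := by
    rw [← hR.2]
    exact ⟨⟨β, hβF'⟩, le_pCore hKp hβK, rfl⟩
  obtain ⟨y, hy, hyβ⟩ := mem_Inn.1 hin
  have hc : y⁻¹ * a ∈ centralizerIn S R := by
    refine mem_centralizerIn.2 ⟨S.mul_mem (S.inv_mem (hC.1 hy)) haD.1, fun x hx => ?_⟩
    have h1 := (hβ x hx).symm.trans (hyβ x hx)
    calc x * (y⁻¹ * a) = y⁻¹ * (y * x * y⁻¹) * a := by group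
      _ = y⁻¹ * (a * x * a⁻¹) * a := by rw [h1]
      _ = _ := by group
  simpa using R.mul_mem hy (hC.2 R (isConj_refl hC.1) hc)

/-- A saturated subsystem on a strongly closed subgroup of a constrained system is constrained. -/
theorem constrained_of_sub (hS : IsPGroup p S) (hF : F.IsConstrained p) (hT : F.StronglyClosed T)
    (hsub : E.IsSubsystemOf F) (hE : E.IsSaturated p) : E.IsConstrained p := by
  obtain ⟨hFs, Q₀, hQ₀, hQ₀C⟩ := hF
  haveI := finite_of_le hT.1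
  have hQ := core_normal hS hFs (F := F)
  have hQC : F.IsCentric F.core := centric_mono hQ₀C (le_sSup hQ₀) hQ.1
  have hN := normal_inf_of_sub hS hT hsub hE hQ
  refine ⟨hE, F.core ⊓ T, hN, hN.1, fun R hR => ?_⟩
  rw [eq_of_isConj_stronglyClosed (normal_stronglyClosed hN) hR]
  intro x hx
  obtain ⟨hxT, hxc⟩ := mem_centralizerIn.1 hx
  refine ⟨?_, hxT⟩
  have hW : F.StronglyClosed (F.core ⊓ T) := stronglyClosed_iff.2 ⟨inf_le_left.trans hQ.1,
    fun P f hP hf y hy => ⟨stronglyClosed_map (normal_stronglyClosed hQ) hf hy (hP hy).1,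
      stronglyClosed_map hT hf hy (hP hy).2⟩⟩
  have hle : chainStab S F.core (F.core ⊓ T) ≤ F.core :=
    le_sSup (show chainStab S F.core (F.core ⊓ T) ∈ {Q : Subgroup Ω | F.IsNormal Q} from
      chainStab_normal hS hFs hQ hQC hW inf_le_left)
  refine hle ⟨hT.1 hxT, fun q hq => ?_, fun q hq => ?_⟩
  · rw [← hxc q hq, mul_inv_cancel_right]
  · refine ⟨F.core.mul_mem (F.core.inv_mem hq)
      (stronglyClosed_conj_mem (normal_stronglyClosed hQ) (hT.1 hxT) hq), ?_⟩
    have h := stronglyClosed_conj_mem hT (S.inv_mem (hQ.1 hq)) hxT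
    rw [inv_inv] at h
    rw [show q⁻¹ * (x * q * x⁻¹) = (q⁻¹ * x * q) * x⁻¹ by group]
    exact T.mul_mem h (T.inv_mem hxT)

end Cfsg.Agent.Local.FS
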