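import Cfsg.Agent.Lib.Local.FS.OmegaChain
import Cfsg.Agent.Lib.Local.FS.Constrained

/-!
A strongly closed subgroup with at most `p²` elements of order `p` is normal, odd `p`.
-/

set_option autoImplicit false

universe u

namespace Cfsg.Agent.Local.FS

open Cfsg Cfsg.FusionSystem Cfsg.Agent.Fusion
open scoped commutatorElement

section Metacyclic

variable {H : Type u} [Group H] [Finite H] {p : ℕ} [Fact p.Prime]

omit [Fact p.Prime] in
theorem zpowers_eq_of_orderOf_eq {C : Type*} [Group C] [Finite C] [IsCyclic C] {a b : C} (ha : orderOf a = p)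
    (hb : orderOf b = p) : Subgroup.zpowers a = Subgroup.zpowers b := by
  letI : CommGroup C := IsCyclic.commGroup
  set K := (powMonoidHom p : C →* C).ker
  have hK : Nat.card K = Nat.gcd (Nat.card C) p := IsCyclic.card_powMonoidHom_ker (G := C) p
  have hle : ∀ c : C, orderOf c = p → Subgroup.zpowers c = K := fun c hc => by
    refine Subgroup.eq_of_le_of_card_ge (Subgroup.zpowers_le.2 ?_) ?_
    · show c ^ p = 1
      rw [← hc, pow_orderOf_eq_one]
    · rw [hK, Nat.card_zpowers, hc]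
      refine Nat.le_of_dvd ?_ (Nat.gcd_dvd_right _ _)
      exact hc ▸ orderOf_pos c
  rw [hle a ha, hle b hb]

/-- The elements of order `p` of a metacyclic `p`-group, odd `p`, lie in a commutative subgroup of order at most `p²`. -/
theorem metacyclic_small_omega (hp2 : p ≠ 2) (hH : IsPGroup p H) (hm : IsMetacyclic H) :
    ∃ E : Subgroup H, IsMulCommutative E ∧ Nat.card E ∣ p ^ 2 ∧ ∀ x : H, x ^ p = 1 → x ∈ E := by
  obtain ⟨N, hN, hcN, hcQ⟩ := hm
  haveI := hN
  haveI := hcN
  set π := QuotientGroup.mk' N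
  -- the elements of order `p` in the cyclic normal subgroup are central
  have hZ : ∀ z ∈ N, z ^ p = 1 → ∀ h : H, h * z = z * h := by
    intro z hz hzp h
    rcases eq_or_ne z 1 with rfl | hz1
    · simp
    set C := Subgroup.zpowers z
    have ho : orderOf z = p := orderOf_eq_prime hzp hz1
    haveI hCn : C.Normal := ⟨fun w hw g => by
      obtain ⟨i, rfl⟩ := Subgroup.mem_zpowers_iff.1 hw
      rw [← conj_zpow]
      refine zpow_mem ?_ i
      -- the cyclic group has one subgroup of order `p`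
      by_cases hg : g * z * g⁻¹ = 1
      · exact absurd (conj_eq_one_iff.1 hg) hz1
      have hgN : g * z * g⁻¹ ∈ N := hN.conj_mem z hz g
      have e : Subgroup.zpowers (⟨g * z * g⁻¹, hgN⟩ : N) = Subgroup.zpowers (⟨z, hz⟩ : N) := by
        refine zpowers_eq_of_orderOf_eq (p := p) ?_ ?_
        · rw [← Subgroup.orderOf_coe]
          exact orderOf_eq_prime (by rw [conj_pow, hzp, mul_one, mul_inv_cancel]) hg
        · rw [← Subgroup.orderOf_coe]; exact ho
      obtain ⟨j, hj⟩ := Subgroup.mem_zpowers_iff.1 (e ▸ Subgroup.mem_zpowers _ :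
        (⟨g * z * g⁻¹, hgN⟩ : N) ∈ Subgroup.zpowers (⟨z, hz⟩ : N))
      exact ⟨j, (Subgroup.coe_zpow _ ⟨z, hz⟩ j).symm.trans (congrArg Subtype.val hj)⟩⟩
    have hC1 : C ≠ ⊥ := fun he => hz1 (Subgroup.mem_bot.1 (he ▸ Subgroup.mem_zpowers z))
    haveI : Group.IsNilpotent H := hH.isNilpotent
    obtain ⟨w, hwC, hw1, hwc⟩ := exists_fixed_mod (N := (⊥ : Subgroup H)) (C := C) (Q := ⊤)
      (by rw [Subgroup.normalizer_eq_top]) (fun he => hC1 (le_bot_iff.1 he))
    have hwcen : ∀ g : H, g * w = w * g := fun g =>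
      (commutatorElement_eq_one_iff_mul_comm.1 (Subgroup.mem_bot.1 (hwc g trivial))).symm
    have hCw : C = Subgroup.zpowers w := by
      refine (Subgroup.eq_of_le_of_card_ge (Subgroup.zpowers_le.2 hwC) ?_).symm
      rw [Nat.card_zpowers, Nat.card_zpowers, ho]
      have hd : orderOf w ∣ p := ho ▸ (Nat.card_zpowers z ▸ Subgroup.orderOf_dvd_natCard C hwC)
      rcases (Nat.dvd_prime Fact.out).1 hd with hd1 | hd1
      · exact absurd (Subgroup.mem_bot.2 (orderOf_eq_one_iff.1 hd1)) hw1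
      · exact hd1.ge
    obtain ⟨i, rfl⟩ := Subgroup.mem_zpowers_iff.1 (hCw ▸ Subgroup.mem_zpowers z : z ∈ Subgroup.zpowers w)
    exact ((show Commute h w from hwcen h).zpow_right i).eq
  let Z : Subgroup H :=
    { carrier := {z | z ∈ N ∧ z ^ p = 1}
      one_mem' := ⟨one_mem _, one_pow _⟩
      mul_mem' := fun {a b} ha hb => ⟨mul_mem ha.1 hb.1, by
        rw [(show Commute a b from (hZ b hb.1 hb.2 a)).mul_pow, ha.2, hb.2, one_mul]⟩
      inv_mem' := fun {a} ha => ⟨inv_mem ha.1, by rw [inv_pow, ha.2, inv_one]⟩ }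
  have hZc : ∀ z ∈ Z, ∀ h : H, h * z = z * h := fun z hz => hZ z hz.1 hz.2
  have hZp : Nat.card Z ∣ p := by
    have h1 : Z ≤ N := fun z hz => hz.1
    haveI : IsCyclic Z := isCyclic_of_injective (Subgroup.inclusion h1) (Subgroup.inclusion_injective h1)
    rw [← IsCyclic.exponent_eq_card, Monoid.exponent_dvd_iff_forall_pow_eq_one]
    exact fun z => Subtype.ext z.2.2
  by_cases hall : ∀ x : H, x ^ p = 1 → x ∈ N
  · exact ⟨Z, ⟨⟨fun a b => Subtype.ext (hZc _ b.2 _)⟩⟩, hZp.trans (dvd_pow_self p two_ne_zero),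
      fun x hx => ⟨hall x hx, hx⟩⟩
  push Not at hall
  obtain ⟨x, hxp, hxN⟩ := hall
  -- all commutators of `x` with the cyclic subgroup have order `p`
  have hxcomm : ∀ n ∈ N, ⁅n, x⁆ ∈ Z := by
    intro n hn
    obtain ⟨g, hg⟩ := hcN.exists_generator
    obtain ⟨r, hr⟩ := Subgroup.mem_zpowers_iff.1 (hg ⟨x * g * x⁻¹, hN.conj_mem _ g.2 x⟩)
    have hr' : x * (g : H) * x⁻¹ = (g : H) ^ r := by rw [← Subgroup.coe_zpow, hr]
    obtain ⟨k, hk⟩ := IsPGroup.iff_orderOf.1 (hH.to_subgroup N) g
    have hiter : ∀ i : ℕ, x ^ i * (g : H) * (x ^ i)⁻¹ = (g : H) ^ r ^ i := by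
      intro i
      induction i with
      | zero => simp
      | succ i ih =>
        calc x ^ (i + 1) * (g : H) * (x ^ (i + 1))⁻¹ = x * (x ^ i * (g : H) * (x ^ i)⁻¹) * x⁻¹ := by
              rw [pow_succ']; group
          _ = (g : H) ^ r ^ (i + 1) := by rw [ih, ← conj_zpow, hr', ← zpow_mul, pow_succ']
    have h1 := hiter p
    rw [hxp, one_mul, inv_one, mul_one] at h1
    have hgo : orderOf (g : H) = p ^ k := by rw [Subgroup.orderOf_coe]; exact hk
    have hcast : ((r : ZMod (p ^ k)) : ZMod (p ^ k)) ^ p = 1 := by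
      have h2 : (g : H) ^ (1 : ℤ) = (g : H) ^ r ^ p := by rw [zpow_one]; exact h1
      rw [zpow_eq_zpow_iff_modEq, hgo] at h2
      have := (ZMod.intCast_eq_intCast_iff _ _ _).2 h2
      push_cast at this
      exact this.symm
    have hcong : (p : ℤ) ∣ r - 1 ∨ k = 0 := by
      rcases Nat.eq_zero_or_pos k with hk0 | hk0
      · exact Or.inr hk0
      refine Or.inl ?_
      have h2 := congrArg (ZMod.castHom (dvd_pow_self p hk0.ne') (ZMod p)) hcast
      rw [map_pow, map_intCast, map_one, ZMod.pow_card] at h2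
      rw [← ZMod.intCast_zmod_eq_zero_iff_dvd, Int.cast_sub, h2, Int.cast_one, sub_self]
    have hpr : ((p : ℤ) * (r - 1) : ZMod (p ^ k)) = 0 := by
      rcases hcong with hd | hk0
      · have hnil : ((r : ZMod (p ^ k)) - 1) ^ k = 0 := by
          obtain ⟨q, hq⟩ := hd
          rw [show ((r : ZMod (p ^ k)) - 1) = ((r - 1 : ℤ) : ZMod (p ^ k)) by push_cast; rfl, hq]
          push_cast
          rw [mul_pow, ← Nat.cast_pow, ZMod.natCast_self, zero_mul]
        -- sharpen: the square of a unipotent of order `p`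
        obtain ⟨q, hq⟩ := hd
        have hp' := (Fact.out : p.Prime)
        obtain ⟨c, hc⟩ : ∃ c : ZMod (p ^ k), ((r : ZMod (p ^ k))) ^ p - 1 = (p : ZMod (p ^ k)) * ((r : ZMod (p ^ k)) - 1) * (1 + p * c) := by
          have ht : (r : ZMod (p ^ k)) = 1 + (p : ZMod (p ^ k)) * (q : ZMod (p ^ k)) := by
            have := congrArg (Int.cast : ℤ → ZMod (p ^ k)) hq
            push_cast at this
            linear_combination this
          have key : ∀ j : ℕ, ∃ c : ZMod (p ^ k), (1 + (p : ZMod (p ^ k)) * q) ^ j =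
              1 + j * (p * q) + (j.choose 2 : ℕ) * (p * q) ^ 2 + c * (p * q) ^ 3 := by
            intro j
            induction j with
            | zero => exact ⟨0, by simp⟩
            | succ j ih =>
              obtain ⟨c, hc⟩ := ih
              refine ⟨c + (j.choose 2 : ℕ) + c * (p * q), ?_⟩
              rw [pow_succ, hc, Nat.choose_succ_succ, Nat.choose_one_right]
              push_cast
              ring
          obtain ⟨c, hc⟩ := key p
          obtain ⟨e, he⟩ := hp'.dvd_choose_self (k := 2) (by omega) (lt_of_le_of_ne hp'.two_le (Ne.symm hp2))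
          refine ⟨e * q + c * q ^ 2, ?_⟩
          rw [ht, hc, he]
          push_cast
          ring
        rw [hcast, sub_self] at hc
        have hu : IsUnit (1 + (p : ZMod (p ^ k)) * c) := by
          refine IsNilpotent.isUnit_one_add ⟨k, ?_⟩
          rw [mul_pow, ← Nat.cast_pow, ZMod.natCast_self, zero_mul]
        have := (hu.mul_left_eq_zero).1 hc.symm
        push_cast
        exact this
      · subst hk0
        haveI : Subsingleton (ZMod (p ^ 0)) := by rw [pow_zero]; infer_instance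
        exact Subsingleton.elim _ _
    obtain ⟨i, hi⟩ := Subgroup.mem_zpowers_iff.1 (hg ⟨n, hn⟩)
    have hn' : n = (g : H) ^ i := by rw [← Subgroup.coe_zpow, hi]
    have e : ⁅n, x⁆ = (g : H) ^ (-(i * (r - 1))) := by
      rw [commutatorElement_def, hn',
        show (g : H) ^ i * x * ((g : H) ^ i)⁻¹ * x⁻¹ = (g : H) ^ i * (x * (g : H) ^ (-i) * x⁻¹) by rw [zpow_neg]; group,
        ← conj_zpow, hr', ← zpow_mul, ← zpow_add]
      congr 1; ring
    rw [e]
    refine ⟨zpow_mem g.2 _, ?_⟩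
    rw [← zpow_natCast, ← zpow_mul, ← orderOf_dvd_iff_zpow_eq_one, hgo,
      ← ZMod.intCast_zmod_eq_zero_iff_dvd]
    push_cast
    push_cast at hpr
    linear_combination -(i : ZMod (p ^ k)) * hpr
  refine ⟨Z ⊔ Subgroup.zpowers x, ?_, ?_, fun y hy => ?_⟩
  · refine ⟨⟨fun a b => Subtype.ext ?_⟩⟩
    have hle : Z ⊔ Subgroup.zpowers x ≤ Subgroup.centralizer ((Z : Set H) ∪ {x}) := sup_le
      (fun z hz => Subgroup.mem_centralizer_iff.2 fun w _ => hZc z hz w)
      (Subgroup.zpowers_le.2 (Subgroup.mem_centralizer_iff.2 fun w hw => hw.elim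
        (fun hw => (hZc w hw x).symm) fun hw => by rw [Set.mem_singleton_iff.1 hw]))
    have hle2 : Z ⊔ Subgroup.zpowers x ≤ Subgroup.centralizer ((Z ⊔ Subgroup.zpowers x : Subgroup H) : Set H) := by
      rw [Subgroup.le_centralizer_iff]
      refine sup_le (fun z hz => Subgroup.mem_centralizer_iff.2 fun w _ => hZc z hz w) (Subgroup.zpowers_le.2 ?_)
      exact Subgroup.mem_centralizer_iff.2 fun w hw => ((Subgroup.mem_centralizer_iff.1 (hle hw)) x (Or.inr rfl)).symm
    exact (Subgroup.mem_centralizer_iff.1 (hle2 b.2) a a.2)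
  · have hsp : IsPGroup p (Z ⊔ Subgroup.zpowers x : Subgroup H) := hH.to_subgroup _
    haveI : Z.Normal := ⟨fun z hz g => by rw [hZc z hz g, mul_inv_cancel_right]; exact hz⟩
    rw [sup_comm]
    refine (card_sup_dvd Z (Subgroup.zpowers x)).trans ?_
    rw [pow_two, Nat.card_zpowers]
    exact mul_dvd_mul (orderOf_dvd_of_pow_eq_one hxp) hZp
  · -- every element of order `p` is a power of `x` up to `Z`
    haveI := hcQ
    have hπx : orderOf (π x) = p := orderOf_eq_prime (by rw [← map_pow, hxp, map_one]) fun h =>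
      hxN ((QuotientGroup.eq_one_iff x).1 h)
    obtain ⟨i, hi⟩ : ∃ i : ℤ, π x ^ i = π y := by
      refine Subgroup.mem_zpowers_iff.1 ?_
      by_cases hy1 : π y = 1
      · rw [hy1]; exact one_mem _
      have e : Subgroup.zpowers (π y) = Subgroup.zpowers (π x) := by
        exact zpowers_eq_of_orderOf_eq (p := p) (orderOf_eq_prime (by rw [← map_pow, hy, map_one]) hy1) hπx
      exact e ▸ Subgroup.mem_zpowers _
    set n := (x ^ i)⁻¹ * y with hn
    have hnN : n ∈ N := (QuotientGroup.eq_one_iff n).1 (by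
      show π n = 1
      rw [hn, map_mul, map_inv, map_zpow, hi, inv_mul_cancel])
    have hcz : ⁅n, x ^ i⁆ ∈ Z := by
      haveI : Z.Normal := ⟨fun z hz g => by rw [hZc z hz g, mul_inv_cancel_right]; exact hz⟩
      refine (QuotientGroup.eq_one_iff _).1 ?_
      show QuotientGroup.mk' Z ⁅n, x ^ i⁆ = 1
      rw [map_commutatorElement, map_zpow, commutatorElement_eq_one_iff_commute]
      refine Commute.zpow_right ?_ i
      rw [← commutatorElement_eq_one_iff_commute, ← map_commutatorElement]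
      exact (QuotientGroup.eq_one_iff _).2 (hxcomm n hnN)
    have hpn : n ^ p * x ^ i = x ^ i * n ^ p := by
      refine ((show Commute (n ^ p) x from ?_).zpow_right i).eq
      have hc := hxcomm n hnN
      have e1 : x * n * x⁻¹ = n * ⁅n, x⁆⁻¹ * 1 := by
        rw [mul_one, hZc _ (inv_mem hc) n, commutatorElement_def]
        group
      have e2 : x * n ^ p * x⁻¹ = n ^ p := by
        rw [← conj_pow, e1, mul_one,
          (show Commute n ⁅n, x⁆⁻¹ from hZc _ (inv_mem hc) n).mul_pow, inv_pow, hc.2, inv_one, mul_one]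
      exact (mul_inv_eq_iff_eq_mul.1 e2).symm
    have hpow := pow_prime_mul_of_class_two hp2 (x := x ^ i) (y := n) (fun g => (hZc _ hcz g).symm) hpn
    rw [hn, mul_inv_cancel_left, hy, ← hn, ← zpow_natCast (x ^ i), ← zpow_mul, mul_comm i, zpow_mul,
      zpow_natCast, hxp, one_zpow, one_mul] at hpow
    rw [show y = x ^ i * n by rw [hn]; group]
    exact mul_mem (Subgroup.mem_sup_right (zpow_mem (Subgroup.mem_zpowers x) i))
      (Subgroup.mem_sup_left ⟨hnN, hpow.symm⟩)

end Metacyclic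

variable {Ω : Type u} [Group Ω] {S P : Subgroup Ω} [Finite S] {F : FusionSystem S} {p : ℕ} [Fact p.Prime]

/-- Fixed element in an invariant coset of odd order under a `2`-element. -/
theorem exists_fixed_coset_two {H : Type u} [Group H] [Finite H] (β : H ≃* H) {j : ℕ}
    (hβ : ∀ g, β^[2 ^ j] g = g) (N : Subgroup H) (hN : ∀ n ∈ N, β n ∈ N) (h2 : ¬ 2 ∣ Nat.card N)
    {g : H} (hg : g⁻¹ * β g ∈ N) : ∃ n ∈ N, β (g * n) = g * n := by
  classical
  haveI : Fintype N := Fintype.ofFinite _
  haveI : Fact (Nat.Prime 2) := ⟨Nat.prime_two⟩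
  let σ : N → N := fun n => ⟨g⁻¹ * β (g * n.1), by
    rw [map_mul, ← mul_assoc]; exact N.mul_mem hg (hN _ n.2)⟩
  have hit : ∀ (k : ℕ) (n : N), g * (σ^[k] n).1 = β^[k] (g * n.1) := by
    intro k
    induction k with
    | zero => intro n; rfl
    | succ k ih =>
      intro n
      rw [Function.iterate_succ_apply', Function.iterate_succ_apply', ← ih n]
      simp only [σ]
      rw [mul_inv_cancel_left]
  have hinj : Function.Injective σ := by
    intro a b hab
    have := congrArg Subtype.val hab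
    simp only [σ] at this
    exact Subtype.ext (mul_left_cancel (β.injective (mul_left_cancel this)))
  let e : Equiv.Perm N := Equiv.ofBijective σ (Finite.injective_iff_bijective.1 hinj)
  have he : e ^ 2 ^ j = 1 := by
    ext n
    rw [Equiv.Perm.coe_pow]
    have h1 := hit (2 ^ j) n
    rw [hβ] at h1
    exact mul_left_cancel h1
  rw [Nat.card_eq_fintype_card] at h2
  obtain ⟨n, hn⟩ := Equiv.Perm.exists_fixed_point_of_prime h2 he
  refine ⟨n.1, n.2, ?_⟩
  have h1 := hit 1 n
  have h3 : σ n = n := hn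
  simpa [h3] using h1.symm

set_option maxHeartbeats 1000000 in
/-- A strongly closed subgroup whose elements of order `p` lie in a commutative subgroup of order at most `p²` is
normal. -/
theorem normal_of_small_omega (hS : IsPGroup p S) (hF : F.IsSaturated p) (hp : p ≠ 2) (hP : F.StronglyClosed P)
    (hsmall : ∃ E₀ : Subgroup P, IsMulCommutative E₀ ∧ Nat.card E₀ ∣ p ^ 2 ∧ ∀ x : P, x ^ p = 1 → x ∈ E₀) :
    F.IsNormal P := by
  classical
  obtain ⟨E₀, hE₀c, hE₀card, hE₀⟩ := hsmall
  haveI := finite_of_le hP.1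
  have hPS := hP.1
  set E := omegaOne p P with hEdef
  have hEP : E ≤ P := omegaOne_le_self
  haveI := finite_of_le (hEP.trans hPS)
  have hEE₀ : E ≤ E₀.map P.subtype := (Subgroup.closure_le _).2 fun x hx =>
    ⟨⟨x, hx.1⟩, hE₀ _ (Subtype.ext hx.2), rfl⟩
  have hEc : ∀ a ∈ E, ∀ b ∈ E, a * b = b * a := by
    intro a ha b hb
    obtain ⟨a', ha', rfl⟩ := hEE₀ ha
    obtain ⟨b', hb', rfl⟩ := hEE₀ hb
    exact congrArg (fun t : E₀ => ((t : P) : Ω)) (hE₀c.1.1 ⟨a', ha'⟩ ⟨b', hb'⟩)
  have hEpow : ∀ e ∈ E, e ^ p = 1 := by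
    intro e he
    induction he using Subgroup.closure_induction with
    | mem x hx => exact hx.2
    | one => exact one_pow _
    | mul x y hx hy ihx ihy => rw [(show Commute x y from hEc x hx y hy).mul_pow, ihx, ihy, one_mul]
    | inv x _ ih => rw [inv_pow, ih, inv_one]
  have hEcard : Nat.card E ∣ p ^ 2 := by
    refine (Subgroup.card_dvd_of_le hEE₀).trans ?_
    rwa [Subgroup.card_map_of_injective P.subtype_injective]
  have hEsc : F.StronglyClosed E := stronglyClosed_iff.2 ⟨hEP.trans hPS, fun R f hRE hf x hx => by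
    refine mem_omegaOne_of_pow (stronglyClosed_map hP hf hx (hEP (hRE hx))) ?_
    have hpow : ∀ i : ℕ, f (x ^ i) = f x ^ i := fun i => by
      induction i with
      | zero => rw [pow_zero, pow_zero]; exact hf.map_one
      | succ i ih => rw [pow_succ, hf.map_mul (R.pow_mem hx i) hx, ih, pow_succ]
    rw [← hpow, hEpow x (hRE hx), hf.map_one]⟩
  have hbot : F.StronglyClosed ⊥ := stronglyClosed_iff.2 ⟨bot_le, fun R f hR hf x hx => by
    rw [Subgroup.mem_bot.1 (hR hx), hf.map_one]; exact one_mem _⟩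
  by_cases hcent : ∀ e ∈ E, ∀ x ∈ P, e * x = x * e
  · refine normal_of_omega_chain hS hF hp hP (fun i => if i = 0 then ⊥ else E) 1 rfl
      (fun x hx hxp => mem_omegaOne_of_pow hx hxp) (fun i j hij => ?_) (fun i => ?_) (fun i => ?_) fun i => ?_
    · rcases i with _ | i
      · simp
      · simp [show j ≠ 0 by omega]
    · rcases i with _ | i <;> simp [hEP]
    · rcases i with _ | i
      · simpa using hbot
      · simpa using hEsc
    · refine Subgroup.commutator_le.2 fun e he x hx => ?_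
      have he' : e ∈ E := by simpa using he
      rw [commutatorElement_eq_one_iff_mul_comm.2 (hcent e he' x hx)]
      exact one_mem _
  push Not at hcent
  obtain ⟨e₀, he₀, x₀, hx₀, hne₀⟩ := hcent
  set Z := E ⊓ Subgroup.centralizer (P : Set Ω) with hZdef
  have hPn : ∀ s ∈ S, ∀ e ∈ E, s * e * s⁻¹ ∈ E := fun s hs e he => stronglyClosed_conj_mem hEsc hs he
  have hZn : ∀ s ∈ S, ∀ z ∈ Z, s * z * s⁻¹ ∈ Z := fun s hs z hz => ⟨hPn s hs z hz.1,
    Subgroup.mem_centralizer_iff.2 fun y hy => by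
      have h1 := Subgroup.mem_centralizer_iff.1 hz.2 (s⁻¹ * y * s)
        (by simpa using stronglyClosed_conj_mem hP (S.inv_mem hs) hy)
      calc y * (s * z * s⁻¹) = s * (s⁻¹ * y * s * z) * s⁻¹ := by group
        _ = s * (z * (s⁻¹ * y * s)) * s⁻¹ := by rw [h1]
        _ = s * z * s⁻¹ * y := by group⟩
  obtain ⟨k, hk2, hk⟩ := (Nat.dvd_prime_pow (Fact.out : p.Prime)).1 hEcard
  -- a nontrivial central element
  have hPp : IsPGroup p P := hS.to_le hPS
  haveI : Group.IsNilpotent P := hPp.isNilpotent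
  haveI hEn : (E.subgroupOf P).Normal := ⟨fun e he g => hPn g (hPS g.2) e he⟩
  have hE1 : E.subgroupOf P ≠ ⊥ := fun h => by
    have : (⟨e₀, hEP he₀⟩ : P) ∈ E.subgroupOf P := he₀
    rw [h, Subgroup.mem_bot] at this
    exact hne₀ (by rw [show e₀ = 1 from congrArg Subtype.val this, one_mul, mul_one])
  obtain ⟨z, hzE, hz1, hzc⟩ := exists_fixed_mod (N := (⊥ : Subgroup P)) (C := E.subgroupOf P) (Q := ⊤)
    (by rw [Subgroup.normalizer_eq_top]) (fun he => hE1 (le_bot_iff.1 he))
  have hzZ : (z : Ω) ∈ Z := ⟨hzE, Subgroup.mem_centralizer_iff.2 fun y hy => (congrArg Subtype.val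
    (commutatorElement_eq_one_iff_mul_comm.1 (Subgroup.mem_bot.1 (hzc ⟨y, hy⟩ trivial)))).symm⟩
  have hz1' : (z : Ω) ≠ 1 := fun h => hz1 (Subgroup.mem_bot.2 (Subtype.ext h))
  have hEne : Z ≠ E := fun h => hne₀ (Subgroup.mem_centralizer_iff.1 (h.ge he₀).2 x₀ hx₀).symm
  have hZE : Z ≤ E := inf_le_left
  haveI := finite_of_le ((hZE.trans hEP).trans hPS)
  have hZcard : Nat.card Z = p ∧ Nat.card E = p ^ 2 := by
    have h1 := Subgroup.card_dvd_of_le hZE
    rw [hk] at h1
    obtain ⟨i, hik, hi⟩ := (Nat.dvd_prime_pow (Fact.out : p.Prime)).1 h1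
    have hi0 : i ≠ 0 := fun h => by
      rw [h, pow_zero] at hi
      have := Subgroup.eq_bot_of_card_eq Z hi
      exact hz1' (Subgroup.mem_bot.1 (this ▸ hzZ))
    have hik' : i ≠ k := fun h => hEne (Subgroup.eq_of_le_of_card_ge hZE (by rw [hi, hk, h]))
    obtain ⟨rfl, rfl⟩ : i = 1 ∧ k = 2 := by omega
    exact ⟨by rw [hi, pow_one], hk⟩
  have hzo : orderOf (z : Ω) = p := orderOf_eq_prime (hEpow _ hzE) hz1'
  have hZz : Z = Subgroup.zpowers (z : Ω) := (Subgroup.eq_of_le_of_card_ge (Subgroup.zpowers_le.2 hzZ)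
    (by rw [Nat.card_zpowers, hzo, hZcard.1])).symm
  -- the quotient by the central part is central
  have hEZ : ⁅E, P⁆ ≤ Z := by
    haveI : (Z.subgroupOf P).Normal := ⟨fun w hw g => hZn g (hPS g.2) w hw⟩
    obtain ⟨c, hcE, hcZ, hcc⟩ := exists_fixed_mod (N := Z.subgroupOf P) (C := E.subgroupOf P) (Q := ⊤)
      (by rw [Subgroup.normalizer_eq_top]) (fun h => hEne (le_antisymm hZE fun e he => h (x := ⟨e, hEP he⟩) he))
    refine Subgroup.commutator_le.2 fun e he x hx => ?_
    have htop : Subgroup.zpowers (z : Ω) ⊔ Subgroup.zpowers (c : Ω) = E := by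
      refine Subgroup.eq_of_le_of_card_ge (sup_le (Subgroup.zpowers_le.2 hzE) (Subgroup.zpowers_le.2 hcE)) ?_
      set T := Subgroup.zpowers (z : Ω) ⊔ Subgroup.zpowers (c : Ω)
      have hTE : T ≤ E := sup_le (Subgroup.zpowers_le.2 hzE) (Subgroup.zpowers_le.2 hcE)
      haveI := finite_of_le ((hTE.trans hEP).trans hPS)
      have h1 := Subgroup.card_dvd_of_le hTE
      rw [hZcard.2] at h1 ⊢
      obtain ⟨i, hi2, hi⟩ := (Nat.dvd_prime_pow (Fact.out : p.Prime)).1 h1
      rcases (show i ≤ 1 ∨ i = 2 by omega) with h | h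
      · exfalso
        refine hcZ (Subgroup.mem_subgroupOf.2 ?_)
        have hle : Z ≤ T := hZz ▸ le_sup_left
        have heq : Z = T := Subgroup.eq_of_le_of_card_ge hle (by
          rw [hi, hZcard.1]
          exact (Nat.pow_le_pow_right (Fact.out : p.Prime).pos h).trans (pow_one p).le)
        exact heq ▸ Subgroup.mem_sup_right (Subgroup.mem_zpowers _)
      · rw [hi, h]
    rw [← htop] at he
    let K : Subgroup Ω :=
      { carrier := {e | e ∈ E ∧ ⁅e, x⁆ ∈ Z}
        one_mem' := ⟨one_mem _, by rw [commutatorElement_one_left]; exact one_mem _⟩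
        mul_mem' := fun {a b} ha hb => ⟨mul_mem ha.1 hb.1, by
          rw [show ⁅a * b, x⁆ = a * ⁅b, x⁆ * a⁻¹ * ⁅a, x⁆ by simp only [commutatorElement_def]; group]
          refine mul_mem ?_ ha.2
          exact hZn a (hPS (hEP ha.1)) _ hb.2⟩
        inv_mem' := fun {a} ha => ⟨inv_mem ha.1, by
          rw [show ⁅a⁻¹, x⁆ = a⁻¹ * ⁅a, x⁆⁻¹ * (a⁻¹)⁻¹ by simp only [commutatorElement_def]; group]
          exact hZn _ (S.inv_mem (hPS (hEP ha.1))) _ (inv_mem ha.2)⟩ }
    refine ((sup_le ?_ ?_ : Subgroup.zpowers (z : Ω) ⊔ Subgroup.zpowers (c : Ω) ≤ K) he).2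
    · refine Subgroup.zpowers_le.2 ⟨hzE, ?_⟩
      rw [commutatorElement_eq_one_iff_mul_comm.2 (Subgroup.mem_centralizer_iff.1 hzZ.2 x hx).symm]
      exact one_mem _
    · exact Subgroup.zpowers_le.2 ⟨hcE, (map_commutatorElement P.subtype c ⟨x, hx⟩) ▸
        Subgroup.mem_subgroupOf.1 (hcc ⟨x, hx⟩ trivial)⟩
  -- the central part is strongly closed
  have hZsc : F.StronglyClosed Z := by
    by_contra hcon
    obtain ⟨e, heE, heZ, f, hf, hfe⟩ : ∃ e, e ∈ E ∧ e ∉ Z ∧ ∃ f, Map F (Subgroup.zpowers e) f ∧ f e = (z : Ω) := by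
      simp only [stronglyClosed_iff, not_and, not_forall] at hcon
      obtain ⟨R, f, hR, hf, y, hy, hfy⟩ := hcon ((hZE.trans hEP).trans hPS)
      have hy1 : y ≠ 1 := fun h => hfy (by rw [h, hf.map_one]; exact one_mem _)
      have hyz : Subgroup.zpowers y = Subgroup.zpowers (z : Ω) := by
        rw [← hZz]
        refine Subgroup.eq_of_le_of_card_ge (Subgroup.zpowers_le.2 (hR hy)) ?_
        rw [hZcard.1, Nat.card_zpowers, orderOf_eq_prime (hEpow _ (hZE (hR hy))) hy1]
      have hf' := hf.restrict (Subgroup.zpowers_le.2 hy)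
      rw [hyz] at hf'
      have hzR : (z : Ω) ∈ R := Subgroup.zpowers_le.2 hy (hyz ▸ Subgroup.mem_zpowers _)
      refine ⟨f z, stronglyClosed_map hEsc hf' (Subgroup.mem_zpowers _) hzE, fun h => hfy ?_, ?_⟩
      · obtain ⟨i, rfl⟩ := Subgroup.mem_zpowers_iff.1 (hyz ▸ Subgroup.mem_zpowers y : y ∈ Subgroup.zpowers (z : Ω))
        obtain ⟨φ, -, he⟩ := hf'
        rw [show f ((z : Ω) ^ i) = f z ^ i by
          have h1 := he (⟨(z : Ω), Subgroup.mem_zpowers _⟩ ^ i)
          rw [map_zpow, he ⟨(z : Ω), Subgroup.mem_zpowers _⟩] at h1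
          exact h1.symm]
        exact zpow_mem h i
      · obtain ⟨g, hg, hgf, -, hgi⟩ := hf'.exists_inv
        refine ⟨g, hg.restrict ?_, hgf _ (Subgroup.mem_zpowers _)⟩
        exact Subgroup.zpowers_le.2 (mem_im_of_mem (Subgroup.mem_zpowers _))
    -- extend to the elementary subgroup
    have hzSc : ∀ s ∈ S, s * (z : Ω) = z * s := by
      intro s hs
      haveI : Group.IsNilpotent S := hS.isNilpotent
      haveI : (Z.subgroupOf S).Normal := ⟨fun w hw g => hZn g g.2 w hw⟩
      have hZS : Z ≤ S := (hZE.trans hEP).trans hPS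
      obtain ⟨w, hwZ, hw1, hwc⟩ := exists_fixed_mod (N := (⊥ : Subgroup S)) (C := Z.subgroupOf S) (Q := ⊤)
        (by rw [Subgroup.normalizer_eq_top]) (fun h => by
          have := h (x := ⟨z, hZS hzZ⟩) (Subgroup.mem_subgroupOf.2 hzZ)
          rw [Subgroup.mem_bot] at this
          exact hz1' (congrArg Subtype.val this))
      have hw1' : (w : Ω) ≠ 1 := fun h => hw1 (Subgroup.mem_bot.2 (Subtype.ext h))
      have e1 : Subgroup.zpowers (w : Ω) = Z := Subgroup.eq_of_le_of_card_ge (Subgroup.zpowers_le.2 hwZ)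
        (by rw [hZcard.1, Nat.card_zpowers, (orderOf_eq_prime (hEpow (w : Ω) (hZE hwZ)) hw1' : orderOf (w : Ω) = p)])
      obtain ⟨i, hi⟩ := Subgroup.mem_zpowers_iff.1 (e1.ge hzZ)
      rw [← hi]
      exact ((show Commute s (w : Ω) from (congrArg Subtype.val (commutatorElement_eq_one_iff_mul_comm.1
        (Subgroup.mem_bot.1 (hwc ⟨s, hs⟩ trivial)))).symm).zpow_right i).eq
    have hzS : Subgroup.zpowers (z : Ω) ≤ S := Subgroup.zpowers_le.2 (hPS z.2)
    have hfim : im (Subgroup.zpowers e) f = Subgroup.zpowers (z : Ω) := by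
      haveI := finite_of_le hzS
      refine Subgroup.eq_of_le_of_card_ge (im_le_iff.2 fun v hv => ?_) ?_
      · obtain ⟨i, rfl⟩ := Subgroup.mem_zpowers_iff.1 hv
        obtain ⟨φ, -, he⟩ := id hf
        have h1 := he (⟨e, Subgroup.mem_zpowers _⟩ ^ i)
        rw [map_zpow, he ⟨e, Subgroup.mem_zpowers _⟩, hfe] at h1
        exact h1 ▸ zpow_mem (Subgroup.mem_zpowers _) i
      · rw [hf.card_im, Nat.card_zpowers, Nat.card_zpowers, hzo,
          orderOf_eq_prime (hEpow _ heE) fun h => heZ (h ▸ one_mem _)]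
    have hfc : F.IsFullyCentralized (Subgroup.zpowers (z : Ω)) := by
      refine ⟨hzS, fun R hR => ?_⟩
      haveI : Finite ↥(centralizerIn S (Subgroup.zpowers (z : Ω))) := finite_of_le inf_le_left
      have hle : centralizerIn S R ≤ centralizerIn S (Subgroup.zpowers (z : Ω)) := fun s hs =>
        mem_centralizerIn.2 ⟨hs.1, fun v hv => by
          obtain ⟨i, rfl⟩ := Subgroup.mem_zpowers_iff.1 hv
          exact ((show Commute (z : Ω) s from (hzSc s hs.1).symm).zpow_left i).eq⟩
      exact Subgroup.card_le_of_le hle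
    obtain ⟨g, hg, hgf⟩ := (receptive_iff.1 (receptive_of_fc hS hF hfc)).2 _ f hf hfim
    have hEN : E ≤ Nf S (Subgroup.zpowers e) f := le_trans (fun a ha => mem_centralizerIn.2 ⟨hPS (hEP ha),
      fun v hv => by
        obtain ⟨i, rfl⟩ := Subgroup.mem_zpowers_iff.1 hv
        exact ((show Commute e a from hEc e heE a ha).zpow_left i).eq⟩) centralizerIn_le_Nf
    have hgE := hg.restrict hEN
    have hgim : im E g = E := Subgroup.eq_of_le_of_card_ge
      (im_le_iff.2 fun x hx => stronglyClosed_map hEsc hgE hx hx) hgE.card_im.ge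
    obtain ⟨α, hαF, hα⟩ := exists_aut hgE hgim
    haveI := mulAut_finite_of_le (hEP.trans hPS)
    let eE : E := ⟨e, heE⟩
    let zE : E := ⟨z, hzE⟩
    have hαe : α eE = zE := Subtype.ext (by
      rw [← av_coe, hα e heE, hgf e (Subgroup.mem_zpowers e), hfe])
    have hcommE : ∀ a b : E, a * b = b * a := fun a b => Subtype.ext (hEc a a.2 b b.2)
    letI : CommGroup E := { (inferInstance : Group E) with mul_comm := hcommE }
    -- the transvections
    obtain ⟨x, hxP, hxe⟩ : ∃ x ∈ P, e * x ≠ x * e := by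
      by_contra h
      push Not at h
      exact heZ ⟨heE, Subgroup.mem_centralizer_iff.2 fun x hx => (h x hx).symm⟩
    obtain ⟨β, hβ, hβS⟩ := exists_aut_conj (P := E) (g := x) (mem_normalizer_of_conj_mem (hEP.trans hPS) fun y hy =>
      hPn x (hPS hxP) y hy)
    have hβF : β ∈ F.autGroup E := autInducedBy_le_autGroup (hEP.trans hPS) (hβS S (hPS hxP))
    obtain ⟨z', hz'⟩ : ∃ z' : E, β eE = eE * z' := ⟨eE⁻¹ * β eE, by group⟩
    have hz'Z : (z' : Ω) ∈ Z := by
      have h1 : (β eE : Ω) = x * e * x⁻¹ := by rw [← av_coe]; exact hβ e heE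
      have h2 : (z' : Ω) = ⁅e⁻¹, x⁆ := by
        have h3 := congrArg Subtype.val hz'
        rw [Subgroup.coe_mul, h1] at h3
        rw [commutatorElement_def, inv_inv, show (z' : Ω) = e⁻¹ * (x * e * x⁻¹) by rw [h3, show (eE : Ω) = e from rfl]; group]
        group
      rw [h2]
      exact hEZ (Subgroup.commutator_mem_commutator (E.inv_mem heE) hxP)
    have hfixβ : ∀ w : E, (w : Ω) ∈ Z → β w = w := fun w hw => Subtype.ext (by
      rw [← av_coe, hβ (w : Ω) w.2, Subgroup.mem_centralizer_iff.1 hw.2 x hxP, mul_inv_cancel_right])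
    have hz'1 : z' ≠ 1 := fun h => hxe (by
      have h1 : (β eE : Ω) = x * e * x⁻¹ := by rw [← av_coe]; exact hβ e heE
      rw [hz', h, mul_one] at h1
      exact mul_inv_eq_iff_eq_mul.1 h1.symm |>.symm)
    set β' : MulAut E := α⁻¹ * β * α with hβ'def
    have hβ'F : β' ∈ F.autGroup E := Subgroup.mul_mem _ (Subgroup.mul_mem _ (Subgroup.inv_mem _ hαF) hβF) hαF
    have hβ'e : β' eE = eE := by
      rw [hβ'def, MulAut.mul_apply, MulAut.mul_apply, hαe, hfixβ zE hzZ, MulAut.inv_apply, ← hαe,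
        MulEquiv.symm_apply_apply]
    have hgenE : ∀ w : E, ∃ i j : ℤ, w = eE ^ i * z' ^ j := by
      intro w
      have htop : Subgroup.zpowers e ⊔ Subgroup.zpowers (z' : Ω) = E := by
        set T := Subgroup.zpowers e ⊔ Subgroup.zpowers (z' : Ω)
        have hTE : T ≤ E := sup_le (Subgroup.zpowers_le.2 heE) (Subgroup.zpowers_le.2 z'.2)
        refine Subgroup.eq_of_le_of_card_ge hTE ?_
        haveI := finite_of_le ((hTE.trans hEP).trans hPS)
        have h1 := Subgroup.card_dvd_of_le hTE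
        rw [hZcard.2] at h1 ⊢
        obtain ⟨i, hi2, hi⟩ := (Nat.dvd_prime_pow (Fact.out : p.Prime)).1 h1
        rcases (show i ≤ 1 ∨ i = 2 by omega) with h | h
        · exfalso
          refine heZ ?_
          have hle : Z ≤ T := by
            rw [← Subgroup.eq_of_le_of_card_ge (Subgroup.zpowers_le.2 hz'Z)
              (by rw [hZcard.1, Nat.card_zpowers, orderOf_eq_prime (hEpow _ z'.2)
                fun h => hz'1 (Subtype.ext h)])]
            exact le_sup_right
          have heq : Z = T := Subgroup.eq_of_le_of_card_ge hle (by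
            rw [hi, hZcard.1]
            exact (Nat.pow_le_pow_right (Fact.out : p.Prime).pos h).trans (pow_one p).le)
          exact heq ▸ Subgroup.mem_sup_left (Subgroup.mem_zpowers _)
        · rw [hi, h]
      have hw : w ∈ Subgroup.zpowers eE ⊔ Subgroup.zpowers z' := by
        refine (Subgroup.mem_map_iff_mem E.subtype_injective).1 ?_
        rw [Subgroup.map_sup, MonoidHom.map_zpowers, MonoidHom.map_zpowers]
        exact htop.ge w.2
      obtain ⟨a, ha, b, hb, hab⟩ := Subgroup.mem_sup.1 hw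
      obtain ⟨i, rfl⟩ := Subgroup.mem_zpowers_iff.1 ha
      obtain ⟨j, rfl⟩ := Subgroup.mem_zpowers_iff.1 hb
      exact ⟨i, j, hab.symm⟩
    obtain ⟨a, b, hab⟩ := hgenE (β' z')
    have hordE : ∀ w : E, w ^ (p : ℤ) = 1 := fun w => by
      rw [zpow_natCast]; exact Subtype.ext (hEpow w w.2)
    have hβ'z : ∃ d : ℤ, β' z' = z' * eE ^ d ∧ ¬ (p : ℤ) ∣ d := by
      have hcz : (p : ℤ) ∣ b - 1 := by
        by_contra hb
        obtain ⟨r, hr⟩ : ∃ r : ℕ, β ^ (p ^ r) = 1 := by
          obtain ⟨r, hr⟩ := hS ⟨x, hPS hxP⟩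
          refine ⟨r, MulEquiv.ext fun w => ?_⟩
          have key : ∀ n : ℕ, ((β ^ n) w : Ω) = x ^ n * w * (x ^ n)⁻¹ := by
            intro n
            induction n with
            | zero => simp
            | succ n ih =>
              rw [pow_succ' β, MulAut.mul_apply, ← av_coe β, hβ _ ((β ^ n) w).2, ih, pow_succ' x]
              group
          refine Subtype.ext ?_
          rw [key, show x ^ p ^ r = 1 from congrArg Subtype.val hr]
          simp
        have hr' : β' ^ (p ^ r) = 1 := by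
          rw [hβ'def, show α⁻¹ * β * α = α⁻¹ * β * (α⁻¹)⁻¹ by rw [inv_inv], conj_pow, hr, mul_one, mul_inv_cancel]
        have key : ∀ n : ℕ, ∃ i : ℤ, (β' ^ n) z' = eE ^ i * z' ^ (b ^ n) := by
          intro n
          induction n with
          | zero => exact ⟨0, by simp⟩
          | succ n ih =>
            obtain ⟨i, hi⟩ := ih
            refine ⟨i + a * b ^ n, ?_⟩
            rw [pow_succ' β', MulAut.mul_apply, hi, map_mul, map_zpow, map_zpow, hβ'e, hab, mul_zpow, ← zpow_mul,
              ← zpow_mul, pow_succ' b, zpow_add, mul_assoc]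
        obtain ⟨i, hi⟩ := key (p ^ r)
        rw [hr', MulAut.one_apply] at hi
        have hz'i : z' ^ (1 - b ^ p ^ r) = eE ^ i := by
          rw [zpow_sub, zpow_one, mul_inv_eq_iff_eq_mul]; exact hi
        have hdiv : (p : ℤ) ∣ 1 - b ^ p ^ r := by
          by_contra hnd
          have hcop : IsCoprime (p : ℤ) (1 - b ^ p ^ r) := (Nat.prime_iff_prime_int.1 Fact.out).coprime_iff_not_dvd.2 hnd
          obtain ⟨u, v, huv⟩ := hcop
          have hz'e : z' = eE ^ (i * v) := by
            rw [zpow_mul, ← hz'i, ← zpow_mul]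
            calc z' = z' ^ (u * p + v * (1 - b ^ p ^ r)) := by rw [huv, zpow_one]
              _ = _ := by rw [zpow_add, mul_comm u, zpow_mul, hordE, one_zpow, one_mul, mul_comm v]
          have h1 := hβ'e
          have hfz : β z' = z' := hfixβ z' hz'Z
          rw [hz'e, map_zpow, hz', mul_zpow] at hfz
          have h2 : z' ^ (i * v) = 1 := mul_eq_left.1 hfz
          have h3 : z' = 1 ∨ (p : ℤ) ∣ i * v := by
            rcases eq_or_ne z' 1 with h | h
            · exact Or.inl h
            · right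
              rw [← orderOf_dvd_iff_zpow_eq_one] at h2
              rwa [orderOf_eq_prime (Subtype.ext (hEpow z' z'.2)) h] at h2
          rcases h3 with h | h
          · exact hz'1 h
          · obtain ⟨w, hw⟩ := h
            exact hz'1 (by rw [hz'e, hw, zpow_mul, hordE, one_zpow])
        have hb' : ((1 - b ^ p ^ r : ℤ) : ZMod p) = 0 := (ZMod.intCast_zmod_eq_zero_iff_dvd _ _).2 hdiv
        push_cast at hb'
        rw [ZMod.pow_card_pow, sub_eq_zero] at hb'
        refine hb ((ZMod.intCast_zmod_eq_zero_iff_dvd _ _).1 ?_)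
        push_cast
        rw [← hb', sub_self]
      refine ⟨a, ?_, fun hd => ?_⟩
      · rw [hab, mul_comm z']
        congr 1
        obtain ⟨q, hq⟩ := hcz
        rw [show b = 1 + p * q by linarith, zpow_add, zpow_one, zpow_mul, hordE, one_zpow, mul_one]
      · obtain ⟨q, hq⟩ := hd
        obtain ⟨q', hq'⟩ := hcz
        have hfixz' : β' z' = z' := by
          rw [hab, hq, zpow_mul, hordE, one_zpow, one_mul, show b = 1 + p * q' by linarith, zpow_add, zpow_one,
            zpow_mul, hordE, one_zpow, mul_one]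
        have hβ'1 : ∀ w, β' w = w := fun w => by
          obtain ⟨i, j, rfl⟩ := hgenE w
          rw [map_mul, map_zpow, map_zpow, hβ'e, hfixz']
        have hβ1 : β eE = eE := by
          have := hβ'1 (α⁻¹ eE)
          have h0 : α (α⁻¹ eE) = eE := α.apply_symm_apply eE
          rw [hβ'def, MulAut.mul_apply, MulAut.mul_apply, h0] at this
          exact (α⁻¹).injective this
        rw [hz', mul_eq_left] at hβ1
        exact hz'1 hβ1
    obtain ⟨d, hd, hpd⟩ := hβ'z
    -- the element inverting the elementary subgroup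
    obtain ⟨u, v, huv⟩ := (Nat.prime_iff_prime_int.1 (Fact.out : p.Prime)).coprime_iff_not_dvd.2 hpd
    have hβz : β z' = z' := hfixβ z' hz'Z
    have hpowz : ∀ n : ℕ, (β' ^ n) z' = z' * eE ^ (d * n) ∧ (β' ^ n) eE = eE := by
      intro n
      induction n with
      | zero => simp
      | succ n ih =>
        refine ⟨?_, by rw [pow_succ' β', MulAut.mul_apply, ih.2, hβ'e]⟩
        rw [pow_succ' β', MulAut.mul_apply, ih.1, map_mul, map_zpow, hβ'e, hd, mul_assoc, ← zpow_add]
        congr 2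
        push_cast; ring
    obtain ⟨n, hn⟩ : ∃ n : ℕ, (p : ℤ) ∣ d * n + 1 := by
      refine ⟨((-v) % (p : ℤ)).toNat, ?_⟩
      rw [Int.toNat_of_nonneg (Int.emod_nonneg _ (by exact_mod_cast (Fact.out : p.Prime).ne_zero))]
      refine ⟨u - d * ((-v) / (p : ℤ)), ?_⟩
      have h2 : (-v) % (p : ℤ) = -v - p * ((-v) / p) := Int.emod_def _ _
      rw [h2]
      linear_combination -huv
    set γ := β' ^ n with hγdef
    have hγz : γ z' = z' * eE⁻¹ := by
      rw [hγdef, (hpowz n).1]
      obtain ⟨q, hq⟩ := hn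
      rw [show d * n = p * q + (-1) by linarith, zpow_add, zpow_mul, hordE, one_zpow, one_mul, zpow_neg_one]
    have hγe : γ eE = eE := (hpowz n).2
    set w := β * γ * β with hwdef
    have hwe : w eE = z' := by
      simp only [hwdef, MulAut.mul_apply]
      rw [hz', map_mul, hγe, hγz, mul_comm z', mul_inv_cancel_left, hβz]
    have hwz : w z' = eE⁻¹ := by
      simp only [hwdef, MulAut.mul_apply]
      rw [hβz, hγz, map_mul, map_inv, hz', hβz, mul_inv_rev, mul_inv_cancel_left]
    set t := w * w with htdef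
    have hte : t eE = eE⁻¹ := by rw [htdef, MulAut.mul_apply, hwe, hwz]
    have htz : t z' = z'⁻¹ := by rw [htdef, MulAut.mul_apply, hwz, map_inv, hwe]
    have ht : ∀ q : E, t q = q⁻¹ := fun q => by
      obtain ⟨i, j, rfl⟩ := hgenE q
      rw [map_mul, map_zpow, map_zpow, hte, htz, mul_inv, inv_zpow, inv_zpow]
    have htF : t ∈ F.autGroup E := by
      have hw : w ∈ F.autGroup E :=
        Subgroup.mul_mem _ (Subgroup.mul_mem _ hβF (Subgroup.pow_mem _ hβ'F _)) hβF
      exact Subgroup.mul_mem _ hw hw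
    -- extend to `S`
    have hfnE : F.IsFullyNormalized E := ⟨hEP.trans hPS, fun R hR => by rw [eq_of_isConj_stronglyClosed hEsc hR]⟩
    have hmt := map_of_mem_autGroup (hEP.trans hPS) htF
    have havt : ∀ q ∈ E, av t q = q⁻¹ := fun q hq => by rw [av_apply t hq, ht]; rfl
    obtain ⟨G₁, hG₁, hG₁E⟩ := (receptive_iff.1 (receptive_of_fc hS hF (fc_fa_of_fn hS hF hfnE).1)).2 E _ hmt (im_av t)
    have hPN : P ≤ Nf S E (av t) := fun y hy => mem_Nf.2 ⟨hPS hy, mem_normalizer_of_conj_mem (hEP.trans hPS)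
      fun q hq => hPn y (hPS hy) q hq, y, hPS hy, fun q hq => by
        rw [havt _ (hPn y (hPS hy) q hq), havt q hq]; group⟩
    have hG₁P := hG₁.restrict hPN
    have hG₁im : im P G₁ = P := Subgroup.eq_of_le_of_card_ge
      (im_le_iff.2 fun y hy => stronglyClosed_map hP hG₁P hy hy) hG₁P.card_im.ge
    obtain ⟨σ₀, -, hσ₀⟩ := exists_aut hG₁P hG₁im
    haveI := mulAut_finite_of_le hPS
    obtain ⟨j, m, hm2, hjm⟩ := Nat.exists_eq_pow_mul_and_not_dvd (orderOf_pos σ₀).ne' 2 (by norm_num)
    set σ := σ₀ ^ m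
    have hσo : σ ^ 2 ^ j = 1 := by rw [← pow_mul, mul_comm, ← hjm, pow_orderOf_eq_one]
    have hinv : ∀ (i : ℕ) (q : P), (q : Ω) ∈ E → (((σ₀ ^ i) q : P) : Ω) = if Odd i then (q : Ω)⁻¹ else q := by
      intro i
      induction i with
      | zero => intro q hq; simp
      | succ i ih =>
        intro q hq
        rw [pow_succ, MulAut.mul_apply]
        have h1 : ((σ₀ q : P) : Ω) = (q : Ω)⁻¹ := by rw [← av_coe, hσ₀ _ q.2, hG₁E _ hq, havt _ hq]
        rw [ih _ (h1 ▸ E.inv_mem hq), h1]
        by_cases hi : Odd i <;> simp [hi, Nat.odd_add_one]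
    have hσE : ∀ q : P, (q : Ω) ∈ E → ((σ q : P) : Ω) = (q : Ω)⁻¹ := fun q hq => by
      rw [hinv m q hq, if_pos (Nat.odd_iff.2 (by omega))]
    -- the centralizer is preserved and covers the coset
    set M := (Subgroup.centralizer (E : Set Ω)).subgroupOf P
    have hσM : ∀ y ∈ M, σ y ∈ M := fun y hy => Subgroup.mem_subgroupOf.2 (Subgroup.mem_centralizer_iff.2 fun q hq => by
      have h1 := congrArg σ (show (⟨q⁻¹, hEP (E.inv_mem hq)⟩ : P) * y = y * ⟨q⁻¹, hEP (E.inv_mem hq)⟩ from
        Subtype.ext (Subgroup.mem_centralizer_iff.1 (Subgroup.mem_subgroupOf.1 hy) _ (E.inv_mem hq)))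
      rw [map_mul, map_mul] at h1
      have h2 := congrArg Subtype.val h1
      simpa [hσE ⟨q⁻¹, hEP (E.inv_mem hq)⟩ (E.inv_mem hq)] using h2)
    have hcoset : (⟨x, hxP⟩ : P)⁻¹ * σ ⟨x, hxP⟩ ∈ M := by
      refine Subgroup.mem_subgroupOf.2 (Subgroup.mem_centralizer_iff.2 fun q hq => ?_)
      set X : P := ⟨x, hxP⟩
      have hq2 : x * q * x⁻¹ ∈ E := hPn x (hPS hxP) q hq
      have h1 : σ (X * ⟨q⁻¹, hEP (E.inv_mem hq)⟩ * X⁻¹) = σ X * σ ⟨q⁻¹, hEP (E.inv_mem hq)⟩ * (σ X)⁻¹ := by
        rw [map_mul, map_mul, map_inv]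
      have h2 := congrArg Subtype.val h1
      rw [Subgroup.coe_mul, Subgroup.coe_mul, Subgroup.coe_inv,
        hσE ⟨q⁻¹, hEP (E.inv_mem hq)⟩ (E.inv_mem hq),
        hσE (X * ⟨q⁻¹, hEP (E.inv_mem hq)⟩ * X⁻¹) (hPn x (hPS hxP) _ (E.inv_mem hq))] at h2
      simp only [Subgroup.coe_mul, Subgroup.coe_inv, mul_inv_rev, inv_inv] at h2
      rw [show (X : Ω) = x from rfl] at h2
      have h3 : x * q * x⁻¹ = (σ X : Ω) * q * (σ X : Ω)⁻¹ := by rw [← h2]; group
      rw [Subgroup.coe_mul, Subgroup.coe_inv, show (X : Ω) = x from rfl]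
      calc q * (x⁻¹ * (σ X : Ω)) = x⁻¹ * (x * q * x⁻¹) * (σ X : Ω) := by group
        _ = x⁻¹ * ((σ X : Ω) * q * (σ X : Ω)⁻¹) * (σ X : Ω) := by rw [h3]
        _ = _ := by group
    have hM2 : ¬ 2 ∣ Nat.card M := by
      intro hd
      obtain ⟨r, hr⟩ := (hPp.to_subgroup M).exists_card_eq
      rw [hr] at hd
      exact hp ((Nat.prime_dvd_prime_iff_eq Nat.prime_two Fact.out).1 (Nat.prime_two.dvd_of_dvd_pow hd)).symm
    obtain ⟨q, hq, hfix⟩ := exists_fixed_coset_two σ (j := j) (fun g => by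
      have key : ∀ n : ℕ, (σ ^ n) g = (⇑σ)^[n] g := fun n => by
        induction n with
        | zero => rfl
        | succ n ih => rw [pow_succ' σ, MulAut.mul_apply, ih, Function.iterate_succ_apply']
      rw [← key, hσo]; rfl) M hσM hM2 hcoset
    set y : P := ⟨x, hxP⟩ * q
    have hyM : y ∉ M := fun h => hxe (Subgroup.mem_centralizer_iff.1
      (Subgroup.mem_subgroupOf.1 ((mul_mem_cancel_right hq).1 h)) e heE)
    obtain ⟨r, hr⟩ := IsPGroup.iff_orderOf.1 hPp y
    have hr0 : r ≠ 0 := fun h => hyM (by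
      rw [h, pow_zero, orderOf_eq_one_iff] at hr
      rw [hr]; exact one_mem _)
    set q₀ := y ^ p ^ (r - 1)
    have hq₀p : q₀ ^ p = 1 := by
      rw [← pow_mul, ← pow_succ, Nat.sub_add_cancel (Nat.pos_of_ne_zero hr0), ← hr, pow_orderOf_eq_one]
    have hq₀E : (q₀ : Ω) ∈ E := mem_omegaOne_of_pow q₀.2 (congrArg Subtype.val hq₀p)
    have h1 := hσE q₀ hq₀E
    rw [map_pow, hfix] at h1
    have h2 : q₀ ^ 2 = 1 := Subtype.ext (by rw [pow_two, Subgroup.coe_mul]; nth_rewrite 1 [h1]; exact inv_mul_cancel _)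
    have h3 : q₀ = 1 := orderOf_eq_one_iff.1 (Nat.eq_one_of_dvd_coprimes
      ((Nat.coprime_primes (Fact.out : p.Prime) Nat.prime_two).2 hp) (orderOf_dvd_of_pow_eq_one hq₀p)
      (orderOf_dvd_of_pow_eq_one h2))
    have := orderOf_dvd_of_pow_eq_one (show y ^ p ^ (r - 1) = 1 from h3)
    rw [hr, Nat.pow_dvd_pow_iff_le_right (Fact.out : p.Prime).one_lt] at this
    omega
  refine normal_of_omega_chain hS hF hp hP (fun i => if i = 0 then ⊥ else if i = 1 then Z else E) 2 rfl
    (fun x hx hxp => mem_omegaOne_of_pow hx hxp) (monotone_nat_of_le_succ fun i => ?_) (fun i => ?_)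
    (fun i => ?_) fun i => ?_
  · rcases i with _ | _ | i <;> simp [hZE]
  · rcases i with _ | _ | i <;> simp [hZE.trans hEP, hEP]
  · rcases i with _ | _ | i
    · simpa using hbot
    · simpa using hZsc
    · simpa using hEsc
  · refine Subgroup.commutator_le.2 fun w hw y hy => ?_
    rcases i with _ | i
    · have hw' : w ∈ Z := by simpa using hw
      rw [commutatorElement_eq_one_iff_mul_comm.2 (Subgroup.mem_centralizer_iff.1 hw'.2 y hy).symm]
      exact one_mem _
    · have hw' : w ∈ E := by simpa using hw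
      have h1 := hEZ (Subgroup.commutator_mem_commutator hw' hy)
      rcases i with _ | i
      · simpa using h1
      · simpa using hZE h1

end Cfsg.Agent.Local.FS
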