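import Cfsg.Agent.Lib.Local.FS.Sparse
import Cfsg.Agent.Lib.Fusion.ZJControl

/-!
The Glauberman-Thompson criterion for systems.
-/

set_option autoImplicit false

namespace Cfsg.Agent.Local.FS

open Cfsg Cfsg.FusionSystem Cfsg.Agent.Fusion

universe u

theorem wZA_hG {p : ℕ} [Fact p.Prime] (hp : p ≠ 2) (L : Type u) [Group L] [Finite L] (P : Sylow p L)
    (hc : Subgroup.centralizer ((pCore p L : Subgroup L) : Set L) ≤ pCore p L)
    (hN : Subgroup.normalizer ((inducedFunctor wZA (P : Subgroup L) : Subgroup L) : Set L) ≤ P) :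
    (P : Subgroup L) = ⊤ :=
  sylow_eq_top_of_hnpc P hc (hnpc_of_stable_normal hp isCharPFunctor_wZA
    (fun _ _ _ h1 h2 T => centerThompsonAOf_normal hp h1 h2 T) P
    (hnpc_of_pgroup_quotient_pPrimeCore ((P.2.to_le hN).to_quotient _)))

variable {Ω : Type u} [Group Ω] {S : Subgroup Ω} [Finite S] {F : FusionSystem S} {p : ℕ} [Fact p.Prime]

theorem isInner_of_pAt_zj (hp : p ≠ 2) (hS : IsPGroup p S) (hF : F.IsSaturated p)
    (h : PAt F p (centerThompsonAOf S)) : IsInner F :=
  isInner_of_functor (W := wZA) (isCharPFunctor_wZA).1 (isCharPFunctor_wZA).2 (wZA_hG hp) hS hF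
    (by rwa [inducedFunctor_wZA])

end Cfsg.Agent.Local.FS
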