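import Cfsg.Agent.Lib.Local.FS.ThompsonFour
import Cfsg.Agent.Lib.Local.FS.InnerZJ

/-!
Thompson's criterion for a system to be inner.
-/

set_option autoImplicit false

namespace Cfsg.Agent.Local.FS

open Cfsg Cfsg.FusionSystem Cfsg.Agent.Fusion

universe u

variable {Ω : Type u} [Group Ω] {S : Subgroup Ω} [Finite S] {F : FusionSystem S} {p : ℕ} [Fact p.Prime]

omit [Fact p.Prime] in
theorem center_le_centerThompsonAOf {G : Type*} [Group G] [Finite G] (H : Subgroup G) :
    H ⊓ Subgroup.centralizer (H : Set G) ≤ centerThompsonAOf H := by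
  rw [← zFam_comm_eq]
  refine fun x hx => ⟨hx.1, Subgroup.mem_sInf.2 fun A hA => mem_of_maxIn hA hx.1 ?_⟩
  exact isMulCommutative_closure_insert hA.2.1 fun a ha =>
    (Subgroup.mem_centralizer_iff.1 hx.2 a (hA.1 ha)).symm

/-- The abelian Thompson subgroup of a smaller subgroup in an infinite ambient group. -/
theorem thompsonSubgroupAOf_eq_of_le' {H K : Subgroup Ω} [Finite H] (hKH : K ≤ H)
    (h : thompsonSubgroupAOf H ≤ K) : thompsonSubgroupAOf K = thompsonSubgroupAOf H := by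
  have e : ∀ H : Subgroup Ω,
      thompsonSubgroupAOf H = sSup (maxIn (fun A : Subgroup Ω => IsMulCommutative A) H) := fun H => by
    rw [thompsonSubgroupAOf, thompsonSubgroupA, map_sSup_subtype, image_maxAbelian]
  rw [e, e]
  congr 1
  obtain ⟨A₀, hA₀, hmax⟩ := Set.exists_max_image {A : Subgroup Ω | A ≤ H ∧ IsMulCommutative A}
    (fun A => Nat.card A) ((Set.toFinite (Set.range fun B : Subgroup H => B.map H.subtype)).subset
      fun A hA => ⟨A.subgroupOf H, Subgroup.map_subgroupOf_eq_of_le hA.1⟩)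
    ⟨⊥, bot_le, ⟨⟨fun a b => Subsingleton.elim _ _⟩⟩⟩
  have hA₀K : A₀ ≤ K :=
    le_trans (le_sSup (show A₀ ∈ maxIn _ H from ⟨hA₀.1, hA₀.2, fun C hC hC' => hmax C ⟨hC, hC'⟩⟩)) (e H ▸ h)
  ext A
  exact ⟨fun ⟨hAK, hA, hm⟩ => ⟨hAK.trans hKH, hA, fun C hC hC' => (hmax C ⟨hC, hC'⟩).trans (hm A₀ hA₀K hA₀.2)⟩,
    fun hA => ⟨(le_sSup hA).trans (e H ▸ h), hA.2.1, fun C hC hC' => hA.2.2 C (hC.trans hKH) hC'⟩⟩

theorem center_le_centerThompsonAOf' (hS : IsPGroup p S) : S ⊓ Subgroup.centralizer (S : Set Ω) ≤ centerThompsonAOf S := by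
  intro x hx
  have h1 := center_le_centerThompsonAOf (⊤ : Subgroup S) (show (⟨x, hx.1⟩ : S) ∈ _ from
    ⟨trivial, Subgroup.mem_centralizer_iff.2 fun y _ => Subtype.ext (Subgroup.mem_centralizer_iff.1 hx.2 y y.2)⟩)
  have e : (centerThompsonAOf (⊤ : Subgroup S)).map S.subtype = centerThompsonAOf S := by
    rw [← inducedFunctor_wZA, ← inducedFunctor_wZA]
    show ((wZA (⊤ : Subgroup S)).map (⊤ : Subgroup S).subtype).map S.subtype = (wZA S).map S.subtype
    rw [← (isCharPFunctor_wZA (p := p)).2 _ _ ((hS.of_equiv (Subgroup.topEquiv (G := S)).symm)) (Subgroup.topEquiv (G := S))]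
    rfl
  exact e ▸ ⟨_, h1, rfl⟩

/-- The odd case: the hypotheses give the condition at the centre of the Thompson subgroup. -/
theorem pAt_zj_of_thompson (hS : IsPGroup p S) (hF : F.IsSaturated p)
    (h₁ : CAt F p (S ⊓ Subgroup.centralizer (S : Set Ω))) (h₂ : PAt F p (thompsonSubgroupAOf S)) :
    PAt F p (centerThompsonAOf S) := by
  set J := thompsonSubgroupAOf S
  set T := centerThompsonAOf S
  have hJS : J ≤ S := Subgroup.map_subtype_le _
  have hTS : T ≤ S := inf_le_left.trans hJS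
  have hSN : S ≤ normalizerIn S T := by
    have := (le_normalizerIn (le_refl S)).trans (normalizer_le_functor hS (isCharPFunctor_wZA (p := p)).2 le_rfl)
    rwa [inducedFunctor_wZA] at this
  have hSJ : S ≤ normalizerIn S J :=
    (le_normalizerIn (le_refl S)).trans (normalizer_le_functor hS (isCharPFunctor_wJA (p := p)).2 le_rfl)
  have hTn : F.IsFullyNormalized T :=
    ⟨hTS, fun R _ => Subgroup.card_le_of_le (inf_le_left.trans hSN) (K := normalizerIn S T)⟩
  intro A hTA hA α hα hi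
  have hAS : A ≤ S := hA.trans inf_le_left
  have hαm := map_of_mem_autGroup hAS hα
  obtain ⟨γ, hγ, hγα⟩ := exists_aut (hαm.restrict hTA) hi
  obtain ⟨g, hg, hgf⟩ := (receptive_iff.1 (receptive_of_fc hS hF (fc_fa_of_fn hS hF hTn).1)).2 T _
    (map_of_mem_autGroup hTS hγ) (im_av γ)
  set D := centralizerIn S T
  have hgD := hg.restrict (centralizerIn_le_Nf : D ≤ _)
  have hTD : T ≤ D := fun x hx => mem_centralizerIn.2 ⟨hTS hx, fun y hy =>
    Subgroup.mem_centralizer_iff.1 hx.2 y hy.1⟩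
  have hJD : J ≤ D := fun x hx => mem_centralizerIn.2 ⟨hJS hx, fun y hy =>
    (Subgroup.mem_centralizer_iff.1 hy.2 x hx).symm⟩
  have hgT : im T g = T := (im_congr hgf).trans (im_av γ)
  haveI : Finite ↥D := finite_of_le inf_le_left
  obtain ⟨β, hβ, hβg⟩ := exists_aut hgD (Subgroup.eq_of_le_of_card_ge (im_le_iff.2 fun x hx => by
    have h1 := hgD.mem_centralizer hTD hx fun y hy => (mem_centralizerIn.1 hx).2 y hy
    rwa [hgT] at h1) hgD.card_im.ge)
  have hJeq : inducedFunctor wJA D = J := thompsonSubgroupAOf_eq_of_le' inf_le_left hJD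
  have hβJ : im J (av β) = J := by
    have := im_functor hS (isCharPFunctor_wJA (p := p)).2 (map_of_mem_autGroup inf_le_left hβ) (im_av β)
    exact hJeq ▸ this
  obtain ⟨k, hk⟩ := h₂ D hJD (inf_le_left.trans hSJ) β hβ hβJ
  have hγk : γ ^ p ^ k = 1 := pow_eq_one_of_semiconj id (fun x hx => hTD hx) (Set.injOn_id _)
    (fun x hx => ((hgf x hx).symm.trans (hβg x (hTD hx)).symm)) hk
  have hfix : ∀ x ∈ T, av (α ^ p ^ k) x = x := fun x hx => by
    have h1 := semiconj_pow (α := γ) (β := α) id (fun y hy => hTA hy) (fun y hy => hγα y hy) (p ^ k) x hx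
    rw [hγk, av_one hx] at h1
    exact h1.symm
  obtain ⟨l, hl⟩ := h₁ A ((center_le_centerThompsonAOf' hS).trans hTA) hAS (α ^ p ^ k) (pow_mem hα _)
    fun x hx => hfix x (center_le_centerThompsonAOf' hS hx)
  exact ⟨k + l, by rw [pow_add, pow_mul]; exact hl⟩

/-- **Thompson's criterion**. -/
theorem isInner_thompson (hS : IsPGroup p S) (hF : F.IsSaturated p)
    (hp : p ≠ 2 ∨ F.IsSectionFree p (Equiv.Perm (Fin 4)))
    (h₁ : CAt F p (S ⊓ Subgroup.centralizer (S : Set Ω))) (h₂ : PAt F p (thompsonSubgroupAOf S)) :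
    IsInner F := by
  by_cases hp2 : p = 2
  · subst hp2
    refine isInner_of_pair (W₁ := wCen) (W₂ := wJA) (X := Equiv.Perm (Fin 4))
      isCharPFunctor_wCen.1 isCharPFunctor_wCen.2 isCharPFunctor_wJA.1 isCharPFunctor_wJA.2
      (Nat.card S) (thompson_four_hG (Nat.card S)) hS hF le_rfl (hp.resolve_left fun h => h rfl) ?_ h₂
    rwa [inducedFunctor_wCen]
  · exact isInner_of_pAt_zj hp2 hS hF (pAt_zj_of_thompson hS hF h₁ h₂)

omit [Fact p.Prime] in
theorem cAt_center_of_isInner (hS : IsPGroup p S) {C : FusionSystem (centralizerIn S (S ⊓ Subgroup.centralizer (S : Set Ω)))}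
    (hC : F.IsCentralizerSystem (S ⊓ Subgroup.centralizer (S : Set Ω)) C) (h : IsInner C) :
    CAt F p (S ⊓ Subgroup.centralizer (S : Set Ω)) := by
  intro A hZA hA α hα hx
  have hAC : A ≤ centralizerIn S (S ⊓ Subgroup.centralizer (S : Set Ω)) := fun a ha => mem_centralizerIn.2 ⟨hA ha, fun z hz =>
    (Subgroup.mem_centralizer_iff.1 hz.2 a (hA ha)).symm⟩
  have hαm := map_of_mem_autGroup hA hα
  have hmap : Map C A (av α) := by
    obtain ⟨φ, hφ, he⟩ := hαm
    refine ⟨φ, ?_, he⟩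
    rw [hC A]
    exact mem_centralizerHom.2 ⟨hAC, fun a => (he a).symm ▸ hAC (av_mem α a.2), av α,
      by rw [sup_eq_left.2 hZA]; exact map_of_mem_autGroup hA hα, he, hx⟩
  obtain ⟨s, hs, he⟩ := h A _ hmap
  exact exists_pow_of_conj hS hs.1 he

end Cfsg.Agent.Local.FS
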