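import Mathlib

/-!
Automizer and closed subgroups of a semidihedral Sylow two-subgroup of arbitrary order.
-/

set_option autoImplicit false

namespace Cfsg.Agent.Local.FS

variable {G : Type*} [Group G] [Finite G]

/-- A semidihedral Sylow subgroup: inner automizer, and the two fusing conjugations leave no proper closed
subgroup. Here `a` has order `2 ^ (k + 1)` and `b a b = a ^ E` with `E + 1 = 2 ^ k * m`, `m` odd. -/
theorem sd_sylow_props (R : Sylow 2 G) {a b : G} {k m E : ℕ} (hk : 2 ≤ k) (hm : m % 2 = 1)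
    (hE : E + 1 = 2 ^ k * m) (hcard : Nat.card (R : Subgroup G) = 2 ^ (k + 2))
    (ha : a ∈ (R : Subgroup G)) (hb : b ∈ (R : Subgroup G)) (haN : a ^ 2 ^ (k + 1) = 1) (haz : a ^ 2 ^ k ≠ 1)
    (hb2 : b * b = 1) (hba : b * a = a ^ E * b)
    (h1 : ∃ g : G, g * a ^ 2 ^ k * g⁻¹ = b) (h2 : ∃ g : G, g * a ^ 2 ^ (k - 1) * g⁻¹ = a * b) :
    (∀ n ∈ Subgroup.normalizer ((R : Subgroup G) : Set G),
      ∃ s ∈ (R : Subgroup G), ∀ x ∈ (R : Subgroup G), n * x * n⁻¹ = s * x * s⁻¹) ∧
    ∀ T : Subgroup G, T ≤ (R : Subgroup G) → T ≠ ⊥ →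
      (∀ x ∈ T, ∀ g : G, g * x * g⁻¹ ∈ (R : Subgroup G) → g * x * g⁻¹ ∈ T) → (R : Subgroup G) ≤ T := by
  classical
  set N := 2 ^ (k + 1) with hNdef
  have hN2 : N = 2 ^ k * 2 := by rw [hNdef, pow_succ]
  have hk4 : 4 ∣ 2 ^ k := pow_dvd_pow 2 hk
  have hN8 : 8 ≤ N := by
    have := Nat.le_of_dvd (pow_pos two_pos k) hk4
    omega
  have ho : orderOf a = N := orderOf_eq_prime_pow (p := 2) (n := k) haz haN
  have hconj : ∀ i : ℕ, b * a ^ i = a ^ (E * i) * b := by
    intro i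
    induction i with
    | zero => simp
    | succ i ih => rw [pow_succ, ← mul_assoc, ih, mul_assoc, hba, ← mul_assoc, ← pow_add, Nat.mul_succ]
  have hE4 : E % 4 = 3 := by
    obtain ⟨c, hc⟩ := hk4
    rw [hc, mul_assoc] at hE
    omega
  have hbc : b * a ≠ a * b := by
    intro h
    rw [hba] at h
    have h' : a ^ E = a := mul_right_cancel h
    have hd : N ∣ E - 1 := ho ▸ orderOf_dvd_of_pow_eq_one (mul_right_cancel (b := a) (by
      rw [← pow_succ, one_mul, Nat.sub_add_cancel (by omega)]; exact h'))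
    have h4 : 4 ∣ E - 1 := Dvd.dvd.trans (hk4.trans ⟨2, hN2⟩) hd
    omega
  have hnp : ∀ i : ℕ, b ≠ a ^ i := fun i h => hbc (by
    rw [h]; exact ((Commute.refl a).pow_left i).eq)
  have hN1 : ∀ i : ℕ, a ^ (i % N) = a ^ i := fun i => by rw [← ho, pow_mod_orderOf]
  have hmk : ∀ x ∈ (R : Subgroup G), ∃ i : ℕ, i < N ∧ (x = a ^ i ∨ x = b * a ^ i) := by
    let f : Fin N ⊕ Fin N → (R : Subgroup G) := fun v => Sum.elim (fun i : Fin N => ⟨a ^ (i : ℕ), pow_mem ha _⟩)
      (fun i : Fin N => ⟨b * a ^ (i : ℕ), mul_mem hb (pow_mem ha _)⟩) v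
    have hinj0 : ∀ i j : Fin N, a ^ (i : ℕ) = a ^ (j : ℕ) → i = j := fun i j h => Fin.ext
      (pow_injOn_Iio_orderOf (by rw [ho]; exact i.2) (by rw [ho]; exact j.2) h)
    have hmix : ∀ i j : Fin N, a ^ (i : ℕ) ≠ b * a ^ (j : ℕ) := fun i j h =>
      hnp ((i : ℕ) + (N - 1) * (j : ℕ)) (by
        rw [pow_add, h, mul_assoc, ← pow_add, show (j : ℕ) + (N - 1) * (j : ℕ) = N * (j : ℕ) by
          rw [Nat.sub_mul, one_mul, Nat.add_sub_cancel' (Nat.le_mul_of_pos_left _ (by omega))],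
          pow_mul, haN, one_pow, mul_one])
    have hinj : Function.Injective f := by
      rintro (i | i) (j | j) h
      · exact congrArg Sum.inl (hinj0 i j (congrArg Subtype.val h))
      · exact absurd (congrArg Subtype.val h) (hmix i j)
      · exact absurd (congrArg Subtype.val h).symm (hmix j i)
      · exact congrArg Sum.inr (hinj0 i j (mul_left_cancel (congrArg Subtype.val h)))
    have hbij : Function.Bijective f :=
      (Nat.bijective_iff_injective_and_card f).2 ⟨hinj, by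
        rw [hcard, Nat.card_sum, Nat.card_fin, hN2, show k + 2 = k + 1 + 1 from rfl, pow_succ, pow_succ]; ring⟩
    intro x hx
    obtain ⟨v, hv⟩ := hbij.2 ⟨x, hx⟩
    rcases v with i | i
    · exact ⟨i, i.2, Or.inl (congrArg Subtype.val hv).symm⟩
    · exact ⟨i, i.2, Or.inr (congrArg Subtype.val hv).symm⟩
  have hbinv : b⁻¹ = b := inv_eq_of_mul_eq_one_right hb2
  have hsq : ∀ i : ℕ, (b * a ^ i) * (b * a ^ i) = a ^ (2 ^ k * (m * i)) := by
    intro i
    rw [← mul_assoc, hconj, mul_assoc (a ^ (E * i)) b b, hb2, mul_one, ← pow_add]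
    congr 1
    calc E * i + i = (E + 1) * i := by ring
      _ = _ := by rw [hE, mul_assoc]
  refine ⟨?_, ?_⟩
  · intro n hn
    have hmem : ∀ n' ∈ Subgroup.normalizer ((R : Subgroup G) : Set G), ∀ x ∈ (R : Subgroup G),
        n' * x * n'⁻¹ ∈ (R : Subgroup G) := fun n' hn' x hx => (Subgroup.mem_normalizer_iff.1 hn' x).1 hx
    obtain ⟨i, -, hi⟩ := hmk _ (hmem n hn a ha)
    have hai : n * a * n⁻¹ = a ^ i ∧ i % 2 = 1 := by
      rcases hi with hi | hi
      · refine ⟨hi, ?_⟩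
        by_contra hev
        have h4 : (n * a * n⁻¹) ^ 2 ^ k = 1 := by
          rw [hi, ← pow_mul, show i * 2 ^ k = N * (i / 2) by
            rw [hN2, mul_assoc, show 2 * (i / 2) = i by omega, mul_comm], pow_mul, haN, one_pow]
        rw [conj_pow, conj_eq_one_iff] at h4
        exact haz h4
      · exfalso
        obtain ⟨c, hc⟩ := pow_dvd_pow 2 hk
        have h4 : (n * a * n⁻¹) ^ 2 ^ k = 1 := by
          rw [hi, hc, show (2 : ℕ) ^ 2 * c = 2 * (2 * c) by ring, pow_mul, pow_two, hsq, ← pow_mul,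
            show 2 ^ k * (m * i) * (2 * c) = N * (m * i * c) by rw [hN2]; ring, pow_mul, haN, one_pow]
        rw [conj_pow, conj_eq_one_iff] at h4
        exact haz h4
    have hiter : ∀ r : ℕ, n ^ r * a * (n ^ r)⁻¹ = a ^ i ^ r := by
      intro r
      induction r with
      | zero => simp
      | succ r ih =>
        calc n ^ (r + 1) * a * (n ^ (r + 1))⁻¹ = n * (n ^ r * a * (n ^ r)⁻¹) * n⁻¹ := by
              rw [pow_succ']; group
          _ = a ^ i ^ (r + 1) := by rw [ih, ← conj_pow, hai.1, ← pow_mul, pow_succ']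
    set n' := n ^ N with hn'def
    have hn'a : n' * a * n'⁻¹ = a := by
      rw [hn'def, hiter]
      have hco : Nat.Coprime i N := by
        rw [hNdef]
        exact (Nat.coprime_two_right.2 (Nat.odd_iff.2 hai.2)).pow_right (k + 1)
      have htot : Nat.totient N = 2 ^ k := by rw [hNdef, Nat.totient_prime_pow_succ Nat.prime_two]; simp
      have hmod : i ^ N % N = 1 := by
        have h := Nat.ModEq.pow 2 (Nat.ModEq.pow_totient hco)
        rw [one_pow, ← pow_mul, htot, ← hN2] at h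
        rw [h, Nat.mod_eq_of_lt (by omega)]
      rw [← hN1, hmod, pow_one]
    have hn'N : n' ∈ Subgroup.normalizer ((R : Subgroup G) : Set G) := pow_mem hn N
    obtain ⟨j, -, hj⟩ := hmk _ (hmem n' hn'N b hb)
    have hjb : n' * b * n'⁻¹ = b * a ^ j := by
      refine hj.resolve_left fun hj => hnp j ?_
      have e : n' * a ^ j * n'⁻¹ = a ^ j := by rw [← conj_pow, hn'a]
      exact mul_left_cancel (mul_right_cancel (hj.trans e.symm))
    have hiter' : ∀ r : ℕ, n' ^ r * a * (n' ^ r)⁻¹ = a ∧ n' ^ r * b * (n' ^ r)⁻¹ = b * a ^ (j * r) := by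
      intro r
      induction r with
      | zero => simp
      | succ r ih =>
        obtain ⟨iha, ihb⟩ := ih
        refine ⟨?_, ?_⟩
        · calc n' ^ (r + 1) * a * (n' ^ (r + 1))⁻¹ = n' ^ r * (n' * a * n'⁻¹) * (n' ^ r)⁻¹ := by
                rw [pow_succ]; group
            _ = a := by rw [hn'a, iha]
        · calc n' ^ (r + 1) * b * (n' ^ (r + 1))⁻¹ = n' ^ r * (n' * b * n'⁻¹) * (n' ^ r)⁻¹ := by
                rw [pow_succ]; group
            _ = (n' ^ r * b * (n' ^ r)⁻¹) * (n' ^ r * a * (n' ^ r)⁻¹) ^ j := by rw [hjb, conj_pow]; group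
            _ = b * a ^ (j * (r + 1)) := by rw [iha, ihb, mul_assoc, ← pow_add, Nat.mul_succ]
    obtain ⟨c, hc, hcR⟩ : ∃ c : G, c = n' ^ N ∧ ∀ x ∈ (R : Subgroup G), c * x * c⁻¹ = x := by
      refine ⟨_, rfl, fun x hx => ?_⟩
      obtain ⟨ha', hb'⟩ := hiter' N
      rw [show j * N = N * j by ring, pow_mul a, haN, one_pow, mul_one] at hb'
      obtain ⟨r, -, rfl | rfl⟩ := hmk x hx
      · rw [← conj_pow, ha']
      · rw [← conj_mul, ← conj_pow, ha', hb']
    obtain ⟨e, o, ho2, heo⟩ := Nat.exists_eq_pow_mul_and_not_dvd (orderOf_pos n).ne' 2 (by norm_num)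
    have hno : n ^ o ∈ (R : Subgroup G) := by
      have hp2 : IsPGroup 2 (Subgroup.zpowers (n ^ o)) := by
        refine IsPGroup.iff_card.mpr ?_
        rw [Nat.card_zpowers]
        obtain ⟨t, -, ht⟩ := (Nat.dvd_prime_pow Nat.prime_two).1 (orderOf_dvd_of_pow_eq_one
          (show (n ^ o) ^ 2 ^ e = 1 by rw [← pow_mul, mul_comm, ← heo, pow_orderOf_eq_one]))
        exact ⟨t, ht⟩
      have := hp2.inf_normalizer_sylow R
      exact ((SetLike.ext_iff.mp this (n ^ o)).mp
        (Subgroup.mem_inf.mpr ⟨Subgroup.mem_zpowers _, pow_mem hn o⟩)).2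
    have hco : Nat.Coprime (N * N) o := by
      rw [hNdef, ← pow_add]
      exact (Nat.prime_two.coprime_iff_not_dvd.2 ho2).pow_left _
    obtain ⟨u, v, huv⟩ : IsCoprime ((N * N : ℕ) : ℤ) (o : ℤ) := hco.isCoprime
    refine ⟨(n ^ o) ^ v, zpow_mem hno v, fun x hx => ?_⟩
    have hn0 : n = (n ^ o) ^ v * c ^ u := by
      rw [hc, hn'def, ← pow_mul, ← zpow_natCast n, ← zpow_natCast n (N * N), ← zpow_mul, ← zpow_mul, ← zpow_add]
      nth_rewrite 1 [← zpow_one n]
      congr 1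
      linarith
    have hcz : c ^ u * x * (c ^ u)⁻¹ = x := by
      have hcomm : Commute c x := mul_inv_eq_iff_eq_mul.1 (hcR x hx)
      rw [(hcomm.zpow_left u).eq, mul_inv_cancel_right]
    conv_lhs => rw [hn0]
    calc (n ^ o) ^ v * c ^ u * x * ((n ^ o) ^ v * c ^ u)⁻¹
        = (n ^ o) ^ v * (c ^ u * x * (c ^ u)⁻¹) * ((n ^ o) ^ v)⁻¹ := by group
      _ = _ := by rw [hcz]
  · intro T hTR hT1 hcl
    haveI : Nontrivial T := (Subgroup.nontrivial_iff_ne_bot T).2 hT1
    obtain ⟨r, hr⟩ := IsPGroup.iff_card.1 ((R.2).to_le hTR)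
    have hdvd : 2 ∣ Nat.card T := by
      have h1 : 1 < Nat.card T := Finite.one_lt_card
      rcases Nat.eq_zero_or_pos r with rfl | h
      · simp [hr] at h1
      · exact hr ▸ dvd_pow_self 2 h.ne'
    haveI : Fact (Nat.Prime 2) := ⟨Nat.prime_two⟩
    obtain ⟨t, ht⟩ := exists_prime_orderOf_dvd_card' 2 hdvd
    have htt : (t : G) * t = 1 := by
      have := pow_orderOf_eq_one (t : G)
      rwa [Subgroup.orderOf_coe, ht, pow_two] at this
    have ht1 : (t : G) ≠ 1 := fun h => by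
      rw [← Subgroup.orderOf_coe, h, orderOf_one] at ht
      exact absurd ht (by norm_num)
    have hclosed : ∀ x ∈ T, ∀ g : G, g * x * g⁻¹ ∈ (R : Subgroup G) → g * x * g⁻¹ ∈ T := hcl
    have haconj : ∀ x ∈ T, a * x * a⁻¹ ∈ T := fun x hx =>
      hclosed x hx a (mul_mem (mul_mem ha (hTR hx)) (inv_mem ha))
    -- from an element outside the cyclic part, the squares
    have hshift : ∀ i : ℕ, b * a ^ i ∈ T → a ^ 2 ∈ T := by
      intro i hi
      have h1 := mul_mem (inv_mem hi) (haconj _ hi)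
      have e : (b * a ^ i)⁻¹ * (a * (b * a ^ i) * a⁻¹) = (a ^ i)⁻¹ * (b * a * b) * a ^ i * a⁻¹ := by
        rw [mul_inv_rev, hbinv]; group
      have e2 : b * a * b = a ^ E := by rw [hba, mul_assoc, hb2, mul_one]
      rw [e, e2, ← (((Commute.refl a).pow_left i).pow_right E).inv_left.eq.symm] at h1
      have h2 : a ^ (E - 1) ∈ T := by
        have e3 : a ^ E * (a ^ i)⁻¹ * a ^ i * a⁻¹ = a ^ (E - 1) := by
          rw [inv_mul_cancel_right, ← pow_sub_one_mul (show E ≠ 0 by omega) a, mul_inv_cancel_right]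
        rwa [e3] at h1
      obtain ⟨h, hh⟩ : ∃ h, E - 1 = 2 * h ∧ h % 2 = 1 := ⟨(E - 1) / 2, by omega⟩
      have hcoh : Nat.Coprime h N := by
        rw [hNdef]; exact (Nat.coprime_two_right.2 (Nat.odd_iff.2 hh.2)).pow_right _
      obtain ⟨u, v, huv⟩ : IsCoprime (h : ℤ) (N : ℤ) := hcoh.isCoprime
      have e4 : a ^ 2 = (a ^ (E - 1)) ^ u := by
        rw [hh.1, pow_mul, ← zpow_natCast (a ^ 2) h, ← zpow_mul]
        conv_lhs => rw [← zpow_one (a ^ 2), ← huv, zpow_add, mul_comm v, zpow_mul (a ^ 2) (N : ℤ), zpow_natCast,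
          ← pow_mul, mul_comm 2 N, pow_mul, haN, one_pow, one_zpow, mul_one, mul_comm u]
      rw [e4]
      exact zpow_mem h2 u
    have hz : a ^ 2 ^ k ∈ T := by
      obtain ⟨i, hi, hti | hti⟩ := hmk (t : G) (hTR t.2)
      · rw [hti, ← pow_add] at htt
        have hd := ho ▸ orderOf_dvd_of_pow_eq_one htt
        rw [hN2, ← two_mul, mul_comm (2 ^ k)] at hd
        have hd' := Nat.dvd_of_mul_dvd_mul_left two_pos hd
        have h4 : i = 2 ^ k := by
          obtain ⟨c, hc⟩ := hd'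
          have hc0 : c ≠ 0 := fun h => ht1 (by rw [hti, hc, h, mul_zero, pow_zero])
          rw [hc, hN2] at hi
          have hc2 : c < 2 := Nat.lt_of_mul_lt_mul_left hi
          rw [hc, show c = 1 by omega, mul_one]
        rw [← h4, ← hti]; exact t.2
      · rw [show 2 ^ k = 2 * 2 ^ (k - 1) by rw [← pow_succ', Nat.sub_add_cancel (by omega)], pow_mul]
        exact pow_mem (hshift i (hti ▸ t.2)) _
    obtain ⟨g1, hg1⟩ := h1
    have hbT : b ∈ T := hg1 ▸ hclosed _ hz g1 (hg1 ▸ hb)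
    have ha2T : a ^ 2 ∈ T := hshift 0 (by rwa [pow_zero, mul_one])
    have hhalf : a ^ 2 ^ (k - 1) ∈ T := by
      rw [show k - 1 = k - 2 + 1 by omega, pow_succ', pow_mul]
      exact pow_mem ha2T _
    obtain ⟨g2, hg2⟩ := h2
    have habT : a * b ∈ T := hg2 ▸ hclosed _ hhalf g2 (hg2 ▸ mul_mem ha hb)
    have haT : a ∈ T := by
      have := mul_mem habT hbT
      rwa [mul_assoc, hb2, mul_one] at this
    intro x hx
    obtain ⟨i, -, rfl | rfl⟩ := hmk x hx
    · exact pow_mem haT i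
    · exact mul_mem hbT (pow_mem haT i)

end Cfsg.Agent.Local.FS
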