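import Cfsg.Agent.Lib.Local.FS.SimpleNormalCentric

/-!
Automizer and closed subgroups of the wreathed Sylow two-subgroup of a group of `3 × 3` matrices of
determinant one containing the diagonal two-torus.
-/

set_option autoImplicit false

namespace Cfsg.Agent.Local.FS.Wreathed

open Matrix

variable {F : Type*} [Field F]

local notation "M3" => Matrix (Fin 3) (Fin 3) F

/-- `diag(x, y, (xy)⁻¹)` -/
def tD (x y : Fˣ) : M3 := !![(x : F), 0, 0; 0, (y : F), 0; 0, 0, (((x * y)⁻¹ : Fˣ) : F)]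

/-- the swap -/
def sW : M3 := !![0, 1, 0; 1, 0, 0; 0, 0, -1]

/-- the signed swap of the last two axes -/
def pW : M3 := !![-1, 0, 0; 0, 0, 1; 0, 1, 0]

theorem tD_mul (x y x' y' : Fˣ) : tD x y * tD x' y' = tD (x * x') (y * y') := by
  unfold tD
  rw [show ((x * x' * (y * y'))⁻¹ : Fˣ) = (x * y)⁻¹ * (x' * y')⁻¹ by rw [← mul_inv, mul_mul_mul_comm]]
  ext i j; fin_cases i <;> fin_cases j <;> simp [Matrix.mul_apply, Fin.sum_univ_three]

theorem tD_one : tD (1 : Fˣ) 1 = 1 := by
  ext i j; fin_cases i <;> fin_cases j <;> simp [tD]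

theorem sW_sq : (sW : M3) * sW = 1 := by
  ext i j; fin_cases i <;> fin_cases j <;> simp [sW, Matrix.mul_apply, Fin.sum_univ_three]

theorem pW_sq : (pW : M3) * pW = 1 := by
  ext i j; fin_cases i <;> fin_cases j <;> simp [pW, Matrix.mul_apply, Fin.sum_univ_three]

theorem sW_tD (x y : Fˣ) : sW * tD x y = tD y x * sW := by
  unfold sW tD
  rw [mul_comm y x]
  ext i j; fin_cases i <;> fin_cases j <;> simp [Matrix.mul_apply, Fin.sum_univ_three]

theorem pW_tD (x : Fˣ) : pW * tD x x⁻¹ = tD x 1 * pW := by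
  unfold pW tD
  rw [mul_inv_cancel, inv_one, mul_one]
  ext i j; fin_cases i <;> fin_cases j <;> simp [Matrix.mul_apply, Fin.sum_univ_three]

theorem tD_inj {x y x' y' : Fˣ} (h : tD x y = tD x' y') : x = x' ∧ y = y' := by
  refine ⟨Units.ext ?_, Units.ext ?_⟩
  · simpa [tD] using congrFun (congrFun h 0) 0
  · simpa [tD] using congrFun (congrFun h 1) 1

theorem tD_ne_sW (x y x' y' : Fˣ) : tD x y ≠ sW * tD x' y' := fun h => by
  have := congrFun (congrFun h 0) 0
  simp [tD, sW, Matrix.mul_apply, Fin.sum_univ_three] at this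

variable {H : Type*} [Group H] [Finite H] (ι : H →* Matrix (Fin 3) (Fin 3) F)

/-- The wreathed criterion. `a` generates the two-part of the relevant scalar group, of order `2 ^ m`, `m ≥ 2`. -/
theorem wreathed_sylow_props (hι : Function.Injective ι) {a : Fˣ} {m o : ℕ} (hm : 2 ≤ m)
    (ha : orderOf a = 2 ^ m) (ho : o % 2 = 1) (hcard : Nat.card H = 2 ^ (2 * m + 1) * o)
    (hD : ∀ x ∈ Subgroup.zpowers a, ∀ y ∈ Subgroup.zpowers a, ∃ h : H, ι h = tD x y)
    (hs : ∃ h : H, ι h = sW) (hp : ∃ h : H, ι h = pW)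
    (hw : ∃ w : H, ι w * tD (-1 : Fˣ) (-1) = sW * ι w) :
    ∃ R : Sylow 2 H, (R : Subgroup H) ≠ ⊥ ∧
      (∀ n ∈ Subgroup.normalizer ((R : Subgroup H) : Set H),
        ∃ s ∈ (R : Subgroup H), ∀ x ∈ (R : Subgroup H), n * x * n⁻¹ = s * x * s⁻¹) ∧
      ∀ T : Subgroup H, T ≤ (R : Subgroup H) → T ≠ ⊥ →
        (∀ x ∈ T, ∀ g : H, g * x * g⁻¹ ∈ (R : Subgroup H) → g * x * g⁻¹ ∈ T) → (R : Subgroup H) ≤ T := by
  classical
  haveI : Fact (Nat.Prime 2) := ⟨Nat.prime_two⟩
  obtain ⟨s, hsι⟩ := hs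
  obtain ⟨P, hPι⟩ := hp
  obtain ⟨W, hW⟩ := hw
  set μ := Subgroup.zpowers a with hμ
  haveI : Finite μ := isOfFinOrder_iff_pow_eq_one.2 ⟨2 ^ m, pow_pos two_pos m, ha ▸ pow_orderOf_eq_one a⟩ |>.finite_zpowers.to_subtype
  have hμc : Nat.card μ = 2 ^ m := (Nat.card_zpowers a).trans ha
  have haμ : a ∈ μ := Subgroup.mem_zpowers a
  choose d hd using fun v : μ × μ => hD v.1.1 v.1.2 v.2.1 v.2.2
  have hdmul : ∀ v w, d (v * w) = d v * d w := fun v w => hι (by
    rw [map_mul, hd, hd, hd, tD_mul]; rfl)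
  have hd1 : d 1 = 1 := hι (by rw [hd, map_one]; exact tD_one)
  have hsd : ∀ v : μ × μ, s * d v = d (v.2, v.1) * s := fun v => hι (by
    rw [map_mul, map_mul, hd, hd, hsι, sW_tD])
  have hs2 : s * s = 1 := hι (by rw [map_mul, hsι, sW_sq, map_one])
  let f : Bool × μ × μ → H := fun v => (if v.1 then s else 1) * d v.2
  have hfmul : ∀ v w, ∃ u, f u = f v * f w := by
    rintro ⟨c, v⟩ ⟨c', w⟩
    cases c' with
    | false => exact ⟨(c, v * w), by simp [f, hdmul, mul_assoc]⟩
    | true =>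
      refine ⟨(!c, (v.2, v.1) * w), ?_⟩
      have hsw : d v * s = s * d (v.2, v.1) := by rw [hsd]
      cases c with
      | false => simp only [f, Bool.not_false, if_true, Bool.false_eq_true, if_false, one_mul]; rw [hdmul, ← mul_assoc, ← mul_assoc, hsw]
      | true =>
        simp only [f, Bool.not_true, if_true, Bool.false_eq_true, if_false, one_mul]
        rw [hdmul, ← mul_assoc (s * d v), mul_assoc s (d v) s, hsw, ← mul_assoc s s, hs2, one_mul]
  have hfinv : ∀ v, ∃ u, f u = (f v)⁻¹ := by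
    intro v
    have hpow : ∀ k : ℕ, ∃ u, f u = f v ^ k := by
      intro k
      induction k with
      | zero => exact ⟨(false, 1), by simp [f, hd1]⟩
      | succ k ih =>
        obtain ⟨u, hu⟩ := ih
        rw [pow_succ, ← hu]
        exact hfmul _ _
    rw [inv_eq_of_mul_eq_one_right (show f v * f v ^ (orderOf (f v) - 1) = 1 by
      rw [← pow_succ', Nat.sub_add_cancel (orderOf_pos (f v)), pow_orderOf_eq_one])]
    exact hpow _
  let R₀ : Subgroup H :=
    { carrier := Set.range f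
      one_mem' := ⟨(false, 1), by simp [f, hd1]⟩
      mul_mem' := by rintro _ _ ⟨v, rfl⟩ ⟨w, rfl⟩; exact hfmul v w
      inv_mem' := by rintro _ ⟨v, rfl⟩; exact hfinv v }
  have hιf : ∀ v, ι (f v) = (if v.1 then sW else 1) * tD (v.2.1 : Fˣ) (v.2.2 : Fˣ) := by
    rintro ⟨c, v⟩
    cases c <;> simp [f, hd, hsι]
  have hfinj : Function.Injective f := by
    rintro ⟨c, v, v'⟩ ⟨c', w, w'⟩ h
    have h' := (hιf _).symm.trans ((congrArg ι h).trans (hιf _))
    cases c <;> cases c' <;> simp only [if_true, Bool.false_eq_true, if_false, one_mul] at h'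
    · obtain ⟨e1, e2⟩ := tD_inj h'; rw [Subtype.ext e1, Subtype.ext e2]
    · exact absurd h' (tD_ne_sW _ _ _ _)
    · exact absurd h'.symm (tD_ne_sW _ _ _ _)
    · have h'' := congrArg (sW * ·) h'
      simp only [← Matrix.mul_assoc, sW_sq, Matrix.one_mul] at h''
      obtain ⟨e1, e2⟩ := tD_inj h''; rw [Subtype.ext e1, Subtype.ext e2]
  have hR0c : Nat.card R₀ = 2 ^ (2 * m + 1) := by
    show Nat.card (Set.range f) = _
    rw [← Nat.card_congr (Equiv.ofInjective f hfinj), Nat.card_prod, Nat.card_prod, hμc,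
      show Nat.card Bool = 2 by simp, pow_succ, two_mul m, pow_add]
    ring
  have hidx : ¬ 2 ∣ R₀.index := by
    have := R₀.card_mul_index
    rw [hR0c, hcard] at this
    rw [Nat.eq_of_mul_eq_mul_left (pow_pos two_pos _) this]
    omega
  set R : Sylow 2 H := (IsPGroup.of_card hR0c).toSylow hidx with hRdef
  have hRmem : ∀ x, x ∈ (R : Subgroup H) ↔ ∃ v, f v = x := fun x => by
    rw [hRdef, IsPGroup.toSylow_coe]; rfl
  have hDmem : ∀ v : μ × μ, d v ∈ (R : Subgroup H) := fun v => (hRmem _).2 ⟨(false, v), by simp [f]⟩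
  have hsmem : s ∈ (R : Subgroup H) := (hRmem _).2 ⟨(true, 1), by simp [f, hd1]⟩
  have ha4 : a ^ 2 ≠ 1 := fun h => by
    have h1 := Nat.le_of_dvd two_pos (ha ▸ orderOf_dvd_of_pow_eq_one h)
    have h2 : 4 ≤ 2 ^ m := Nat.pow_le_pow_right two_pos hm
    omega
  have hane : a ≠ 1 := fun h => ha4 (by rw [h, one_pow])
  have hneg : (a ^ 2 ^ (m - 1) : Fˣ) = -1 := by
    have h2 : (a ^ 2 ^ (m - 1)) ^ 2 = 1 := by
      rw [← pow_mul, ← pow_succ, Nat.sub_add_cancel (by omega), ← ha, pow_orderOf_eq_one]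
    have h1 : a ^ 2 ^ (m - 1) ≠ 1 := fun h => by
      have := Nat.le_of_dvd (pow_pos two_pos _) (ha ▸ orderOf_dvd_of_pow_eq_one h)
      have h3 : 2 ^ (m - 1) < 2 ^ m := Nat.pow_lt_pow_right (by norm_num) (by omega)
      omega
    have h3 : ((a ^ 2 ^ (m - 1) : Fˣ) : F) * ((a ^ 2 ^ (m - 1) : Fˣ) : F) = 1 := by
      rw [← Units.val_mul, ← pow_two, h2, Units.val_one]
    rcases mul_self_eq_one_iff.1 h3 with h | h
    · exact absurd (Units.ext h) h1
    · exact Units.ext (by rw [h]; simp)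
  have hnegμ : (-1 : Fˣ) ∈ μ := hneg ▸ pow_mem haμ _
  -- central elements of `R`
  let A1 : μ × μ := (⟨a, haμ⟩, 1)
  have hcentral : ∀ x ∈ (R : Subgroup H), (∀ y ∈ (R : Subgroup H), y * x = x * y) → ∃ u : μ, x = d (u, u) := by
    intro x hx hxc
    obtain ⟨⟨c, v, v'⟩, rfl⟩ := (hRmem x).1 hx
    cases c with
    | false =>
      have h := hxc s hsmem
      simp only [f, Bool.false_eq_true, if_false, one_mul] at h ⊢
      rw [hsd] at h
      have h' := congrArg ι (mul_right_cancel h)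
      rw [hd, hd] at h'
      obtain ⟨e1, -⟩ := tD_inj h'
      exact ⟨v, by rw [show v' = v from Subtype.ext e1]⟩
    | true =>
      exfalso
      have h := hxc _ (hDmem A1)
      simp only [f, if_true] at h
      rw [← mul_assoc, show d A1 * s = s * d (A1.2, A1.1) by rw [hsd], mul_assoc, mul_assoc, ← hdmul, ← hdmul] at h
      have h' := congrArg ι (mul_left_cancel h)
      rw [hd, hd] at h'
      obtain ⟨e1, -⟩ := tD_inj h'
      simp only [A1, Prod.fst_mul, Subgroup.coe_mul, Subgroup.coe_one, one_mul] at e1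
      exact hane (mul_left_cancel (a := (v : Fˣ)) (by rw [mul_one]; exact e1.symm))
  refine ⟨R, ?_, ?_, ?_⟩
  · intro h
    rw [h, Subgroup.mem_bot] at hsmem
    have := congrFun (congrFun (hsι.symm.trans ((congrArg ι hsmem).trans (map_one ι))) 0) 0
    simp [sW] at this
  · intro n hn
    have hmem : ∀ x ∈ (R : Subgroup H), n * x * n⁻¹ ∈ (R : Subgroup H) := fun x hx => (Subgroup.mem_normalizer_iff.1 hn x).1 hx
    have hcent' : ∀ x ∈ (R : Subgroup H), (∀ y ∈ (R : Subgroup H), y * x = x * y) →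
        ∀ y ∈ (R : Subgroup H), y * (n * x * n⁻¹) = n * x * n⁻¹ * y := by
      intro x _ hxc y hy
      have hy' : n⁻¹ * y * n ∈ (R : Subgroup H) := (Subgroup.mem_normalizer_iff''.1 hn y).1 hy
      calc y * (n * x * n⁻¹) = n * ((n⁻¹ * y * n) * x) * n⁻¹ := by group
        _ = n * (x * (n⁻¹ * y * n)) * n⁻¹ := by rw [hxc _ hy']
        _ = _ := by group
    -- `z` is fixed, and the torus is sent to itself
    let Z : μ × μ := (⟨-1, hnegμ⟩, ⟨-1, hnegμ⟩)
    have hZc : ∀ y ∈ (R : Subgroup H), y * d Z = d Z * y := by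
      intro y hy
      obtain ⟨⟨c, v⟩, rfl⟩ := (hRmem y).1 hy
      have h1 : Commute (d v) (d Z) := by show d v * d Z = d Z * d v; rw [← hdmul, ← hdmul, mul_comm]
      cases c with
      | false => simpa [f] using h1.eq
      | true =>
        have h2 : Commute s (d Z) := hsd Z
        simpa [f] using (h2.mul_left h1).eq
    have hnz : n * d Z * n⁻¹ = d Z := by
      obtain ⟨u, hu⟩ := hcentral _ (hmem _ (hDmem Z)) (hcent' _ (hDmem Z) hZc)
      have h1 : d Z * d Z = 1 := by
        rw [← hdmul, ← hd1]; congr 1; exact Prod.ext (Subtype.ext (by simp [Z])) (Subtype.ext (by simp [Z]))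
      have hu2 : d (u, u) * d (u, u) = 1 := by
        rw [← hu]
        calc n * d Z * n⁻¹ * (n * d Z * n⁻¹) = n * (d Z * d Z) * n⁻¹ := by group
          _ = 1 := by rw [h1]; group
      have hu1 : u ≠ 1 := fun h => by
        rw [h] at hu
        have hZ1 : d Z = 1 := conj_eq_one_iff.1 (hu.trans hd1)
        have h' := congrArg ι hZ1
        rw [hd, map_one, ← tD_one] at h'
        exact ha4 (by
          have e : (-1 : Fˣ) = 1 := (tD_inj h').1
          exfalso
          have : a ^ 2 ^ (m - 1) = 1 := hneg.trans e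
          have := Nat.le_of_dvd (pow_pos two_pos _) (ha ▸ orderOf_dvd_of_pow_eq_one this)
          have h3 : 2 ^ (m - 1) < 2 ^ m := Nat.pow_lt_pow_right (by norm_num) (by omega)
          omega)
      have h2 := congrArg ι hu2
      rw [← hdmul, hd, map_one, ← tD_one] at h2
      have hu' : ((u : Fˣ) : F) * ((u : Fˣ) : F) = 1 := by
        have := congrArg Units.val (tD_inj h2).1
        simpa using this
      have : (u : Fˣ) = -1 := by
        rcases mul_self_eq_one_iff.1 hu' with h | h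
        · exact absurd (Subtype.ext (Units.ext h)) hu1
        · exact Units.ext (by rw [h]; simp)
      rw [hu]; congr 1; exact Prod.ext (Subtype.ext this) (Subtype.ext this)
    obtain ⟨⟨c, v⟩, hv⟩ := (hRmem _).1 (hmem _ (hDmem A1))
    have hc : c = false := by
      cases c with
      | false => rfl
      | true =>
        exfalso
        have hsq : n * d (A1 * A1) * n⁻¹ = d ((v.2, v.1) * v) := by
          rw [hdmul A1, ← conj_mul, ← hv]
          simp only [f, if_true]
          rw [← mul_assoc, mul_assoc s (d v) s, show d v * s = s * d (v.2, v.1) by rw [hsd], ← mul_assoc s s, hs2, one_mul, ← hdmul]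
        have hcen : ∀ y ∈ (R : Subgroup H), y * (n * d (A1 * A1) * n⁻¹) = n * d (A1 * A1) * n⁻¹ * y := by
          intro y hy
          rw [hsq]
          obtain ⟨⟨c', v'⟩, rfl⟩ := (hRmem y).1 hy
          have h1 : Commute (d v') (d ((v.2, v.1) * v)) := by
            show d v' * d _ = d _ * d v'
            rw [← hdmul, ← hdmul, mul_comm]
          cases c' with
          | false => simpa [f] using h1.eq
          | true =>
            have h2 : Commute s (d ((v.2, v.1) * v)) := by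
              show s * _ = _ * s
              rw [hsd]
              congr 2
              exact Prod.ext (mul_comm _ _) (mul_comm _ _)
            simpa [f] using (h2.mul_left h1).eq
        have hcen' : ∀ y ∈ (R : Subgroup H), y * d (A1 * A1) = d (A1 * A1) * y := by
          intro y hy
          have h := hcen _ (hmem y hy)
          calc y * d (A1 * A1) = n⁻¹ * (n * y * n⁻¹ * (n * d (A1 * A1) * n⁻¹)) * n := by group
            _ = n⁻¹ * (n * d (A1 * A1) * n⁻¹ * (n * y * n⁻¹)) * n := by rw [h]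
            _ = _ := by group
        obtain ⟨u, hu⟩ := hcentral _ (hDmem _) hcen'
        have h' := congrArg ι hu
        rw [hd, hd] at h'
        obtain ⟨e1, e2⟩ := tD_inj h'
        rw [← e2] at e1
        exact ha4 (by simpa [A1, pow_two] using e1)
    subst hc
    simp only [f, Bool.false_eq_true, if_false, one_mul] at hv
    have hmA : ι n * tD a 1 = tD (v.1 : Fˣ) (v.2 : Fˣ) * ι n := by
      have h : n * d A1 = d v * n := by rw [hv]; group
      have := congrArg ι h
      rw [map_mul, map_mul, hd, hd] at this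
      exact this
    have hmz : ι n * tD (-1 : Fˣ) (-1) = tD (-1 : Fˣ) (-1) * ι n := by
      have h : n * d Z = d Z * n := mul_inv_eq_iff_eq_mul.1 hnz
      have := congrArg ι h
      rw [map_mul, map_mul, hd] at this
      exact this
    have h2F : (2 : F) ≠ 0 := by
      intro h20
      have : (-1 : Fˣ) = 1 := Units.ext (by simp only [Units.val_neg, Units.val_one]; linear_combination -h20)
      exact ha4 (by
        exfalso
        have h1 : a ^ 2 ^ (m - 1) = 1 := hneg.trans this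
        have := Nat.le_of_dvd (pow_pos two_pos _) (ha ▸ orderOf_dvd_of_pow_eq_one h1)
        have h3 : 2 ^ (m - 1) < 2 ^ m := Nat.pow_lt_pow_right (by norm_num) (by omega)
        omega)
    -- so `n` is monomial
    have hentry : ∀ i j : Fin 3, ι n i j * (tD a 1 : M3) j j = (tD (v.1 : Fˣ) (v.2 : Fˣ) : M3) i i * ι n i j := by
      intro i j
      have h := congrFun (congrFun hmA i) j
      fin_cases i <;> fin_cases j <;>
        simp only [tD, Matrix.mul_apply, Fin.sum_univ_three] at h ⊢ <;> simpa using h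
    have hzero : ∀ i j : Fin 3, (i = 2 ∧ j ≠ 2 ∨ i ≠ 2 ∧ j = 2) → ι n i j = 0 := by
      intro i j hij
      have h := congrFun (congrFun hmz i) j
      have h2' : ∀ x : F, x = -x → x = 0 := fun x hx => by
        have : (2 : F) * x = 0 := by linear_combination hx
        exact (mul_eq_zero.1 this).resolve_left h2F
      fin_cases i <;> fin_cases j <;> simp [tD, Matrix.mul_apply, Fin.sum_univ_three] at h hij ⊢
      all_goals first
        | exact h2' _ h
        | exact h2' _ h.symm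
    have hrow : ∀ i : Fin 3, i ≠ 2 → ι n i 0 = 0 ∨ ι n i 1 = 0 := by
      intro i _
      by_contra hne
      push Not at hne
      have h0 := hentry i 0
      have h1 := hentry i 1
      rw [mul_comm] at h0 h1
      have e0 := mul_right_cancel₀ hne.1 h0
      have e1 := mul_right_cancel₀ hne.2 h1
      refine hane (Units.ext ?_)
      simpa [tD] using e0.trans e1.symm
    have hdet : (ι n).det ≠ 0 := by
      intro h0
      have h1 := congrArg Matrix.det (show ι n * ι n⁻¹ = 1 by rw [← map_mul, mul_inv_cancel, map_one])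
      rw [Matrix.det_mul, h0, zero_mul, Matrix.det_one] at h1
      exact zero_ne_one h1
    rw [Matrix.det_fin_three, hzero 2 0 (Or.inl ⟨rfl, by decide⟩), hzero 2 1 (Or.inl ⟨rfl, by decide⟩),
      hzero 0 2 (Or.inr ⟨by decide, rfl⟩), hzero 1 2 (Or.inr ⟨by decide, rfl⟩)] at hdet
    -- a diagonal representative
    obtain ⟨n₁, hn₁, e, he, hdiag⟩ : ∃ n₁, n₁ ∈ Subgroup.normalizer ((R : Subgroup H) : Set H) ∧
        ∃ e ∈ (R : Subgroup H), n = e * n₁ ∧ ι n₁ 0 1 = 0 ∧ ι n₁ 1 0 = 0 ∧ ι n₁ 0 2 = 0 ∧ ι n₁ 2 0 = 0 ∧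
          ι n₁ 1 2 = 0 ∧ ι n₁ 2 1 = 0 := by
      by_cases h01 : ι n 0 1 = 0
      · refine ⟨n, hn, 1, one_mem _, (one_mul n).symm, h01, ?_, hzero 0 2 (Or.inr ⟨by decide, rfl⟩),
          hzero 2 0 (Or.inl ⟨rfl, by decide⟩), hzero 1 2 (Or.inr ⟨by decide, rfl⟩), hzero 2 1 (Or.inl ⟨rfl, by decide⟩)⟩
        rcases hrow 1 (by decide) with h | h
        · exact h
        · exfalso; rw [h01, h] at hdet; simp at hdet
      · have h00 : ι n 0 0 = 0 := (hrow 0 (by decide)).resolve_right h01
        have h11 : ι n 1 1 = 0 := (hrow 1 (by decide)).resolve_left fun h => by rw [h00, h] at hdet; simp at hdet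
        refine ⟨s * n, mul_mem (Subgroup.le_normalizer hsmem) hn, s, hsmem, by rw [← mul_assoc, hs2, one_mul], ?_⟩
        rw [map_mul, hsι]
        refine ⟨?_, ?_, ?_, ?_, ?_, ?_⟩ <;>
          simp [sW, Matrix.mul_apply, Fin.sum_univ_three, h00, h11, hzero 2 0 (Or.inl ⟨rfl, by decide⟩),
            hzero 2 1 (Or.inl ⟨rfl, by decide⟩), hzero 0 2 (Or.inr ⟨by decide, rfl⟩), hzero 1 2 (Or.inr ⟨by decide, rfl⟩)]
    obtain ⟨hn1, d01, d10, d02, d20, d12, d21⟩ := hdiag
    have hdet1 : ι n₁ 0 0 * ι n₁ 1 1 * ι n₁ 2 2 ≠ 0 := by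
      intro h0
      have h1 := congrArg Matrix.det (show ι n₁ * ι n₁⁻¹ = 1 by rw [← map_mul, mul_inv_cancel, map_one])
      rw [Matrix.det_mul, Matrix.det_fin_three, d01, d10, d02, d20, d12, d21, Matrix.det_one] at h1
      simp [h0] at h1
    have hcomd : ∀ w : μ × μ, n₁ * d w = d w * n₁ := fun w => hι (by
      rw [map_mul, map_mul, hd]
      ext i j
      fin_cases i <;> fin_cases j <;> simp [tD, Matrix.mul_apply, Fin.sum_univ_three, d01, d10, d02, d20, d12, d21, mul_comm])
    obtain ⟨⟨c, w⟩, hw'⟩ := (hRmem _).1 ((Subgroup.mem_normalizer_iff.1 hn₁ s).1 hsmem)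
    have hs1 : ι n₁ * sW = ι (f (c, w)) * ι n₁ := by
      rw [← hsι, ← map_mul, ← map_mul, hw']; congr 1; group
    cases c with
    | false =>
      exfalso
      have h := congrFun (congrFun hs1 0) 1
      rw [hιf] at h
      simp [sW, tD, Matrix.mul_apply, Fin.sum_univ_three, d01, d10, d02, d20, d12, d21] at h
      rw [h] at hdet1
      simp at hdet1
    | true =>
      have h01' := congrFun (congrFun hs1 0) 1
      have h10' := congrFun (congrFun hs1 1) 0
      rw [hιf] at h01' h10'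
      simp [sW, tD, Matrix.mul_apply, Fin.sum_univ_three, d01, d10, d02, d20, d12, d21] at h01' h10'
      refine ⟨e * d (w.2, 1), mul_mem he (hDmem _), fun x hx => ?_⟩
      suffices hsame : ∀ x ∈ (R : Subgroup H), n₁ * x * n₁⁻¹ = d (w.2, 1) * x * (d (w.2, 1))⁻¹ by
        rw [hn1]
        calc e * n₁ * x * (e * n₁)⁻¹ = e * (n₁ * x * n₁⁻¹) * e⁻¹ := by group
          _ = e * (d (w.2, 1) * x * (d (w.2, 1))⁻¹) * e⁻¹ := by rw [hsame x hx]
          _ = _ := by group
      have hD' : ∀ u : μ × μ, n₁ * d u * n₁⁻¹ = d (w.2, 1) * d u * (d (w.2, 1))⁻¹ := fun u => by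
        rw [hcomd, mul_inv_cancel_right, ← hdmul, mul_comm, hdmul, mul_inv_cancel_right]
      have hS' : n₁ * s * n₁⁻¹ = d (w.2, 1) * s * (d (w.2, 1))⁻¹ := by
        have hww : (w.1 : Fˣ) * (w.2 : Fˣ) = 1 := Units.ext (by
          have h1 : ((w.2 : Fˣ) : F) * ι n₁ 1 1 = ι n₁ 0 0 := h01'.symm
          have h2 : ((w.1 : Fˣ) : F) * ι n₁ 0 0 = ι n₁ 1 1 := h10'.symm
          rw [← h1, ← mul_assoc] at h2
          have h3 : ι n₁ 1 1 ≠ 0 := fun h => hdet1 (by rw [h]; ring)
          simpa using mul_right_cancel₀ h3 (h2.trans (one_mul _).symm))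
        rw [← hw']
        apply hι
        rw [hιf, map_mul, map_mul, hd, hsι]
        have hinv : ι (d (w.2, (1 : μ)))⁻¹ = tD ((w.2 : Fˣ))⁻¹ 1 := by
          have h0 := hd ((w.2)⁻¹, 1)
          rw [show d ((w.2)⁻¹, 1) = (d (w.2, 1))⁻¹ from eq_inv_of_mul_eq_one_left (by
            rw [← hdmul, ← hd1]; congr 1; exact Prod.ext (inv_mul_cancel _) (one_mul _))] at h0
          simpa using h0
        rw [hinv]
        simp only [if_true, Subgroup.coe_one]
        rw [Matrix.mul_assoc, sW_tD, sW_tD, ← Matrix.mul_assoc, tD_mul, mul_one, one_mul,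
          show ((w.2 : Fˣ))⁻¹ = (w.1 : Fˣ) from (eq_inv_of_mul_eq_one_left hww).symm]
      intro x hx
      obtain ⟨⟨c', u⟩, rfl⟩ := (hRmem x).1 hx
      cases c' with
      | false => simpa [f] using hD' u
      | true =>
        simp only [f, if_true]
        rw [← conj_mul, hS', hD', conj_mul]
  · intro T hTR hT1 hcl
    obtain ⟨x, hxT, hx1, hxc⟩ := exists_central_of_normalized R.2 hTR hT1
      fun g hg x hx => hcl x hx g (mul_mem (mul_mem hg (hTR hx)) (inv_mem hg))
    obtain ⟨u, rfl⟩ := hcentral x (hTR hxT) hxc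
    have hu1 : u ≠ 1 := fun h => hx1 (by rw [h]; exact hd1)
    let Z : μ × μ := (⟨-1, hnegμ⟩, ⟨-1, hnegμ⟩)
    have hdpow : ∀ (w : μ × μ) (i : ℕ), d (w ^ i) = d w ^ i := by
      intro w i
      induction i with
      | zero => simpa using hd1
      | succ i ih => rw [pow_succ, pow_succ, hdmul, ih]
    have hzT : d Z ∈ T := by
      obtain ⟨i, -, hi⟩ := (Nat.dvd_prime_pow Nat.prime_two).1 (hμc ▸ orderOf_dvd_natCard u)
      have hi0 : i ≠ 0 := fun h => hu1 (orderOf_eq_one_iff.1 (by rw [hi, h, pow_zero]))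
      have hord : orderOf ((u : Fˣ) : F) = 2 ^ i := by rw [orderOf_units, Subgroup.orderOf_coe, hi]
      have hne : (((u : Fˣ) : F)) ^ 2 ^ (i - 1) ≠ 1 := fun h => by
        have := Nat.le_of_dvd (pow_pos two_pos _) (hord ▸ orderOf_dvd_of_pow_eq_one h)
        have h3 : 2 ^ (i - 1) < 2 ^ i := Nat.pow_lt_pow_right (by norm_num) (by omega)
        omega
      have hsq : (((u : Fˣ) : F)) ^ 2 ^ (i - 1) * (((u : Fˣ) : F)) ^ 2 ^ (i - 1) = 1 := by
        rw [← pow_two, ← pow_mul, ← pow_succ, Nat.sub_add_cancel (by omega), ← hord, pow_orderOf_eq_one]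
      have e : u ^ 2 ^ (i - 1) = ⟨-1, hnegμ⟩ := by
        refine Subtype.ext (Units.ext ?_)
        simpa using (mul_self_eq_one_iff.1 hsq).resolve_left hne
      have := pow_mem hxT (2 ^ (i - 1))
      rwa [← hdpow, Prod.pow_mk, e] at this
    have hsT : s ∈ T := by
      have e : W * d Z * W⁻¹ = s := by
        rw [mul_inv_eq_iff_eq_mul]
        exact hι (by rw [map_mul, map_mul, hd, hsι]; exact hW)
      exact e ▸ hcl _ hzT W (e ▸ hsmem)
    have hA1 : d A1 ∈ T := by
      let B : μ × μ := (⟨a, haμ⟩, ⟨a⁻¹, inv_mem haμ⟩)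
      have hB : d B ∈ T := by
        have h1 := hcl s hsT (d A1) (mul_mem (mul_mem (hDmem A1) hsmem) (inv_mem (hDmem A1)))
        have h2 := mul_mem h1 hsT
        have e : d A1 * s * (d A1)⁻¹ * s = d B := by
          have hinvA : (d A1)⁻¹ = d (A1⁻¹) := inv_eq_of_mul_eq_one_right (by rw [← hdmul, mul_inv_cancel, hd1])
          rw [hinvA, mul_assoc (d A1) s, hsd, mul_assoc, mul_assoc, hs2, mul_one, ← hdmul]
          congr 1
          exact Prod.ext (Subtype.ext (by simp [A1, B])) (Subtype.ext (by simp [A1, B]))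
        rwa [e] at h2
      have e : P * d B * P⁻¹ = d A1 := by
        rw [mul_inv_eq_iff_eq_mul]
        exact hι (by rw [map_mul, map_mul, hd, hd, hPι]; exact pW_tD a)
      exact e ▸ hcl _ hB P (e ▸ hDmem A1)
    intro y hy
    obtain ⟨⟨c, v⟩, rfl⟩ := (hRmem y).1 hy
    have hdv : d v ∈ T := by
      obtain ⟨i, hi⟩ : ∃ i : ℕ, (v.1 : Fˣ) = a ^ i := by
        obtain ⟨i, hi⟩ := (isOfFinOrder_iff_pow_eq_one.2 ⟨2 ^ m, pow_pos two_pos m, ha ▸ pow_orderOf_eq_one a⟩).mem_powers_iff_mem_zpowers.2 v.1.2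
        exact ⟨i, hi.symm⟩
      obtain ⟨j, hj⟩ : ∃ j : ℕ, (v.2 : Fˣ) = a ^ j := by
        obtain ⟨j, hj⟩ := (isOfFinOrder_iff_pow_eq_one.2 ⟨2 ^ m, pow_pos two_pos m, ha ▸ pow_orderOf_eq_one a⟩).mem_powers_iff_mem_zpowers.2 v.2.2
        exact ⟨j, hj.symm⟩
      have hA2 : d (A1.2, A1.1) ∈ T := by
        have := mul_mem (mul_mem hsT hA1) hsT
        rwa [hsd, mul_assoc, hs2, mul_one] at this
      have e : d v = d A1 ^ i * d (A1.2, A1.1) ^ j := by
        rw [← hdpow, ← hdpow, ← hdmul]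
        congr 1
        exact Prod.ext (Subtype.ext (by simp [A1, hi])) (Subtype.ext (by simp [A1, hj]))
      exact e ▸ mul_mem (pow_mem hA1 i) (pow_mem hA2 j)
    cases c with
    | false => simpa [f] using hdv
    | true => simpa [f] using mul_mem hsT hdv

end Cfsg.Agent.Local.FS.Wreathed
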