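import Cfsg.Agent.Lib.Local.FS.SimpleLift
import Cfsg.Agent.Lib.Local.FS.SemidihedralCriterion
import Cfsg.Agent.Lib.Local.FS.WreathedCriterion
import Cfsg.Agent.Lib.Small.PSLn.Sylow
import Cfsg.Agent.Lib.Small.SL2.Conj

/-!
The two-fusion system of `PSL₃(q)`, `q` odd, is simple.
-/

set_option autoImplicit false

namespace Cfsg.Agent.Local.FS.PSL3Simple

open Matrix Cfsg.Agent.Small.PSLn Cfsg.Agent.Small

variable {F : Type*} [Field F]

local notation "M2" => Matrix (Fin 2) (Fin 2) F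
local notation "M3" => Matrix (Fin 3) (Fin 3) F
local notation "H3" => Matrix.SpecialLinearGroup (Fin 3) F

theorem card_SL3 [Fintype F] :
    Nat.card H3 * (Fintype.card F - 1) =
      Fintype.card F ^ 3 * (Fintype.card F - 1) ^ 3 *
        ((Fintype.card F + 1) * (Fintype.card F ^ 2 + Fintype.card F + 1)) := by
  classical
  set q := Fintype.card F with hq
  have hSL : Nat.card H3 * (q - 1) = Nat.card (GL (Fin 3) F) := by
    let d : GL (Fin 3) F →* Fˣ := Matrix.GeneralLinearGroup.det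
    have hsurj : Function.Surjective d := fun u => by
      refine ⟨Matrix.GeneralLinearGroup.mkOfDetNeZero
        (Matrix.diagonal (Function.update 1 0 (u : F))) ?_, ?_⟩
      · rw [Matrix.det_diagonal, Finset.prod_update_of_mem (Finset.mem_univ _)]
        simp
      · apply Units.ext
        simp [d, Matrix.GeneralLinearGroup.val_det_apply, Matrix.GeneralLinearGroup.mkOfDetNeZero,
          Finset.prod_update_of_mem]
    rw [Subgroup.card_eq_card_quotient_mul_card_subgroup d.ker,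
      Nat.card_congr (QuotientGroup.quotientKerEquivOfSurjective d hsurj).toEquiv, Nat.card_units,
      Nat.card_eq_fintype_card (α := F), ← hq, mul_comm (q - 1)]
    congr 1
    exact Nat.card_congr (Equiv.ofBijective
      (fun A : H3 => (⟨Matrix.SpecialLinearGroup.toGL A, Units.ext A.2⟩ : d.ker))
      ⟨fun A B h => Matrix.SpecialLinearGroup.toGL_injective (congrArg Subtype.val h),
        fun g => ⟨⟨g.1.val, congrArg Units.val g.2⟩, Subtype.ext (Units.ext rfl)⟩⟩)
  rw [hSL, Flags.card_GL_type, Fintype.card_fin, ← hq]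
  simp only [Flags.qFact, Flags.qInt, Finset.prod_range_succ, Finset.prod_range_zero, Finset.sum_range_succ,
    Finset.sum_range_zero, show Nat.choose 3 2 = 3 from rfl]
  ring

/-- Block diagonal completion to determinant one. -/
def eM (g : M2) : M3 := !![g 0 0, g 0 1, 0; g 1 0, g 1 1, 0; 0, 0, g.det⁻¹]

theorem eM_mul (g h : M2) : eM (g * h) = eM g * eM h := by
  unfold eM
  rw [Matrix.det_mul, mul_inv]
  ext i j
  fin_cases i <;> fin_cases j <;> simp [Matrix.mul_apply, Fin.sum_univ_three, Fin.sum_univ_two]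

theorem eM_one : eM (1 : M2) = 1 := by
  ext i j
  fin_cases i <;> fin_cases j <;> simp [eM]

theorem eM_det (g : GL (Fin 2) F) : (eM g.1).det = 1 := by
  have h : g.1.det ≠ 0 := by rw [← Matrix.GeneralLinearGroup.val_det_apply]; exact Units.ne_zero _
  simp [eM, Matrix.det_fin_three]
  rw [Matrix.det_fin_two] at h ⊢
  field_simp

/-- The embedding of `GL₂` in `SL₃`. -/
def e : GL (Fin 2) F →* H3 where
  toFun g := ⟨eM g.1, eM_det g⟩
  map_one' := Subtype.ext eM_one
  map_mul' g h := Subtype.ext (eM_mul g.1 h.1)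

theorem e_val (g : GL (Fin 2) F) : (e g).1 = eM g.1 := rfl

/-- the common shape of the conclusion -/
def SylowProps (H : Type*) [Group H] : Prop :=
  ∃ R : Sylow 2 H, (R : Subgroup H) ≠ ⊥ ∧
    (∀ n ∈ Subgroup.normalizer ((R : Subgroup H) : Set H),
      ∃ s ∈ (R : Subgroup H), ∀ x ∈ (R : Subgroup H), n * x * n⁻¹ = s * x * s⁻¹) ∧
    ∀ T : Subgroup H, T ≤ (R : Subgroup H) → T ≠ ⊥ →
      (∀ x ∈ T, ∀ g : H, g * x * g⁻¹ ∈ (R : Subgroup H) → g * x * g⁻¹ ∈ T) → (R : Subgroup H) ≤ T

theorem two_ne_zero' [Fintype F] (hodd : Fintype.card F % 2 = 1) : (2 : F) ≠ 0 := by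
  refine Ring.two_ne_zero fun h => ?_
  have := (FiniteField.even_card_iff_char_two (F := F)).1 h
  omega

theorem props_wreathed [Fintype F] (h4 : Fintype.card F % 4 = 1) : SylowProps H3 := by
  classical
  have hq : 5 ≤ Fintype.card F := by
    have := Fintype.one_lt_card (α := F)
    omega
  have h2 : (2 : F) ≠ 0 := two_ne_zero' (by omega)
  obtain ⟨m, o1, ho1, hm⟩ := Nat.exists_eq_pow_mul_and_not_dvd (show Fintype.card F - 1 ≠ 0 by omega) 2 (by norm_num)
  obtain ⟨g, hg⟩ := IsCyclic.exists_generator (α := Fˣ)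
  have hgo : orderOf g = Fintype.card F - 1 := by
    rw [orderOf_eq_card_of_forall_mem_zpowers hg, Nat.card_units, Nat.card_eq_fintype_card]
  have hm2 : 2 ≤ m := by
    by_contra hlt
    have h4' : 4 ∣ Fintype.card F - 1 := by omega
    rw [hm] at h4'
    interval_cases m <;> simp at h4' <;> omega
  have ha : orderOf (g ^ o1) = 2 ^ m := by
    rw [orderOf_pow' g (by omega), hgo, hm, Nat.gcd_mul_left_left, Nat.mul_div_cancel _ (by omega)]
  obtain ⟨o2, ho2⟩ : 2 ∣ Fintype.card F + 1 := by omega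
  have hcard : Nat.card H3 = 2 ^ (2 * m + 1) * (Fintype.card F ^ 3 * (o1 * o1) * (o2 * (Fintype.card F ^ 2 + Fintype.card F + 1))) := by
    refine Nat.eq_of_mul_eq_mul_right (show 0 < Fintype.card F - 1 by omega) ?_
    rw [card_SL3, ho2, hm]
    ring
  obtain ⟨c, hc⟩ : ∃ c : F, -2 * c = 1 := ⟨-(2 : F)⁻¹, by field_simp⟩
  refine Wreathed.wreathed_sylow_props
    (⟨⟨fun A : H3 => A.1, rfl⟩, fun _ _ => rfl⟩ : H3 →* M3) Subtype.val_injective hm2 ha ?_ hcard ?_ ?_ ?_ ?_
  · have hq2 : Fintype.card F % 2 = 1 := by omega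
    have ho2' : o2 % 2 = 1 := by omega
    have ho1' : o1 % 2 = 1 := by omega
    simp [Nat.mul_mod, Nat.pow_mod, Nat.add_mod, hq2, ho1', ho2']
  · intro x _ y _
    refine ⟨⟨Wreathed.tD x y, ?_⟩, rfl⟩
    simp [Wreathed.tD, Matrix.det_fin_three]
    field_simp
  · exact ⟨⟨Wreathed.sW, by simp [Wreathed.sW, Matrix.det_fin_three]⟩, rfl⟩
  · exact ⟨⟨Wreathed.pW, by simp [Wreathed.pW, Matrix.det_fin_three]⟩, rfl⟩
  · refine ⟨⟨!![0, -c, 1; 0, c, 1; 1, 0, 0], ?_⟩, ?_⟩
    · simp [Matrix.det_fin_three]; linear_combination hc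
    · show !![0, -c, 1; 0, c, 1; 1, 0, 0] * Wreathed.tD (-1 : Fˣ) (-1) = Wreathed.sW * !![0, -c, 1; 0, c, 1; 1, 0, 0]
      ext i j
      fin_cases i <;> fin_cases j <;> simp [Wreathed.tD, Wreathed.sW, Matrix.mul_apply, Fin.sum_univ_three]

theorem props_semidihedral [Fintype F] (h4 : Fintype.card F % 4 = 3) : SylowProps H3 := by
  classical
  haveI : Fact (Nat.Prime 2) := ⟨Nat.prime_two⟩
  set q := Fintype.card F with hq
  have hq3 : 3 ≤ q := by omega
  have h2 : (2 : F) ≠ 0 := two_ne_zero' (by omega)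
  have hns : ¬ IsSquare (-1 : F) := fun h => by
    have := FiniteField.isSquare_neg_one_iff.1 h
    omega
  obtain ⟨k, m, hm2, hk⟩ := Nat.exists_eq_pow_mul_and_not_dvd (show q + 1 ≠ 0 by omega) 2 (by norm_num)
  have hm : m % 2 = 1 := by omega
  have hk2 : 2 ≤ k := by
    by_contra hlt
    interval_cases k <;> simp at hk <;> omega
  obtain ⟨o, ho⟩ : 2 ∣ q - 1 := by omega
  have hoo : o % 2 = 1 := by omega
  obtain ⟨u, v, huv⟩ := SL2C.Qf_surjective (F := F) (t := 0) (d := 1) (Or.inr (by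
    rw [mul_zero, mul_one]; exact fun h => mul_ne_zero h2 h2 (by linear_combination -h))) (-1)
  simp only [SL2C.Qf] at huv
  have huv' : u * u + v * v = -1 := by linear_combination huv
  let M : GL (Fin 2) F := Matrix.GeneralLinearGroup.mkOfDetNeZero !![u, -v; v, u]
    (by simp [Matrix.det_fin_two]; rw [huv']; simp)
  let B : GL (Fin 2) F := Matrix.GeneralLinearGroup.mkOfDetNeZero !![1, 0; 0, -1]
    (by simp [Matrix.det_fin_two])
  have hMv : M.1 = !![u, -v; v, u] := rfl
  have hBv : B.1 = !![1, 0; 0, -1] := rfl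
  obtain ⟨p, hpc⟩ := CharP.exists F
  haveI := hpc
  obtain ⟨n, hp, hqp⟩ := FiniteField.card F p
  haveI : Fact p.Prime := ⟨hp⟩
  have hMq : (M ^ q).1 = !![u, v; -v, u] := by
    rw [Units.val_pow_eq_pow_val, hMv]
    have hJ : (!![0, -1; 1, 0] : M2) ^ q = -!![0, -1; 1, 0] := by
      have hJ2 : (!![0, -1; 1, 0] : M2) ^ 2 = -1 := by
        rw [pow_two]; ext i j; fin_cases i <;> fin_cases j <;> simp [Matrix.mul_apply, Fin.sum_univ_two]
      rw [← Nat.div_add_mod q 4, h4, pow_add, show 4 * (q / 4) = 2 * (2 * (q / 4)) by ring, pow_mul, hJ2, pow_mul,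
        neg_one_sq, one_pow, one_mul, pow_succ, hJ2, neg_one_mul]
    have hsplit : (!![u, -v; v, u] : M2) = u • 1 + v • !![0, -1; 1, 0] := by
      ext i j; fin_cases i <;> fin_cases j <;> simp
    have hc : Commute (u • (1 : M2)) (v • !![0, -1; 1, 0]) := (Commute.one_left _).smul_left u |>.smul_right v
    rw [hsplit]
    conv_lhs => rw [hq, hqp]
    rw [add_pow_char_pow_of_commute (p := p) (h := hc), ← hqp, ← hq, smul_pow, smul_pow, one_pow, hJ,
      show u ^ q = u from FiniteField.pow_card u, show v ^ q = v from FiniteField.pow_card v]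
    ext i j; fin_cases i <;> fin_cases j <;> simp
  have hMB : B * M = M ^ q * B := Units.ext (by
    rw [Units.val_mul, Units.val_mul, hMq, hMv, hBv]
    ext i j; fin_cases i <;> fin_cases j <;> simp [Matrix.mul_apply, Fin.sum_univ_two])
  have hMq1 : (M ^ (q + 1)).1 = -1 := by
    rw [pow_succ, Units.val_mul, hMq, hMv]
    ext i j; fin_cases i <;> fin_cases j <;> simp [Matrix.mul_apply, Fin.sum_univ_two] <;>
      first
      | linear_combination huv'
      | linear_combination -huv'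
      | ring
  set A := M ^ m with hA
  have hAk : (A ^ 2 ^ k).1 = -1 := by rw [hA, ← pow_mul, mul_comm, ← hk]; exact hMq1
  have hAB : B * A = A ^ q * B := by
    rw [hA, ← pow_mul, mul_comm m q, pow_mul]
    exact SemiconjBy.pow_right (show SemiconjBy B M (M ^ q) from hMB) m
  have hB2 : B * B = 1 := Units.ext (by
    rw [Units.val_mul, hBv]
    ext i j; fin_cases i <;> fin_cases j <;> simp [Matrix.mul_apply, Fin.sum_univ_two])
  have hAN : A ^ 2 ^ (k + 1) = 1 := Units.ext (by
    rw [pow_succ, pow_mul, Units.val_pow_eq_pow_val, hAk, neg_one_sq, Units.val_one])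
  set a : H3 := e A with ha
  set b : H3 := e B with hb
  have haN : a ^ 2 ^ (k + 1) = 1 := by rw [ha, ← map_pow, hAN, map_one]
  have haz : a ^ 2 ^ k ≠ 1 := fun h => by
    rw [ha, ← map_pow] at h
    have h' := congrFun (congrFun (congrArg Subtype.val h) 0) 0
    rw [e_val, hAk] at h'
    simp [eM] at h'
    exact h2 (by linear_combination -h')
  have hb2 : b * b = 1 := by rw [hb, ← map_mul, hB2, map_one]
  have hba : b * a = a ^ q * b := by rw [ha, hb, ← map_pow, ← map_mul, ← map_mul, hAB]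
  have hAp : IsPGroup 2 (Subgroup.zpowers a) := by
    obtain ⟨j, -, hj⟩ := (Nat.dvd_prime_pow Nat.prime_two).1 (orderOf_dvd_of_pow_eq_one haN)
    exact IsPGroup.of_card ((Nat.card_zpowers a).trans hj)
  have hBp : IsPGroup 2 (Subgroup.zpowers b) := by
    obtain ⟨j, -, hj⟩ := (Nat.dvd_prime_pow Nat.prime_two).1
      (orderOf_dvd_of_pow_eq_one (show b ^ 2 ^ 1 = 1 by rw [pow_one, pow_two]; exact hb2))
    exact IsPGroup.of_card ((Nat.card_zpowers b).trans hj)
  have hle : Subgroup.zpowers b ≤ Subgroup.normalizer (Subgroup.zpowers a : Set H3) := by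
    refine Subgroup.zpowers_le.2 (Subgroup.mem_normalizer_fintype fun x hx => ?_)
    obtain ⟨i, rfl⟩ := Subgroup.mem_zpowers_iff.1 hx
    show b * a ^ i * b⁻¹ ∈ Subgroup.zpowers a
    rw [← conj_zpow, hba, mul_inv_cancel_right]
    exact zpow_mem (pow_mem (Subgroup.mem_zpowers a) q) i
  obtain ⟨R, hR⟩ := (IsPGroup.to_sup_of_normal_right' hBp hAp hle).exists_le_sylow
  have haR : a ∈ (R : Subgroup H3) := hR (le_sup_right (a := Subgroup.zpowers b) (Subgroup.mem_zpowers a))
  have hbR : b ∈ (R : Subgroup H3) := hR (le_sup_left (b := Subgroup.zpowers a) (Subgroup.mem_zpowers b))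
  have hcard : Nat.card H3 = 2 ^ (k + 2) * (q ^ 3 * (o * o) * (m * (q ^ 2 + q + 1))) := by
    refine Nat.eq_of_mul_eq_mul_right (show 0 < q - 1 by omega) ?_
    rw [card_SL3, ← hq, hk, ho]
    ring
  have hRc : Nat.card (R : Subgroup H3) = 2 ^ (k + 2) := by
    rw [Sylow.card_eq_multiplicity, hcard]
    have hne : q ^ 3 * (o * o) * (m * (q ^ 2 + q + 1)) % 2 = 1 := by
      simp [Nat.mul_mod, Nat.pow_mod, Nat.add_mod, show q % 2 = 1 by omega, hoo, hm]
    rw [Nat.factorization_mul (pow_ne_zero _ two_ne_zero) (by omega), Finsupp.add_apply,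
      Nat.Prime.factorization_pow Nat.prime_two, Finsupp.single_eq_same,
      Nat.factorization_eq_zero_of_not_dvd (fun h => by omega), add_zero]
  have hMdet : M.1.det = -1 := by rw [hMv]; simp [Matrix.det_fin_two]; exact huv'
  have hAdet : A.1.det = -1 := by
    rw [hA, Units.val_pow_eq_pow_val, Matrix.det_pow, hMdet]
    exact Odd.neg_one_pow (Nat.odd_iff.2 hm)
  have hconj : ∃ S : Matrix.SpecialLinearGroup (Fin 2) F,
      S.1 * (A ^ 2 ^ (k - 1)).1 = (A * B).1 * S.1 := by
    have d1 : (A ^ 2 ^ (k - 1)).1.det = 1 := by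
      rw [Units.val_pow_eq_pow_val, Matrix.det_pow, hAdet]
      exact Even.neg_one_pow (Nat.even_pow.2 ⟨even_two, by omega⟩)
    have d2 : (A * B).1.det = 1 := by
      rw [Units.val_mul, Matrix.det_mul, hAdet, hBv]; simp [Matrix.det_fin_two]
    have s1 : (A ^ 2 ^ (k - 1)).1 * (A ^ 2 ^ (k - 1)).1 = -1 := by
      rw [← Units.val_mul, ← pow_add, ← two_mul, ← pow_succ', Nat.sub_add_cancel (by omega)]; exact hAk
    have s2 : (A * B).1 * (A * B).1 = -1 := by
      rw [← Units.val_mul, show A * B * (A * B) = A * (B * A) * B by simp only [mul_assoc], hAB,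
        ← mul_assoc, mul_assoc (A * A ^ q), hB2, mul_one, ← pow_succ', hA, ← pow_mul, mul_comm, pow_mul,
        Units.val_pow_eq_pow_val, hMq1]
      exact Odd.neg_one_pow (Nat.odd_iff.2 hm)
    have key : ∀ g : Matrix.SpecialLinearGroup (Fin 2) F, g.1 * g.1 = -1 → g.1.trace = 0 ∧ ¬ SL2C.IsSc g.1 := by
      intro g hg
      refine ⟨?_, ?_⟩
      · have h := SL2C.sq_eq g
        rw [hg, eq_sub_iff_add_eq, neg_add_cancel] at h
        by_contra ht
        have h0 : g.1 = 0 := (smul_eq_zero.1 h.symm).resolve_left ht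
        have := g.2
        rw [h0] at this
        simp at this
      · rintro ⟨c, hc⟩
        rw [hc] at hg
        have := congrFun (congrFun hg 0) 0
        simp at this
        exact hns ⟨c, this.symm⟩
    obtain ⟨t1, n1⟩ := key ⟨_, d1⟩ s1
    obtain ⟨t2, n2⟩ := key ⟨_, d2⟩ s2
    exact SL2C.mul_of_isConj (SL2C.isConj_of_trace n1 n2 (t1.trans t2.symm) (Or.inr (by
      rw [t1, mul_zero]; exact fun h => mul_ne_zero h2 h2 (by linear_combination -h))))
  obtain ⟨S, hS⟩ := hconj
  refine ⟨R, fun h => ?_, sd_sylow_props R hk2 hm hk hRc haR hbR haN haz hb2 hba ?_ ?_⟩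
  · rw [h, Subgroup.card_bot] at hRc
    have := Nat.one_lt_two_pow (n := k + 2) (by omega)
    omega
  · let Q : H3 := ⟨!![0, 0, 1; 0, -1, 0; 1, 0, 0], by simp [Matrix.det_fin_three]⟩
    refine ⟨Q, ?_⟩
    rw [mul_inv_eq_iff_eq_mul]
    apply Subtype.ext
    rw [Matrix.SpecialLinearGroup.coe_mul, Matrix.SpecialLinearGroup.coe_mul, ha, hb, ← map_pow, e_val, e_val, hAk, hBv]
    show (!![0, 0, 1; 0, -1, 0; 1, 0, 0] : M3) * _ = _ * !![0, 0, 1; 0, -1, 0; 1, 0, 0]
    ext i j
    fin_cases i <;> fin_cases j <;> simp [eM, Matrix.det_fin_two, Matrix.mul_apply, Fin.sum_univ_three]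
  · refine ⟨e (Matrix.SpecialLinearGroup.toGL S), ?_⟩
    rw [mul_inv_eq_iff_eq_mul, ha, hb, ← map_pow, ← map_mul, ← map_mul, ← map_mul]
    exact congrArg e (Units.ext hS)

theorem psl3_simple [Fintype F] (hodd : Fintype.card F % 2 = 1)
    (S : Sylow 2 (Matrix.ProjectiveSpecialLinearGroup (Fin 3) F)) :
    (Cfsg.groupFusionSystem (S : Subgroup (Matrix.ProjectiveSpecialLinearGroup (Fin 3) F))).IsSimple 2 := by
  haveI : Fact (Nat.Prime 2) := ⟨Nat.prime_two⟩
  obtain ⟨R, hR1, hN, hsc⟩ : SylowProps H3 := by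
    rcases (show Fintype.card F % 4 = 1 ∨ Fintype.card F % 4 = 3 by omega) with h | h
    · exact props_wreathed h
    · exact props_semidihedral h
  have hker : ∀ k : H3, pr k = 1 → ∃ ε : F, ε ^ 3 = 1 ∧ k.1 = ε • (1 : M3) := fun k hk =>
    (pr_eq_iff k 1).1 (hk.trans (map_one _).symm)
  refine simple_of_lift (pr : H3 →* _) pr_surjective (fun k hk h => ?_) (fun k hk hd => ?_) R hR1 hN hsc S
  · obtain ⟨ε, -, he⟩ := hker k hk
    apply Subtype.ext
    rw [Matrix.SpecialLinearGroup.coe_mul, Matrix.SpecialLinearGroup.coe_mul, he, Matrix.smul_mul, Matrix.mul_smul,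
      Matrix.one_mul, Matrix.mul_one]
  · obtain ⟨ε, hε, he⟩ := hker k hk
    have hk3 : k ^ 3 = 1 := Subtype.ext (by
      rw [Matrix.SpecialLinearGroup.coe_pow, he, smul_pow, hε, one_pow, one_smul]; rfl)
    have := hd.trans (orderOf_dvd_of_pow_eq_one hk3)
    omega

end Cfsg.Agent.Local.FS.PSL3Simple
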