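import Cfsg.Agent.Lib.Local.FS.SimplePSL3
import Cfsg.Agent.Lib.Classical.UnitaryOrders

/-!
The two-fusion system of `PSU₃(q)`, `q` odd, is simple.
-/

set_option autoImplicit false

namespace Cfsg.Agent.Local.FS.PSU3Simple

open Matrix Cfsg.Agent.Classical Cfsg.Agent.Local.FS.PSL3Simple

variable {F : Type*} [Field F] [Fintype F] {q : ℕ} {σ : F ≃+* F} (hσ : IsUSigma q σ)

local notation "M2" => Matrix (Fin 2) (Fin 2) F
local notation "M3" => Matrix (Fin 3) (Fin 3) F

theorem ext_val {x y : ↥(Cfsg.SU 3 F q)} (h : x.1.1 = y.1.1) : x = y := Subtype.ext (Subtype.ext h)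

theorem val_mul (x y : ↥(Cfsg.SU 3 F q)) : (x * y).1.1 = x.1.1 * y.1.1 := rfl

include hσ

theorem mem_SU_of_gram (g : Matrix.SpecialLinearGroup (Fin 3) F) (h : g.1ᵀ * g.1.map σ = 1) :
    g ∈ Cfsg.SU 3 F q := by
  intro u v
  show Cfsg.hermForm 3 F q (g.1 *ᵥ u) (g.1 *ᵥ v) = _
  have e : ∀ u v : Fin 3 → F, Cfsg.hermForm 3 F q u v = u ⬝ᵥ (σ ∘ v) := fun u v => by
    simp [Cfsg.hermForm, dotProduct, hσ.apply_eq]
  have h1 : σ ∘ (g.1 *ᵥ v) = g.1.map σ *ᵥ (σ ∘ v) := funext fun i => RingHom.map_mulVec σ.toRingHom g.1 v i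
  rw [e, e, h1, ← Matrix.vecMul_transpose, ← Matrix.dotProduct_mulVec, Matrix.mulVec_mulVec, h, Matrix.one_mulVec]

theorem exists_SU_of_gram (M : M3) (hd : M.det = 1) (h : Mᵀ * M.map σ = 1) :
    ∃ x : ↥(Cfsg.SU 3 F q), x.1.1 = M :=
  ⟨⟨⟨M, hd⟩, mem_SU_of_gram hσ _ h⟩, rfl⟩

theorem card_SU3 :
    (q + 1) * Nat.card (Cfsg.SU 3 F q) = q ^ 3 * ((q + 1) * ((q ^ 2 - 1) * (q ^ 3 + 1))) := by
  rw [UCount.card_SU hσ (by norm_num), UCount.card_GU hσ 3]
  simp [Finset.prod_range_succ, Nat.even_iff]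
  left; ring

theorem pW_gram : (Wreathed.pW : M3)ᵀ * (Wreathed.pW : M3).map σ = 1 := by
  ext i j
  fin_cases i <;> fin_cases j <;> simp [Wreathed.pW, Matrix.mul_apply, Fin.sum_univ_three]

theorem sW_gram : (Wreathed.sW : M3)ᵀ * (Wreathed.sW : M3).map σ = 1 := by
  ext i j
  fin_cases i <;> fin_cases j <;> simp [Wreathed.sW, Matrix.mul_apply, Fin.sum_univ_three]

theorem props_wreathed (h4 : q % 4 = 3) : SylowProps ↥(Cfsg.SU 3 F q) := by
  classical
  have h2 : (2 : F) ≠ 0 := two_ne_zero' (by rw [hσ.card, Nat.pow_mod]; simp [show q % 2 = 1 by omega])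
  obtain ⟨m, o1, ho1, hm⟩ := Nat.exists_eq_pow_mul_and_not_dvd (show q + 1 ≠ 0 by omega) 2 (by norm_num)
  have hm2 : 2 ≤ m := by
    by_contra hlt
    interval_cases m <;> simp at hm <;> omega
  obtain ⟨o2, ho2⟩ : 2 ∣ q - 1 := by omega
  obtain ⟨g, -, hg⟩ := hσ.exists_gen
  have hfac : q ^ 2 - 1 = (q + 1) * (q - 1) := by rw [← Nat.sq_sub_sq, one_pow]
  have ha : orderOf (g ^ (o1 * (q - 1))) = 2 ^ m := by
    rw [orderOf_pow' g (Nat.mul_ne_zero (by omega) (by omega)), hg, hfac, hm, mul_assoc,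
      Nat.gcd_mul_left_left, Nat.mul_div_cancel _ (Nat.mul_pos (by omega) (by omega))]
  set a := g ^ (o1 * (q - 1)) with haDef
  have hnorm : ∀ x ∈ Subgroup.zpowers a, (x : F) * σ x = 1 := by
    intro x hx
    refine UCount.norm_of_pow_eq_one hσ ?_
    obtain ⟨i, rfl⟩ := Subgroup.mem_zpowers_iff.1 hx
    rw [← zpow_natCast, ← _root_.zpow_mul, mul_comm, _root_.zpow_mul, zpow_natCast,
      show a ^ (q + 1) = 1 by rw [hm, pow_mul, ← ha, pow_orderOf_eq_one, one_pow], _root_.one_zpow]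
  have hcard : Nat.card (Cfsg.SU 3 F q) = 2 ^ (2 * m + 1) * (q ^ 3 * o2 * (o1 * o1) * (q ^ 2 - q + 1)) := by
    refine Nat.eq_of_mul_eq_mul_left (show 0 < q + 1 by omega) ?_
    have hq3 : q ^ 3 + 1 = (q + 1) * (q ^ 2 - q + 1) := by
      have : q ≤ q ^ 2 := Nat.le_self_pow two_ne_zero q
      zify [this]
      ring
    rw [card_SU3 hσ, hfac, hq3, hm, ho2]
    ring
  obtain ⟨c, hc0, hc⟩ := hσ.norm_surjective (t := (2 : F)⁻¹) (inv_ne_zero h2) (by rw [map_inv₀, map_ofNat])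
  obtain ⟨d, hd⟩ : ∃ d : F, d = -(2 * c)⁻¹ := ⟨_, rfl⟩
  have hcd : -2 * c * d = 1 := by rw [hd]; field_simp
  have hdn : d * σ d = (2 : F)⁻¹ := by
    rw [hd, map_neg, map_inv₀, map_mul, map_ofNat, neg_mul_neg, ← mul_inv,
      show 2 * c * (2 * σ c) = 2 * 2 * (c * σ c) by ring, hc]
    field_simp
  refine Wreathed.wreathed_sylow_props
    (⟨⟨fun A : ↥(Cfsg.SU 3 F q) => A.1.1, rfl⟩, fun _ _ => rfl⟩ : ↥(Cfsg.SU 3 F q) →* M3)
    (fun x y h => ext_val h) hm2 ha ?_ hcard ?_ ?_ ?_ ?_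
  · have h0 : (q ^ 2 - q + 1) % 2 = 1 := by
      have : q ≤ q ^ 2 := Nat.le_self_pow two_ne_zero q
      have : q ^ 2 % 2 = q % 2 := by rw [Nat.pow_mod]; have := Nat.mod_two_eq_zero_or_one q; rcases this with h | h <;> simp [h]
      omega
    simp [Nat.mul_mod, Nat.pow_mod, h0, show q % 2 = 1 by omega, show o2 % 2 = 1 by omega, show o1 % 2 = 1 by omega]
  · intro x hx y hy
    refine exists_SU_of_gram hσ (Wreathed.tD x y) ?_ ?_
    · simp [Wreathed.tD, Matrix.det_fin_three]; field_simp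
    · have hxy := hnorm _ (inv_mem (mul_mem hx hy))
      ext i j
      fin_cases i <;> fin_cases j <;>
        simp [Wreathed.tD, Matrix.mul_apply, Fin.sum_univ_three, hnorm x hx, hnorm y hy, hxy]
      all_goals simpa [mul_comm] using hxy
  · exact exists_SU_of_gram hσ Wreathed.sW (by simp [Wreathed.sW, Matrix.det_fin_three]) (sW_gram hσ)
  · exact exists_SU_of_gram hσ Wreathed.pW (by simp [Wreathed.pW, Matrix.det_fin_three]) (pW_gram hσ)
  · obtain ⟨w, hw⟩ := exists_SU_of_gram hσ !![0, -d, c; 0, d, c; 1, 0, 0]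
      (by simp [Matrix.det_fin_three]; linear_combination hcd)
      (by
        ext i j
        fin_cases i <;> fin_cases j <;> simp [Matrix.mul_apply, Fin.sum_univ_three, hc, hdn]
        all_goals (field_simp; ring))
    refine ⟨w, ?_⟩
    show w.1.1 * Wreathed.tD (-1 : Fˣ) (-1) = Wreathed.sW * w.1.1
    rw [hw]
    ext i j
    fin_cases i <;> fin_cases j <;> simp [Wreathed.tD, Wreathed.sW, Matrix.mul_apply, Fin.sum_univ_three]

omit hσ

variable (ε : F)

/-- isotropic basis -/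
def Pm : M2 := !![1, 1; ε, -ε]
/-- its inverse -/
def Pi' : M2 := !![2⁻¹, (2 * ε)⁻¹; 2⁻¹, -(2 * ε)⁻¹]
/-- a matrix read in the isotropic basis, completed to determinant one -/
def phi (X : M2) : M3 := eM (Pm ε * X * Pi' ε)

include hσ

theorem props_semidihedral (h4 : q % 4 = 1) : SylowProps ↥(Cfsg.SU 3 F q) := by
  classical
  haveI : Fact (Nat.Prime 2) := ⟨Nat.prime_two⟩
  have hq2 := hσ.two_le
  have h2 : (2 : F) ≠ 0 := two_ne_zero' (by rw [hσ.card, Nat.pow_mod]; simp [show q % 2 = 1 by omega])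
  obtain ⟨k, m', hm', hk⟩ := Nat.exists_eq_pow_mul_and_not_dvd (show q - 1 ≠ 0 by omega) 2 (by norm_num)
  have hk2 : 2 ≤ k := by
    by_contra hlt
    interval_cases k <;> simp at hk <;> omega
  obtain ⟨o, ho⟩ : 2 ∣ q + 1 := by omega
  obtain ⟨g, -, hg⟩ := hσ.exists_gen
  have hfac : q ^ 2 - 1 = 2 ^ (k + 1) * (o * m') := by
    rw [show q ^ 2 - 1 = (q + 1) * (q - 1) by rw [← Nat.sq_sub_sq, one_pow], ho, hk]; ring
  have hl : orderOf ((g ^ (o * m') : Fˣ) : F) = 2 ^ (k + 1) := by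
    rw [orderOf_units, orderOf_pow' g (Nat.mul_ne_zero (by omega) (by omega)), hg, hfac,
      Nat.gcd_mul_left_left, Nat.mul_div_cancel _ (Nat.mul_pos (by omega) (by omega))]
  set l : F := ((g ^ (o * m') : Fˣ) : F) with hldef
  have hl0 : l ≠ 0 := Units.ne_zero _
  have hlN : l ^ 2 ^ (k + 1) = 1 := hl ▸ pow_orderOf_eq_one l
  have hlz : l ^ 2 ^ k = -1 := by
    have h1 : l ^ 2 ^ k * l ^ 2 ^ k = 1 := by rw [← pow_add, ← two_mul, ← pow_succ', hlN]
    refine (mul_self_eq_one_iff.1 h1).resolve_left fun h => ?_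
    have := Nat.le_of_dvd (pow_pos two_pos _) (hl ▸ orderOf_dvd_of_pow_eq_one h)
    have : 2 ^ k < 2 ^ (k + 1) := Nat.pow_lt_pow_right (by norm_num) (by omega)
    omega
  set E := 2 ^ k - 1 with hE
  have hE1 : E + 1 = 2 ^ k * 1 := by have := Nat.one_le_two_pow (n := k); omega
  set l' : F := l ^ E with hl'
  have hll : l * l' = -1 := by rw [hl', ← pow_succ', hE1, mul_one, hlz]
  have hσl : σ l = -l := by
    rw [hσ.apply_eq, show q = 1 + 2 ^ k * m' by omega, pow_add, pow_one, pow_mul, hlz,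
      Odd.neg_one_pow (Nat.odd_iff.2 (by omega)), mul_neg_one]
  have hlσ : l * σ l' = 1 := by
    have h := congrArg σ hll
    rw [map_mul, hσl, map_neg, map_one] at h
    linear_combination -h
  obtain ⟨ε, hε0, hε⟩ := hσ.norm_surjective (t := (-1 : F)) (neg_ne_zero.2 one_ne_zero) (by rw [map_neg, map_one])
  have hPP : Pi' ε * Pm ε = 1 := by
    ext i j; fin_cases i <;> fin_cases j <;> simp [Pi', Pm, Matrix.mul_apply, Fin.sum_univ_two] <;>
      field_simp <;> ring
  have hPP' : Pm ε * Pi' ε = 1 := mul_eq_one_comm.1 hPP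
  have hphi : ∀ X Y : M2, phi ε (X * Y) = phi ε X * phi ε Y := fun X Y => by
    unfold phi
    rw [← eM_mul]; congr 1
    rw [Matrix.mul_assoc (Pm ε * X), ← Matrix.mul_assoc (Pi' ε), ← Matrix.mul_assoc (Pi' ε), hPP,
      Matrix.one_mul, ← Matrix.mul_assoc, ← Matrix.mul_assoc]
  have hphi1 : phi ε (1 : M2) = 1 := by unfold phi; rw [Matrix.mul_one, hPP', eM_one]
  have hpd : ∀ X : M2, (Pm ε * X * Pi' ε).det = X.det := fun X => by
    rw [Matrix.det_mul, Matrix.det_mul, mul_right_comm, ← Matrix.det_mul, hPP', Matrix.det_one, one_mul]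
  have hJP : (Pm ε)ᵀ * (Pm ε).map σ = (2 : F) • !![0, 1; 1, 0] := by
    ext i j; fin_cases i <;> fin_cases j <;>
      simp [Pm, Matrix.mul_apply, Fin.sum_univ_two, hε] <;> ring
  have hmap : ∀ A B : M2, (A * B).map σ = A.map σ * B.map σ := fun A B => Matrix.map_mul (f := σ.toRingHom)
  have hmk : ∀ X : M2, X.det ≠ 0 → Xᵀ * !![0, 1; 1, 0] * X.map σ = !![0, 1; 1, 0] →
      ∃ x : ↥(Cfsg.SU 3 F q), x.1.1 = phi ε X := by
    intro X hX hXJ
    set U := Pm ε * X * Pi' ε with hU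
    have hU1 : Uᵀ * U.map σ = 1 := by
      calc Uᵀ * U.map σ = (Pi' ε)ᵀ * (Xᵀ * ((Pm ε)ᵀ * (Pm ε).map σ) * X.map σ) * (Pi' ε).map σ := by
            rw [hU, Matrix.transpose_mul, Matrix.transpose_mul, hmap, hmap]; simp only [Matrix.mul_assoc]
        _ = (Pi' ε)ᵀ * ((2 : F) • !![0, 1; 1, 0]) * (Pi' ε).map σ := by
            rw [hJP, Matrix.mul_smul, Matrix.smul_mul, hXJ]
        _ = (Pi' ε)ᵀ * ((Pm ε)ᵀ * (Pm ε).map σ) * (Pi' ε).map σ := by rw [hJP]
        _ = (Pm ε * Pi' ε)ᵀ * (Pm ε * Pi' ε).map σ := by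
            rw [Matrix.transpose_mul, hmap]; simp only [Matrix.mul_assoc]
        _ = 1 := by
            rw [hPP', Matrix.transpose_one, Matrix.map_one σ (map_zero σ) (map_one σ), Matrix.one_mul]
    have hUd : U.det ≠ 0 := by rw [hU, hpd]; exact hX
    have hUn : U.det⁻¹ * σ U.det⁻¹ = 1 := by
      have h := congrArg Matrix.det hU1
      rw [Matrix.det_mul, Matrix.det_transpose, Matrix.det_one] at h
      rw [show (U.map σ).det = σ U.det from (RingHom.map_det σ.toRingHom U).symm] at h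
      rw [map_inv₀, ← mul_inv, h, inv_one]
    refine exists_SU_of_gram hσ (phi ε X) ?_ ?_
    · have h := hUd
      simp [phi, eM, Matrix.det_fin_three, ← hU]
      rw [Matrix.det_fin_two] at h ⊢
      field_simp
    · have e00 := congrFun (congrFun hU1 0) 0
      have e01 := congrFun (congrFun hU1 0) 1
      have e10 := congrFun (congrFun hU1 1) 0
      have e11 := congrFun (congrFun hU1 1) 1
      simp [Matrix.mul_apply, Fin.sum_univ_two] at e00 e01 e10 e11
      show (eM U)ᵀ * (eM U).map σ = 1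
      ext i j
      fin_cases i <;> fin_cases j <;> simp [eM, Matrix.mul_apply, Fin.sum_univ_three] <;>
        first
          | exact e00
          | exact e01
          | exact e10
          | exact e11
          | simpa [map_inv₀] using hUn
  obtain ⟨a, ha⟩ := hmk !![l, 0; 0, l'] (by simp [Matrix.det_fin_two]; exact ⟨hl0, pow_ne_zero _ hl0⟩) (by
    have hlσ' : l' * σ l = 1 := by rw [hσl]; linear_combination -hll
    ext i j; fin_cases i <;> fin_cases j <;> simp [Matrix.mul_apply, Fin.sum_univ_two, hlσ, hlσ'])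
  obtain ⟨b, hb⟩ := hmk !![0, 1; 1, 0] (by simp [Matrix.det_fin_two]) (by
    ext i j; fin_cases i <;> fin_cases j <;> simp [Matrix.mul_apply, Fin.sum_univ_two])
  have hapow : ∀ n : ℕ, (a ^ n).1.1 = phi ε !![l ^ n, 0; 0, l' ^ n] := by
    intro n
    induction n with
    | zero =>
      simp only [pow_zero, OneMemClass.coe_one, Matrix.SpecialLinearGroup.coe_one]
      rw [show (!![1, 0; 0, 1] : M2) = 1 by ext i j; fin_cases i <;> fin_cases j <;> simp, hphi1]
    | succ n ih =>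
      rw [pow_succ, val_mul, ih, ha, ← hphi]
      congr 1
      ext i j; fin_cases i <;> fin_cases j <;> simp [Matrix.mul_apply, Fin.sum_univ_two, pow_succ]
  have hlp : l' ^ 2 ^ k = -1 := by
    rw [hl', ← pow_mul, mul_comm, pow_mul, hlz]
    exact Odd.neg_one_pow (Nat.odd_iff.2 (by
      have := (Nat.even_pow.2 ⟨even_two, by omega⟩ : Even (2 ^ k))
      rw [Nat.even_iff] at this; omega))
  have hphineg : phi ε (-1 : M2) = !![-1, 0, 0; 0, -1, 0; 0, 0, 1] := by
    unfold phi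
    rw [Matrix.mul_neg, Matrix.mul_one, Matrix.neg_mul, hPP']
    ext i j; fin_cases i <;> fin_cases j <;> simp [eM, Matrix.det_fin_two]
  have hakv : (a ^ 2 ^ k).1.1 = !![-1, 0, 0; 0, -1, 0; 0, 0, 1] := by
    rw [hapow, hlz, hlp, ← hphineg]
    congr 1
    ext i j; fin_cases i <;> fin_cases j <;> simp
  have hbv : b.1.1 = !![1, 0, 0; 0, -1, 0; 0, 0, -1] := by
    rw [hb]; unfold phi
    rw [show Pm ε * !![0, 1; 1, 0] * Pi' ε = !![1, 0; 0, -1] by
      ext i j; fin_cases i <;> fin_cases j <;> simp [Pm, Pi', Matrix.mul_apply, Fin.sum_univ_two] <;>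
        field_simp <;> ring]
    ext i j; fin_cases i <;> fin_cases j <;> simp [eM, Matrix.det_fin_two]
  have haN : a ^ 2 ^ (k + 1) = 1 := ext_val (by
    rw [pow_succ, pow_mul, pow_two, val_mul, hakv]
    show _ = (1 : M3)
    ext i j; fin_cases i <;> fin_cases j <;> simp [Matrix.mul_apply, Fin.sum_univ_three])
  have haz : a ^ 2 ^ k ≠ 1 := fun h => by
    rw [h] at hakv
    have h' := congrFun (congrFun hakv 0) 0
    simp at h'
    exact h2 (by linear_combination h')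
  have hb2 : b * b = 1 := ext_val (by
    rw [val_mul, hbv]
    show _ = (1 : M3)
    ext i j; fin_cases i <;> fin_cases j <;> simp [Matrix.mul_apply, Fin.sum_univ_three])
  have hlE : l' ^ E = l := by
    have h1 : (l * l') ^ E = -1 := by
      rw [hll]
      exact Odd.neg_one_pow (Nat.odd_iff.2 (by
        have := (Nat.even_pow.2 ⟨even_two, by omega⟩ : Even (2 ^ k))
        rw [Nat.even_iff] at this; omega))
    rw [mul_pow, ← hl'] at h1
    have hl'0 : l' ≠ 0 := pow_ne_zero _ hl0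
    apply mul_left_cancel₀ hl'0
    linear_combination h1 - hll
  have hba : b * a = a ^ E * b := ext_val (by
    rw [val_mul, val_mul, ha, hb, hapow, ← hl', hlE, ← hphi, ← hphi]
    congr 1
    ext i j; fin_cases i <;> fin_cases j <;> simp [Matrix.mul_apply, Fin.sum_univ_two])
  have hAp : IsPGroup 2 (Subgroup.zpowers a) := by
    obtain ⟨j, -, hj⟩ := (Nat.dvd_prime_pow Nat.prime_two).1 (orderOf_dvd_of_pow_eq_one haN)
    exact IsPGroup.of_card ((Nat.card_zpowers a).trans hj)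
  have hBp : IsPGroup 2 (Subgroup.zpowers b) := by
    obtain ⟨j, -, hj⟩ := (Nat.dvd_prime_pow Nat.prime_two).1
      (orderOf_dvd_of_pow_eq_one (show b ^ 2 ^ 1 = 1 by rw [pow_one, pow_two]; exact hb2))
    exact IsPGroup.of_card ((Nat.card_zpowers b).trans hj)
  have hle : Subgroup.zpowers b ≤ Subgroup.normalizer (Subgroup.zpowers a : Set ↥(Cfsg.SU 3 F q)) := by
    refine Subgroup.zpowers_le.2 (Subgroup.mem_normalizer_fintype fun x hx => ?_)
    obtain ⟨i, rfl⟩ := Subgroup.mem_zpowers_iff.1 hx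
    show b * a ^ i * b⁻¹ ∈ Subgroup.zpowers a
    rw [← conj_zpow, hba, mul_inv_cancel_right]
    exact zpow_mem (pow_mem (Subgroup.mem_zpowers a) E) i
  obtain ⟨R, hR⟩ := (IsPGroup.to_sup_of_normal_right' hBp hAp hle).exists_le_sylow
  have haR : a ∈ (R : Subgroup ↥(Cfsg.SU 3 F q)) :=
    hR (le_sup_right (a := Subgroup.zpowers b) (Subgroup.mem_zpowers a))
  have hbR : b ∈ (R : Subgroup ↥(Cfsg.SU 3 F q)) :=
    hR (le_sup_left (b := Subgroup.zpowers a) (Subgroup.mem_zpowers b))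
  have hRc : Nat.card (R : Subgroup ↥(Cfsg.SU 3 F q)) = 2 ^ (k + 2) := by
    have hqq : q ≤ q ^ 2 := Nat.le_self_pow two_ne_zero q
    have hcard : Nat.card (Cfsg.SU 3 F q) = 2 ^ (k + 2) * (q ^ 3 * (o * o) * m' * (q ^ 2 - q + 1)) := by
      refine Nat.eq_of_mul_eq_mul_left (show 0 < q + 1 by omega) ?_
      have hq3 : q ^ 3 + 1 = (q + 1) * (q ^ 2 - q + 1) := by
        zify [hqq]
        ring
      rw [card_SU3 hσ, hfac, hq3, ho]
      ring
    have h0 : (q ^ 2 - q + 1) % 2 = 1 := by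
      have : q ^ 2 % 2 = 1 := by rw [Nat.pow_mod, show q % 2 = 1 by omega]
      omega
    have hne : q ^ 3 * (o * o) * m' * (q ^ 2 - q + 1) % 2 = 1 := by
      simp [Nat.mul_mod, Nat.pow_mod, show q % 2 = 1 by omega, show o % 2 = 1 by omega,
        show m' % 2 = 1 by omega, h0]
    rw [Sylow.card_eq_multiplicity, hcard, Nat.factorization_mul (pow_ne_zero _ two_ne_zero) (by omega),
      Finsupp.add_apply, Nat.Prime.factorization_pow Nat.prime_two, Finsupp.single_eq_same,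
      Nat.factorization_eq_zero_of_not_dvd (fun h => by omega), add_zero]
  refine ⟨R, fun h => ?_, sd_sylow_props R hk2 (by norm_num) hE1 hRc haR hbR haN haz hb2 hba ?_ ?_⟩
  · rw [h, Subgroup.card_bot] at hRc
    have := Nat.one_lt_two_pow (n := k + 2) (by omega)
    omega
  · obtain ⟨Q, hQ⟩ := exists_SU_of_gram hσ !![0, 0, 1; 0, -1, 0; 1, 0, 0] (by simp [Matrix.det_fin_three]) (by
      ext i j; fin_cases i <;> fin_cases j <;> simp [Matrix.mul_apply, Fin.sum_univ_three])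
    refine ⟨Q, ?_⟩
    rw [mul_inv_eq_iff_eq_mul]
    apply ext_val
    rw [val_mul, val_mul, hQ, hakv, hbv]
    ext i j
    fin_cases i <;> fin_cases j <;> simp [Matrix.mul_apply, Fin.sum_univ_three]
  · obtain ⟨i, hi⟩ : ∃ i : F, i = l ^ 2 ^ (k - 1) := ⟨_, rfl⟩
    have hi2 : i * i = -1 := by rw [hi, ← pow_add, ← two_mul, ← pow_succ', Nat.sub_add_cancel (by omega), hlz]
    have hiE : l' ^ 2 ^ (k - 1) = -i := by
      have h1 : i * l' ^ 2 ^ (k - 1) = 1 := by
        rw [hi, ← mul_pow, hll]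
        exact Even.neg_one_pow (Nat.even_pow.2 ⟨even_two, by omega⟩)
      linear_combination (-i) * h1 + l' ^ 2 ^ (k - 1) * hi2
    have hσi : σ i = i := by
      rw [hi, map_pow, hσl, Even.neg_pow (Nat.even_pow.2 ⟨even_two, by omega⟩)]
    have hi0 : i ≠ 0 := by rw [hi]; exact pow_ne_zero _ hl0
    obtain ⟨y, hy⟩ : ∃ y : F, y = i / l := ⟨_, rfl⟩
    have hy0 : y ≠ 0 := by rw [hy]; exact div_ne_zero hi0 hl0
    have hσy : σ y = -y := by rw [hy, map_div₀, hσi, hσl, div_neg]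
    obtain ⟨S, hS⟩ := hmk !![1, -(2 * y)⁻¹; y, 2⁻¹]
      (by simp [Matrix.det_fin_two]; field_simp; norm_num [h2])
      (by
        ext i j; fin_cases i <;> fin_cases j <;> simp [Matrix.mul_apply, Fin.sum_univ_two, hσy, map_ofNat]
        all_goals (field_simp; ring))
    refine ⟨S, ?_⟩
    rw [mul_inv_eq_iff_eq_mul]
    apply ext_val
    rw [val_mul, val_mul, val_mul, hS, hapow, ← hi, hiE, ha, hb, ← hphi, ← hphi, ← hphi]
    congr 1
    have hl'v : l' = -l⁻¹ := by field_simp; linear_combination hll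
    rw [hy, hl'v]
    ext a b
    fin_cases a <;> fin_cases b <;> simp [Matrix.mul_apply, Fin.sum_univ_two] <;> field_simp <;>
      first
        | linear_combination hi2
        | linear_combination -hi2
        | ring

theorem psu3_props (hodd : q % 2 = 1) : SylowProps ↥(Cfsg.SU 3 F q) := by
  rcases (show q % 4 = 1 ∨ q % 4 = 3 by omega) with h | h
  · exact props_semidihedral hσ h
  · exact props_wreathed hσ h

omit hσ in
theorem psu3_simple (hF : Fintype.card F = q ^ 2) (hodd : q % 2 = 1) (S : Sylow 2 (Cfsg.PSU 3 F q)) :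
    (Cfsg.groupFusionSystem (S : Subgroup (Cfsg.PSU 3 F q))).IsSimple 2 := by
  haveI : Fact (Nat.Prime 2) := ⟨Nat.prime_two⟩
  obtain ⟨p, e, σ, -, -, -, -, hσ⟩ := exists_usigma hF
  obtain ⟨R, hR1, hN, hsc⟩ := psu3_props hσ hodd
  refine simple_of_lift (QuotientGroup.mk' (Subgroup.center ↥(Cfsg.SU 3 F q))) (QuotientGroup.mk'_surjective _)
    (fun k hk h => ?_) (fun k hk hd => ?_) R hR1 hN hsc S
  · exact Subgroup.mem_center_iff.1 ((QuotientGroup.eq_one_iff k).1 hk) h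
  · have hmem : k ∈ Subgroup.center ↥(Cfsg.SU 3 F q) := (QuotientGroup.eq_one_iff k).1 hk
    have h3 : orderOf (⟨k, hmem⟩ : Subgroup.center ↥(Cfsg.SU 3 F q)) ∣ 3 :=
      orderOf_dvd_natCard (⟨k, hmem⟩ : Subgroup.center ↥(Cfsg.SU 3 F q)) |>.trans
        ((UCount.card_center_SU hσ (n := 3) (by norm_num)) ▸ Nat.gcd_dvd_left 3 (q + 1))
    rw [Subgroup.orderOf_mk] at h3
    have := hd.trans h3
    omega

end Cfsg.Agent.Local.FS.PSU3Simple
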