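import Cfsg.Agent.Lib.Local.FS.Aut
import Cfsg.Agent.Lib.Fusion.Basic

set_option autoImplicit false

namespace Cfsg.Agent.Local.FS

open Cfsg Cfsg.FusionSystem Cfsg.Agent.Fusion

variable {Ω : Type*} [Group Ω] {S : Subgroup Ω} [Finite S] {F : FusionSystem S}
  {P Q R : Subgroup Ω} {f : Ω → Ω} {p : ℕ}

/-- Normalisers grow in a finite `p`-group. -/
theorem lt_inf_normalizer [Fact p.Prime] (hS : IsPGroup p S) (hPR : P < R) (hR : R ≤ S) :
    P < R ⊓ Subgroup.normalizer (P : Set Ω) := by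
  haveI := finite_of_le hR
  haveI : Group.IsNilpotent R :=
    IsPGroup.isNilpotent (p := p) (hS.to_le hR)
  refine lt_of_le_not_ge (le_inf hPR.le Subgroup.le_normalizer) fun hle => hPR.ne ?_
  have h1 : Subgroup.normalizer ((P.subgroupOf R : Subgroup R) : Set R) = P.subgroupOf R := by
    refine le_antisymm (fun x hx => ?_) Subgroup.le_normalizer
    rw [← Subgroup.subgroupOf_normalizer_eq hPR.le] at hx
    exact hle ⟨x.2, hx⟩
  have h2 : P.subgroupOf R = ⊤ :=
    normalizerCondition_iff_only_full_group_self_normalizing.1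
      Group.normalizerCondition_of_isNilpotent _ h1
  exact le_antisymm hPR.le (Subgroup.subgroupOf_eq_top.1 h2)

theorem lt_normalizerIn [Fact p.Prime] (hS : IsPGroup p S) (hP : P < S) : P < normalizerIn S P :=
  lt_inf_normalizer hS hP le_rfl

theorem card_lt_of_lt (hPR : P < R) (hR : R ≤ S) : Nat.card P < Nat.card R := by
  haveI := finite_of_le hR
  refine lt_of_le_of_ne (Subgroup.card_le_of_le hPR.le) fun h => hPR.ne ?_
  exact Subgroup.eq_of_le_of_card_ge hPR.le h.ge

theorem mem_normalizer_of_conj_mem (hQ : Q ≤ S) {s : Ω} (h : ∀ y ∈ Q, s * y * s⁻¹ ∈ Q) :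
    s ∈ Subgroup.normalizer (Q : Set Ω) := by
  haveI := finite_of_le hQ
  refine Subgroup.mem_normalizer_iff.2 fun x => ⟨h x, fun hx => ?_⟩
  let φ : Q → Q := fun y => ⟨s * y * s⁻¹, h y y.2⟩
  have hinj : Function.Injective φ := fun a b hab =>
    Subtype.ext (mul_left_cancel (mul_right_cancel (congrArg Subtype.val hab)))
  obtain ⟨y, hy⟩ := (Finite.injective_iff_surjective.1 hinj) ⟨_, hx⟩
  exact mul_left_cancel (mul_right_cancel (congrArg Subtype.val hy)) ▸ y.2

/-! ### `Aut_S(P)` -/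

/-- `N_S(P) → Aut(P)`. -/
def normalizerHomS (S P : Subgroup Ω) : normalizerIn S P →* MulAut P :=
  (Subgroup.normalizerMonoidHom P).comp (Subgroup.inclusion inf_le_right)

theorem normalizerHomS_apply (g : normalizerIn S P) {x : Ω} (hx : x ∈ P) :
    av (normalizerHomS S P g) x = g * x * (g : Ω)⁻¹ := av_apply _ hx

theorem range_normalizerHomS : (normalizerHomS S P).range = autInducedBy S P := by
  ext α
  rw [mem_autInducedBy, MonoidHom.mem_range]
  constructor
  · rintro ⟨g, rfl⟩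
    exact ⟨g, g.2.1, fun x hx => normalizerHomS_apply g hx⟩
  · rintro ⟨g, hg, h⟩
    exact ⟨⟨g, hg, mem_normalizer_of_conj_aut h⟩,
      aut_ext fun x hx => by rw [normalizerHomS_apply _ hx, h x hx]⟩

theorem map_ker_normalizerHomS :
    (normalizerHomS S P).ker.map (normalizerIn S P).subtype = centralizerIn S P := by
  ext g
  rw [Subgroup.mem_map, mem_centralizerIn]
  constructor
  · rintro ⟨g, hg, rfl⟩
    refine ⟨g.2.1, fun x hx => ?_⟩
    have h := normalizerHomS_apply g hx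
    rw [MonoidHom.mem_ker.1 hg, av_one hx] at h
    exact eq_mul_inv_iff_mul_eq.1 h
  · rintro ⟨hg, h⟩
    refine ⟨⟨g, hg, (centralizerIn_le_normalizerIn (mem_centralizerIn.2 ⟨hg, h⟩)).2⟩, ?_, rfl⟩
    refine MonoidHom.mem_ker.2 (aut_ext fun x hx => ?_)
    rw [normalizerHomS_apply _ hx, av_one hx]
    show g * x * g⁻¹ = x
    rw [← h x hx]; group

theorem card_autS_mul :
    Nat.card ↥(autInducedBy S P) * Nat.card ↥(centralizerIn S P) = Nat.card ↥(normalizerIn S P) := by
  rw [← range_normalizerHomS, ← map_ker_normalizerHomS, ← Subgroup.index_ker,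
    ← Nat.card_congr ((normalizerHomS S P).ker.equivMapOfInjective _
      (normalizerIn S P).subtype_injective).toEquiv]
  exact (normalizerHomS S P).ker.index_mul_card

theorem isPGroup_autS (hS : IsPGroup p S) : IsPGroup p ↥(autInducedBy S P) := by
  rw [← range_normalizerHomS]
  exact (hS.to_le inf_le_left).of_surjective _ (normalizerHomS S P).rangeRestrict_surjective

theorem card_autGroup_eq (h : F.IsConj P Q) :
    Nat.card ↥(F.autGroup P) = Nat.card ↥(F.autGroup Q) := by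
  obtain ⟨f, hf, hi⟩ := isConj_iff.1 h
  obtain ⟨e, he⟩ := exists_equiv hf hi
  rw [← map_autGroup hf hi he]
  exact Nat.card_congr ((F.autGroup P).equivMapOfInjective _ (MulAut.congr e).injective).toEquiv

/-- Full automisation in terms of `SylIn`. -/
theorem fa_iff [Fact p.Prime] :
    F.IsFullyAutomized p P ↔ P ≤ S ∧ SylIn p (autInducedBy S P) (F.autGroup P) := by
  refine and_congr_right fun hP => ?_
  haveI := mulAut_finite_of_le hP
  refine ⟨fun ⟨R, hR⟩ => ⟨autInducedBy_le_autGroup hP, ?_, ?_⟩, fun h => h.exists_sylow_subgroupOf⟩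
  · exact ((hR ▸ R.isPGroup' : IsPGroup p ↥((autInducedBy S P).subgroupOf (F.autGroup P)))).of_equiv
      (Subgroup.subgroupOfEquivOfLe (autInducedBy_le_autGroup hP))
  · rw [Subgroup.relIndex, ← hR]
    exact R.not_dvd_index

/-! ### Consequences of receptivity -/

/-- A receptive subgroup is fully centralised. -/
theorem fc_of_receptive (h : F.IsReceptive Q) : F.IsFullyCentralized Q := by
  obtain ⟨hQ, h⟩ := receptive_iff.1 h
  refine ⟨hQ, fun R hR => ?_⟩
  obtain ⟨f, hf, hi⟩ := isConj_iff.1 (isConj_symm hR)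
  obtain ⟨g, hg, hgf⟩ := h R f hf hi
  refine (hg.restrict centralizerIn_le_Nf).card_le fun x hx => ?_
  have hm := hg.mem_centralizer (le_Nf hf) (centralizerIn_le_Nf hx) (mem_centralizerIn.1 hx).2
  rwa [im_congr hgf, hi] at hm

/-- The basic extension lemma. -/
theorem exists_map_normalizer [Fact p.Prime] (hS : IsPGroup p S) (h₁ : F.IsFullyAutomized p P)
    (h₂ : F.IsReceptive P) (hQ : F.IsConj Q P) :
    ∃ f, Map F (normalizerIn S Q) f ∧ (∀ x ∈ normalizerIn S Q, f x ∈ normalizerIn S P) ∧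
      im Q f = P := by
  obtain ⟨hP, h₂⟩ := receptive_iff.1 h₂
  have hQS := (isConj_le hQ).1
  haveI := mulAut_finite_of_le hP
  haveI := mulAut_finite_of_le hQS
  obtain ⟨f, hf, hi⟩ := isConj_iff.1 hQ
  obtain ⟨e, he⟩ := exists_equiv hf hi
  have hA : IsPGroup p ↥((autInducedBy S Q).map (MulAut.congr e).toMonoidHom) :=
    (isPGroup_autS hS).map _
  have hAle : (autInducedBy S Q).map (MulAut.congr e).toMonoidHom ≤ F.autGroup P := by
    rw [← map_autGroup hf hi he]
    exact Subgroup.map_mono (autInducedBy_le_autGroup hQS)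
  obtain ⟨α, hα, hle⟩ := (fa_iff.1 h₁).2.conj_le hA hAle
  have hmem : ∀ x ∈ Q, f x ∈ P := fun x hx => hi.le (mem_im_of_mem hx)
  have hf' : Map F Q (av α ∘ f) := hf.comp (map_of_mem_autGroup hP hα) hmem
  have hi' : im Q (av α ∘ f) = P := by rw [hf.im_comp, hi, im_av]
  have hN : normalizerIn S Q ≤ Nf S Q (av α ∘ f) := by
    intro g hg
    obtain ⟨β, hβ, hβS⟩ := exists_aut_conj hg.2
    obtain ⟨h, hhS, hh⟩ := mem_autInducedBy.1
      (hle (conj_mem_cj (g := α) ⟨β, hβS S hg.1, rfl⟩))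
    refine ⟨hg.1, hg.2, h, hhS, fun x hx => ?_⟩
    have h1 := hh _ (av_mem α (hmem x hx))
    rw [av_mul _ _ (av_mem α (hmem x hx)), av_inv_av α (hmem x hx), av_mul _ _ (hmem x hx),
      show ((MulAut.congr e).toMonoidHom β : MulAut P) = MulAut.congr e β from rfl,
      av_congr_apply he β hx, hβ x hx] at h1
    exact h1
  obtain ⟨g, hg, hgf⟩ := h₂ Q _ hf' hi'
  refine ⟨g, hg.restrict hN, fun x hx => ?_, by rw [im_congr hgf, hi']⟩
  have := hg.mem_normalizer (le_Nf hf') (hN hx) hx.2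
  rwa [im_congr hgf, hi'] at this

theorem card_centralizerIn_le_of_map {T : Subgroup Ω} (hf : Map F T f) (hQT : Q ≤ T)
    (hC : centralizerIn S Q ≤ T) :
    Nat.card ↥(centralizerIn S Q) ≤ Nat.card ↥(centralizerIn S (im Q f)) :=
  (hf.restrict hC).card_le fun _ hx => hf.mem_centralizer hQT (hC hx) (mem_centralizerIn.1 hx).2

theorem exists_fullyNormalized (hP : P ≤ S) : ∃ Q, F.IsConj P Q ∧ F.IsFullyNormalized Q := by
  classical
  let p' : ℕ → Prop := fun n => ∃ Q, F.IsConj P Q ∧ Nat.card ↥(normalizerIn S Q) = n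
  have hb : ∀ n, p' n → n ≤ Nat.card S := by
    rintro n ⟨Q, -, rfl⟩; exact Subgroup.card_le_of_le inf_le_left
  have h0 : p' (Nat.card ↥(normalizerIn S P)) := ⟨P, isConj_refl hP, rfl⟩
  obtain ⟨Q, hQ, hc⟩ := Nat.findGreatest_spec (hb _ h0) h0
  refine ⟨Q, hQ, (isConj_le hQ).2, fun R hR => ?_⟩
  rw [hc]
  exact Nat.le_findGreatest (hb _ ⟨R, isConj_trans hQ hR, rfl⟩) ⟨R, isConj_trans hQ hR, rfl⟩

/-- A subgroup fully normalised in a saturated system is fully centralised and fully automised. -/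
theorem fc_fa_of_fn [Fact p.Prime] (hS : IsPGroup p S) (hF : F.IsSaturated p)
    (hQ : F.IsFullyNormalized Q) : F.IsFullyCentralized Q ∧ F.IsFullyAutomized p Q := by
  obtain ⟨P, hQP, hfa, hrec⟩ := hF Q hQ.1
  obtain ⟨f, hf, hmem, hi⟩ := exists_map_normalizer hS hfa hrec hQP
  have hle := le_normalizerIn hQ.1
  have hN1 : Nat.card ↥(normalizerIn S Q) ≤ Nat.card ↥(normalizerIn S P) := hf.card_le hmem
  have hN2 := hQ.2 P hQP
  have hC1 : Nat.card ↥(centralizerIn S Q) ≤ Nat.card ↥(centralizerIn S P) := by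
    rw [← hi]; exact card_centralizerIn_le_of_map hf hle centralizerIn_le_normalizerIn
  have hC2 : Nat.card ↥(centralizerIn S P) ≤ Nat.card ↥(centralizerIn S Q) := by
    obtain ⟨g, hg, hgf, hfg, -⟩ := hf.exists_inv
    have hsub : centralizerIn S P ≤ im (normalizerIn S Q) f := by
      intro y hy
      exact hf.mem_im.2 (hf.surj_of_card_le inf_le_left hmem hN2 y (centralizerIn_le_normalizerIn hy))
    have hPle : P ≤ im (normalizerIn S Q) f := hi ▸ im_mono hle
    have h1 := card_centralizerIn_le_of_map hg hPle hsub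
    have h2 : im P g = Q := by
      refine (hg.restrict hPle).im_eq (fun y hy => ?_) fun x hx => ⟨f x, hi.le (mem_im_of_mem hx), hgf x (hle hx)⟩
      obtain ⟨x, hx, rfl⟩ := (hf.restrict hle).mem_im.1 (hi.ge hy)
      rw [hgf x (hle hx)]; exact hx
    rwa [h2] at h1
  refine ⟨⟨hQ.1, fun R hR => ((fc_of_receptive hrec).2 R (isConj_trans (isConj_symm hQP) hR)).trans hC2⟩, ?_⟩
  rw [fa_iff]
  haveI := mulAut_finite_of_le hQ.1
  haveI := mulAut_finite_of_le (isConj_le hQP).2
  refine ⟨hQ.1, autInducedBy_le_autGroup hQ.1, isPGroup_autS hS, ?_⟩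
  have hcard : Nat.card ↥(autInducedBy S Q) = Nat.card ↥(autInducedBy S P) := by
    have a := card_autS_mul (S := S) (P := Q)
    rw [le_antisymm hN1 hN2, le_antisymm hC1 hC2, ← card_autS_mul (S := S) (P := P)] at a
    exact Nat.eq_of_mul_eq_mul_right Nat.card_pos a
  have hP := (fa_iff.1 hfa).2
  intro hd
  apply hP.not_dvd
  have e1 := Subgroup.relIndex_mul_relIndex ⊥ (autInducedBy S Q) (F.autGroup Q) bot_le
    (autInducedBy_le_autGroup hQ.1)
  have e2 := Subgroup.relIndex_mul_relIndex ⊥ (autInducedBy S P) (F.autGroup P) bot_le hP.le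
  simp only [Subgroup.relIndex_bot_left] at e1 e2
  rw [card_autGroup_eq hQP, ← e2, hcard] at e1
  exact Nat.eq_of_mul_eq_mul_left Nat.card_pos e1 ▸ hd

/-- A fully centralised subgroup of a saturated system is receptive. -/
theorem receptive_of_fc [Fact p.Prime] (hS : IsPGroup p S) (hF : F.IsSaturated p)
    (hR : F.IsFullyCentralized R) : F.IsReceptive R := by
  refine receptive_iff.2 ⟨hR.1, fun X f hf hi => ?_⟩
  obtain ⟨P, hRP, hfa, hrec⟩ := hF R hR.1
  obtain ⟨g, hg, hgmem, hgi⟩ := exists_map_normalizer hS hfa hrec hRP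
  have hle := le_normalizerIn hR.1
  have hf' : Map F X (g ∘ f) := hf.comp hg fun x hx => hle (hi.le (mem_im_of_mem hx))
  have hi' : im X (g ∘ f) = P := by rw [hf.im_comp, hi, hgi]
  obtain ⟨θ, hθ, hθf⟩ := (receptive_iff.1 hrec).2 X _ hf' hi'
  -- the centraliser of `P` is covered by `g`
  have hcov : ∀ y ∈ centralizerIn S P, ∃ x ∈ normalizerIn S R, g x = y := by
    intro y hy
    obtain ⟨x, hx, he⟩ := (hg.restrict centralizerIn_le_normalizerIn).surj_of_card_le inf_le_left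
      (fun x hx => hgi ▸ hg.mem_centralizer hle (centralizerIn_le_normalizerIn hx) (mem_centralizerIn.1 hx).2)
      (hR.2 P hRP) y hy
    exact ⟨x, centralizerIn_le_normalizerIn hx, he⟩
  have hNle : Nf S X f ≤ Nf S X (g ∘ f) := by
    intro a ha
    obtain ⟨haS, han, h, hh, hah⟩ := ha
    have hmemR : ∀ x ∈ X, f x ∈ R := fun x hx => hi.le (mem_im_of_mem hx)
    have hhN : h ∈ normalizerIn S R := by
      refine ⟨hh, mem_normalizer_of_conj_mem hR.1 fun y hy => ?_⟩
      obtain ⟨x, hx, rfl⟩ := hf.mem_im.1 (hi.ge hy)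
      rw [← hah x hx]; exact hmemR _ (conj_mem_of_normalizer han hx)
    refine ⟨haS, han, g h, hg.mem hhN, fun x hx => ?_⟩
    show g (f (a * x * a⁻¹)) = g h * g (f x) * (g h)⁻¹
    rw [hah x hx, hg.map_conj hhN (hle (hmemR x hx))]
  have hmem : ∀ a ∈ Nf S X f, θ a ∈ im (normalizerIn S R) g := by
    intro a ha
    obtain ⟨haS, han, h, hh, hah⟩ := ha
    have hmemR : ∀ x ∈ X, f x ∈ R := fun x hx => hi.le (mem_im_of_mem hx)
    have hhN : h ∈ normalizerIn S R := by
      refine ⟨hh, mem_normalizer_of_conj_mem hR.1 fun y hy => ?_⟩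
      obtain ⟨x, hx, rfl⟩ := hf.mem_im.1 (hi.ge hy)
      rw [← hah x hx]; exact hmemR _ (conj_mem_of_normalizer han hx)
    have ha' := hNle ⟨haS, han, h, hh, hah⟩
    have hc : (g h)⁻¹ * θ a ∈ centralizerIn S P := by
      refine mem_centralizerIn.2 ⟨S.mul_mem (S.inv_mem (hg.mem hhN)) (hθ.mem ha'), fun y hy => ?_⟩
      obtain ⟨x, hx, rfl⟩ := hf'.mem_im.1 (hi'.ge hy)
      have h1 : θ (a * x * a⁻¹) = θ a * θ x * (θ a)⁻¹ := hθ.map_conj ha' (le_Nf hf' hx)
      rw [hθf _ (conj_mem_of_normalizer han hx), hθf x hx, Function.comp_apply, hah x hx,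
        hg.map_conj hhN (hle (hmemR x hx)), eq_mul_inv_iff_mul_eq] at h1
      simp only [Function.comp_apply] at h1 ⊢
      rw [mul_assoc (g h)⁻¹, ← h1]; group
    obtain ⟨c, hc', hce⟩ := hcov _ hc
    exact hg.mem_im.2 ⟨h * c, Subgroup.mul_mem _ hhN hc', by rw [hg.map_mul hhN hc', hce]; group⟩
  obtain ⟨g', hg', hg'g, -, -⟩ := hg.exists_inv
  refine ⟨g' ∘ θ, (hθ.restrict hNle).comp hg' hmem, fun x hx => ?_⟩
  show g' (θ x) = f x
  rw [hθf x hx]
  exact hg'g _ (hle (hi.le (mem_im_of_mem hx)))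

/-- Into a fully normalised subgroup the normaliser maps. -/
theorem exists_map_normalizer_fn [Fact p.Prime] (hS : IsPGroup p S) (hF : F.IsSaturated p)
    (hP : F.IsFullyNormalized P) (hQ : F.IsConj Q P) :
    ∃ f, Map F (normalizerIn S Q) f ∧ (∀ x ∈ normalizerIn S Q, f x ∈ normalizerIn S P) ∧
      im Q f = P :=
  exists_map_normalizer hS (fc_fa_of_fn hS hF hP).2
    (receptive_of_fc hS hF (fc_fa_of_fn hS hF hP).1) hQ

theorem av_pow {N : Subgroup Ω} {β : MulAut N} {α : MulAut Q} (hQN : Q ≤ N)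
    (h : ∀ x ∈ Q, av β x = av α x) (n : ℕ) : ∀ x ∈ Q, av (β ^ n) x = av (α ^ n) x := by
  induction n with
  | zero => intro x hx; rw [pow_zero, pow_zero, av_one (hQN hx), av_one hx]
  | succ n ih =>
    intro x hx
    rw [pow_succ, pow_succ, av_mul _ _ (hQN hx), av_mul _ _ hx, h x hx, ih _ (av_mem α hx)]

theorem fn_self : F.IsFullyNormalized S :=
  ⟨le_rfl, fun Q _ => Subgroup.card_le_of_le (le_inf inf_le_left (inf_le_left.trans Subgroup.le_normalizer))⟩

/-- Saturation from `S` fully automised and receptivity of the fully normalised subgroups. -/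
theorem fa_of_receptive_fn [Fact p.Prime] (hS : IsPGroup p S) (hfa : F.IsFullyAutomized p S)
    (hrec : ∀ P : Subgroup Ω, F.IsFullyNormalized P → F.IsReceptive P) :
    ∀ Q : Subgroup Ω, F.IsFullyNormalized Q → F.IsFullyAutomized p Q := by
  suffices ∀ n : ℕ, ∀ Q : Subgroup Ω, Nat.card S - Nat.card Q = n →
      F.IsFullyNormalized Q → F.IsFullyAutomized p Q from fun Q hQ => this _ Q rfl hQ
  intro n
  induction n using Nat.strong_induction_on with
  | _ n ih =>
  intro Q hn hQ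
  rcases eq_or_lt_of_le hQ.1 with rfl | hlt
  · exact hfa
  haveI := mulAut_finite_of_le hQ.1
  obtain ⟨U, hU, hTU⟩ := exists_sylIn_ge (isPGroup_autS (S := S) (P := Q) hS)
    (autInducedBy_le_autGroup (F := F) hQ.1)
  by_cases hTU' : autInducedBy S Q = U
  · exact fa_iff.2 ⟨hQ.1, hTU' ▸ hU⟩
  exfalso
  obtain ⟨α, ⟨hαU, hαN⟩, hαT⟩ :=
    SetLike.exists_of_lt (SylIn.normalizer_growth hTU hTU' hU.isPGroup)
  have hα : α ∈ F.autGroup Q := hU.le hαU
  have hleQ := le_normalizerIn hQ.1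
  have hαm := map_of_mem_autGroup hQ.1 hα
  have hNf : normalizerIn S Q ≤ Nf S Q (av α) := by
    intro g hg
    obtain ⟨β, hβ, hβS⟩ := exists_aut_conj hg.2
    obtain ⟨h, hhS, hh⟩ := mem_autInducedBy.1
      ((Subgroup.mem_normalizer_iff.1 hαN β).1 (hβS S hg.1))
    refine ⟨hg.1, hg.2, h, hhS, fun x hx => ?_⟩
    have h1 := hh _ (av_mem α hx)
    rw [av_mul _ _ (av_mem α hx), av_inv_av α hx, av_mul _ _ hx, hβ x hx] at h1
    exact h1
  obtain ⟨g, hg, hgf⟩ := (receptive_iff.1 (hrec Q hQ)).2 Q _ hαm (im_av α)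
  have hgN := hg.restrict hNf
  have hgQ : im Q g = Q := (im_congr hgf).trans (im_av α)
  haveI := finite_of_le (S := S) (T := normalizerIn S Q) inf_le_left
  have hgi : im (normalizerIn S Q) g = normalizerIn S Q := by
    refine Subgroup.eq_of_le_of_card_ge (im_le_iff.2 fun x hx => ?_) (by rw [hgN.card_im])
    have := hgN.mem_normalizer hleQ hx hx.2
    rwa [hgQ] at this
  obtain ⟨β, hβ, hβg⟩ := exists_aut hgN hgi
  haveI := mulAut_finite_of_le (S := S) (P := normalizerIn S Q) inf_le_left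
  -- make β a p-element
  obtain ⟨a, ha⟩ := hU.isPGroup ⟨α, hαU⟩
  have ha' : α ^ p ^ a = 1 := congrArg Subtype.val ha
  set o := orderOf β
  set k := o.factorization p
  set m := o / p ^ k
  have hco : Nat.Coprime p m := Nat.coprime_ordCompl Fact.out (orderOf_pos β).ne'
  have hβm : (β ^ m) ^ p ^ k = 1 := by
    rw [← pow_mul, mul_comm, Nat.ordProj_mul_ordCompl_eq_self o p]
    exact pow_orderOf_eq_one β
  have hγT : α ^ m ∉ autInducedBy S Q := by
    intro hmem
    apply hαT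
    obtain ⟨j, hj⟩ := exists_pow_eq_self_of_coprime (x := α)
      ((hco.symm.pow_right a).coprime_dvd_right (orderOf_dvd_of_pow_eq_one ha'))
    exact hj ▸ Subgroup.pow_mem _ hmem j
  have hext : ∀ x ∈ Q, av (β ^ m) x = av (α ^ m) x :=
    av_pow hleQ (fun x hx => by rw [hβg x (hleQ hx), hgf x hx]) m
  -- transfer to a fully normalised conjugate of N
  have hNS : normalizerIn S Q ≤ S := inf_le_left
  obtain ⟨N', hNN', hN'⟩ := exists_fullyNormalized (F := F) hNS
  have hcard : Nat.card Q < Nat.card ↥(normalizerIn S Q) :=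
    card_lt_of_lt (lt_normalizerIn hS hlt) inf_le_left
  have hN'fa : F.IsFullyAutomized p N' := by
    refine ih _ ?_ N' rfl hN'
    have := Subgroup.card_le_of_le (hN'.1)
    rw [isConj_card hNN'] at hcard
    omega
  obtain ⟨f, hf, hfi⟩ := isConj_iff.1 hNN'
  obtain ⟨e, he⟩ := exists_equiv hf hfi
  haveI := mulAut_finite_of_le hN'.1
  have hz : Subgroup.zpowers (MulAut.congr e (β ^ m)) ≤ F.autGroup N' := by
    rw [Subgroup.zpowers_le]
    exact congr_mem_autGroup hf hfi he (Subgroup.pow_mem _ hβ m)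
  have hzp : IsPGroup p ↥(Subgroup.zpowers (MulAut.congr e (β ^ m))) := by
    have : orderOf (MulAut.congr e (β ^ m)) ∣ p ^ k := orderOf_dvd_of_pow_eq_one
      (by rw [← map_pow, hβm, map_one])
    obtain ⟨j, -, hj⟩ := (Nat.dvd_prime_pow Fact.out).1 this
    exact IsPGroup.of_card ((Nat.card_zpowers _).trans hj)
  obtain ⟨x, hx, hxle⟩ := (fa_iff.1 hN'fa).2.conj_le hzp hz
  obtain ⟨s, hs, hsx⟩ := mem_autInducedBy.1 (hxle (conj_mem_cj (Subgroup.mem_zpowers _)))
  have hfm : ∀ y ∈ normalizerIn S Q, f y ∈ N' := fun y hy => hfi.le (mem_im_of_mem hy)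
  set χ := av x ∘ f with hχdef
  have hχ : Map F (normalizerIn S Q) χ := hf.comp (map_of_mem_autGroup hN'.1 hx) hfm
  have hχi : im (normalizerIn S Q) χ = N' := by rw [hχdef, hf.im_comp, hfi, im_av]
  have hkey : ∀ y ∈ normalizerIn S Q, χ (av (β ^ m) y) = s * χ y * s⁻¹ := by
    intro y hy
    have h1 := hsx _ (av_mem x (hfm y hy))
    rw [av_mul _ _ (av_mem x (hfm y hy)), av_inv_av x (hfm y hy), av_mul _ _ (hfm y hy),
      av_congr_apply he _ hy] at h1
    exact h1
  set Q' := im Q χ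
  have hQQ' : F.IsConj Q Q' := isConj_iff.2 ⟨χ, hχ.restrict hleQ, rfl⟩
  have hQ'S : Q' ≤ S := (isConj_le hQQ').2
  have hsN : s ∈ normalizerIn S Q' := by
    refine ⟨hs, mem_normalizer_of_conj_mem hQ'S fun y hy => ?_⟩
    obtain ⟨z, hz, rfl⟩ := (hχ.restrict hleQ).mem_im.1 hy
    rw [← hkey z (hleQ hz), hext z hz]
    exact mem_im_of_mem (av_mem (α ^ m) hz)
  have hN'eq : N' = normalizerIn S Q' := by
    refine Subgroup.eq_of_le_of_card_ge ?_ ?_
    · rw [← hχi, im_le_iff]
      exact fun y hy => hχ.mem_normalizer hleQ hy hy.2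
    · rw [← isConj_card hNN']; exact hQ.2 Q' hQQ'
  obtain ⟨h, hh, hhs⟩ := hχ.mem_im.1 (show s ∈ im (normalizerIn S Q) χ by rw [hχi, hN'eq]; exact hsN)
  apply hγT
  refine mem_autInducedBy.2 ⟨h, hh.1, fun y hy => ?_⟩
  rw [← hext y hy]
  apply hχ.injOn (av_mem _ (hleQ hy))
    (Subgroup.mul_mem _ (Subgroup.mul_mem _ hh (hleQ hy)) (Subgroup.inv_mem _ hh))
  rw [hkey y (hleQ hy), hχ.map_conj hh (hleQ hy), hhs]

theorem saturated_of_fn [Fact p.Prime] (hS : IsPGroup p S) (hfa : F.IsFullyAutomized p S)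
    (hrec : ∀ P : Subgroup Ω, F.IsFullyNormalized P → F.IsReceptive P) : F.IsSaturated p := by
  intro P hP
  obtain ⟨Q, hQ, hfn⟩ := exists_fullyNormalized (F := F) hP
  exact ⟨Q, hQ, fa_of_receptive_fn hS hfa hrec Q hfn, hrec Q hfn⟩

end Cfsg.Agent.Local.FS
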