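import Cfsg.Agent.Lib.Local.FS.Series

set_option autoImplicit false

namespace Cfsg.Agent.Local.FS

open Cfsg Cfsg.FusionSystem Cfsg.Agent.Fusion
open scoped commutatorElement

variable {Ω : Type*} [Group Ω] {S : Subgroup Ω} [Finite S] {F : FusionSystem S}
  {P Q : Subgroup Ω} {f : Ω → Ω} {p : ℕ}

theorem isConjElt_iff {x y : Ω} :
    F.IsConjElt x y ↔ ∃ f, Map F (Subgroup.zpowers x) f ∧ f x = y := by
  constructor
  · rintro ⟨φ, hφ, he⟩
    exact ⟨fn φ, map_of_mem hφ, by rw [fn_apply φ (Subgroup.mem_zpowers x), he]⟩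
  · rintro ⟨f, ⟨φ, hφ, he⟩, rfl⟩
    exact ⟨φ, hφ, he ⟨x, Subgroup.mem_zpowers x⟩⟩

theorem Map.isConjElt (h : Map F P f) {x : Ω} (hx : x ∈ P) : F.IsConjElt x (f x) :=
  isConjElt_iff.2 ⟨f, h.restrict (Subgroup.zpowers_le.2 hx), rfl⟩

/-- Automorphisms of a fully normalised subgroup: `Aut_S` times `O^p`. -/
theorem exists_autS_mul_residual [Fact p.Prime] (hS : IsPGroup p S) (hF : F.IsSaturated p)
    (hP : F.IsFullyNormalized P) {α : MulAut P} (hα : α ∈ F.autGroup P) :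
    ∃ β ∈ autInducedBy S P, ∃ γ : F.autGroup P, γ ∈ pResidual p ↥(F.autGroup P) ∧ α = β * γ := by
  haveI := mulAut_finite_of_le hP.1
  obtain ⟨-, R, hR⟩ := (fc_fa_of_fn hS hF hP).2
  have h := (pResidual_sup_sylow R).ge (Subgroup.mem_top (⟨α, hα⟩ : F.autGroup P))
  rw [sup_comm, Subgroup.mem_sup_of_normal_right] at h
  obtain ⟨b, hb, c, hc, hbc⟩ := h
  rw [hR, Subgroup.mem_subgroupOf] at hb
  exact ⟨b, hb, c, hc, congrArg Subtype.val hbc.symm⟩

theorem gen_fn [Fact p.Prime] (hP : P = S ∨ F.IsEssential p P) : F.IsFullyNormalized P :=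
  hP.elim (by rintro rfl; exact fn_self) fun h => h.2.1

theorem inv_mul_mem_hyperfocal (hP : P ≤ S) {γ : F.autGroup P}
    (hγ : γ ∈ pResidual p ↥(F.autGroup P)) {x : Ω} (hx : x ∈ P) :
    x⁻¹ * av (γ : MulAut P) x ∈ F.hyperfocalSubgroup p :=
  Subgroup.subset_closure ⟨P, γ, ⟨x, hx⟩, hP, hγ, by rw [av_apply _ hx]⟩

theorem hyperfocal_le : F.hyperfocalSubgroup p ≤ S := by
  refine (Subgroup.closure_le _).2 ?_
  rintro _ ⟨P, α, x, hP, -, rfl⟩
  exact S.mul_mem (S.inv_mem (hP x.2)) (hP (SetLike.coe_mem _))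

/-- The hyperfocal subgroup is normalised by `S`. -/
theorem hyperfocal_conj_mem {s x : Ω} (hs : s ∈ S) (hx : x ∈ F.hyperfocalSubgroup p) :
    s * x * s⁻¹ ∈ F.hyperfocalSubgroup p := by
  have : F.hyperfocalSubgroup p ≤ (F.hyperfocalSubgroup p).comap (MulAut.conj s).toMonoidHom := by
    refine (Subgroup.closure_le _).2 ?_
    rintro _ ⟨P, α, y, hP, hα, rfl⟩
    show s * ((y : Ω)⁻¹ * ((α : MulAut P) y : P)) * s⁻¹ ∈ F.hyperfocalSubgroup p
    have hf : Map F P (fun x => s * x * s⁻¹) := map_conjBy hP hs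
    obtain ⟨e, he⟩ := exists_equiv hf rfl
    have hmap := map_autGroup hf rfl he
    set c : F.autGroup P →* F.autGroup (im P fun x => s * x * s⁻¹) :=
      ((MulAut.congr e).toMonoidHom.comp (F.autGroup P).subtype).codRestrict _
        (fun a => congr_mem_autGroup hf rfl he a.2)
    have hc : c α ∈ pResidual p _ := by
      haveI := mulAut_finite_of_le hP
      have h1 : (pResidual p ↥(F.autGroup P)).map c ≤ pResidual p _ := by
        rw [pResidual, pResidual, MonoidHom.map_closure]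
        refine Subgroup.closure_mono ?_
        rintro _ ⟨g, hg, rfl⟩
        exact Nat.Coprime.coprime_dvd_left (orderOf_map_dvd c g) hg
      exact h1 ⟨α, hα, rfl⟩
    have h2 := inv_mul_mem_hyperfocal (hf.im_le) hc (mem_im_of_mem (f := fun x => s * x * s⁻¹) y.2)
    have h3 : av (MulAut.congr e (α : MulAut P)) (s * (y : Ω) * s⁻¹) = s * av (α : MulAut P) y * s⁻¹ :=
      av_congr_apply (f := fun x => s * x * s⁻¹) he (α : MulAut P) y.2
    change _ * av (MulAut.congr e (α : MulAut P)) _ ∈ _ at h2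
    rw [h3, av_coe] at h2
    convert h2 using 1
    group
  exact this hx

end Cfsg.Agent.Local.FS
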