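import Cfsg.Agent.Lib.Local.FS.Series
import Cfsg.Agent.Lib.Local.FS.Focal

set_option autoImplicit false

namespace Cfsg.Agent.Local.FS

open Cfsg Cfsg.FusionSystem Cfsg.Agent.Fusion

variable {Ω : Type*} [Group Ω] {S : Subgroup Ω} [Finite S] {F : FusionSystem S}
  {T P : Subgroup Ω} {f : Ω → Ω} {p : ℕ}

omit [Finite S] in
theorem sc_quot_conj (hT : F.StronglyClosed T) {a b : Ω} (ha : a ∈ S) (hb : b ∈ T) :
    a⁻¹ * b * a ∈ T := by
  simpa using stronglyClosed_conj_mem hT (S.inv_mem ha) hb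

/-- `f` is congruent modulo `T` to a map defined on `P T`. -/
def QuotMap (F : FusionSystem S) (T P : Subgroup Ω) (f : Ω → Ω) : Prop :=
  ∃ g, Map F (P ⊔ T) g ∧ ∀ x ∈ P, (f x)⁻¹ * g x ∈ T

omit [Finite S] in
theorem quotMap_im_mem (hT : F.StronglyClosed T) {g : Ω → Ω} {Q : Subgroup Ω}
    (hg : Map F (P ⊔ T) g) (hgf : ∀ x ∈ P, (f x)⁻¹ * g x ∈ T) (hm : ∀ x ∈ P, f x ∈ Q) :
    ∀ x ∈ P ⊔ T, g x ∈ Q ⊔ T := by
  refine fun x hx => (hg.im_sup_le.trans (sup_le ?_ ?_)) (mem_im_of_mem hx)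
  · refine im_le_iff.2 fun y hy => ?_
    simpa using Subgroup.mul_mem_sup (hm y hy) (hgf y hy)
  · exact im_le_iff.2 fun y hy =>
      Subgroup.mem_sup_right (stronglyClosed_map hT hg (Subgroup.mem_sup_right hy) hy)

theorem quotMap_closed (hT : F.StronglyClosed T) : IsClosedClass F (QuotMap F T) where
  congr := fun ⟨g, hg, h⟩ he => ⟨g, hg, fun x hx => he x hx ▸ h x hx⟩
  restrict := fun _ ⟨g, hg, h⟩ hR => ⟨g, hg.restrict (sup_le_sup_right hR T), fun x hx => h x (hR hx)⟩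
  comp := by
    rintro P Q f f' hf hf' ⟨g, hg, h⟩ ⟨g', hg', h'⟩ hm
    refine ⟨g' ∘ g, hg.comp hg' (quotMap_im_mem hT hg h hm), fun x hx => ?_⟩
    have hgx : g x = f x * ((f x)⁻¹ * g x) := by group
    show (f' (f x))⁻¹ * g' (g x) ∈ T
    rw [hgx, hg'.map_mul (Subgroup.mem_sup_left (hm x hx)) (Subgroup.mem_sup_right (h x hx)), ← mul_assoc]
    exact T.mul_mem (h' _ (hm x hx)) (stronglyClosed_map hT hg' (Subgroup.mem_sup_right (h x hx)) (h x hx))
  inv := by
    rintro P f f' hf ⟨g, hg, h⟩ hinv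
    obtain ⟨g', hg', hgg, hgg', -⟩ := hg.exists_inv
    have hTim : T ≤ im (P ⊔ T) g := fun y hy => by
      obtain ⟨x, hx, rfl⟩ := (hg.restrict le_sup_right).surj_of_card_le hT.1
        (fun z hz => stronglyClosed_map hT hg (Subgroup.mem_sup_right hz) hz) le_rfl y hy
      exact mem_im_of_mem (Subgroup.mem_sup_right hx)
    have hle : im P f ⊔ T ≤ im (P ⊔ T) g := by
      refine sup_le (im_le_iff.2 fun x hx => ?_) hTim
      have h1 : f x = g x * ((f x)⁻¹ * g x)⁻¹ := by group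
      rw [h1]
      exact Subgroup.mul_mem _ (mem_im_of_mem (Subgroup.mem_sup_left hx))
        (Subgroup.inv_mem _ (hTim (h x hx)))
    refine ⟨g', hg'.restrict hle, fun y hy => ?_⟩
    obtain ⟨x, hx, rfl⟩ := hf.mem_im.1 hy
    have h1 : f x = g x * ((f x)⁻¹ * g x)⁻¹ := by group
    rw [hinv x hx]
    conv in g' (f x) => rw [h1]
    rw [hg'.map_mul (mem_im_of_mem (Subgroup.mem_sup_left hx)) (Subgroup.inv_mem _ (hTim (h x hx))),
      hgg x (Subgroup.mem_sup_left hx), inv_mul_cancel_left]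
    exact stronglyClosed_map hT hg' (Subgroup.inv_mem _ (hTim (h x hx))) (T.inv_mem (h x hx))

variable [Fact p.Prime]

/-- Every map is congruent modulo a strongly closed `T` to a map on a subgroup containing `T`. -/
theorem quotMap_all (hS : IsPGroup p S) (hF : F.IsSaturated p) (hT : F.StronglyClosed T)
    (P : Subgroup Ω) (f : Ω → Ω) (hf : Map F P f) : QuotMap F T P f := by
  have hTn := stronglyClosed_le_normalizer hT
  have htriv : ∀ (Y : Subgroup Ω) (g : Ω → Ω), T ≤ Y → Map F Y g → QuotMap F T Y g := fun Y g h hg =>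
    ⟨g, by rwa [sup_eq_left.2 h], fun x _ => by simp⟩
  suffices hgen : ∀ n, ∀ R, (R = S ∨ F.IsEssential p R) → Nat.card S - Nat.card R = n →
      ∀ α ∈ F.autGroup R, QuotMap F T R (av α) from
    alperin hS hF (quotMap_closed hT) (fun R hR α hα => hgen _ R hR rfl α hα) P f hf
  intro n
  induction n using Nat.strong_induction_on with
  | _ n ih =>
  intro R hR hn α hα
  have hRn := gen_fn hR
  have hmapα := map_of_mem_autGroup hRn.1 hα
  by_cases hTR : T ≤ R
  · exact htriv R _ hTR hmapα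
  have hsucc : ∀ (Y : Subgroup Ω) (g : Ω → Ω), Map F Y g → Nat.card R < Nat.card Y → QuotMap F T Y g := by
    intro Y g hg hY
    refine alperin hS hF (K := fun P f => Nat.card R < Nat.card P → QuotMap F T P f) ?_ ?_ Y g hg hY
    · refine ⟨fun h he hc => (quotMap_closed hT).congr (h hc) he, ?_, ?_, ?_⟩
      · intro X X' f hf h hX hc
        haveI := finite_of_le hf.le
        exact (quotMap_closed hT).restrict hf (h (hc.trans_le (Subgroup.card_le_of_le hX))) hX
      · intro X X' f g hf hg h h' hm hc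
        haveI := finite_of_le hg.le
        exact (quotMap_closed hT).comp hf hg (h hc) (h' (hc.trans_le (hf.card_le hm))) hm
      · intro X f g hf h hg hc
        exact (quotMap_closed hT).inv hf (h (hf.card_im ▸ hc)) hg
    · intro X hX β hβ hc
      have h2 : Nat.card X ≤ Nat.card S :=
        Subgroup.card_le_of_le (hX.elim (fun h => h.le) fun h => h.2.1.1)
      exact ih _ (by omega) X hX rfl β hβ
  haveI := mulAut_finite_of_le hRn.1
  -- the kernel of the action on `R T / T`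
  let A : Subgroup (MulAut R) :=
    { carrier := {β | β ∈ F.autGroup R ∧ ∀ x ∈ R, x⁻¹ * av β x ∈ T}
      one_mem' := ⟨Subgroup.one_mem _, fun x hx => by rw [av_one hx, inv_mul_cancel]; exact T.one_mem⟩
      mul_mem' := by
        rintro β γ ⟨hβ, hβ'⟩ ⟨hγ, hγ'⟩
        refine ⟨Subgroup.mul_mem _ hβ hγ, fun x hx => ?_⟩
        have h1 := T.mul_mem (hγ' x hx) (hβ' _ (av_mem γ hx))
        rw [av_mul _ _ hx]
        simpa [mul_assoc] using h1
      inv_mem' := by
        rintro β ⟨hβ, hβ'⟩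
        refine ⟨Subgroup.inv_mem _ hβ, fun x hx => ?_⟩
        have h1 := hβ' _ (av_mem β⁻¹ hx)
        rw [av_av_inv β hx] at h1
        simpa using T.inv_mem h1 }
  have hnorm : ∀ β ∈ A, α * β * α⁻¹ ∈ A := by
    rintro β ⟨hβ, hβ'⟩
    refine ⟨Subgroup.mul_mem _ (Subgroup.mul_mem _ hα hβ) (Subgroup.inv_mem _ hα), fun x hx => ?_⟩
    have hy : av α⁻¹ x ∈ R := av_mem _ hx
    have h1 := hβ' _ hy
    have h2 := stronglyClosed_map hT hmapα (R.mul_mem (R.inv_mem hy) (av_mem β hy)) h1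
    rw [hmapα.map_mul (R.inv_mem hy) (av_mem β hy), hmapα.map_inv hy, av_av_inv α hx] at h2
    rwa [av_mul _ _ hx, av_mul _ _ hy]
  have hAle : A ≤ F.autGroup R := fun β hβ => hβ.1
  have hsyl := ((fa_iff.1 (fc_fa_of_fn hS hF hRn).2).2).inf_normal hAle (by
    intro γ hγ
    refine Subgroup.mem_normalizer_iff.2 fun β => ?_
    have key : ∀ γ ∈ F.autGroup R, ∀ β ∈ A, γ * β * γ⁻¹ ∈ A := by
      rintro γ hγ β ⟨hβ, hβ'⟩
      refine ⟨Subgroup.mul_mem _ (Subgroup.mul_mem _ hγ hβ) (Subgroup.inv_mem _ hγ), fun x hx => ?_⟩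
      have hy : av γ⁻¹ x ∈ R := av_mem _ hx
      have h1 := hβ' _ hy
      have hmγ := map_of_mem_autGroup hRn.1 hγ
      have h2 := stronglyClosed_map hT hmγ (R.mul_mem (R.inv_mem hy) (av_mem β hy)) h1
      rw [hmγ.map_mul (R.inv_mem hy) (av_mem β hy), hmγ.map_inv hy, av_av_inv γ hx] at h2
      rwa [av_mul _ _ hx, av_mul _ _ hy]
    refine ⟨key γ hγ β, fun h => ?_⟩
    have h1 := key γ⁻¹ (Subgroup.inv_mem _ hγ) _ h
    simpa [mul_assoc] using h1)
  have hcj : cj (autInducedBy S R ⊓ A) α ≤ A := by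
    rintro _ ⟨β, hβ, rfl⟩
    exact hnorm β hβ.2
  obtain ⟨κ, hκ, hle⟩ := hsyl.conj_le (isPGroup_cj (hsyl.isPGroup) α) hcj
  rw [cj_cj] at hle
  set γ := κ * α with hγ
  have hγF : γ ∈ F.autGroup R := Subgroup.mul_mem _ hκ.1 hα
  have hm := map_of_mem_autGroup hRn.1 hγF
  obtain ⟨g, hg, hgγ⟩ := (receptive_iff.1
    (receptive_of_fc hS hF (fc_fa_of_fn hS hF hRn).1)).2 R _ hm (im_av γ)
  set R₁ := (R ⊔ T) ⊓ Subgroup.normalizer (R : Set Ω)
  have hlt : R < R₁ := lt_inf_normalizer hS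
    (lt_of_le_not_ge le_sup_left fun h => hTR (le_sup_right.trans h)) (sup_le hRn.1 hT.1)
  have hR₁ : R₁ ≤ Nf S R (av γ) := by
    rintro s ⟨hsRT, hsn⟩
    have hsS : s ∈ S := sup_le hRn.1 hT.1 hsRT
    obtain ⟨r, hr, t, ht, rfl⟩ := mem_sup_of_normalized hTn hRn.1 hsRT
    have htn : t ∈ Subgroup.normalizer (R : Set Ω) := by
      have := Subgroup.mul_mem _ (Subgroup.inv_mem _ (Subgroup.le_normalizer hr)) hsn
      rwa [inv_mul_cancel_left] at this
    have htN : t ∈ Nf S R (av γ) := by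
      obtain ⟨c, hc, hcS⟩ := exists_aut_conj htn
      have hcA : c ∈ A := by
        refine ⟨autInducedBy_le_autGroup hRn.1 (hcS S (hT.1 ht)), fun x hx => ?_⟩
        rw [hc x hx, show x⁻¹ * (t * x * t⁻¹) = x⁻¹ * t * x * t⁻¹ by group]
        exact T.mul_mem (sc_quot_conj hT (hRn.1 hx) ht) (T.inv_mem ht)
      obtain ⟨h, hh, hhc⟩ := mem_autInducedBy.1
        (Subgroup.mem_inf.1 (hle (conj_mem_cj ⟨hcS S (hT.1 ht), hcA⟩))).1
      refine ⟨hT.1 ht, htn, h, hh, fun x hx => ?_⟩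
      have h1 := hhc _ (av_mem γ hx)
      rw [av_mul _ _ (av_mem γ hx), av_inv_av γ hx, av_mul _ _ hx, hc x hx] at h1
      exact h1
    exact Subgroup.mul_mem _ (le_Nf hm hr) htN
  have h1 : QuotMap F T R₁ g := hsucc R₁ g (hg.restrict hR₁) (card_lt_of_lt hlt
    (inf_le_left.trans (sup_le hRn.1 hT.1)))
  obtain ⟨k, hk, hk'⟩ := (quotMap_closed hT).restrict (hg.restrict hR₁) h1 hlt.le
  refine ⟨k, hk, fun x hx => ?_⟩
  have h2 := hk' x hx
  rw [hgγ x hx, hγ, av_mul _ _ hx] at h2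
  have h3 := hκ.2 _ (av_mem α hx)
  simpa [mul_assoc] using T.mul_mem h3 h2

/-- The product of two strongly closed subgroups. -/
theorem stronglyClosed_sup (hS : IsPGroup p S) (hF : F.IsSaturated p) {U : Subgroup Ω}
    (hT : F.StronglyClosed T) (hU : F.StronglyClosed U) : F.StronglyClosed (T ⊔ U) := by
  refine stronglyClosed_iff.2 ⟨sup_le hT.1 hU.1, fun P f hP hf x hx => ?_⟩
  obtain ⟨g, hg, h⟩ := quotMap_all hS hF hT P f hf
  have hgx : g x ∈ T ⊔ U := by
    obtain ⟨a, ha, b, hb, rfl⟩ := mem_sup_of_normalized (stronglyClosed_le_normalizer hU) hT.1 (hP hx)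
    have haPT : a ∈ P ⊔ T := Subgroup.mem_sup_right ha
    have hbPT : b ∈ P ⊔ T := by
      simpa using (P ⊔ T).mul_mem ((P ⊔ T).inv_mem haPT) (Subgroup.mem_sup_left hx)
    rw [hg.map_mul haPT hbPT]
    exact Subgroup.mul_mem_sup (stronglyClosed_map hT hg haPT ha) (stronglyClosed_map hU hg hbPT hb)
  have h1 := (T ⊔ U).mul_mem hgx ((T ⊔ U).inv_mem (Subgroup.mem_sup_left (h x hx)))
  simpa [mul_assoc] using h1

omit [Fact p.Prime] in
theorem centralizerIn_le_normalizer_of_sc (hT : F.StronglyClosed T) :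
    S ≤ Subgroup.normalizer ((centralizerIn S T : Subgroup Ω) : Set Ω) := by
  intro s hs
  haveI : Finite ↥(centralizerIn S T) := inferInstance
  refine mem_normalizer_of_conj_mem inf_le_left fun y hy => mem_centralizerIn.2
    ⟨S.mul_mem (S.mul_mem hs (mem_centralizerIn.1 hy).1) (S.inv_mem hs), fun t ht => ?_⟩
  have h1 := (mem_centralizerIn.1 hy).2 _ (sc_quot_conj hT hs ht)
  calc t * (s * y * s⁻¹) = s * (s⁻¹ * t * s * y) * s⁻¹ := by group
    _ = s * (y * (s⁻¹ * t * s)) * s⁻¹ := by rw [h1]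
    _ = _ := by group

/-- `T C_S(T)` is strongly closed. -/
theorem stronglyClosed_sup_centralizer (hS : IsPGroup p S) (hF : F.IsSaturated p)
    (hT : F.StronglyClosed T) : F.StronglyClosed (T ⊔ centralizerIn S T) := by
  refine stronglyClosed_iff.2 ⟨sup_le hT.1 inf_le_left, fun P f hP hf x hx => ?_⟩
  obtain ⟨g, hg, h⟩ := quotMap_all hS hF hT P f hf
  have hgx : g x ∈ T ⊔ centralizerIn S T := by
    obtain ⟨a, ha, b, hb, rfl⟩ :=
      mem_sup_of_normalized (centralizerIn_le_normalizer_of_sc hT) hT.1 (hP hx)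
    have haPT : a ∈ P ⊔ T := Subgroup.mem_sup_right ha
    have hbPT : b ∈ P ⊔ T := by
      simpa using (P ⊔ T).mul_mem ((P ⊔ T).inv_mem haPT) (Subgroup.mem_sup_left hx)
    rw [hg.map_mul haPT hbPT]
    refine Subgroup.mul_mem_sup (stronglyClosed_map hT hg haPT ha)
      (mem_centralizerIn.2 ⟨hg.mem hbPT, fun y hy => ?_⟩)
    obtain ⟨z, hz, rfl⟩ := (hg.restrict le_sup_right).surj_of_card_le hT.1
      (fun z hz => stronglyClosed_map hT hg (Subgroup.mem_sup_right hz) hz) le_rfl y hy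
    rw [← hg.map_mul (Subgroup.mem_sup_right hz) hbPT, (mem_centralizerIn.1 hb).2 z hz,
      hg.map_mul hbPT (Subgroup.mem_sup_right hz)]
  have h1 := (T ⊔ centralizerIn S T).mul_mem hgx
    ((T ⊔ centralizerIn S T).inv_mem (Subgroup.mem_sup_left (h x hx)))
  simpa [mul_assoc] using h1

end Cfsg.Agent.Local.FS
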