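import Cfsg.Agent.Lib.Local.FS.Normal

set_option autoImplicit false

namespace Cfsg.Agent.Local.FS

open Cfsg Cfsg.FusionSystem

variable {Ω : Type*} [Group Ω] {S : Subgroup Ω} {F : FusionSystem S} {P Q R : Subgroup Ω}

theorem mem_normalizerHom {φ : P →* Ω} :
    φ ∈ F.normalizerHom Q P ↔ P ≤ normalizerIn S Q ∧ (∀ x : P, φ x ∈ normalizerIn S Q) ∧
      ∃ g, Map F (P ⊔ Q) g ∧ (∀ x : P, φ x = g x) ∧ im Q g = Q := by
  constructor
  · rintro ⟨-, hP, hm, ψ, hψ, h1, h2⟩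
    refine ⟨hP, hm, fn ψ, map_of_mem hψ, fun x => ?_, ?_⟩
    · rw [fn_apply ψ (Subgroup.mem_sup_left x.2)]; exact (h1 x).symm
    · rw [← map_subgroupOf_eq_im le_sup_right (fun x => (fn_coe ψ x).symm), h2]
  · rintro ⟨hP, hm, g, hg, hφ, hgQ⟩
    have hφF : φ ∈ F.Hom P := (hg.restrict le_sup_left).mem_hom hφ
    obtain ⟨ψ, hψ, he⟩ := hg
    refine ⟨hφF, hP, hm, ψ, hψ, fun x => ?_, ?_⟩
    · rw [he, hφ]; rfl
    · rw [map_subgroupOf_eq_im le_sup_right he, hgQ]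

theorem mem_centralizerHom {φ : P →* Ω} :
    φ ∈ F.centralizerHom Q P ↔ P ≤ centralizerIn S Q ∧ (∀ x : P, φ x ∈ centralizerIn S Q) ∧
      ∃ g, Map F (P ⊔ Q) g ∧ (∀ x : P, φ x = g x) ∧ ∀ x ∈ Q, g x = x := by
  constructor
  · rintro ⟨-, hP, hm, ψ, hψ, h1, h2⟩
    refine ⟨hP, hm, fn ψ, map_of_mem hψ, fun x => ?_, fun x hx => ?_⟩
    · rw [fn_apply ψ (Subgroup.mem_sup_left x.2)]; exact (h1 x).symm
    · rw [fn_apply ψ (Subgroup.mem_sup_right hx)]; exact h2 ⟨x, hx⟩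
  · rintro ⟨hP, hm, g, hg, hφ, hgQ⟩
    have hφF : φ ∈ F.Hom P := (hg.restrict le_sup_left).mem_hom hφ
    obtain ⟨ψ, hψ, he⟩ := hg
    refine ⟨hφF, hP, hm, ψ, hψ, fun x => ?_, fun x => ?_⟩
    · rw [he, hφ]; rfl
    · rw [he]; exact hgQ x x.2

/-- The normaliser system `N_F(Q)`. -/
def normSys (F : FusionSystem S) {Q : Subgroup Ω} (hQ : Q ≤ S) :
    FusionSystem (normalizerIn S Q) where
  Hom P := F.normalizerHom Q P
  le_of_mem h := ⟨(mem_normalizerHom.1 h).1, (mem_normalizerHom.1 h).2.1⟩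
  injective_of_mem h := F.injective_of_mem h.1
  conj_mem := by
    intro P g hP hg
    refine mem_normalizerHom.2 ⟨hP, fun x => ?_, fun x => g * x * g⁻¹,
      map_conjBy (sup_le (hP.trans inf_le_left) hQ) hg.1, fun x => rfl, ?_⟩
    · exact Subgroup.mul_mem _ (Subgroup.mul_mem _ hg (hP x.2)) (Subgroup.inv_mem _ hg)
    · refine (map_conjBy (F := F) hQ hg.1).im_eq (fun x hx => conj_mem_of_normalizer hg.2 hx)
        fun y hy => ⟨g⁻¹ * y * g, ?_, by group⟩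
      simpa using conj_mem_of_normalizer (Subgroup.inv_mem _ hg.2) hy
  comp_mem := by
    intro P R φ ψ hφ hψ h
    obtain ⟨hP, -, f, hf, hφf, hfQ⟩ := mem_normalizerHom.1 hφ
    obtain ⟨-, hm, g, hg, hψg, hgQ⟩ := mem_normalizerHom.1 hψ
    refine mem_normalizerHom.2 ⟨hP, fun x => hm _, g ∘ f, hf.comp hg ?_, fun x => ?_, ?_⟩
    · refine fun x hx => (hf.im_sup_le.trans (sup_le_sup ?_ hfQ.le)) (mem_im_of_mem hx)
      refine im_le_iff.2 fun x hx => ?_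
      have := h ⟨x, hx⟩
      rwa [hφf] at this
    · show ψ _ = g (f x)
      rw [hψg, ← hφf]; rfl
    · rw [(hf.restrict le_sup_right).im_comp, hfQ, hgQ]
  inv_mem := by
    intro P φ hφ
    obtain ⟨hP, hm, f, hf, hφf, hfQ⟩ := mem_normalizerHom.1 hφ
    obtain ⟨g, hg, hgf, hfg, -⟩ := hf.exists_inv
    have hle : φ.range ⊔ Q ≤ im (P ⊔ Q) f := by
      refine sup_le ?_ (hfQ.ge.trans (im_mono le_sup_right))
      rintro _ ⟨x, rfl⟩
      rw [hφf]; exact mem_im_of_mem (Subgroup.mem_sup_left x.2)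
    obtain ⟨ψ, hψF, hψ⟩ := F.inv_mem hφ.1
    have hval : ∀ x : P, ψ ⟨φ x, x, rfl⟩ = g (φ x) := fun x => by
      rw [hψ x, hφf, hgf x (Subgroup.mem_sup_left x.2)]
    refine ⟨ψ, mem_normalizerHom.2 ⟨?_, ?_, g, hg.restrict hle, ?_, ?_⟩, hψ⟩
    · rintro _ ⟨x, rfl⟩; exact hm x
    · rintro ⟨_, x, rfl⟩; rw [hψ x]; exact hP x.2
    · rintro ⟨_, x, rfl⟩; exact hval x
    · refine (hg.restrict (le_sup_right.trans hle)).im_eq (fun y hy => ?_)
        fun x hx => ⟨f x, hfQ.le (mem_im_of_mem hx), hgf x (Subgroup.mem_sup_right hx)⟩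
      obtain ⟨x, hx, rfl⟩ := (hf.restrict le_sup_right).mem_im.1 (hfQ.ge hy)
      rw [hgf x (Subgroup.mem_sup_right hx)]; exact hx

/-- The centraliser system `C_F(Q)`. -/
def centSys (F : FusionSystem S) {Q : Subgroup Ω} (hQ : Q ≤ S) :
    FusionSystem (centralizerIn S Q) where
  Hom P := F.centralizerHom Q P
  le_of_mem h := ⟨(mem_centralizerHom.1 h).1, (mem_centralizerHom.1 h).2.1⟩
  injective_of_mem h := F.injective_of_mem h.1
  conj_mem := by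
    intro P g hP hg
    refine mem_centralizerHom.2 ⟨hP, fun x => ?_, fun x => g * x * g⁻¹,
      map_conjBy (sup_le (hP.trans inf_le_left) hQ) hg.1, fun x => rfl, fun x hx => ?_⟩
    · exact Subgroup.mul_mem _ (Subgroup.mul_mem _ hg (hP x.2)) (Subgroup.inv_mem _ hg)
    · show g * x * g⁻¹ = x
      rw [← (mem_centralizerIn.1 hg).2 x hx]; group
  comp_mem := by
    intro P R φ ψ hφ hψ h
    obtain ⟨hP, -, f, hf, hφf, hfQ⟩ := mem_centralizerHom.1 hφ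
    obtain ⟨-, hm, g, hg, hψg, hgQ⟩ := mem_centralizerHom.1 hψ
    refine mem_centralizerHom.2 ⟨hP, fun x => hm _, g ∘ f, hf.comp hg ?_, fun x => ?_, fun x hx => ?_⟩
    · refine fun x hx => (hf.im_sup_le.trans (sup_le_sup ?_ ?_)) (mem_im_of_mem hx)
      · refine im_le_iff.2 fun x hx => ?_
        have := h ⟨x, hx⟩
        rwa [hφf] at this
      · exact im_le_iff.2 fun x hx => (hfQ x hx).symm ▸ hx
    · show ψ _ = g (f x)
      rw [hψg, ← hφf]; rfl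
    · show g (f x) = x
      rw [hfQ x hx, hgQ x hx]
  inv_mem := by
    intro P φ hφ
    obtain ⟨hP, hm, f, hf, hφf, hfQ⟩ := mem_centralizerHom.1 hφ
    obtain ⟨g, hg, hgf, hfg, -⟩ := hf.exists_inv
    have hle : φ.range ⊔ Q ≤ im (P ⊔ Q) f := by
      refine sup_le ?_ fun x hx => hfQ x hx ▸ mem_im_of_mem (Subgroup.mem_sup_right hx)
      rintro _ ⟨x, rfl⟩
      rw [hφf]; exact mem_im_of_mem (Subgroup.mem_sup_left x.2)
    obtain ⟨ψ, hψF, hψ⟩ := F.inv_mem hφ.1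
    refine ⟨ψ, mem_centralizerHom.2 ⟨?_, ?_, g, hg.restrict hle, ?_, fun x hx => ?_⟩, hψ⟩
    · rintro _ ⟨x, rfl⟩; exact hm x
    · rintro ⟨_, x, rfl⟩; rw [hψ x]; exact hP x.2
    · rintro ⟨_, x, rfl⟩
      show ψ ⟨φ x, x, rfl⟩ = g (φ x)
      rw [hψ x, hφf, hgf x (Subgroup.mem_sup_left x.2)]
    · conv_lhs => rw [← hfQ x hx]
      exact hgf x (Subgroup.mem_sup_right hx)

end Cfsg.Agent.Local.FS
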