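import Cfsg.Agent.Lib.Local.FS.Normal

set_option autoImplicit false

namespace Cfsg.Agent.Local.FS

open Cfsg Cfsg.FusionSystem Cfsg.Agent.Fusion

variable {Ω : Type*} [Group Ω] {S : Subgroup Ω} [Finite S] {F : FusionSystem S}
  {Q : Subgroup Ω} {p : ℕ} [Fact p.Prime]

/-- The chain criterion applies to any `Q` all of whose internal maps extend to automorphisms of `Q`. -/
theorem series_of_extends (hS : IsPGroup p S) (hQS : Q ≤ S)
    (h : ∀ (P : Subgroup Ω) (f : Ω → Ω), P ≤ Q → Map F P f →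
      ∃ α ∈ F.autGroup Q, ∀ x ∈ P, av α x = f x) :
    ∃ (n : ℕ) (C : ℕ → Subgroup Ω), C 0 = ⊥ ∧ (∀ i, n ≤ i → C i = Q) ∧ Monotone C ∧
      F.StronglyClosed Q ∧ (∀ i, F.StronglyClosed (C i)) ∧ ∀ i < n, ⁅Q, C (i + 1)⁆ ≤ C i := by
  haveI := finite_of_le hQS
  haveI : Group.IsNilpotent Q := IsPGroup.isNilpotent (p := p) (hS.to_le hQS)
  obtain ⟨c, hc⟩ := (Subgroup.isNilpotent_iff_lowerCentralSeries Q).1 inferInstance
  refine ⟨c, fun i => Q.lowerCentralSeries (c - i), by simp only [Nat.sub_zero]; exact hc,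
    fun i hi => by simp only [Nat.sub_eq_zero_of_le hi]; rfl,
    fun i j hij => Q.lowerCentralSeries_antitone (by omega), ?_, fun i => ?_, fun i hi => ?_⟩
  · refine stronglyClosed_iff.2 ⟨hQS, fun P f hP hf x hx => ?_⟩
    obtain ⟨α, -, hα⟩ := h P f hP hf
    rw [← hα x hx]; exact av_mem α (hP hx)
  · have hle : Q.lowerCentralSeries (c - i) ≤ Q := Q.lowerCentralSeries_antitone (Nat.zero_le _)
    refine stronglyClosed_iff.2 ⟨hle.trans hQS, fun P f hP hf x hx => ?_⟩
    obtain ⟨α, -, hα⟩ := h P f (hP.trans hle) hf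
    have hch : ((⊤ : Subgroup Q).lowerCentralSeries (c - i)).Characteristic := inferInstance
    have hx' := hP hx
    show f x ∈ Q.lowerCentralSeries (c - i)
    change x ∈ Q.lowerCentralSeries (c - i) at hx'
    rw [← Subgroup.top_subtype_lowerCentralSeries] at hx' ⊢
    obtain ⟨y, hy, rfl⟩ := hx'
    rw [← hα _ hx, show av α (Q.subtype y) = Q.subtype (α y) from av_coe α y]
    exact ⟨α y, Subgroup.characteristic_iff_map_le.1 hch α ⟨y, hy, rfl⟩, rfl⟩
  · show ⁅Q, Q.lowerCentralSeries (c - (i + 1))⁆ ≤ Q.lowerCentralSeries (c - i)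
    rw [show c - i = c - (i + 1) + 1 by omega, Subgroup.commutator_comm, ← Subgroup.lowerCentralSeries_succ]

theorem normal_extends (hQ : F.IsNormal Q) (P : Subgroup Ω) (f : Ω → Ω) (hP : P ≤ Q)
    (hf : Map F P f) : ∃ α ∈ F.autGroup Q, ∀ x ∈ P, av α x = f x := by
  obtain ⟨g, hg, hgf, hgQ⟩ := (normal_iff.1 hQ).2 P f hf
  obtain ⟨α, hα, hαg⟩ := exists_aut (hg.restrict le_sup_right) hgQ
  exact ⟨α, hα, fun x hx => by rw [hαg x (hP hx), hgf x hx]⟩

theorem normal_of_extends (hS : IsPGroup p S) (hF : F.IsSaturated p) (hQS : Q ≤ S)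
    (h : ∀ (P : Subgroup Ω) (f : Ω → Ω), P ≤ Q → Map F P f →
      ∃ α ∈ F.autGroup Q, ∀ x ∈ P, av α x = f x) : F.IsNormal Q := by
  obtain ⟨n, C, h0, hn, hm, hQ, hsc, hc⟩ := series_of_extends hS hQS h
  exact normal_of_series hS hF C n h0 (hn n le_rfl) hm hQ (fun i _ => hsc _) hc

theorem normal_of_abelian (hS : IsPGroup p S) (hF : F.IsSaturated p) (hab : IsMulCommutative Q)
    (hQ : F.StronglyClosed Q) : F.IsNormal Q := by
  refine normal_of_series hS hF (fun i => if i = 0 then ⊥ else Q) 1 rfl rfl ?_ hQ (fun i hi => ?_) fun i hi => ?_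
  · exact monotone_nat_of_le_succ fun i => by by_cases h : i = 0 <;> simp [h]
  · simpa using hQ
  · obtain rfl : i = 0 := by omega
    simp only [zero_add, one_ne_zero, if_false, if_true]
    rw [le_bot_iff, Subgroup.commutator_eq_bot_iff_le_centralizer]
    exact fun x hx => Subgroup.mem_centralizer_iff.2 fun y hy =>
      congrArg Subtype.val (hab.1.1 ⟨y, hy⟩ ⟨x, hx⟩)

end Cfsg.Agent.Local.FS
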