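import Cfsg.Agent.Lib.Local.FS.Tate
import Cfsg.Agent.Lib.Local.FS.Quotient
import Cfsg.Agent.Lib.Local.FS.Systems
import Cfsg.Agent.Lib.Perm.NilpFrattini
import Cfsg.Agent.S5083

set_option autoImplicit false

namespace Cfsg.Agent.Local.FS

open Cfsg Cfsg.FusionSystem Cfsg.Agent.Fusion
open scoped commutatorElement

universe u

variable {Ω : Type u} [Group Ω] {S : Subgroup Ω} [Finite S] {F : FusionSystem S} {p : ℕ}
  [Fact p.Prime]

/-- If the hyperfocal subgroup lies in `Φ(S)` the system is inner. -/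
theorem inner_of_hyperfocal_le_frattini (hS : IsPGroup p S) (hF : F.IsSaturated p)
    (h : F.hyperfocalSubgroup p ≤ (frattini ↥S).map S.subtype) : F = innerFusionSystem S := by
  have hbot : F.hyperfocalSubgroup p = ⊥ := le_bot_iff.1 <|
    hyperfocal_le_of_le_sup hS hF bot_le (fun s _ x hx => by simp [Subgroup.mem_bot.1 hx]) (by rwa [bot_sup_eq])
  refine Cfsg.Agent.S5083.result p hS F hF fun P hP => ?_
  haveI := mulAut_finite_of_le hP
  have hres : pResidual p ↥(F.autGroup P) = ⊥ := by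
    refine (Subgroup.eq_bot_iff_forall _).2 fun γ hγ => Subtype.ext (aut_ext fun x hx => ?_)
    have h1 := inv_mul_mem_hyperfocal hP hγ hx
    rw [hbot, Subgroup.mem_bot, inv_mul_eq_one] at h1
    show av (γ : MulAut P) x = av (1 : MulAut P) x
    rw [av_one hx, ← h1]
  refine IsPGroup.iff_orderOf.2 fun γ => ?_
  obtain ⟨k, m, hm, hkm⟩ := Nat.exists_eq_pow_mul_and_not_dvd (orderOf_pos γ).ne' p (Nat.Prime.ne_one Fact.out)
  refine ⟨k, ?_⟩
  have hmem : γ ^ p ^ k ∈ pResidual p ↥(F.autGroup P) := by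
    refine Subgroup.subset_closure ?_
    show Nat.Coprime _ p
    rw [orderOf_pow' _ (pow_ne_zero _ (Nat.Prime.ne_zero Fact.out)), hkm, Nat.gcd_mul_right_left,
      Nat.mul_div_cancel_left _ (pow_pos (Nat.Prime.pos Fact.out) k)]
    exact ((Nat.Prime.coprime_iff_not_dvd Fact.out).2 hm).symm
  rw [hres, Subgroup.mem_bot] at hmem
  have hd := orderOf_dvd_of_pow_eq_one hmem
  exact Nat.dvd_antisymm hd (hkm ▸ dvd_mul_right _ _)

/-- With only inner automorphisms of `S`, all maps are trivial modulo a strongly closed subgroup with abelian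
quotient. -/
theorem trivial_mod (hS : IsPGroup p S) (hF : F.IsSaturated p) {T : Subgroup Ω} (hT : F.StronglyClosed T)
    (hab : ⁅S, S⁆ ≤ T) (hAut : F.autGroup S ≤ autInducedBy S S) {P : Subgroup Ω} {f : Ω → Ω}
    (hf : Map F P f) : ∀ x ∈ P, x⁻¹ * f x ∈ T := by
  have hcomm : ∀ {x s : Ω}, x ∈ S → s ∈ S → x⁻¹ * (s * x * s⁻¹) ∈ T := fun {x s} hx hs => by
    simpa [commutatorElement_def, mul_assoc] using
      hab (Subgroup.commutator_mem_commutator (S.inv_mem hx) hs)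
  suffices main : ∀ (Y : Subgroup Ω) (g : Ω → Ω), T ≤ Y → Map F Y g → ∀ x ∈ Y, x⁻¹ * g x ∈ T by
    obtain ⟨g, hg, h⟩ := quotMap_all hS hF hT P f hf
    intro x hx
    have h1 := main _ g le_sup_right hg x (Subgroup.mem_sup_left hx)
    simpa [mul_assoc] using T.mul_mem h1 (T.inv_mem (h x hx))
  intro Y g hTY hg
  have hn : ∀ X, T ≤ X → X ≤ S → S ≤ Subgroup.normalizer (X : Set Ω) := by
    refine fun X hTX hXS s hs => mem_normalizer_of_conj_mem hXS fun x hx => ?_
    simpa using X.mul_mem hx (hTX (hcomm (hXS hx) hs))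
  have hTim : T ≤ im Y g := fun y hy => by
    obtain ⟨x, hx, rfl⟩ := (hg.restrict hTY).surj_of_card_le hT.1
      (fun z hz => stronglyClosed_map hT hg (hTY hz) hz) le_rfl y hy
    exact mem_im_of_mem (hTY hx)
  have hfn : F.IsFullyNormalized (im Y g) :=
    ⟨hg.im_le, fun Q _ => Subgroup.card_le_of_le (le_inf inf_le_left (inf_le_left.trans (hn _ hTim hg.im_le)))⟩
  obtain ⟨h, hh, -, hhi⟩ := exists_map_normalizer_fn hS hF hfn (isConj_iff.2 ⟨g, hg, rfl⟩)
  have hNY : normalizerIn S Y = S := inf_eq_left.2 (hn Y hTY hg.le)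
  have haut : ∀ h, Map F S h → ∃ s ∈ S, ∀ x ∈ S, h x = s * x * s⁻¹ := by
    intro h hh
    obtain ⟨α, hα, hαh⟩ := exists_aut hh (Subgroup.eq_of_le_of_card_ge hh.im_le hh.card_im.ge)
    obtain ⟨s, hs, hsα⟩ := mem_autInducedBy.1 (hAut hα)
    exact ⟨s, hs, fun x hx => by rw [← hαh x hx, hsα x hx]⟩
  rw [hNY] at hh
  obtain ⟨s, hs, hsh⟩ := haut h hh
  have hiY : im Y g = Y := by
    haveI := finite_of_le hg.le
    refine Subgroup.eq_of_le_of_card_ge ?_ hg.card_im.ge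
    rw [← hhi]
    refine im_le_iff.2 fun x hx => ?_
    rw [hsh x (hg.le hx)]
    exact conj_mem_of_normalizer (hn Y hTY hg.le hs) hx
  rw [hiY] at hfn
  obtain ⟨α, hα, hαg⟩ := exists_aut hg hiY
  intro x hx
  rw [← hαg x hx]
  haveI := mulAut_finite_of_le hg.le
  let A : Subgroup (MulAut Y) :=
    { carrier := {β | β ∈ F.autGroup Y ∧ ∀ x ∈ Y, x⁻¹ * av β x ∈ T}
      one_mem' := ⟨Subgroup.one_mem _, fun x hx => by rw [av_one hx, inv_mul_cancel]; exact T.one_mem⟩
      mul_mem' := by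
        rintro β γ ⟨hβ, hβ'⟩ ⟨hγ, hγ'⟩
        refine ⟨Subgroup.mul_mem _ hβ hγ, fun x hx => ?_⟩
        have h1 := T.mul_mem (hγ' x hx) (hβ' _ (av_mem γ hx))
        rw [av_mul _ _ hx]
        simpa [mul_assoc] using h1
      inv_mem' := by
        rintro β ⟨hβ, hβ'⟩
        refine ⟨Subgroup.inv_mem _ hβ, fun x hx => ?_⟩
        have h1 := hβ' _ (av_mem β⁻¹ hx)
        rw [av_av_inv β hx] at h1
        simpa using T.inv_mem h1 }
  have hSyl : SylIn p (autInducedBy S Y) A := by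
    refine (fa_iff.1 (fc_fa_of_fn hS hF hfn).2).2.mono (fun β hβ => ?_) fun β hβ => hβ.1
    obtain ⟨t, ht, htβ⟩ := mem_autInducedBy.1 hβ
    refine ⟨autInducedBy_le_autGroup hg.le hβ, fun x hx => ?_⟩
    rw [htβ x hx]
    exact hcomm (hg.le hx) ht
  have hAα : ∀ β ∈ A, α * β * α⁻¹ ∈ A := by
    rintro β ⟨hβ, hβ'⟩
    refine ⟨Subgroup.mul_mem _ (Subgroup.mul_mem _ hα hβ) (Subgroup.inv_mem _ hα), fun x hx => ?_⟩
    have hy : av α⁻¹ x ∈ Y := av_mem _ hx
    have hmα := map_of_mem_autGroup hg.le hα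
    have h2 := stronglyClosed_map hT hmα (Y.mul_mem (Y.inv_mem hy) (av_mem β hy)) (hβ' _ hy)
    rw [hmα.map_mul (Y.inv_mem hy) (av_mem β hy), hmα.map_inv hy, av_av_inv α hx] at h2
    rwa [av_mul _ _ hx, av_mul _ _ hy]
  have hsyl' : SylIn p (cj (autInducedBy S Y) α) A :=
    hSyl.of_card_ge (isPGroup_cj hSyl.isPGroup α) (by rintro _ ⟨β, hβ, rfl⟩; exact hAα β (hSyl.le hβ))
      (card_cj _ α).ge
  obtain ⟨a, ha, hae⟩ := hsyl'.conj_eq hSyl
  rw [cj_cj] at hae
  set κ := a * α with hκ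
  have hm := map_of_mem_autGroup hg.le (Subgroup.mul_mem _ ha.1 hα)
  have hNf : S ≤ Nf S Y (av κ) := by
    intro t ht
    obtain ⟨c, hc, hcS⟩ := exists_aut_conj (hn Y hTY hg.le ht)
    obtain ⟨u, hu, huc⟩ := mem_autInducedBy.1 (hae.le (conj_mem_cj (g := κ) (hcS S ht)))
    refine ⟨ht, hn Y hTY hg.le ht, u, hu, fun x hx => ?_⟩
    have h1 := huc _ (av_mem κ hx)
    rw [av_mul _ _ (av_mem κ hx), av_inv_av κ hx, av_mul _ _ hx, hc x hx] at h1
    exact h1
  obtain ⟨k, hk, hke⟩ := (receptive_iff.1 (receptive_of_fc hS hF (fc_fa_of_fn hS hF hfn).1)).2 Y _ hm (im_av κ)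
  obtain ⟨u, hu, huk⟩ := haut k (hk.restrict hNf)
  have h1 : x⁻¹ * av κ x ∈ T := by
    rw [← hke x hx, huk x (hg.le hx)]
    exact hcomm (hg.le hx) hu
  rw [hκ, av_mul _ _ hx] at h1
  simpa [mul_assoc] using T.mul_mem h1 (T.inv_mem (ha.2 _ (av_mem α hx)))

theorem hyperfocal_le_of_trivial_mod {T : Subgroup Ω}
    (h : ∀ (P : Subgroup Ω) (f : Ω → Ω), Map F P f → ∀ x ∈ P, x⁻¹ * f x ∈ T) :
    F.hyperfocalSubgroup p ≤ T := by
  refine (Subgroup.closure_le _).2 ?_
  rintro _ ⟨P, α, x, hP, -, rfl⟩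
  rw [← av_coe]
  exact h P _ (map_of_mem_autGroup hP α.2) x x.2

theorem autGroup_le_of_normalizerSystem_inner {N : FusionSystem (normalizerIn S S)}
    (hN : F.IsNormalizerSystem S N)
    (h : ∀ P : Subgroup Ω, N.Hom P = (innerFusionSystem (normalizerIn S S)).Hom P) :
    F.autGroup S ≤ autInducedBy S S := by
  intro α hα
  obtain ⟨φ, hφ, he⟩ := map_of_mem_autGroup le_rfl hα
  have hmem : φ ∈ F.normalizerHom S S :=
    mem_normalizerHom.2 ⟨le_normalizerIn le_rfl, fun x => by rw [he]; exact le_normalizerIn le_rfl (av_mem α x.2),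
      av α, by rw [sup_idem]; exact map_of_mem_autGroup le_rfl hα, he, im_av α⟩
  obtain ⟨-, g, hg, hφg⟩ := (h S).le (show φ ∈ N.Hom S by rw [hN S]; exact hmem)
  exact mem_autInducedBy.2 ⟨g, hg.1, fun x hx => by rw [← he ⟨x, hx⟩, hφg]⟩

theorem commutator_le_frattini_map (hS : IsPGroup p S) :
    ⁅S, S⁆ ≤ (frattini ↥S).map S.subtype := by
  haveI : Group.IsNilpotent ↥S := IsPGroup.isNilpotent (p := p) hS
  calc ⁅S, S⁆ = (commutator ↥S).map S.subtype := by
        rw [commutator_def, Subgroup.map_commutator, ← MonoidHom.range_eq_map, Subgroup.range_subtype]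
    _ ≤ _ := Subgroup.map_mono Cfsg.Agent.Perm.commutator_le_frattini

theorem hyperfocal_mono_tateCor {H : FusionSystem S} (hHF : H.IsSubsystemOf F) :
    H.hyperfocalSubgroup p ≤ F.hyperfocalSubgroup p := by
  refine (Subgroup.closure_le _).2 ?_
  rintro _ ⟨P, α, x, hP, hα, rfl⟩
  have hle : H.autGroup P ≤ F.autGroup P := fun β hβ =>
    mem_autGroup_of_map (Map.of_sub hHF (map_of_mem_autGroup hP hβ))
  have hmem : Subgroup.inclusion hle α ∈ pResidual p ↥(F.autGroup P) := by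
    have h1 : (pResidual p ↥(H.autGroup P)).map (Subgroup.inclusion hle) ≤ pResidual p ↥(F.autGroup P) := by
      rw [pResidual, pResidual, MonoidHom.map_closure]
      refine Subgroup.closure_mono ?_
      rintro _ ⟨g, hg, rfl⟩
      show Nat.Coprime (orderOf (Subgroup.inclusion hle g)) p
      rw [orderOf_injective _ (Subgroup.inclusion_injective hle)]
      exact hg
    exact h1 ⟨α, hα, rfl⟩
  exact Subgroup.subset_closure ⟨P, Subgroup.inclusion hle α, x, hP, hmem, rfl⟩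

end Cfsg.Agent.Local.FS
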