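import Cfsg.Agent.Lib.Local.FS.Sat

set_option autoImplicit false

namespace Cfsg.Agent.Local.FS

open Cfsg Cfsg.FusionSystem Cfsg.Agent.Fusion

variable {G : Type*} [Group G] {S P Q : Subgroup G} {f : G → G} {p : ℕ}

theorem map_group_iff :
    Map (groupFusionSystem S) P f ↔
      P ≤ S ∧ (∀ x ∈ P, f x ∈ S) ∧ ∃ g : G, ∀ x ∈ P, f x = g * x * g⁻¹ := by
  constructor
  · intro h
    refine ⟨h.le, fun x hx => h.mem hx, ?_⟩
    obtain ⟨φ, ⟨-, -, g, hg⟩, he⟩ := h
    exact ⟨g, fun x hx => by rw [← he ⟨x, hx⟩, hg]⟩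
  · rintro ⟨hP, hm, g, hg⟩
    refine ⟨conjHom P g, ⟨hP, fun x => ?_, g, fun x => rfl⟩, fun x => ?_⟩
    · show g * (x : G) * g⁻¹ ∈ S
      exact hg x x.2 ▸ hm x x.2
    · show g * (x : G) * g⁻¹ = _
      exact (hg x x.2).symm

theorem im_conj {g : G} : im P (fun x => g * x * g⁻¹) = cj P g := by
  refine le_antisymm (im_le_iff.2 fun x hx => conj_mem_cj hx) ?_
  rintro _ ⟨x, hx, rfl⟩
  exact mem_im_of_mem hx

theorem isConj_group_iff :
    (groupFusionSystem S).IsConj P Q ↔ P ≤ S ∧ Q ≤ S ∧ ∃ g : G, cj P g = Q := by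
  rw [isConj_iff]
  constructor
  · rintro ⟨f, hf, rfl⟩
    obtain ⟨hP, -, g, hg⟩ := map_group_iff.1 hf
    exact ⟨hP, hf.im_le, g, (im_conj.symm.trans (im_congr hg).symm)⟩
  · rintro ⟨hP, hQ, g, rfl⟩
    exact ⟨fun x => g * x * g⁻¹,
      map_group_iff.2 ⟨hP, fun x hx => hQ (conj_mem_cj hx), g, fun _ _ => rfl⟩, im_conj⟩

theorem autGroup_group [Finite G] (hP : P ≤ S) :
    (groupFusionSystem S).autGroup P = autInducedBy ⊤ P := by
  ext α
  rw [mem_autGroup_iff hP, map_group_iff, mem_autInducedBy]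
  exact ⟨fun ⟨_, _, g, hg⟩ => ⟨g, trivial, hg⟩,
    fun ⟨g, _, hg⟩ => ⟨hP, fun x hx => hP (av_mem α hx), g, hg⟩⟩

section
variable [Finite G] [Fact p.Prime]

theorem exists_conj_sylIn_normalizer (hS : SylIn p S ⊤) (hP : P ≤ S) :
    ∃ g : G, cj P g ≤ S ∧
      SylIn p (normalizerIn S (cj P g)) (Subgroup.normalizer ((cj P g : Subgroup G) : Set G)) := by
  obtain ⟨T, hT, hPT⟩ := exists_sylIn_ge (hS.isPGroup.to_le hP) (Subgroup.le_normalizer (H := P))
  obtain ⟨g, -, hg⟩ := hS.conj_le hT.isPGroup le_top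
  refine ⟨g, (cj_mono hPT g).trans hg, ?_⟩
  have hT' := hT.cj g
  rw [cj_normalizer] at hT'
  rwa [hT'.eq_of_le (Q := normalizerIn S (cj P g)) (hS.isPGroup.to_le inf_le_left)
    (le_inf hg hT'.le) inf_le_right]

theorem exists_conj_sylIn_centralizer (hS : SylIn p S ⊤) (hP : P ≤ S) :
    ∃ g : G, cj P g ≤ S ∧
      SylIn p (centralizerIn S (cj P g)) (Subgroup.centralizer ((cj P g : Subgroup G) : Set G)) := by
  obtain ⟨T, hT⟩ := exists_sylIn (p := p) (Subgroup.centralizer (P : Set G))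
  have hTP : IsPGroup p ↥(T ⊔ P) := hT.isPGroup.to_sup_of_normal_right' (hS.isPGroup.to_le hP)
    (hT.le.trans (Subgroup.centralizer_le_normalizer _))
  obtain ⟨g, -, hg⟩ := hS.conj_le hTP le_top
  rw [cj_sup] at hg
  refine ⟨g, le_sup_right.trans hg, ?_⟩
  have hc : cj (Subgroup.centralizer (P : Set G)) g = Subgroup.centralizer ((cj P g : Subgroup G) : Set G) := by
    ext x
    rw [mem_cj, Subgroup.mem_centralizer_iff, Subgroup.mem_centralizer_iff]
    constructor
    · intro h y hy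
      have h1 := congrArg (fun t => g * t * g⁻¹) (h (g⁻¹ * y * g) (mem_cj.1 hy))
      simpa [mul_assoc] using h1
    · intro h y hy
      have h1 := congrArg (fun t => g⁻¹ * t * g) (h (g * y * g⁻¹) (conj_mem_cj hy))
      simpa [mul_assoc] using h1
  have hT' := hT.cj g
  rw [hc] at hT'
  rwa [hT'.eq_of_le (Q := centralizerIn S (cj P g)) (hS.isPGroup.to_le inf_le_left)
    (le_inf (le_sup_left.trans hg) hT'.le) inf_le_right]

theorem fn_group_iff (hS : SylIn p S ⊤) (hP : P ≤ S) :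
    (groupFusionSystem S).IsFullyNormalized P ↔
      SylIn p (normalizerIn S P) (Subgroup.normalizer (P : Set G)) := by
  constructor
  · rintro ⟨-, h⟩
    obtain ⟨g, hg, hsyl⟩ := exists_conj_sylIn_normalizer hS hP
    have hc := h _ (isConj_group_iff.2 ⟨hP, hg, g, rfl⟩)
    have h' := hsyl.cj g⁻¹
    rw [cj_normalizer, cj_cj_inv] at h'
    exact h'.of_card_ge (hS.isPGroup.to_le inf_le_left) inf_le_right (by rwa [card_cj])
  · intro h
    refine ⟨hP, fun Q hQ => ?_⟩
    obtain ⟨-, -, g, rfl⟩ := isConj_group_iff.1 hQ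
    rw [← card_cj _ g⁻¹]
    refine h.card_le (isPGroup_cj (hS.isPGroup.to_le inf_le_left) _) ?_
    refine (cj_mono inf_le_right _).trans ?_
    rw [cj_normalizer, cj_cj_inv]

theorem fc_group_iff (hS : SylIn p S ⊤) (hP : P ≤ S) :
    (groupFusionSystem S).IsFullyCentralized P ↔
      SylIn p (centralizerIn S P) (Subgroup.centralizer (P : Set G)) := by
  have hc : ∀ (P : Subgroup G) (g : G),
      cj (Subgroup.centralizer ((cj P g : Subgroup G) : Set G)) g⁻¹ ≤ Subgroup.centralizer (P : Set G) := by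
    intro P g x hx
    rw [mem_cj, inv_inv, Subgroup.mem_centralizer_iff] at hx
    rw [Subgroup.mem_centralizer_iff]
    intro y hy
    have h1 := congrArg (fun t => g⁻¹ * t * g) (hx (g * y * g⁻¹) (conj_mem_cj hy))
    simpa [mul_assoc] using h1
  constructor
  · rintro ⟨-, h⟩
    obtain ⟨g, hg, hsyl⟩ := exists_conj_sylIn_centralizer hS hP
    have hcard := h _ (isConj_group_iff.2 ⟨hP, hg, g, rfl⟩)
    obtain ⟨T, hT⟩ := exists_sylIn (p := p) (Subgroup.centralizer (P : Set G))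
    refine hT.of_card_ge (hS.isPGroup.to_le inf_le_left) inf_le_right ?_
    refine le_trans ?_ hcard
    rw [← card_cj T g]
    refine hsyl.card_le (isPGroup_cj hT.isPGroup g) ?_
    rintro x hx
    have hx' := hT.le (mem_cj.1 hx)
    rw [Subgroup.mem_centralizer_iff] at hx' ⊢
    intro y hy
    have h1 := congrArg (fun t => g * t * g⁻¹) (hx' _ (mem_cj.1 hy))
    simpa [mul_assoc] using h1
  · intro h
    refine ⟨hP, fun Q hQ => ?_⟩
    obtain ⟨-, -, g, rfl⟩ := isConj_group_iff.1 hQ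
    rw [← card_cj _ g⁻¹]
    exact h.card_le (isPGroup_cj (hS.isPGroup.to_le inf_le_left) _)
      ((cj_mono inf_le_right _).trans (hc P g))

theorem sylIn_centralizer_of_normalizer
    (h : SylIn p (normalizerIn S P) (Subgroup.normalizer (P : Set G))) :
    SylIn p (centralizerIn S P) (Subgroup.centralizer (P : Set G)) := by
  have := h.inf_normal (Subgroup.centralizer_le_normalizer (P : Set G)) ?_
  · rwa [show normalizerIn S P ⊓ Subgroup.centralizer (P : Set G) = centralizerIn S P from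
      le_antisymm (le_inf (inf_le_left.trans inf_le_left) inf_le_right)
        (le_inf centralizerIn_le_normalizerIn inf_le_right)] at this
  · exact Subgroup.le_normalizer_of_normal_subgroupOf
      (Subgroup.centralizer_le_normalizer _)

theorem sylIn_autInducedBy
    (h : SylIn p (normalizerIn S P) (Subgroup.normalizer (P : Set G))) :
    SylIn p (autInducedBy S P) (autInducedBy ⊤ P) := by
  refine ⟨fun α hα => ?_, ?_, ?_⟩
  · obtain ⟨g, -, hg⟩ := mem_autInducedBy.1 hα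
    exact mem_autInducedBy.2 ⟨g, trivial, hg⟩
  · rw [← range_normalizerHomS]
    exact h.isPGroup.of_surjective _ (normalizerHomS S P).rangeRestrict_surjective
  · set χ := Subgroup.normalizerMonoidHom P
    have hr : χ.range = autInducedBy ⊤ P := by
      ext α
      rw [mem_autInducedBy, MonoidHom.mem_range]
      constructor
      · rintro ⟨g, rfl⟩
        exact ⟨g, trivial, fun x hx => av_apply _ hx⟩
      · rintro ⟨g, -, hg⟩
        exact ⟨⟨g, mem_normalizer_of_conj_aut hg⟩,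
          aut_ext fun x hx => by rw [hg x hx, av_apply _ hx]; rfl⟩
    have hm : ((normalizerIn S P).subgroupOf (Subgroup.normalizer (P : Set G))).map χ =
        autInducedBy S P := by
      rw [← range_normalizerHomS]
      ext α
      rw [Subgroup.mem_map, MonoidHom.mem_range]
      constructor
      · rintro ⟨g, hg, rfl⟩; exact ⟨⟨g, hg⟩, rfl⟩
      · rintro ⟨g, rfl⟩; exact ⟨⟨g, g.2.2⟩, g.2, rfl⟩
    rw [← hr, ← hm, MonoidHom.range_eq_map, Subgroup.relIndex_map_map]
    intro hd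
    apply h.not_dvd
    rw [Subgroup.relIndex]
    refine hd.trans ?_
    rw [top_sup_eq, Subgroup.relIndex_top_right]
    exact Subgroup.index_dvd_of_le le_sup_left

/-- Conjugating a `p`-group into `N_S(Q)` by an element of `C(Q)`. -/
theorem exists_centralizer_conj_le
    (hS : IsPGroup p S) (hC : SylIn p (centralizerIn S Q) (Subgroup.centralizer (Q : Set G)))
    {M : Subgroup G} (hM : IsPGroup p M)
    (hMle : M ≤ normalizerIn S Q ⊔ Subgroup.centralizer (Q : Set G)) :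
    ∃ c ∈ Subgroup.centralizer (Q : Set G), cj M c ≤ normalizerIn S Q := by
  set N := normalizerIn S Q
  set C := Subgroup.centralizer (Q : Set G)
  have hNC : N ≤ Subgroup.normalizer (C : Set G) :=
    inf_le_right.trans (Subgroup.le_normalizer_of_normal_subgroupOf (Subgroup.centralizer_le_normalizer _))
  have hset : ∀ x ∈ N ⊔ C, ∃ n ∈ N, ∃ c ∈ C, n * c = x := by
    intro x hx
    rw [← SetLike.mem_coe, Subgroup.coe_mul_of_left_le_normalizer_right N C hNC] at hx
    obtain ⟨n, hn, c, hc, rfl⟩ := hx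
    exact ⟨n, hn, c, hc, rfl⟩
  obtain ⟨T, hT, hNT⟩ := exists_sylIn_ge (p := p) (hS.to_le (inf_le_left : N ≤ S)) (le_sup_left : N ≤ N ⊔ C)
  have hTC : T ⊓ C = centralizerIn S Q := hC.eq_of_le hT.isPGroup.to_inf_left
    (le_inf (centralizerIn_le_normalizerIn.trans hNT) hC.le) inf_le_right
  have hTN : T = N := by
    refine le_antisymm (fun t ht => ?_) hNT
    obtain ⟨n, hn, c, hc, rfl⟩ := hset t (hT.le ht)
    have hcT : c ∈ T := by simpa using T.mul_mem (T.inv_mem (hNT hn)) ht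
    exact N.mul_mem hn (centralizerIn_le_normalizerIn (hTC.le ⟨hcT, hc⟩))
  obtain ⟨x, hx, hle⟩ := (hTN ▸ hT).conj_le hM hMle
  obtain ⟨n, hn, c, hc, rfl⟩ := hset x hx
  refine ⟨c, hc, ?_⟩
  rw [← cj_cj, cj_le_iff, cj_eq_self_of_mem (N.inv_mem hn)] at hle
  exact hle

theorem receptive_group (hS : SylIn p S ⊤) (hQ : Q ≤ S)
    (hC : SylIn p (centralizerIn S Q) (Subgroup.centralizer (Q : Set G))) :
    (groupFusionSystem S).IsReceptive Q := by
  refine receptive_iff.2 ⟨hQ, fun X f hf hi => ?_⟩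
  obtain ⟨hX, -, g, hg⟩ := map_group_iff.1 hf
  have hsub : cj (Nf S X f) g ≤ normalizerIn S Q ⊔ Subgroup.centralizer (Q : Set G) := by
    rintro _ ⟨a, ⟨haS, han, h, hh, hah⟩, rfl⟩
    have hmem : ∀ x ∈ X, f x ∈ Q := fun x hx => hi.le (mem_im_of_mem hx)
    have hhN : h ∈ normalizerIn S Q := by
      refine ⟨hh, mem_normalizer_of_conj_mem hQ fun y hy => ?_⟩
      obtain ⟨x, hx, rfl⟩ := hf.mem_im.1 (hi.ge hy)
      rw [← hah x hx]; exact hmem _ (conj_mem_of_normalizer han hx)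
    show g * a * g⁻¹ ∈ _
    rw [show g * a * g⁻¹ = h * (h⁻¹ * (g * a * g⁻¹)) by group]
    refine Subgroup.mul_mem_sup hhN (Subgroup.mem_centralizer_iff.2 fun y hy => ?_)
    obtain ⟨x, hx, rfl⟩ := hf.mem_im.1 (hi.ge hy)
    have h1 := hah x hx
    rw [hg _ (conj_mem_of_normalizer han hx), hg x hx, eq_mul_inv_iff_mul_eq] at h1
    rw [hg x hx]
    calc g * x * g⁻¹ * (h⁻¹ * (g * a * g⁻¹))
        = h⁻¹ * (h * (g * x * g⁻¹)) * (h⁻¹ * (g * a * g⁻¹)) := by group
      _ = h⁻¹ * (g * (a * x * a⁻¹) * g⁻¹ * h) * (h⁻¹ * (g * a * g⁻¹)) := by rw [h1]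
      _ = _ := by group
  obtain ⟨c, hc, hle⟩ := exists_centralizer_conj_le hS.isPGroup hC
    (isPGroup_cj (hS.isPGroup.to_le (Nf_le.trans inf_le_left)) g) hsub
  rw [cj_cj] at hle
  refine ⟨fun x => (c * g) * x * (c * g)⁻¹, map_group_iff.2 ⟨Nf_le.trans inf_le_left,
    fun x hx => (hle (conj_mem_cj hx)).1, c * g, fun _ _ => rfl⟩, fun x hx => ?_⟩
  have hfx : f x ∈ Q := hi.le (mem_im_of_mem hx)
  have h1 := Subgroup.mem_centralizer_iff.1 hc _ hfx
  rw [hg x hx] at h1 ⊢
  calc c * g * x * (c * g)⁻¹ = c * (g * x * g⁻¹) * c⁻¹ := by group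
    _ = g * x * g⁻¹ * c * c⁻¹ := by rw [h1]
    _ = _ := by group

theorem sylIn_iff_sylow {T H : Subgroup G} (hTH : T ≤ H) :
    SylIn p T H ↔ ∃ R : Sylow p H, (R : Subgroup H) = T.subgroupOf H := by
  refine ⟨fun h => h.exists_sylow_subgroupOf, fun ⟨R, hR⟩ => ⟨hTH, ?_, ?_⟩⟩
  · exact ((hR ▸ R.isPGroup' : IsPGroup p ↥(T.subgroupOf H))).of_equiv (Subgroup.subgroupOfEquivOfLe hTH)
  · rw [Subgroup.relIndex, ← hR]; exact R.not_dvd_index

theorem group_saturated (hS : SylIn p S ⊤) : (groupFusionSystem S).IsSaturated p := by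
  intro P hP
  obtain ⟨g, hg, hsyl⟩ := exists_conj_sylIn_normalizer hS hP
  refine ⟨_, isConj_group_iff.2 ⟨hP, hg, g, rfl⟩, fa_iff.2 ⟨hg, ?_⟩,
    receptive_group hS hg (sylIn_centralizer_of_normalizer hsyl)⟩
  rw [autGroup_group hg]
  exact sylIn_autInducedBy hsyl

end

end Cfsg.Agent.Local.FS
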