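import Cfsg.Agent.Lib.Local.FS.Transfer
import Cfsg.Agent.S5124

set_option autoImplicit false

namespace Cfsg.Agent.Local.FS

open Cfsg Cfsg.FusionSystem Cfsg.Agent.Fusion

universe u

variable {Ω : Type u} [Group Ω] {S : Subgroup Ω} [Finite S] {F : FusionSystem S} {p : ℕ}
  [Fact p.Prime]

/-- Every map is a conjugation modulo the hyperfocal subgroup. -/
theorem conj_mod_hyperfocal (hS : IsPGroup p S) (hF : F.IsSaturated p) {P : Subgroup Ω} {f : Ω → Ω}
    (hf : Map F P f) : ∃ g ∈ S, ∀ x ∈ P, (g * x * g⁻¹)⁻¹ * f x ∈ F.hyperfocalSubgroup p := by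
  set H := F.hyperfocalSubgroup p with hH
  refine alperin hS hF (K := fun P f => ∃ g ∈ S, ∀ x ∈ P, (g * x * g⁻¹)⁻¹ * f x ∈ H) ?_ ?_ P f hf
  · refine ⟨fun ⟨g, hg, h⟩ he => ⟨g, hg, fun x hx => he x hx ▸ h x hx⟩,
      fun _ ⟨g, hg, h⟩ hR => ⟨g, hg, fun x hx => h x (hR hx)⟩, ?_, ?_⟩
    · rintro P Q f f' hM hM' ⟨g, hg, h⟩ ⟨g', hg', h'⟩ hm
      refine ⟨g' * g, S.mul_mem hg' hg, fun x hx => ?_⟩
      have h1 := h' _ (hm x hx)
      have h2 := hyperfocal_conj_mem hg' (h x hx)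
      rw [show (g' * g * x * (g' * g)⁻¹)⁻¹ * (f' ∘ f) x =
        (g' * ((g * x * g⁻¹)⁻¹ * f x) * g'⁻¹) * ((g' * f x * g'⁻¹)⁻¹ * f' (f x)) by
          simp [Function.comp, mul_assoc]]
      exact H.mul_mem h2 h1
    · rintro P f f' hM ⟨g, hg, h⟩ hinv
      refine ⟨g⁻¹, S.inv_mem hg, fun y hy => ?_⟩
      obtain ⟨x, hx, rfl⟩ := hM.mem_im.1 hy
      rw [hinv x hx, show (g⁻¹ * f x * g⁻¹⁻¹)⁻¹ * x = g⁻¹ * ((g * x * g⁻¹)⁻¹ * f x)⁻¹ * g⁻¹⁻¹ by group]
      exact hyperfocal_conj_mem (S.inv_mem hg) (H.inv_mem (h x hx))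
  · intro R hR α hα
    have hRfn := gen_fn hR
    obtain ⟨β, hβ, γ, hγ, rfl⟩ := exists_autS_mul_residual hS hF hRfn hα
    obtain ⟨s, hs, hsβ⟩ := mem_autInducedBy.1 hβ
    refine ⟨s, hs, fun x hx => ?_⟩
    rw [av_mul _ _ hx, hsβ _ (av_mem (γ : MulAut R) hx),
      show (s * x * s⁻¹)⁻¹ * (s * av (γ : MulAut R) x * s⁻¹) = s * (x⁻¹ * av (γ : MulAut R) x) * s⁻¹ by group]
    exact hyperfocal_conj_mem hs (inv_mul_mem_hyperfocal hRfn.1 hγ hx)

/-- A section whose cocycle is the identity modulo a normal subgroup through which all maps are conjugations. -/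
theorem exists_good_section (b : CharBiset F p) (K : Subgroup S) [K.Normal]
    (hK : ∀ (P : Subgroup Ω) (f : Ω → Ω), Map F P f → ∃ g : S, ∀ u v : S, (u : Ω) ∈ P → (v : Ω) = f u →
      (g * u * g⁻¹)⁻¹ * v ∈ K) :
    ∃ s : b.Sect, ∀ a q, (s.coc a q : S ⧸ K) = (a : S ⧸ K) := by
  let R : Setoid b.X :=
    { r := fun x y => ∃ u t, b.r (b.l u x) t = y
      iseqv := ⟨fun x => ⟨1, 1, by rw [b.l_one, b.r_one]⟩,
        fun {x y} ⟨u, t, h⟩ => ⟨u⁻¹, t⁻¹, by
          rw [← h, b.l_r, ← b.l_mul, inv_mul_cancel, b.l_one, ← b.r_mul, mul_inv_cancel, b.r_one]⟩,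
        fun {x y z} ⟨u, t, h⟩ ⟨u', t', h'⟩ => ⟨u' * u, t * t', by
          rw [b.l_mul, b.r_mul, ← b.l_r u', h, h']⟩⟩ }
  let x₀ : b.X → b.X := fun x => (Quotient.mk R x).out
  have hx₀ : ∀ x, ∃ u t, b.r (b.l u (x₀ x)) t = x := fun x => Quotient.exact (s := R) (Quotient.out_eq _)
  have hconst : ∀ u x t, x₀ (b.r (b.l u x) t) = x₀ x := fun u x t =>
    congrArg Quotient.out (Quotient.sound (s := R) ⟨u, t, rfl⟩).symm
  choose U T hUT using hx₀
  have hg : ∀ x, ∃ g : S, ∀ u t : S, b.l u x = b.r x t → (u : S ⧸ K) * (g : S ⧸ K) = (g : S ⧸ K) * t := by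
    intro x
    obtain ⟨P, f, hf, hst⟩ := b.stab x
    obtain ⟨g, hg⟩ := hK P f hf
    refine ⟨g⁻¹, fun u t h => ?_⟩
    obtain ⟨hu, ht⟩ := (hst u t).1 h
    rw [← QuotientGroup.mk_mul, ← QuotientGroup.mk_mul, QuotientGroup.eq]
    have := hg u t hu ht
    convert this using 1
    group
  choose G hG using hg
  let π : b.X → S ⧸ K := fun x => (U x : S ⧸ K) * (G (x₀ x) : S ⧸ K) * (T x : S ⧸ K)
  have hπ : ∀ x y u t, x₀ y = x₀ x → b.r (b.l u (x₀ x)) t = y → π y = (u : S ⧸ K) * (G (x₀ x) : S ⧸ K) * t := by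
    intro x y u t hxy h
    have h1 := hUT y
    rw [hxy, ← h] at h1
    have h2 : b.l (u⁻¹ * U y) (x₀ x) = b.r (x₀ x) (t * (T y)⁻¹) := by
      rw [← h]
      apply_fun (fun z => b.r (b.l u⁻¹ z) (T (b.r (b.l u (x₀ x)) t))⁻¹) at h1
      simp only [b.l_r, ← b.l_mul, ← b.r_mul, inv_mul_cancel, b.l_one] at h1
      rw [mul_inv_cancel, b.r_one] at h1
      exact h1
    have h3 := hG _ _ _ h2
    show (U y : S ⧸ K) * (G (x₀ y) : S ⧸ K) * (T y : S ⧸ K) = _
    rw [QuotientGroup.mk_mul, QuotientGroup.mk_inv, QuotientGroup.mk_mul, QuotientGroup.mk_inv] at h3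
    rw [hxy]
    calc (U y : S ⧸ K) * (G (x₀ x) : S ⧸ K) * (T y : S ⧸ K)
        = (u : S ⧸ K) * ((u : S ⧸ K)⁻¹ * (U y : S ⧸ K) * (G (x₀ x) : S ⧸ K)) * (T y : S ⧸ K) := by group
      _ = _ := by rw [h3]; group
  have hπr : ∀ x t, π (b.r x t) = π x * (t : S ⧸ K) := by
    intro x t
    have hc : x₀ (b.r x t) = x₀ x := by rw [← hconst 1 x t, b.l_one]
    rw [hπ x (b.r x t) (U x) (T x * t) hc (by rw [b.r_mul, hUT]), QuotientGroup.mk_mul]
    show _ = (U x : S ⧸ K) * (G (x₀ x) : S ⧸ K) * (T x : S ⧸ K) * (t : S ⧸ K)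
    group
  have hπl : ∀ a x, π (b.l a x) = (a : S ⧸ K) * π x := by
    intro a x
    have hc : x₀ (b.l a x) = x₀ x := by rw [← hconst a x 1, b.r_one]
    rw [hπ x (b.l a x) (a * U x) (T x) hc (by rw [b.l_mul, ← b.l_r, hUT]), QuotientGroup.mk_mul]
    show _ = (a : S ⧸ K) * ((U x : S ⧸ K) * (G (x₀ x) : S ⧸ K) * (T x : S ⧸ K))
    group
  have hcorr : ∀ q : b.Orb, ∃ x, b.cl x = q ∧ π x = 1 := by
    intro q
    obtain ⟨x, rfl⟩ := Quotient.exists_rep q
    obtain ⟨t, ht⟩ := QuotientGroup.mk_surjective (π x)⁻¹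
    exact ⟨b.r x t, b.cl_r x t, by rw [hπr, ht, mul_inv_cancel]⟩
  choose σ hσ hσπ using hcorr
  refine ⟨⟨σ, hσ⟩, fun a q => ?_⟩
  have h := congrArg π (CharBiset.Sect.coc_spec (⟨σ, hσ⟩ : b.Sect) a q)
  rw [hπr, hπl, hσπ, hσπ, one_mul, mul_one] at h
  exact h

/-- The central factor under a normal subgroup maximal below `K`. -/
theorem chief_factor_central {G : Type*} [Group G] [Finite G] (hG : IsPGroup p G) {K M : Subgroup G} [K.Normal]
    [M.Normal] (hMK : M < K) (hmax : ∀ N : Subgroup G, N.Normal → M < N → N ≤ K → N = K) :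
    K.map (QuotientGroup.mk' M) ≤ Subgroup.center (G ⧸ M) ∧
      ∀ a ∈ K.map (QuotientGroup.mk' M), a ^ p = 1 := by
  set π := QuotientGroup.mk' M
  set A := K.map π with hA
  haveI hAn : A.Normal := Subgroup.Normal.map inferInstance π (QuotientGroup.mk'_surjective M)
  have hGM : IsPGroup p (G ⧸ M) := hG.to_quotient M
  have key : ∀ B : Subgroup (G ⧸ M), B.Normal → B ≤ A → B = ⊥ ∨ B = A := by
    intro B hB hBA
    rcases eq_or_lt_of_le (bot_le (a := B)) with h | h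
    · exact Or.inl h.symm
    right
    have hMB : M < B.comap π := by
      refine lt_of_le_of_ne (fun x hx => ?_) fun he => h.ne ?_
      · rw [Subgroup.mem_comap, show π x = 1 from (QuotientGroup.eq_one_iff x).2 hx]; exact B.one_mem
      · rw [← Subgroup.map_comap_eq_self_of_surjective (QuotientGroup.mk'_surjective M) B, ← he,
          (Subgroup.map_eq_bot_iff M).2 (by rw [QuotientGroup.ker_mk'])]
    have hle : B.comap π ≤ K := by
      refine (Subgroup.comap_mono hBA).trans ?_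
      rw [hA, Subgroup.comap_map_eq, QuotientGroup.ker_mk', sup_eq_left.2 hMK.le]
    rw [← Subgroup.map_comap_eq_self_of_surjective (QuotientGroup.mk'_surjective M) B,
      hmax _ inferInstance hMB hle]
  have hAne : A ≠ ⊥ := by
    intro h
    have := (Subgroup.map_eq_bot_iff K).1 h
    rw [QuotientGroup.ker_mk'] at this
    exact hMK.not_ge this
  have hcen : A ⊓ Subgroup.center (G ⧸ M) ≠ ⊥ := by
    haveI : Nontrivial A := (Subgroup.nontrivial_iff_ne_bot A).2 hAne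
    have hconj : IsPGroup p (ConjAct (G ⧸ M)) := hGM.of_equiv ConjAct.toConjAct
    have hdvd : p ∣ Nat.card A := by
      obtain ⟨k, hk⟩ := IsPGroup.iff_card.1 (hGM.to_subgroup A)
      rcases k with _ | k
      · exact absurd (Subgroup.card_eq_one.1 (by simpa using hk)) hAne
      · exact hk ▸ dvd_pow_self p k.succ_ne_zero
    letI : MulAction (ConjAct (G ⧸ M)) A :=
      { smul := fun g a => ⟨g • (a : G ⧸ M), by rw [ConjAct.smul_def]; exact hAn.conj_mem _ a.2 _⟩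
        one_smul := fun a => Subtype.ext (one_smul _ (a : G ⧸ M))
        mul_smul := fun g h a => Subtype.ext (mul_smul g h (a : G ⧸ M)) }
    have h1 : (1 : A) ∈ MulAction.fixedPoints (ConjAct (G ⧸ M)) A := fun g => Subtype.ext (smul_one g)
    obtain ⟨a, ha, hne⟩ := hconj.exists_fixed_point_of_prime_dvd_card_of_fixed_point A hdvd h1
    intro hbot
    refine hne (Subtype.ext ?_).symm
    refine Subgroup.mem_bot.1 (hbot.le ⟨a.2, Subgroup.mem_center_iff.2 fun g => ?_⟩)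
    have := congrArg Subtype.val (ha (ConjAct.toConjAct g))
    change ConjAct.toConjAct g • (a : G ⧸ M) = a at this
    rw [ConjAct.smul_def, ConjAct.ofConjAct_toConjAct] at this
    exact mul_inv_eq_iff_eq_mul.1 this
  have hle : A ≤ Subgroup.center (G ⧸ M) := by
    have := (key (A ⊓ Subgroup.center (G ⧸ M)) inferInstance inf_le_left).resolve_left hcen
    exact this ▸ inf_le_right
  refine ⟨hle, fun a ha => ?_⟩
  rcases eq_or_ne a 1 with rfl | hne
  · rw [one_pow]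
  have hn : ∀ b ∈ A, (Subgroup.zpowers b).Normal := fun b hb => ⟨fun x hx g => by
    obtain ⟨k, rfl⟩ := Subgroup.mem_zpowers_iff.1 hx
    rw [Subgroup.mem_center_iff.1 ((Subgroup.center _).zpow_mem (hle hb) k) g, mul_inv_cancel_right]
    exact Subgroup.zpow_mem _ (Subgroup.mem_zpowers b) k⟩
  rcases key _ (hn _ (A.pow_mem ha p)) (Subgroup.zpowers_le.2 (A.pow_mem ha p)) with h | h
  · exact Subgroup.zpowers_eq_bot.1 h
  exfalso
  obtain ⟨j, hj⟩ := (IsPGroup.iff_orderOf.1 hGM) a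
  have h1 : a ∈ Subgroup.zpowers (a ^ p) := h ▸ ha
  obtain ⟨k, hk⟩ := Subgroup.mem_zpowers_iff.1 h1
  rw [← zpow_natCast, ← zpow_mul] at hk
  have h2 : ((orderOf a : ℤ)) ∣ (p : ℤ) * k - 1 :=
    orderOf_dvd_iff_zpow_eq_one.2 (by rw [zpow_sub, hk, zpow_one, mul_inv_cancel])
  rw [hj] at h2
  rcases j with _ | j
  · exact hne (orderOf_eq_one_iff.1 (by rw [hj, pow_zero]))
  have h3 : (p : ℤ) ∣ (p : ℤ) * k - 1 := dvd_trans ⟨(p : ℤ) ^ j, by push_cast; ring⟩ h2
  have h4 : (p : ℤ) ∣ 1 := by simpa using dvd_sub (dvd_mul_right (p : ℤ) k) h3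
  exact (Fact.out : p.Prime).ne_one (Nat.dvd_one.1 (Int.natCast_dvd_natCast.1 h4))

set_option maxHeartbeats 1600000 in
/-- **Tate's theorem**: the hyperfocal subgroup has no proper supplement in it modulo `Φ(S)`. -/
theorem hyperfocal_le_of_le_sup (hS : IsPGroup p S) (hF : F.IsSaturated p) {L : Subgroup Ω}
    (hLK : L ≤ F.hyperfocalSubgroup p) (hLn : ∀ s ∈ S, ∀ x ∈ L, s * x * s⁻¹ ∈ L)
    (hsup : F.hyperfocalSubgroup p ≤ L ⊔ (frattini ↥S).map S.subtype) :
    F.hyperfocalSubgroup p ≤ L := by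
  classical
  by_contra hcon
  have hKS : F.hyperfocalSubgroup p ≤ S := hyperfocal_le
  set K := (F.hyperfocalSubgroup p).subgroupOf S with hK
  set L' := L.subgroupOf S with hL'
  haveI : K.Normal := ⟨fun n hn g => hyperfocal_conj_mem g.2 hn⟩
  haveI : L'.Normal := ⟨fun n hn g => hLn g g.2 n hn⟩
  have hL'K : L' ≤ K := fun x hx => hLK hx
  have hne : L' ≠ K := fun h => hcon fun x hx => (h.ge (show (⟨x, hKS hx⟩ : S) ∈ K from hx))
  haveI : Nonempty {M : Subgroup S // M.Normal ∧ L' ≤ M ∧ M < K} :=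
    ⟨⟨L', inferInstance, le_rfl, lt_of_le_of_ne hL'K hne⟩⟩
  obtain ⟨⟨M, hMn, hLM, hMK⟩, hmax⟩ :=
    Finite.exists_max (fun M : {M : Subgroup S // M.Normal ∧ L' ≤ M ∧ M < K} => Nat.card M.1)
  haveI := hMn
  have hmax' : ∀ N : Subgroup S, N.Normal → M < N → N ≤ K → N = K := by
    intro N hN hMN hNK
    by_contra h
    have := hmax ⟨N, hN, hLM.trans hMN.le, lt_of_le_of_ne hNK h⟩
    exact hMN.ne (Subgroup.eq_of_le_of_card_ge hMN.le this)
  obtain ⟨hcen, hexp⟩ := chief_factor_central hS hMK hmax'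
  set A := K.map (QuotientGroup.mk' M) with hA
  letI : CommGroup A := { (inferInstance : Group A) with
    mul_comm := fun a b => Subtype.ext (Subgroup.mem_center_iff.1 (hcen b.2) a) }
  let θ : K →* A := ((QuotientGroup.mk' M).comp K.subtype).codRestrict A fun k => ⟨k, k.2, rfl⟩
  have hθ : ∀ (g : S) (k : K) (hgk : g * k * g⁻¹ ∈ K), θ ⟨g * k * g⁻¹, hgk⟩ = θ k := by
    intro g k hgk
    refine Subtype.ext ?_
    show QuotientGroup.mk' M (g * k * g⁻¹) = QuotientGroup.mk' M k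
    rw [map_mul, map_mul, map_inv, Subgroup.mem_center_iff.1 (hcen ⟨k, k.2, rfl⟩) _, mul_inv_cancel_right]
  obtain ⟨b⟩ := exists_charBiset hS hF
  obtain ⟨s, hs⟩ := exists_good_section b K (fun P f hf => by
    obtain ⟨g, hg, h⟩ := conj_mod_hyperfocal hS hF hf
    refine ⟨⟨g, hg⟩, fun u v hu hv => ?_⟩
    have := h u hu
    rw [← hv] at this
    exact this)
  set m := b.orbits with hm
  let rep : S ⧸ K → S := fun c => Quotient.out c
  have hrep : ∀ c : S ⧸ K, (rep c : S ⧸ K) = c := fun c => Quotient.out_eq c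
  have hc_mem : ∀ a : S, (rep a)⁻¹ * a ∈ K := fun a => QuotientGroup.eq.1 (hrep a)
  let c : S → A := fun a => θ ⟨(rep a)⁻¹ * a, hc_mem a⟩
  have hc_r : ∀ (a : S) (k : K), c (a * k) = c a * θ k := by
    intro a k
    have h1 : ((a * k : S) : S ⧸ K) = (a : S ⧸ K) := (QuotientGroup.eq.2 (by simp)).symm
    show θ _ = θ _ * θ k
    rw [← map_mul]
    refine congrArg θ (Subtype.ext ?_)
    show (rep ((a * k : S) : S ⧸ K))⁻¹ * (a * k) = (rep (a : S ⧸ K))⁻¹ * a * k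
    rw [h1, mul_assoc]
  let e : S → S → A := fun x y => c (x * y) * (c x * c y)⁻¹
  have he : ∀ x x' y y' : S, (x : S ⧸ K) = x' → (y : S ⧸ K) = y' → e x y = e x' y' := by
    intro x x' y y' hx hy
    obtain ⟨k, rfl⟩ : ∃ k : K, x' = x * k := ⟨⟨x⁻¹ * x', QuotientGroup.eq.1 hx⟩, by simp⟩
    obtain ⟨l, rfl⟩ : ∃ l : K, y' = y * l := ⟨⟨y⁻¹ * y', QuotientGroup.eq.1 hy⟩, by simp⟩
    have hkk : y⁻¹ * k * y⁻¹⁻¹ ∈ K := Subgroup.Normal.conj_mem inferInstance _ k.2 _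
    have hmul : x * (k : S) * (y * l) = x * y * ((⟨y⁻¹ * k * y⁻¹⁻¹, hkk⟩ * l : K) : S) := by
      simp [mul_assoc]
    show c (x * y) * (c x * c y)⁻¹ = c (x * k * (y * l)) * (c (x * k) * c (y * l))⁻¹
    rw [hmul, hc_r, hc_r, hc_r, map_mul, hθ, mul_mul_mul_comm (c x) (θ k) (c y) (θ l),
      mul_inv_rev (c x * c y), ← mul_assoc, mul_inv_cancel_right]
  let c' : S → A := fun a => ∏ q, c (s.coc a q)
  have hc' : ∀ x y, c' (x * y) = c' x * c' y * e x y ^ m := by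
    intro x y
    show ∏ q, c (s.coc (x * y) q) = (∏ q, c (s.coc x q)) * (∏ q, c (s.coc y q)) * _
    rw [← Equiv.prod_comp (b.actEquiv y) (fun q => c (s.coc x q)), hm, ← CharBiset.orbits_eq b,
      ← Finset.card_univ, ← Finset.prod_const, ← Finset.prod_mul_distrib, ← Finset.prod_mul_distrib]
    refine Finset.prod_congr rfl fun q _ => ?_
    show _ = c (s.coc x (b.act y q)) * c (s.coc y q) * e x y
    rw [CharBiset.Sect.coc_mul, he x (s.coc x (b.act y q)) y (s.coc y q) (hs _ _).symm (hs _ _).symm]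
    show _ = _ * (_ * _⁻¹)
    rw [mul_left_comm, mul_inv_cancel, mul_one]
  let d : S →* A := MonoidHom.mk' (fun a => c' a * (c a ^ m)⁻¹) fun x y => by
    have h1 : c (x * y) = c x * c y * e x y := by
      show _ = _ * (_ * _⁻¹)
      rw [mul_left_comm, mul_inv_cancel, mul_one]
    obtain ⟨w, hw⟩ : ∃ w, e x y = w := ⟨_, rfl⟩
    rw [hw] at h1
    rw [hc', hw, h1, mul_pow, mul_pow, mul_inv_rev (c x ^ m * c y ^ m), ← mul_assoc, mul_inv_cancel_right,
      mul_inv, mul_mul_mul_comm]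
  have hcocK : ∀ (k : K) (q : b.Orb), s.coc (k : S) q ∈ K := fun k q => by
    have h := hs (k : S) q
    rw [(QuotientGroup.eq_one_iff _).2 k.2] at h
    exact (QuotientGroup.eq_one_iff _).1 h
  let θ' : K →* A := MonoidHom.mk' (fun k => ∏ q, θ ⟨s.coc (k : S) q, hcocK k q⟩) fun k l => by
    show ∏ q, θ ⟨s.coc ((k : S) * l) q, hcocK (k * l) q⟩ = _
    rw [← Equiv.prod_comp (b.actEquiv l) (fun q => θ ⟨s.coc (k : S) q, hcocK k q⟩), ← Finset.prod_mul_distrib]
    refine Finset.prod_congr rfl fun q _ => ?_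
    rw [← map_mul]
    exact congrArg θ (Subtype.ext (CharBiset.Sect.coc_mul s _ _ q))
  have hdK : ∀ k : K, d k = θ' k * (θ k ^ m)⁻¹ := by
    intro k
    have h1 : ∀ x : K, c x = c 1 * θ x := fun x => by rw [← hc_r 1 x, one_mul]
    show c' k * (c k ^ m)⁻¹ = θ' k * (θ k ^ m)⁻¹
    have h2 : c' k = c 1 ^ m * θ' k := by
      show ∏ q, c (s.coc (k : S) q) = _
      rw [Finset.prod_congr rfl (fun q _ => h1 ⟨s.coc (k : S) q, hcocK k q⟩), Finset.prod_mul_distrib,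
        Finset.prod_const, Finset.card_univ, CharBiset.orbits_eq b]
      rfl
    rw [h2, h1, mul_pow, mul_inv, mul_mul_mul_comm, mul_inv_cancel, one_mul]
  have hstable : ∀ (P : Subgroup Ω) (f : Ω → Ω), Map F P f → ∀ u v : K, ((u : S) : Ω) ∈ P →
      ((v : S) : Ω) = f (u : S) → θ' v = θ' u := by
    intro P f hf u v hu hv
    obtain ⟨s', ε, hε⟩ := CharBiset.exists_twist s hf
    obtain ⟨a, ha⟩ := CharBiset.exists_change s s'
    have hch := CharBiset.Sect.coc_change s s' a ha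
    show ∏ q, θ ⟨s.coc (v : S) q, hcocK v q⟩ = ∏ q, θ ⟨s.coc (u : S) q, hcocK u q⟩
    rw [← Equiv.prod_comp ε (fun q => θ ⟨s.coc (v : S) q, hcocK v q⟩)]
    have hbar : ∀ q, ((a (b.act v q) : S) : S ⧸ K) = a q := by
      intro q
      obtain ⟨q, rfl⟩ := ε.surjective q
      have h1 := congrArg (fun z : S => (z : S ⧸ K)) (hch (v : S) (ε q))
      simp only [(hε u v hu hv q).2, QuotientGroup.mk_mul, QuotientGroup.mk_inv, hs,
        (QuotientGroup.eq_one_iff _).2 u.2, (QuotientGroup.eq_one_iff _).2 v.2, mul_one] at h1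
      exact inv_mul_eq_one.1 h1.symm
    have hkey : ∀ q, θ ⟨s.coc (v : S) (ε q), hcocK v (ε q)⟩ = θ ⟨s.coc (u : S) q, hcocK u q⟩ *
        (θ ⟨(rep (a (ε q)))⁻¹ * a (ε q), hc_mem _⟩)⁻¹ *
        θ ⟨(rep (a (b.act v (ε q))))⁻¹ * a (b.act v (ε q)), hc_mem _⟩ := by
      intro q
      set q' := b.act (v : S) (ε q)
      set g := rep (a (ε q) : S ⧸ K)
      have hg : rep (a q' : S ⧸ K) = g := congrArg rep (hbar (ε q))
      have h := (hε u v hu hv q).2.symm.trans (hch (v : S) (ε q))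
      set hv' := s.coc (v : S) (ε q)
      set k1 : K := ⟨(rep (a (ε q)))⁻¹ * a (ε q), hc_mem _⟩
      set k2 : K := ⟨(rep (a q'))⁻¹ * a q', hc_mem _⟩
      have hgK : g⁻¹ * hv' * g⁻¹⁻¹ ∈ K := Subgroup.Normal.conj_mem inferInstance _ (hcocK v (ε q)) _
      have h2 : (⟨s.coc (u : S) q, hcocK u q⟩ : K) = k2⁻¹ * ⟨g⁻¹ * hv' * g⁻¹⁻¹, hgK⟩ * k1 := by
        refine Subtype.ext (h.trans ?_)
        show _ = ((rep (a q' : S ⧸ K))⁻¹ * a q')⁻¹ * (g⁻¹ * hv' * g⁻¹⁻¹) * (g⁻¹ * a (ε q))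
        rw [hg]
        show (a q')⁻¹ * hv' * a (ε q) = _
        group
      rw [h2, map_mul, map_mul, map_inv, hθ g⁻¹ ⟨hv', hcocK v (ε q)⟩ hgK]
      rw [mul_inv_cancel_right, mul_comm (θ k2)⁻¹, inv_mul_cancel_right]
    rw [Finset.prod_congr rfl fun q _ => hkey q, Finset.prod_mul_distrib, Finset.prod_mul_distrib,
      Finset.prod_inv_distrib]
    rw [Equiv.prod_comp ε (fun q => θ ⟨(rep (a q))⁻¹ * a q, hc_mem _⟩),
      Equiv.prod_comp ε (fun q => θ ⟨(rep (a (b.act v q)))⁻¹ * a (b.act v q), hc_mem _⟩),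
      show ∏ q, θ ⟨(rep (a (b.act v q)))⁻¹ * a (b.act v q), hc_mem _⟩ = ∏ q, θ ⟨(rep (a q))⁻¹ * a q, hc_mem _⟩
        from Equiv.prod_comp (b.actEquiv v) (fun q => θ ⟨(rep (a q))⁻¹ * a q, hc_mem _⟩),
      inv_mul_cancel_right]
  have hAp : IsPGroup p A := (hS.to_quotient M).to_subgroup A
  have hθ'1 : ∀ k : K, θ' k = 1 := by
    have hle : F.hyperfocalSubgroup p ≤ (θ'.ker.map K.subtype).map S.subtype := by
      refine (Subgroup.closure_le _).2 ?_
      rintro _ ⟨P, α, x, hP, hα, rfl⟩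
      haveI := finite_of_le hP
      haveI := mulAut_finite_of_le hP
      have hmem : ∀ (γ : F.autGroup P), γ ∈ pResidual p ↥(F.autGroup P) → ∀ y ∈ P,
          y⁻¹ * av (γ : MulAut P) y ∈ F.hyperfocalSubgroup p := fun γ hγ y hy =>
        inv_mul_mem_hyperfocal hP hγ hy
      let V : P → ↥(F.autGroup P) → Prop := fun y γ => ∃ k : K,
        ((k : S) : Ω) = (y : Ω)⁻¹ * av (γ : MulAut P) y ∧ θ' k = 1
      suffices hV : V x α by
        obtain ⟨k, hk, hk1⟩ := hV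
        exact ⟨(k : S), ⟨k, hk1, rfl⟩, hk.trans (by rw [av_coe])⟩
      clear hsup
      revert x
      induction hα using Subgroup.closure_induction with
      | mem γ hγ =>
        intro y
        have hγres : γ ∈ pResidual p ↥(F.autGroup P) := Subgroup.subset_closure hγ
        set n := orderOf γ
        have hyK := hmem γ hγres y y.2
        let k₀ : K := ⟨⟨_, hKS hyK⟩, hyK⟩
        refine ⟨k₀, rfl, ?_⟩
        have hmapγ := map_of_mem_autGroup hP γ.2
        have hK' : ∀ i : ℕ, av ((γ : MulAut P) ^ i) ((y : Ω)⁻¹ * av (γ : MulAut P) y) ∈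
            F.hyperfocalSubgroup p := fun i =>
          stronglyClosed_map (Cfsg.Agent.S5124.result p hS F hF)
            (map_of_mem_autGroup hP (Subgroup.pow_mem _ γ.2 i))
            (P.mul_mem (P.inv_mem y.2) (av_mem _ y.2)) hyK
        let kk : ℕ → K := fun i => ⟨⟨_, hKS (hK' i)⟩, hK' i⟩
        have hkk : ∀ i, θ' (kk i) = θ' k₀ := fun i =>
          hstable P _ (map_of_mem_autGroup hP (Subgroup.pow_mem _ γ.2 i)) k₀ (kk i)
            (P.mul_mem (P.inv_mem y.2) (av_mem _ y.2)) rfl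
        have hprod : ∀ i : ℕ, ∃ z : K, ((z : S) : Ω) = (y : Ω)⁻¹ * av ((γ : MulAut P) ^ i) y ∧
            θ' z = θ' k₀ ^ i := by
          intro i
          induction i with
          | zero => exact ⟨1, by rw [pow_zero, av_one y.2]; simp, by rw [map_one, pow_zero]⟩
          | succ i ih =>
            obtain ⟨z, hz, hzθ⟩ := ih
            refine ⟨z * kk i, ?_, by rw [map_mul, hzθ, hkk, pow_succ]⟩
            show ((z : S) : Ω) * av ((γ : MulAut P) ^ i) ((y : Ω)⁻¹ * av (γ : MulAut P) y) = _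
            have hm := map_of_mem_autGroup hP (Subgroup.pow_mem _ γ.2 i)
            rw [hz, hm.map_mul (P.inv_mem y.2) (av_mem _ y.2), hm.map_inv y.2, pow_succ, av_mul _ _ y.2]
            group
        obtain ⟨z, hz, hzθ⟩ := hprod n
        have hz1 : z = 1 := by
          refine Subtype.ext (Subtype.ext ?_)
          rw [hz, ← SubmonoidClass.coe_pow, pow_orderOf_eq_one]
          show (y : Ω)⁻¹ * av (1 : MulAut P) y = 1
          rw [av_one y.2, inv_mul_cancel]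
        rw [hz1, map_one] at hzθ
        obtain ⟨j, hj⟩ := hAp (θ' k₀)
        exact orderOf_eq_one_iff.1 (Nat.eq_one_of_dvd_coprimes (a := p ^ j) (b := n)
          (Nat.Coprime.pow_left _ (Nat.Coprime.symm hγ)) (orderOf_dvd_of_pow_eq_one hj)
          (orderOf_dvd_of_pow_eq_one hzθ.symm))
      | one =>
        intro y
        refine ⟨1, ?_, map_one _⟩
        show (1 : Ω) = (y : Ω)⁻¹ * av (1 : MulAut P) y
        rw [av_one y.2, inv_mul_cancel]
      | mul γ δ _ _ ihγ ihδ =>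
        intro y
        obtain ⟨k, hk, hk1⟩ := ihδ y
        obtain ⟨l, hl, hl1⟩ := ihγ ⟨_, av_mem (δ : MulAut P) y.2⟩
        refine ⟨k * l, ?_, by rw [map_mul, hk1, hl1, one_mul]⟩
        show ((k : S) : Ω) * ((l : S) : Ω) = (y : Ω)⁻¹ * av ((γ : MulAut P) * (δ : MulAut P)) y
        rw [hk, hl, av_mul _ _ y.2]
        group
      | inv γ _ ih =>
        intro y
        obtain ⟨k, hk, hk1⟩ := ih ⟨_, av_mem (γ : MulAut P)⁻¹ y.2⟩
        refine ⟨k⁻¹, ?_, by rw [map_inv, hk1, inv_one]⟩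
        show ((k : S) : Ω)⁻¹ = (y : Ω)⁻¹ * av (γ : MulAut P)⁻¹ y
        rw [hk]
        show ((av (γ : MulAut P)⁻¹ y)⁻¹ * av (γ : MulAut P) (av (γ : MulAut P)⁻¹ y))⁻¹ = _
        rw [av_av_inv _ y.2]; group
    intro k
    obtain ⟨_, ⟨k', hk', rfl⟩, he⟩ := hle (show ((k : S) : Ω) ∈ _ from k.2)
    rw [show k = k' from Subtype.ext (Subtype.ext he.symm)]
    exact hk'
  have hAgen : ∀ x : A, x ≠ 1 → Subgroup.zpowers x = ⊤ := by
    intro x hx
    have hxA : Subgroup.zpowers (x : S ⧸ M) ≤ A := Subgroup.zpowers_le.2 x.2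
    have hB : ((Subgroup.zpowers (x : S ⧸ M)).comap (QuotientGroup.mk' M)).Normal := by
      haveI : (Subgroup.zpowers (x : S ⧸ M)).Normal := ⟨fun y hy g => by
        rw [Subgroup.mem_center_iff.1 (hcen (hxA hy)) g, mul_inv_cancel_right]; exact hy⟩
      infer_instance
    have hMB : M < (Subgroup.zpowers (x : S ⧸ M)).comap (QuotientGroup.mk' M) := by
      obtain ⟨g, hg⟩ := QuotientGroup.mk'_surjective M (x : S ⧸ M)
      refine SetLike.lt_iff_le_and_exists.2 ⟨fun y hy => ?_, g, ?_, fun hgM => hx (Subtype.ext ?_)⟩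
      · rw [Subgroup.mem_comap, show QuotientGroup.mk' M y = 1 from (QuotientGroup.eq_one_iff y).2 hy]
        exact Subgroup.one_mem _
      · rw [Subgroup.mem_comap, hg]; exact Subgroup.mem_zpowers _
      · rw [← hg]; exact (QuotientGroup.eq_one_iff g).2 hgM
    have hle : (Subgroup.zpowers (x : S ⧸ M)).comap (QuotientGroup.mk' M) ≤ K := by
      refine (Subgroup.comap_mono hxA).trans ?_
      rw [hA, Subgroup.comap_map_eq, QuotientGroup.ker_mk', sup_eq_left.2 hMK.le]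
    have heq := hmax' _ hB hMB hle
    refine eq_top_iff.2 fun y _ => ?_
    obtain ⟨g, hg, hgy⟩ := y.2
    have hmem : (QuotientGroup.mk' M g) ∈ Subgroup.zpowers (x : S ⧸ M) := by
      rw [← heq] at hg; exact hg
    rw [hgy] at hmem
    obtain ⟨i, hi⟩ := Subgroup.mem_zpowers_iff.1 hmem
    exact Subgroup.mem_zpowers_iff.2 ⟨i, Subtype.ext hi⟩
  have hΦ : frattini ↥S ≤ d.ker := by
    rcases eq_or_ne d.ker ⊤ with h | h
    · rw [h]; exact le_top
    refine frattini_le_coatom ⟨h, fun N hN => ?_⟩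
    obtain ⟨x, hxN, hxd⟩ := SetLike.exists_of_lt hN
    refine eq_top_iff.2 fun y _ => ?_
    obtain ⟨i, hi⟩ := Subgroup.mem_zpowers_iff.1 ((hAgen (d x) hxd).ge (Subgroup.mem_top (d y)))
    have hm : y * (x ^ i)⁻¹ ∈ d.ker := by rw [MonoidHom.mem_ker, map_mul, map_inv, map_zpow, hi, mul_inv_cancel]
    simpa using N.mul_mem (hN.le hm) (N.zpow_mem hxN i)
  have hLd : L' ≤ d.ker := fun l hl => by
    have hθl : θ ⟨l, hL'K hl⟩ = 1 := Subtype.ext ((QuotientGroup.eq_one_iff l).2 (hLM hl))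
    show d ((⟨l, hL'K hl⟩ : K) : S) = 1
    rw [hdK, hθ'1, hθl, one_pow, inv_one, mul_one]
  obtain ⟨k, hkK, hkM⟩ := SetLike.exists_of_lt hMK
  have hLΦ : L ⊔ (frattini ↥S).map S.subtype = (L' ⊔ frattini ↥S).map S.subtype := by
    rw [Subgroup.map_sup, hL', Subgroup.map_subgroupOf_eq_of_le (hLK.trans hKS)]
  obtain ⟨k', hk', hkk⟩ := (hLΦ ▸ hsup) hkK
  rw [show k' = k from Subtype.ext hkk] at hk'
  have hd1 : d k = 1 := (sup_le hLd hΦ) hk'
  rw [show k = ((⟨k, hkK⟩ : K) : S) from rfl, hdK, hθ'1, one_mul, inv_eq_one] at hd1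
  obtain ⟨j, hj⟩ := hAp (θ ⟨k, hkK⟩)
  have : θ ⟨k, hkK⟩ = 1 := orderOf_eq_one_iff.1 (Nat.eq_one_of_dvd_coprimes (a := p ^ j) (b := m)
    (Nat.Coprime.pow_left _ ((Nat.Prime.coprime_iff_not_dvd Fact.out).2 b.not_dvd))
    (orderOf_dvd_of_pow_eq_one hj) (orderOf_dvd_of_pow_eq_one hd1))
  exact hkM ((QuotientGroup.eq_one_iff k).1 (congrArg Subtype.val this))

end Cfsg.Agent.Local.FS
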