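import Cfsg.Agent.Lib.Local.FS.SimpleSemidihedral
import Cfsg.Agent.Lib.Spor.GolayStabCount
import Cfsg.Prelude.Def_Spor_Mathieu

/-!
The two-fusion system of `M₁₁` is simple: explicit semidihedral Sylow subgroup and two fusing elements.
-/

set_option autoImplicit false
set_option maxRecDepth 100000

namespace Cfsg.Agent.Local.FS

open Cfsg Cfsg.Agent.Spor
open scoped Pointwise

def m11A : List ℕ := [0, 1, 3, 2, 8, 17, 13, 19, 6, 18, 15, 21, 16, 12, 23, 11, 9, 14, 4, 22, 10, 7, 20, 5]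
def m11Ai : List ℕ := [0, 1, 3, 2, 18, 23, 8, 21, 4, 16, 20, 15, 13, 6, 17, 10, 12, 5, 9, 7, 22, 11, 19, 14]
def m11B : List ℕ := [0, 1, 3, 2, 4, 5, 9, 10, 13, 6, 7, 11, 12, 8, 14, 20, 18, 23, 16, 21, 15, 19, 22, 17]
def m11G : List ℕ := [0, 1, 4, 12, 2, 14, 9, 7, 18, 6, 10, 17, 3, 13, 5, 15, 16, 11, 8, 20, 19, 21, 23, 22]
def m11H : List ℕ := [0, 2, 1, 3, 4, 23, 8, 10, 6, 16, 7, 15, 12, 18, 14, 11, 9, 17, 13, 22, 20, 21, 19, 5]

def m11Perm (l k : List ℕ) (h1 : ∀ p : GolayPt, pt (k.getD (idx (pt (l.getD (idx p) 0))) 0) = p)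
    (h2 : ∀ p : GolayPt, pt (l.getD (idx (pt (k.getD (idx p) 0))) 0) = p) : Equiv.Perm GolayPt :=
  ⟨fun p => pt (l.getD (idx p) 0), fun p => pt (k.getD (idx p) 0), h1, h2⟩

theorem mem_M11_of_list {σ : Equiv.Perm GolayPt} {l : List ℕ} (h : Cfsg.Agent.Spor.Rep σ l)
    (hc : ∀ g ∈ codeBasis, pmask l g ∈ codeMasks) (hd : pmask l 340831 = 340831) (h0 : l.getD 0 0 = 0) :
    σ ∈ Spor.M11 := by
  have hsd : mask Spor.squareDodecad = 340831 := by decide +kernel
  have hlt : ∀ g ∈ codeBasis, g < 2 ^ 24 := by decide +kernel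
  refine Subgroup.mem_inf.2 ⟨Subgroup.mem_inf.2 ⟨mem_M24.2 fun g hg => ?_, MulAction.mem_stabilizer_iff.2 ?_⟩,
    MulAction.mem_stabilizer_iff.2 ?_⟩
  · rw [h.mask_smul, mask_ofMask (hlt g hg)]
    exact hc g hg
  · exact mask_injective (by rw [h.mask_smul, hsd, hd])
  · show σ (some 0) = some 0
    rw [h.apply, show idx (some 0 : GolayPt) = 0 from rfl, h0]
    decide +kernel

def m11a : Equiv.Perm GolayPt := m11Perm m11A m11Ai (by decide +kernel) (by decide +kernel)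
def m11b : Equiv.Perm GolayPt := m11Perm m11B m11B (by decide +kernel) (by decide +kernel)
def m11g : Equiv.Perm GolayPt := m11Perm m11G m11G (by decide +kernel) (by decide +kernel)
def m11h : Equiv.Perm GolayPt := m11Perm m11H m11H (by decide +kernel) (by decide +kernel)

theorem m11a_mem : m11a ∈ Spor.M11 :=
  mem_M11_of_list (l := m11A) (by unfold Cfsg.Agent.Spor.Rep; decide +kernel) (by decide +kernel) (by decide +kernel) rfl

theorem m11b_mem : m11b ∈ Spor.M11 :=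
  mem_M11_of_list (l := m11B) (by unfold Cfsg.Agent.Spor.Rep; decide +kernel) (by decide +kernel) (by decide +kernel) rfl

theorem m11g_mem : m11g ∈ Spor.M11 :=
  mem_M11_of_list (l := m11G) (by unfold Cfsg.Agent.Spor.Rep; decide +kernel) (by decide +kernel) (by decide +kernel) rfl

theorem m11h_mem : m11h ∈ Spor.M11 :=
  mem_M11_of_list (l := m11H) (by unfold Cfsg.Agent.Spor.Rep; decide +kernel) (by decide +kernel) (by decide +kernel) rfl

theorem m11_rel : m11a ^ 8 = 1 ∧ m11a ^ 4 ≠ 1 ∧ m11b * m11b = 1 ∧ m11b * m11a = m11a ^ 3 * m11b ∧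
    m11g * m11a ^ 4 * m11g⁻¹ = m11b ∧ m11h * m11a ^ 2 * m11h⁻¹ = m11a * m11b := by
  decide +kernel

theorem squareDodecad_mem : Spor.squareDodecad ∈ dodecads :=
  ⟨⟨qrWord 0, Submodule.subset_span (Or.inl ⟨0, rfl⟩), rfl⟩, by decide +kernel⟩

theorem card_M11 : Nat.card Spor.M11 = 7920 := by
  have hp : (some 0 : GolayPt) ∈ Spor.squareDodecad := by decide +kernel
  rw [← card_stab_dodecad_point squareDodecad_mem hp]
  exact Nat.card_congr
    { toFun := fun g => ⟨⟨g.1, g.2.1.1⟩, g.2.1.2, g.2.2⟩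
      invFun := fun g => ⟨g.1.1, ⟨g.1.2, g.2.1⟩, g.2.2⟩
      left_inv := fun _ => rfl
      right_inv := fun _ => rfl }

theorem m11_two_simple (S : Sylow 2 Spor.M11) :
    (groupFusionSystem (S : Subgroup Spor.M11)).IsSimple 2 := by
  classical
  let A : Spor.M11 := ⟨m11a, m11a_mem⟩
  let B : Spor.M11 := ⟨m11b, m11b_mem⟩
  obtain ⟨r1, r2, r3, r4, r5, r6⟩ := m11_rel
  have e1 : A ^ 8 = 1 := Subtype.ext r1
  have e2 : A ^ 4 ≠ 1 := fun h => r2 (congrArg Subtype.val h)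
  have e3 : B * B = 1 := Subtype.ext r3
  have e4 : B * A = A ^ 3 * B := Subtype.ext r4
  have hA : IsPGroup 2 (Subgroup.zpowers A) := by
    obtain ⟨j, -, hj⟩ := (Nat.dvd_prime_pow Nat.prime_two).1
      (orderOf_dvd_of_pow_eq_one (show A ^ 2 ^ 3 = 1 from e1))
    exact IsPGroup.of_card ((Nat.card_zpowers A).trans hj)
  have hB : IsPGroup 2 (Subgroup.zpowers B) := by
    obtain ⟨j, -, hj⟩ := (Nat.dvd_prime_pow Nat.prime_two).1
      (orderOf_dvd_of_pow_eq_one (show B ^ 2 ^ 1 = 1 by rw [pow_one, pow_two]; exact e3))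
    exact IsPGroup.of_card ((Nat.card_zpowers B).trans hj)
  have hle : Subgroup.zpowers B ≤ Subgroup.normalizer (Subgroup.zpowers A : Set Spor.M11) := by
    refine Subgroup.zpowers_le.2 (Subgroup.mem_normalizer_fintype fun x hx => ?_)
    obtain ⟨i, rfl⟩ := Subgroup.mem_zpowers_iff.1 hx
    show B * A ^ i * B⁻¹ ∈ Subgroup.zpowers A
    rw [← conj_zpow, e4, mul_inv_cancel_right]
    exact zpow_mem (pow_mem (Subgroup.mem_zpowers A) 3) i
  obtain ⟨P, hP⟩ := (IsPGroup.to_sup_of_normal_right' hB hA hle).exists_le_sylow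
  obtain ⟨c, rfl⟩ := MulAction.exists_smul_eq Spor.M11 P S
  have hmem : ∀ x ∈ (P : Subgroup Spor.M11), c * x * c⁻¹ ∈ ((c • P : Sylow 2 Spor.M11) : Subgroup Spor.M11) := by
    intro x hx
    rw [Sylow.coe_subgroup_smul]
    exact Subgroup.smul_mem_pointwise_smul x (MulAut.conj c) _ hx
  refine sd16_simple (c • P) ?_ (hmem A (hP (le_sup_right (a := Subgroup.zpowers B) (Subgroup.mem_zpowers A))))
    (hmem B (hP (le_sup_left (b := Subgroup.zpowers A) (Subgroup.mem_zpowers B)))) ?_ ?_ ?_ ?_ ?_ ?_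
  · rw [Sylow.card_eq_multiplicity, card_M11]
    have : (7920 : ℕ) = 2 ^ 4 * 495 := by norm_num
    rw [this, Nat.factorization_mul (pow_ne_zero 4 two_ne_zero) (by norm_num), Finsupp.add_apply,
      Nat.Prime.factorization_pow Nat.prime_two, Finsupp.single_eq_same,
      Nat.factorization_eq_zero_of_not_dvd (show ¬ 2 ∣ 495 by norm_num)]
    norm_num
  · rw [conj_pow, e1]; group
  · rw [conj_pow, Ne, conj_eq_one_iff]; exact e2
  · rw [conj_mul, e3]; group
  · rw [conj_pow, conj_mul, conj_mul, e4]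
  · refine ⟨c * ⟨m11g, m11g_mem⟩ * c⁻¹, ?_⟩
    rw [conj_pow, ← show (⟨m11g, m11g_mem⟩ : Spor.M11) * A ^ 4 * (⟨m11g, m11g_mem⟩)⁻¹ = B from Subtype.ext r5]
    group
  · refine ⟨c * ⟨m11h, m11h_mem⟩ * c⁻¹, ?_⟩
    rw [conj_mul, ← show (⟨m11h, m11h_mem⟩ : Spor.M11) * A ^ 2 * (⟨m11h, m11h_mem⟩)⁻¹ = A * B from Subtype.ext r6,
      conj_pow]
    group

end Cfsg.Agent.Local.FS
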