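import Cfsg.Agent.Lib.Local.FS.MathieuEngine
import Cfsg.Prelude.Def_Spor_Mathieu

/-!
Permutations of the twenty-four points given by image lists, and the four groups they are tested against.
-/

set_option autoImplicit false
set_option maxRecDepth 100000

namespace Cfsg.Agent.Local.FS.Mathieu

open Cfsg Cfsg.Agent.Spor
open scoped Pointwise

/-- a permutation from two inverse image lists -/
def mkPerm (l k : List ℕ) (h1 : ∀ p : GolayPt, pt (k.getD (idx (pt (l.getD (idx p) 0))) 0) = p)
    (h2 : ∀ p : GolayPt, pt (l.getD (idx (pt (k.getD (idx p) 0))) 0) = p) : Equiv.Perm GolayPt :=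
  ⟨fun p => pt (l.getD (idx p) 0), fun p => pt (k.getD (idx p) 0), h1, h2⟩

/-- an echelon basis of the code, with pivots -/
def codeEchelon : List (ℕ × ℕ) := [(16777215, 23), (6733332, 22), (3509220, 21), (2089522, 20), (786999, 19), (470393, 18), (258862, 17), (129431, 16), (45159, 15), (21116, 14), (10558, 13), (5279, 12)]

/-- reduction by an echelon list -/
def reduceB : List (ℕ × ℕ) → ℕ → Bool
  | [], m => m == 0
  | e :: es, m => if Nat.testBit m e.2 then reduceB es (m ^^^ e.1) else reduceB es m

theorem mem_of_reduceB : ∀ {es : List (ℕ × ℕ)} {m : ℕ}, (∀ e ∈ es, e.1 ∈ codeMasks) →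
    reduceB es m = true → m ∈ codeMasks
  | [], m, _, h => by
    rw [reduceB, beq_iff_eq] at h
    exact h ▸ xorSpan_zero _
  | e :: es, m, he, h => by
    simp only [reduceB] at h
    split at h
    · have h1 := codeMasks_xor (mem_of_reduceB (fun x hx => he x (List.mem_cons_of_mem e hx)) h) (he e List.mem_cons_self)
      rwa [Nat.xor_xor_cancel_right] at h1
    · exact mem_of_reduceB (fun x hx => he x (List.mem_cons_of_mem e hx)) h

theorem codeEchelon_mem : ∀ e ∈ codeEchelon, e.1 ∈ codeMasks := by decide +kernel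

/-- the code test -/
def inCode (l : List ℕ) : Bool := codeBasis.all fun g => reduceB codeEchelon (pmask l g)

theorem rep_lst (σ : Equiv.Perm GolayPt) : Cfsg.Agent.Spor.Rep σ (lst σ) := fun p => by
  simp [lst, List.getD_eq_getElem?_getD, idx_lt, pt_idx]

theorem m24_mem_of_lst {σ : Equiv.Perm GolayPt} (h : inCode (lst σ) = true) : σ ∈ M24 := by
  have hlt : ∀ g ∈ codeBasis, g < 2 ^ 24 := by decide +kernel
  simp only [inCode, List.all_eq_true] at h
  refine mem_M24.2 fun g hg => ?_
  rw [(rep_lst σ).mask_smul, mask_ofMask (hlt g hg)]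
  exact mem_of_reduceB codeEchelon_mem (h g hg)

theorem m12_mem_of_lst {σ : Equiv.Perm GolayPt}
    (h : (inCode (lst σ) && (pmask (lst σ) 340831 == 340831)) = true) : σ ∈ Spor.M12 := by
  rw [Bool.and_eq_true, beq_iff_eq] at h
  have hsd : mask Spor.squareDodecad = 340831 := by decide +kernel
  exact ⟨m24_mem_of_lst h.1, MulAction.mem_stabilizer_iff.2
    (mask_injective (by rw [(rep_lst σ).mask_smul, hsd, h.2]))⟩

theorem fix_of_lst {σ : Equiv.Perm GolayPt} {p : GolayPt} (h : (lst σ).getD (idx p) 0 = idx p) : σ p = p :=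
  idx_injective ((rep_lst σ p).symm.trans h)

theorem m23_mem_of_lst {σ : Equiv.Perm GolayPt}
    (h : (inCode (lst σ) && ((lst σ).getD 23 0 == 23)) = true) : σ ∈ Spor.M23 := by
  rw [Bool.and_eq_true, beq_iff_eq] at h
  exact ⟨m24_mem_of_lst h.1, MulAction.mem_stabilizer_iff.2 (fix_of_lst (p := none) h.2)⟩

theorem m22_mem_of_lst {σ : Equiv.Perm GolayPt}
    (h : (inCode (lst σ) && ((lst σ).getD 23 0 == 23) && ((lst σ).getD 0 0 == 0)) = true) : σ ∈ Spor.M22 := by
  rw [Bool.and_eq_true, beq_iff_eq] at h
  exact ⟨m23_mem_of_lst h.1, MulAction.mem_stabilizer_iff.2 (fix_of_lst (p := some 0) h.2)⟩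

theorem card_m24 : Nat.card M24 = 244823040 := card_M24

theorem card_m12 : Nat.card Spor.M12 = 95040 := by
  have hd : Spor.squareDodecad ∈ dodecads :=
    ⟨⟨qrWord 0, Submodule.subset_span (Or.inl ⟨0, rfl⟩), rfl⟩, by decide +kernel⟩
  rw [← card_stab_dodecad hd]
  exact Nat.card_congr
    { toFun := fun g => ⟨⟨g.1, g.2.1⟩, g.2.2⟩
      invFun := fun g => ⟨g.1.1, g.1.2, g.2⟩
      left_inv := fun _ => rfl
      right_inv := fun _ => rfl }

theorem card_m23 : Nat.card Spor.M23 = 10200960 := by
  rw [← card_stabilizer_point none]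
  exact Nat.card_congr
    { toFun := fun g => ⟨⟨g.1, g.2.1⟩, g.2.2⟩
      invFun := fun g => ⟨g.1.1, g.1.2, g.2⟩
      left_inv := fun _ => rfl
      right_inv := fun _ => rfl }

theorem card_m22 : Nat.card Spor.M22 = 443520 := by
  rw [← card_stabilizer_two (p := none) (q := some 0) (by decide)]
  exact Nat.card_congr
    { toFun := fun g => ⟨⟨g.1, g.2.1.1⟩, g.2.1.2, g.2.2⟩
      invFun := fun g => ⟨g.1.1, ⟨g.1.2, g.2.1⟩, g.2.2⟩
      left_inv := fun _ => rfl
      right_inv := fun _ => rfl }

/-- the certificate read in a subgroup of the permutations of the points -/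
theorem simple_of_subgroup_cert {H : Subgroup (Equiv.Perm GolayPt)} (c : Cert) (gens : List H)
    (h : (gens.map fun g : H => code g.1) = c.gl)
    (hi : (gens.map fun g : H => code g.1⁻¹) = c.gli)
    (hN : Nat.card H = c.N) (h1 : c.checkS = true) (h2 : c.checkCenter = true) (h3 : c.checkClass = true)
    (h4 : c.checkReps = true) (h5 : c.checkSteps = true) (S : Sylow 2 H) :
    (groupFusionSystem (S : Subgroup H)).IsSimple 2 := by
  have hone : code 1 = idC := by decide +kernel
  have hget : ∀ (f : Equiv.Perm GolayPt → Equiv.Perm GolayPt), f 1 = 1 → ∀ i,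
      code (f ((gens.getD i 1 : H) : Equiv.Perm GolayPt)) =
        (gens.map fun g : H => code (f g.1)).getD i (idC) := by
    intro f hf i
    rcases lt_or_ge i gens.length with hlt | hge
    · rw [List.getD_eq_getElem _ _ hlt, List.getD_eq_getElem _ _ (by simpa using hlt), List.getElem_map]
    · rw [List.getD_eq_default _ _ hge, List.getD_eq_default _ _ (by simpa using hge), OneMemClass.coe_one, hf, hone]
  refine simple_of_cert c (fun x : H => code (x : Equiv.Perm GolayPt))
    (fun x y => (congrArg code (Subgroup.coe_mul H x y)).trans (code_mul _ _)) hone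
    (fun x y e => Subtype.ext (code_injective e)) (fun i => gens.getD i 1) (fun i => ?_) (fun i => ?_) hN h1 h2 h3 h4 h5 S
  · rw [Cert.g, ← h]
    exact hget id rfl i
  · rw [Cert.gi, ← hi, Subgroup.coe_inv]
    exact hget (fun σ => σ⁻¹) inv_one i

theorem simple_of_subgroup_cert' {H : Subgroup (Equiv.Perm GolayPt)} (c : Cert) (gens : List H)
    (h : (gens.map fun g : H => code g.1) = c.gl)
    (hi : (gens.map fun g : H => code g.1⁻¹) = c.gli)
    (hN : Nat.card H = c.N) (h1 : c.checkS = true) (h2 : c.checkCenter = true) (h3 : c.checkSize = true)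
    (hclass : c.cLen ≤ Nat.card {y : H // IsConj (gens.getD c.z 1) y})
    (h4 : c.checkReps = true) (h5 : c.checkSteps = true) (S : Sylow 2 H) :
    (groupFusionSystem (S : Subgroup H)).IsSimple 2 := by
  have hone : code 1 = idC := by decide +kernel
  have hget : ∀ (f : Equiv.Perm GolayPt → Equiv.Perm GolayPt), f 1 = 1 → ∀ i,
      code (f ((gens.getD i 1 : H) : Equiv.Perm GolayPt)) =
        (gens.map fun g : H => code (f g.1)).getD i (idC) := by
    intro f hf i
    rcases lt_or_ge i gens.length with hlt | hge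
    · rw [List.getD_eq_getElem _ _ hlt, List.getD_eq_getElem _ _ (by simpa using hlt), List.getElem_map]
    · rw [List.getD_eq_default _ _ hge, List.getD_eq_default _ _ (by simpa using hge), OneMemClass.coe_one, hf, hone]
  refine simple_of_cert' c (fun x : H => code (x : Equiv.Perm GolayPt))
    (fun x y => (congrArg code (Subgroup.coe_mul H x y)).trans (code_mul _ _)) hone
    (fun x y e => Subtype.ext (code_injective e)) (fun i => gens.getD i 1) (fun i => ?_) (fun i => ?_) hN h1 h2 h3 hclass h4 h5 S
  · rw [Cert.g, ← h]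
    exact hget id rfl i
  · rw [Cert.gi, ← hi, Subgroup.coe_inv]
    exact hget (fun σ => σ⁻¹) inv_one i

end Cfsg.Agent.Local.FS.Mathieu
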