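import Cfsg.Agent.Lib.Local.FS.SimpleNormalCentric
import Cfsg.Agent.Lib.Small.PSLn.Sylow

/-!
The defining-characteristic fusion system of `PSL_n(q)`, `n ≥ 3`, is simple.
-/

set_option autoImplicit false

namespace Cfsg.Agent.Local.FS.PSLnSimple

open Matrix Cfsg.Agent.Small.PSLn

variable {n : ℕ} {F : Type*} [Field F]

local notation "Mn" => Matrix (Fin n) (Fin n) F
local notation "SLn" => Matrix.SpecialLinearGroup (Fin n) F
local notation "Pn" => Matrix.ProjectiveSpecialLinearGroup (Fin n) F

/-- upper triangular with constant diagonal: the diagonal of a product -/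
theorem diag_mul {M N : Mn} (hM : ∀ a b, b < a → M a b = 0) (hN : ∀ a b, b < a → N a b = 0) (k : Fin n) :
    (M * N) k k = M k k * N k k := by
  rw [Matrix.mul_apply, Finset.sum_eq_single k]
  · intro m _ hm
    rcases lt_or_gt_of_ne hm with h | h
    · rw [hM k m h, zero_mul]
    · rw [hN m k h, mul_zero]
  · simp

/-- A conjugate of a root element which is a scalar times a unitriangular element is unitriangular. -/
theorem conj_root_eq [NeZero n] {A B u : Mn} (hBA : B * A = 1) {k l : Fin n} (hkl : k ≠ l) {ε : F}
    (hu : IsUT u) (h : 1 + A * Matrix.single k l 1 * B = ε • u) : ε = 1 := by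
  set N := A * Matrix.single k l (1 : F) * B with hN
  have hNN : N * N = 0 := by
    calc N * N = A * Matrix.single k l 1 * (B * A) * Matrix.single k l 1 * B := by simp only [hN, Matrix.mul_assoc]
      _ = 0 := by rw [hBA, Matrix.mul_one, Matrix.mul_assoc A, Matrix.single_mul_single_of_ne (h := hkl.symm), Matrix.mul_zero, Matrix.zero_mul]
  have hNup : ∀ a b, b < a → N a b = 0 := fun a b hab => by
    have := congrFun (congrFun h a) b
    rw [Matrix.add_apply, Matrix.one_apply_ne (ne_of_gt hab), zero_add, Matrix.smul_apply, hu.2 a b hab, smul_zero] at this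
    exact this
  have hNd : N 0 0 = ε - 1 := by
    have := congrFun (congrFun h 0) 0
    rw [Matrix.add_apply, Matrix.one_apply_eq, Matrix.smul_apply, hu.1, smul_eq_mul, mul_one] at this
    rw [← this, add_sub_cancel_left]
  have h2 := congrFun (congrFun hNN 0) 0
  rw [diag_mul hNup hNup, hNd, Matrix.zero_apply, mul_self_eq_zero, sub_eq_zero] at h2
  exact h2

theorem isUT_transvection {k l : Fin n} (hkl : k < l) (t : F) : IsUT (1 + Matrix.single k l t : Mn) := by
  refine ⟨fun a => ?_, fun a b hab => ?_⟩
  · rw [Matrix.add_apply, Matrix.one_apply_eq, Matrix.single_apply, if_neg fun h => ne_of_lt hkl (h.1.trans h.2.symm), add_zero]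
  · rw [Matrix.add_apply, Matrix.one_apply_ne (ne_of_gt hab), Matrix.single_apply, if_neg fun h => ?_, add_zero]
    rw [← h.1, ← h.2] at hab
    exact lt_asymm hkl hab

/-- If the inverse image conjugation sends a root element into `U`, the conjugated root matrix is strictly upper. -/
theorem conj_root_mem [Fintype F] [NeZero n] (A : SLn) {k l : Fin n} (hkl : k < l)
    (h : pr A * xx k l (1 : F) * (pr A)⁻¹ ∈ U n F) :
    ∀ a b, b ≤ a → (A.1 * Matrix.single k l (1 : F) * (A⁻¹).1 : Mn) a b = 0 := by
  rw [xx_eq (ne_of_lt hkl), ← map_inv, ← map_mul, ← map_mul] at h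
  obtain ⟨u, hu, he⟩ := h
  obtain ⟨ε, -, he⟩ := (pr_eq_iff _ _).1 he.symm
  have hBA : (A⁻¹).1 * A.1 = 1 := by rw [← Matrix.SpecialLinearGroup.coe_mul, inv_mul_cancel]; rfl
  have hAB : A.1 * (A⁻¹).1 = 1 := by rw [← Matrix.SpecialLinearGroup.coe_mul, mul_inv_cancel]; rfl
  have he' : 1 + A.1 * Matrix.single k l 1 * (A⁻¹).1 = ε • u.1 := by
    rw [← he, Matrix.SpecialLinearGroup.coe_mul, Matrix.SpecialLinearGroup.coe_mul,
      Matrix.SpecialLinearGroup.transvection_coe, mul_add, mul_one, add_mul, hAB]
  have hε := conj_root_eq hBA (ne_of_lt hkl) hu he'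
  intro a b hab
  have h1 := congrFun (congrFun he' a) b
  rw [hε, one_smul, Matrix.add_apply] at h1
  rcases eq_or_lt_of_le hab with rfl | hlt
  · rw [Matrix.one_apply_eq, hu.1] at h1
    exact add_eq_left.1 h1
  · rw [Matrix.one_apply_ne (ne_of_gt hlt), hu.2 a b hlt, zero_add] at h1
    exact h1

theorem mul_single_mul_apply (A B : Mn) (k l a b : Fin n) :
    (A * Matrix.single k l (1 : F) * B : Mn) a b = A a k * B l b := by
  rw [Matrix.mul_apply, Finset.sum_eq_single l]
  · rw [Matrix.mul_single_apply_same, mul_one]
  · intro m _ hm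
    rw [Matrix.mul_single_apply_of_ne _ _ _ _ _ hm, zero_mul]
  · simp

/-- The normalizer of `U` is upper triangular. -/
theorem upper_of_normalizer [Fintype F] [NeZero n] (A : SLn)
    (h : ∀ x ∈ U n F, pr A * x * (pr A)⁻¹ ∈ U n F) : ∀ a b, b < a → A.1 a b = 0 := by
  classical
  have hBA : ∀ l, ∃ m, (A⁻¹).1 l m ≠ 0 ∧ A.1 m l ≠ 0 := by
    intro l
    by_contra hno
    push Not at hno
    have h1 : ((A⁻¹).1 * A.1) l l = 1 := by
      rw [← Matrix.SpecialLinearGroup.coe_mul, inv_mul_cancel]; exact Matrix.one_apply_eq l
    rw [Matrix.mul_apply, Finset.sum_eq_zero fun m _ => ?_] at h1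
    · exact zero_ne_one h1
    · by_cases hm : (A⁻¹).1 l m = 0
      · rw [hm, zero_mul]
      · rw [hno m hm, mul_zero]
  have hne : ∀ k, (Finset.univ.filter fun a => A.1 a k ≠ 0).Nonempty := fun k => by
    obtain ⟨m, -, hm⟩ := hBA k
    exact ⟨m, by simp [hm]⟩
  let r : Fin n → Fin n := fun k => (Finset.univ.filter fun a => A.1 a k ≠ 0).max' (hne k)
  have hr : ∀ k, A.1 (r k) k ≠ 0 := fun k => (Finset.mem_filter.1 (Finset.max'_mem _ (hne k))).2
  have hrmax : ∀ k a, A.1 a k ≠ 0 → a ≤ r k := fun k a ha => Finset.le_max' _ _ (by simp [ha])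
  have hmono : StrictMono r := by
    intro k l hkl
    obtain ⟨m, hm1, hm2⟩ := hBA l
    refine lt_of_lt_of_le ?_ (hrmax l m hm2)
    by_contra hle
    have h0 := conj_root_mem A hkl (h _ (xx_mem_U hkl 1)) (r k) m (not_lt.1 hle)
    rw [mul_single_mul_apply] at h0
    exact mul_ne_zero (hr k) hm1 h0
  intro a b hab
  by_contra hne'
  exact absurd ((hrmax b a hne').trans (hmono.le_id b)) (not_le.2 hab)

/-- Clearing entries: unitriangular matrices are products of root elements. -/
theorem U_le_closure [Fintype F] [NeZero n] :
    (U n F : Subgroup Pn) ≤ Subgroup.closure {x | ∃ (i j : Fin n) (t : F), i < j ∧ x = xx i j t} := by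
  classical
  rintro _ ⟨A, hA, rfl⟩
  suffices ∀ (m : ℕ) (A : SLn), IsUT A.1 →
      (Finset.univ.filter fun v : Fin n × Fin n => v.1 < v.2 ∧ A.1 v.1 v.2 ≠ 0).card = m →
      pr A ∈ Subgroup.closure {x : Pn | ∃ (i j : Fin n) (t : F), i < j ∧ x = xx i j t} from
    this _ A hA rfl
  intro m
  induction m using Nat.strong_induction_on with
  | _ m ih =>
  intro A hA hm
  rcases Finset.eq_empty_or_nonempty (Finset.univ.filter fun v : Fin n × Fin n => v.1 < v.2 ∧ A.1 v.1 v.2 ≠ 0)
    with h0 | hne
  · rw [show A = 1 from Subtype.ext (Matrix.ext fun a b => ?_), map_one]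
    · exact one_mem _
    rcases lt_trichotomy a b with h | rfl | h
    · rw [Matrix.SpecialLinearGroup.coe_one, Matrix.one_apply_ne (ne_of_lt h)]
      by_contra hab
      exact absurd (show ((a, b) : Fin n × Fin n) ∈ (∅ : Finset _) from h0 ▸ by simp [h, hab]) (Finset.notMem_empty _)
    · rw [hA.1, Matrix.SpecialLinearGroup.coe_one, Matrix.one_apply_eq]
    · rw [hA.2 a b h, Matrix.SpecialLinearGroup.coe_one, Matrix.one_apply_ne (ne_of_gt h)]
  · obtain ⟨⟨i, j⟩, hij, hmax⟩ := Finset.exists_max_image _ (fun v : Fin n × Fin n => v.1) hne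
    simp only [Finset.mem_filter, Finset.mem_univ, true_and] at hij hmax
    obtain ⟨hlt, hne0⟩ := hij
    let T : SLn := Matrix.SpecialLinearGroup.transvection (ne_of_lt hlt) (-(A.1 i j))
    have hTA : ∀ a b, (T * A).1 a b = A.1 a b + if a = i then -(A.1 i j) * A.1 j b else 0 := by
      intro a b
      rw [Matrix.SpecialLinearGroup.coe_mul, Matrix.SpecialLinearGroup.transvection_coe, add_mul, one_mul, Matrix.add_apply]
      split_ifs with h
      · rw [h, Matrix.single_mul_apply_same]
      · rw [Matrix.single_mul_apply_of_ne _ _ _ _ _ h]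
    have hrow : ∀ b, A.1 j b = if b = j then 1 else 0 := fun b => by
      split_ifs with h
      · rw [h, hA.1]
      · rcases lt_or_gt_of_ne h with h | h
        · exact hA.2 j b h
        · by_contra hb
          exact absurd (hmax (j, b) ⟨h, hb⟩) (not_le.2 hlt)
    have hTA' : ∀ a b, (T * A).1 a b = if a = i ∧ b = j then 0 else A.1 a b := by
      intro a b
      rw [hTA, hrow]
      by_cases ha : a = i
      · by_cases hb : b = j
        · rw [if_pos ha, if_pos hb, if_pos ⟨ha, hb⟩, ha, hb, mul_one, add_neg_cancel]
        · rw [if_pos ha, if_neg hb, if_neg fun h => hb h.2, mul_zero, add_zero]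
      · rw [if_neg ha, if_neg fun h => ha h.1, add_zero]
    have hUT : IsUT (T * A).1 := IsUT.mul (by
      rw [Matrix.SpecialLinearGroup.transvection_coe]; exact isUT_transvection hlt _) hA
    have hless : (Finset.univ.filter fun v : Fin n × Fin n => v.1 < v.2 ∧ (T * A).1 v.1 v.2 ≠ 0).card < m := by
      rw [← hm]
      refine Finset.card_lt_card ((Finset.ssubset_iff_of_subset ?_).2 ⟨(i, j), ?_, ?_⟩)
      · intro v hv
        simp only [Finset.mem_filter, Finset.mem_univ, true_and, hTA'] at hv ⊢
        refine ⟨hv.1, fun h => hv.2 ?_⟩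
        split_ifs
        · rfl
        · exact h
      · exact Finset.mem_filter.2 ⟨Finset.mem_univ _, hlt, hne0⟩
      · simp [hTA']
    have h1 := ih _ hless (T * A) hUT rfl
    rw [show A = T⁻¹ * (T * A) by rw [inv_mul_cancel_left], map_mul, map_inv]
    exact mul_mem (inv_mem (Subgroup.subset_closure ⟨i, j, _, hlt, (xx_eq (ne_of_lt hlt) _).symm⟩)) h1

variable [Fintype F]

/-- The radical of a minimal parabolic, in `SL_n`. -/
def radSL (i j : Fin n) (hij : i.val + 1 = j.val) : Subgroup (Matrix.SpecialLinearGroup (Fin n) F) :=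
  let M : Submonoid (Matrix.SpecialLinearGroup (Fin n) F) :=
    { carrier := {A | IsUT A.1 ∧ A.1 i j = 0}
      one_mem' := ⟨show (1 : SLn) ∈ UTg n F from one_mem _, Matrix.one_apply_ne (fun h => by subst h; omega)⟩
      mul_mem' := fun {A B} hA hB => ⟨IsUT.mul hA.1 hB.1, by
        rw [Matrix.SpecialLinearGroup.coe_mul, Matrix.mul_apply]
        refine Finset.sum_eq_zero fun m _ => ?_
        rcases lt_trichotomy m i with h | rfl | h
        · rw [hA.1.2 i m h, zero_mul]
        · rw [hB.2, mul_zero]
        · rcases eq_or_ne m j with rfl | hm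
          · rw [hA.2, zero_mul]
          · rw [hB.1.2 m j (by rw [Fin.lt_def] at h ⊢; have := Fin.val_ne_of_ne hm; omega), mul_zero]⟩ }
  { M with
    inv_mem' := fun {A} hA => by
      classical
      obtain ⟨k, hk⟩ : ∃ k : ℕ, A⁻¹ = A ^ k :=
        ⟨orderOf A - 1, inv_eq_of_mul_eq_one_right (by
          rw [← pow_succ', Nat.sub_add_cancel (orderOf_pos A), pow_orderOf_eq_one])⟩
      rw [hk]
      exact M.pow_mem hA k }

theorem mem_radSL {i j : Fin n} {hij : i.val + 1 = j.val} {A : SLn} :
    A ∈ radSL i j hij ↔ IsUT A.1 ∧ A.1 i j = 0 := Iff.rfl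

theorem pow_char [NeZero n] {p : ℕ} [Fact p.Prime] [CharP F p] {i j : Fin n} (hij : i ≠ j) (t : F) :
    (xx i j t) ^ p ^ 1 = 1 := by
  have hpow : ∀ m : ℕ, ((Matrix.SpecialLinearGroup.transvection hij t : SLn) ^ m).1 = 1 + Matrix.single i j ((m : F) * t) := by
    intro m
    induction m with
    | zero => simp
    | succ m ih =>
      rw [pow_succ, Matrix.SpecialLinearGroup.coe_mul, ih, Matrix.SpecialLinearGroup.transvection_coe, mul_add, mul_one,
        add_mul, one_mul, Matrix.single_mul_single_of_ne (c := (m : F) * t) (i := i) (j := j) (k := i) hij.symm, add_zero,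
        add_assoc, ← Matrix.single_add, Nat.cast_succ, add_mul, one_mul]
  rw [pow_one, xx_eq hij, ← map_pow,
    show (Matrix.SpecialLinearGroup.transvection hij t : SLn) ^ p = 1 from Subtype.ext (by
      rw [hpow, CharP.cast_eq_zero, zero_mul, Matrix.single_zero, add_zero]; rfl), map_one]

set_option maxHeartbeats 2000000 in
/-- simplicity -/
theorem psln_simple {p : ℕ} [Fact p.Prime] [CharP F p] (hn : 3 ≤ n) (S : Sylow p Pn) :
    (groupFusionSystem (S : Subgroup Pn)).IsSimple p := by
  classical
  haveI : NeZero n := ⟨by omega⟩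
  haveI : Finite Pn := Finite.of_surjective _ pr_surjective
  obtain ⟨f, hprime, hF⟩ := FiniteField.card F p
  let S₀ : Sylow p Pn := sylU f.pos hF
  have hS₀ : (S₀ : Subgroup Pn) = U n F := IsPGroup.toSylow_coe _ _
  set a0 : Fin n := ⟨0, by omega⟩ with ha0
  set a1 : Fin n := ⟨1, by omega⟩ with ha1
  set L : Fin n := ⟨n - 1, by omega⟩ with hL
  have h0L : a0 < L := by rw [Fin.lt_def]; simp only [a0, L]; omega
  -- diagonal matrices
  have hdiag : ∀ (d : Fin n → F), (∏ k, d k) = 1 → (Matrix.diagonal d).det = 1 := fun d h => by rw [Matrix.det_diagonal, h]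
  have hdconj : ∀ (D : SLn) (d : Fin n → F), D.1 = Matrix.diagonal d → ∀ (k l : Fin n) (hkl : k ≠ l) (t : F),
      d l ≠ 0 → pr D * xx k l t * (pr D)⁻¹ = xx k l (d k * t / d l) := by
    intro D d hD k l hkl t hl
    rw [mul_inv_eq_iff_eq_mul, xx_eq hkl, xx_eq hkl, ← map_mul, ← map_mul]
    congr 1
    refine Subtype.ext ?_
    rw [Matrix.SpecialLinearGroup.coe_mul, Matrix.SpecialLinearGroup.coe_mul, Matrix.SpecialLinearGroup.transvection_coe,
      Matrix.SpecialLinearGroup.transvection_coe, hD, mul_add, add_mul, mul_one, one_mul]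
    congr 1
    ext a b
    rw [Matrix.diagonal_mul, Matrix.mul_diagonal, Matrix.single_apply, Matrix.single_apply]
    split_ifs with h
    · rw [← h.1, ← h.2, div_mul_cancel₀ _ hl]
    · ring
  refine simple_of_normal_centric S₀ S ?_ ?_ ?_
  · rw [hS₀]
    intro h
    have := xx_mem_U (n := n) h0L (1 : F)
    rw [h, Subgroup.mem_bot, ← xx_zero a0 L] at this
    exact one_ne_zero (xx_inj (ne_of_lt h0L) this)
  · rw [hS₀]
    intro T hTU hT1 hcl
    obtain ⟨x, hxT, hx1, hxc⟩ := exists_central_of_normalized (isPGroup_U hF) hTU hT1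
      fun s hs x hx => hcl x hx s (mul_mem (mul_mem hs (hTU hx)) (inv_mem hs))
    obtain ⟨t, rfl⟩ := (central_U_iff (by omega) x).1 ⟨hTU hxT, fun y hy => (hxc y hy).symm⟩
    have ht : t ≠ 0 := fun h => hx1 (by rw [h, xx_zero])
    have hroot : ∀ s : F, s ≠ 0 → ∃ g : Pn, g * xx a0 L t * g⁻¹ = xx a0 L s := by
      intro s hs
      let d : Fin n → F := fun k => if k = a0 then s / t else if k = a1 then t / s else 1
      have h01 : a0 ≠ a1 := Fin.ne_of_val_ne (by simp [a0, a1])
      have hprod : (∏ k, d k) = 1 := by
        rw [Finset.prod_eq_mul a0 a1 h01 (fun c _ hc => by simp [d, hc.1, hc.2]) (by simp) (by simp)]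
        simp only [d, if_true, if_neg h01.symm]
        field_simp
      have hdL : d L = 1 := by
        simp only [d]
        rw [if_neg (ne_of_gt h0L), if_neg (Fin.ne_of_val_ne (by simp only [L, a1]; omega))]
      refine ⟨pr ⟨Matrix.diagonal d, hdiag d hprod⟩, ?_⟩
      rw [hdconj ⟨Matrix.diagonal d, hdiag d hprod⟩ d rfl a0 L (ne_of_lt h0L) t (by rw [hdL]; exact one_ne_zero), hdL]
      simp only [d, if_true, div_one]
      rw [div_mul_cancel₀ _ ht]
    refine U_le_closure.trans ((Subgroup.closure_le _).2 ?_)
    rintro _ ⟨i, j, s, hij, rfl⟩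
    rcases eq_or_ne s 0 with rfl | hs
    · rw [xx_zero]; exact one_mem T
    obtain ⟨g, s', hg⟩ := exists_conj_root (by omega) (ne_of_lt hij) s
    have hs' : s' ≠ 0 := fun h => hs (xx_inj (ne_of_lt hij) (by rw [hg, h, xx_zero, xx_zero]; group))
    obtain ⟨g', hg'⟩ := hroot s' hs'
    have he : (g * g') * xx a0 L t * (g * g')⁻¹ = xx i j s := by
      rw [hg, ← hg']; group
    exact he ▸ hcl _ hxT (g * g') (he ▸ xx_mem_U hij s)
  · rw [hS₀]
    -- the radicals
    have hgen : ∀ (i j : Fin n) (hij : i.val + 1 = j.val) (h : Pn), h ∈ Subgroup.normalizer ((U n F : Subgroup Pn) : Set Pn) →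
        h ∈ Subgroup.closure {k : Pn | k ∈ Subgroup.normalizer (((radSL i j hij).map pr : Subgroup Pn) : Set Pn) ∧ ∃ e : ℕ, k ^ p ^ e = 1} →
        IsNormalGenerator p (U n F) h := by
      intro i j hij h hh hcl
      have hlt : i < j := by rw [Fin.lt_def]; omega
      refine ⟨hh, (radSL i j hij).map pr, Subgroup.map_mono fun A hA => hA.1, ?_, ?_, hcl⟩
      · rintro _ ⟨A, hA, rfl⟩ _ ⟨B, hB, rfl⟩
        rw [← map_inv, ← map_mul, ← map_mul]
        refine Subgroup.mem_map_of_mem pr ⟨mul_mem (mul_mem hA hB.1) (inv_mem hA), ?_⟩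
        have hadd : ∀ C D : SLn, IsUT C.1 → IsUT D.1 → (C * D).1 i j = C.1 i j + D.1 i j := by
          intro C D hC hD
          rw [Matrix.SpecialLinearGroup.coe_mul, Matrix.mul_apply,
            Finset.sum_eq_add i j (ne_of_lt hlt) (fun m _ hm => ?_) (by simp) (by simp), hC.1, hD.1, one_mul, mul_one, add_comm]
          rcases lt_or_gt_of_ne hm.1 with h | h
          · rw [hC.2 i m h, zero_mul]
          · rw [hD.2 m j (by rw [Fin.lt_def] at h ⊢; have := Fin.val_ne_of_ne hm.2; omega), mul_zero]
        have hinv : (A⁻¹).1 i j = -(A.1 i j) := by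
          have := hadd A A⁻¹ hA (inv_mem (s := UTg n F) hA)
          rw [mul_inv_cancel, Matrix.SpecialLinearGroup.coe_one, Matrix.one_apply_ne (ne_of_lt hlt)] at this
          linear_combination -this
        rw [hadd (A * B) A⁻¹ (IsUT.mul hA hB.1) (inv_mem (s := UTg n F) hA), hadd A B hA hB.1, hB.2, hinv]
        ring
      · intro y hy
        obtain ⟨A, rfl⟩ := pr_surjective y
        have hmemR : ∀ k l : Fin n, k < l → ¬ (k = i ∧ l = j) → xx k l (1 : F) ∈ (radSL i j hij).map pr := by
          intro k l hkl hne
          rw [xx_eq (ne_of_lt hkl)]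
          refine Subgroup.mem_map_of_mem pr ⟨?_, ?_⟩
          · rw [Matrix.SpecialLinearGroup.transvection_coe]; exact isUT_transvection hkl _
          · rw [Matrix.SpecialLinearGroup.transvection_coe, Matrix.add_apply, Matrix.one_apply_ne (ne_of_lt hlt),
              Matrix.single_apply, if_neg hne, add_zero]
        have hcomm : ∀ k l : Fin n, k < l → ¬ (k = i ∧ l = j) →
            (∀ a, a ≠ k → A.1 a k = 0) ∧ (∀ b, b ≠ l → A.1 l b = 0) ∧ A.1 k k = A.1 l l := by
          intro k l hkl hne
          have h1 := Subgroup.mem_centralizer_iff.1 hy _ (hmemR k l hkl hne)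
          rw [xx_eq (ne_of_lt hkl), ← map_mul, ← map_mul] at h1
          obtain ⟨ε, -, h1⟩ := (pr_eq_iff _ _).1 h1.symm
          rw [Matrix.SpecialLinearGroup.coe_mul, Matrix.SpecialLinearGroup.coe_mul, Matrix.SpecialLinearGroup.transvection_coe] at h1
          have hAB : A.1 * (A⁻¹).1 = 1 := by rw [← Matrix.SpecialLinearGroup.coe_mul, mul_inv_cancel]; rfl
          have hBA : (A⁻¹).1 * A.1 = 1 := by rw [← Matrix.SpecialLinearGroup.coe_mul, inv_mul_cancel]; rfl
          have hε : ε = 1 := by
            refine conj_root_eq hBA (ne_of_lt hkl) (isUT_transvection hkl 1) (ε := ε) ?_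
            have h2 := congrArg (· * (A⁻¹).1) h1
            simp only [Matrix.smul_mul, mul_add, mul_one, add_mul, hAB, Matrix.mul_assoc _ A.1, one_mul] at h2
            exact h2
          rw [hε, one_smul, mul_add, mul_one, add_mul, one_mul, add_right_inj] at h1
          refine ⟨fun a ha => ?_, fun b hb => ?_, ?_⟩
          · have := congrFun (congrFun h1 a) l
            rwa [Matrix.mul_single_apply_same, mul_one, Matrix.single_mul_apply_of_ne _ _ _ _ _ ha] at this
          · have := congrFun (congrFun h1 k) b
            rw [Matrix.mul_single_apply_of_ne _ _ _ _ _ hb, Matrix.single_mul_apply_same, one_mul] at this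
            exact this.symm
          · have := congrFun (congrFun h1 k) l
            rwa [Matrix.mul_single_apply_same, Matrix.single_mul_apply_same, mul_one, one_mul] at this
        have hoff : ∀ a b, a ≠ b → ((b < a) ∨ (a = i ∧ b = j)) → A.1 a b = 0 := by
          intro a b hne hcase
          have hb' : ∀ b : Fin n, b.val < n - 1 → ¬ (b = i ∧ L = j) → ∀ a, a ≠ b → A.1 a b = 0 := fun b hb hn' =>
            (hcomm b L (by rw [Fin.lt_def]; simpa [L] using hb) hn').1
          have hrowL : ∀ b, b ≠ L → A.1 L b = 0 :=
            (hcomm a0 L h0L (fun ⟨e1, e2⟩ => by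
              have h1 := congrArg Fin.val e1
              have h2 := congrArg Fin.val e2
              simp only [a0, L] at h1 h2
              omega)).2.1
          rcases hcase with hba | ⟨rfl, rfl⟩
          · by_cases hb : b = i ∧ L = j
            · have : a = L := by
                refine Fin.ext ?_
                have h1 := congrArg Fin.val hb.1
                have h2 := congrArg Fin.val hb.2
                rw [Fin.lt_def] at hba
                simp only [L] at h2 ⊢
                omega
              rw [this] at hne ⊢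
              exact hrowL b (Ne.symm hne)
            · exact hb' b (by rw [Fin.lt_def] at hba; omega) hb a hne
          · by_cases hjL : b = L
            · have h0a : a0 < a := by
                rw [Fin.lt_def]
                have h2 := congrArg Fin.val hjL
                simp only [a0, L] at h2 ⊢
                omega
              exact (hcomm a0 a h0a (fun h => ne_of_lt h0a h.1)).2.1 b (Ne.symm hne)
            · refine hb' b ?_ (fun h => hne h.1.symm) a hne
              have := Fin.val_ne_of_ne hjL
              simp only [L] at this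
              omega
        have hd : ∀ a, A.1 a a = A.1 a0 a0 := by
          intro a
          rcases eq_or_ne a a0 with rfl | ha'
          · rfl
          have ha : a0 < a := by
            rw [Fin.lt_def]
            have := Fin.val_ne_of_ne ha'
            simp only [a0] at this ⊢
            omega
          by_cases hbad : a0 = i ∧ a = j
          · have haL : a < L := by
              rw [Fin.lt_def]
              have h1 := congrArg Fin.val hbad.1
              have h2 := congrArg Fin.val hbad.2
              simp only [a0, L] at h1 ⊢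
              omega
            rw [(hcomm a L haL fun h => ne_of_lt hlt (h.1.symm.trans hbad.2)).2.2,
              ← (hcomm a0 L h0L fun h => ne_of_lt haL (hbad.2.trans h.2.symm)).2.2]
          · exact (hcomm a0 a ha hbad).2.2.symm
        set c := A.1 a0 a0
        have hup : ∀ a b, b < a → A.1 a b = 0 := fun a b h => hoff a b (ne_of_gt h) (Or.inl h)
        have hdet : c ^ n = 1 := by
          have h := A.2
          rw [Matrix.det_of_isUpperTriangular (M := A.1) (fun a b h => hup a b h), Finset.prod_congr rfl fun a _ => hd a,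
            Finset.prod_const, Finset.card_univ, Fintype.card_fin] at h
          exact h
        have hc0 : c ≠ 0 := fun h => by rw [h, zero_pow (by omega)] at hdet; exact zero_ne_one hdet
        let R : SLn := ⟨c⁻¹ • A.1, by rw [Matrix.det_smul, Fintype.card_fin, A.2, mul_one, inv_pow, hdet, inv_one]⟩
        refine ⟨R, ⟨⟨fun a => ?_, fun a b h => ?_⟩, ?_⟩, (pr_eq_iff _ _).2 ⟨c⁻¹, by rw [inv_pow, hdet, inv_one], rfl⟩⟩
        · show c⁻¹ * A.1 a a = 1
          rw [hd a, inv_mul_cancel₀ hc0]
        · show c⁻¹ * A.1 a b = 0
          rw [hup a b h, mul_zero]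
        · show c⁻¹ * A.1 i j = 0
          rw [hoff i j (ne_of_lt hlt) (Or.inr ⟨rfl, rfl⟩), mul_zero]
    have hxN : ∀ (i j : Fin n) (hij : i.val + 1 = j.val) (t : F),
        xx i j t ∈ Subgroup.normalizer (((radSL i j hij).map pr : Subgroup Pn) : Set Pn) ∧
        xx j i t ∈ Subgroup.normalizer (((radSL i j hij).map pr : Subgroup Pn) : Set Pn) := by
      intro i j hij t
      have hlt : i < j := by rw [Fin.lt_def]; omega
      have key : ∀ (k l : Fin n) (hkl : k ≠ l), (∀ M : SLn, M ∈ radSL i j hij →
          IsUT ((1 + Matrix.single k l t) * M.1 * (1 + Matrix.single k l (-t))) ∧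
          ((1 + Matrix.single k l t) * M.1 * (1 + Matrix.single k l (-t))) i j = 0) →
          xx k l t ∈ Subgroup.normalizer (((radSL i j hij).map pr : Subgroup Pn) : Set Pn) := by
        intro k l hkl hM
        refine Subgroup.mem_normalizer_fintype ?_
        rintro _ ⟨M, hM', rfl⟩
        rw [xx_eq hkl, ← map_inv, ← map_mul, ← map_mul]
        refine Subgroup.mem_map_of_mem pr ?_
        have hinv : (Matrix.SpecialLinearGroup.transvection hkl t : SLn)⁻¹ = Matrix.SpecialLinearGroup.transvection hkl (-t) := by
          refine inv_eq_of_mul_eq_one_right (Subtype.ext ?_)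
          rw [Matrix.SpecialLinearGroup.coe_mul, Matrix.SpecialLinearGroup.transvection_coe, Matrix.SpecialLinearGroup.transvection_coe,
            mul_add, mul_one, add_mul, one_mul, Matrix.single_mul_single_of_ne (c := t) (i := k) (j := l) (k := k) hkl.symm,
            add_zero, add_assoc, ← Matrix.single_add, add_neg_cancel, Matrix.single_zero, add_zero]
          rfl
        rw [mem_radSL, hinv, Matrix.SpecialLinearGroup.coe_mul, Matrix.SpecialLinearGroup.coe_mul,
          Matrix.SpecialLinearGroup.transvection_coe, Matrix.SpecialLinearGroup.transvection_coe]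
        exact hM M hM'
      have hentry : ∀ (k l : Fin n) (M : Mn) (a b : Fin n),
          ((1 + Matrix.single k l t) * M * (1 + Matrix.single k l (-t))) a b =
            M a b + (if a = k then t * M l b else 0) - (if b = l then t * (M a k + if a = k then t * M l k else 0) else 0) := by
        intro k l M a b
        have hleft : ∀ a b, ((1 + Matrix.single k l t) * M) a b = M a b + if a = k then t * M l b else 0 := by
          intro a b
          rw [add_mul, one_mul, Matrix.add_apply]
          split_ifs with h
          · rw [h, Matrix.single_mul_apply_same]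
          · rw [Matrix.single_mul_apply_of_ne _ _ _ _ _ h]
        rw [mul_add, mul_one, Matrix.add_apply, hleft]
        split_ifs with h1 h2 h2 <;>
          first
          | (rw [h2, Matrix.mul_single_apply_same, hleft, h1]; simp; ring)
          | (rw [h2, Matrix.mul_single_apply_same, hleft, if_neg h1]; ring)
          | (rw [Matrix.mul_single_apply_of_ne _ _ _ _ _ h2]; ring)
      refine ⟨key i j (ne_of_lt hlt) fun M hM => ?_, key j i (ne_of_gt hlt) fun M hM => ?_⟩ <;>
        obtain ⟨hMU, hMz⟩ := hM
      · refine ⟨IsUT.mul (IsUT.mul (isUT_transvection hlt t) hMU) (isUT_transvection hlt (-t)), ?_⟩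
        rw [hentry, if_pos rfl, if_pos rfl, if_pos rfl, hMz, hMU.1 j, hMU.1 i, hMU.2 j i hlt]
        ring
      · have hji : ∀ b : Fin n, b < j → b ≠ i → b < i := fun b h h' => by
          rw [Fin.lt_def] at h ⊢; have := Fin.val_ne_of_ne h'; omega
        refine ⟨⟨fun a => ?_, fun a b hba => ?_⟩, ?_⟩
        · rw [hentry]
          rcases eq_or_ne a j with rfl | haj
          · rw [if_pos rfl, if_neg (ne_of_gt hlt), hMz, hMU.1]; ring
          · rcases eq_or_ne a i with rfl | hai
            · rw [if_neg haj, if_pos rfl, if_neg haj, hMz, hMU.1]; ring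
            · rw [if_neg haj, if_neg hai, hMU.1]; ring
        · rw [hentry, hMU.2 a b hba]
          rcases eq_or_ne a j with rfl | haj
          · rcases eq_or_ne b i with rfl | hbi
            · rw [if_pos rfl, if_pos rfl, if_pos rfl, hMU.1 b, hMU.1 a, hMz]; ring
            · rw [if_pos rfl, if_neg hbi, hMU.2 i b (hji b hba hbi)]; ring
          · rcases eq_or_ne b i with rfl | hbi
            · rw [if_neg haj, if_pos rfl, if_neg haj, hMU.2 a j (by rw [Fin.lt_def] at hba ⊢; have := Fin.val_ne_of_ne haj; omega)]; ring
            · rw [if_neg haj, if_neg hbi]; ring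
        · rw [hentry, if_neg (ne_of_lt hlt), if_neg (ne_of_gt hlt), hMz]; ring
    -- elements of `U`
    have hUgen : ∀ u ∈ (U n F : Subgroup Pn), IsNormalGenerator p (U n F) u := by
      intro u hu
      refine hgen a0 a1 (by simp [a0, a1]) u (Subgroup.le_normalizer hu) ?_
      refine (U_le_closure (n := n) (F := F)).trans ((Subgroup.closure_le _).2 ?_) hu
      rintro _ ⟨k, l, t, hkl, rfl⟩
      refine Subgroup.subset_closure ⟨?_, 1, pow_char (ne_of_lt hkl) t⟩
      by_cases hb : k = a0 ∧ l = a1
      · obtain ⟨rfl, rfl⟩ := hb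
        exact (hxN a0 a1 (by simp [a0, a1]) t).1
      · refine Subgroup.le_normalizer ?_
        rw [xx_eq (ne_of_lt hkl)]
        refine Subgroup.mem_map_of_mem pr ⟨?_, ?_⟩
        · rw [Matrix.SpecialLinearGroup.transvection_coe]; exact isUT_transvection hkl _
        · rw [Matrix.SpecialLinearGroup.transvection_coe, Matrix.add_apply,
            Matrix.one_apply_ne (Fin.ne_of_val_ne (by simp [a0, a1])), Matrix.single_apply, if_neg hb, add_zero]
    -- diagonal elements
    have hD : ∀ (m : ℕ) (D : SLn) (d : Fin n → F), D.1 = Matrix.diagonal d → (∀ k : Fin n, k.val + m < n → d k = 1) →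
        m ≤ n → pr D ∈ Subgroup.closure {h : Pn | IsNormalGenerator p (U n F) h} := by
      have hUnorm : ∀ (D : SLn) (d : Fin n → F), D.1 = Matrix.diagonal d →
          pr D ∈ Subgroup.normalizer ((U n F : Subgroup Pn) : Set Pn) := by
        intro D d hD
        have hd0 : ∀ k, d k ≠ 0 := fun k hk => by
          have h := D.2
          rw [hD, Matrix.det_diagonal, Finset.prod_eq_zero (Finset.mem_univ k) hk] at h
          exact zero_ne_one h
        refine Subgroup.mem_normalizer_fintype fun y hy => ?_
        show (MulAut.conj (pr D)).toMonoidHom y ∈ U n F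
        refine ((Subgroup.closure_le ((U n F).comap (MulAut.conj (pr D)).toMonoidHom)).2 ?_) (U_le_closure hy)
        rintro _ ⟨k, l, t, hkl, rfl⟩
        show pr D * xx k l t * (pr D)⁻¹ ∈ U n F
        rw [hdconj D d hD k l (ne_of_lt hkl) t (hd0 l)]
        exact xx_mem_U hkl _
      intro m
      induction m with
      | zero =>
        intro D d hD hd _
        rw [show D = 1 from Subtype.ext (by
          rw [hD, show d = fun _ => 1 from funext fun k => hd k (by simpa using k.2), Matrix.diagonal_one]; rfl), map_one]
        exact one_mem _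
      | succ m ih =>
        intro D d hD hd hm
        let i : Fin n := ⟨n - (m + 1), by omega⟩
        by_cases hm0 : m = 0
        · subst hm0
          have hdi : d i = 1 := by
            have h := D.2
            rw [hD, Matrix.det_diagonal, Finset.prod_eq_single i (fun k _ hk => hd k (by
              have := Fin.val_ne_of_ne hk
              simp only [i] at this
              have := k.2
              omega)) (by simp)] at h
            exact h
          refine ih D d hD (fun k hk => ?_) (by omega)
          rcases eq_or_ne k i with rfl | hk'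
          · exact hdi
          · refine hd k ?_
            have := Fin.val_ne_of_ne hk'
            simp only [i] at this
            omega
        let j : Fin n := ⟨n - m, by omega⟩
        have hij : i.val + 1 = j.val := by simp only [i, j]; omega
        have hne : i ≠ j := Fin.ne_of_val_ne (by omega)
        set a := d i with hadef
        have ha : a ≠ 0 := fun hk => by
          have h := D.2
          rw [hD, Matrix.det_diagonal, Finset.prod_eq_zero (Finset.mem_univ i) hk] at h
          exact zero_ne_one h
        let x : F → SLn := fun t => Matrix.SpecialLinearGroup.transvection hne t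
        let y : F → SLn := fun t => Matrix.SpecialLinearGroup.transvection hne.symm t
        let w : F → SLn := fun t => x t * y (-t⁻¹) * x t
        have hw : ∀ t : F, t ≠ 0 → (w t).1 = 1 - Matrix.single i i 1 - Matrix.single j j 1 + Matrix.single i j t
            - Matrix.single j i t⁻¹ := by
          intro t ht
          have e1 : ∀ r s : F, (Matrix.single i j r * Matrix.single i j s : Mn) = 0 := fun r s =>
            Matrix.single_mul_single_of_ne (h := hne.symm) ..
          have e2 : ∀ r s : F, (Matrix.single i j r * Matrix.single j i s : Mn) = Matrix.single i i (r * s) := fun r s =>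
            Matrix.single_mul_single_same ..
          have e3 : ∀ r s : F, (Matrix.single j i r * Matrix.single i j s : Mn) = Matrix.single j j (r * s) := fun r s =>
            Matrix.single_mul_single_same ..
          have e4 : ∀ r s : F, (Matrix.single i i r * Matrix.single i j s : Mn) = Matrix.single i j (r * s) := fun r s =>
            Matrix.single_mul_single_same ..
          have s1 : ∀ (k l : Fin n) (r : F), (Matrix.single k l (-r) : Mn) = -Matrix.single k l r := fun k l r => by
            ext c d
            simp only [Matrix.neg_apply, Matrix.single_apply]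
            split_ifs <;> simp
          simp only [w, x, y, Matrix.SpecialLinearGroup.coe_mul, Matrix.SpecialLinearGroup.transvection_coe,
            Matrix.mul_add, Matrix.add_mul, Matrix.mul_one, Matrix.one_mul, e1, e2, e3, e4, mul_neg, neg_mul,
            mul_inv_cancel₀ ht, inv_mul_cancel₀ ht, one_mul, add_zero, s1]
          abel
        let d' : Fin n → F := Function.update (Function.update (fun _ => 1) i a) j a⁻¹
        have hwm : ∀ t : F, t ≠ 0 → ∀ (N : Mn) (r c : Fin n), ((w t).1 * N) r c =
            if r = i then t * N j c else if r = j then -t⁻¹ * N i c else N r c := by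
          intro t ht N r c
          rw [hw t ht]
          simp only [Matrix.sub_mul, Matrix.add_mul, Matrix.one_mul, Matrix.sub_apply, Matrix.add_apply]
          by_cases hri : r = i
          · subst hri
            rw [if_pos rfl, Matrix.single_mul_apply_same, Matrix.single_mul_apply_of_ne _ _ _ _ _ hne,
              Matrix.single_mul_apply_same, Matrix.single_mul_apply_of_ne _ _ _ _ _ hne]
            ring
          · by_cases hrj : r = j
            · subst hrj
              rw [if_neg hri, if_pos rfl, Matrix.single_mul_apply_of_ne _ _ _ _ _ hne.symm, Matrix.single_mul_apply_same,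
                Matrix.single_mul_apply_of_ne _ _ _ _ _ hne.symm, Matrix.single_mul_apply_same]
              ring
            · rw [if_neg hri, if_neg hrj, Matrix.single_mul_apply_of_ne _ _ _ _ _ hri, Matrix.single_mul_apply_of_ne _ _ _ _ _ hrj,
                Matrix.single_mul_apply_of_ne _ _ _ _ _ hri, Matrix.single_mul_apply_of_ne _ _ _ _ _ hrj]
              ring
        have hwv : ∀ r c : Fin n, (w (-1)).1 r c =
            if r = i then (if c = j then -1 else 0) else if r = j then (if c = i then 1 else 0) else if r = c then 1 else 0 := by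
          intro r c
          have h := hwm (-1) (neg_ne_zero.2 one_ne_zero) 1 r c
          rw [Matrix.mul_one] at h
          rw [h, inv_neg, inv_one]
          simp only [Matrix.one_apply, eq_comm (a := c)]
          split_ifs <;> simp
        have hh : (w a * w (-1)).1 = Matrix.diagonal d' := by
          ext r c
          rw [Matrix.SpecialLinearGroup.coe_mul, hwm a ha]
          simp only [d', hwv, Matrix.diagonal_apply, Function.update_apply, if_pos rfl, if_neg hne.symm]
          by_cases hri : r = i
          · subst hri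
            rw [if_pos rfl]
            by_cases hc : c = i
            · subst hc; simp [hne]
            · simp [hc, Ne.symm hc, hne]
          · by_cases hrj : r = j
            · subst hrj
              rw [if_neg hri, if_pos rfl]
              by_cases hc : c = j
              · subst hc; simp [hne.symm]
              · simp [hc, Ne.symm hc, hne.symm]
            · simp [hri, hrj]
        have hgenh : IsNormalGenerator p (U n F) (pr (w a * w (-1))) := by
          refine hgen i j hij _ (hUnorm _ d' hh) ?_
          have hx : ∀ t, pr (x t) ∈ Subgroup.closure {k : Pn | k ∈ Subgroup.normalizer (((radSL i j hij).map pr : Subgroup Pn) : Set Pn) ∧ ∃ e : ℕ, k ^ p ^ e = 1} :=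
            fun t => xx_eq hne t ▸ Subgroup.subset_closure ⟨(hxN i j hij t).1, 1, pow_char hne t⟩
          have hy : ∀ t, pr (y t) ∈ Subgroup.closure {k : Pn | k ∈ Subgroup.normalizer (((radSL i j hij).map pr : Subgroup Pn) : Set Pn) ∧ ∃ e : ℕ, k ^ p ^ e = 1} :=
            fun t => xx_eq hne.symm t ▸ Subgroup.subset_closure ⟨(hxN i j hij t).2, 1, pow_char hne.symm t⟩
          simp only [w, map_mul]
          exact mul_mem (mul_mem (mul_mem (hx _) (hy _)) (hx _)) (mul_mem (mul_mem (hx _) (hy _)) (hx _))
        let d'' : Fin n → F := fun k => (d' k)⁻¹ * d k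
        have hd'0 : ∀ k, d' k ≠ 0 := fun k => by
          simp only [d', Function.update_apply]
          split_ifs <;> simp [ha]
        have hD'' : ((w a * w (-1))⁻¹ * D).1 = Matrix.diagonal d'' := by
          have e : (w a * w (-1)).1 * Matrix.diagonal d'' = D.1 := by
            rw [hh, hD, Matrix.diagonal_mul_diagonal]
            congr 1
            funext k
            rw [← mul_assoc, mul_inv_cancel₀ (hd'0 k), one_mul]
          rw [Matrix.SpecialLinearGroup.coe_mul, ← e, ← Matrix.mul_assoc, ← Matrix.SpecialLinearGroup.coe_mul,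
            inv_mul_cancel, Matrix.SpecialLinearGroup.coe_one, Matrix.one_mul]
        have h1 := ih _ d'' hD'' (fun k hk => ?_) (by omega)
        · have h2 : pr (w a * w (-1)) * pr ((w a * w (-1))⁻¹ * D) ∈ Subgroup.closure {h : Pn | IsNormalGenerator p (U n F) h} :=
            mul_mem (Subgroup.subset_closure hgenh) h1
          rwa [← map_mul, mul_inv_cancel_left] at h2
        · have hkj : k ≠ j := Fin.ne_of_val_ne (by simp only [j]; omega)
          simp only [d'', d', Function.update_apply, if_neg hkj]
          split_ifs with hki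
          · rw [hki]; exact inv_mul_cancel₀ ha
          · rw [inv_one, one_mul]
            refine hd k ?_
            have := Fin.val_ne_of_ne hki
            simp only [i] at this
            omega
    intro g hg
    obtain ⟨A, rfl⟩ := pr_surjective g
    have hup := upper_of_normalizer A fun x hx => (Subgroup.mem_normalizer_iff.1 hg x).1 hx
    have hdetA : (∏ k, A.1 k k) = 1 := by
      rw [← Matrix.det_of_isUpperTriangular (M := A.1) (fun a b h => hup a b h)]; exact A.2
    have hd0 : ∀ k, A.1 k k ≠ 0 := fun k hk => by
      have hz : (∏ m, A.1 m m) = 0 := Finset.prod_eq_zero (Finset.mem_univ k) hk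
      rw [hz] at hdetA
      exact zero_ne_one hdetA
    let D : SLn := ⟨Matrix.diagonal fun k => A.1 k k, hdiag _ hdetA⟩
    let D' : SLn := ⟨Matrix.diagonal fun k => (A.1 k k)⁻¹, hdiag _ (by rw [Finset.prod_inv_distrib, hdetA, inv_one])⟩
    have hDD : D * D' = 1 := Subtype.ext (by
      show Matrix.diagonal (fun k => A.1 k k) * Matrix.diagonal (fun k => (A.1 k k)⁻¹) = 1
      rw [Matrix.diagonal_mul_diagonal, show (fun k => A.1 k k * (A.1 k k)⁻¹) = fun _ => (1 : F) from
        funext fun k => mul_inv_cancel₀ (hd0 k), Matrix.diagonal_one])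
    have hu : pr (D' * A) ∈ (U n F : Subgroup Pn) := by
      refine Subgroup.mem_map_of_mem pr ⟨fun a => ?_, fun a b h => ?_⟩
      · show ((D'.1 : Mn) * A.1) a a = 1
        rw [Matrix.diagonal_mul, inv_mul_cancel₀ (hd0 a)]
      · show ((D'.1 : Mn) * A.1) a b = 0
        rw [Matrix.diagonal_mul, hup a b h, mul_zero]
    have h1 := mul_mem (hD n D _ rfl (fun k hk => absurd hk (by omega)) le_rfl) (Subgroup.subset_closure (hUgen _ hu))
    rwa [← map_mul, ← mul_assoc, hDD, one_mul] at h1

end Cfsg.Agent.Local.FS.PSLnSimple
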