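import Cfsg.Agent.Lib.Local.FS.PSpBlocks
import Cfsg.Agent.Lib.Local.FS.SimplePSLn
import Cfsg.Agent.Lib.Classical.LinBasic

/-!
The defining-characteristic fusion system of `PSp_{2m}(q)` is simple.
-/

set_option autoImplicit false
set_option linter.unusedSectionVars false

namespace Cfsg.Agent.Local.FS.PSpSimple

open Matrix Cfsg.Agent.Small.PSpn
open Cfsg.Agent.Small.PSLn (IsUT UTg mem_UTg)

variable {F : Type*} [Field F] {m : ℕ}

local notation "Mm" => Matrix (Fin m) (Fin m) F
local notation "Gm" => Matrix.symplecticGroup (Fin m) F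
local notation "SLm" => Matrix.SpecialLinearGroup (Fin m) F
local notation "Pm" => Cfsg.PSp m F

/-- A transvection in `GL_m`. -/
noncomputable def tgl {a b : Fin m} (h : a ≠ b) (t : F) : GL (Fin m) F :=
  Matrix.SpecialLinearGroup.toGL (Matrix.SpecialLinearGroup.transvection h t)

theorem tgl_val {a b : Fin m} (h : a ≠ b) (t : F) : (tgl h t).1 = 1 + Matrix.single a b t :=
  Matrix.SpecialLinearGroup.transvection_coe h t

theorem tgl_congr {a b : Fin m} (h : a ≠ b) (t : F) (S : Mm) :
    (tgl h t).1 * S * (tgl h t).1ᵀ =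
      S + (Matrix.single a b t * S + S * Matrix.single b a t) + Matrix.single a a (t * S b b * t) := by
  rw [tgl_val, transpose_add, transpose_one, transpose_single, ← Matrix.single_mul_mul_single]
  simp only [Matrix.add_mul, Matrix.mul_add, Matrix.one_mul, Matrix.mul_one]
  abel

/-- A congruence invariant group of symmetric matrices with a nonzero diagonal entry is everything. -/
theorem sym_span [Fintype F] (hm : 2 ≤ m) (hex : m = 2 → 3 ≤ Fintype.card F) (V : AddSubgroup Mm)
    (hcong : ∀ (D : GL (Fin m) F), ∀ S ∈ V, D.1 * S * D.1ᵀ ∈ V) (hsym : ∀ S ∈ V, Sᵀ = S)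
    {S : Mm} {i : Fin m} (hS : S ∈ V) (ha : S i i ≠ 0) : ∀ T : Mm, Tᵀ = T → T ∈ V := by
  classical
  have step : ∀ (i j : Fin m) (S : Mm), j ≠ i → S ∈ V → S i i ≠ 0 → ∀ c : F, Matrix.single j j c ∈ V := by
    intro i j S hji hS ha
    set a := S i i with hadef
    have hst : ∀ k l, S k l = S l k := fun k l => congrFun (congrFun (hsym S hS) l) k
    set L : Mm := Matrix.single j i 1 * S + S * Matrix.single i j 1 with hL
    have hLv : ∀ r s, L r s = (if r = j then S i s else 0) + (if s = j then S r i else 0) := by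
      intro r s
      rw [hL, Matrix.add_apply]
      congr 1
      · split_ifs with h
        · rw [h, Matrix.single_mul_apply_same, one_mul]
        · rw [Matrix.single_mul_apply_of_ne _ _ _ _ _ h]
      · split_ifs with h
        · rw [h, Matrix.mul_single_apply_same, mul_one]
        · rw [Matrix.mul_single_apply_of_ne _ _ _ _ _ h]
    have hΦ : ∀ t : F, t • L + Matrix.single j j (t * a * t) ∈ V := by
      intro t
      have h := V.sub_mem (hcong (tgl hji t) S hS) hS
      rw [tgl_congr] at h
      have e : Matrix.single j i t * S + S * Matrix.single i j t = t • L := by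
        rw [hL, smul_add, ← Matrix.smul_mul, ← Matrix.mul_smul, Matrix.smul_single, Matrix.smul_single, smul_eq_mul,
          mul_one]
      rw [e, ← hadef] at h
      simpa [add_assoc] using h
    intro c
    by_cases h2 : (2 : F) ≠ 0
    · have h := V.sub_mem (V.add_mem (hΦ (-c / (2 * a))) (hΦ 1)) (hΦ (-c / (2 * a) + 1))
      convert h using 1
      ext r s
      simp only [Matrix.sub_apply, Matrix.add_apply, Matrix.smul_apply, Matrix.single_apply, smul_eq_mul]
      split_ifs <;> field_simp <;> ring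
    · push Not at h2
      rcases eq_or_ne (Fintype.card F) 2 with hc2 | hc2
      · -- two elements
        have hm3 : 3 ≤ m := by
          by_contra h
          have := hex (by omega)
          omega
        have hbool : ∀ x : F, x = 0 ∨ x = 1 := fun x => by
          by_contra h
          push Not at h
          have h3 : ({0, 1, x} : Finset F).card ≤ Fintype.card F := Finset.card_le_univ _
          rw [Finset.card_eq_three.2 ⟨0, 1, x, zero_ne_one, h.1.symm, h.2.symm, rfl⟩, hc2] at h3
          omega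
        have ha1 : a = 1 := (hbool a).resolve_left ha
        obtain ⟨k, hki, hkj⟩ : ∃ k : Fin m, k ≠ i ∧ k ≠ j := by
          by_contra h
          push Not at h
          have h3 : (Finset.univ : Finset (Fin m)).card ≤ ({i, j} : Finset (Fin m)).card :=
            Finset.card_le_card fun k _ => by
              by_cases hk : k = i
              · simp [hk]
              · simp [h k hk]
          rw [Finset.card_univ, Fintype.card_fin, Finset.card_pair hji.symm] at h3
          omega
        let A : Fin m → Fin m → Mm := fun r s => Matrix.single r s 1 + Matrix.single s r 1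
        have hAjk : A j k ∈ V := by
          have hk := hcong (tgl hki 1) S hS
          have hj := hcong (tgl hji 1) _ hk
          have h := V.sub_mem (V.sub_mem (V.add_mem hj hS) hk) (hcong (tgl hji 1) S hS)
          convert h using 1
          rw [tgl_congr, tgl_congr, tgl_congr]
          have ex : (Matrix.single k i (1 : F) * S + S * Matrix.single i k 1 + Matrix.single k k (1 * S i i * 1) : Mm) i i
              = 0 := by
            simp [Matrix.single_mul_apply_of_ne, Matrix.mul_single_apply_of_ne, Matrix.single_apply, hki.symm, hki]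
          have ex' : (S + (Matrix.single k i (1 : F) * S + S * Matrix.single i k 1) +
              Matrix.single k k (1 * S i i * 1) : Mm) i i = a := by
            rw [add_assoc S, Matrix.add_apply, ex, add_zero]
          rw [ex']
          have z1 : (Matrix.single j i (1 : F) * (Matrix.single k i 1 * S) : Mm) = 0 := by
            rw [← Matrix.mul_assoc, Matrix.single_mul_single_of_ne (h := hki.symm), Matrix.zero_mul]
          have z2 : (S * Matrix.single i k (1 : F) * Matrix.single i j 1 : Mm) = 0 := by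
            rw [Matrix.mul_assoc, Matrix.single_mul_single_of_ne (h := hki), Matrix.mul_zero]
          have z3 : ∀ u : F, (Matrix.single j i (1 : F) * Matrix.single k k u : Mm) = 0 := fun u =>
            Matrix.single_mul_single_of_ne (h := hki.symm) ..
          have z4 : ∀ u : F, (Matrix.single k k u * Matrix.single i j (1 : F) : Mm) = 0 := fun u =>
            Matrix.single_mul_single_of_ne (h := hki) ..
          simp only [Matrix.mul_add, Matrix.add_mul, z1, z2, ← Matrix.mul_assoc (Matrix.single j i (1 : F) : Mm) S,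
            Matrix.single_mul_mul_single,
            z3, z4, zero_add, add_zero, one_mul, mul_one, A, ← hadef, ha1]
          abel
        have hrep : ∀ r s c, r ≠ s → c ≠ r → c ≠ s → A r s ∈ V → A r c ∈ V := by
          intro r s c hrs hcr hcs h
          have h1 := V.sub_mem (hcong (tgl hcs 1) _ h) h
          convert h1 using 1
          rw [tgl_congr]
          ext u v
          simp only [A, Matrix.sub_apply, Matrix.add_apply, Matrix.mul_add, Matrix.add_mul,
            Matrix.single_mul_single_same, Matrix.single_mul_single_of_ne (h := hrs.symm),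
            Matrix.single_mul_single_of_ne (h := hrs), Matrix.single_apply, one_mul, mul_one]
          simp [Ne.symm hrs, hrs, Matrix.single_apply]
          ring
        have hsymA : ∀ r s, A r s = A s r := fun r s => add_comm _ _
        have hall : ∀ x y, x ≠ y → A x y ∈ V := by
          have hend : ∀ x, ∀ r, x ≠ r → A r x ∈ V → ∀ y, x ≠ y → A x y ∈ V := by
            intro x r hxr h y hxy
            rcases eq_or_ne y r with rfl | hyr
            · rwa [hsymA]
            · exact hrep x r y hxr hxy.symm hyr (hsymA r x ▸ h)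
          intro x y hxy
          rcases eq_or_ne x j with rfl | hxj
          · exact hend x k hkj.symm (hsymA x k ▸ hAjk) y hxy
          rcases eq_or_ne x k with rfl | hxk
          · exact hend x j hkj hAjk y hxy
          · exact hend x j hxj (hrep j k x hkj.symm hxj hxk hAjk) y hxy
        have h1 := hΦ 1
        rw [one_smul, one_mul, mul_one, ha1] at h1
        have hLsum : L = ∑ s ∈ Finset.univ.erase j, (if S i s = 0 then 0 else A j s) := by
          ext r s
          have hf : ∀ x : Fin m, (if S i x = 0 then (0 : Mm) else A j x) r s =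
              S i x * ((if j = r ∧ x = s then 1 else 0) + (if x = r ∧ j = s then 1 else 0)) := by
            intro x
            rcases hbool (S i x) with h | h <;> simp [h, A, Matrix.single_apply]
          rw [Matrix.sum_apply, Finset.sum_congr rfl fun x _ => hf x, hLv]
          simp only [mul_add, Finset.sum_add_distrib, mul_ite, mul_one, mul_zero, ite_and]
          by_cases hr : r = j <;> by_cases hs : s = j
          · simp [Finset.sum_ite_eq', hr, hs, hst j i, ← two_mul, h2]
          · simp [Finset.sum_ite_eq', hr, hs, Ne.symm hs]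
          · simp [Finset.sum_ite_eq', hr, hs, Ne.symm hr, hst r i]
          · simp [Finset.sum_ite_eq', hr, hs, Ne.symm hr, Ne.symm hs]
        have hLV : L ∈ V := hLsum ▸ V.sum_mem fun s hs => by
          split_ifs
          · exact V.zero_mem
          · exact hall j s (Finset.ne_of_mem_erase hs).symm
        have hE : Matrix.single j j (1 : F) ∈ V := by simpa using V.sub_mem h1 hLV
        rcases hbool c with rfl | rfl
        · rw [Matrix.single_zero]; exact V.zero_mem
        · exact hE
      · obtain ⟨ν, hν0, hν1⟩ : ∃ ν : F, ν ≠ 0 ∧ ν ≠ 1 := by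
          by_contra h
          push Not at h
          have h3 : Fintype.card F ≤ ({0, 1} : Finset F).card := Finset.card_le_card fun x _ => by
            by_cases hx : x = 0
            · simp [hx]
            · simp [h x hx]
          rw [Finset.card_pair zero_ne_one] at h3
          have := Fintype.one_lt_card (α := F)
          omega
        have hν2 : ν * ν - 1 ≠ 0 := fun h => hν1 (sub_eq_zero.1 (mul_self_eq_zero.1
          (show (ν - 1) * (ν - 1) = 0 by linear_combination h + (1 - ν) * h2)))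
        haveI : CharP F 2 := CharTwo.of_one_ne_zero_of_two_eq_zero one_ne_zero h2
        obtain ⟨t, ht⟩ : IsSquare (c / ((ν * ν - 1) * a)) :=
          FiniteField.isSquare_of_char_two (ringChar.eq F 2) _
        let d : Fin m → F := Function.update (fun _ => ν) j 1
        have hd : ∀ r, d r ≠ 0 := fun r => by simp only [d, Function.update_apply]; split_ifs <;> simp [hν0]
        let D : GL (Fin m) F := ⟨Matrix.diagonal d, Matrix.diagonal fun r => (d r)⁻¹,
          by simp [Matrix.diagonal_mul_diagonal, hd], by simp [Matrix.diagonal_mul_diagonal, hd]⟩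
        have h := V.sub_mem (hΦ (ν * t)) (hcong D _ (hΦ t))
        convert h using 1
        ext r s
        show _ = _ - (Matrix.diagonal d * _ * (Matrix.diagonal d)ᵀ : Mm) r s
        rw [Matrix.diagonal_transpose, Matrix.mul_diagonal, Matrix.diagonal_mul]
        simp only [Matrix.add_apply, Matrix.smul_apply, Matrix.single_apply, smul_eq_mul, hLv, d, Function.update_apply]
        by_cases hr : r = j
        · by_cases hs : s = j
          · rw [hr, hs]
            simp only [and_self, if_true, hst j i, one_mul, mul_one]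
            rw [div_eq_iff (mul_ne_zero hν2 ha)] at ht
            linear_combination ht + (t * S i j - ν * t * S i j) * h2
          · simp [hr, hs, Ne.symm hs]
            ring
        · by_cases hs : s = j
          · simp [hr, hs, Ne.symm hr]
            ring
          · simp [hr, hs, Ne.symm hs, Ne.symm hr]
  haveI : Nontrivial (Fin m) := Fin.nontrivial_iff_two_le.2 hm
  obtain ⟨j, hj⟩ := exists_ne i
  have hjj := step i j S hj hS ha
  have hdiag : ∀ (r : Fin m) (c : F), Matrix.single r r c ∈ V := by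
    intro r
    rcases eq_or_ne r j with rfl | hr
    · exact hjj
    · exact step j r _ hr (hjj 1) (by simp)
  have hoff : ∀ (r s : Fin m) (c : F), r ≠ s → Matrix.single r s c + Matrix.single s r c ∈ V := by
    intro r s c hrs
    have h := V.sub_mem (V.sub_mem (hcong (tgl hrs 1) _ (hdiag s c)) (hdiag s c)) (hdiag r c)
    rw [tgl_congr, Matrix.single_mul_single_same, Matrix.single_mul_single_same] at h
    convert h using 1
    simp only [one_mul, mul_one, Matrix.single_apply_same]
    abel
  intro T hT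
  let M : Mm := Matrix.of fun r s => if r < s then T r s else 0
  have hM : T = Matrix.diagonal (fun r => T r r) + (M + Mᵀ) := by
    ext r s
    have hrs : T s r = T r s := congrFun (congrFun hT r) s
    rcases lt_trichotomy r s with h | rfl | h
    · simp [M, h, ne_of_lt h, lt_asymm h]
    · simp [M]
    · simp [M, h, ne_of_gt h, lt_asymm h, hrs]
  rw [hM]
  refine V.add_mem ?_ ?_
  · rw [Matrix.matrix_eq_sum_single (Matrix.diagonal fun r => T r r)]
    refine V.sum_mem fun r _ => V.sum_mem fun s _ => ?_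
    rcases eq_or_ne r s with rfl | h
    · exact hdiag _ _
    · rw [Matrix.diagonal_apply_ne _ h, Matrix.single_zero]; exact V.zero_mem
  · rw [Matrix.matrix_eq_sum_single M]
    simp only [Matrix.transpose_sum, ← Finset.sum_add_distrib, Matrix.transpose_single]
    refine V.sum_mem fun r _ => V.sum_mem fun s _ => ?_
    rcases eq_or_ne r s with rfl | h
    · simp [M]
    · exact hoff _ _ _ h

variable [Fintype F]

/-- Unitriangular matrices are products of root elements. -/
theorem UT_le_closure [NeZero m] :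
    UTg m F ≤ Subgroup.closure {x : SLm | ∃ (i j : Fin m) (h : i < j) (t : F),
      x = Matrix.SpecialLinearGroup.transvection (ne_of_lt h) t} := by
  intro A hA
  have hle : Subgroup.closure {x : SLm | ∃ (i j : Fin m) (h : i < j) (t : F),
      x = Matrix.SpecialLinearGroup.transvection (ne_of_lt h) t} ≤ UTg m F := by
    rw [Subgroup.closure_le]
    rintro _ ⟨i, j, h, t, rfl⟩
    rw [SetLike.mem_coe, mem_UTg, Matrix.SpecialLinearGroup.transvection_coe]
    exact PSLnSimple.isUT_transvection h t
  have h1 : Cfsg.Agent.Small.PSLn.pr A ∈ (Subgroup.closure {x : SLm | ∃ (i j : Fin m) (h : i < j) (t : F),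
      x = Matrix.SpecialLinearGroup.transvection (ne_of_lt h) t}).map Cfsg.Agent.Small.PSLn.pr := by
    rw [MonoidHom.map_closure]
    refine Subgroup.closure_mono ?_ (PSLnSimple.U_le_closure ⟨A, hA, rfl⟩)
    rintro _ ⟨i, j, t, h, rfl⟩
    exact ⟨_, ⟨i, j, h, t, rfl⟩, (Cfsg.Agent.Small.PSLn.xx_eq (ne_of_lt h) t).symm⟩
  obtain ⟨B, hB, he⟩ := h1
  rwa [← Cfsg.Agent.Small.PSLn.pr_injOn_UT (hle hB) hA he]

theorem lv_mem_U {D : GL (Fin m) F} (h : IsUT D.1) : lv D ∈ U (F := F) (m := m) :=
  ⟨(lv_blocks D).1, (lv_blocks D).2.symm ▸ h⟩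

/-- Weyl element on the `j`th hyperbolic pair. -/
def wp (j : Fin m) : Gm :=
  ⟨fromBlocks (1 - Matrix.single j j 1) (-Matrix.single j j 1) (Matrix.single j j 1) (1 - Matrix.single j j 1), by
    rw [SymplecticGroup.fromBlocks_mem_iff]
    simp [Matrix.transpose_sub, Matrix.sub_mul, Matrix.mul_sub]⟩

theorem wp_conj {i j : Fin m} (hij : i ≠ j) (s : F) :
    wp j * sie (Matrix.single i j s + Matrix.single j i s) * (wp j)⁻¹ = lv (tgl hij s) := by
  rw [mul_inv_eq_iff_eq_mul]
  refine Subtype.ext ?_
  have hS : (Matrix.single i j s + Matrix.single j i s : Mm)ᵀ = Matrix.single i j s + Matrix.single j i s := by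
    rw [transpose_add, transpose_single, transpose_single, add_comm]
  have hinv : ((tgl hij s)⁻¹ : GL (Fin m) F).1 = 1 - Matrix.single i j s := by
    have h : (tgl hij s).1 * (1 - Matrix.single i j s) = 1 := by
      rw [tgl_val, Matrix.mul_sub, Matrix.mul_one, Matrix.add_mul, Matrix.one_mul,
        Matrix.single_mul_single_of_ne (h := hij.symm)]
      abel
    calc ((tgl hij s)⁻¹ : GL (Fin m) F).1
        = ((tgl hij s)⁻¹ : GL (Fin m) F).1 * ((tgl hij s).1 * (1 - Matrix.single i j s)) := by rw [h, Matrix.mul_one]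
      _ = _ := by rw [← Matrix.mul_assoc, Units.inv_mul, Matrix.one_mul]
  rw [Submonoid.coe_mul, Submonoid.coe_mul, sie_val hS, lv_val, hinv, tgl_val]
  show fromBlocks (1 - Matrix.single j j 1) (-Matrix.single j j 1) (Matrix.single j j 1) (1 - Matrix.single j j 1) * _ =
    _ * fromBlocks (1 - Matrix.single j j 1) (-Matrix.single j j 1) (Matrix.single j j 1) (1 - Matrix.single j j 1)
  rw [fromBlocks_multiply, fromBlocks_multiply]
  simp [Matrix.transpose_sub, Matrix.sub_mul, Matrix.mul_sub, Matrix.add_mul, Matrix.mul_add, hij, hij.symm]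
  abel

variable {p : ℕ} [Fact p.Prime] [CharP F p]

theorem pel_U {g : Gm} (hg : g ∈ U (F := F) (m := m)) : PEl p g := by
  obtain ⟨k, hk⟩ := isPGroup_U (p := p) ⟨g, hg⟩
  exact ⟨k, congrArg Subtype.val hk⟩

theorem scalar_center {c : F} {z : Gm} (hz : z.1 = c • 1) : z ∈ Subgroup.center Gm := by
  refine Subgroup.mem_center_iff.2 fun g => Subtype.ext ?_
  rw [Submonoid.coe_mul, Submonoid.coe_mul, hz, Matrix.smul_mul, Matrix.mul_smul, Matrix.one_mul, Matrix.mul_one]

theorem ps_eq_of_smul {c : F} {g u : Gm} (h : g.1 = c • u.1) : (ps g : Pm) = ps u := by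
  have hz : (g * u⁻¹).1 = c • 1 := by
    rw [Submonoid.coe_mul, h, Matrix.smul_mul, ← Submonoid.coe_mul, mul_inv_cancel]; rfl
  rw [show g = g * u⁻¹ * u by group, map_mul, ps_eq_one.2 (scalar_center hz), one_mul]

/-- The image of `U`. -/
noncomputable def U0 : Subgroup Pm := (U (F := F) (m := m)).map ps

theorem exists_upper {g : Gm} (hg : ∀ x ∈ U0 (F := F) (m := m), ps g * x * (ps g)⁻¹ ∈ U0) :
    g.1.toBlocks₁₂ = 0 ∧ ∀ a b, b < a → g.1.toBlocks₂₂ a b = 0 := by
  refine upper_of_normalizes fun x hx => ?_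
  obtain ⟨u, hu, he⟩ := hg _ (Subgroup.mem_map_of_mem ps hx)
  rw [← map_inv, ← map_mul, ← map_mul] at he
  obtain ⟨q, hq⟩ := CharP.exists F
  haveI : Fact q.Prime := ⟨CharP.char_is_prime F q⟩
  obtain ⟨k, hk⟩ := pel_U (p := q) hx
  rwa [← pElem_inj (pel_U (p := q) hu) ⟨k, by rw [← MulAut.conj_apply, ← map_pow, hk, map_one]⟩ he]

/-- A `p`-element normalizing `U0` lies in it. -/
theorem mem_U0_of_pelement {g : Gm} (hg : ∀ x ∈ U0 (F := F) (m := m), ps g * x * (ps g)⁻¹ ∈ U0)
    {k : ℕ} (hk : (ps g : Pm) ^ p ^ k = 1) : (ps g : Pm) ∈ U0 := by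
  obtain ⟨h12, hup⟩ := exists_upper hg
  rw [← map_pow] at hk
  obtain ⟨c, hc, hce⟩ := Cfsg.Agent.Small.sp_center_smul m _ (ps_eq_one.1 hk)
  obtain ⟨hl, hD⟩ := low_pow h12 (p ^ k)
  set D := g.1.toBlocks₂₂
  have hdiag : ∀ N : ℕ, (∀ a b, b < a → (D ^ N) a b = 0) ∧ ∀ a, (D ^ N) a a = D a a ^ N := by
    intro N
    induction N with
    | zero => exact ⟨fun a b h => Matrix.one_apply_ne (ne_of_gt h), fun a => by simp⟩
    | succ N ih =>
      refine ⟨fun a b h => ?_, fun a => ?_⟩
      · rw [pow_succ, Matrix.mul_apply]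
        refine Finset.sum_eq_zero fun r _ => ?_
        rcases lt_or_ge r a with h' | h'
        · rw [ih.1 a r h', zero_mul]
        · rw [hup r b (lt_of_lt_of_le h h'), mul_zero]
      · rw [pow_succ, PSLnSimple.diag_mul ih.1 hup, ih.2, pow_succ]
  have hcN : c ^ p ^ k = c := by
    rcases (Fact.out : p.Prime).eq_two_or_odd with rfl | hodd
    · have : c = 1 := sub_eq_zero.1 (mul_self_eq_zero.1 (show (c - 1) * (c - 1) = 0 by
        have h2 : (2 : F) = 0 := CharTwo.two_eq_zero
        linear_combination hc + (1 - c) * h2))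
      rw [this, one_pow]
    · obtain ⟨r, hr⟩ := (Nat.odd_iff.2 hodd).pow (n := k)
      rw [hr, pow_succ, pow_mul, pow_two, hc, one_pow, one_mul]
  have hDc : ∀ a, D a a = c := fun a => by
    have h := (hdiag (p ^ k)).2 a
    rw [← hD, hce, toBlocks₂₂] at h
    simp at h
    exact sub_eq_zero.1 (eq_zero_of_pow_eq_zero (n := p ^ k) (by rw [sub_pow_char_pow, hcN, ← h, sub_self]))
  let z : Gm := ⟨c • 1, by
    rw [SymplecticGroup.mem_iff]; simp [Matrix.transpose_smul, smul_smul, hc]⟩
  refine ⟨z * g, ⟨?_, ?_⟩, ?_⟩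
  · show ((c • 1 : Matrix (Fin m ⊕ Fin m) (Fin m ⊕ Fin m) F) * g.1).toBlocks₁₂ = 0
    rw [Matrix.smul_mul, Matrix.one_mul]
    ext a b
    simpa [toBlocks₁₂] using Or.inr (congrFun (congrFun h12 a) b)
  · show IsUT ((c • 1 : Matrix (Fin m ⊕ Fin m) (Fin m ⊕ Fin m) F) * g.1).toBlocks₂₂
    rw [Matrix.smul_mul, Matrix.one_mul]
    refine ⟨fun a => ?_, fun a b h => ?_⟩
    · show c * D a a = 1
      rw [hDc, hc]
    · show c * D a b = 0
      rw [hup a b h, mul_zero]
  · exact ps_eq_of_smul (c := c) (g := z * g) (u := g) (by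
      show (c • 1 : Matrix (Fin m ⊕ Fin m) (Fin m ⊕ Fin m) F) * g.1 = _
      rw [Matrix.smul_mul, Matrix.one_mul])

theorem isPGroup_U0 : IsPGroup p (U0 (F := F) (m := m)) := isPGroup_U.map ps

/-- `U0` as a Sylow subgroup. -/
noncomputable def syl : Sylow p Pm where
  toSubgroup := U0
  isPGroup' := isPGroup_U0
  is_maximal' := fun {Q} hQ hle => by
    by_contra hne
    haveI : Group.IsNilpotent Q := hQ.isNilpotent
    have hlt : (U0 (F := F) (m := m)).subgroupOf Q < ⊤ := lt_top_iff_ne_top.2 fun h =>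
      hne (le_antisymm (Subgroup.subgroupOf_eq_top.1 h) hle)
    obtain ⟨x, hx, hxn⟩ := SetLike.exists_of_lt (Group.normalizerCondition_of_isNilpotent _ hlt)
    obtain ⟨g, hg⟩ := ps_surjective (x : Pm)
    obtain ⟨k, hk⟩ := hQ x
    refine hxn (Subgroup.mem_subgroupOf.2 (hg ▸ mem_U0_of_pelement (k := k) ?_ ?_))
    · intro y hy
      have := (Subgroup.mem_normalizer_iff.1 hx ⟨y, hle hy⟩).1 (Subgroup.mem_subgroupOf.2 hy)
      rw [hg]
      exact Subgroup.mem_subgroupOf.1 this
    · rw [hg]
      exact congrArg Subtype.val hk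

/-- A nontrivial strongly closed subgroup contains `U0`. -/
theorem closed_eq (hm : 2 ≤ m) (hex : m = 2 → 3 ≤ Fintype.card F) (T : Subgroup Pm) (hTU : T ≤ U0)
    (hT1 : T ≠ ⊥) (hcl : ∀ x ∈ T, ∀ g : Pm, g * x * g⁻¹ ∈ U0 → g * x * g⁻¹ ∈ T) : U0 ≤ T := by
  classical
  haveI : NeZero m := ⟨by omega⟩
  haveI : Finite Pm := Finite.of_surjective _ ps_surjective
  obtain ⟨q, hq⟩ := CharP.exists F
  haveI : Fact q.Prime := ⟨CharP.char_is_prime F q⟩
  have hUn : ∀ s ∈ U0 (F := F) (m := m), ∀ x ∈ T, s * x * s⁻¹ ∈ T := fun s hs x hx =>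
    hcl x hx s (mul_mem (mul_mem hs (hTU hx)) (inv_mem hs))
  let V : AddSubgroup Mm :=
    { carrier := {S | Sᵀ = S ∧ (ps (sie S) : Pm) ∈ T}
      zero_mem' := ⟨transpose_zero, by rw [sie_zero, map_one]; exact one_mem T⟩
      add_mem' := fun {a b} ha hb => ⟨add_symm' ha.1 hb.1, by
        rw [← sie_add ha.1 hb.1, map_mul]; exact mul_mem ha.2 hb.2⟩
      neg_mem' := fun {a} ha => ⟨neg_symm ha.1, by rw [← sie_neg ha.1, map_inv]; exact inv_mem ha.2⟩ }
  have hcong : ∀ (D : GL (Fin m) F), ∀ S ∈ V, D.1 * S * D.1ᵀ ∈ V := by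
    rintro D S ⟨hS, hT⟩
    refine ⟨congr_symm _ hS, ?_⟩
    have e : (ps (lv D) : Pm) * ps (sie S) * (ps (lv D))⁻¹ = ps (sie (D.1 * S * D.1ᵀ)) := by
      rw [← map_inv, ← map_mul, ← map_mul, lv_sie D hS]
    exact e ▸ hcl _ hT (ps (lv D)) (e.symm ▸ Subgroup.mem_map_of_mem ps (sie_mem_U (congr_symm _ hS)))
  obtain ⟨x, hxT, hx1, hxc⟩ := exists_central_of_normalized (isPGroup_U0 (p := q)) hTU hT1 hUn
  obtain ⟨u, hu, rfl⟩ := hTU hxT
  have hcomm : ∀ v ∈ U (F := F) (m := m), u * v = v * u := fun v hv =>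
    pElem_comm (pel_U (p := q) hv) (hxc _ (Subgroup.mem_map_of_mem ps hv)).symm
  obtain ⟨c, S₀, -, hS₀, hue⟩ := commute_R2 (by omega) fun S hS => hcomm _ (sie_mem_U hS)
  obtain rfl : c = 1 := by
    have h := hu.2.1 ⟨0, by omega⟩
    rw [hue, sie_val hS₀, fromBlocks_smul, toBlocks_fromBlocks₂₂] at h
    simpa using h
  obtain rfl : u = sie S₀ := Subtype.ext (by rw [hue, one_smul])
  have hS₀V : S₀ ∈ V := ⟨hS₀, hxT⟩
  have hfix : ∀ (a b : Fin m) (hab : a < b), Matrix.single a b 1 * S₀ + S₀ * Matrix.single b a 1 +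
      Matrix.single a a (S₀ b b) = 0 := by
    intro a b hab
    have h := hcomm _ (lv_mem_U (D := tgl (ne_of_lt hab) 1)
      (by rw [tgl_val]; exact PSLnSimple.isUT_transvection hab 1))
    have h1 := lv_sie (tgl (ne_of_lt hab) (1 : F)) hS₀
    rw [← h, mul_inv_cancel_right, tgl_congr] at h1
    have h2 := sie_inj hS₀ (by rw [← tgl_congr (ne_of_lt hab)]; exact congr_symm _ hS₀) h1
    simpa [add_assoc] using h2
  obtain ⟨S, i, hSV, hSi⟩ : ∃ (S : Mm) (i : Fin m), S ∈ V ∧ S i i ≠ 0 := by
    by_contra hno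
    push Not at hno
    have hd : ∀ i, S₀ i i = 0 := fun i => hno _ i hS₀V
    have hz : ∀ a b, a < b → ∀ r, r ≠ a → S₀ b r = 0 := by
      intro a b hab r hr
      have h := congrFun (congrFun (hfix a b hab) a) r
      rw [Matrix.add_apply, Matrix.add_apply, Matrix.single_mul_apply_same, Matrix.mul_single_apply_of_ne _ _ _ _ _ hr,
        hd b, Matrix.single_zero] at h
      simpa using h
    let a0 : Fin m := ⟨0, by omega⟩
    let a1 : Fin m := ⟨1, by omega⟩
    have h01 : a0 < a1 := by rw [Fin.lt_def]; simp [a0, a1]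
    have hge2 : ∀ b r : Fin m, a1 < b → S₀ b r = 0 := fun b r hb => by
      rcases eq_or_ne r a0 with rfl | hr
      · exact hz a1 b hb a0 (ne_of_lt h01)
      · exact hz a0 b (h01.trans hb) r hr
    have hsw : ∀ r s, S₀ r s = S₀ s r := fun r s => congrFun (congrFun hS₀ s) r
    have hlt : ∀ r : Fin m, r = a0 ∨ r = a1 ∨ a1 < r := fun r => by
      rcases r with ⟨_ | _ | r, hr⟩
      · exact Or.inl rfl
      · exact Or.inr (Or.inl rfl)
      · exact Or.inr (Or.inr (by rw [Fin.lt_def]; simp [a1]))
    set s := S₀ a0 a1 with hs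
    have hform : S₀ = Matrix.single a0 a1 s + Matrix.single a1 a0 s := by
      ext r t
      rcases hlt r with rfl | rfl | hr
      · rcases hlt t with rfl | rfl | ht
        · simp [hd, ne_of_lt h01, ne_of_gt h01]
        · simp [← hs, ne_of_lt h01, ne_of_gt h01]
        · rw [hsw, hge2 t a0 ht]; simp [ne_of_lt ht, ne_of_lt (h01.trans ht)]
      · rcases hlt t with rfl | rfl | ht
        · rw [hsw]; simp [← hs, ne_of_lt h01, ne_of_gt h01]
        · simp [hd, ne_of_lt h01, ne_of_gt h01]
        · rw [hsw, hge2 t a1 ht]; simp [ne_of_lt ht, ne_of_lt (h01.trans ht)]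
      · rw [hge2 r t hr]; simp [ne_of_lt hr, ne_of_lt (h01.trans hr)]
    have hs0 : s ≠ 0 := fun h => hx1 (by rw [hform, h]; simp [sie_zero])
    set L := tgl (ne_of_lt h01) s with hL
    have hLU : lv L ∈ U (F := F) (m := m) :=
      lv_mem_U (by rw [hL, tgl_val]; exact PSLnSimple.isUT_transvection h01 s)
    have e : (ps (wp a1) : Pm) * ps (sie S₀) * (ps (wp a1))⁻¹ = ps (lv L) := by
      rw [← map_inv, ← map_mul, ← map_mul, hform, wp_conj (ne_of_lt h01) s]
    have hLT : (ps (lv L) : Pm) ∈ T :=
      e ▸ hcl _ hxT (ps (wp a1)) (e.symm ▸ Subgroup.mem_map_of_mem ps hLU)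
    have hE : (Matrix.single a1 a1 1 : Mm)ᵀ = Matrix.single a1 a1 1 := transpose_single ..
    set E : Mm := Matrix.single a1 a1 1
    have hmem : (ps (sie (L.1 * E * L.1ᵀ + -E)) : Pm) ∈ T := by
      rw [← sie_add (congr_symm _ hE) (neg_symm hE), ← lv_sie L hE, ← sie_neg hE]
      simp only [map_mul, map_inv]
      rw [show ps (lv L) * ps (sie E) * (ps (lv L))⁻¹ * (ps (sie E))⁻¹ =
        ps (lv L) * (ps (sie E) * (ps (lv L))⁻¹ * (ps (sie E))⁻¹) by group]
      exact mul_mem hLT (hUn _ (Subgroup.mem_map_of_mem ps (sie_mem_U hE)) _ (inv_mem hLT))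
    have h0 := hno _ a0 ⟨add_symm' (congr_symm _ hE) (neg_symm hE), hmem⟩
    rw [hL, tgl_congr] at h0
    simp [E, ne_of_lt h01, ne_of_gt h01, hs0] at h0
  have hall := sym_span hm hex V hcong (fun S h => h.1) hSV hSi
  have hUT : (UTg m F).map ((ps.comp lv).comp Matrix.SpecialLinearGroup.toGL) ≤ T := by
    refine (Subgroup.map_mono UT_le_closure).trans ?_
    rw [MonoidHom.map_closure, Subgroup.closure_le]
    rintro _ ⟨_, ⟨a, b, hab, t, rfl⟩, rfl⟩
    have hS : (Matrix.single a b t + Matrix.single b a t : Mm)ᵀ = Matrix.single a b t + Matrix.single b a t := by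
      rw [transpose_add, transpose_single, transpose_single, add_comm]
    have e : (ps (wp b) : Pm) * ps (sie (Matrix.single a b t + Matrix.single b a t)) * (ps (wp b))⁻¹ =
        ps (lv (tgl (ne_of_lt hab) t)) := by
      rw [← map_inv, ← map_mul, ← map_mul, wp_conj (ne_of_lt hab) t]
    exact e ▸ hcl _ (hall _ hS).2 (ps (wp b)) (e.symm ▸ Subgroup.mem_map_of_mem ps (lv_mem_U
      (by rw [tgl_val]; exact PSLnSimple.isUT_transvection hab t)))
  rintro _ ⟨g, hg, rfl⟩
  obtain ⟨D, S, hS, rfl, hD⟩ := decomp hg.1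
  have hDU : IsUT D.1 := hD ▸ hg.2
  have hdet : D.1.det = 1 := by
    rw [Matrix.det_of_isUpperTriangular (M := D.1) (fun a b h => hDU.2 a b h)]
    exact Finset.prod_eq_one fun a _ => hDU.1 a
  rw [map_mul]
  refine mul_mem (hUT ?_) (hall S hS).2
  exact ⟨⟨D.1, hdet⟩, hDU, congrArg (fun D => (ps (lv D) : Pm)) (Units.ext rfl)⟩

/-- The lower root element of the last long root. -/
def ylow (l : Fin m) (t : F) : Gm :=
  ⟨fromBlocks 1 (Matrix.single l l t) 0 1, by rw [SymplecticGroup.fromBlocks_mem_iff]; simp⟩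

theorem ylow_pow (l : Fin m) (t : F) : ∀ k : ℕ, (ylow l t ^ k).1 = fromBlocks 1 (Matrix.single l l ((k : F) * t)) 0 1
  | 0 => by simp [fromBlocks_one]
  | k + 1 => by
    rw [pow_succ, Submonoid.coe_mul, ylow_pow l t k]
    show _ * fromBlocks 1 (Matrix.single l l t) 0 1 = _
    rw [fromBlocks_multiply]
    simp [← Matrix.single_add, add_mul, add_comm]

/-- The point `e₀`. -/
abbrev e0 (h : 0 < m) : Fin m ⊕ Fin m → F := se ⟨0, h⟩

theorem eich_mem_U (hm : 0 < m) {z : Fin m ⊕ Fin m → F} {a : F} (hz : sf (e0 (F := F) hm) z = 0) :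
    eich (e0 (F := F) hm) z a ∈ U (F := F) (m := m) := by
  set g := eich (e0 (F := F) hm) z a
  have hcol : ∀ r b, g.1 r (.inr b) =
      (Pi.single (.inr b) (1 : F) : Fin m ⊕ Fin m → F) r + sf z (Pi.single (.inr b) 1) * (e0 (F := F) hm) r := by
    intro r b
    have h := congrFun (act_eich (e := e0 (F := F) hm) a hz (Pi.single (.inr b) 1)) r
    rw [show act g (Pi.single (.inr b) 1) r = g.1 r (.inr b) by
      simp [act, Matrix.mulVec_single_one]] at h
    rw [h]
    simp [sf_se_left]
  refine ⟨?_, fun i => ?_, fun i j hij => ?_⟩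
  · ext r b
    show g.1 (.inl r) (.inr b) = 0
    rw [hcol]; simp [se]
  · show g.1 (.inr i) (.inr i) = 1
    rw [hcol]
    rcases eq_or_ne i ⟨0, hm⟩ with rfl | h
    · rw [show (Pi.single (.inr ⟨0, hm⟩) (1 : F) : Fin m ⊕ Fin m → F) = e0 (F := F) hm from rfl,
        show sf z (e0 (F := F) hm) = 0 by rw [sf, Cfsg.Agent.Lead.Symp.form_swap, ← sf, hz, neg_zero], zero_mul, add_zero]
      simp [se]
    · simp [se, h]
  · show g.1 (.inr i) (.inr j) = 0
    rw [hcol]
    have : i ≠ ⟨0, hm⟩ := fun h => by rw [h, Fin.lt_def] at hij; simp at hij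
    simp [se, this, ne_of_gt hij]

theorem centralizer_R1 (hm : 0 < m) {g : Gm} (hg : ∀ y ∈ Qg (e0 (F := F) hm), g * y = y * g) :
    (ps g : Pm) ∈ (Qg (e0 (F := F) hm)).map ps := by
  let i : Fin m := ⟨0, hm⟩
  have h1 : g * eich (se i) 0 1 * g⁻¹ = eich (se i) 0 1 := by
    rw [hg _ ⟨0, 1, sf_zero_right _, rfl⟩, mul_inv_cancel_right]
  rw [eich_conj g 1 (sf_zero_right _), act_zero] at h1
  have h2 := congrArg (fun y => act y (sff i)) h1
  simp only [act_eich_zero, one_mul, sf_se_sff, one_smul, add_right_inj] at h2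
  set r := sf (act g (se i)) (sff i)
  have hr : r * r = 1 := by
    have := congrArg (fun v => sf v (sff i)) h2
    simpa only [sf_smul_left, sf_se_sff] using this
  let z : Gm := ⟨r • 1, by rw [SymplecticGroup.mem_iff]; simp [Matrix.transpose_smul, smul_smul, hr]⟩
  have hz : z ∈ Subgroup.center Gm := scalar_center (c := r) rfl
  have hfix : act (z * g) (se i) = se i := by
    show ((r • 1 : Matrix (Fin m ⊕ Fin m) (Fin m ⊕ Fin m) F) * g.1) *ᵥ se i = _
    rw [Matrix.smul_mul, Matrix.one_mul, Matrix.smul_mulVec]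
    exact h2
  have hQ := eq_eich_of_commute (e := se i) (by omega) (se_ne_zero i) hfix fun y hy => by
    rw [mul_assoc, hg y hy, ← mul_assoc, ← Subgroup.mem_center_iff.1 hz y, mul_assoc]
  exact ⟨_, hQ, by rw [map_mul, ps_eq_one.2 hz, one_mul]⟩

/-- Simplicity. -/
theorem psp_simple (hm : 2 ≤ m) (hex : m = 2 → 3 ≤ Fintype.card F) (S : Sylow p Pm) :
    (groupFusionSystem (S : Subgroup Pm)).IsSimple p := by
  classical
  haveI : NeZero m := ⟨by omega⟩
  haveI : Finite Pm := Finite.of_surjective _ ps_surjective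
  refine simple_of_normal_centric syl S ?_ ?_ ?_
  · show U0 ≠ ⊥
    intro h
    have hS : (Matrix.single (0 : Fin m) 0 1 : Mm)ᵀ = Matrix.single 0 0 1 := transpose_single ..
    have h1 : (ps (sie (Matrix.single (0 : Fin m) 0 1 : Mm)) : Pm) ∈ U0 := Subgroup.mem_map_of_mem ps (sie_mem_U hS)
    rw [h, Subgroup.mem_bot, ← map_one (ps (F := F) (m := m))] at h1
    have := pElem_inj (pel_U (p := p) (sie_mem_U hS)) ⟨0, one_pow _⟩ h1
    rw [← sie_zero] at this
    simpa using congrFun (congrFun (sie_inj hS transpose_zero this) 0) 0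
  · exact closed_eq hm hex
  -- the normalizer
  have hnR2 : ∀ g : Gm, g.1.toBlocks₁₂ = 0 →
      (ps g : Pm) ∈ Subgroup.normalizer (((R2 (F := F) (m := m)).map ps : Subgroup Pm) : Set Pm) := by
    intro g hg
    refine Subgroup.mem_normalizer_fintype ?_
    rintro _ ⟨x, hx, rfl⟩
    rw [← map_inv, ← map_mul, ← map_mul]
    exact Subgroup.mem_map_of_mem ps (conj_R2 hg hx)
  have hgen2 : ∀ h : Pm, h ∈ Subgroup.normalizer ((U0 (F := F) (m := m) : Subgroup Pm) : Set Pm) →
      h ∈ Subgroup.closure {k : Pm | k ∈ Subgroup.normalizer (((R2 (F := F) (m := m)).map ps : Subgroup Pm) : Set Pm) ∧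
        ∃ e : ℕ, k ^ p ^ e = 1} → IsNormalGenerator p U0 h := by
    intro h hh hcl
    refine ⟨hh, _, Subgroup.map_mono R2_le_U, ?_, ?_, hcl⟩
    · rintro _ ⟨u, hu, rfl⟩ _ ⟨x, hx, rfl⟩
      rw [← map_inv, ← map_mul, ← map_mul]
      exact Subgroup.mem_map_of_mem ps (conj_R2 hu.1 hx)
    · intro x hx
      obtain ⟨g, rfl⟩ := ps_surjective x
      obtain ⟨c, T, -, hT, he⟩ := commute_R2 (g := g) (by omega) fun T hT =>
        pElem_comm (pel_U (p := p) (sie_mem_U hT))
          (Subgroup.mem_centralizer_iff.1 hx _ ⟨_, ⟨T, hT, rfl⟩, rfl⟩).symm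
      exact ⟨sie T, ⟨T, hT, rfl⟩, (ps_eq_of_smul he).symm⟩
  have hUgen : ∀ u ∈ U0 (F := F) (m := m), IsNormalGenerator p U0 u := by
    rintro _ ⟨g, hg, rfl⟩
    obtain ⟨k, hk⟩ := pel_U (p := p) hg
    exact hgen2 _ (Subgroup.le_normalizer (Subgroup.mem_map_of_mem ps hg))
      (Subgroup.subset_closure ⟨hnR2 g hg.1, k, by rw [← map_pow, hk, map_one]⟩)
  -- diagonal elements
  let dg : (Fin m → F) → Mm := Matrix.diagonal
  have hdgnorm : ∀ D : GL (Fin m) F, (∀ a b, a ≠ b → D.1 a b = 0) →
      (ps (lv D) : Pm) ∈ Subgroup.normalizer ((U0 (F := F) (m := m) : Subgroup Pm) : Set Pm) := by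
    intro D hD
    refine Subgroup.mem_normalizer_fintype ?_
    rintro _ ⟨x, hx, rfl⟩
    rw [← map_inv, ← map_mul, ← map_mul]
    refine Subgroup.mem_map_of_mem ps ?_
    have hDi : ((D⁻¹ : GL (Fin m) F) : Mm) = Matrix.diagonal fun a => (D.1 a a)⁻¹ := by
      have hd : D.1 = Matrix.diagonal fun a => D.1 a a := by
        ext a b
        rcases eq_or_ne a b with rfl | h
        · simp
        · simp [hD a b h, h]
      have hne : ∀ a, D.1 a a ≠ 0 := fun a h => by
        have := D.1.det_ne_zero_of_right_inverse (B := ((D⁻¹ : GL (Fin m) F) : Mm)) (Units.mul_inv D)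
        rw [hd, Matrix.det_diagonal] at this
        exact this (Finset.prod_eq_zero (Finset.mem_univ a) h)
      have h1 : D.1 * (Matrix.diagonal fun a => (D.1 a a)⁻¹) = 1 := by
        conv_lhs => enter [1]; rw [hd]
        rw [Matrix.diagonal_mul_diagonal, show (fun a => D.1 a a * (D.1 a a)⁻¹) = fun _ => (1 : F) from
          funext fun a => mul_inv_cancel₀ (hne a), Matrix.diagonal_one]
      calc ((D⁻¹ : GL (Fin m) F) : Mm) = (D⁻¹ : GL (Fin m) F).1 * (D.1 * Matrix.diagonal fun a => (D.1 a a)⁻¹) := by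
            rw [h1, Matrix.mul_one]
        _ = _ := by rw [← Matrix.mul_assoc, Units.inv_mul, Matrix.one_mul]
    obtain ⟨hl, hl2⟩ := low_mul (lv_blocks D).1 hx.1
    obtain ⟨hr, hr2⟩ := low_mul (g := lv D * x) (h := (lv D)⁻¹) hl (by rw [← map_inv]; exact (lv_blocks _).1)
    refine ⟨hr, ?_⟩
    rw [hr2, hl2, ← map_inv, (lv_blocks D).2, (lv_blocks D⁻¹).2]
    set R := x.1.toBlocks₂₂
    have hent : ∀ a b, (D.1 * R * ((D⁻¹ : GL (Fin m) F) : Mm)) a b = D.1 a a * R a b * (D.1 b b)⁻¹ := by
      intro a b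
      rw [hDi, Matrix.mul_diagonal, Matrix.mul_apply, Finset.sum_eq_single a (fun r _ hr => by
        rw [hD a r hr.symm, zero_mul]) (by simp)]
    refine ⟨fun a => ?_, fun a b h => ?_⟩
    · rw [hent, show R a a = 1 from hx.2.1 a, mul_one, mul_inv_cancel₀]
      intro h
      have := congrFun (congrFun (Units.mul_inv D) a) a
      rw [Matrix.one_apply_eq, hDi, Matrix.mul_diagonal, h, zero_mul] at this
      exact zero_ne_one this
    · rw [hent, show R a b = 0 from hx.2.2 a b h, mul_zero, zero_mul]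
  have hSL : ∀ A : SLm, (∀ a b, a ≠ b → A.1 a b = 0) →
      (ps (lv (Matrix.SpecialLinearGroup.toGL A)) : Pm) ∈ Subgroup.closure {h : Pm | IsNormalGenerator p U0 h} := by
    intro A hA
    refine Subgroup.subset_closure (hgen2 _ (hdgnorm _ hA) ?_)
    haveI : Nontrivial (Fin m) := Fin.nontrivial_iff_two_le.2 hm
    have htop : A ∈ Subgroup.closure {g : SLm | ∃ (i j : Fin m) (h : i ≠ j) (c : F),
        g = Matrix.SpecialLinearGroup.transvection h c} := by
      rw [Cfsg.Agent.Classical.sl_closure_transvections]; trivial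
    have h1 := Subgroup.mem_map_of_mem ((ps.comp lv).comp Matrix.SpecialLinearGroup.toGL) htop
    rw [MonoidHom.map_closure] at h1
    refine Subgroup.closure_mono ?_ h1
    rintro _ ⟨_, ⟨i, j, hij, c, rfl⟩, rfl⟩
    refine ⟨hnR2 _ (lv_blocks _).1, 1, ?_⟩
    show (ps (lv (tgl hij c)) : Pm) ^ p ^ 1 = 1
    have hwp : lv (tgl hij c) ^ p ^ 1 = 1 := by
      rw [← wp_conj hij c, ← MulAut.conj_apply, ← map_pow,
        sie_pel (p := p) (by rw [transpose_add, transpose_single, transpose_single, add_comm]), map_one]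
    rw [← map_pow, hwp, map_one]
  let l : Fin m := ⟨m - 1, by omega⟩
  have hl0 : l ≠ ⟨0, by omega⟩ := Fin.ne_of_val_ne (by simp [l]; omega)
  have hlast : ∀ (A : GL (Fin m) F) (c : F), c ≠ 0 → A.1 = Matrix.diagonal (Function.update (fun _ => 1) l c) →
      IsNormalGenerator p U0 (ps (lv A) : Pm) := by
    intro A c hc hA
    refine ⟨hdgnorm A fun a b h => by rw [hA, Matrix.diagonal_apply_ne _ h], (Qg (e0 (F := F) (by omega))).map ps, ?_, ?_, ?_, ?_⟩
    · refine Subgroup.map_mono ?_
      rintro _ ⟨z, a, hz, rfl⟩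
      exact eich_mem_U _ hz
    · rintro _ ⟨u, hu, rfl⟩ _ ⟨x, ⟨z, a, hz, rfl⟩, rfl⟩
      rw [← map_inv, ← map_mul, ← map_mul]
      refine Subgroup.mem_map_of_mem ps ?_
      have hue : act u (e0 (F := F) (by omega : 0 < m)) = e0 (F := F) (by omega) := by
        funext r
        show (u.1 *ᵥ Pi.single (.inr _) 1) r = _
        rw [Matrix.mulVec_single_one]
        rcases r with r | r
        · show u.1.toBlocks₁₂ r _ = _
          rw [hu.1]; simp [se]
        · show u.1.toBlocks₂₂ r _ = _
          rcases eq_or_ne r ⟨0, by omega⟩ with rfl | h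
          · rw [hu.2.1]; simp [se]
          · rw [hu.2.2 r _ (by rw [Fin.lt_def]; exact Nat.pos_of_ne_zero fun h' => h (Fin.ext h'))]
            exact (Pi.single_eq_of_ne (M := fun _ => F) (fun h' => h (Sum.inr_injective h')) (1 : F)).symm
      rw [eich_conj u a hz, hue]
      exact ⟨_, a, by rw [← hue, sf_act]; exact hz, rfl⟩
    · intro x hx
      obtain ⟨g, rfl⟩ := ps_surjective x
      exact centralizer_R1 _ fun y hy => by
        obtain ⟨z, a, hz, rfl⟩ := hy
        exact pElem_comm (PEl_eich (p := p) a hz)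
          (Subgroup.mem_centralizer_iff.1 hx _ ⟨_, ⟨z, a, hz, rfl⟩, rfl⟩).symm
    · have hS : ∀ t : F, (Matrix.single l l t : Mm)ᵀ = Matrix.single l l t := fun t => transpose_single ..
      have hfix : ∀ g : Gm, act g (e0 (F := F) (by omega : 0 < m)) = e0 (F := F) (by omega) →
          (ps g : Pm) ∈ Subgroup.normalizer (((Qg (e0 (F := F) (by omega : 0 < m))).map ps : Subgroup Pm) : Set Pm) := by
        intro g hg
        refine Subgroup.mem_normalizer_fintype ?_
        rintro _ ⟨_, ⟨z, a, hz, rfl⟩, rfl⟩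
        rw [← map_inv, ← map_mul, ← map_mul, eich_conj g a hz, hg]
        exact ⟨_, ⟨_, a, by rw [← hg, sf_act]; exact hz, rfl⟩, rfl⟩
      let x : F → Gm := fun t => sie (Matrix.single l l t)
      let y : F → Gm := fun t => ylow l t
      have hx : ∀ t, (ps (x t) : Pm) ∈ Subgroup.closure {k : Pm | k ∈ Subgroup.normalizer
          (((Qg (e0 (F := F) (by omega : 0 < m))).map ps : Subgroup Pm) : Set Pm) ∧ ∃ e : ℕ, k ^ p ^ e = 1} := fun t =>
        Subgroup.subset_closure ⟨hfix _ (by
          funext r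
          show ((sie (Matrix.single l l t)).1 *ᵥ Pi.single (.inr _) 1) r = _
          rw [sie_val (hS t), Matrix.mulVec_single_one]
          rcases r with r | r <;> simp [se, Matrix.one_apply, Pi.single_apply, eq_comm]),
          1, by rw [← map_pow, sie_pel (p := p) (hS t), map_one]⟩
      have hy : ∀ t, (ps (y t) : Pm) ∈ Subgroup.closure {k : Pm | k ∈ Subgroup.normalizer
          (((Qg (e0 (F := F) (by omega : 0 < m))).map ps : Subgroup Pm) : Set Pm) ∧ ∃ e : ℕ, k ^ p ^ e = 1} := fun t =>
        Subgroup.subset_closure ⟨hfix _ (by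
          funext r
          show (fromBlocks 1 (Matrix.single l l t) 0 1 *ᵥ Pi.single (.inr _) 1) r = _
          rw [Matrix.mulVec_single_one]
          rcases r with r | r <;> simp [se, Matrix.single_apply, hl0, Matrix.one_apply, Pi.single_apply, eq_comm] <;>
            exact fun _ h => absurd h.symm hl0),
          1, by
            rw [← map_pow, show y t ^ p ^ 1 = 1 from Subtype.ext (by
              rw [ylow_pow, pow_one, CharP.cast_eq_zero, zero_mul, Matrix.single_zero, fromBlocks_one]; rfl),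
              map_one]⟩
      have hAi : ((A⁻¹ : GL (Fin m) F) : Mm) = Matrix.diagonal (Function.update (fun _ => 1) l c⁻¹) := by
        have h : A.1 * Matrix.diagonal (Function.update (fun _ => 1) l c⁻¹) = 1 := by
          rw [hA, Matrix.diagonal_mul_diagonal, ← Matrix.diagonal_one]
          congr 1
          funext a
          simp only [Function.update_apply]
          split_ifs <;> simp [hc]
        calc ((A⁻¹ : GL (Fin m) F) : Mm)
            = (A⁻¹ : GL (Fin m) F).1 * (A.1 * Matrix.diagonal (Function.update (fun _ => 1) l c⁻¹)) := by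
              rw [h, Matrix.mul_one]
          _ = _ := by rw [← Matrix.mul_assoc, Units.inv_mul, Matrix.one_mul]
      have hprod : lv A = (x c * y (-c⁻¹) * x c) * (x (-1) * y 1 * x (-1)) := by
        refine Subtype.ext ?_
        simp only [x, Submonoid.coe_mul, sie_val (hS _), lv_val, hAi, hA]
        show _ = _ * fromBlocks 1 (Matrix.single l l (-c⁻¹)) 0 1 * _ *
          (_ * fromBlocks 1 (Matrix.single l l (1 : F)) 0 1 * _)
        simp only [fromBlocks_multiply, Matrix.diagonal_transpose, Matrix.one_mul, Matrix.mul_one, Matrix.zero_mul,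
          Matrix.mul_zero, zero_add, add_zero, Matrix.add_mul, Matrix.mul_add, Matrix.single_mul_single_same]
        refine (fromBlocks_inj.2 ⟨?_, ?_, ?_, ?_⟩).symm <;>
        · ext a b
          simp only [Matrix.add_apply, Matrix.single_apply, Matrix.one_apply, Matrix.diagonal_apply,
            Function.update_apply, Matrix.zero_apply]
          by_cases h1 : a = l <;> by_cases h2 : b = l <;>
            simp [h1, h2, Ne.symm, hc] <;> field_simp <;> ring
      rw [hprod, map_mul, map_mul, map_mul, map_mul, map_mul]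
      exact mul_mem (mul_mem (mul_mem (hx _) (hy _)) (hx _)) (mul_mem (mul_mem (hx _) (hy _)) (hx _))
  intro g hg
  obtain ⟨A, rfl⟩ := ps_surjective g
  obtain ⟨h12, hup⟩ := exists_upper fun x hx => (Subgroup.mem_normalizer_iff.1 hg x).1 hx
  obtain ⟨D, T, hT, rfl, hDv⟩ := decomp h12
  rw [← hDv] at hup
  have hdet : D.1.det = ∏ a, D.1 a a := Matrix.det_of_isUpperTriangular (M := D.1) (fun a b h => hup a b h)
  have hdu : D.1.det ≠ 0 := D.1.det_ne_zero_of_right_inverse (Units.mul_inv D)
  have hd0 : ∀ a, D.1 a a ≠ 0 := fun a h => hdu (hdet.trans (Finset.prod_eq_zero (Finset.mem_univ a) h))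
  set c := D.1.det
  let e : Fin m → F := fun a => D.1 a a * (if a = l then c⁻¹ else 1)
  have he : (∏ a, e a) = 1 := by
    rw [Finset.prod_mul_distrib, ← hdet, Finset.prod_ite_eq' Finset.univ l, if_pos (Finset.mem_univ l),
      mul_inv_cancel₀ hdu]
  let A1 : SLm := ⟨Matrix.diagonal e, by rw [Matrix.det_diagonal, he]⟩
  let A2 : GL (Fin m) F := ⟨Matrix.diagonal (Function.update (fun _ => 1) l c),
    Matrix.diagonal (Function.update (fun _ => 1) l c⁻¹), by
      rw [Matrix.diagonal_mul_diagonal, ← Matrix.diagonal_one]; congr 1; funext a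
      simp only [Function.update_apply]; split_ifs <;> simp [hdu], by
      rw [Matrix.diagonal_mul_diagonal, ← Matrix.diagonal_one]; congr 1; funext a
      simp only [Function.update_apply]; split_ifs <;> simp [hdu]⟩
  set P := Matrix.SpecialLinearGroup.toGL A1 * A2 with hP
  have hPv : P.1 = Matrix.diagonal fun a => D.1 a a := by
    show Matrix.diagonal e * Matrix.diagonal (Function.update (fun _ => 1) l c) = _
    rw [Matrix.diagonal_mul_diagonal]
    congr 1
    funext a
    simp only [e, Function.update_apply]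
    split_ifs with h
    · rw [mul_assoc, inv_mul_cancel₀ hdu, mul_one]
    · rw [mul_one, mul_one]
  have hV : IsUT (P⁻¹ * D).1 := by
    have hPi : (P⁻¹ : GL (Fin m) F).1 = Matrix.diagonal fun a => (D.1 a a)⁻¹ := by
      have h : P.1 * (Matrix.diagonal fun a => (D.1 a a)⁻¹) = 1 := by
        rw [hPv, Matrix.diagonal_mul_diagonal, show (fun a => D.1 a a * (D.1 a a)⁻¹) = fun _ => (1 : F) from
          funext fun a => mul_inv_cancel₀ (hd0 a), Matrix.diagonal_one]
      calc (P⁻¹ : GL (Fin m) F).1 = (P⁻¹ : GL (Fin m) F).1 * (P.1 * Matrix.diagonal fun a => (D.1 a a)⁻¹) := by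
            rw [h, Matrix.mul_one]
        _ = _ := by rw [← Matrix.mul_assoc, Units.inv_mul, Matrix.one_mul]
    rw [Units.val_mul, hPi]
    exact ⟨fun a => by rw [Matrix.diagonal_mul, inv_mul_cancel₀ (hd0 a)],
      fun a b h => by rw [Matrix.diagonal_mul, hup a b h, mul_zero]⟩
  have hfin : (ps (lv D * sie T) : Pm) = ps (lv (Matrix.SpecialLinearGroup.toGL A1)) * ps (lv A2) *
      ps (lv (P⁻¹ * D) * sie T) := by
    simp only [← map_mul, ← mul_assoc]
    rw [show Matrix.SpecialLinearGroup.toGL A1 * A2 * P⁻¹ * D = D by rw [← hP]; group]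
  rw [show (syl : Sylow p Pm).toSubgroup = U0 from rfl, hfin]
  exact mul_mem (mul_mem (hSL A1 fun a b h => Matrix.diagonal_apply_ne _ h)
    (Subgroup.subset_closure (hlast A2 c hdu rfl)))
    (Subgroup.subset_closure (hUgen _ (Subgroup.mem_map_of_mem ps (mul_mem (lv_mem_U hV) (sie_mem_U hT)))))

end Cfsg.Agent.Local.FS.PSpSimple
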