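import Cfsg.Agent.Lib.Small.PSUn.Points
import Cfsg.Agent.Lib.Small.PSUn.Torus

/-!
Subgroups of `SU_n(q)` supported on a set of coordinates: generation by `p`-elements, and generation
of their Sylow `p`-subgroups by Eichler elements, `p ∣ q`.
-/

set_option autoImplicit false
set_option linter.unusedSectionVars false

namespace Cfsg.Agent.Local.FS.PSUnSimple

open Matrix Cfsg.Agent.Small.Unitary Cfsg.Agent.Small.PSUn

variable {F : Type*} [Field F] [Fintype F] [StarRing F] {n q : ℕ}
variable {p : ℕ} [Fact p.Prime] [CharP F p]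

local notation "Gn" => Cfsg.SU n F q
local notation "Vn" => Fin n → F

/-- A matrix whose distance from `1` cubes to `0` is a `p`-element. -/
theorem pow_of_cube {M : Matrix (Fin n) (Fin n) F} (h : (M - 1) * (M - 1) * (M - 1) = 0) :
    M ^ p ^ 2 = 1 := by
  rcases Nat.eq_zero_or_pos n with rfl | hn
  · exact Subsingleton.elim _ _
  haveI : Nonempty (Fin n) := ⟨⟨0, hn⟩⟩
  have h3 : 3 ≤ p ^ 2 := le_trans (by norm_num) (Nat.pow_le_pow_left (Fact.out : p.Prime).two_le 2)
  have h2 : (M - 1) ^ p ^ 2 = 0 := pow_eq_zero_of_le h3 (by rw [pow_succ, pow_two, h])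
  rw [sub_pow_char_pow_of_commute (p := p) (n := 2) (Commute.one_right M), one_pow, sub_eq_zero] at h2
  exact h2

include p in
theorem det_of_cube {M : Matrix (Fin n) (Fin n) F} (h : (M - 1) * (M - 1) * (M - 1) = 0) : M.det = 1 := by
  have h1 := congrArg Matrix.det (pow_of_cube (p := p) h)
  rw [Matrix.det_pow, Matrix.det_one] at h1
  exact sub_eq_zero.1 (eq_zero_of_pow_eq_zero (n := p ^ 2) (by rw [sub_pow_char_pow, h1, one_pow, sub_self]))

variable (hstar : ∀ x : F, star x = x ^ q) (hF : Fintype.card F = q ^ 2)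

/-- Generated by the `p`-elements supported in `I`. -/
def KI (p q : ℕ) (I : Finset (Fin n)) : Subgroup (Cfsg.SU n F q) :=
  Subgroup.closure {g | g ∈ fixOut q I ∧ PEl p g}

theorem KI_le (I : Finset (Fin n)) : KI (F := F) p q I ≤ fixOut q I :=
  (Subgroup.closure_le _).2 fun _ h => h.1

theorem fixOut_mono {I J : Finset (Fin n)} (h : I ⊆ J) : fixOut (F := F) q I ≤ fixOut q J :=
  fun _ hg k hk => hg k fun hk' => hk (h hk')

theorem KI_mono {I J : Finset (Fin n)} (h : I ⊆ J) : KI (F := F) p q I ≤ KI p q J :=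
  Subgroup.closure_mono fun _ hg => ⟨fixOut_mono h hg.1, hg.2⟩

theorem trans_mem_KI {I : Finset (Fin n)} {v : Vn} (hv : herm v v = 0) (hs : Supp I v) {t : F}
    (ht : star t = -t) : trans hstar v hv t ht ∈ KI p q I :=
  Subgroup.subset_closure ⟨trans_mem_fixOut hstar hv hs ht,
    trans_eq_eich hstar hv ht ▸ PEl_eich hstar ((EOk_zero_iff hv).2 ht)⟩

/-- Reachable inside `KI`. -/
def MovesK (p q : ℕ) (I : Finset (Fin n)) (u v : Vn) : Prop :=
  ∃ x ∈ KI (F := F) p q I, act x u = v

theorem MovesK.comp {I : Finset (Fin n)} {u v w : Vn} (h : MovesK p q I u v) (h' : MovesK p q I v w) :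
    MovesK p q I u w := by
  obtain ⟨x, hx, rfl⟩ := h
  obtain ⟨y, hy, rfl⟩ := h'
  exact ⟨y * x, mul_mem hy hx, act_mul _ _ _⟩

theorem MovesK.scale {I : Finset (Fin n)} {u v : Vn} (h : MovesK p q I u v) (c : F) :
    MovesK p q I (c • u) (c • v) := by
  obtain ⟨x, hx, rfl⟩ := h
  exact ⟨x, hx, act_smul _ _ _⟩

include hstar in
theorem line_move {I : Finset (Fin n)} {u v : Vn} (hu : herm u u = 0) (hsu : Supp I u)
    (hv : herm v v = 0) (hsv : Supp I v) (hc : herm v u ≠ 0) {t : F} (ht0 : t ≠ 0) (ht : star t = -t) :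
    MovesK p q I u ((t * herm v u) • v) := by
  set c := herm v u with hcdef
  have hs : star (-(t * star c * c)⁻¹) = -(-(t * star c * c)⁻¹) := by
    rw [star_neg, star_inv₀, star_mul', star_mul', star_star, ht]
    rw [show -t * c * star c = -(t * star c * c) by ring, inv_neg]
  refine ⟨trans hstar u hu _ hs * trans hstar v hv t ht,
    mul_mem (trans_mem_KI hstar _ hsu _) (trans_mem_KI hstar _ hsv _), ?_⟩
  rw [act_mul, act_trans, act_trans, herm_add_right, hu, herm_smul_right, ← star_herm v u, ← hcdef]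
  have hne : t * star c * c ≠ 0 := mul_ne_zero (mul_ne_zero ht0 (star_ne_zero.mpr hc)) hc
  have e : -(t * star c * c)⁻¹ * (0 + t * c * star c) = -1 := by
    rw [zero_add, neg_mul, neg_inj, show t * c * star c = t * star c * c by ring, inv_mul_cancel₀ hne]
  rw [e]
  module

variable {I : Finset (Fin n)} {i j : Fin n} {e f : Fin n → F}

include hstar hF in
/-- Every isotropic vector moves into the line of `e`. -/
theorem to_line (P : Pair i j e f) (hi : i ∈ I) (hj : j ∈ I) {u : Vn} (hu0 : u ≠ 0)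
    (hu : herm u u = 0) (hsu : Supp I u) : ∃ c : F, c ≠ 0 ∧ MovesK p q I u (c • e) := by
  obtain ⟨θ, hθ0, hθ⟩ := exists_skew hstar hF
  have hse := supp_pair hi hj P.supp_e
  have hsf := supp_pair hi hj P.supp_f
  by_cases h1 : herm e u = 0
  swap
  · exact ⟨_, mul_ne_zero hθ0 h1, line_move hstar hu hsu P.ee hse h1 hθ0 hθ⟩
  by_cases h2 : herm f u = 0
  swap
  · have s1 := line_move (p := p) hstar hu hsu P.ff hsf h2 hθ0 hθ
    have s2 := line_move (p := p) hstar P.ff hsf P.ee hse (by rw [P.ef]; exact one_ne_zero) hθ0 hθ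
    have h := s1.comp (s2.scale (θ * herm f u))
    rw [P.ef, mul_one, smul_smul] at h
    exact ⟨_, mul_ne_zero (mul_ne_zero hθ0 h2) hθ0, h⟩
  have hz := P.decompose hi hj hsu
  rw [h1, h2, zero_smul, zero_smul, sub_zero, sub_zero] at hz
  obtain ⟨m, hm⟩ : ∃ m, u m ≠ 0 := Function.ne_iff.mp hu0
  have hmI : m ∈ I \ {i, j} := by
    by_contra h
    exact hm (hz m h)
  obtain ⟨a, ha⟩ := exists_trace hstar hF (r := (-1 : F)) (by simp)
  let w : Vn := a • e + f + Pi.single m 1
  have hsd : Supp (I \ {i, j}) (Pi.single m 1 : Vn) := Supp.single hmI 1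
  obtain ⟨hek, hfk⟩ := P.perp hsd
  have hke : herm (Pi.single m 1 : Vn) e = 0 := by rw [← star_herm, hek, star_zero]
  have hkf : herm (Pi.single m 1 : Vn) f = 0 := by rw [← star_herm, hfk, star_zero]
  have hkk : herm (Pi.single m 1 : Vn) (Pi.single m 1) = 1 := by
    rw [herm_single_left, Pi.single_eq_same, star_one, one_mul]
  have hww : herm w w = 0 := by
    simp only [w, herm_add_left, herm_add_right, herm_smul_left, herm_smul_right, P.ee, P.ff, P.ef,
      P.fe, hek, hfk, hke, hkf, hkk]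
    linear_combination ha
  have hwu : herm w u = u m := by
    simp [w, herm_add_left, herm_smul_left, h1, h2, herm_single_left]
  have hew : herm e w = 1 := by
    simp [w, herm_add_right, herm_smul_right, P.ee, P.ef, hek]
  have hsw : Supp I w := ((hse.smul a).add hsf).add (Supp.single (Finset.mem_sdiff.mp hmI).1 1)
  have s1 := line_move (p := p) hstar hu hsu hww hsw (by rw [hwu]; exact hm) hθ0 hθ
  have s2 := line_move (p := p) hstar hww hsw P.ee hse (by rw [hew]; exact one_ne_zero) hθ0 hθ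
  have h := s1.comp (s2.scale (θ * herm w u))
  rw [hew, mul_one, smul_smul, hwu] at h
  exact ⟨_, mul_ne_zero (mul_ne_zero hθ0 hm) hθ0, h⟩

include hstar hF in
theorem scalar_real (P : Pair i j e f) (hi : i ∈ I) (hj : j ∈ I) {c : F} (hc : c ≠ 0) (hcs : star c = c) :
    MovesK p q I e (c • e) := by
  obtain ⟨θ, hθ0, hθ⟩ := exists_skew hstar hF
  have hse := supp_pair hi hj P.supp_e
  have hsf := supp_pair hi hj P.supp_f
  have s1 := line_move (p := p) hstar P.ee hse P.ff hsf (t := θ) (by rw [P.fe]; exact one_ne_zero) hθ0 hθ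
  have s2 := line_move (p := p) hstar P.ff hsf P.ee hse (t := c / θ) (by rw [P.ef]; exact one_ne_zero)
    (div_ne_zero hc hθ0) (by rw [star_div₀, hcs, hθ, div_neg])
  rw [P.fe, mul_one] at s1
  rw [P.ef, mul_one] at s2
  have h := s1.comp (s2.scale θ)
  rwa [smul_smul, mul_div_cancel₀ _ hθ0] at h

include hstar hF in
theorem scalar_three (P : Pair i j e f) (hi : i ∈ I) (hj : j ∈ I) {k : Fin n} (hk : k ∈ I \ {i, j}) {c : F}
    (hc : c ≠ 0) : MovesK p q I e (c • e) := by
  obtain ⟨θ, hθ0, hθ⟩ := exists_skew hstar hF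
  set x := c / (θ * θ * θ) with hx
  have hx0 : x ≠ 0 := div_ne_zero hc (mul_ne_zero (mul_ne_zero hθ0 hθ0) hθ0)
  obtain ⟨d, hd⟩ := exists_neg_norm hstar hF (r := -(x + star x))
    (by rw [star_neg, star_add, star_star, add_comm])
  let w : Vn := e + x • f + Pi.single k d
  have hsd : Supp (I \ {i, j}) (Pi.single k d : Vn) := Supp.single hk d
  obtain ⟨hek, hfk⟩ := P.perp hsd
  have hke : herm (Pi.single k d : Vn) e = 0 := by rw [← star_herm, hek, star_zero]
  have hkf : herm (Pi.single k d : Vn) f = 0 := by rw [← star_herm, hfk, star_zero]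
  have hse := supp_pair hi hj P.supp_e
  have hsf := supp_pair hi hj P.supp_f
  have hsw : Supp I w := (hse.add (hsf.smul x)).add (Supp.single (Finset.mem_sdiff.mp hk).1 d)
  have hew : herm e w = x := by
    simp [w, herm_add_right, herm_smul_right, P.ee, P.ef, hek]
  have hwf : herm w f = 1 := by
    simp [w, herm_add_left, herm_smul_left, P.ff, P.ef, hkf]
  have hkk : herm (Pi.single k d : Vn) (Pi.single k d) = star d * d := by
    rw [herm_single_left, Pi.single_eq_same]
  have hww : herm w w = 0 := by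
    simp only [w, herm_add_left, herm_add_right, herm_smul_left, herm_smul_right, P.ee, P.ff, P.ef,
      P.fe, hek, hfk, hke, hkf, hkk, hd]
    ring
  have s1 := line_move (p := p) hstar P.ee hse P.ff hsf (t := θ) (by rw [P.fe]; exact one_ne_zero) hθ0 hθ
  have s2 := line_move (p := p) hstar P.ff hsf hww hsw (t := θ) (by rw [hwf]; exact one_ne_zero) hθ0 hθ
  have s3 := line_move (p := p) hstar hww hsw P.ee hse (t := θ) (by rw [hew]; exact hx0) hθ0 hθ
  rw [P.fe, mul_one] at s1
  rw [hwf, mul_one] at s2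
  rw [hew] at s3
  have h := (s1.comp (s2.scale θ)).comp (((s3.scale θ).scale θ))
  rw [smul_smul, smul_smul] at h
  convert h using 2
  rw [hx]
  field_simp

include hstar in
/-- Stabiliser of `e` inside the support. -/
theorem decomp_in (P : Pair i j e f) (hi : i ∈ I) (hj : j ∈ I) {g : Gn} (hg : g ∈ fixOut q I)
    (he : act g e = e) : ∃ z a, ∃ m : Gn, EOk e z a ∧ eich hstar e z a ∈ fixOut q I ∧
      m ∈ fixOut q (I \ {i, j}) ∧ g = eich hstar e z a * m := by
  obtain ⟨z, a, hzW, hok, m, rfl, hme, hmf, -⟩ := P.stab_decomp hstar he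
  have hsz : Supp I z := by
    intro k hk
    have h1 := act_supp hstar hg (supp_pair hi hj P.supp_f) k hk
    rw [act_mul, hmf, act_eich hstar hok, P.ef, one_smul, mul_one, (P.W_herm hzW).2, sub_zero] at h1
    simpa [supp_pair hi hj P.supp_f k hk, supp_pair hi hj P.supp_e k hk] using h1
  have hx : eich hstar e z a ∈ fixOut q I := fun k hk => by
    rw [act_eich hstar hok, herm_single_right, supp_pair hi hj P.supp_e k hk, herm_single_right, hsz k hk]
    simp
  refine ⟨z, a, m, hok, hx, fun k hk => ?_, rfl⟩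
  obtain ⟨hi', hj'⟩ := P.fix hme hmf
  by_cases hki : k = i
  · rw [hki]; exact hi'
  by_cases hkj : k = j
  · rw [hkj]; exact hj'
  exact (inv_mul_cancel_left (eich hstar e z a) m ▸ mul_mem (inv_mem hx) hg : m ∈ fixOut q I) k
    fun h => hk (by simp [h, hki, hkj])

/-- Fixing a pair of coordinates preserves `fixOut`. -/
theorem fix_of_fixOut (P : Pair i j e f) {g : Gn} (hg : g ∈ fixOut q (I \ {i, j})) :
    act g e = e ∧ act g f = f := by
  have key : ∀ v : Vn, Supp {i, j} v → act g v = v := by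
    intro v hv
    have e1 : v = v i • Pi.single i 1 + v j • Pi.single j 1 := by
      funext m
      by_cases hmi : m = i
      · subst hmi; simp [P.ne]
      by_cases hmj : m = j
      · subst hmj; simp [P.ne.symm]
      simp [hmi, hmj, hv m (by simp [hmi, hmj])]
    rw [e1, act_add, act_smul, act_smul, hg i (by simp), hg j (by simp)]
  exact ⟨key _ P.supp_e, key _ P.supp_f⟩

include hstar in
theorem fixOut_small {I : Finset (Fin n)} (hI : I.card < 2) : fixOut (F := F) q I = ⊥ := by
  refine eq_bot_iff.2 fun g hg => Subgroup.mem_bot.2 (eq_one_of_act fun k => ?_)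
  by_cases hk : k ∈ I
  swap
  · exact hg k hk
  have hIk : I = {k} := Finset.eq_singleton_iff_unique_mem.mpr
    ⟨hk, fun x hx => Finset.card_le_one.mp (by omega) x hx k hk⟩
  have h1 := act_supp hstar hg (Supp.single (F := F) hk 1)
  have h2 : act g (Pi.single k 1) = Pi.single k (act g (Pi.single k 1) k) := by
    funext l
    by_cases hl : l = k
    · rw [hl, Pi.single_eq_same]
    · rw [Pi.single_eq_of_ne hl, h1 l (by simp [hIk, hl])]
  have h3 : act g (Pi.single k 1) k = 1 := by
    have e1 : g.1.1.det = g.1.1 k k := by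
      have hgd : g.1.1 = Matrix.diagonal fun l => if l = k then g.1.1 k k else 1 := by
        ext a b
        by_cases hb : b = k
        · subst hb
          have := congrFun h2 a
          simp only [act, Matrix.mulVec_single_one, Matrix.col_apply] at this
          rw [this, Matrix.diagonal_apply, Pi.single_apply]
          split_ifs <;> rfl
        · have := congrFun (hg b (by simp [hIk, hb])) a
          simp only [act, Matrix.mulVec_single_one, Matrix.col_apply] at this
          rw [this, Matrix.diagonal_apply, Pi.single_apply]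
          split_ifs with hab hak <;> first | rfl | exact absurd (hab.symm.trans hak) hb
      conv_lhs => rw [hgd, Matrix.det_diagonal]
      simp
    rw [act, Matrix.mulVec_single_one, Matrix.col_apply, ← e1]
    exact g.1.2
  rw [h2, h3]

include hstar p in
/-- On two coordinates the multipliers are real. -/
theorem real_of_two (P : Pair i j e f) {g : Gn} (hg : g ∈ fixOut q ({i, j} : Finset (Fin n))) {c : F}
    (hc : c ≠ 0) (he : act g e = c • e) : star c = c := by
  set D := dMat e f c⁻¹ with hD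
  set M := g.1.1 * D with hM
  have hMe : M *ᵥ e = e := by
    rw [hM, ← Matrix.mulVec_mulVec, hD, dMat_mulVec, P.fe, P.ee, mul_one, mul_zero, zero_smul, add_zero,
      sub_smul, one_smul, add_sub_cancel, Matrix.mulVec_smul]
    show c⁻¹ • act g e = e
    rw [he, smul_smul, inv_mul_cancel₀ hc, one_smul]
  have hMherm : ∀ u v, herm (M *ᵥ u) (M *ᵥ v) = herm u v := by
    intro u v
    rw [hM, ← Matrix.mulVec_mulVec, ← Matrix.mulVec_mulVec]
    show herm (act g (D *ᵥ u)) (act g (D *ᵥ v)) = _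
    rw [herm_act hstar]
    show star (D *ᵥ u) ⬝ᵥ (D *ᵥ v) = star u ⬝ᵥ v
    rw [Matrix.star_mulVec, ← Matrix.dotProduct_mulVec, Matrix.mulVec_mulVec, hD,
      dMat_unitary P (inv_ne_zero hc), Matrix.one_mulVec]
  have hMout : ∀ z : Vn, Supp (Finset.univ \ {i, j}) z → M *ᵥ z = z := by
    intro z hz
    obtain ⟨h1, h2⟩ := P.perp hz
    rw [hM, ← Matrix.mulVec_mulVec, hD, dMat_mulVec, h1, h2, mul_zero, mul_zero, zero_smul, zero_smul, add_zero,
      add_zero]
    show act g z = z
    conv_lhs => rw [← Finset.univ_sum_single z]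
    rw [act, Matrix.mulVec_sum]
    conv_rhs => rw [← Finset.univ_sum_single z]
    refine Finset.sum_congr rfl fun k _ => ?_
    by_cases hk : k ∈ ({i, j} : Finset (Fin n))
    · rw [hz k (by simp [hk]), Pi.single_zero, Matrix.mulVec_zero]
    · rw [show (Pi.single k (z k) : Vn) = z k • Pi.single k 1 by
        rw [← Pi.single_smul, smul_eq_mul, mul_one], Matrix.mulVec_smul]
      exact congrArg _ (hg k hk)
  set z := M *ᵥ f - herm f (M *ᵥ f) • e - f with hzdef
  have hz : z = 0 := by
    have h1 : herm e z = 0 := by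
      rw [hzdef, herm_sub_right, herm_sub_right, herm_smul_right, P.ee, P.ef]
      conv_lhs => enter [1, 1, 1]; rw [← hMe]
      rw [hMherm, P.ef]; ring
    have h2 : herm f z = 0 := by
      rw [hzdef, herm_sub_right, herm_sub_right, herm_smul_right, P.fe, P.ff]; ring
    obtain ⟨hzi, hzj⟩ := P.zero z h1 h2
    have hperp : Supp {i, j} (M *ᵥ f) := by
      intro k hk
      have h3 := hMherm (Pi.single k 1) f
      rw [hMout _ (Supp.single (by simp [Finset.mem_sdiff]; simpa using hk) 1), herm_single_left, herm_single_left,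
        star_one, one_mul, one_mul, P.supp_f k hk] at h3
      exact h3
    funext k
    by_cases hk : k ∈ ({i, j} : Finset (Fin n))
    · rcases Finset.mem_insert.1 hk with rfl | hk
      · exact hzi
      · rw [Finset.mem_singleton.1 hk]; exact hzj
    · simp [hzdef, hperp k hk, P.supp_e k hk, P.supp_f k hk]
  have hMf : M *ᵥ f = herm f (M *ᵥ f) • e + f := by
    rw [← sub_eq_zero, ← hz, hzdef, sub_sub]
  obtain ⟨b, hMb⟩ : ∃ b : F, M *ᵥ f = b • e + f := ⟨_, hMf⟩
  have hN : ∀ x : Vn, ∃ r : F, (M - 1) *ᵥ x = r • e := by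
    intro x
    refine ⟨herm e x * b, ?_⟩
    have hdec := P.decompose (I := Finset.univ) (Finset.mem_univ _) (Finset.mem_univ _) (v := x)
      (fun m hm => absurd (Finset.mem_univ m) hm)
    set y := x - herm f x • e - herm e x • f with hy
    have hx : x = herm f x • e + herm e x • f + y := by rw [hy]; abel
    rw [Matrix.sub_mulVec, Matrix.one_mulVec]
    conv_lhs => rw [hx]
    rw [Matrix.mulVec_add, Matrix.mulVec_add, Matrix.mulVec_smul, Matrix.mulVec_smul, hMe, hMb, hMout y hdec]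
    module
  have h3 : (M - 1) * (M - 1) * (M - 1) = 0 := by
    refine ext_mulVec fun x => ?_
    rw [← Matrix.mulVec_mulVec, ← Matrix.mulVec_mulVec, Matrix.zero_mulVec]
    obtain ⟨r, hr⟩ := hN x
    rw [hr, Matrix.mulVec_smul, show (M - 1) *ᵥ e = 0 by rw [Matrix.sub_mulVec, Matrix.one_mulVec, hMe, sub_self],
      smul_zero, Matrix.mulVec_zero]
  have hdet := det_of_cube (p := p) h3
  rw [hM, Matrix.det_mul, g.1.2, hD, dMat_det P, one_mul, star_inv₀, inv_inv, inv_mul_eq_one₀ hc] at hdet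
  exact hdet.symm

include hstar hF in
/-- The subgroup supported in `I` is generated by its `p`-elements. -/
theorem fixOut_le_KI : ∀ (m : ℕ) (I : Finset (Fin n)), I.card = m → fixOut (F := F) q I ≤ KI p q I := by
  intro m
  induction m using Nat.strong_induction_on with
  | _ m ih =>
  intro I hI g hg
  rcases lt_or_ge m 2 with hm2 | hm2
  · rw [fixOut_small hstar (by omega), Subgroup.mem_bot] at hg
    rw [hg]; exact one_mem _
  obtain ⟨i, hi, j, hj, hij⟩ := Finset.one_lt_card.mp (show 1 < I.card by omega)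
  obtain ⟨e, f, P⟩ := exists_pair hstar hF hij
  have he0 : e ≠ 0 := (pair_ne_zero P).1
  obtain ⟨c, hc, k, hk, hkc⟩ := to_line (p := p) hstar hF P hi hj (u := act g e)
    ((pair_isPt P).1.act hstar g).1 ((pair_isPt P).1.act hstar g).2 (act_supp hstar hg (supp_pair hi hj P.supp_e))
  have hg1 : k * g ∈ fixOut q I := mul_mem (KI_le I hk) hg
  rw [← act_mul] at hkc
  have hmov : MovesK p q I e (c • e) := by
    rcases eq_or_lt_of_le hm2 with h2 | h3
    · have hI2 : I = {i, j} := (Finset.eq_of_subset_of_card_le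
        (by simp [Finset.insert_subset_iff, hi, hj]) (by rw [Finset.card_pair hij]; omega)).symm
      exact scalar_real hstar hF P hi hj hc (real_of_two (p := p) hstar P (hI2 ▸ hg1) hc hkc)
    · obtain ⟨l, hl⟩ := Finset.card_pos.mp (show 0 < (I \ {i, j}).card by
        rw [Finset.card_sdiff_of_subset (by simp [Finset.insert_subset_iff, hi, hj]), Finset.card_pair hij]; omega)
      exact scalar_three hstar hF P hi hj hl hc
  obtain ⟨x, hx, hxc⟩ := hmov
  have hg2 : x⁻¹ * (k * g) ∈ fixOut q I := mul_mem (inv_mem (KI_le I hx)) hg1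
  have hfix : act (x⁻¹ * (k * g)) e = e := by rw [act_mul, hkc, ← hxc, act_inv_act]
  obtain ⟨z, a, m', hok, hE, hm', heq⟩ := decomp_in hstar P hi hj hg2 hfix
  have hcard : (I \ {i, j}).card < m := by
    rw [← hI]
    exact Finset.card_lt_card (Finset.ssubset_iff_of_subset Finset.sdiff_subset |>.2 ⟨i, hi, by simp⟩)
  have hfin : x⁻¹ * (k * g) ∈ KI p q I := heq ▸ mul_mem (Subgroup.subset_closure ⟨hE, PEl_eich hstar hok⟩)
    (KI_mono Finset.sdiff_subset (ih _ hcard _ rfl hm'))
  exact (Subgroup.mul_mem_cancel_left _ hk).1 ((Subgroup.mul_mem_cancel_left _ (inv_mem hx)).1 hfin)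

include hstar hF in
/-- A `p`-group supported in `I` fixes an isotropic vector supported in `I`. -/
theorem exists_fixed_in {I : Finset (Fin n)} (hI : 2 ≤ I.card) (S : Subgroup Gn) (hS : IsPGroup p S)
    (hSI : S ≤ fixOut q I) : ∃ e : Vn, IsPt e ∧ Supp I e ∧ ∀ s ∈ S, act s e = e := by
  classical
  have hfix : ∀ U : AddSubgroup Vn, (∀ s ∈ S, ∀ u ∈ U, act s u ∈ U) → (∃ u ∈ U, u ≠ 0) →
      ∃ u ∈ U, u ≠ 0 ∧ ∀ s ∈ S, act s u = u := fun U h hU => by
    obtain ⟨u, hu, hu0, hfix⟩ := exists_fixed hS U (fun s v => act s.1 v)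
      (fun s u hu => h s.1 s.2 u hu) (fun u _ => act_one u) (fun r s u _ => act_mul r.1 s.1 u)
      (fun r => Matrix.mulVec_zero _) hU
    exact ⟨u, hu, hu0, fun s hs => hfix ⟨s, hs⟩⟩
  obtain ⟨a, ha, b, hb, hab⟩ := Finset.one_lt_card.mp (show 1 < I.card by omega)
  let V : AddSubgroup Vn :=
    { carrier := {u | Supp I u}
      add_mem' := fun ha hb => ha.add hb
      zero_mem' := fun _ _ => rfl
      neg_mem' := fun {u} hu k hk => by simp [hu k hk] }
  obtain ⟨v, hvI, hv0, hv⟩ := hfix V (fun s hs u hu => act_supp hstar (hSI hs) hu)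
    ⟨Pi.single a 1, Supp.single ha 1, fun h => (one_ne_zero : (1 : F) ≠ 0) (by simpa using congrFun h a)⟩
  by_cases hvv : herm v v = 0
  · exact ⟨v, ⟨hv0, hvv⟩, hvI, hv⟩
  let U : AddSubgroup Vn :=
    { carrier := {u | Supp I u ∧ herm v u = 0}
      add_mem' := fun {a b} ha hb => ⟨ha.1.add hb.1, by rw [herm_add_right, ha.2, hb.2, add_zero]⟩
      zero_mem' := ⟨fun _ _ => rfl, herm_zero_right v⟩
      neg_mem' := fun {a} ha => ⟨fun k hk => by simp [ha.1 k hk], by
        rw [← neg_one_smul F a, herm_smul_right, ha.2, mul_zero]⟩ }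
  have hUinv : ∀ s ∈ S, ∀ u ∈ U, act s u ∈ U := fun s hs u hu =>
    ⟨act_supp hstar (hSI hs) hu.1, by rw [← hv s hs, herm_act hstar]; exact hu.2⟩
  have hUne : ∃ u ∈ U, u ≠ 0 := by
    obtain ⟨k, hk⟩ : ∃ k, v k ≠ 0 := Function.ne_iff.mp hv0
    obtain ⟨m, hmI, hm⟩ : ∃ m ∈ I, m ≠ k := by
      by_cases h : a = k
      · exact ⟨b, hb, h ▸ hab.symm⟩
      · exact ⟨a, ha, h⟩
    refine ⟨Pi.single m 1 - (herm v (Pi.single m 1) / herm v v) • v,
      ⟨(Supp.single hmI 1).sub (hvI.smul _), ?_⟩, fun h => ?_⟩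
    · rw [herm_sub_right, herm_smul_right, div_mul_cancel₀ _ hvv, sub_self]
    · rw [sub_eq_zero] at h
      have h1 := congrFun h k
      rw [Pi.single_eq_of_ne (Ne.symm hm), Pi.smul_apply, smul_eq_mul] at h1
      rw [(mul_eq_zero.mp h1.symm).resolve_right hk, zero_smul] at h
      exact (one_ne_zero : (1 : F) ≠ 0) (by simpa using congrFun h m)
  obtain ⟨u, ⟨huI, hu⟩, hu0, huf⟩ := hfix U hUinv hUne
  by_cases huu : herm u u = 0
  · exact ⟨u, ⟨hu0, huu⟩, huI, huf⟩
  obtain ⟨x, hx⟩ := exists_neg_norm hstar hF (r := -herm u u / herm v v)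
    (by rw [star_div₀, star_neg, star_herm, star_herm])
  have huv : herm u v = 0 := by rw [← star_herm, hu, star_zero]
  refine ⟨u + x • v, ⟨fun h => ?_, ?_⟩, huI.add (hvI.smul x),
    fun s hs => by rw [act_add, act_smul, huf s hs, hv s hs]⟩
  · have h1 := congrArg (herm v) h
    rw [herm_add_right, herm_smul_right, hu, herm_zero_right, zero_add] at h1
    rw [(mul_eq_zero.mp h1).resolve_right hvv, zero_smul, add_zero] at h
    exact hu0 h
  · simp only [herm_add_left, herm_add_right, herm_smul_left, herm_smul_right, hu, huv]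
    rw [eq_div_iff hvv] at hx
    linear_combination hx

/-- Eichler elements. -/
def IsEi (g : Gn) : Prop := ∃ v z a, IsPt v ∧ EOk v z a ∧ g = eich hstar v z a

include hF in
theorem IsEi.conj {g : Gn} (h : IsEi hstar g) (x : Gn) : IsEi hstar (x * g * x⁻¹) := by
  obtain ⟨v, z, a, hv, hok, rfl⟩ := h
  exact ⟨_, _, a, hv.act hstar x, hok.act hstar x, eich_conj hstar x hok⟩

include hF in
/-- Maximal `p`-subgroups supported in `I` are generated by Eichler elements. -/
theorem eich_gen : ∀ (m : ℕ) (I : Finset (Fin n)), I.card = m → ∀ P : Subgroup Gn, P ≤ fixOut q I →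
    IsPGroup p P → (∀ Q : Subgroup Gn, Q ≤ fixOut q I → IsPGroup p Q → P ≤ Q → Q ≤ P) →
    P ≤ Subgroup.closure {g | g ∈ P ∧ IsEi hstar g} := by
  intro m
  induction m using Nat.strong_induction_on with
  | _ m ih =>
  intro I hI P hPI hP hmax
  rcases lt_or_ge m 2 with hm2 | hm2
  · intro g hg
    have := hPI hg
    rw [fixOut_small hstar (by omega), Subgroup.mem_bot] at this
    rw [this]; exact one_mem _
  obtain ⟨u, hu, hsu, hufix⟩ := exists_fixed_in hstar hF (by omega) P hP hPI
  obtain ⟨i, hi, j, hj, hij⟩ := Finset.one_lt_card.mp (show 1 < I.card by omega)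
  obtain ⟨e, f, Pr⟩ := exists_pair hstar hF hij
  obtain ⟨c, hc, x, hx, hxu⟩ := to_line (p := p) hstar hF Pr hi hj hu.1 hu.2 hsu
  have hxI := KI_le I hx
  set c' : Gn →* Gn := (MulAut.conj x).toMonoidHom with hc'
  have hcap : ∀ y, c' y = x * y * x⁻¹ := fun y => rfl
  set P' := P.map c' with hP'def
  have hP'I : P' ≤ fixOut q I := by
    rintro _ ⟨y, hy, rfl⟩
    exact mul_mem (mul_mem hxI (hPI hy)) (inv_mem hxI)
  have hP' : IsPGroup p P' := hP.map _
  have hfixe : ∀ s ∈ P', act s e = e := by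
    rintro _ ⟨y, hy, rfl⟩
    have h1 : act (c' y) (c • e) = c • e := by
      rw [hcap, ← hxu, act_mul, act_mul, act_inv_act, hufix y hy]
    rw [act_smul] at h1
    exact smul_right_injective _ hc h1
  have hmax' : ∀ Q : Subgroup Gn, Q ≤ fixOut q I → IsPGroup p Q → P' ≤ Q → Q ≤ P' := by
    intro Q hQI hQ hle y hy
    have h1 : P ≤ Q.map (MulAut.conj x⁻¹).toMonoidHom := fun s hs =>
      ⟨c' s, hle ⟨s, hs, rfl⟩, by simp [hcap, mul_assoc]⟩
    have h2 := hmax _ (by
      rintro _ ⟨s, hs, rfl⟩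
      exact mul_mem (mul_mem (inv_mem hxI) (hQI hs)) (inv_mem (inv_mem hxI))) (hQ.map _) h1 ⟨y, hy, rfl⟩
    exact ⟨_, h2, by simp [hcap, mul_assoc]⟩
  let QI : Subgroup Gn := Qg hstar Pr.ee ⊓ fixOut q I
  have hnorm : ∀ R : Subgroup Gn, R ≤ fixOut q I → (∀ s ∈ R, act s e = e) →
      R ≤ Subgroup.normalizer (QI : Set Gn) := by
    intro R hRI hRe s hs
    refine Subgroup.mem_normalizer_fintype ?_
    rintro _ ⟨⟨z, a, hok, rfl⟩, hxI'⟩
    refine ⟨?_, Subgroup.mul_mem _ (Subgroup.mul_mem _ (hRI hs) hxI') (Subgroup.inv_mem _ (hRI hs))⟩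
    have h' := hok.act hstar s
    rw [hRe s hs] at h'
    exact ⟨_, _, h', by rw [eich_conj hstar s hok, hRe s hs]⟩
  have hQIP : IsPGroup p QI := (isPGroup_Qg hstar Pr.ee).to_le inf_le_left
  have hQIle : QI ≤ P' := le_sup_right.trans (hmax' (P' ⊔ QI) (sup_le hP'I inf_le_right)
    (IsPGroup.to_sup_of_normal_right' hP' hQIP (hnorm P' hP'I hfixe)) le_sup_left)
  have hsub : (I \ {i, j}) ⊆ I := Finset.sdiff_subset
  set P'' := P' ⊓ fixOut q (I \ {i, j}) with hP''
  have hdec : P' ≤ QI ⊔ P'' := by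
    intro g hg
    obtain ⟨z, a, m', hok, hE, hm', rfl⟩ := decomp_in hstar Pr hi hj (hP'I hg) (hfixe g hg)
    have h1 : eich hstar e z a ∈ QI := ⟨⟨z, a, hok, rfl⟩, hE⟩
    exact Subgroup.mul_mem_sup h1 ⟨(Subgroup.mul_mem_cancel_left P' (hQIle h1)).1 hg, hm'⟩
  have hcard : (I \ {i, j}).card < m := by
    rw [← hI]
    exact Finset.card_lt_card (Finset.ssubset_iff_of_subset hsub |>.2 ⟨i, hi, by simp⟩)
  have ih'' := ih _ hcard _ rfl P'' inf_le_right (hP'.to_le inf_le_left) fun Q hQI hQ hle => by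
    have hQI' : Q ≤ fixOut q I := hQI.trans (fixOut_mono hsub)
    have h1 : Q ⊔ QI ≤ P' := hmax' _ (sup_le hQI' inf_le_right)
      (IsPGroup.to_sup_of_normal_right' hQ hQIP (hnorm Q hQI' fun s hs => (fix_of_fixOut Pr (hQI hs)).1))
      (hdec.trans (sup_le le_sup_right (hle.trans le_sup_left)))
    exact le_inf (le_sup_left.trans h1) hQI
  have hP'gen : P' ≤ Subgroup.closure {g | g ∈ P' ∧ IsEi hstar g} := by
    refine hdec.trans (sup_le ?_ (ih''.trans (Subgroup.closure_mono fun g hg => ⟨hg.1.1, hg.2⟩)))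
    rintro g hg
    obtain ⟨⟨z, a, hok, rfl⟩, -⟩ := id hg
    exact Subgroup.subset_closure ⟨hQIle hg, e, z, a, (pair_isPt Pr).1, hok, rfl⟩
  intro g hg
  have h1 := Subgroup.mem_map_of_mem (MulAut.conj x⁻¹).toMonoidHom (hP'gen ⟨g, hg, rfl⟩)
  rw [MonoidHom.map_closure] at h1
  have h2 : (MulAut.conj x⁻¹).toMonoidHom (c' g) = g := by simp [hcap, mul_assoc]
  rw [h2] at h1
  refine Subgroup.closure_mono ?_ h1
  rintro _ ⟨_, ⟨⟨y, hy, rfl⟩, hEi⟩, rfl⟩
  refine ⟨?_, hEi.conj hstar hF x⁻¹⟩
  show (MulAut.conj x⁻¹).toMonoidHom (c' y) ∈ P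
  rw [show (MulAut.conj x⁻¹).toMonoidHom (c' y) = y by simp [hcap, mul_assoc]]
  exact hy

end Cfsg.Agent.Local.FS.PSUnSimple
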