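import Cfsg.Agent.Lib.Local.FS.Essential

set_option autoImplicit false

namespace Cfsg.Agent.Local.FS

open Cfsg Cfsg.FusionSystem Cfsg.Agent.Fusion
open scoped commutatorElement

variable {Ω : Type*} [Group Ω] {S : Subgroup Ω} {F : FusionSystem S}
  {P Q R T U : Subgroup Ω} {f g : Ω → Ω} {p : ℕ}

theorem Map.im_sup_le (h : Map F (P ⊔ Q) g) : im (P ⊔ Q) g ≤ im P g ⊔ im Q g := by
  obtain ⟨φ, hφ, he⟩ := h
  have hle : P ⊔ Q ≤ ((im P g ⊔ im Q g).comap φ).map (P ⊔ Q).subtype := by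
    refine sup_le (fun x hx => ?_) (fun x hx => ?_)
    · refine ⟨⟨x, Subgroup.mem_sup_left hx⟩, ?_, rfl⟩
      rw [SetLike.mem_coe, Subgroup.mem_comap, he]
      exact Subgroup.mem_sup_left (mem_im_of_mem (f := g) hx)
    · refine ⟨⟨x, Subgroup.mem_sup_right hx⟩, ?_, rfl⟩
      rw [SetLike.mem_coe, Subgroup.mem_comap, he]
      exact Subgroup.mem_sup_right (mem_im_of_mem (f := g) hx)
  refine im_le_iff.2 fun x hx => ?_
  obtain ⟨y, hy, rfl⟩ := hle hx
  show g (y : Ω) ∈ _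
  rw [← he y]; exact hy

theorem map_subgroupOf_eq_im (hQT : Q ≤ T) {φ : T →* Ω} (he : ∀ x : T, φ x = g x) :
    (Q.subgroupOf T).map φ = im Q g := by
  rw [im, ← Subgroup.closure_eq (Subgroup.map φ _)]
  congr 1
  ext y
  constructor
  · rintro ⟨x, hx, rfl⟩; exact ⟨x, hx, (he x).symm⟩
  · rintro ⟨x, hx, rfl⟩; exact ⟨⟨x, hQT hx⟩, hx, he _⟩

/-- Normality, for functions. -/
theorem normal_iff : F.IsNormal Q ↔ Q ≤ S ∧ ∀ (P : Subgroup Ω) (f : Ω → Ω), Map F P f →
    ∃ g, Map F (P ⊔ Q) g ∧ (∀ x ∈ P, g x = f x) ∧ im Q g = Q := by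
  refine and_congr_right fun _ => ⟨fun h P f hf => ?_, fun h P φ hφ => ?_⟩
  · obtain ⟨φ, hφ, he⟩ := hf
    obtain ⟨ψ, hψ, h1, h2⟩ := h P φ hφ
    refine ⟨fn ψ, map_of_mem hψ, fun x hx => ?_, ?_⟩
    · rw [fn_apply ψ (Subgroup.mem_sup_left hx)]
      exact (h1 ⟨x, hx⟩).trans (he _)
    · rw [← map_subgroupOf_eq_im le_sup_right (fun x => (fn_coe ψ x).symm), h2]
  · obtain ⟨g, ⟨ψ, hψ, he⟩, h1, h2⟩ := h P (fn φ) (map_of_mem hφ)
    refine ⟨ψ, hψ, fun x => ?_, by rw [map_subgroupOf_eq_im le_sup_right he, h2]⟩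
    rw [he]; exact (h1 x x.2).trans (fn_coe φ x)

theorem stronglyClosed_iff : F.StronglyClosed Q ↔
    Q ≤ S ∧ ∀ (P : Subgroup Ω) (f : Ω → Ω), P ≤ Q → Map F P f → ∀ x ∈ P, f x ∈ Q := by
  refine and_congr_right fun _ => ⟨fun h P f hP hf x hx => ?_, fun h P hP φ hφ x => ?_⟩
  · obtain ⟨φ, hφ, he⟩ := hf
    rw [← he ⟨x, hx⟩]; exact h P hP φ hφ _
  · rw [← fn_coe φ x]; exact h P _ hP (map_of_mem hφ) x x.2

theorem stronglyClosed_map (hQ : F.StronglyClosed Q) (hf : Map F P f) {x : Ω} (hx : x ∈ P)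
    (hxQ : x ∈ Q) : f x ∈ Q :=
  (stronglyClosed_iff.1 hQ).2 (P ⊓ Q) f inf_le_right (hf.restrict inf_le_left) x ⟨hx, hxQ⟩

theorem normal_stronglyClosed (hQ : F.IsNormal Q) : F.StronglyClosed Q := by
  refine stronglyClosed_iff.2 ⟨hQ.1, fun P f hP hf x hx => ?_⟩
  obtain ⟨g, -, hgf, hgQ⟩ := (normal_iff.1 hQ).2 P f hf
  rw [← hgf x hx]
  exact hgQ.le (mem_im_of_mem (hP hx))

theorem stronglyClosed_conj_mem (hQ : F.StronglyClosed Q) {s : Ω} (hs : s ∈ S) {x : Ω} (hx : x ∈ Q) :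
    s * x * s⁻¹ ∈ Q :=
  (stronglyClosed_iff.1 hQ).2 Q _ le_rfl (map_conjBy hQ.1 hs) x hx

theorem stronglyClosed_le_normalizer (hQ : F.StronglyClosed Q) :
    S ≤ Subgroup.normalizer (Q : Set Ω) := fun s hs =>
  Subgroup.mem_normalizer_iff.2 fun x => ⟨fun hx => stronglyClosed_conj_mem hQ hs hx, fun hx => by
    simpa [mul_assoc] using stronglyClosed_conj_mem hQ (S.inv_mem hs) hx⟩

theorem mem_sup_of_normalized (hQ : S ≤ Subgroup.normalizer (Q : Set Ω)) (hP : P ≤ S) {x : Ω}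
    (hx : x ∈ P ⊔ Q) : ∃ a ∈ P, ∃ b ∈ Q, a * b = x := by
  rw [← SetLike.mem_coe, Subgroup.coe_mul_of_left_le_normalizer_right P Q (hP.trans hQ)] at hx
  exact hx

variable [Finite S] [Fact p.Prime]

/-- A centric radical subgroup absorbs a group `A ≤ N_S(P)` inducing a normal `p`-group of automorphisms. -/
theorem le_of_normal_autInducedBy (hS : IsPGroup p S) (hC : F.IsCentric P) (hR : F.IsRadical p P)
    {A : Subgroup Ω} (hA : A ≤ normalizerIn S P)
    (hinv : ∀ α ∈ F.autGroup P, ∀ a ∈ A, ∃ b ∈ A, ∀ x ∈ P, av α (a * (av α⁻¹ x) * a⁻¹) = b * x * b⁻¹) :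
    A ≤ P := by
  haveI := mulAut_finite_of_le hC.1
  set B := (autInducedBy A P).subgroupOf (F.autGroup P)
  have hAS : autInducedBy A P ≤ autInducedBy S P := by
    intro β hβ
    obtain ⟨a, ha, h⟩ := mem_autInducedBy.1 hβ
    exact mem_autInducedBy.2 ⟨a, (hA ha).1, h⟩
  have hBn : B.Normal := by
    constructor
    intro β hβ α
    obtain ⟨a, ha, h⟩ := mem_autInducedBy.1 hβ
    obtain ⟨b, hb, hb'⟩ := hinv α α.2 a ha
    refine mem_autInducedBy.2 ⟨b, hb, fun x hx => ?_⟩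
    show av ((α : MulAut P) * (β : MulAut P) * (α : MulAut P)⁻¹) x = _
    rw [av_mul _ _ hx, av_mul _ _ (av_mem _ hx)]
    have h' : ∀ y ∈ P, av (β : MulAut P) y = a * y * a⁻¹ := h
    rw [h' _ (av_mem _ hx)]
    exact hb' x hx
  have hBp : IsPGroup p ↥B := ((isPGroup_autS hS).to_le hAS).comap_subtype
  intro a ha
  obtain ⟨β, hβ, hβA⟩ := exists_aut_conj (hA ha).2
  have hβF : β ∈ F.autGroup P := autInducedBy_le_autGroup hC.1 (hβA S (hA ha).1)
  have hin : β ∈ Inn P := by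
    rw [← hR.2]
    exact ⟨⟨β, hβF⟩, le_pCore hBp (hβA A ha), rfl⟩
  obtain ⟨y, hy, hyβ⟩ := mem_Inn.1 hin
  have hc : y⁻¹ * a ∈ centralizerIn S P := by
    refine mem_centralizerIn.2 ⟨S.mul_mem (S.inv_mem (hC.1 hy)) (hA ha).1, fun x hx => ?_⟩
    have h1 := (hβ x hx).symm.trans (hyβ x hx)
    calc x * (y⁻¹ * a) = y⁻¹ * (y * x * y⁻¹) * a := by group
      _ = y⁻¹ * (a * x * a⁻¹) * a := by rw [h1]
      _ = _ := by group
  simpa using P.mul_mem hy (hC.2 P (isConj_refl hC.1) hc)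

theorem le_of_inf_normalizer_le (hS : IsPGroup p S) (hQS : Q ≤ S)
    (hQn : S ≤ Subgroup.normalizer (Q : Set Ω)) (hP : P ≤ S)
    (h : Q ⊓ Subgroup.normalizer (P : Set Ω) ≤ P) : Q ≤ P := by
  by_contra hQP
  have hlt : P < P ⊔ Q := lt_of_le_not_ge le_sup_left fun hle => hQP (le_sup_right.trans hle)
  obtain ⟨x, ⟨hx, hxn⟩, hxP⟩ := SetLike.exists_of_lt (lt_inf_normalizer hS hlt (sup_le hP hQS))
  obtain ⟨a, ha, b, hb, rfl⟩ := mem_sup_of_normalized hQn hP hx
  refine hxP (P.mul_mem ha (h ⟨hb, ?_⟩))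
  have hn := Subgroup.mul_mem _ (Subgroup.inv_mem _ (Subgroup.le_normalizer ha)) hxn
  rwa [inv_mul_cancel_left] at hn

/-- A normal subgroup is contained in every centric radical subgroup. -/
theorem normal_le_centric_radical (hS : IsPGroup p S) (hQ : F.IsNormal Q) (hC : F.IsCentric P)
    (hR : F.IsRadical p P) : Q ≤ P := by
  have hsc := normal_stronglyClosed hQ
  refine le_of_inf_normalizer_le hS hQ.1 (stronglyClosed_le_normalizer hsc) hC.1 ?_
  refine le_of_normal_autInducedBy hS hC hR (inf_le_inf_right _ hQ.1) ?_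
  rintro α hα a ⟨haQ, han⟩
  obtain ⟨g, hg, hgα, hgQ⟩ := (normal_iff.1 hQ).2 P _ (map_of_mem_autGroup hC.1 hα)
  have ha' : a ∈ P ⊔ Q := Subgroup.mem_sup_right haQ
  have hgP : im P g = P := (im_congr hgα).trans (im_av α)
  refine ⟨g a, ⟨hgQ.le (mem_im_of_mem haQ), ?_⟩, fun x hx => ?_⟩
  · have := (hg.mem_normalizer le_sup_left ha' han).2
    rwa [hgP] at this
  · have hy : av α⁻¹ x ∈ P := av_mem _ hx
    rw [← hgα _ (conj_mem_of_normalizer han hy), hg.map_conj ha' (Subgroup.mem_sup_left hy), hgα _ hy,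
      av_av_inv α hx]

/-- The criterion for normality through `S` and the essential subgroups. -/
theorem normal_of_gen (hS : IsPGroup p S) (hF : F.IsSaturated p) (hQS : Q ≤ S)
    (h : ∀ P : Subgroup Ω, (P = S ∨ F.IsEssential p P) →
      Q ≤ P ∧ ∀ α ∈ F.autGroup P, ∀ x ∈ Q, av α x ∈ Q) : F.IsNormal Q := by
  haveI := finite_of_le hQS
  let K : Subgroup Ω → (Ω → Ω) → Prop := fun P f =>
    ∃ g, Map F (P ⊔ Q) g ∧ (∀ x ∈ P, g x = f x) ∧ im Q g = Q
  have hK : IsClosedClass F K := by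
    refine ⟨?_, ?_, ?_, ?_⟩
    · rintro P f f' ⟨g, hg, h1, h2⟩ he
      exact ⟨g, hg, fun x hx => (h1 x hx).trans (he x hx), h2⟩
    · rintro P R f - ⟨g, hg, h1, h2⟩ hR
      exact ⟨g, hg.restrict (sup_le_sup_right hR Q), fun x hx => h1 x (hR hx), h2⟩
    · rintro P P' f f' hf hf' ⟨g, hg, h1, h2⟩ ⟨g', hg', h1', h2'⟩ hm
      have hm' : ∀ x ∈ P ⊔ Q, g x ∈ P' ⊔ Q := im_le_iff.1 <| hg.im_sup_le.trans <|
        sup_le_sup (im_le_iff.2 fun x hx => h1 x hx ▸ hm x hx) h2.le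
      refine ⟨g' ∘ g, hg.comp hg' hm', fun x hx => ?_, ?_⟩
      · show g' (g x) = f' (f x)
        rw [h1 x hx, h1' _ (hm x hx)]
      · rw [(hg.restrict le_sup_right).im_comp, h2, h2']
    · rintro P f f' hf ⟨g, hg, h1, h2⟩ hf'
      obtain ⟨g', hg', hgg, -, -⟩ := hg.exists_inv
      have hle : im P f ⊔ Q ≤ im (P ⊔ Q) g :=
        sup_le ((im_congr h1).symm.le.trans (im_mono le_sup_left)) (h2.ge.trans (im_mono le_sup_right))
      refine ⟨g', hg'.restrict hle, fun y hy => ?_, ?_⟩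
      · obtain ⟨x, hx, rfl⟩ := hf.mem_im.1 hy
        rw [hf' x hx, ← h1 x hx, hgg x (Subgroup.mem_sup_left hx)]
      · refine (hg'.restrict (h2.ge.trans (im_mono le_sup_right))).im_eq (fun y hy => ?_)
          (fun x hx => ⟨g x, h2.le (mem_im_of_mem hx), hgg x (Subgroup.mem_sup_right hx)⟩)
        obtain ⟨x, hx, rfl⟩ := (hg.restrict le_sup_right).mem_im.1 (h2.ge hy)
        rw [hgg x (Subgroup.mem_sup_right hx)]; exact hx
  refine normal_iff.2 ⟨hQS, alperin hS hF hK fun P hP α hα => ?_⟩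
  obtain ⟨hQP, hinv⟩ := h P hP
  have hPS : P ≤ S := hP.elim (fun h => h.le) fun h => h.1.1
  have hM := map_of_mem_autGroup hPS hα
  refine ⟨av α, by rwa [sup_eq_left.2 hQP], fun x _ => rfl, ?_⟩
  exact Subgroup.eq_of_le_of_card_ge (im_le_iff.2 (hinv α hα)) ((hM.restrict hQP).card_im.ge)

theorem gen_centric_radical (hS : IsPGroup p S) (hF : F.IsSaturated p)
    (hP : P = S ∨ F.IsEssential p P) : F.IsCentric P ∧ F.IsRadical p P := by
  rcases hP with rfl | h
  · refine ⟨⟨le_rfl, fun Q hQ => ?_⟩, le_rfl, ?_⟩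
    · have : Q = P := Subgroup.eq_of_le_of_card_ge (isConj_le hQ).2 (isConj_card hQ).le
      exact this ▸ inf_le_left
    · haveI := mulAut_finite_of_le (le_refl P)
      have hinn : autInducedBy P P = Inn P := by
        ext α; rw [mem_autInducedBy, mem_Inn]
      obtain ⟨-, hsyl⟩ := fa_iff.1 (fc_fa_of_fn hS hF (fn_self (F := F))).2
      rw [hinn] at hsyl
      obtain ⟨R, hR⟩ := hsyl.exists_sylow_subgroupOf
      have hn : ((Inn P).subgroupOf (F.autGroup P)).Normal := inferInstance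
      have he : pCore p ↥(F.autGroup P) = (Inn P).subgroupOf (F.autGroup P) :=
        le_antisymm ((pCore_le_sylow R).trans hR.le) (le_pCore hsyl.isPGroup.comap_subtype)
      rw [he, Subgroup.map_subgroupOf_eq_of_le hsyl.le]
  · exact ⟨h.1, radical_of_essential hS hF h⟩

/-- Normality by centric radicals. -/
theorem normal_of_centric_radical (hS : IsPGroup p S) (hF : F.IsSaturated p)
    (hQ : F.StronglyClosed Q) (h : ∀ P : Subgroup Ω, F.IsCentric P → F.IsRadical p P → Q ≤ P) :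
    F.IsNormal Q := by
  refine normal_of_gen hS hF hQ.1 fun P hP => ?_
  obtain ⟨hC, hR⟩ := gen_centric_radical hS hF hP
  exact ⟨h P hC hR, fun α hα x hx =>
    stronglyClosed_map hQ (map_of_mem_autGroup hC.1 hα) (h P hC hR hx) hx⟩

/-- The supremum of normal subgroups is normal. -/
theorem normal_sSup (hS : IsPGroup p S) (hF : F.IsSaturated p) (s : Set (Subgroup Ω))
    (hs : ∀ Q ∈ s, F.IsNormal Q) : F.IsNormal (sSup s) := by
  refine normal_of_gen hS hF (sSup_le fun Q hQ => (hs Q hQ).1) fun P hP => ?_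
  obtain ⟨hC, hR⟩ := gen_centric_radical hS hF hP
  have hle : sSup s ≤ P := sSup_le fun Q hQ => normal_le_centric_radical hS (hs Q hQ) hC hR
  refine ⟨hle, fun α hα x hx => ?_⟩
  have hsub : sSup s ≤ ((sSup s).comap (P.subtype.comp α.toMonoidHom)).map P.subtype :=
    sSup_le fun Q hQ y hy => ⟨⟨y, hle (le_sSup hQ hy)⟩, by
      show P.subtype (α ⟨y, _⟩) ∈ sSup s
      rw [← show av α y = P.subtype (α ⟨y, hle (le_sSup hQ hy)⟩) from av_apply α _]
      exact le_sSup hQ (stronglyClosed_map (normal_stronglyClosed (hs Q hQ))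
        (map_of_mem_autGroup hC.1 hα) (hle (le_sSup hQ hy)) hy), rfl⟩
  obtain ⟨y, hy, rfl⟩ := hsub hx
  rw [show av α (P.subtype y) = (P.subtype.comp α.toMonoidHom) y from av_coe α y]
  exact hy

theorem core_normal (hS : IsPGroup p S) (hF : F.IsSaturated p) : F.IsNormal F.core :=
  normal_sSup hS hF _ fun _ h => h

omit [Finite S] [Fact p.Prime] in
/-- A characteristic subgroup of a normal subgroup is normal. -/
theorem normal_of_characteristic (hQ : F.IsNormal Q) (hUQ : U ≤ Q)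
    (hU : (U.subgroupOf Q).Characteristic) : F.IsNormal U := by
  refine normal_iff.2 ⟨hUQ.trans hQ.1, fun P f hf => ?_⟩
  obtain ⟨g, hg, hgf, hgQ⟩ := (normal_iff.1 hQ).2 P f hf
  refine ⟨g, hg.restrict (sup_le_sup_left hUQ P), hgf, ?_⟩
  obtain ⟨e, he⟩ := exists_equiv (hg.restrict le_sup_right) hgQ
  have hmap := Subgroup.characteristic_iff_map_eq.1 hU e
  refine (hg.restrict (hUQ.trans le_sup_right)).im_eq (fun x hx => ?_) fun y hy => ?_
  · rw [← he ⟨x, hUQ hx⟩]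
    exact (hmap.le ⟨⟨x, hUQ hx⟩, hx, rfl⟩ : e ⟨x, hUQ hx⟩ ∈ U.subgroupOf Q)
  · obtain ⟨x, hx, hxy⟩ := hmap.ge (show (⟨y, hUQ hy⟩ : Q) ∈ U.subgroupOf Q from hy)
    exact ⟨x, hx, by rw [← he x]; exact congrArg Subtype.val hxy⟩

/-- An automorphism stabilising a chain has `p`-power order. -/
theorem exists_pow_eq_one_of_stabilizes {P : Subgroup Ω} [Finite P] (hP : IsPGroup p P) {α : MulAut P}
    (C : ℕ → Subgroup Ω) (m : ℕ) (h0 : C 0 = ⊥) (hm : P ≤ C m) (hmono : Monotone C)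
    (hα : ∀ i < m, ∀ x ∈ P, x ∈ C (i + 1) → x⁻¹ * av α x ∈ C i) :
    ∃ k, α ^ p ^ k = 1 := by
  have hiter : ∀ i < m, ∀ (n : ℕ), ∀ x ∈ P, x ∈ C (i + 1) → x⁻¹ * av (α ^ n) x ∈ C i := by
    intro i hi n
    induction n with
    | zero => intro x hx _; rw [pow_zero, av_one hx, inv_mul_cancel]; exact (C i).one_mem
    | succ n ihn =>
      intro x hx hxC
      have h1 := ihn x hx hxC
      have hy : av (α ^ n) x ∈ P := av_mem _ hx
      have hyC : av (α ^ n) x ∈ C (i + 1) := by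
        simpa using (C (i + 1)).mul_mem hxC (hmono (Nat.le_succ i) h1)
      have := (C i).mul_mem h1 (hα i hi _ hy hyC)
      rw [pow_succ', av_mul _ _ hx]
      simpa [mul_assoc] using this
  suffices ∀ i ≤ m, ∃ k, ∀ x ∈ P, x ∈ C i → av (α ^ p ^ k) x = x by
    obtain ⟨k, hk⟩ := this m le_rfl
    exact ⟨k, aut_ext fun x hx => by rw [hk x hx (hm hx), av_one hx]⟩
  intro i
  induction i with
  | zero =>
    intro _
    refine ⟨0, fun x hx hx0 => ?_⟩
    rw [h0, Subgroup.mem_bot] at hx0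
    subst hx0
    rw [av_apply _ hx]
    have : (⟨1, hx⟩ : P) = 1 := rfl
    rw [this, map_one]; rfl
  | succ i ih =>
    intro hi
    obtain ⟨k, hk⟩ := ih (by omega)
    obtain ⟨j, hj⟩ := IsPGroup.iff_card.1 hP
    refine ⟨k + j, fun x hx hxC => ?_⟩
    set β := α ^ p ^ k
    set a := x⁻¹ * av β x
    have haC : a ∈ C i := hiter i (by omega) _ x hx hxC
    have haP : a ∈ P := P.mul_mem (P.inv_mem hx) (av_mem β hx)
    have hfix : av β a = a := hk a haP haC
    have hpow : ∀ n : ℕ, av (β ^ n) x = x * a ^ n := by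
      intro n
      induction n with
      | zero => rw [pow_zero, av_one hx, pow_zero, mul_one]
      | succ n ihn =>
        rw [pow_succ', av_mul _ _ hx, ihn]
        have hfixn : av β (a ^ n) = a ^ n := by
          rw [av_apply β (P.pow_mem haP n)]
          have : (⟨a ^ n, P.pow_mem haP n⟩ : P) = (⟨a, haP⟩ : P) ^ n := rfl
          rw [this, map_pow]
          show ((β ⟨a, haP⟩ : P) : Ω) ^ n = a ^ n
          rw [← av_apply β haP, hfix]
        have hmul : av β (x * a ^ n) = av β x * av β (a ^ n) := by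
          rw [av_apply β (P.mul_mem hx (P.pow_mem haP n)), av_apply β hx, av_apply β (P.pow_mem haP n)]
          exact congrArg Subtype.val (map_mul β ⟨x, hx⟩ ⟨a ^ n, P.pow_mem haP n⟩)
        rw [hmul, hfixn, show av β x = x * a by simp [a], mul_assoc, ← pow_succ']
    rw [pow_add, pow_mul, hpow]
    have ha1 : (⟨a, haP⟩ : P) ^ p ^ j = 1 := by
      rw [← hj]; exact pow_card_eq_one'
    rw [show a ^ p ^ j = 1 from congrArg Subtype.val ha1, mul_one]

/-- The series criterion for normality. -/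
theorem normal_of_series (hS : IsPGroup p S) (hF : F.IsSaturated p) (C : ℕ → Subgroup Ω) (n : ℕ)
    (h0 : C 0 = ⊥) (hn : C n = Q) (hmono : Monotone C) (hQ : F.StronglyClosed Q)
    (hsc : ∀ i < n, F.StronglyClosed (C (i + 1)))
    (hcomm : ∀ i < n, ⁅Q, C (i + 1)⁆ ≤ C i) : F.IsNormal Q := by
  classical
  refine normal_of_centric_radical hS hF hQ fun P hC hR => ?_
  refine le_of_inf_normalizer_le hS hQ.1 (stronglyClosed_le_normalizer hQ) hC.1 ?_
  haveI := finite_of_le hC.1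
  haveI := mulAut_finite_of_le hC.1
  let C' : ℕ → Subgroup Ω := fun i => if i ≤ n then C i else P ⊔ Q
  have hC'le : ∀ i, i ≤ n → C' i = C i := fun i hi => if_pos hi
  have hC'top : C' (n + 1) = P ⊔ Q := if_neg (by omega)
  have hm' : Monotone C' := monotone_nat_of_le_succ fun i => by
    by_cases h : i + 1 ≤ n
    · rw [hC'le i (by omega), hC'le _ h]; exact hmono (Nat.le_succ i)
    · show C' i ≤ if i + 1 ≤ n then C (i + 1) else P ⊔ Q
      rw [if_neg h]
      show (if i ≤ n then C i else P ⊔ Q) ≤ P ⊔ Q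
      split
      · exact (hmono (by omega : i ≤ n)).trans (hn.le.trans le_sup_right)
      · exact le_rfl
  -- the stabilising automorphisms
  let A : Subgroup (MulAut P) :=
    { carrier := {α | α ∈ F.autGroup P ∧ ∀ i < n + 1, ∀ x ∈ P, x ∈ C' (i + 1) → x⁻¹ * av α x ∈ C' i}
      one_mem' := ⟨Subgroup.one_mem _, fun i _ x hx _ => by rw [av_one hx, inv_mul_cancel]; exact (C' i).one_mem⟩
      mul_mem' := by
        rintro α β ⟨hα, hα'⟩ ⟨hβ, hβ'⟩
        refine ⟨Subgroup.mul_mem _ hα hβ, fun i hi x hx hxC => ?_⟩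
        have h1 := hβ' i hi x hx hxC
        have hy : av β x ∈ C' (i + 1) := by
          simpa using (C' (i + 1)).mul_mem hxC (hm' (Nat.le_succ i) h1)
        have := (C' i).mul_mem h1 (hα' i hi _ (av_mem β hx) hy)
        rw [av_mul _ _ hx]
        simpa [mul_assoc] using this
      inv_mem' := by
        rintro α ⟨hα, hα'⟩
        refine ⟨Subgroup.inv_mem _ hα, fun i hi x hx hxC => ?_⟩
        have hinvpow : α⁻¹ = α ^ (orderOf α - 1) := by
          rw [inv_eq_iff_mul_eq_one, ← pow_succ', Nat.sub_add_cancel (orderOf_pos α), pow_orderOf_eq_one]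
        rw [hinvpow]
        generalize orderOf α - 1 = k
        induction k generalizing x with
        | zero => rw [pow_zero, av_one hx, inv_mul_cancel]; exact (C' i).one_mem
        | succ k ihk =>
          have h1 := hα' i hi x hx hxC
          have hy : av α x ∈ C' (i + 1) := by
            simpa using (C' (i + 1)).mul_mem hxC (hm' (Nat.le_succ i) h1)
          have := (C' i).mul_mem h1 (ihk _ (av_mem α hx) hy)
          rw [pow_succ, av_mul _ _ hx]
          simpa [mul_assoc] using this }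
  have hscC : ∀ i < n + 1, ∀ α ∈ F.autGroup P, ∀ x ∈ P, x ∈ C' i → av α x ∈ C' i := by
    intro i hi α hα x hx hxC
    rw [hC'le i (by omega)] at hxC ⊢
    rcases i with _ | i
    · rw [h0, Subgroup.mem_bot] at hxC ⊢
      subst hxC
      exact (map_of_mem_autGroup hC.1 hα).map_one
    · exact stronglyClosed_map (hsc i (by omega)) (map_of_mem_autGroup hC.1 hα) hx hxC
  have hAn : (A.subgroupOf (F.autGroup P)).Normal := by
    constructor
    intro β hβ α
    obtain ⟨-, hβ'⟩ := hβ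
    refine ⟨Subgroup.mul_mem _ (Subgroup.mul_mem _ α.2 β.2) (Subgroup.inv_mem _ α.2), fun i hi x hx hxC => ?_⟩
    show x⁻¹ * av ((α : MulAut P) * (β : MulAut P) * (α : MulAut P)⁻¹) x ∈ C' i
    have hy : av ((α : MulAut P))⁻¹ x ∈ P := av_mem _ hx
    have hyC : av ((α : MulAut P))⁻¹ x ∈ C' (i + 1) := by
      by_cases hi' : i + 1 < n + 1
      · exact hscC _ hi' _ (Subgroup.inv_mem _ α.2) x hx hxC
      · rw [show i + 1 = n + 1 by omega, hC'top]
        exact Subgroup.mem_sup_left hy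
    have h1 := hβ' i hi _ hy hyC
    have hb : av (β : MulAut P) (av ((α : MulAut P))⁻¹ x) ∈ P := av_mem _ hy
    have h2 := hscC i hi _ α.2 _ (P.mul_mem (P.inv_mem hy) hb) h1
    rw [(map_of_mem_autGroup hC.1 α.2).map_mul (P.inv_mem hy) hb,
      (map_of_mem_autGroup hC.1 α.2).map_inv hy, av_av_inv _ hx] at h2
    rwa [av_mul _ _ hx, av_mul _ _ hy]
  have hAp : IsPGroup p ↥(A.subgroupOf (F.autGroup P)) := by
    rintro ⟨⟨α, hαF⟩, hα⟩
    obtain ⟨k, hk⟩ := exists_pow_eq_one_of_stabilizes (hS.to_le hC.1) C' (n + 1)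
      ((hC'le 0 (Nat.zero_le _)).trans h0) (hC'top ▸ le_sup_left) hm'
      (fun i hi x hx hxC => hα.2 i hi x hx hxC)
    exact ⟨k, Subtype.ext (Subtype.ext hk)⟩
  intro a ha
  obtain ⟨haQ, han⟩ := ha
  obtain ⟨β, hβ, hβS⟩ := exists_aut_conj han
  have hβF : β ∈ F.autGroup P := autInducedBy_le_autGroup hC.1 (hβS S (hQ.1 haQ))
  have hβA : β ∈ A := by
    refine ⟨hβF, fun i hi x hx hxC => ?_⟩
    rw [hβ x hx]
    by_cases hin : i < n
    · rw [hC'le i hin.le]
      rw [hC'le (i + 1) (by omega)] at hxC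
      have h1 : ⁅a, x⁻¹⁆ ∈ C i :=
        hcomm i hin (Subgroup.commutator_mem_commutator haQ ((C (i + 1)).inv_mem hxC))
      have h2 := (C i).inv_mem h1
      rw [commutatorElement_inv, commutatorElement_def] at h2
      simpa [mul_assoc] using h2
    · rw [show i = n by omega, hC'le n le_rfl, hn]
      have h1 := Q.mul_mem (stronglyClosed_conj_mem hQ (S.inv_mem (hC.1 hx)) haQ) (Q.inv_mem haQ)
      simpa [mul_assoc] using h1
  have hin : β ∈ Inn P := by
    rw [← hR.2]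
    exact ⟨⟨β, hβF⟩, le_pCore (hn := hAn) hAp hβA, rfl⟩
  obtain ⟨y, hy, hyβ⟩ := mem_Inn.1 hin
  have hc : y⁻¹ * a ∈ centralizerIn S P := by
    refine mem_centralizerIn.2 ⟨S.mul_mem (S.inv_mem (hC.1 hy)) (hQ.1 haQ), fun x hx => ?_⟩
    have h1 := (hβ x hx).symm.trans (hyβ x hx)
    calc x * (y⁻¹ * a) = y⁻¹ * (y * x * y⁻¹) * a := by group
      _ = y⁻¹ * (a * x * a⁻¹) * a := by rw [h1]
      _ = _ := by group
  simpa using P.mul_mem hy (hC.2 P (isConj_refl hC.1) hc)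

end Cfsg.Agent.Local.FS
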