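import Cfsg.Agent.Lib.Local.FS.ControlFamilyStable
import Cfsg.Agent.Lib.Fusion.StableLift

/-!
The fusion system of a stable group is constrained, and the centre of the Thompson subgroup is normal in it.
-/

set_option autoImplicit false

universe u

namespace Cfsg.Agent.Local.FS

open Cfsg Cfsg.FusionSystem Cfsg.Agent.Fusion
open scoped commutatorElement

variable {G : Type u} [Group G] [Finite G] {p : ℕ} [Fact p.Prime] {P : Subgroup G}

/-- The abelian family. -/
abbrev okComm (G : Type u) [Group G] : Subgroup G → Prop := fun A => IsMulCommutative A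

/-- A subgroup of a stable group is stable. -/
theorem isNormalizerPStable_subgroup (h : IsNormalizerPStable p G) (H : Subgroup G) :
    IsNormalizerPStable p H := by
  intro X hX a haN hq
  set X' := X.map H.subtype
  have haN' : (a : G) ∈ Subgroup.normalizer (X' : Set G) := Subgroup.le_normalizer_map H.subtype ⟨a, haN, rfl⟩
  have hq' : ⁅⁅X', Subgroup.zpowers (a : G)⁆, Subgroup.zpowers (a : G)⁆ = ⊥ := by
    rw [← H.coe_subtype, ← MonoidHom.map_zpowers, ← Subgroup.map_commutator, ← Subgroup.map_commutator, hq,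
      Subgroup.map_bot]
  obtain ⟨D, hDN, hND, hDp, haD⟩ := (mem_pCore_automizer_iff X' (a : G) haN').1 (h X' (hX.map _) _ haN' hq')
  refine (mem_pCore_automizer_iff X a haN).2 ⟨D.comap H.subtype, fun d hd => ?_, fun n hn => ?_, fun d hd => ?_, haD⟩
  · refine Subgroup.mem_normalizer_iff.2 fun y => ?_
    rw [← Subgroup.mem_map_iff_mem H.subtype_injective (K := X),
      ← Subgroup.mem_map_iff_mem H.subtype_injective (K := X) (x := d * y * d⁻¹)]
    exact Subgroup.mem_normalizer_iff.1 (hDN hd) (y : G)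
  · exact Subgroup.mem_normalizer_iff.2 fun y => Subgroup.mem_normalizer_iff.1
      (hND (Subgroup.le_normalizer_map H.subtype ⟨n, hn, rfl⟩)) (y : G)
  · obtain ⟨k, hk⟩ := hDp _ hd
    exact ⟨k, Subgroup.mem_centralizer_iff.2 fun y hy =>
      Subtype.ext (Subgroup.mem_centralizer_iff.1 hk _ ⟨y, hy, rfl⟩)⟩

omit [Fact p.Prime] in
theorem zFam_comm_map_subtype (K : Subgroup G) (S : Subgroup K) :
    (zFam (okComm K) S).map K.subtype = zFam (okComm G) (S.map K.subtype) := by
  have hcard : ∀ A : Subgroup K, Nat.card (A.map K.subtype) = Nat.card A := fun A =>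
    Subgroup.card_map_of_injective K.subtype_injective
  have hback : ∀ A : Subgroup G, A ≤ S.map K.subtype → (A.subgroupOf K).map K.subtype = A := fun A hA =>
    Subgroup.map_subgroupOf_eq_of_le (hA.trans (Subgroup.map_subtype_le _))
  refine le_antisymm ?_ ?_
  · rintro _ ⟨x, hx, rfl⟩
    refine ⟨⟨x, hx.1, rfl⟩, Subgroup.mem_sInf.2 fun A hA => ?_⟩
    have hA' : A.subgroupOf K ∈ maxIn (okComm K) S := by
      refine ⟨fun a ha => ?_, (comm_map_iff _).2 (by rw [hback A hA.1]; exact hA.2.1), fun B hB hB' => ?_⟩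
      · exact (Subgroup.mem_map_iff_mem K.subtype_injective).1 (hA.1 ha)
      · rw [← hcard B, ← hcard (A.subgroupOf K), hback A hA.1]
        exact hA.2.2 _ (Subgroup.map_mono hB) ((comm_map_iff _).1 hB')
    exact Subgroup.mem_subgroupOf.1 (Subgroup.mem_sInf.1 hx.2 _ hA')
  · rintro y ⟨⟨x, hx, rfl⟩, hy⟩
    refine ⟨x, ⟨hx, Subgroup.mem_sInf.2 fun A hA => ?_⟩, rfl⟩
    have hA' : A.map K.subtype ∈ maxIn (okComm G) (S.map K.subtype) := by
      refine ⟨Subgroup.map_mono hA.1, (comm_map_iff _).1 hA.2.1, fun B hB hB' => ?_⟩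
      rw [hcard, ← hback B hB, hcard]
      exact hA.2.2 _ (fun b hb => (Subgroup.mem_map_iff_mem K.subtype_injective).1 (hB hb))
        ((comm_map_iff _).2 (by rw [hback B hB]; exact hB'))
    exact (Subgroup.mem_map_iff_mem K.subtype_injective).1 (Subgroup.mem_sInf.1 hy _ hA')

omit [Fact p.Prime] in
/-- A normal subgroup of the fusion system, in terms of elements. -/
theorem exists_conj_of_isNormal {W : Subgroup G} (hW : (groupFusionSystem P).IsNormal W) {A : Subgroup G}
    (hA : A ≤ P) {g : G} (hg : ∀ a ∈ A, g * a * g⁻¹ ∈ P) :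
    ∃ k ∈ Subgroup.normalizer (W : Set G), ∀ a ∈ A, k * a * k⁻¹ = g * a * g⁻¹ := by
  obtain ⟨f, hf, hfA, hfW⟩ := (normal_iff.1 hW).2 A (fun x => g * x * g⁻¹)
    (map_group_iff.2 ⟨hA, hg, g, fun _ _ => rfl⟩)
  obtain ⟨-, -, k, hk⟩ := map_group_iff.1 hf
  refine ⟨k, mem_normalizer_of_cj_le ?_, fun a ha => ?_⟩
  · rw [← im_conj, ← im_congr fun x hx => hk x (Subgroup.mem_sup_right hx)]
    exact hfW.le
  · rw [← hk a (Subgroup.mem_sup_left ha)]; exact hfA a ha

omit [Fact p.Prime] in
/-- Normality in the fusion system, from elements. -/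
theorem isNormal_of_conj {W : Subgroup G} (hW : W ≤ P)
    (h : ∀ A : Subgroup G, A ≤ P → ∀ g : G, (∀ a ∈ A, g * a * g⁻¹ ∈ P) →
      ∃ k ∈ Subgroup.normalizer (W : Set G), ∀ a ∈ A, k * a * k⁻¹ = g * a * g⁻¹) :
    (groupFusionSystem P).IsNormal W := by
  refine normal_iff.2 ⟨hW, fun A f hf => ?_⟩
  obtain ⟨hA, hm, g, hg⟩ := map_group_iff.1 hf
  obtain ⟨k, hk, hkA⟩ := h A hA g fun a ha => hg a ha ▸ hm a ha
  have hmem : A ⊔ W ≤ P.comap (MulAut.conj k).toMonoidHom := sup_le
    (fun a ha => by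
      show k * a * k⁻¹ ∈ P
      rw [hkA a ha, ← hg a ha]; exact hm a ha)
    (fun w hw => hW ((Subgroup.mem_normalizer_iff.1 hk w).1 hw))
  refine ⟨fun x => k * x * k⁻¹, map_group_iff.2 ⟨sup_le hA hW, fun x hx => hmem hx, k, fun _ _ => rfl⟩,
    fun x hx => (hkA x hx).trans (hg x hx).symm, ?_⟩
  rw [im_conj, cj_eq_self hk]

omit [Fact p.Prime] in
/-- Normality passes up from a subgroup that controls fusion. -/
theorem isNormal_of_controlling {K : Subgroup G} (hPK : P ≤ K)
    (hK : ∀ A : Subgroup G, A ≤ P → ∀ g : G, (∀ a ∈ A, g * a * g⁻¹ ∈ P) →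
      ∃ k ∈ K, ∀ a ∈ A, k * a * k⁻¹ = g * a * g⁻¹)
    {W : Subgroup K} (hW : (groupFusionSystem (P.subgroupOf K)).IsNormal W) :
    (groupFusionSystem P).IsNormal (W.map K.subtype) := by
  refine isNormal_of_conj ((Subgroup.map_mono hW.1).trans (Subgroup.map_subgroupOf_eq_of_le hPK).le)
    fun A hA g hg => ?_
  obtain ⟨k, hk, hkA⟩ := hK A hA g hg
  obtain ⟨l, hl, hlA⟩ := exists_conj_of_isNormal hW (A := A.subgroupOf K) (fun a ha => hA ha) (g := ⟨k, hk⟩)
    fun a ha => Subgroup.mem_subgroupOf.2 ((hkA (a : G) ha).symm ▸ hg _ ha : k * (a : G) * k⁻¹ ∈ P)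
  refine ⟨l, Subgroup.le_normalizer_map K.subtype ⟨l, hl, rfl⟩, fun a ha => ?_⟩
  rw [← hkA a ha]
  exact congrArg Subtype.val (hlA ⟨a, hPK (hA ha)⟩ ha)

omit [Fact p.Prime] in
theorem fn_of_stronglyClosed {Q : Subgroup G} (hQ : (groupFusionSystem P).StronglyClosed Q) :
    (groupFusionSystem P).IsFullyNormalized Q :=
  ⟨hQ.1, fun R hR => by rw [eq_of_isConj_stronglyClosed hQ hR]⟩

theorem isNormal_bot (h : P = ⊥) : (groupFusionSystem P).IsNormal ⊥ := by
  refine isNormal_of_conj bot_le fun A hA g _ => ⟨g, by rw [Subgroup.normalizer_eq_top]; trivial, fun _ _ => rfl⟩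

set_option maxHeartbeats 400000 in
/-- In a stable group a self-centralizing normal subgroup of the system makes the centre of the Thompson subgroup
normal. -/
theorem isNormal_zFam_of_constrained (hp2 : p ≠ 2) (hP : SylIn p P ⊤) (hst : IsNormalizerPStable p G)
    {Q : Subgroup G} (hQ : (groupFusionSystem P).IsNormal Q) (hc : centralizerIn P Q ≤ Q) :
    (groupFusionSystem P).IsNormal (zFam (okComm G) P) := by
  rcases eq_or_ne P ⊥ with hP1 | hP1
  · rw [show zFam (okComm G) P = ⊥ from le_bot_iff.1 (inf_le_left.trans hP1.le)]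
    exact isNormal_bot hP1
  have hS := hP.isPGroup
  have hQsc := normal_stronglyClosed hQ
  have hfn := fn_of_stronglyClosed hQsc
  have hV : normalizerIn P Q = P := inf_eq_left.2 (stronglyClosed_le_normalizer hQsc)
  set H := Subgroup.normalizer (Q : Set G)
  obtain ⟨hr, hsyl⟩ := realized_normalizer_group hP hfn (N := normSys _ hfn.1) fun _ => rfl
  have hsylC := sylIn_centralizer_of_normalizer ((fn_group_iff hP hfn.1).1 hfn)
  have hQp : IsPGroup p Q := hS.to_le hQ.1
  have hQ1 : Q ≠ ⊥ := fun h => hP1 (le_bot_iff.1 (h ▸ fun x hx => hc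
    ⟨hx, Subgroup.mem_centralizer_iff.2 fun y hy => by simp [Subgroup.mem_bot.1 (h ▸ hy)]⟩))
  haveI hQn : (Q.subgroupOf H).Normal := Subgroup.normal_in_normalizer
  have hO : pCore p H ≠ ⊥ := fun h => hQ1 (by
    have h1 := le_pCore (p := p) (N := Q.subgroupOf H) hQp.comap_subtype
    rw [h, le_bot_iff] at h1
    rw [← Subgroup.map_subgroupOf_eq_of_le (Subgroup.le_normalizer (H := Q)), h1, Subgroup.map_bot])
  have hcon : IsPConstrained p H := by
    intro T
    set C := Subgroup.centralizer ((Q.subgroupOf H : Subgroup H) : Set H)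
    haveI : C.Normal := Subgroup.normal_centralizer (H := Q.subgroupOf H)
    have hQle : Q.subgroupOf H ≤ pPrimePCore p H := fun x hx =>
      le_pCore (p := p) (N := (Q.subgroupOf H).map (QuotientGroup.mk' (pPrimeCore p H)))
        (hn := Subgroup.Normal.map inferInstance _ (QuotientGroup.mk'_surjective _))
        (hQp.comap_subtype.map _) ⟨x, hx, rfl⟩
    have hQT : Q.subgroupOf H ≤ (T : Subgroup (pPrimePCore p H)).map (pPrimePCore p H).subtype := by
      haveI : ((Q.subgroupOf H).subgroupOf (pPrimePCore p H)).Normal := hQn.subgroupOf _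
      have h1 : IsPGroup p ((Q.subgroupOf H).subgroupOf (pPrimePCore p H)) :=
        (hQp.comap_subtype (K := H)).comap_subtype (K := pPrimePCore p H)
      intro x hx
      exact ⟨⟨x, hQle hx⟩, h1.le_sylow_of_normal T hx, rfl⟩
    refine (Subgroup.centralizer_le hQT).trans ?_
    -- the centralizer has a normal complement to a central Sylow subgroup
    have hCG : ∀ c : C, ((c : H) : G) ∈ Subgroup.centralizer (Q : Set G) := fun c =>
      Subgroup.mem_centralizer_iff.2 fun q hq => congrArg Subtype.val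
        (Subgroup.mem_centralizer_iff.1 c.2 ⟨q, Subgroup.le_normalizer hq⟩ hq)
    have hCC : ∀ g ∈ Subgroup.centralizer (Q : Set G), ∃ c : C, ((c : H) : G) = g := fun g hg =>
      ⟨⟨⟨g, Subgroup.centralizer_le_normalizer _ hg⟩, Subgroup.mem_centralizer_iff.2 fun q hq =>
        Subtype.ext (Subgroup.mem_centralizer_iff.1 hg _ hq)⟩, rfl⟩
    let ι : C →* G := H.subtype.comp C.subtype
    have hι : Function.Injective ι := H.subtype_injective.comp C.subtype_injective
    have hTc : SylIn p ((centralizerIn P Q).comap ι) ⊤ := by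
      refine ⟨le_top, hsylC.isPGroup.comap_of_injective ι hι, ?_⟩
      have hr : ι.range = Subgroup.centralizer (Q : Set G) :=
        le_antisymm (by rintro _ ⟨c, rfl⟩; exact hCG c) hCC
      rw [Subgroup.relIndex_top_right, Subgroup.index_comap, hr]
      exact hsylC.not_dvd
    obtain ⟨S₀, hS₀⟩ := hTc.exists_sylow
    have hcent : Subgroup.normalizer (S₀ : Set C) ≤ Subgroup.centralizer (S₀ : Set C) := by
      intro c _
      refine Subgroup.mem_centralizer_iff.2 fun z hz => hι ?_
      have hz' : ι z ∈ centralizerIn P Q := (hS₀ ▸ hz : z ∈ (centralizerIn P Q).comap ι)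
      rw [map_mul, map_mul]
      exact Subgroup.mem_centralizer_iff.1 (hCG c) _ (hc hz')
    obtain ⟨S₁, W, hWn, hW⟩ := hnpc_of_normalizer_le_centralizer S₀ hcent
    haveI := hWn
    have hWcop : (Nat.card W).Coprime p := by
      refine ((Nat.Prime.coprime_iff_not_dvd Fact.out).2 ?_).symm
      rw [← hW.index_eq_card]
      exact S₁.not_dvd_index
    have hWchar : W.Characteristic := by
      have he : W = pPrimeCore p C := by
        refine le_antisymm (le_pPrimeCore hWcop) fun x hx => ?_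
        refine (QuotientGroup.eq_one_iff x).1 (orderOf_eq_one_iff.1 ?_)
        refine Nat.eq_one_of_dvd_coprimes (a := Nat.card (pPrimeCore p C)) (b := Nat.card (C ⧸ W)) ?_
          ((orderOf_map_dvd (QuotientGroup.mk' W) x).trans (by
            exact (Subgroup.orderOf_coe (⟨x, hx⟩ : pPrimeCore p C)) ▸ orderOf_dvd_natCard _)) (orderOf_dvd_natCard _)
        obtain ⟨k, hk⟩ := S₁.isPGroup'.exists_card_eq
        rw [← Subgroup.index_eq_card, hW.symm.index_eq_card, hk]
        exact (card_pPrimeCore_coprime p C).pow_right k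
      rw [he]; infer_instance
    haveI : (W.map C.subtype).Normal := by
      haveI := hWchar
      exact ConjAct.normal_of_characteristic_of_normal
    have hWle : W.map C.subtype ≤ pPrimeCore p H := le_pPrimeCore (by
      rw [Subgroup.card_map_of_injective C.subtype_injective]; exact hWcop)
    intro x hx
    have hx' : (⟨x, hx⟩ : C) ∈ (S₁ : Subgroup C) ⊔ W := by
      rw [hW.symm.sup_eq_top]; trivial
    obtain ⟨a, ha, w, hw, he⟩ := Subgroup.mem_sup_of_normal_right.1 hx'
    have hx2 : x = (a : H) * (w : H) := by rw [← Subgroup.coe_mul, he]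
    rw [hx2]
    refine mul_mem ?_ (show (w : H) ∈ (pCore p _).comap (QuotientGroup.mk' (pPrimeCore p H)) from by
      rw [Subgroup.mem_comap, show QuotientGroup.mk' (pPrimeCore p H) (w : H) = 1 from
        (QuotientGroup.eq_one_iff _).2 (hWle ⟨w, hw, rfl⟩)]
      exact one_mem _)
    refine hQle (Subgroup.mem_subgroupOf.2 ?_)
    obtain ⟨y, hy⟩ := MulAction.exists_smul_eq C S₀ S₁
    obtain ⟨z, hz, rfl⟩ : a ∈ ((y • S₀ : Sylow p C) : Subgroup C) := hy ▸ ha
    have hz' : ι z ∈ centralizerIn P Q := (hS₀ ▸ hz : z ∈ (centralizerIn P Q).comap ι)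
    have h1 : ι (y * z * y⁻¹) = ι z := by
      rw [map_mul, map_mul, map_inv, ← show ι z * ι y = ι y * ι z from
        Subgroup.mem_centralizer_iff.1 (hCG y) _ (hc hz'), mul_inv_cancel_right]
    show ι (y * z * y⁻¹) ∈ Q
    rw [h1]; exact hc hz'
  have hVp : IsPGroup p (normalizerIn P Q) := hS.to_le inf_le_left
  obtain ⟨hr', T, hT⟩ := realized_quotient hVp hr hsyl
  have hfam := glaubFamily_maxIn hp2 (replFamily_comm (G := G)) hVp
    (D := normalizerIn P Q) ⟨le_rfl, fun x _ g hg => hg⟩
  have hn := isNormal_zIn_of_realized hr' T hT (centralizer_pCore_quotient_le hcon)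
    (fun R _ hR => isPStableOn_quotient_of_isPStable (isPStable_subgroup hp2 hst H hO) R hR)
    _ hfam.mem hfam.nonempty
    (fun R hR hA f hf hfR => inv_map_group hfam hR hA (by
      obtain ⟨-, hm, g', hg', hgf, -⟩ := (map_normalizerSystem_iff fun _ => rfl).1 hf
      obtain ⟨-, -, g, hg⟩ := map_group_iff.1 ((hg'.restrict le_sup_left).congr hgf)
      exact map_group_iff.2 ⟨hR, hm, g, hg⟩) hfR)
    hfam.repl
  have e : zFam (okComm G) (normalizerIn P Q) = zFam (okComm G) P := congrArg _ hV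
  rw [zIn_maxIn replFamily_comm le_rfl, e] at hn
  refine isNormal_of_conj inf_le_left fun A hA g hg => ?_
  obtain ⟨k, hk, hkA⟩ := exists_conj_of_isNormal hQ hA hg
  obtain ⟨f, hf, hfA, hfW⟩ := (normal_iff.1 hn).2 A (fun x => k * x * k⁻¹)
    ((map_normalizerSystem_iff fun _ => rfl).2 ⟨hA.trans hV.ge, fun x hx => by
      rw [hV, hkA x hx]; exact hg x hx, fun x => k * x * k⁻¹, map_group_iff.2 ⟨sup_le hA hQ.1, fun x hx => by
        have hle : A ⊔ Q ≤ P.comap (MulAut.conj k).toMonoidHom := sup_le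
          (fun a ha => by show k * a * k⁻¹ ∈ P; rw [hkA a ha]; exact hg a ha)
          (fun a ha => hQ.1 ((Subgroup.mem_normalizer_iff.1 hk a).1 ha))
        exact hle hx, k, fun _ _ => rfl⟩, fun _ _ => rfl, by rw [im_conj, cj_eq_self hk]⟩)
  obtain ⟨-, -, g', hg', hgf, -⟩ := (map_normalizerSystem_iff fun _ => rfl).1 hf
  obtain ⟨-, -, l, hl⟩ := map_group_iff.1 ((hg'.restrict le_sup_left).congr hgf)
  refine ⟨l, mem_normalizer_of_cj_le ?_, fun a ha => ?_⟩
  · rw [← im_conj, ← im_congr fun x hx => hl x (Subgroup.mem_sup_right hx)]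
    exact hfW.le
  · rw [← hkA a ha, ← hl a (Subgroup.mem_sup_left ha)]; exact hfA a ha

set_option maxHeartbeats 1000000 in
/-- The system of a stable group has a self-centralizing normal subgroup, and the centre of the Thompson subgroup is
normal in it. -/
theorem stable_constrained (hp2 : p ≠ 2) :
    ∀ (n : ℕ) (G : Type u) [Group G] [Finite G] (P : Subgroup G), Nat.card G ≤ n → SylIn p P ⊤ →
      IsNormalizerPStable p G →
      (∃ Q, (groupFusionSystem P).IsNormal Q ∧ centralizerIn P Q ≤ Q) ∧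
        (groupFusionSystem P).IsNormal (zFam (okComm G) P) := by
  intro n
  induction n using Nat.strong_induction_on with
  | _ n ih =>
  intro G _ _ P hn hP hst
  suffices hex : ∃ Q, (groupFusionSystem P).IsNormal Q ∧ centralizerIn P Q ≤ Q by
    obtain ⟨Q, hQ, hc⟩ := hex
    exact ⟨⟨Q, hQ, hc⟩, isNormal_zFam_of_constrained hp2 hP hst hQ hc⟩
  rcases eq_or_ne P ⊥ with hP1 | hP1
  · exact ⟨⊥, isNormal_bot hP1, inf_le_left.trans hP1.le⟩
  have hS := hP.isPGroup
  have hsat := group_saturated hP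
  -- proper subgroups
  have hsub : ∀ (K : Subgroup G) (V : Subgroup G), K ≠ ⊤ → SylIn p V K →
      (∃ Q, (groupFusionSystem (V.subgroupOf K)).IsNormal Q ∧ centralizerIn (V.subgroupOf K) Q ≤ Q) ∧
        (groupFusionSystem (V.subgroupOf K)).IsNormal (zFam (okComm K) (V.subgroupOf K)) := by
    intro K V hK hV
    have hlt : Nat.card K < n := lt_of_lt_of_le (lt_of_le_of_ne (Subgroup.card_le_card_group K)
      fun h => hK (Subgroup.eq_top_of_card_eq K h)) hn
    obtain ⟨T, hT⟩ := hV.exists_sylow_subgroupOf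
    exact ih _ hlt K _ le_rfl (hT ▸ sylIn_top T) (isNormalizerPStable_subgroup hst K)
  set Q := (groupFusionSystem P).core with hQdef
  have hQn : (groupFusionSystem P).IsNormal Q := core_normal hS hsat
  have hle_core : ∀ {W : Subgroup G}, (groupFusionSystem P).IsNormal W → W ≤ Q := fun h => le_sSup h
  have hQsc := normal_stronglyClosed hQn
  by_cases hQ0 : Q = ⊥
  · exfalso
    have hz : ∀ H : Subgroup G, IsPGroup p H → H ≠ ⊥ → zFam (okComm G) H ≠ ⊥ := fun H => zFam_comm_ne_bot
    refine hz P hS hP1 (le_bot_iff.1 (hQ0 ▸ hle_core ?_))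
    refine normal_of_local hS hsat hP1 inf_le_left (fun α hα => ?_) fun U hU hne => ?_
    · have hm := map_of_mem_autGroup (le_refl P) hα
      obtain ⟨-, -, g, hg⟩ := map_group_iff.1 hm
      rw [im_congr (P := zFam (okComm G) P) fun x hx => hg x hx.1, im_conj]
      refine cj_eq_self ((replFamily_comm (G := G)).normalizer_le_zFam _ (mem_normalizer_of_cj_le ?_))
      rintro _ ⟨x, hx, rfl⟩
      show g * x * g⁻¹ ∈ P
      rw [← hg x hx]; exact av_mem α hx
    set V := normalizerIn P U with hV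
    set H := Subgroup.normalizer (U : Set G)
    have hH : H ≠ ⊤ := fun h => hne (le_bot_iff.1 (hQ0 ▸ hle_core (by
      haveI := Subgroup.normalizer_eq_top_iff.1 h
      exact normal_group_of_normal hU.1)))
    have hVH : SylIn p V H := (fn_group_iff hP hU.1).1 hU
    obtain ⟨-, hn'⟩ := hsub H V hH hVH
    have hVp : IsPGroup p V := hS.to_le inf_le_left
    have hmap : (zFam (okComm H) (V.subgroupOf H)).map H.subtype = zFam (okComm G) V := by
      rw [zFam_comm_map_subtype, Subgroup.map_subgroupOf_eq_of_le hVH.le]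
    refine ⟨zFam (okComm G) V, normal_iff.2 ⟨inf_le_left, fun A f hf => ?_⟩, hz V hVp fun h => hne
      (le_bot_iff.1 ((le_normalizerIn hU.1).trans h.le)), fun h => by rw [show V = P from h], fun h => ?_⟩
    · obtain ⟨hA, hm, f', hf', hff, hfU⟩ := (map_normalizerSystem_iff fun _ => rfl).1 hf
      obtain ⟨-, -, g, hg⟩ := map_group_iff.1 hf'
      have hgH : g ∈ H := mem_normalizer_of_cj_le (by
        rw [← im_conj, ← im_congr fun x hx => hg x (Subgroup.mem_sup_right hx)]; exact hfU.le)
      have hgA : ∀ a ∈ A, g * a * g⁻¹ = f a := fun a ha => by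
        rw [← hg a (Subgroup.mem_sup_left ha), hff a ha]
      obtain ⟨l, hl, hlA⟩ := exists_conj_of_isNormal hn' (A := A.subgroupOf H) (fun a ha => hA ha)
        (g := ⟨g, hgH⟩) fun a ha => Subgroup.mem_subgroupOf.2
          ((hgA (a : G) ha).symm ▸ hm _ ha : g * (a : G) * g⁻¹ ∈ V)
      have hlW : (l : G) ∈ Subgroup.normalizer (zFam (okComm G) V : Set G) :=
        hmap ▸ Subgroup.le_normalizer_map H.subtype ⟨l, hl, rfl⟩
      have hlval : ∀ a ∈ A, (l : G) * a * (l : G)⁻¹ = f a := fun a ha => by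
        rw [← hgA a ha]
        exact congrArg Subtype.val (hlA ⟨a, hVH.le (hA ha)⟩ ha)
      have hle : A ⊔ zFam (okComm G) V ≤ V.comap (MulAut.conj (l : G)).toMonoidHom := sup_le
        (fun a ha => by show (l : G) * a * (l : G)⁻¹ ∈ V; rw [hlval a ha]; exact hm a ha)
        (fun a ha => ((Subgroup.mem_normalizer_iff.1 hlW a).1 ha).1)
      refine ⟨fun x => (l : G) * x * (l : G)⁻¹, (map_normalizerSystem_iff fun _ => rfl).2
        ⟨sup_le hA inf_le_left, fun x hx => hle hx, fun x => (l : G) * x * (l : G)⁻¹,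
          map_group_iff.2 ⟨sup_le ((sup_le hA inf_le_left).trans inf_le_left) hU.1, fun x hx => ?_, l,
            fun _ _ => rfl⟩, fun _ _ => rfl, ?_⟩, hlval, ?_⟩
      · have hle' : (A ⊔ zFam (okComm G) V) ⊔ U ≤ P.comap (MulAut.conj (l : G)).toMonoidHom := sup_le
          (fun a ha => show (l : G) * a * (l : G)⁻¹ ∈ P from (hle ha).1)
          (fun a ha => hU.1 ((Subgroup.mem_normalizer_iff.1 l.2 a).1 ha))
        exact hle' hx
      · rw [im_conj, cj_eq_self l.2]
      · rw [im_conj, cj_eq_self hlW]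
    · refine (lt_normalizerIn hS h).trans_le fun x hx => ⟨hx.1, (replFamily_comm (G := G)).normalizer_le_zFam _ hx.2⟩
  · by_cases hQG : Subgroup.normalizer (Q : Set G) = ⊤
    · haveI := Subgroup.normalizer_eq_top_iff.1 hQG
      by_cases hcQ : centralizerIn P Q ≤ Q
      · exact ⟨Q, hQn, hcQ⟩
      exfalso
      set H := Subgroup.centralizer (Q : Set G)
      haveI : H.Normal := Subgroup.normal_centralizer (H := Q)
      set R := P ⊓ H with hR
      set Z := Q ⊓ H with hZ
      haveI : Z.Normal := Subgroup.normal_inf_normal Q H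
      have hZH : Z ≤ H := inf_le_right
      have hZR : Z ≤ R := inf_le_inf_right _ hQn.1
      have hZc : Z.subgroupOf H ≤ Subgroup.center H := fun z hz => Subgroup.mem_center_iff.2 fun h =>
        Subtype.ext (Subgroup.mem_centralizer_iff.1 h.2 _ hz.1).symm
      have hZ1 : Z.subgroupOf H ≠ ⊥ := by
        intro h
        obtain ⟨x, hx, hx1, -⟩ := exists_central_order_p (hS.to_le hQn.1) ((Subgroup.nontrivial_iff_ne_bot Q).2 hQ0)
        refine hx1 (Subtype.ext (Subgroup.mem_bot.1 (?_ : (x : G) ∈ (⊥ : Subgroup G))))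
        rw [← Subgroup.map_bot H.subtype, ← h, Subgroup.map_subgroupOf_eq_of_le hZH]
        exact ⟨x.2, Subgroup.mem_centralizer_iff.2 fun y hy =>
          congrArg Subtype.val (Subgroup.mem_center_iff.1 hx ⟨y, hy⟩)⟩
      set π := QuotientGroup.mk' (Z.subgroupOf H) with hπ
      have hlt : Nat.card (↥H ⧸ Z.subgroupOf H) < n := by
        refine lt_of_lt_of_le (lt_of_lt_of_le ?_ (Subgroup.card_le_card_group H)) hn
        rw [← Subgroup.index_eq_card, ← (Z.subgroupOf H).card_mul_index]
        exact lt_mul_left (Nat.pos_of_ne_zero Subgroup.index_ne_zero_of_finite)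
          ((Z.subgroupOf H).one_lt_card_iff_ne_bot.2 hZ1)
      have hsylR : SylIn p R H := hP.inf_normal le_top (by rw [Subgroup.normalizer_eq_top])
      obtain ⟨T, hT⟩ := hsylR.exists_sylow_subgroupOf
      have hRb : SylIn p ((R.subgroupOf H).map π) ⊤ := hT ▸ sylIn_map_mk (sylIn_top T)
      obtain ⟨-, hnb⟩ := ih _ hlt _ _ le_rfl hRb (isNormalizerPStable_quotient_central hp2
        (isNormalizerPStable_subgroup hst H) _ hZc ((hS.to_le (inf_le_left.trans hQn.1)).comap_subtype))
      set Rb := (R.subgroupOf H).map π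
      set Wb := zFam (okComm _) Rb
      have hWbsc := normal_stronglyClosed hnb
      set W₂ := ((R.subgroupOf H) ⊓ Wb.comap π).map H.subtype with hW₂
      have hW₂R : W₂ ≤ R := (Subgroup.map_mono inf_le_left).trans (Subgroup.map_subgroupOf_eq_of_le hsylR.le).le
      have hmemW : ∀ {x : H}, (x : G) ∈ W₂ ↔ (x : G) ∈ R ∧ π x ∈ Wb := fun {x} =>
        (Subgroup.mem_map_iff_mem H.subtype_injective).trans Iff.rfl
      -- invariance under the normalizer of the Sylow subgroup
      have hinvN : ∀ g ∈ Subgroup.normalizer (R : Set G), ∀ x ∈ W₂, g * x * g⁻¹ ∈ W₂ := by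
        intro g hg x hx
        let e : H ≃* H :=
          { toFun := fun h => ⟨g * h * g⁻¹, (inferInstance : H.Normal).conj_mem h h.2 g⟩
            invFun := fun h => ⟨g⁻¹ * h * g, by simpa using (inferInstance : H.Normal).conj_mem h h.2 g⁻¹⟩
            left_inv := fun h => Subtype.ext (by simp [mul_assoc])
            right_inv := fun h => Subtype.ext (by simp [mul_assoc])
            map_mul' := fun a b => Subtype.ext (by simp [mul_assoc]) }
        have he : (Z.subgroupOf H).map e.toMonoidHom = Z.subgroupOf H := by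
          ext h
          rw [Subgroup.mem_map_equiv]
          show g⁻¹ * (h : G) * g ∈ Z ↔ (h : G) ∈ Z
          have := (inferInstance : Z.Normal)
          exact ⟨fun h1 => by simpa [mul_assoc] using this.conj_mem _ h1 g,
            fun h1 => by simpa using this.conj_mem _ h1 g⁻¹⟩
        let eb := QuotientGroup.congr _ _ e he
        have hcomm : ∀ h : H, eb (π h) = π (e h) := fun h => rfl
        have heR : Rb.map eb.toMonoidHom = Rb := by
          rw [Subgroup.map_map]
          have : (eb.toMonoidHom.comp π) = π.comp e.toMonoidHom := MonoidHom.ext hcomm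
          rw [this, ← Subgroup.map_map]
          refine congrArg (Subgroup.map π) ?_
          ext h
          rw [Subgroup.mem_map_equiv]
          exact (Subgroup.mem_normalizer_iff''.1 hg _).symm
        have heW : Wb.map eb.toMonoidHom = Wb := by
          rw [(replFamily_comm (G := ↥H ⧸ Z.subgroupOf H)).map_zFam, heR]
        obtain ⟨y, hy, rfl⟩ := hx
        refine (hmemW (x := e y)).2 ⟨(Subgroup.mem_normalizer_iff.1 hg _).1 hy.1, ?_⟩
        rw [← hcomm, ← heW]
        exact ⟨π y, hy.2, rfl⟩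
      have hW₂sc : (groupFusionSystem P).StronglyClosed W₂ := by
        refine stronglyClosed_iff.2 ⟨hW₂R.trans inf_le_left, fun A f hA hf x hx => ?_⟩
        obtain ⟨-, hm, g, hg⟩ := map_group_iff.1 hf
        have hxW : x ∈ W₂ := hA hx
        rw [hg x hx]
        have hgR : g * x * g⁻¹ ∈ R := ⟨hg x hx ▸ hm x hx,
          (inferInstance : H.Normal).conj_mem x (hW₂R hxW).2 g⟩
        obtain ⟨c, hc, hcg⟩ := frattini_conj hsylR (H := ⊤) (by rw [Subgroup.normalizer_eq_top]) (Subgroup.mem_top g)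
        have hy := hinvN _ hcg x hxW
        have hcH : c⁻¹ ∈ H := inv_mem hc
        obtain ⟨y, hy', hye⟩ := hy
        have hconj : g * x * g⁻¹ = c⁻¹ * (y : G) * (c⁻¹)⁻¹ := by
          rw [show (y : G) = c * g * x * (c * g)⁻¹ from hye]; group
        have hmemH : ((⟨c⁻¹, hcH⟩ * y * (⟨c⁻¹, hcH⟩ : H)⁻¹ : H) : G) = g * x * g⁻¹ := hconj.symm
        rw [← hmemH]
        refine hmemW.2 ⟨hmemH ▸ hgR, ?_⟩
        have h1 := stronglyClosed_map hWbsc
          (f := fun v => π ⟨c⁻¹, hcH⟩ * v * (π ⟨c⁻¹, hcH⟩)⁻¹) (P := Subgroup.zpowers (π y))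
          (map_group_iff.2 ⟨Subgroup.zpowers_le.2 ⟨y, hy'.1, rfl⟩, fun v hv => ?_, _, fun _ _ => rfl⟩)
          (Subgroup.mem_zpowers _) hy'.2
        · rw [map_mul, map_mul, map_inv]; exact h1
        · obtain ⟨i, rfl⟩ := Subgroup.mem_zpowers_iff.1 hv
          rw [← conj_zpow, ← map_inv, ← map_mul, ← map_mul]
          exact zpow_mem (show π (⟨c⁻¹, hcH⟩ * y * (⟨c⁻¹, hcH⟩ : H)⁻¹) ∈ Rb from
            ⟨_, Subgroup.mem_subgroupOf.2 (hmemH ▸ hgR), rfl⟩) i
      have hZsc : (groupFusionSystem P).StronglyClosed Z :=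
        normal_stronglyClosed (normal_group_of_normal (inf_le_left.trans hQn.1))
      have hZW : Z ≤ W₂ := fun z hz => (hmemW (x := ⟨z, hZH hz⟩)).2 ⟨hZR hz, by
        rw [show π ⟨z, hZH hz⟩ = 1 from (QuotientGroup.eq_one_iff _).2 (Subgroup.mem_subgroupOf.2 hz)]
        exact one_mem _⟩
      have hW₂n : (groupFusionSystem P).IsNormal W₂ := by
        refine normal_of_series hS hsat (fun i => if i = 0 then ⊥ else if i = 1 then Z else W₂) 2 rfl rfl
          (monotone_nat_of_le_succ fun i => ?_) hW₂sc (fun i hi => ?_) fun i hi => ?_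
        · rcases i with _ | _ | i <;> simp [hZW]
        · interval_cases i
          · simpa using hZsc
          · simpa using hW₂sc
        · interval_cases i
          · simp only [zero_add, one_ne_zero, if_true, if_false]
            refine (Subgroup.commutator_le.2 fun w hw z hz => ?_)
            rw [Subgroup.mem_bot, commutatorElement_eq_one_iff_mul_comm]
            exact (Subgroup.mem_centralizer_iff.1 (hW₂R hw).2 z hz.1).symm
          · simp only [show (1 + 1 : ℕ) ≠ 0 by omega, show (1 + 1 : ℕ) ≠ 1 by omega, one_ne_zero, if_true, if_false]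
            refine (Subgroup.commutator_le.2 ?_)
            rintro _ ⟨v, hv, rfl⟩ _ ⟨w, hw, rfl⟩
            rw [← map_commutatorElement]
            obtain ⟨A, hA⟩ := (replFamily_comm (G := ↥H ⧸ Z.subgroupOf H)).maxIn_nonempty Rb
            have h1 : π ⁅v, w⁆ = 1 := by
              rw [map_commutatorElement, commutatorElement_eq_one_iff_mul_comm]
              exact congrArg Subtype.val (hA.2.1.1.1
                ⟨_, (replFamily_comm (G := ↥H ⧸ Z.subgroupOf H)).zFam_le_of_mem hA hv.2⟩
                ⟨_, (replFamily_comm (G := ↥H ⧸ Z.subgroupOf H)).zFam_le_of_mem hA hw.2⟩)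
            exact Subgroup.mem_subgroupOf.1 ((QuotientGroup.eq_one_iff _).1 h1)
      have hRb1 : Rb ≠ ⊥ := by
        intro h
        refine hcQ fun x hx => ?_
        have h1 : π ⟨x, hx.2⟩ ∈ Rb := ⟨⟨x, hx.2⟩, Subgroup.mem_subgroupOf.2 ⟨hx.1, hx.2⟩, rfl⟩
        rw [h, Subgroup.mem_bot] at h1
        exact (Subgroup.mem_subgroupOf.1 ((QuotientGroup.eq_one_iff _).1 h1)).1
      obtain ⟨w, hw, hw1⟩ := (Subgroup.bot_or_exists_ne_one Wb).resolve_left (zFam_comm_ne_bot hRb.isPGroup hRb1)
      obtain ⟨v, hv, rfl⟩ := hw.1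
      have hvQ : (v : G) ∈ Q := hle_core hW₂n ⟨v, ⟨hv, hw⟩, rfl⟩
      exact hw1 ((QuotientGroup.eq_one_iff v).2 (Subgroup.mem_subgroupOf.2 ⟨hvQ, v.2⟩))
    · set K := Subgroup.normalizer (Q : Set G)
      have hfn := fn_of_stronglyClosed hQsc
      have hVK : SylIn p P K := by
        have := (fn_group_iff hP hfn.1).1 hfn
        rwa [show normalizerIn P Q = P from inf_eq_left.2 (stronglyClosed_le_normalizer hQsc)] at this
      obtain ⟨⟨Q', hQ', hcQ'⟩, -⟩ := hsub K P hQG hVK
      refine ⟨Q'.map K.subtype, isNormal_of_controlling hVK.le (fun A hA g hg => exists_conj_of_isNormal hQn hA hg)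
        hQ', fun x hx => ⟨⟨x, hVK.le hx.1⟩, hcQ' ⟨hx.1, Subgroup.mem_centralizer_iff.2 fun q hq => Subtype.ext
          (Subgroup.mem_centralizer_iff.1 hx.2 _ ⟨q, hq, rfl⟩)⟩, rfl⟩⟩

end Cfsg.Agent.Local.FS
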