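import Cfsg.Agent.Lib.Local.FS.Focal
import Cfsg.Agent.Lib.Fusion.Critical

/-!
Automorphisms of a `p`-group are detected on a class two subgroup of exponent `p` (or `4`), and
the resulting criterion for `S` to be normal in a fusion system.
-/

set_option autoImplicit false

namespace Cfsg.Agent.Local.FS

open Cfsg Cfsg.FusionSystem Cfsg.Agent.Fusion
open scoped commutatorElement

universe u

/-- Elements of order `p`, or dividing `4` for `p = 2`. -/
def IsOmega {G : Type*} [Monoid G] (p : ℕ) (x : G) : Prop := x ^ p = 1 ∨ (p = 2 ∧ x ^ 4 = 1)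

section Class2

variable {G : Type*} [Group G] {p : ℕ} {x y : G}

theorem mul_pow_central (hc : ∀ g : G, ⁅y, x⁆ * g = g * ⁅y, x⁆) (n : ℕ) :
    (x * y) ^ n = x ^ n * y ^ n * ⁅y, x⁆ ^ n.choose 2 := by
  have hcp : ∀ (k : ℕ) (g : G), ⁅y, x⁆ ^ k * g = g * ⁅y, x⁆ ^ k := fun k g =>
    (Commute.pow_left (show Commute ⁅y, x⁆ g from hc g) k).eq
  have hyx : ∀ k : ℕ, y ^ k * x = ⁅y, x⁆ ^ k * x * y ^ k := by
    intro k
    induction k with
    | zero => simp
    | succ k ih =>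
      have h1 : y * x = ⁅y, x⁆ * x * y := by simp [commutatorElement_def, mul_assoc]
      rw [pow_succ' y, mul_assoc, ih]
      calc y * (⁅y, x⁆ ^ k * x * y ^ k) = (⁅y, x⁆ ^ k * y) * x * y ^ k := by rw [hcp k y]; group
        _ = ⁅y, x⁆ ^ k * (y * x) * y ^ k := by group
        _ = _ := by rw [h1, pow_succ]; group
  induction n with
  | zero => simp
  | succ n ih =>
    rw [Nat.choose_succ_succ', Nat.choose_one_right, pow_succ, ih]
    calc x ^ n * y ^ n * ⁅y, x⁆ ^ n.choose 2 * (x * y)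
        = x ^ n * y ^ n * (⁅y, x⁆ ^ n.choose 2 * (x * y)) := by group
      _ = x ^ n * (y ^ n * x) * y * ⁅y, x⁆ ^ n.choose 2 := by rw [hcp]; group
      _ = x ^ n * (⁅y, x⁆ ^ n * x) * y ^ n * y * ⁅y, x⁆ ^ n.choose 2 := by rw [hyx]; group
      _ = x ^ n * (x * ⁅y, x⁆ ^ n) * (y ^ n * y) * ⁅y, x⁆ ^ n.choose 2 := by rw [hcp n x]; group
      _ = x ^ n * x * (⁅y, x⁆ ^ n * (y ^ n * y)) * ⁅y, x⁆ ^ n.choose 2 := by group
      _ = _ := by rw [hcp n (y ^ n * y), pow_succ x, pow_succ y, pow_add]; group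

theorem comm_pow_central (hc : ∀ g : G, ⁅y, x⁆ * g = g * ⁅y, x⁆) (hy : ∀ g : G, y ^ p * g = g * y ^ p) :
    ⁅y, x⁆ ^ p = 1 := by
  have h1 : (x * y * x⁻¹) ^ p = y ^ p := by
    rw [conj_pow, ← hy, mul_inv_cancel_right]
  have h2 : x * y * x⁻¹ = ⁅y, x⁆⁻¹ * y := by simp [commutatorElement_def, mul_assoc]
  have h3 : Commute ⁅y, x⁆⁻¹ y := (show Commute ⁅y, x⁆ y from hc y).inv_left
  rw [h2, h3.mul_pow, mul_eq_right, inv_pow, inv_eq_one] at h1
  exact h1

variable [hp : Fact p.Prime] (hz : ∀ x y g : G, ⁅y, x⁆ * g = g * ⁅y, x⁆)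
  (hpz : ∀ y g : G, y ^ p * g = g * y ^ p)
include hz hpz

theorem omega_mul (hx : IsOmega p x) (hy : IsOmega p y) : IsOmega p (x * y) := by
  have hc := comm_pow_central (hz x y) (hpz y)
  rcases eq_or_ne p 2 with h2 | h2
  · subst h2
    have hx4 : x ^ 4 = 1 := hx.elim (fun h => by rw [show 4 = 2 * 2 from rfl, pow_mul, h, one_pow]) (fun h => h.2)
    have hy4 : y ^ 4 = 1 := hy.elim (fun h => by rw [show 4 = 2 * 2 from rfl, pow_mul, h, one_pow]) (fun h => h.2)
    refine Or.inr ⟨rfl, ?_⟩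
    rw [mul_pow_central (hz x y), hx4, hy4, one_mul, one_mul,
      show Nat.choose 4 2 = 2 * 3 from rfl, pow_mul, hc, one_pow]
  · have hxp : x ^ p = 1 := hx.elim id fun h => absurd h.1 h2
    have hyp : y ^ p = 1 := hy.elim id fun h => absurd h.1 h2
    refine Or.inl ?_
    obtain ⟨k, hk⟩ := hp.out.dvd_choose_self (k := 2) (by omega)
      (lt_of_le_of_ne hp.out.two_le (Ne.symm h2))
    rw [mul_pow_central (hz x y), hxp, hyp, one_mul, one_mul, hk, pow_mul, hc, one_pow]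

/-- A coprime automorphism fixing the omega elements is trivial. -/
theorem aut_fix_of_omega [Finite G] (hP : IsPGroup p G) (a : MulAut G) (ha : (orderOf a).Coprime p)
    (h : ∀ x : G, IsOmega p x → a x = x) : ∀ x : G, a x = x := by
  suffices ∀ (k : ℕ) (x : G), x ^ p ^ k = 1 → a x = x by
    intro x; obtain ⟨k, hk⟩ := hP x; exact this k x hk
  intro k
  induction k with
  | zero => intro x hx; rw [pow_zero, pow_one] at hx; rw [hx, map_one]
  | succ k ih =>
    intro x hx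
    have hxp : a (x ^ p) = x ^ p := ih _ (by rw [← pow_mul, ← pow_succ', hx])
    set q := x⁻¹ * a x with hq
    have hqo : IsOmega p q := by
      have e := mul_pow_central (hz x⁻¹ (a x)) p
      have hc := comm_pow_central (hz x⁻¹ (a x)) (hpz (a x))
      rw [← map_pow, hxp, inv_pow, inv_mul_cancel, one_mul] at e
      rcases eq_or_ne p 2 with h2 | h2
      · subst h2
        refine Or.inr ⟨rfl, ?_⟩
        rw [show 4 = 2 * 2 from rfl, pow_mul, hq, e, show Nat.choose 2 2 = 1 from rfl, pow_one]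
        exact hc
      · refine Or.inl ?_
        obtain ⟨j, hj⟩ := hp.out.dvd_choose_self (k := 2) (by omega)
          (lt_of_le_of_ne hp.out.two_le (Ne.symm h2))
        rw [hq, e, hj, pow_mul, hc, one_pow]
    have hfix : a q = q := h q hqo
    have hax : a x = x * q := by rw [hq]; group
    have hpow : ∀ j : ℕ, (a ^ j) x = x * q ^ j := by
      intro j
      induction j with
      | zero => simp
      | succ j ih =>
        rw [pow_succ', MulAut.mul_apply, ih, map_mul, map_pow, hfix, hax, pow_succ', mul_assoc]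
    have h5 := hpow (orderOf a)
    rw [pow_orderOf_eq_one, MulAut.one_apply] at h5
    have h6 : q ^ orderOf a = 1 := mul_left_cancel (h5.symm.trans (mul_one x).symm)
    obtain ⟨i, hi⟩ := hP q
    have h7 := pow_gcd_eq_one.2 ⟨h6, hi⟩
    rw [Nat.Coprime.pow_right i ha, pow_one] at h7
    rw [hax, h7, mul_one]

end Class2

section Detect

variable {P : Type u} [Group P] {p : ℕ}

/-- The restriction of an automorphism to an invariant subgroup. -/
theorem exists_restrict [Finite P] {H : Subgroup P} (α : MulAut P) (h : ∀ x ∈ H, α x ∈ H) :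
    ∃ β : MulAut H, (∀ x : H, ((β x : H) : P) = α x) ∧ orderOf β ∣ orderOf α := by
  let φ : H →* H := (α.toMonoidHom.comp H.subtype).codRestrict H fun x => h x x.2
  have hinj : Function.Injective φ := fun a b hab =>
    Subtype.ext (α.injective (congrArg Subtype.val hab))
  let β : MulAut H := MulEquiv.ofBijective φ ⟨hinj, Finite.injective_iff_surjective.1 hinj⟩
  have hpow : ∀ (k : ℕ) (x : H), (((β ^ k) x : H) : P) = (α ^ k) x := by
    intro k
    induction k with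
    | zero => intro x; simp
    | succ k ih => intro x; rw [pow_succ, pow_succ, MulAut.mul_apply, MulAut.mul_apply, ih]; rfl
  refine ⟨β, fun x => rfl, orderOf_dvd_of_pow_eq_one (MulEquiv.ext fun x => Subtype.ext ?_)⟩
  rw [hpow, pow_orderOf_eq_one]; rfl

set_option maxHeartbeats 1000000 in
/-- A subgroup of omega elements inside `[P, O^p(G)]` detecting the `p'`-automorphisms in `G`. -/
theorem exists_detect [Finite P] [Fact p.Prime] (hP : IsPGroup p P) (G : Subgroup (MulAut P)) :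
    ∃ D : Subgroup P, (∀ α ∈ G, ∀ x ∈ D, α x ∈ D) ∧
      D ≤ Subgroup.closure {y : P | ∃ α ∈ pResidual p ↥G, ∃ x : P, y = x⁻¹ * (α : MulAut P) x} ∧
      (∀ d ∈ D, IsOmega p d) ∧
      (∀ α ∈ G, (orderOf α).Coprime p → (∀ d ∈ D, α d = d) → α = 1) := by
  set K := Subgroup.closure {y : P | ∃ α ∈ pResidual p ↥G, ∃ x : P, y = x⁻¹ * (α : MulAut P) x}
  have hKinv : ∀ α ∈ G, ∀ x ∈ K, α x ∈ K := by
    intro α hα x hx
    have hn : (pResidual p ↥G).Normal := inferInstance
    have hle : K ≤ K.comap α.toMonoidHom := by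
      refine (Subgroup.closure_le _).2 ?_
      rintro _ ⟨γ, hγ, z, rfl⟩
      let a : ↥G := ⟨α, hα⟩
      have hconj : a * γ * a⁻¹ ∈ pResidual p ↥G := hn.conj_mem γ hγ a
      refine Subgroup.subset_closure ?_
      refine ⟨a * γ * a⁻¹, hconj, α z, ?_⟩
      simp only [MulEquiv.coe_toMonoidHom, map_mul, map_inv, Subgroup.coe_mul, Subgroup.coe_inv,
        MulAut.mul_apply]
      congr 2
      rw [MulAut.inv_apply, MulEquiv.symm_apply_apply]
    exact hle hx
  obtain ⟨H, hHc, hHp, hHcomm, hHC⟩ := exists_critical (P := ↥K) (hP.to_subgroup K)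
  haveI := hHc
  have hz : ∀ x y g : H, ⁅y, x⁆ * g = g * ⁅y, x⁆ := by
    intro x y g
    have h1 := hHcomm (Subgroup.commutator_mem_commutator y.2 (Subgroup.mem_top (x : K)))
    exact Subtype.ext (Subgroup.mem_centralizer_iff.1 h1.2 _ g.2).symm
  have hpz : ∀ y g : H, y ^ p * g = g * y ^ p := fun y g =>
    Subtype.ext (Subgroup.mem_centralizer_iff.1 (hHp y y.2).2 _ g.2).symm
  let D₀ : Subgroup H :=
    { carrier := {x | IsOmega p x}
      one_mem' := Or.inl (one_pow _)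
      mul_mem' := fun hx hy => omega_mul hz hpz hx hy
      inv_mem' := fun hx => hx.imp (fun h => by rw [inv_pow, h, inv_one]) fun h => ⟨h.1, by rw [inv_pow, h.2, inv_one]⟩ }
  let D : Subgroup P := (D₀.map H.subtype).map K.subtype
  refine ⟨D, fun α hα d hd => ?_, Subgroup.map_subtype_le _, ?_, fun α hα hco hfix => ?_⟩
  · obtain ⟨_, ⟨x, hx, rfl⟩, rfl⟩ := hd
    obtain ⟨β, hβ, -⟩ := exists_restrict α (hKinv α hα)
    have hβx : β (x : K) ∈ H := by
      exact (Subgroup.characteristic_iff_map_eq.1 hHc β).le ⟨x, x.2, rfl⟩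
    refine ⟨β (x : K), ⟨⟨_, hβx⟩, ?_, rfl⟩, hβ _⟩
    rcases hx with h | h
    · refine Or.inl (Subtype.ext ?_)
      show β (x : K) ^ p = 1
      rw [← map_pow, ← SubmonoidClass.coe_pow, h, OneMemClass.coe_one, map_one]
    · refine Or.inr ⟨h.1, Subtype.ext ?_⟩
      show β (x : K) ^ 4 = 1
      rw [← map_pow, ← SubmonoidClass.coe_pow, h.2, OneMemClass.coe_one, map_one]
  · rintro _ ⟨_, ⟨x, hx, rfl⟩, rfl⟩
    exact hx.imp (fun h => congrArg (fun t : H => ((t : K) : P)) h)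
      fun h => ⟨h.1, congrArg (fun t : H => ((t : K) : P)) h.2⟩
  · obtain ⟨β, hβ, hβo⟩ := exists_restrict α (hKinv α hα)
    obtain ⟨γ, hγ, hγo⟩ := exists_restrict β (H := H) fun x hx => by
      rw [← Subgroup.characteristic_iff_map_eq.1 hHc β]; exact ⟨x, hx, rfl⟩
    have hγ1 : ∀ x : H, γ x = x := aut_fix_of_omega hz hpz ((hP.to_subgroup K).to_subgroup H) γ
      (hco.coprime_dvd_left (hγo.trans hβo)) fun x hx => Subtype.ext (Subtype.ext (by
        rw [hγ, hβ]; exact hfix _ ⟨_, ⟨x, hx, rfl⟩, rfl⟩))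
    have hβ1 : β = 1 := aut_eq_one_of_fix (hP.to_subgroup K) hHC β (hco.coprime_dvd_left hβo)
      fun x hx => by rw [← hγ ⟨x, hx⟩, hγ1]
    ext x
    show α x = x
    set q := x⁻¹ * α x with hq
    have hmem : q ∈ K := Subgroup.subset_closure
      ⟨⟨α, hα⟩, Subgroup.subset_closure (show (orderOf (⟨α, hα⟩ : G)).Coprime p by
        rwa [← Subgroup.orderOf_coe]), x, rfl⟩
    have hfq : α q = q := by
      have := hβ ⟨q, hmem⟩
      rw [hβ1] at this
      exact this.symm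
    have hax : α x = x * q := by rw [hq]; group
    have hpow : ∀ j : ℕ, (α ^ j) x = x * q ^ j := by
      intro j
      induction j with
      | zero => simp
      | succ j ih =>
        rw [pow_succ', MulAut.mul_apply, ih, map_mul, map_pow, hfq, hax, pow_succ', mul_assoc]
    have h5 := hpow (orderOf α)
    rw [pow_orderOf_eq_one, MulAut.one_apply] at h5
    have h6 : q ^ orderOf α = 1 := mul_left_cancel (h5.symm.trans (mul_one x).symm)
    obtain ⟨i, hi⟩ := hP q
    have h7 := pow_gcd_eq_one.2 ⟨h6, hi⟩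
    rw [Nat.Coprime.pow_right i hco, pow_one] at h7
    rw [hax, h7, mul_one]

end Detect

section Criterion

variable {Ω : Type*} [Group Ω] {S : Subgroup Ω} [Finite S] {F : FusionSystem S}
  {R : Subgroup Ω} {p : ℕ} [Fact p.Prime]

theorem detect_in_system (hS : IsPGroup p S) (hR : R ≤ S) :
    ∃ D : Subgroup Ω, D ≤ R ∧ D ≤ F.hyperfocalSubgroup p ∧ (∀ d ∈ D, IsOmega p d) ∧
      (∀ α ∈ F.autGroup R, ∀ x ∈ D, av α x ∈ D) ∧
      (∀ α ∈ F.autGroup R, (orderOf α).Coprime p → (∀ d ∈ D, av α d = d) → α = 1) := by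
  haveI := finite_of_le hR
  obtain ⟨D, hinv, hle, hom, hdet⟩ := exists_detect (hS.to_le hR) (F.autGroup R)
  refine ⟨D.map R.subtype, Subgroup.map_subtype_le _, ?_, ?_, ?_, fun α hα hco hfix => ?_⟩
  · rintro _ ⟨x, hx, rfl⟩
    have h1 : D ≤ (F.hyperfocalSubgroup p).comap R.subtype := hle.trans <| (Subgroup.closure_le _).2 <| by
      rintro _ ⟨γ, hγ, y, rfl⟩
      show (((y⁻¹ * (γ : MulAut R) y : R)) : Ω) ∈ F.hyperfocalSubgroup p
      have := inv_mul_mem_hyperfocal hR hγ y.2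
      rwa [av_coe] at this
    exact h1 hx
  · rintro _ ⟨x, hx, rfl⟩
    exact (hom x hx).imp (fun h => congrArg Subtype.val h) fun h => ⟨h.1, congrArg Subtype.val h.2⟩
  · rintro α hα _ ⟨x, hx, rfl⟩
    exact ⟨α x, hinv α hα x hx, (av_coe α x).symm⟩
  · exact hdet α hα hco fun d hd => Subtype.ext (by rw [← av_coe]; exact hfix _ ⟨d, hd, rfl⟩)

omit [Fact p.Prime] in
/-- An automorphism of order prime to `p` stabilising a series fixes it. -/
theorem fix_of_stabilizes [Fact p.Prime] (hS : IsPGroup p S) (hR : R ≤ S) {D : Subgroup Ω} (hDR : D ≤ R)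
    (C : ℕ → Subgroup Ω) (h0 : C 0 = ⊥) {α : MulAut R} (hco : (orderOf α).Coprime p)
    (hDinv : ∀ x ∈ D, av α x ∈ D) (hst : ∀ i, ∀ x ∈ D, x ∈ C (i + 1) → x⁻¹ * av α x ∈ C i) :
    ∀ i, ∀ x ∈ D, x ∈ C i → av α x = x := by
  intro i
  induction i with
  | zero =>
    intro x _ hx
    rw [h0, Subgroup.mem_bot] at hx
    subst hx
    rw [av_apply α R.one_mem, show (⟨1, R.one_mem⟩ : R) = 1 from rfl, map_one]; rfl
  | succ i ih =>
    intro x hx hxC
    set q := x⁻¹ * av α x with hq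
    have hqD : q ∈ D := D.mul_mem (D.inv_mem hx) (hDinv x hx)
    have hfq : α ⟨q, hDR hqD⟩ = ⟨q, hDR hqD⟩ := Subtype.ext <| by
      rw [← av_coe]; exact ih q hqD (hst i x hx hxC)
    have hax : α ⟨x, hDR hx⟩ = ⟨x, hDR hx⟩ * ⟨q, hDR hqD⟩ := Subtype.ext <| by
      rw [← av_coe]; show _ = x * q; rw [hq]; group
    have hpow : ∀ j : ℕ, (α ^ j) ⟨x, hDR hx⟩ = ⟨x, hDR hx⟩ * ⟨q, hDR hqD⟩ ^ j := by
      intro j
      induction j with
      | zero => simp
      | succ j ih =>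
        rw [pow_succ', MulAut.mul_apply, ih, map_mul, map_pow, hfq, hax, pow_succ', mul_assoc]
    have h5 := hpow (orderOf α)
    rw [pow_orderOf_eq_one, MulAut.one_apply] at h5
    have h6 : (⟨q, hDR hqD⟩ : R) ^ orderOf α = 1 := mul_left_cancel (h5.symm.trans (mul_one _).symm)
    haveI := finite_of_le hR
    obtain ⟨k, hk⟩ := hS.to_le hR ⟨q, hDR hqD⟩
    have h7 := pow_gcd_eq_one.2 ⟨h6, hk⟩
    rw [Nat.Coprime.pow_right k hco, pow_one] at h7
    rw [av_apply α (hDR hx), hax, h7, mul_one]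

/-- No proper subgroup generates when omega elements of the hyperfocal part have an invariant series. -/
theorem eq_top_of_series (hS : IsPGroup p S) (hF : F.IsSaturated p) (hgen : R = S ∨ F.IsEssential p R)
    (C : ℕ → Subgroup Ω) (n : ℕ) (h0 : C 0 = ⊥)
    (h : ∀ x, x ∈ R → x ∈ F.hyperfocalSubgroup p → IsOmega p x →
      x ∈ C n ∧ (∀ α ∈ F.autGroup R, ∀ i, x ∈ C i → av α x ∈ C i) ∧
      ∀ s ∈ normalizerIn S R, ∀ i, x ∈ C (i + 1) → x⁻¹ * (s * x * s⁻¹) ∈ C i) : R = S := by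
  obtain ⟨hC, hrad⟩ := gen_centric_radical hS hF hgen
  haveI := mulAut_finite_of_le hC.1
  obtain ⟨D, hDR, hDh, hom, hDinv, hdet⟩ := detect_in_system (F := F) hS hC.1
  let A : Subgroup (MulAut R) :=
    { carrier := {β | β ∈ F.autGroup R ∧ ∀ i, ∀ x ∈ D, x ∈ C (i + 1) → x⁻¹ * av β x ∈ C i}
      one_mem' := ⟨Subgroup.one_mem _, fun i x hx _ => by
        rw [av_one (hDR hx), inv_mul_cancel]; exact Subgroup.one_mem _⟩
      mul_mem' := by
        rintro β γ ⟨hβ, hβ'⟩ ⟨hγ, hγ'⟩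
        refine ⟨Subgroup.mul_mem _ hβ hγ, fun i x hx hxC => ?_⟩
        have hy := hDinv γ hγ x hx
        have hyC := (h x (hDR hx) (hDh hx) (hom x hx)).2.1 γ hγ _ hxC
        rw [av_mul _ _ (hDR hx)]
        simpa [mul_assoc] using (C i).mul_mem (hγ' i x hx hxC) (hβ' i _ hy hyC)
      inv_mem' := by
        rintro β ⟨hβ, hβ'⟩
        refine ⟨Subgroup.inv_mem _ hβ, fun i x hx hxC => ?_⟩
        have hy := hDinv _ (Subgroup.inv_mem _ hβ) x hx
        have hyC := (h x (hDR hx) (hDh hx) (hom x hx)).2.1 _ (Subgroup.inv_mem _ hβ) _ hxC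
        have h1 := hβ' i _ hy hyC
        rw [av_av_inv β (hDR hx)] at h1
        simpa using (C i).inv_mem h1 }
  have hAn : (A.subgroupOf (F.autGroup R)).Normal := by
    constructor
    rintro β hβ ⟨γ, hγ⟩
    obtain ⟨hβF, hβ'⟩ := hβ
    refine ⟨Subgroup.mul_mem _ (Subgroup.mul_mem _ hγ β.2) (Subgroup.inv_mem _ hγ), fun i x hx hxC => ?_⟩
    show x⁻¹ * av (γ * (β : MulAut R) * γ⁻¹) x ∈ C i
    have hy : av γ⁻¹ x ∈ D := hDinv _ (Subgroup.inv_mem _ hγ) x hx
    have hyC := (h x (hDR hx) (hDh hx) (hom x hx)).2.1 _ (Subgroup.inv_mem _ hγ) _ hxC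
    have hq := D.mul_mem (D.inv_mem hy) (hDinv _ β.2 _ hy)
    have h1 := (h _ (hDR hq) (hDh hq) (hom _ hq)).2.1 γ hγ i (hβ' i _ hy hyC)
    have hm := map_of_mem_autGroup hC.1 hγ
    rw [hm.map_mul (R.inv_mem (hDR hy)) (hDR (hDinv _ β.2 _ hy)), hm.map_inv (hDR hy),
      av_av_inv γ (hDR hx)] at h1
    rwa [av_mul _ _ (hDR hx), av_mul _ _ (hDR hy)]
  have hAp : IsPGroup p ↥(A.subgroupOf (F.autGroup R)) := by
    intro a
    obtain ⟨hαF, hα⟩ := a.2
    obtain ⟨k, m, hm, hkm⟩ := Nat.exists_eq_pow_mul_and_not_dvd (orderOf_pos a).ne' p (Fact.out : p.Prime).ne_one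
    refine ⟨k, ?_⟩
    set b := a ^ p ^ k
    have hco : (orderOf b).Coprime p := by
      refine Nat.Coprime.coprime_dvd_left (orderOf_dvd_of_pow_eq_one ?_)
        ((Nat.Prime.coprime_iff_not_dvd Fact.out).2 hm).symm
      show (a ^ p ^ k) ^ m = 1
      rw [← pow_mul, ← hkm, pow_orderOf_eq_one]
    obtain ⟨hbF, hb⟩ := b.2
    have hco' : (orderOf ((b : ↥(F.autGroup R)) : MulAut R)).Coprime p := by
      rwa [Subgroup.orderOf_coe, Subgroup.orderOf_coe]
    have hb1 : ((b : ↥(F.autGroup R)) : MulAut R) = 1 := hdet _ hbF hco' fun d hd =>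
      fix_of_stabilizes hS hC.1 hDR C h0 hco' (hDinv _ hbF) hb n d hd
        (h d (hDR hd) (hDh hd) (hom d hd)).1
    exact Subtype.ext (Subtype.ext hb1)
  by_contra hne
  obtain ⟨s, hsN, hsR⟩ := SetLike.exists_of_lt (lt_normalizerIn hS (lt_of_le_of_ne hC.1 hne))
  obtain ⟨β, hβ, hβS⟩ := exists_aut_conj hsN.2
  have hβF := autInducedBy_le_autGroup (F := F) hC.1 (hβS S hsN.1)
  have hin : β ∈ Inn R := hrad.2 ▸ ⟨⟨β, hβF⟩, le_pCore (hn := hAn) hAp ⟨hβF, fun i x hx hxC => by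
    show x⁻¹ * av β x ∈ C i
    rw [hβ x (hDR hx)]; exact (h x (hDR hx) (hDh hx) (hom x hx)).2.2 s hsN i hxC⟩, rfl⟩
  obtain ⟨y, hy, hyβ⟩ := mem_Inn.1 hin
  have hc : y⁻¹ * s ∈ centralizerIn S R := by
    refine mem_centralizerIn.2 ⟨S.mul_mem (S.inv_mem (hC.1 hy)) hsN.1, fun x hx => ?_⟩
    have e1 := (hβ x hx).symm.trans (hyβ x hx)
    calc x * (y⁻¹ * s) = y⁻¹ * (y * x * y⁻¹) * s := by group
      _ = y⁻¹ * (s * x * s⁻¹) * s := by rw [e1]
      _ = _ := by group
  exact hsR (by simpa using R.mul_mem hy (hC.2 R (isConj_refl hC.1) hc))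

end Criterion

end Cfsg.Agent.Local.FS
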