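import Cfsg.Agent.Lib.Local.FS.Sat
import Cfsg.Agent.Lib.Local.StrongEmb
import Cfsg.Agent.Lib.Fusion.Cores

set_option autoImplicit false

namespace Cfsg.Agent.Local.FS

open Cfsg Cfsg.FusionSystem Cfsg.Agent.Fusion

variable {Ω : Type*} [Group Ω] {S : Subgroup Ω} {F : FusionSystem S}
  {P Q R : Subgroup Ω} {f : Ω → Ω} {p : ℕ}

/-- The automorphisms of `P` extending to a map of the system on a strictly larger subgroup. -/
def extSet (F : FusionSystem S) (P : Subgroup Ω) : Set (MulAut P) :=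
  {α | ∃ Q, P < Q ∧ ∃ g, Map F Q g ∧ ∀ x ∈ P, g x = av α x}

theorem extSet_eq_hom : extSet F P =
    {α : MulAut P | ∃ (Q : Subgroup Ω) (hPQ : P < Q) (φ : Q →* Ω),
      φ ∈ F.Hom Q ∧ ∀ x : P, φ (Subgroup.inclusion hPQ.le x) = α x} := by
  ext α
  constructor
  · rintro ⟨Q, hPQ, g, ⟨φ, hφ, hφg⟩, hg⟩
    exact ⟨Q, hPQ, φ, hφ, fun x => by rw [hφg, ← av_coe]; exact hg x x.2⟩
  · rintro ⟨Q, hPQ, φ, hφ, h⟩
    refine ⟨Q, hPQ, fn φ, map_of_mem hφ, fun x hx => ?_⟩
    rw [fn_apply φ (hPQ.le hx), av_apply α hx]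
    exact h ⟨x, hx⟩

variable [Finite S]

theorem extSet_subset : extSet F P ⊆ F.autGroup P := by
  rintro α ⟨Q, hPQ, g, hg, h⟩
  exact mem_autGroup_of_map ((hg.restrict hPQ.le).congr h)

theorem closure_extSet_le : Subgroup.closure (extSet F P) ≤ F.autGroup P :=
  (Subgroup.closure_le _).2 extSet_subset

theorem autInducedBy_le_closure_extSet (hP : P < S) :
    autInducedBy S P ≤ Subgroup.closure (extSet F P) := by
  intro α hα
  obtain ⟨g, hg, h⟩ := mem_autInducedBy.1 hα
  exact Subgroup.subset_closure ⟨S, hP, _, map_conjBy le_rfl hg, fun x hx => (h x hx).symm⟩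

theorem inn_le_autInducedBy (hP : P ≤ S) : Inn P ≤ autInducedBy S P := by
  intro α hα
  obtain ⟨g, hg, h⟩ := mem_Inn.1 hα
  exact mem_autInducedBy.2 ⟨g, hP hg, h⟩

theorem inn_le_autGroup (hP : P ≤ S) : Inn P ≤ F.autGroup P :=
  (inn_le_autInducedBy hP).trans (autInducedBy_le_autGroup hP)

theorem isPGroup_inn (hS : IsPGroup p S) (hP : P ≤ S) : IsPGroup p ↥(Inn P) :=
  (hS.to_le hP).of_surjective _ (MulAut.conj : P →* MulAut P).rangeRestrict_surjective

/-- Fully centralised and self-centralising in `S` means centric. -/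
theorem centric_of_fc (hP : F.IsFullyCentralized P) (hC : centralizerIn S P ≤ P) : F.IsCentric P := by
  refine ⟨hP.1, fun Q hQ => ?_⟩
  obtain ⟨f, hf, hi⟩ := isConj_iff.1 hQ
  haveI := finite_of_le (isConj_le hQ).2
  have h1 : Nat.card ↥(centralizerIn S P) ≤ Nat.card ↥(centralizerIn S Q ⊓ Q) := by
    haveI : Finite ↥(centralizerIn S Q ⊓ Q) := finite_of_le (inf_le_right.trans (isConj_le hQ).2)
    refine (hf.restrict hC).card_le fun x hx => ⟨?_, hi.le (mem_im_of_mem (hC hx))⟩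
    rw [← hi]
    exact hf.mem_centralizer le_rfl (hC hx) (mem_centralizerIn.1 hx).2
  have h2 : centralizerIn S Q ⊓ Q = centralizerIn S Q :=
    Subgroup.eq_of_le_of_card_ge inf_le_left ((hP.2 Q hQ).trans h1)
  exact h2 ▸ inf_le_right

/-- Extending an automorphism whose transport keeps a subgroup outside `Inn(P)` inside `Aut_S(P)`. -/
theorem mem_extSet_of_conj (hP : F.IsReceptive P) {α β : MulAut P} (hα : α ∈ F.autGroup P)
    (hβ : β ∈ autInducedBy S P) (hβi : β ∉ Inn P) (hαβ : α * β * α⁻¹ ∈ autInducedBy S P) :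
    α ∈ extSet F P := by
  have hm := map_of_mem_autGroup hP.1 hα
  obtain ⟨g, hg, hgf⟩ := (receptive_iff.1 hP).2 P _ hm (im_av α)
  refine ⟨_, lt_of_le_not_ge (le_Nf hm) fun hle => ?_, g, hg, hgf⟩
  obtain ⟨s, hs, hsβ⟩ := mem_autInducedBy.1 hβ
  obtain ⟨h, hh, hhβ⟩ := mem_autInducedBy.1 hαβ
  have hsN : s ∈ Nf S P (av α) := by
    refine ⟨hs, mem_normalizer_of_conj_aut hsβ, h, hh, fun x hx => ?_⟩
    have h1 := hhβ _ (av_mem α hx)
    rw [av_mul _ _ (av_mem α hx), av_inv_av α hx, av_mul _ _ hx, hsβ x hx] at h1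
    exact h1
  exact hβi (mem_Inn.2 ⟨s, hle hsN, hsβ⟩)

/-- A fully normalised non-centric subgroup is generated by extensions. -/
theorem autGroup_eq_closure_of_not_centric [Fact p.Prime] (hS : IsPGroup p S)
    (hF : F.IsSaturated p) (hP : F.IsFullyNormalized P) (hC : ¬ F.IsCentric P) :
    Subgroup.closure (extSet F P) = F.autGroup P := by
  refine le_antisymm closure_extSet_le fun α hα => Subgroup.subset_closure ?_
  have hfc := (fc_fa_of_fn hS hF hP).1
  obtain ⟨g, hg, hgf⟩ := (receptive_iff.1 (receptive_of_fc hS hF hfc)).2 P _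
    (map_of_mem_autGroup hP.1 hα) (im_av α)
  refine ⟨_, lt_of_le_not_ge (le_Nf (map_of_mem_autGroup hP.1 hα)) fun hle => ?_, g, hg, hgf⟩
  exact hC (centric_of_fc hfc (centralizerIn_le_Nf.trans hle))

section Out

variable [Fact p.Prime]

/-- The essential data: with `π : Aut_F(P) → Out_F(P)`, the image of the extendable automorphisms
contains the 1-generated core of the image of `Aut_S(P)`. -/
theorem out_data (hS : IsPGroup p S) (hF : F.IsSaturated p) (hP : P < S)
    (hPn : F.IsFullyNormalized P) (hC : F.IsCentric P)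
    [hn : ((Inn P).subgroupOf (F.autGroup P)).Normal] :
    let π := QuotientGroup.mk' ((Inn P).subgroupOf (F.autGroup P))
    let T := ((autInducedBy S P).subgroupOf (F.autGroup P)).map π
    SylIn p T ⊤ ∧ T ≠ ⊥ ∧
      (∀ Q, Q ≤ T → Q ≠ ⊥ → Subgroup.normalizer (Q : Set _) ≤
        ((Subgroup.closure (extSet F P)).subgroupOf (F.autGroup P)).map π) ∧
      (∀ α : F.autGroup P, (α : MulAut P) ∈ extSet F P →
        ∃ A, A ≤ T ∧ A ≠ ⊥ ∧ cj A (π α) ≤ T) := by
  intro π T
  haveI := mulAut_finite_of_le hPn.1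
  obtain ⟨hfc, hfa⟩ := fc_fa_of_fn hS hF hPn
  have hrec := receptive_of_fc hS hF hfc
  have hT : SylIn p T ⊤ := by
    obtain ⟨hle, hTp, hTd⟩ := (fa_iff.1 hfa).2
    refine ⟨le_top, (hTp.comap_subtype (K := F.autGroup P)).map π, ?_⟩
    rw [Subgroup.relIndex_top_right]
    exact fun hd => hTd (hd.trans
      (Subgroup.index_map_dvd (f := π) _ (QuotientGroup.mk'_surjective _)))
  have hker : ∀ a : F.autGroup P, π a ∈ T ↔ (a : MulAut P) ∈ autInducedBy S P := by
    intro a
    refine ⟨?_, fun h => ⟨a, h, rfl⟩⟩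
    rintro ⟨b, hb, he⟩
    have h1 : b⁻¹ * a ∈ (Inn P).subgroupOf (F.autGroup P) := by
      rw [← QuotientGroup.ker_mk' ((Inn P).subgroupOf (F.autGroup P)), MonoidHom.mem_ker]
      show π _ = 1
      rw [map_mul, map_inv, he, inv_mul_cancel]
    have h2 : ((b⁻¹ * a : F.autGroup P) : MulAut P) ∈ autInducedBy S P :=
      inn_le_autInducedBy hPn.1 h1
    have h3 := (autInducedBy S P).mul_mem (show (b : MulAut P) ∈ autInducedBy S P from hb) h2
    simpa using h3
  have hone : ∀ a : F.autGroup P, π a = 1 ↔ (a : MulAut P) ∈ Inn P := fun a =>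
    (QuotientGroup.eq_one_iff a).trans Subgroup.mem_subgroupOf
  have hout : ∀ {g : Ω}, g ∈ S → g ∉ P → ∀ {β : MulAut P}, (∀ x ∈ P, av β x = g * x * g⁻¹) →
      β ∉ Inn P := by
    intro g hg hgP β hβ hin
    obtain ⟨y, hy, hyβ⟩ := mem_Inn.1 hin
    have hc : y⁻¹ * g ∈ centralizerIn S P := by
      refine mem_centralizerIn.2 ⟨S.mul_mem (S.inv_mem (hPn.1 hy)) hg, fun x hx => ?_⟩
      have h1 := (hβ x hx).symm.trans (hyβ x hx)
      calc x * (y⁻¹ * g) = y⁻¹ * (y * x * y⁻¹) * g := by group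
        _ = y⁻¹ * (g * x * g⁻¹) * g := by rw [h1]
        _ = _ := by group
    exact hgP (by simpa using P.mul_mem hy (hC.2 P (isConj_refl hPn.1) hc))
  refine ⟨hT, ?_, ?_, ?_⟩
  · intro hbot
    obtain ⟨g, ⟨hgS, hgn⟩, hgP⟩ := SetLike.exists_of_lt (lt_normalizerIn hS hP)
    obtain ⟨β, hβ, hβS⟩ := exists_aut_conj hgn
    have hβA := autInducedBy_le_autGroup (F := F) hPn.1 (hβS S hgS)
    have h1 : π ⟨β, hβA⟩ ∈ T := (hker _).2 (hβS S hgS)
    rw [hbot, Subgroup.mem_bot, hone] at h1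
    exact hout hgS hgP hβ h1
  · intro Q hQT hQne n hn
    obtain ⟨a, rfl⟩ := QuotientGroup.mk'_surjective _ n
    refine ⟨a, Subgroup.subset_closure ?_, rfl⟩
    obtain ⟨q, hqQ, hq1⟩ := SetLike.exists_of_lt (bot_lt_iff_ne_bot.2 hQne)
    obtain ⟨b, rfl⟩ := QuotientGroup.mk'_surjective _ q
    have h1 : π (a * b * a⁻¹) ∈ T := by
      rw [map_mul, map_mul, map_inv]
      exact hQT ((Subgroup.mem_normalizer_iff.1 hn _).1 hqQ)
    exact mem_extSet_of_conj hrec a.2 ((hker b).1 (hQT hqQ))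
      (fun h => hq1 (Subgroup.mem_bot.2 ((hone b).2 h))) ((hker _).1 h1)
  · rintro α ⟨Q, hPQ, g, hg, hgα⟩
    obtain ⟨s, ⟨hsQ, hsn⟩, hsP⟩ := SetLike.exists_of_lt (lt_inf_normalizer hS hPQ hg.le)
    have hsS : s ∈ S := hg.le hsQ
    obtain ⟨β, hβ, hβS⟩ := exists_aut_conj hsn
    have hβA := autInducedBy_le_autGroup (F := F) hPn.1 (hβS S hsS)
    refine ⟨Subgroup.zpowers (π ⟨β, hβA⟩), Subgroup.zpowers_le.2 ((hker _).2 (hβS S hsS)), ?_, ?_⟩
    · rw [Subgroup.zpowers_ne_bot, Ne, hone]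
      exact hout hsS hsP hβ
    · rw [cj_le_iff, Subgroup.zpowers_le, Fusion.mem_cj, inv_inv, ← map_inv, ← map_mul, ← map_mul,
        hker]
      refine mem_autInducedBy.2 ⟨g s, hg.mem hsQ, fun x hx => ?_⟩
      show av ((α : MulAut P) * β * (α : MulAut P)⁻¹) x = _
      rw [av_mul _ _ hx, av_mul _ _ (av_mem _ hx), hβ _ (av_mem _ hx)]
      have hy : av ((α : MulAut P))⁻¹ x ∈ P := av_mem _ hx
      rw [← hgα _ (conj_mem_of_normalizer hsn hy), hg.map_conj hsQ (hPQ.le hy), hgα _ hy,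
        av_av_inv _ hx]

/-- An essential subgroup is proper. -/
theorem lt_of_essential (hS : IsPGroup p S) (hF : F.IsSaturated p) (hE : F.IsEssential p P) :
    P < S := by
  obtain ⟨hC, hPn, hn, E, hdvd, -, -⟩ := hE
  refine lt_of_le_of_ne hPn.1 fun he => ?_
  subst he
  haveI := mulAut_finite_of_le (le_refl P)
  have hinn : autInducedBy P P = Inn P := by
    ext α; rw [mem_autInducedBy, mem_Inn]
  have hd := (fa_iff.1 (fc_fa_of_fn hS hF hPn).2).2.not_dvd
  rw [hinn] at hd
  exact hd hdvd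

/-- An essential subgroup: the extendable automorphisms generate the strongly embedded subgroup. -/
theorem essential_data (hS : IsPGroup p S) (hF : F.IsSaturated p) (hE : F.IsEssential p P) :
    ∃ _ : ((Inn P).subgroupOf (F.autGroup P)).Normal,
      IsStronglyPEmbedded p (((Subgroup.closure (extSet F P)).subgroupOf (F.autGroup P)).map
        (QuotientGroup.mk' ((Inn P).subgroupOf (F.autGroup P)))) := by
  have hP := lt_of_essential hS hF hE
  obtain ⟨hC, hPn, hn, E, hE⟩ := hE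
  haveI := mulAut_finite_of_le hPn.1
  refine ⟨hn, ?_⟩
  haveI := hn
  obtain ⟨hdvd, hEtop, T', hT', hΓ'⟩ := Cfsg.Agent.Local.isStronglyPEmbedded_iff.1 hE
  obtain ⟨hT, hTne, hΓ, hext⟩ := out_data hS hF hP hPn hC
  set π := QuotientGroup.mk' ((Inn P).subgroupOf (F.autGroup P))
  obtain ⟨x, -, hx⟩ := hT'.conj_eq hT
  have hΓx : ∀ Q, Q ≤ ((autInducedBy S P).subgroupOf (F.autGroup P)).map π → Q ≠ ⊥ →
      Subgroup.normalizer (Q : Set _) ≤ cj E x := by
    intro Q hQ hne n hn
    rw [mem_cj]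
    refine hΓ' (cj Q x⁻¹) ?_ (fun h => hne ?_) ?_
    · rw [cj_le_iff, inv_inv]; exact hx ▸ hQ
    · rw [← cj_inv_cj Q x, h, cj_bot]
    · rw [← cj_normalizer, mem_cj]
      simpa [mul_assoc] using hn
  have hle : ((Subgroup.closure (extSet F P)).subgroupOf (F.autGroup P)).map π ≤ cj E x := by
    rw [Subgroup.map_le_iff_le_comap]
    intro a ha
    have key : ∀ α ∈ Subgroup.closure (extSet F P), ∃ h : α ∈ F.autGroup P, π ⟨α, h⟩ ∈ cj E x := by
      intro α hα
      induction hα using Subgroup.closure_induction with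
      | mem α hα =>
        obtain ⟨A, hA, hAne, hAα⟩ := hext ⟨α, extSet_subset hα⟩ hα
        exact ⟨extSet_subset hα, Cfsg.Agent.Local.mem_of_conj_le hT hΓx hA hAne hAα⟩
      | one =>
        refine ⟨Subgroup.one_mem _, ?_⟩
        rw [show (⟨1, Subgroup.one_mem _⟩ : ↥(F.autGroup P)) = 1 from rfl, map_one]
        exact (cj E x).one_mem
      | mul α β _ _ iha ihb =>
        obtain ⟨h1, h1'⟩ := iha
        obtain ⟨h2, h2'⟩ := ihb
        exact ⟨Subgroup.mul_mem _ h1 h2, (cj E x).mul_mem h1' h2'⟩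
      | inv α _ iha =>
        obtain ⟨h1, h1'⟩ := iha
        exact ⟨Subgroup.inv_mem _ h1, (cj E x).inv_mem h1'⟩
    obtain ⟨h, h'⟩ := key a ha
    exact h'
  refine Cfsg.Agent.Local.isStronglyPEmbedded_iff.2 ⟨hdvd, fun h => hEtop ?_, _, hT, hΓ⟩
  have htop : cj E x = ⊤ := top_le_iff.1 (h ▸ hle)
  rw [← cj_cj_inv E x, htop, Fusion.cj_of_normal]

/-- A fully normalised proper subgroup that is not essential is generated by extensions. -/
theorem autGroup_eq_closure_of_not_essential (hS : IsPGroup p S) (hF : F.IsSaturated p) (hP : P < S)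
    (hPn : F.IsFullyNormalized P) (hE : ¬ F.IsEssential p P) :
    Subgroup.closure (extSet F P) = F.autGroup P := by
  by_cases hC : F.IsCentric P
  swap
  · exact autGroup_eq_closure_of_not_centric hS hF hPn hC
  haveI := mulAut_finite_of_le hPn.1
  by_contra hne
  have hn : ((Inn P).subgroupOf (F.autGroup P)).Normal := inferInstance
  obtain ⟨hT, hTne, hΓ, -⟩ := out_data hS hF hP hPn hC
  set π := QuotientGroup.mk' ((Inn P).subgroupOf (F.autGroup P))
  refine hE ⟨hC, hPn, hn, _, Cfsg.Agent.Local.isStronglyPEmbedded_iff.2 ⟨?_, fun htop => hne ?_, _, hT, hΓ⟩⟩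
  · obtain ⟨k, hk⟩ := IsPGroup.iff_card.1 hT.isPGroup
    have hk0 : k ≠ 0 := by
      rintro rfl
      exact hTne (Subgroup.eq_bot_of_card_eq _ (by simpa using hk))
    exact (dvd_pow_self p hk0).trans (hk ▸ Subgroup.card_subgroup_dvd_card _)
  · refine le_antisymm closure_extSet_le fun α hα => ?_
    obtain ⟨b, hb, hbe⟩ := htop.ge (Subgroup.mem_top (π ⟨α, hα⟩))
    have h1 : b⁻¹ * ⟨α, hα⟩ ∈ (Inn P).subgroupOf (F.autGroup P) := by
      rw [← QuotientGroup.ker_mk' ((Inn P).subgroupOf (F.autGroup P)), MonoidHom.mem_ker]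
      show π _ = 1
      rw [map_mul, map_inv, hbe, inv_mul_cancel]
    have h2 := (Subgroup.closure (extSet F P)).mul_mem (show (b : MulAut P) ∈ _ from hb)
      ((inn_le_autInducedBy hPn.1).trans (autInducedBy_le_closure_extSet hP) h1)
    simpa using h2

/-- An essential subgroup is radical. -/
theorem radical_of_essential (hS : IsPGroup p S) (hF : F.IsSaturated p) (hE : F.IsEssential p P) :
    F.IsRadical p P := by
  have hP := lt_of_essential hS hF hE
  obtain ⟨hn, hst⟩ := essential_data hS hF hE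
  obtain ⟨hC, hPn, -⟩ := hE
  refine ⟨hPn.1, ?_⟩
  haveI := mulAut_finite_of_le hPn.1
  haveI := hn
  obtain ⟨hT, hTne, hΓ, -⟩ := out_data hS hF hP hPn hC
  set π := QuotientGroup.mk' ((Inn P).subgroupOf (F.autGroup P))
  refine le_antisymm ?_ ?_
  · rintro _ ⟨a, ha, rfl⟩
    by_contra hnot
    set U := (pCore p ↥(F.autGroup P)).map π
    have hUn : U.Normal := Subgroup.Normal.map inferInstance π (QuotientGroup.mk'_surjective _)
    have hUT : U ≤ ((autInducedBy S P).subgroupOf (F.autGroup P)).map π := by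
      obtain ⟨x, -, hx⟩ := hT.conj_le (Q := U) ((isPGroup_pCore p _).map π) le_top
      rwa [Fusion.cj_of_normal U] at hx
    have hUne : U ≠ ⊥ := fun h => hnot <| by
      have h1 : π a ∈ U := ⟨a, ha, rfl⟩
      rw [h, Subgroup.mem_bot] at h1
      exact Subgroup.mem_subgroupOf.1 ((QuotientGroup.eq_one_iff a).1 h1)
    have hstr := hst.2.1
    apply hstr
    have := hΓ U hUT hUne
    rwa [Subgroup.normalizer_eq_top, top_le_iff] at this
  · intro α hα
    have h1 : (Inn P).subgroupOf (F.autGroup P) ≤ pCore p ↥(F.autGroup P) :=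
      le_pCore ((isPGroup_inn hS hPn.1).comap_subtype)
    exact ⟨⟨α, inn_le_autGroup hPn.1 hα⟩, h1 hα, rfl⟩

end Out

/-- A class of functions-on-subgroups closed under the operations of a fusion system. -/
structure IsClosedClass (F : FusionSystem S) (K : Subgroup Ω → (Ω → Ω) → Prop) : Prop where
  congr : ∀ {P : Subgroup Ω} {f g : Ω → Ω}, K P f → (∀ x ∈ P, f x = g x) → K P g
  restrict : ∀ {P R : Subgroup Ω} {f : Ω → Ω}, Map F P f → K P f → R ≤ P → K R f
  comp : ∀ {P Q : Subgroup Ω} {f g : Ω → Ω}, Map F P f → Map F Q g → K P f → K Q g → (∀ x ∈ P, f x ∈ Q) → K P (g ∘ f)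
  inv : ∀ {P : Subgroup Ω} {f g : Ω → Ω}, Map F P f → K P f → (∀ x ∈ P, g (f x) = x) → K (im P f) g

/-- **Alperin's fusion theorem**. -/
theorem alperin [Fact p.Prime] (hS : IsPGroup p S) (hF : F.IsSaturated p)
    {K : Subgroup Ω → (Ω → Ω) → Prop} (hK : IsClosedClass F K)
    (hgen : ∀ R : Subgroup Ω, (R = S ∨ F.IsEssential p R) → ∀ α ∈ F.autGroup R, K R (av α)) :
    ∀ (P : Subgroup Ω) (f : Ω → Ω), Map F P f → K P f := by
  suffices ∀ n : ℕ, ∀ (P : Subgroup Ω) (f : Ω → Ω), Nat.card S - Nat.card P = n → Map F P f → K P f from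
    fun P f h => this _ P f rfl h
  intro n
  induction n using Nat.strong_induction_on with
  | _ n ih =>
  intro P f hn hf
  rcases eq_or_lt_of_le hf.le with hPS | hlt
  · have hi : im P f = P := by
      subst hPS
      exact Subgroup.eq_of_le_of_card_ge hf.im_le hf.card_im.ge
    obtain ⟨α, hα, hαf⟩ := exists_aut hf hi
    exact hK.congr (hgen P (Or.inl hPS) α hα) hαf
  have hQS : im P f < S := lt_of_le_of_ne hf.im_le fun he => by
    have := card_lt_of_lt hlt le_rfl
    rw [← hf.card_im, he] at this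
    omega
  have hPQ : F.IsConj P (im P f) := isConj_iff.2 ⟨f, hf, rfl⟩
  obtain ⟨R, hPR, hR⟩ := exists_fullyNormalized (F := F) hf.le
  have hbig : ∀ X : Subgroup Ω, Nat.card X = Nat.card P → X < S →
      ∀ Y g, Map F Y g → X < Y → K Y g := by
    intro X hX hXS Y g hg hXY
    refine ih _ ?_ Y g rfl hg
    have h1 := card_lt_of_lt hXY hg.le
    have h2 := Subgroup.card_le_of_le hg.le
    omega
  obtain ⟨u, hu, hum, hui⟩ := exists_map_normalizer_fn hS hF hR hPR
  obtain ⟨v, hv, hvm, hvi⟩ := exists_map_normalizer_fn hS hF hR (isConj_trans (isConj_symm hPQ) hPR)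
  have hKu : K P u := hK.restrict hu (hbig P rfl hlt _ _ hu (lt_normalizerIn hS hlt)) (le_normalizerIn hf.le)
  have hKv : K (im P f) v := hK.restrict hv (hbig _ hf.card_im hQS _ _ hv (lt_normalizerIn hS hQS))
    (le_normalizerIn hf.im_le)
  have hu' := hu.restrict (le_normalizerIn hf.le)
  have hv' := hv.restrict (le_normalizerIn hf.im_le)
  obtain ⟨u', hu'm, hu'u, huu', hu'i⟩ := hu'.exists_inv
  obtain ⟨v', hv'm, hv'v, hvv', hv'i⟩ := hv'.exists_inv
  rw [hui] at hu'm huu' hu'i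
  rw [hvi] at hv'm hvv' hv'i
  have hKu' : K R u' := hui ▸ hK.inv hu' hKu hu'u
  have hKv' : K R v' := hvi ▸ hK.inv hv' hKv hv'v
  -- the automorphism of R
  have hm1 : Map F R (f ∘ u') := hu'm.comp hf fun y hy => (huu' y hy).2
  have hm1' : ∀ y ∈ R, (f ∘ u') y ∈ im P f := fun y hy => mem_im_of_mem (huu' y hy).2
  have hm2 : Map F R (v ∘ (f ∘ u')) := hm1.comp hv' hm1'
  have hi : im R (v ∘ (f ∘ u')) = R := by
    rw [hm1.im_comp, hu'm.im_comp, hu'i, hvi]
  obtain ⟨α, hα, hαm⟩ := exists_aut hm2 hi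
  have hRlt : R < S := lt_of_le_of_ne hR.1 fun he => by
    have := card_lt_of_lt hlt le_rfl
    rw [isConj_card hPR, he] at this
    omega
  have hKα : K R (av α) := by
    by_cases hE : F.IsEssential p R
    · exact hgen R (Or.inr hE) α hα
    rw [← autGroup_eq_closure_of_not_essential hS hF hRlt hR hE] at hα
    have key : Map F R (av α) ∧ K R (av α) := by
      clear hαm
      induction hα using Subgroup.closure_induction with
      | mem β hβ =>
        obtain ⟨Y, hY, g, hg, hgβ⟩ := hβ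
        exact ⟨(hg.restrict hY.le).congr hgβ,
          hK.congr (hK.restrict hg (hbig R (isConj_card hPR).symm hRlt Y g hg hY) hY.le) hgβ⟩
      | one =>
        have h1 : Map F R u' := hu'm
        have h2 : K (im R u') (fun x => u x) := hK.inv h1 hKu' fun y hy => (huu' y hy).1
        rw [hu'i] at h2
        exact ⟨(map_id hR.1).congr fun x hx => (av_one hx).symm,
          hK.congr (hK.comp h1 hu' hKu' h2 fun y hy => (huu' y hy).2)
            fun x hx => (huu' x hx).1.trans (av_one hx).symm⟩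
      | mul β γ _ _ ihb ihg =>
        exact ⟨(ihg.1.comp ihb.1 fun x hx => av_mem γ hx).congr fun x hx => (av_mul β γ hx).symm,
          hK.congr (hK.comp ihg.1 ihb.1 ihg.2 ihb.2 fun x hx => av_mem γ hx)
            fun x hx => (av_mul β γ hx).symm⟩
      | inv β _ ihb =>
        obtain ⟨g, hg, hgβ, hβg, -⟩ := ihb.1.exists_inv
        have h2 := hK.inv ihb.1 ihb.2 hgβ
        rw [im_av] at h2 hg hβg
        have he : ∀ x ∈ R, g x = av β⁻¹ x := fun x hx => by
          have := hgβ _ (av_mem β⁻¹ hx)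
          rwa [av_av_inv β hx] at this
        exact ⟨hg.congr he, hK.congr h2 he⟩
    exact key.2
  -- reassemble
  have hmem : ∀ x ∈ P, u x ∈ R := fun x hx => hui.le (mem_im_of_mem hx)
  have hαM : Map F R (av α) := hm2.congr fun x hx => (hαm x hx).symm
  have h3 : K P (av α ∘ u) := hK.comp hu' hαM hKu hKα hmem
  have h4 := hK.comp (hu'.comp hαM hmem) hv'm h3 hKv' fun x hx => av_mem α (hmem x hx)
  refine hK.congr h4 fun x hx => ?_
  show v' (av α (u x)) = f x
  rw [hαm _ (hmem x hx)]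
  show v' (v (f (u' (u x)))) = f x
  rw [hu'u x hx, hv'v _ (mem_im_of_mem hx)]

theorem isClosedClass_map (E : FusionSystem S) : IsClosedClass F (fun P f => Map E P f) where
  congr h he := h.congr he
  restrict _ h hR := h.restrict hR
  comp _ _ h h' hm := h.comp h' hm
  inv _ h hg := by
    obtain ⟨g', hg', hg'f, -, -⟩ := h.exists_inv
    refine hg'.congr fun y hy => ?_
    obtain ⟨x, hx, rfl⟩ := h.mem_im.1 hy
    rw [hg'f x hx, hg x hx]

end Cfsg.Agent.Local.FS
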