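import Cfsg.Agent.Lib.Local.FS.Series
import Cfsg.Agent.Lib.Local.FS.Group
import Cfsg.Prelude.Def_FusionComponents

/-!
Transport of fusion system notions along an isomorphism of fusion systems given by an injective
homomorphism on `S`.
-/

set_option autoImplicit false

namespace Cfsg.Agent.Local.FS

open Cfsg Cfsg.FusionSystem Cfsg.Agent.Fusion

universe u v

variable {Ω : Type u} [Group Ω] {Ω' : Type v} [Group Ω'] {S : Subgroup Ω} {S' : Subgroup Ω'}

/-- The homomorphism `i` on `S`, extended by `1`. -/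
noncomputable def ue (i : S →* Ω') : Ω → Ω' := Function.extend Subtype.val i 1

/-- An inverse of `i` on its image. -/
noncomputable def ve (i : S →* Ω') : Ω' → Ω := fun y => ((Function.invFun i y : S) : Ω)

variable {i : S →* Ω'} {P Q : Subgroup Ω} {P' : Subgroup Ω'}

theorem ue_coe (x : S) : ue i x = i x := Subtype.val_injective.extend_apply _ _ x

theorem ue_apply {x : Ω} (hx : x ∈ S) : ue i x = i ⟨x, hx⟩ := ue_coe ⟨x, hx⟩

theorem ue_mul {x y : Ω} (hx : x ∈ S) (hy : y ∈ S) : ue i (x * y) = ue i x * ue i y := by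
  rw [ue_apply hx, ue_apply hy, ue_apply (S.mul_mem hx hy), ← map_mul]; rfl

theorem ue_inv {x : Ω} (hx : x ∈ S) : ue i x⁻¹ = (ue i x)⁻¹ := by
  rw [ue_apply hx, ue_apply (S.inv_mem hx), ← map_inv]; rfl

theorem ue_conj {x y : Ω} (hx : x ∈ S) (hy : y ∈ S) :
    ue i (x * y * x⁻¹) = ue i x * ue i y * (ue i x)⁻¹ := by
  rw [ue_mul (S.mul_mem hx hy) (S.inv_mem hx), ue_mul hx hy, ue_inv hx]

theorem ve_mem {y : Ω'} : ve i y ∈ S := SetLike.coe_mem _

/-- The image of a subgroup. -/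
abbrev up (i : S →* Ω') (P : Subgroup Ω) : Subgroup Ω' := imageAlong i P

theorem mem_up (hP : P ≤ S) {y : Ω'} : y ∈ up i P ↔ ∃ x ∈ P, ue i x = y := by
  constructor
  · rintro ⟨x, hx, rfl⟩; exact ⟨x, hx, ue_coe x⟩
  · rintro ⟨x, hx, rfl⟩; exact ⟨⟨x, hP hx⟩, hx, (ue_apply (hP hx)).symm⟩

theorem ue_mem_up (hP : P ≤ S) {x : Ω} (hx : x ∈ P) : ue i x ∈ up i P := (mem_up hP).2 ⟨x, hx, rfl⟩

/-- An isomorphism of fusion systems. -/
structure FIso (F : FusionSystem S) (F' : FusionSystem S') (i : S →* Ω') : Prop where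
  inj : Function.Injective i
  range_eq : i.range = S'
  map_iff : ∀ (P : Subgroup Ω), P ≤ S → ∀ f : Ω → Ω, (∀ x ∈ P, f x ∈ S) →
    (Map F P f ↔ Map F' (up i P) (fun y => ue i (f (ve i y))))

variable {F : FusionSystem S} {F' : FusionSystem S'} (h : FIso F F' i)
include h

theorem FIso.ve_ue {x : Ω} (hx : x ∈ S) : ve i (ue i x) = x := by
  rw [ue_apply hx, ve, Function.leftInverse_invFun h.inj ⟨x, hx⟩]

theorem FIso.ue_ve {y : Ω'} (hy : y ∈ S') : ue i (ve i y) = y := by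
  obtain ⟨x, rfl⟩ := h.range_eq.ge hy
  rw [ve, Function.leftInverse_invFun h.inj x, ue_coe]

theorem FIso.ue_mem {x : Ω} (hx : x ∈ S) : ue i x ∈ S' := h.range_eq ▸ ⟨⟨x, hx⟩, (ue_apply hx).symm⟩

theorem FIso.ue_inj {x y : Ω} (hx : x ∈ S) (hy : y ∈ S) (he : ue i x = ue i y) : x = y := by
  rw [← h.ve_ue hx, he, h.ve_ue hy]

theorem FIso.up_le : up i P ≤ S' := by
  rintro _ ⟨x, -, rfl⟩
  exact h.range_eq ▸ ⟨x, rfl⟩

theorem FIso.mem_up_iff (hP : P ≤ S) {x : Ω} (hx : x ∈ S) : ue i x ∈ up i P ↔ x ∈ P := by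
  refine ⟨fun hm => ?_, ue_mem_up hP⟩
  obtain ⟨y, hy, he⟩ := (mem_up hP).1 hm
  exact h.ue_inj (hP hy) hx he ▸ hy

theorem FIso.up_preimage (hP' : P' ≤ S') : up i (preimageAlong i P') = P' := by
  ext y
  constructor
  · rintro ⟨x, hx, rfl⟩
    obtain ⟨z, hz, he⟩ := hx
    exact (Subtype.ext he : z = x) ▸ hz
  · intro hy
    obtain ⟨x, rfl⟩ := h.range_eq.ge (hP' hy)
    exact ⟨x, ⟨x, hy, rfl⟩, rfl⟩

omit h in
theorem preimage_le (P' : Subgroup Ω') : preimageAlong i P' ≤ S := Subgroup.map_subtype_le _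

theorem FIso.up_inj (hP : P ≤ S) (hQ : Q ≤ S) (he : up i P = up i Q) : P = Q := by
  ext x
  constructor
  · intro hx; exact (h.mem_up_iff hQ (hP hx)).1 (he ▸ ue_mem_up hP hx)
  · intro hx; exact (h.mem_up_iff hP (hQ hx)).1 (he.symm ▸ ue_mem_up hQ hx)

theorem FIso.card_up (hP : P ≤ S) : Nat.card ↥(up i P) = Nat.card P := by
  rw [up, imageAlong, Subgroup.card_map_of_injective h.inj,
    Nat.card_congr (Subgroup.subgroupOfEquivOfLe hP).toEquiv]

theorem FIso.map_up {f : Ω → Ω} (hf : Map F P f) :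
    Map F' (up i P) (fun y => ue i (f (ve i y))) :=
  (h.map_iff P hf.le f fun _ hx => hf.mem hx).1 hf

theorem FIso.map_down {g : Ω' → Ω'} (hP : P ≤ S) (hg : Map F' (up i P) g) :
    Map F P (fun x => ve i (g (ue i x))) := by
  refine (h.map_iff P hP _ fun _ _ => ve_mem).2 (hg.congr fun y hy => ?_)
  obtain ⟨x, hx, rfl⟩ := (mem_up hP).1 hy
  show g _ = ue i (ve i (g (ue i (ve i (ue i x)))))
  rw [h.ve_ue (hP hx), h.ue_ve (hg.mem (ue_mem_up hP hx))]

theorem FIso.im_up {f : Ω → Ω} (hf : Map F P f) :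
    im (up i P) (fun y => ue i (f (ve i y))) = up i (im P f) := by
  refine (h.map_up hf).im_eq (fun y hy => ?_) fun y hy => ?_
  · obtain ⟨x, hx, rfl⟩ := (mem_up hf.le).1 hy
    show ue i (f (ve i (ue i x))) ∈ _
    rw [h.ve_ue (hf.le hx)]
    exact ue_mem_up hf.im_le (mem_im_of_mem hx)
  · obtain ⟨z, hz, rfl⟩ := (mem_up hf.im_le).1 hy
    obtain ⟨x, hx, rfl⟩ := hf.mem_im.1 hz
    exact ⟨ue i x, ue_mem_up hf.le hx, by rw [h.ve_ue (hf.le hx)]⟩

theorem FIso.isConj_iff_up (hP : P ≤ S) (hQ : Q ≤ S) :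
    F.IsConj P Q ↔ F'.IsConj (up i P) (up i Q) := by
  rw [isConj_iff, isConj_iff]
  constructor
  · rintro ⟨f, hf, rfl⟩
    exact ⟨_, h.map_up hf, h.im_up hf⟩
  · rintro ⟨g, hg, hi⟩
    have hf := h.map_down hP hg
    refine ⟨_, hf, h.up_inj hf.im_le hQ ?_⟩
    rw [← h.im_up hf, ← hi]
    refine im_congr fun y hy => ?_
    obtain ⟨x, hx, rfl⟩ := (mem_up hP).1 hy
    show ue i (ve i (g (ue i (ve i (ue i x))))) = _
    rw [h.ve_ue (hP hx), h.ue_ve (hg.mem (ue_mem_up hP hx))]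

theorem FIso.mem_normalizer_iff (hP : P ≤ S) {s : Ω} (hs : s ∈ S) :
    ue i s ∈ Subgroup.normalizer ((up i P : Subgroup Ω') : Set Ω') ↔
      s ∈ Subgroup.normalizer (P : Set Ω) := by
  constructor <;> intro hn <;> refine Subgroup.mem_normalizer_iff.2 fun y => ?_
  · constructor
    · intro hy
      have h1 := conj_mem_of_normalizer hn (ue_mem_up (i := i) hP hy)
      rw [← ue_conj hs (hP hy)] at h1
      exact (h.mem_up_iff hP (S.mul_mem (S.mul_mem hs (hP hy)) (S.inv_mem hs))).1 h1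
    · intro hy
      have hy' : y ∈ S := by simpa [mul_assoc] using S.mul_mem (S.mul_mem (S.inv_mem hs) (hP hy)) hs
      have h1 := ue_mem_up (i := i) hP hy
      rw [ue_conj hs hy'] at h1
      exact (h.mem_up_iff hP hy').1 ((Subgroup.mem_normalizer_iff.1 hn _).2 h1)
  · constructor
    · intro hy
      obtain ⟨x, hx, rfl⟩ := (mem_up hP).1 hy
      rw [← ue_conj hs (hP hx)]
      exact ue_mem_up hP (conj_mem_of_normalizer hn hx)
    · intro hy
      obtain ⟨x, hx, he⟩ := (mem_up hP).1 hy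
      have hx' : s⁻¹ * x * s ∈ P := by simpa using conj_mem_of_normalizer (Subgroup.inv_mem _ hn) hx
      have h2 : ue i (s⁻¹ * x * s) = y := by
        rw [show s⁻¹ * x * s = s⁻¹ * x * s⁻¹⁻¹ by group, ue_conj (S.inv_mem hs) (hP hx), he, ue_inv hs]
        group
      exact h2 ▸ ue_mem_up hP hx'

theorem FIso.up_normalizerIn (hP : P ≤ S) :
    up i (normalizerIn S P) = normalizerIn S' (up i P) := by
  ext y
  constructor
  · intro hy
    obtain ⟨x, hx, rfl⟩ := (mem_up inf_le_left).1 hy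
    exact ⟨h.ue_mem hx.1, (h.mem_normalizer_iff hP hx.1).2 hx.2⟩
  · rintro ⟨hy, hn⟩
    obtain ⟨⟨x, hx⟩, rfl⟩ := h.range_eq.ge hy
    rw [← ue_apply (i := i) hx] at hn ⊢
    exact ue_mem_up inf_le_left ⟨hx, (h.mem_normalizer_iff hP hx).1 hn⟩

theorem FIso.up_centralizerIn (hP : P ≤ S) :
    up i (centralizerIn S P) = centralizerIn S' (up i P) := by
  ext y
  constructor
  · intro hy
    obtain ⟨x, hx, rfl⟩ := (mem_up inf_le_left).1 hy
    obtain ⟨hxS, hc⟩ := mem_centralizerIn.1 hx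
    refine mem_centralizerIn.2 ⟨h.ue_mem hxS, fun z hz => ?_⟩
    obtain ⟨w, hw, rfl⟩ := (mem_up hP).1 hz
    rw [← ue_mul (hP hw) hxS, hc w hw, ue_mul hxS (hP hw)]
  · intro hy
    obtain ⟨hyS, hc⟩ := mem_centralizerIn.1 hy
    obtain ⟨⟨x, hx⟩, rfl⟩ := h.range_eq.ge hyS
    rw [← ue_apply (i := i) hx] at hc ⊢
    refine ue_mem_up inf_le_left (mem_centralizerIn.2 ⟨hx, fun w hw => ?_⟩)
    have h1 := hc _ (ue_mem_up hP hw)
    rw [← ue_mul (hP hw) hx, ← ue_mul hx (hP hw)] at h1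
    exact h.ue_inj (S.mul_mem (hP hw) hx) (S.mul_mem hx (hP hw)) h1

theorem FIso.conj_up_left (hP : P ≤ S) {R' : Subgroup Ω'} (hR : F'.IsConj (up i P) R') :
    ∃ R, F.IsConj P R ∧ up i R = R' :=
  have hR' := (isConj_le hR).2
  ⟨preimageAlong i R', (h.isConj_iff_up hP (preimage_le R')).2 ((h.up_preimage hR').symm ▸ hR),
    h.up_preimage hR'⟩

theorem FIso.fn_up (hP : F.IsFullyNormalized P) : F'.IsFullyNormalized (up i P) := by
  refine ⟨h.up_le, fun R' hR' => ?_⟩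
  obtain ⟨R, hR, rfl⟩ := h.conj_up_left hP.1 hR'
  rw [← h.up_normalizerIn hP.1, ← h.up_normalizerIn (isConj_le hR).2,
    h.card_up (P := normalizerIn S P) inf_le_left, h.card_up (P := normalizerIn S R) inf_le_left]
  exact hP.2 R hR

theorem FIso.centric_iff (hP : P ≤ S) : F.IsCentric P ↔ F'.IsCentric (up i P) := by
  constructor
  · intro hc
    refine ⟨h.up_le, fun R' hR' => ?_⟩
    obtain ⟨R, hR, rfl⟩ := h.conj_up_left hP hR'
    have hRS := (isConj_le hR).2
    rw [← h.up_centralizerIn hRS]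
    exact Subgroup.map_mono (Subgroup.comap_mono (hc.2 R hR))
  · intro hc
    refine ⟨hP, fun R hR => ?_⟩
    have hRS := (isConj_le hR).2
    intro x hx
    have h1 := hc.2 _ ((h.isConj_iff_up hP hRS).1 hR)
    rw [← h.up_centralizerIn hRS] at h1
    exact (h.mem_up_iff hRS hx.1).1 (h1 (ue_mem_up inf_le_left hx))

theorem FIso.receptive_of_up (hP : P ≤ S) (hr : F'.IsReceptive (up i P)) : F.IsReceptive P := by
  refine receptive_iff.2 ⟨hP, fun X f hf hi => ?_⟩
  obtain ⟨g, hg, hgf⟩ := (receptive_iff.1 hr).2 (up i X) _ (h.map_up hf) (by rw [h.im_up hf, hi])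
  have hle : up i (Nf S X f) ≤ Nf S' (up i X) (fun y => ue i (f (ve i y))) := by
    intro y hy
    obtain ⟨a, ⟨haS, han, c, hc, hac⟩, rfl⟩ := (mem_up (Nf_le.trans inf_le_left)).1 hy
    refine ⟨h.ue_mem haS, (h.mem_normalizer_iff hf.le haS).2 han, ue i c, h.ue_mem hc, fun z hz => ?_⟩
    obtain ⟨x, hx, rfl⟩ := (mem_up hf.le).1 hz
    show ue i (f (ve i (ue i a * ue i x * (ue i a)⁻¹))) = ue i c * ue i (f (ve i (ue i x))) * (ue i c)⁻¹
    rw [← ue_conj haS (hf.le hx), h.ve_ue (S.mul_mem (S.mul_mem haS (hf.le hx)) (S.inv_mem haS)),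
      h.ve_ue (hf.le hx), hac x hx, ue_conj hc (hf.mem hx)]
  refine ⟨_, h.map_down (Nf_le.trans inf_le_left) (hg.restrict hle), fun x hx => ?_⟩
  show ve i (g (ue i x)) = f x
  rw [hgf _ (ue_mem_up hf.le hx)]
  show ve i (ue i (f (ve i (ue i x)))) = f x
  rw [h.ve_ue (hf.le hx), h.ve_ue (hf.mem hx)]

theorem FIso.fa_self [Finite S] {p : ℕ} [Fact p.Prime] (hfa : F'.IsFullyAutomized p S') :
    F.IsFullyAutomized p S := by
  haveI : Finite S' := h.range_eq ▸ Finite.of_surjective i.rangeRestrict i.rangeRestrict_surjective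
  haveI := mulAut_finite_of_le (le_refl S')
  haveI := mulAut_finite_of_le (le_refl S)
  let e : S ≃* S' := (MonoidHom.ofInjective h.inj).trans (MulEquiv.subgroupCongr h.range_eq)
  have he : ∀ x : S, (e x : Ω') = i x := fun x => rfl
  have hev : ∀ (α : MulAut S) {y : Ω'} (hy : y ∈ S'),
      av (MulAut.congr e α) y = ue i (av α (ve i y)) := by
    intro α y hy
    obtain ⟨x, rfl⟩ := h.range_eq.ge hy
    rw [av_apply _ hy, show ve i (i x) = x by rw [← ue_coe (i := i) x, h.ve_ue x.2], av_coe, ue_coe]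
    show ((e (α (e.symm ⟨i x, hy⟩)) : S') : Ω') = _
    rw [show (⟨i x, hy⟩ : S') = e x from Subtype.ext (he x).symm, e.symm_apply_apply, he]
  have hupS : up i S = S' := by
    refine le_antisymm h.up_le fun y hy => ?_
    obtain ⟨x, rfl⟩ := h.range_eq.ge hy
    exact ⟨x, x.2, rfl⟩
  have hA : (F.autGroup S).map (MulAut.congr e).toMonoidHom = F'.autGroup S' := by
    ext β
    obtain ⟨α, rfl⟩ := (MulAut.congr e).surjective β
    rw [show (MulAut.congr e) α = (MulAut.congr e).toMonoidHom α from rfl,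
      Subgroup.mem_map_iff_mem (f := (MulAut.congr e).toMonoidHom) (MulAut.congr e).injective, mem_autGroup_iff le_rfl,
      mem_autGroup_iff le_rfl, h.map_iff S le_rfl (av α) fun x hx => av_mem α hx, hupS]
    exact ⟨fun hm => hm.congr fun y hy => (hev α hy).symm, fun hm => hm.congr fun y hy => hev α hy⟩
  have hB : (autInducedBy S S).map (MulAut.congr e).toMonoidHom = autInducedBy S' S' := by
    ext β
    obtain ⟨α, rfl⟩ := (MulAut.congr e).surjective β
    rw [show (MulAut.congr e) α = (MulAut.congr e).toMonoidHom α from rfl,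
      Subgroup.mem_map_iff_mem (f := (MulAut.congr e).toMonoidHom) (MulAut.congr e).injective, mem_autInducedBy, mem_autInducedBy]
    constructor
    · rintro ⟨g, hg, hgα⟩
      refine ⟨ue i g, h.ue_mem hg, fun y hy => ?_⟩
      show av (MulAut.congr e α) y = _
      rw [hev α hy, hgα _ ve_mem, ue_conj hg ve_mem, h.ue_ve hy]
    · rintro ⟨g, hg, hgα⟩
      refine ⟨ve i g, ve_mem, fun x hx => h.ue_inj (av_mem α hx) ?_ ?_⟩
      · exact S.mul_mem (S.mul_mem ve_mem hx) (S.inv_mem ve_mem)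
      · have h1 := hgα _ (h.ue_mem hx)
        change av (MulAut.congr e α) (ue i x) = _ at h1
        rw [hev α (h.ue_mem hx), h.ve_ue hx] at h1
        rw [h1, ue_conj ve_mem hx, h.ue_ve hg]
  obtain ⟨hle, hp, hd⟩ := (fa_iff.1 hfa).2
  rw [← hA, ← hB] at hle hd
  rw [← hB] at hp
  refine fa_iff.2 ⟨le_rfl, autInducedBy_le_autGroup le_rfl, ?_, ?_⟩
  · exact hp.of_equiv ((autInducedBy S S).equivMapOfInjective _ (MulAut.congr e).injective).symm
  · rwa [Subgroup.relIndex_map_map_of_injective _ _ (MulAut.congr e).injective] at hd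

theorem FIso.saturated [Finite S] {p : ℕ} [Fact p.Prime] (hS : IsPGroup p S) (hF' : F'.IsSaturated p) :
    F.IsSaturated p := by
  haveI : Finite S' := h.range_eq ▸ Finite.of_surjective i.rangeRestrict i.rangeRestrict_surjective
  have hS' : IsPGroup p S' := h.range_eq ▸ hS.of_surjective i.rangeRestrict i.rangeRestrict_surjective
  refine saturated_of_fn hS (h.fa_self (fc_fa_of_fn hS' hF' (fn_self (F := F'))).2) fun P hP => ?_
  exact h.receptive_of_up hP.1 (receptive_of_fc hS' hF' (fc_fa_of_fn hS' hF' (h.fn_up hP)).1)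

theorem FIso.normal_of_up (hQ : Q ≤ S) (hn : F'.IsNormal (up i Q)) : F.IsNormal Q := by
  refine normal_iff.2 ⟨hQ, fun P f hf => ?_⟩
  obtain ⟨g, hg, hgf, hgQ⟩ := (normal_iff.1 hn).2 _ _ (h.map_up hf)
  have hPQ : P ⊔ Q ≤ S := sup_le hf.le hQ
  have hsup : up i (P ⊔ Q) = up i P ⊔ up i Q := by
    rw [up, up, up, imageAlong, imageAlong, imageAlong, Subgroup.subgroupOf_sup hf.le hQ, Subgroup.map_sup]
  rw [← hsup] at hg
  have hd := h.map_down hPQ hg
  refine ⟨_, hd, fun x hx => ?_, h.up_inj (hd.restrict le_sup_right).im_le hQ ?_⟩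
  · show ve i (g (ue i x)) = f x
    rw [hgf _ (ue_mem_up hf.le hx)]
    show ve i (ue i (f (ve i (ue i x)))) = f x
    rw [h.ve_ue (hf.le hx), h.ve_ue (hf.mem hx)]
  · rw [← h.im_up (hd.restrict le_sup_right)]
    refine (im_congr fun y hy => ?_).trans hgQ
    obtain ⟨x, hx, rfl⟩ := (mem_up hQ).1 hy
    show ue i (ve i (g (ue i (ve i (ue i x))))) = _
    rw [h.ve_ue (hQ hx), h.ue_ve (hg.mem (ue_mem_up hPQ (Subgroup.mem_sup_right hx)))]

omit h

/-- A realized system is isomorphic to the fusion system of the group. -/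
theorem fiso_of_realized {G : Type v} [Group G] {ι : S →* G} (hr : F.IsRealizedBy ι) :
    FIso F (groupFusionSystem ι.range) ι := by
  refine ⟨hr.1, rfl, fun P hP f hm => ⟨fun hf => ?_, fun hg => ?_⟩⟩
  · obtain ⟨φ, hφ, he⟩ := hf
    obtain ⟨g, hg⟩ := (hr.2 P hP φ fun x => (F.le_of_mem hφ).2 x).1 hφ
    refine map_group_iff.2 ⟨?_, fun y _ => ?_, g, fun y hy => ?_⟩
    · rintro _ ⟨x, -, rfl⟩; exact ⟨x, rfl⟩
    · by_cases hy' : f (ve ι y) ∈ S
      · exact ⟨⟨_, hy'⟩, (ue_apply hy').symm⟩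
      · rw [ue, Function.extend_apply' _ _ _ (fun ⟨a, ha⟩ => hy' (ha ▸ a.2))]
        exact Subgroup.one_mem _
    · obtain ⟨x, hx, rfl⟩ := (mem_up hP).1 hy
      have hv : ve ι (ue ι x) = x := by
        rw [ue_apply (hP hx), ve, Function.leftInverse_invFun hr.1 ⟨x, hP hx⟩]
      rw [hv, ue_apply (hm x hx), ue_apply (hP hx), ← hg ⟨x, hx⟩]
      exact congrArg ι (Subtype.ext (he ⟨x, hx⟩).symm)
  · obtain ⟨-, -, g, hg⟩ := map_group_iff.1 hg
    have hval : ∀ x : P, ι ⟨f x, hm x x.2⟩ = g * ι ⟨x, hP x.2⟩ * g⁻¹ := by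
      intro x
      have h1 := hg _ (ue_mem_up hP x.2)
      have hv : ve ι (ue ι (x : Ω)) = x := by
        rw [ue_apply (hP x.2), ve, Function.leftInverse_invFun hr.1 ⟨x, hP x.2⟩]
      rwa [hv, ue_apply (hm x x.2), ue_apply (hP x.2)] at h1
    let φ : P →* Ω := MonoidHom.mk' (fun x => f x) fun x y => by
      refine congrArg Subtype.val (hr.1 (?_ : ι ⟨f ↑(x * y), hm _ (x * y).2⟩ = ι (⟨f x, hm x x.2⟩ * ⟨f y, hm y y.2⟩)))
      rw [map_mul, hval, hval, hval]
      rw [show (⟨((x * y : P) : Ω), hP (x * y).2⟩ : S) = ⟨x, hP x.2⟩ * ⟨y, hP y.2⟩ from rfl, map_mul]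
      group
    exact ⟨φ, (hr.2 P hP φ fun x => hm x x.2).2 ⟨g, hval⟩, fun x => rfl⟩

end Cfsg.Agent.Local.FS

namespace Cfsg.Agent.Local.FS

open Cfsg Cfsg.FusionSystem Cfsg.Agent.Fusion

/-- A normal `p`-subgroup of `G` inside `T` is normal in the fusion system of `G` on `T`. -/
theorem normal_group_of_normal {G : Type*} [Group G] {T N : Subgroup G} [N.Normal] (hNT : N ≤ T) :
    (groupFusionSystem T).IsNormal N := by
  refine normal_iff.2 ⟨hNT, fun P f hf => ?_⟩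
  obtain ⟨hP, hm, g, hg⟩ := map_group_iff.1 hf
  have hmem : ∀ x ∈ P ⊔ N, g * x * g⁻¹ ∈ T := by
    intro x hx
    have h1 : P ⊔ N ≤ (T.comap (MulAut.conj g).toMonoidHom) := sup_le
      (fun y hy => by show g * y * g⁻¹ ∈ T; exact hg y hy ▸ hm y hy)
      (fun y hy => hNT (Subgroup.Normal.conj_mem inferInstance y hy g))
    exact h1 hx
  have hM : Map (groupFusionSystem T) (P ⊔ N) (fun x => g * x * g⁻¹) :=
    map_group_iff.2 ⟨sup_le hP hNT, hmem, g, fun _ _ => rfl⟩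
  refine ⟨_, hM, fun x hx => (hg x hx).symm, ?_⟩
  rw [im_conj, cj_of_normal]

theorem model_core_le {Ω : Type*} [Group Ω] {S : Subgroup Ω} {F : FusionSystem S} {p : ℕ}
    {G : Type*} [Group G] {ι : S →* G} (hG : F.IsModel p G ι) : pCore p G ≤ ι.range := by
  obtain ⟨_, -, ⟨T, hT⟩, -⟩ := hG
  exact hT ▸ pCore_le_sylow T

theorem model_normal_centric {Ω : Type*} [Group Ω] {S : Subgroup Ω} {F : FusionSystem S} {p : ℕ}
    {G : Type*} [Group G] {ι : S →* G} (hG : F.IsModel p G ι) :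
    F.IsNormal (preimageAlong ι (pCore p G)) ∧ F.IsCentric (preimageAlong ι (pCore p G)) := by
  obtain ⟨_, hr, -, hC⟩ := id hG
  have hle := model_core_le hG
  have h := fiso_of_realized hr
  have hup := h.up_preimage hle
  refine ⟨h.normal_of_up (preimage_le _) (by rw [hup]; exact normal_group_of_normal hle),
    (h.centric_iff (preimage_le _)).2 ?_⟩
  rw [hup]
  refine ⟨hle, fun R hR => ?_⟩
  obtain ⟨-, -, g, rfl⟩ := isConj_group_iff.1 hR
  rw [cj_of_normal]
  exact inf_le_right.trans hC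

end Cfsg.Agent.Local.FS
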