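import Cfsg.Agent.Lib.Local.FS.Products
import Cfsg.Agent.Lib.Local.FS.Transport
import Cfsg.Agent.Lib.Local.FS.Quotient
import Cfsg.Prelude.Def_FusionComponents

/-!
Factor systems: correspondence of maps, conjugacy, automisers, and saturation.
-/

set_option autoImplicit false

namespace Cfsg.Agent.Local.FS

open Cfsg Cfsg.FusionSystem Cfsg.Agent.Fusion

variable {Ω : Type*} [Group Ω] {S : Subgroup Ω} {F : FusionSystem S} {T : Subgroup Ω}
  {Ω' : Type*} [Group Ω'] {S' : Subgroup Ω'} {θ : S →* Ω'} {E : FusionSystem S'}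
  {P' Q' R' : Subgroup Ω'} {x y : Ω}

section Basic

variable [Finite S] (hE : F.IsFactorSystem T θ E)
include hE

theorem fac_ue_mem (hx : x ∈ S) : ue θ x ∈ S' := hE.2.2.1 ▸ ⟨⟨x, hx⟩, (ue_apply hx).symm⟩

theorem fac_ue_eq_one (hx : x ∈ S) : ue θ x = 1 ↔ x ∈ T := by
  rw [ue_apply hx]; exact hE.2.1 _

omit hE in
theorem fac_mem_pre : x ∈ preimageAlong θ P' ↔ x ∈ S ∧ ue θ x ∈ P' := by
  rw [mem_preimageAlong]
  exact ⟨fun ⟨h, h'⟩ => ⟨h, ue_apply (i := θ) h ▸ h'⟩, fun ⟨h, h'⟩ => ⟨h, ue_apply (i := θ) h ▸ h'⟩⟩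

theorem fac_le_pre : T ≤ preimageAlong θ P' := le_preimageAlong hE.1 hE.2.1 P'

theorem fac_ue_ve {a : Ω'} (ha : a ∈ S') : ue θ (ve θ a) = a := by
  obtain ⟨s, hs⟩ := hE.2.2.1.ge ha
  rw [ue_apply (i := θ) ve_mem]
  exact Function.invFun_eq ⟨s, hs⟩

theorem fac_exists_pre (hP' : P' ≤ S') {a : Ω'} (ha : a ∈ P') :
    ∃ x ∈ preimageAlong θ P', ue θ x = a :=
  ⟨ve θ a, fac_mem_pre.2 ⟨ve_mem, (fac_ue_ve hE (hP' ha)).symm ▸ ha⟩, fac_ue_ve hE (hP' ha)⟩

theorem fac_pre_le_iff (hP' : P' ≤ S') : preimageAlong θ P' ≤ preimageAlong θ Q' ↔ P' ≤ Q' := by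
  refine ⟨fun h a ha => ?_, fun h x hx => fac_mem_pre.2 ⟨(fac_mem_pre.1 hx).1, h (fac_mem_pre.1 hx).2⟩⟩
  obtain ⟨x, hx, rfl⟩ := fac_exists_pre hE hP' ha
  exact (fac_mem_pre.1 (h hx)).2

theorem fac_pre_inj (hP' : P' ≤ S') (hQ' : Q' ≤ S') (h : preimageAlong θ P' = preimageAlong θ Q') : P' = Q' :=
  le_antisymm ((fac_pre_le_iff hE hP').1 h.le) ((fac_pre_le_iff hE hQ').1 h.ge)

theorem fac_pre_up {P : Subgroup Ω} (hP : P ≤ S) : preimageAlong θ (imageAlong θ P) = P ⊔ T := by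
  refine le_antisymm (fun x hx => ?_) (sup_le (fun x hx => ?_) (fac_le_pre hE))
  · obtain ⟨hxS, hx'⟩ := fac_mem_pre.1 hx
    obtain ⟨y, hy, he⟩ := (mem_up (i := θ) hP).1 hx'
    have h1 : ue θ (y⁻¹ * x) = 1 := by
      rw [ue_mul (S.inv_mem (hP hy)) hxS, ue_inv (hP hy), he, inv_mul_cancel]
    simpa using Subgroup.mul_mem_sup hy ((fac_ue_eq_one hE (S.mul_mem (S.inv_mem (hP hy)) hxS)).1 h1)
  · exact fac_mem_pre.2 ⟨hP hx, ue_mem_up hP hx⟩

theorem fac_pre_top : preimageAlong θ S' = S :=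
  le_antisymm (preimage_le S') fun _ hx => fac_mem_pre.2 ⟨hx, fac_ue_mem hE hx⟩

theorem fac_up_le {P : Subgroup Ω} : imageAlong θ P ≤ S' := by
  rintro _ ⟨x, -, rfl⟩
  exact hE.2.2.1 ▸ ⟨x, rfl⟩

theorem fac_card (hP' : P' ≤ S') : Nat.card ↥(preimageAlong θ P') = Nat.card T * Nat.card P' := by
  let π : ↥(P'.comap θ) →* P' := (θ.comp (P'.comap θ).subtype).codRestrict P' fun x => x.2
  have hsurj : Function.Surjective π := fun a => by
    obtain ⟨s, hs⟩ := hE.2.2.1.ge (hP' a.2)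
    exact ⟨⟨s, by show θ s ∈ P'; rw [hs]; exact a.2⟩, Subtype.ext hs⟩
  have hk : π.ker.map (P'.comap θ).subtype = T.subgroupOf S := by
    ext s
    constructor
    · rintro ⟨z, hz, rfl⟩
      exact (hE.2.1 (z : S)).1 (congrArg Subtype.val (MonoidHom.mem_ker.1 hz))
    · intro hs
      exact ⟨⟨s, by show θ s ∈ P'; rw [(hE.2.1 s).2 hs]; exact P'.one_mem⟩, Subtype.ext ((hE.2.1 s).2 hs), rfl⟩
  have h3 : Nat.card T = Nat.card π.ker := by
    rw [← Subgroup.card_map_of_injective (K := π.ker) (f := (P'.comap θ).subtype) (P'.comap θ).subtype_injective,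
      hk]
    exact (Nat.card_congr (Subgroup.subgroupOfEquivOfLe hE.1).toEquiv).symm
  rw [preimageAlong, Subgroup.card_map_of_injective S.subtype_injective,
    Subgroup.card_eq_card_quotient_mul_card_subgroup π.ker,
    Nat.card_congr (QuotientGroup.quotientKerEquivOfSurjective π hsurj).toEquiv, ← h3, mul_comm]

theorem fac_finite : Finite S' :=
  hE.2.2.1 ▸ Finite.of_surjective θ.rangeRestrict θ.rangeRestrict_surjective

theorem fac_isPGroup {p : ℕ} (hS : IsPGroup p S) : IsPGroup p S' :=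
  hE.2.2.1 ▸ hS.of_surjective θ.rangeRestrict θ.rangeRestrict_surjective

variable (hT : F.StronglyClosed T)
include hT

theorem fac_congr {A : Subgroup Ω} {f : Ω → Ω} (hf : Map F A f) (hTA : T ≤ A) (hx : x ∈ A) (hy : y ∈ A)
    (h : ue θ x = ue θ y) : ue θ (f x) = ue θ (f y) := by
  have h1 : x⁻¹ * y ∈ T := (fac_ue_eq_one hE (S.mul_mem (S.inv_mem (hf.le hx)) (hf.le hy))).1 (by
    rw [ue_mul (S.inv_mem (hf.le hx)) (hf.le hy), ue_inv (hf.le hx), h, inv_mul_cancel])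
  have h2 := stronglyClosed_map hT hf (hTA h1) h1
  rw [hf.map_mul (A.inv_mem hx) hy, hf.map_inv hx] at h2
  have h3 := (fac_ue_eq_one hE (hE.1 h2)).2 h2
  rw [ue_mul (S.inv_mem (hf.mem hx)) (hf.mem hy), ue_inv (hf.mem hx), inv_mul_eq_one] at h3
  exact h3

theorem fac_lift {f' : Ω' → Ω'} (h : Map E P' f') :
    P' ≤ S' ∧ ∃ f, Map F (preimageAlong θ P') f ∧ ∀ x ∈ preimageAlong θ P', ue θ (f x) = f' (ue θ x) := by
  obtain ⟨φ', hφ', he⟩ := h
  obtain ⟨hP', φ, hφ, hP, hm, hm', hind⟩ := (hE.2.2.2 P' φ').1 hφ'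
  refine ⟨hP', fn φ, map_of_mem hφ, fun x hx => ?_⟩
  have h1 := hind ⟨x, hx⟩
  rw [he] at h1
  rw [ue_apply (i := θ) (hP hx), fn_apply φ hx, ue_apply (i := θ) (hm ⟨x, hx⟩)]
  exact h1.symm

theorem fac_map_of (hP' : P' ≤ S') {f : Ω → Ω} {f' : Ω' → Ω'} (hf : Map F (preimageAlong θ P') f)
    (h : ∀ x ∈ preimageAlong θ P', ue θ (f x) = f' (ue θ x)) : Map E P' f' := by
  let φ' : P' →* Ω' := MonoidHom.mk' (fun a => f' a) fun a b => by
    obtain ⟨x, hx, hxa⟩ := fac_exists_pre hE hP' a.2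
    obtain ⟨y, hy, hyb⟩ := fac_exists_pre hE hP' b.2
    show f' ((a : Ω') * b) = f' a * f' b
    rw [← hxa, ← hyb, ← ue_mul (hf.le hx) (hf.le hy), ← h _ (Subgroup.mul_mem _ hx hy), hf.map_mul hx hy,
      ue_mul (hf.mem hx) (hf.mem hy), h x hx, h y hy]
  refine ⟨φ', ?_, fun a => rfl⟩
  obtain ⟨φ, hφ, he⟩ := hf
  refine (hE.2.2.2 P' φ').2 ⟨hP', φ, hφ, preimage_le P', fun x => (F.le_of_mem hφ).2 x,
    fun x => (mem_preimageAlong.1 x.2).2, fun x => ?_⟩
  show f' (θ ⟨x, _⟩) = θ ⟨φ x, _⟩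
  rw [← ue_apply (i := θ), ← ue_apply (i := θ), he x, h x x.2]

theorem fac_induced (hP' : P' ≤ S') {f : Ω → Ω} (hf : Map F (preimageAlong θ P') f) :
    Map E P' (fun a => ue θ (f (ve θ a))) := by
  refine fac_map_of hE hT hP' hf fun x hx => fac_congr hE hT hf (fac_le_pre hE) hx ?_ ?_
  · obtain ⟨hxS, hx'⟩ := fac_mem_pre.1 hx
    exact fac_mem_pre.2 ⟨ve_mem, (fac_ue_ve hE (hP' hx')).symm ▸ hx'⟩
  · exact (fac_ue_ve hE (fac_ue_mem hE (hf.le hx))).symm

theorem fac_im {f : Ω → Ω} {f' : Ω' → Ω'} (hf : Map F (preimageAlong θ P') f) (hf' : Map E P' f')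
    (h : ∀ x ∈ preimageAlong θ P', ue θ (f x) = f' (ue θ x)) :
    preimageAlong θ (im P' f') = im (preimageAlong θ P') f := by
  refine le_antisymm (fun y hy => ?_) (im_le_iff.2 fun x hx => fac_mem_pre.2 ⟨hf.mem hx, ?_⟩)
  · obtain ⟨hyS, hy'⟩ := fac_mem_pre.1 hy
    obtain ⟨a, ha, hay⟩ := hf'.mem_im.1 hy'
    obtain ⟨x, hx, rfl⟩ := fac_exists_pre hE hf'.le ha
    have h1 : (f x)⁻¹ * y ∈ T := (fac_ue_eq_one hE (S.mul_mem (S.inv_mem (hf.mem hx)) hyS)).1 (by
      rw [ue_mul (S.inv_mem (hf.mem hx)) hyS, ue_inv (hf.mem hx), h x hx, hay, inv_mul_cancel])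
    obtain ⟨t, ht, hte⟩ := (hf.restrict (fac_le_pre hE)).surj_of_card_le hT.1
      (fun z hz => stronglyClosed_map hT hf (fac_le_pre hE hz) hz) le_rfl _ h1
    refine hf.mem_im.2 ⟨x * t, Subgroup.mul_mem _ hx (fac_le_pre hE ht), ?_⟩
    rw [hf.map_mul hx (fac_le_pre hE ht), hte, mul_inv_cancel_left]
  · rw [h x hx]; exact mem_im_of_mem (fac_mem_pre.1 hx).2

theorem fac_isConj (hP' : P' ≤ S') (hQ' : Q' ≤ S') :
    E.IsConj P' Q' ↔ F.IsConj (preimageAlong θ P') (preimageAlong θ Q') := by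
  constructor
  · intro h
    obtain ⟨f', hf', rfl⟩ := isConj_iff.1 h
    obtain ⟨-, f, hf, hff⟩ := fac_lift hE hT hf'
    exact isConj_iff.2 ⟨f, hf, (fac_im hE hT hf hf' hff).symm⟩
  · intro h
    obtain ⟨f, hf, hi⟩ := isConj_iff.1 h
    have hf' := fac_induced hE hT hP' hf
    refine isConj_iff.2 ⟨_, hf', fac_pre_inj hE hf'.im_le hQ' ?_⟩
    rw [fac_im hE hT hf hf' fun x hx => ?_, hi]
    obtain ⟨hxS, hx'⟩ := fac_mem_pre.1 hx
    exact fac_congr hE hT hf (fac_le_pre hE) hx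
      (fac_mem_pre.2 ⟨ve_mem, (fac_ue_ve hE (hP' hx')).symm ▸ hx'⟩) (fac_ue_ve hE (hP' hx')).symm

omit hT in
theorem fac_mem_normalizer (hP' : P' ≤ S') (hx : x ∈ S) :
    ue θ x ∈ Subgroup.normalizer (P' : Set Ω') ↔ x ∈ Subgroup.normalizer ((preimageAlong θ P' : Subgroup Ω) : Set Ω) := by
  have key : ∀ y ∈ S, (x * y * x⁻¹ ∈ preimageAlong θ P' ↔ ue θ x * ue θ y * (ue θ x)⁻¹ ∈ P') := fun y hy => by
    rw [fac_mem_pre, ue_conj hx hy, and_iff_right (S.mul_mem (S.mul_mem hx hy) (S.inv_mem hx))]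
  rw [Subgroup.mem_normalizer_iff, Subgroup.mem_normalizer_iff]
  constructor
  · intro h y
    refine ⟨fun hy => (key y (fac_mem_pre.1 hy).1).2 ((h _).1 (fac_mem_pre.1 hy).2), fun hy => ?_⟩
    have hyS : y ∈ S := by
      have := S.mul_mem (S.mul_mem (S.inv_mem hx) (fac_mem_pre.1 hy).1) hx
      simpa [mul_assoc] using this
    exact fac_mem_pre.2 ⟨hyS, (h _).2 ((key y hyS).1 hy)⟩
  · intro h a
    constructor <;> intro ha
    · obtain ⟨y, hy, rfl⟩ := fac_exists_pre hE hP' ha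
      exact (key y (fac_mem_pre.1 hy).1).1 ((h y).1 hy)
    · have haS : a ∈ S' := by
        have := S'.mul_mem (S'.mul_mem (S'.inv_mem (fac_ue_mem hE hx)) (hP' ha)) (fac_ue_mem hE hx)
        simpa [mul_assoc] using this
      obtain ⟨y, hy, rfl⟩ := fac_exists_pre hE (le_refl S') haS
      exact (fac_mem_pre.1 ((h y).2 ((key y (fac_mem_pre.1 hy).1).2 ha))).2

omit hT in
theorem fac_normalizerIn (hP' : P' ≤ S') :
    preimageAlong θ (normalizerIn S' P') = normalizerIn S (preimageAlong θ P') := by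
  ext x
  rw [fac_mem_pre, mem_normalizerIn, mem_normalizerIn]
  exact ⟨fun ⟨hx, _, h⟩ => ⟨hx, (fac_mem_normalizer hE hP' hx).1 h⟩,
    fun ⟨hx, h⟩ => ⟨hx, fac_ue_mem hE hx, (fac_mem_normalizer hE hP' hx).2 h⟩⟩

theorem fac_fn_iff (hP' : P' ≤ S') :
    E.IsFullyNormalized P' ↔ F.IsFullyNormalized (preimageAlong θ P') := by
  have hc : ∀ A B : Subgroup Ω', A ≤ S' → B ≤ S' →
      (Nat.card ↥(normalizerIn S' A) ≤ Nat.card ↥(normalizerIn S' B) ↔
        Nat.card ↥(normalizerIn S (preimageAlong θ A)) ≤ Nat.card ↥(normalizerIn S (preimageAlong θ B))) := by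
    intro A B hA hB
    rw [← fac_normalizerIn hE hA, ← fac_normalizerIn hE hB, fac_card hE (show normalizerIn S' A ≤ S' from inf_le_left),
      fac_card hE (show normalizerIn S' B ≤ S' from inf_le_left)]
    haveI := finite_of_le hE.1
    exact (mul_le_mul_iff_right₀ Nat.card_pos).symm
  constructor
  · rintro ⟨-, h⟩
    refine ⟨preimage_le P', fun Q hQ => ?_⟩
    have hTQ : T ≤ Q := by
      obtain ⟨f, hf, rfl⟩ := isConj_iff.1 hQ
      intro t ht
      obtain ⟨s, hs, rfl⟩ := (hf.restrict (fac_le_pre hE)).surj_of_card_le hT.1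
        (fun z hz => stronglyClosed_map hT hf (fac_le_pre hE hz) hz) le_rfl t ht
      exact mem_im_of_mem (fac_le_pre hE hs)
    have hQS := (isConj_le hQ).2
    have he : preimageAlong θ (imageAlong θ Q) = Q := by rw [fac_pre_up hE hQS, sup_eq_left.2 hTQ]
    rw [← he]
    refine (hc _ _ (fac_up_le hE) hP').1 (h _ ((fac_isConj hE hT hP' (fac_up_le hE)).2 ?_))
    rwa [he]
  · rintro ⟨-, h⟩
    exact ⟨hP', fun A hA => (hc A P' (isConj_le hA).2 hP').2
      (h _ ((fac_isConj hE hT hP' (isConj_le hA).2).1 hA))⟩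

/-- The action of the automizer of a preimage on the factor. -/
theorem fac_exists_hom (hP' : P' ≤ S') :
    ∃ π : ↥(F.autGroup (preimageAlong θ P')) →* MulAut P',
      (∀ α, ∀ x ∈ preimageAlong θ P', av (π α) (ue θ x) = ue θ (av (α : MulAut ↥(preimageAlong θ P')) x)) ∧
      π.range = E.autGroup P' := by
  haveI := fac_finite hE
  have key : ∀ α : F.autGroup (preimageAlong θ P'), ∃ β ∈ E.autGroup P',
      ∀ x ∈ preimageAlong θ P', av β (ue θ x) = ue θ (av (α : MulAut ↥(preimageAlong θ P')) x) := by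
    intro α
    have hf := map_of_mem_autGroup (preimage_le P') α.2
    have hf' := fac_induced hE hT hP' hf
    have hspec : ∀ x ∈ preimageAlong θ P', ue θ (av (α : MulAut ↥(preimageAlong θ P')) x) =
        ue θ (av (α : MulAut ↥(preimageAlong θ P')) (ve θ (ue θ x))) := fun x hx => by
      obtain ⟨hxS, hx'⟩ := fac_mem_pre.1 hx
      exact fac_congr hE hT hf (fac_le_pre hE) hx
        (fac_mem_pre.2 ⟨ve_mem, (fac_ue_ve hE (hP' hx')).symm ▸ hx'⟩) (fac_ue_ve hE (hP' hx')).symm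
    have hi : im P' (fun a => ue θ (av (α : MulAut ↥(preimageAlong θ P')) (ve θ a))) = P' := by
      refine fac_pre_inj hE hf'.im_le hP' ?_
      rw [fac_im hE hT hf hf' hspec, im_av]
    obtain ⟨β, hβ, hβf⟩ := exists_aut hf' hi
    exact ⟨β, hβ, fun x hx => (hβf _ (fac_mem_pre.1 hx).2).trans (hspec x hx).symm⟩
  choose π hπ hπs using key
  refine ⟨MonoidHom.mk' π fun α β => aut_ext fun a ha => ?_, hπs, le_antisymm ?_ fun β hβ => ?_⟩
  · obtain ⟨x, hx, rfl⟩ := fac_exists_pre hE hP' ha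
    rw [hπs _ x hx, av_mul _ _ (fac_mem_pre.1 hx).2, hπs β x hx, hπs α _ (av_mem _ hx), Subgroup.coe_mul,
      av_mul _ _ hx]
  · rintro _ ⟨α, rfl⟩; exact hπ α
  · have hm := map_of_mem_autGroup hP' hβ
    obtain ⟨-, f, hf, hff⟩ := fac_lift hE hT hm
    obtain ⟨α, hα, hαf⟩ := exists_aut hf (by rw [← fac_im hE hT hf hm hff, im_av])
    refine ⟨⟨α, hα⟩, aut_ext fun a ha => ?_⟩
    obtain ⟨x, hx, rfl⟩ := fac_exists_pre hE hP' ha
    exact ((hπs ⟨α, hα⟩ x hx).trans (congrArg (ue θ) (hαf x hx))).trans (hff x hx)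

theorem fac_hom_autInducedBy (hP' : P' ≤ S') {π : ↥(F.autGroup (preimageAlong θ P')) →* MulAut P'}
    (hπ : ∀ α, ∀ x ∈ preimageAlong θ P', av (π α) (ue θ x) = ue θ (av (α : MulAut ↥(preimageAlong θ P')) x)) :
    ((autInducedBy S (preimageAlong θ P')).subgroupOf (F.autGroup (preimageAlong θ P'))).map π =
      autInducedBy S' P' := by
  apply le_antisymm
  · rintro _ ⟨α, hα, rfl⟩
    obtain ⟨g, hg, hgα⟩ := mem_autInducedBy.1 hα
    refine mem_autInducedBy.2 ⟨ue θ g, fac_ue_mem hE hg, fun a ha => ?_⟩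
    obtain ⟨x, hx, rfl⟩ := fac_exists_pre hE hP' ha
    rw [hπ _ x hx, ← ue_conj hg (fac_mem_pre.1 hx).1]
    exact congrArg (ue θ) (hgα x hx)
  · intro β hβ
    obtain ⟨b, hb, hbβ⟩ := mem_autInducedBy.1 hβ
    obtain ⟨g, hg, rfl⟩ := fac_exists_pre hE (le_refl S') hb
    have hgS := (fac_mem_pre.1 hg).1
    have hn : ue θ g ∈ Subgroup.normalizer (P' : Set Ω') := mem_normalizer_of_conj_aut hbβ
    obtain ⟨α, hα, hαS⟩ := exists_aut_conj ((fac_mem_normalizer hE hP' hgS).1 hn)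
    refine ⟨⟨α, autInducedBy_le_autGroup (preimage_le P') (hαS S hgS)⟩, hαS S hgS, aut_ext fun a ha => ?_⟩
    obtain ⟨x, hx, rfl⟩ := fac_exists_pre hE hP' ha
    rw [hπ _ x hx, hbβ _ ha, ← ue_conj hgS (fac_mem_pre.1 hx).1]
    exact congrArg (ue θ) (hα x hx)

end Basic

variable [Finite S] {p : ℕ} [Fact p.Prime]

/-- A factor system of a saturated system is saturated. -/
theorem fac_saturated (hS : IsPGroup p S) (hF : F.IsSaturated p) (hT : F.StronglyClosed T)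
    (hE : F.IsFactorSystem T θ E) : E.IsSaturated p := by
  haveI := fac_finite hE
  intro P₁ hP₁
  obtain ⟨P', hconj, hfn⟩ := exists_fullyNormalized (F := E) hP₁
  have hP' := hfn.1
  haveI := mulAut_finite_of_le hP'
  haveI := mulAut_finite_of_le (preimage_le (i := θ) P')
  have hfnF := (fac_fn_iff hE hT hP').1 hfn
  obtain ⟨hfc, hfa⟩ := fc_fa_of_fn hS hF hfnF
  obtain ⟨π, hπ, hrange⟩ := fac_exists_hom hE hT hP'
  have hAS := fac_hom_autInducedBy hE hT hP' hπ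
  have hsyl := (fa_iff.1 hfa).2
  refine ⟨P', hconj, fa_iff.2 ⟨hP', ⟨autInducedBy_le_autGroup hP', isPGroup_autS (fac_isPGroup hE hS), ?_⟩⟩,
    receptive_iff.2 ⟨hP', fun R' f' hf' hi' => ?_⟩⟩
  · intro hd
    apply hsyl.not_dvd
    rw [← hAS, ← hrange, MonoidHom.range_eq_map, Subgroup.relIndex_map_map, top_sup_eq] at hd
    rw [Subgroup.relIndex_top_right] at hd
    exact hd.trans (Subgroup.index_dvd_of_le le_sup_left)
  · have hR' := hf'.le
    haveI := mulAut_finite_of_le (preimage_le (i := θ) R')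
    obtain ⟨-, f, hf, hff⟩ := fac_lift hE hT hf'
    have hif : im (preimageAlong θ R') f = preimageAlong θ P' := by rw [← fac_im hE hT hf hf' hff, hi']
    obtain ⟨e, he⟩ := exists_equiv hf hif
    set X := preimageAlong θ (Nf S' R' f')
    have hXn : X ≤ normalizerIn S (preimageAlong θ R') := by
      rw [← fac_normalizerIn hE hR']
      exact (fac_pre_le_iff hE (fun a ha => (mem_Nf.1 ha).1)).2 Nf_le
    have hAF : autInducedBy S (preimageAlong θ R') ≤ F.autGroup (preimageAlong θ R') :=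
      autInducedBy_le_autGroup (preimage_le R')
    let B : Subgroup ↥(F.autGroup (preimageAlong θ P')) :=
      ((autInducedBy X (preimageAlong θ R')).map (MulAut.congr e).toMonoidHom).subgroupOf _
    have hXS : X ≤ S := preimage_le _
    have hBmem : ∀ g ∈ X, ∀ β : MulAut ↥(preimageAlong θ R'),
        (∀ x ∈ preimageAlong θ R', av β x = g * x * g⁻¹) →
        MulAut.congr e β ∈ F.autGroup (preimageAlong θ P') := fun g hg β hβ =>
      congr_mem_autGroup hf hif he (hAF (mem_autInducedBy.2 ⟨g, hXS hg, hβ⟩))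
    let H : Subgroup ↥(F.autGroup (preimageAlong θ P')) :=
      (autInducedBy S (preimageAlong θ P')).subgroupOf (F.autGroup (preimageAlong θ P')) ⊔ π.ker
    have hBH : B ≤ H := by
      rintro b ⟨β, hβ, hb⟩
      obtain ⟨g, hg, hgβ⟩ := mem_autInducedBy.1 hβ
      obtain ⟨hgS, hg'⟩ := fac_mem_pre.1 hg
      obtain ⟨-, -, h', hh', hh⟩ := mem_Nf.1 hg'
      have hπb : π b ∈ autInducedBy S' P' := by
        refine mem_autInducedBy.2 ⟨h', hh', fun a ha => ?_⟩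
        obtain ⟨x, hx, rfl⟩ := fac_exists_pre hE hP' ha
        obtain ⟨z, hz, rfl⟩ := hf.mem_im.1 (hif.ge hx)
        rw [hπ b _ hx, show (b : MulAut ↥(preimageAlong θ P')) = MulAut.congr e β from hb.symm]
        show ue θ (av (MulAut.congr e β) (f z)) = _
        rw [av_congr_apply he β hz, hgβ z hz,
          hff _ (conj_mem_of_normalizer (hXn hg).2 hz), ue_conj hgS (preimage_le R' hz), hh _ (fac_mem_pre.1 hz).2,
          ← hff z hz]
      rw [← hAS] at hπb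
      obtain ⟨s, hs, hsb⟩ := hπb
      have hk : s⁻¹ * b ∈ π.ker := by
        rw [MonoidHom.mem_ker, map_mul, map_inv, hsb, inv_mul_cancel]
      have := Subgroup.mul_mem_sup hs hk
      rwa [mul_inv_cancel_left] at this
    have hBp : IsPGroup p B :=
      (((isPGroup_autS hS).to_le (fun β hβ => by
        obtain ⟨g, hg, h⟩ := mem_autInducedBy.1 hβ
        exact mem_autInducedBy.2 ⟨g, hXS hg, h⟩)).map _).comap_subtype
    obtain ⟨T₀, hT₀⟩ := hsyl.exists_sylow_subgroupOf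
    have hsylH : SylIn p ((autInducedBy S (preimageAlong θ P')).subgroupOf (F.autGroup (preimageAlong θ P'))) H :=
      (hT₀ ▸ sylIn_top T₀).mono le_sup_left le_top
    obtain ⟨h, hh, hle⟩ := hsylH.conj_le hBp hBH
    obtain ⟨s, hs, a, ha, rfl⟩ := Subgroup.mem_sup_of_normal_right.1 hh
    set g₀ : Ω → Ω := av (a : MulAut ↥(preimageAlong θ P')) ∘ f
    have hmem₀ : ∀ x ∈ preimageAlong θ R', f x ∈ preimageAlong θ P' := fun x hx => hif.le (mem_im_of_mem hx)
    have hg₀ : Map F (preimageAlong θ R') g₀ :=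
      hf.comp (map_of_mem_autGroup (preimage_le P') a.2) hmem₀
    have hig₀ : im (preimageAlong θ R') g₀ = preimageAlong θ P' := by rw [hf.im_comp, hif, im_av]
    have hXN : X ≤ Nf S (preimageAlong θ R') g₀ := by
      intro g hg
      obtain ⟨c, hc, hcS⟩ := exists_aut_conj (hXn hg).2
      have hcm := hcS X hg
      let b : ↥(F.autGroup (preimageAlong θ P')) := ⟨MulAut.congr e c, hBmem g hg c hc⟩
      have hb : b ∈ B := ⟨c, hcm, rfl⟩
      have hc2 : (s⁻¹ * (s * a * b * (s * a)⁻¹) * s : ↥(F.autGroup (preimageAlong θ P'))) ∈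
          (autInducedBy S (preimageAlong θ P')).subgroupOf (F.autGroup (preimageAlong θ P')) :=
        Subgroup.mul_mem _ (Subgroup.mul_mem _ (Subgroup.inv_mem _ hs) (hle (conj_mem_cj hb))) hs
      rw [show (s⁻¹ * (s * a * b * (s * a)⁻¹) * s) = a * b * a⁻¹ by group] at hc2
      obtain ⟨w, hw, hwab⟩ := mem_autInducedBy.1 hc2
      refine mem_Nf.2 ⟨(hXn hg).1, (hXn hg).2, w, hw, fun x hx => ?_⟩
      have h1 : av ((a : MulAut ↥(preimageAlong θ P')) * MulAut.congr e c * (a : MulAut ↥(preimageAlong θ P'))⁻¹)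
          (av (a : MulAut ↥(preimageAlong θ P')) (f x)) = w * g₀ x * w⁻¹ := hwab _ (av_mem _ (hmem₀ x hx))
      rw [av_mul _ _ (av_mem _ (hmem₀ x hx)), av_inv_av _ (hmem₀ x hx), av_mul _ _ (hmem₀ x hx),
        av_congr_apply he c hx, hc x hx] at h1
      exact h1
    obtain ⟨g, hg, hgg⟩ := (receptive_iff.1 (receptive_of_fc hS hF hfc)).2 _ g₀ hg₀ hig₀
    refine ⟨_, fac_induced hE hT (fun x hx => (mem_Nf.1 hx).1) (hg.restrict hXN), fun r hr => ?_⟩
    obtain ⟨x, hx, rfl⟩ := fac_exists_pre hE hR' hr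
    have hxX : x ∈ X := (fac_pre_le_iff hE hR').2 (le_Nf hf') hx
    show ue θ (g (ve θ (ue θ x))) = _
    rw [fac_congr hE hT (hg.restrict hXN) (fac_le_pre hE)
      (fac_mem_pre.2 ⟨ve_mem, by rw [fac_ue_ve hE (hR' hr)]; exact (fac_mem_pre.1 hxX).2⟩) hxX
      (fac_ue_ve hE (hR' hr)), hgg x hx]
    show ue θ (av (a : MulAut ↥(preimageAlong θ P')) (f x)) = _
    have h2 := hπ a _ (hmem₀ x hx)
    rw [MonoidHom.mem_ker.1 ha, av_one (fac_mem_pre.1 (hmem₀ x hx)).2] at h2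
    rw [← h2, hff x hx]

end Cfsg.Agent.Local.FS
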