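import Cfsg.Agent.Lib.Local.FS.ModelEmbed
import Cfsg.Agent.Lib.Local.FS.Essential
import Cfsg.Agent.Lib.Local.FS.Constrained
import Cfsg.Agent.Lib.Fusion.Sections
import Cfsg.Prelude.Def_FusionReduction

/-!
Section-freeness of fusion systems can be tested on centric radical subgroups, and passes to normalizer systems.
-/

set_option autoImplicit false

namespace Cfsg.Agent.Local.FS

open Cfsg Cfsg.FusionSystem Cfsg.Agent.Fusion

universe u v

theorem involves_of_injective {H : Type v} [Group H] {L L' : Type u} [Group L] [Group L'] (j : L →* L')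
    (hj : Function.Injective j) (h : Involves H L) : Involves H L' := by
  obtain ⟨K, f, hf⟩ := involves_exists_surjective h
  exact involves_of_surjective (f.comp (K.equivMapOfInjective j hj).symm.toMonoidHom)
    (hf.comp (K.equivMapOfInjective j hj).symm.surjective)

variable {Ω : Type u} [Group Ω] {S : Subgroup Ω} {F : FusionSystem S} {p : ℕ} {P Q R : Subgroup Ω}
  [Finite S] [Fact p.Prime]

omit [Finite S] [Fact p.Prime] in
theorem inn_normal_subgroupOf : ((Inn P).subgroupOf (F.autGroup P)).Normal := by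
  refine ⟨fun x hx a => ?_⟩
  obtain ⟨g, hg, hgx⟩ := mem_Inn.1 hx
  refine mem_Inn.2 ⟨av (a : MulAut P) g, av_mem _ hg, fun y hy => ?_⟩
  have hm : Map (innerFusionSystem P) P (fun z => g * z * g⁻¹) := map_conjBy le_rfl hg
  show av ((a : MulAut P) * (x : MulAut P) * (a : MulAut P)⁻¹) y = _
  rw [av_mul _ _ hy, av_mul _ _ (av_mem _ hy)]
  have hgx' : av (x : MulAut P) (av (a : MulAut P)⁻¹ y) = g * av (a : MulAut P)⁻¹ y * g⁻¹ :=
    hgx _ (av_mem _ hy)
  have hy' := av_mem (a : MulAut P)⁻¹ hy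
  rw [hgx', av_apply _ (P.mul_mem (P.mul_mem hg hy') (P.inv_mem hg))]
  have he := congrArg Subtype.val
    (show (a : MulAut P) (⟨g, hg⟩ * ⟨_, hy'⟩ * (⟨g, hg⟩ : P)⁻¹) = (a : MulAut P) ⟨g, hg⟩ *
      (a : MulAut P) ⟨_, hy'⟩ * ((a : MulAut P) ⟨g, hg⟩)⁻¹ by rw [map_mul, map_mul, map_inv])
  simp only [Subgroup.coe_mul, Subgroup.coe_inv] at he
  rw [← av_apply _ hg, ← av_apply _ hy', av_av_inv _ hy] at he
  exact he

set_option maxHeartbeats 1600000 in
/-- If the preimage of `O_p` of the model of `N_F(Q)` is inside `Q`, then `Q` is radical. -/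
theorem radical_of_pCore_le (hS : IsPGroup p S) (hQ : Q ≤ S) (hQc : F.IsCentric Q)
    {N : FusionSystem (normalizerIn S Q)} (hN : F.IsNormalizerSystem Q N) {L : Type*} [Group L]
    {ι : ↥(normalizerIn S Q) →* L} (hm : N.IsModel p L ι)
    (h : ((pCore p L).comap ι).map (normalizerIn S Q).subtype ≤ Q) : F.IsRadical p Q := by
  haveI := hm.1
  haveI := mulAut_finite_of_le hQ
  refine ⟨hQ, le_antisymm ?_ fun α hα => ?_⟩
  swap
  · haveI := inn_normal_subgroupOf (F := F) (P := Q)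
    have h1 : (Inn Q).subgroupOf (F.autGroup Q) ≤ pCore p ↥(F.autGroup Q) :=
      le_pCore ((isPGroup_inn hS hQ).comap_subtype)
    exact ⟨⟨α, inn_le_autGroup hQ hα⟩, h1 hα, rfl⟩
  haveI hR : ((Q.subgroupOf (normalizerIn S Q)).map ι).Normal := normal_image hm (normal_normalizerSystem hQ hN)
  have hmemQ : ∀ s : normalizerIn S Q, ι s ∈ (Q.subgroupOf (normalizerIn S Q)).map ι ↔ (s : Ω) ∈ Q :=
    fun s => Subgroup.mem_map_iff_mem hm.2.1.1
  have hcent : Subgroup.centralizer (((Q.subgroupOf (normalizerIn S Q)).map ι : Subgroup L) : Set L) ≤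
      (Q.subgroupOf (normalizerIn S Q)).map ι := by
    refine centralizer_le_of_model hm _ (Subgroup.map_le_range _ _) fun s hs => (hmemQ s).2 ?_
    refine centric_inv_mem hQc s.2.1 fun y hy => ?_
    have h := Subgroup.mem_centralizer_iff.1 hs _ ((hmemQ ⟨y, le_normalizerIn hQ hy⟩).2 hy)
    rw [← map_mul, ← map_mul] at h
    exact congrArg Subtype.val (hm.2.1.1 h)
  let Act : MulAut Q → L → Prop := fun α g => ∀ q : Q,
    ι ⟨(α q : Ω), le_normalizerIn hQ (α q).2⟩ = g * ι ⟨q, le_normalizerIn hQ q.2⟩ * g⁻¹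
  have hmul : ∀ {α β g h}, Act α g → Act β h → Act (α * β) (g * h) := by
    intro α β g h hg hh q
    refine (hg (β q)).trans ?_
    rw [hh q]; group
  have hone : Act 1 1 := fun q => by simp
  have hinv : ∀ {α g}, Act α g → Act α⁻¹ g⁻¹ := by
    intro α g hg q
    have h1 := hg (α⁻¹ q)
    simp only [MulAut.apply_inv_self] at h1
    rw [h1]; group
  have hex : ∀ g : L, ∃ α ∈ F.autGroup Q, Act α g := by
    intro g
    obtain ⟨f, hf, hfg⟩ := exists_map_of_conj hm.2.1 (le_normalizerIn hQ) g fun x hx =>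
      Subgroup.map_le_range ι _ (hR.conj_mem _ ((hmemQ x).2 hx) g)
    obtain ⟨-, -, f', hf', hff, hfQ⟩ := (map_normalizerSystem_iff hN).1 hf
    obtain ⟨α, hα, hαf⟩ := exists_aut (hf'.restrict le_sup_right) hfQ
    refine ⟨α, hα, fun q => ?_⟩
    obtain ⟨s, -, hs⟩ := hR.conj_mem _ ((hmemQ ⟨q, le_normalizerIn hQ q.2⟩).2 q.2) g
    rw [← hs]
    refine congrArg ι (Subtype.ext ?_)
    show (α q : Ω) = s
    rw [← av_coe, hαf _ q.2, hff _ q.2, hfg ⟨q, le_normalizerIn hQ q.2⟩ q.2 s hs]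
  have huniq : ∀ {α β g}, Act α g → Act β g → α = β := fun {α β g} hα hβ =>
    MulEquiv.ext fun q => Subtype.ext (congrArg Subtype.val
      (hm.2.1.1 ((hα q).trans (hβ q).symm)) :)
  let B : Subgroup (MulAut Q) := (pCore p ↥(F.autGroup Q)).map (F.autGroup Q).subtype
  let W : Subgroup L :=
    { carrier := {g | ∃ α ∈ B, Act α g}
      one_mem' := ⟨1, B.one_mem, hone⟩
      mul_mem' := fun ⟨α, hα, hg⟩ ⟨β, hβ, hh⟩ => ⟨α * β, B.mul_mem hα hβ, hmul hg hh⟩
      inv_mem' := fun ⟨α, hα, hg⟩ => ⟨α⁻¹, B.inv_mem hα, hinv hg⟩ }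
  haveI : W.Normal := by
    refine ⟨fun g hg x => ?_⟩
    obtain ⟨α, ⟨a, ha, rfl⟩, hag⟩ := hg
    obtain ⟨β, hβ, hβx⟩ := hex x
    exact ⟨β * (a : MulAut Q) * β⁻¹,
      ⟨⟨β, hβ⟩ * a * (⟨β, hβ⟩)⁻¹, (inferInstance : (pCore p ↥(F.autGroup Q)).Normal).conj_mem a ha _, rfl⟩,
      hmul (hmul hβx hag) (hinv hβx)⟩
  have hWp : IsPGroup p W := by
    rintro ⟨g, α, hα, hαg⟩
    obtain ⟨k, hk⟩ := ((isPGroup_pCore p ↥(F.autGroup Q)).map (F.autGroup Q).subtype) ⟨α, hα⟩
    have hpow : ∀ n : ℕ, Act (α ^ n) (g ^ n) := fun n => by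
      induction n with
      | zero => rw [pow_zero, pow_zero]; exact hone
      | succ n ih => rw [pow_succ, pow_succ]; exact hmul ih hαg
    have hc := hpow (p ^ k)
    rw [show α ^ p ^ k = 1 from congrArg Subtype.val hk] at hc
    have hmem : g ^ p ^ k ∈ (Q.subgroupOf (normalizerIn S Q)).map ι := by
      refine hcent (Subgroup.mem_centralizer_iff.2 ?_)
      rintro _ ⟨s, hs, rfl⟩
      have h := hc ⟨s, hs⟩
      simp only [MulAut.one_apply] at h
      exact eq_mul_inv_iff_mul_eq.1 h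
    obtain ⟨l, hl⟩ := (((hS.to_le inf_le_left).to_subgroup (Q.subgroupOf (normalizerIn S Q))).map ι) ⟨_, hmem⟩
    refine ⟨k + l, Subtype.ext ?_⟩
    show g ^ p ^ (k + l) = 1
    rw [pow_add, pow_mul]
    exact congrArg Subtype.val hl
  intro α hα
  haveI := finite_of_le hQ
  have hαm := map_of_mem_autGroup hQ (show α ∈ F.autGroup Q by obtain ⟨a, -, rfl⟩ := hα; exact a.2)
  have hN' : Map N Q (av α) := (map_normalizerSystem_iff hN).2
    ⟨le_normalizerIn hQ, fun x hx => le_normalizerIn hQ (av_mem α hx), av α, by rwa [sup_idem],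
      fun x _ => rfl, im_av α⟩
  obtain ⟨g, hg⟩ := exists_conj_of_map hm.2.1 hN'
  have hαg : Act α g := fun q => hg _ q.2 _ (av_coe α q).symm
  obtain ⟨s, hs⟩ := pCore_le_range hm (le_pCore hWp (show g ∈ W from ⟨α, hα, hαg⟩))
  have hsQ : (s : Ω) ∈ Q := h ⟨s, show ι s ∈ pCore p L from hs ▸ le_pCore hWp (show g ∈ W from ⟨α, hα, hαg⟩), rfl⟩
  refine mem_Inn.2 ⟨s, hsQ, fun x hx => ?_⟩
  have h1 := hαg ⟨x, hx⟩
  rw [← hs, ← map_inv, ← map_mul, ← map_mul] at h1
  rw [av_apply α hx]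
  exact congrArg Subtype.val (hm.2.1.1 h1)

set_option maxHeartbeats 1600000 in
/-- **Section-freeness is determined at the centric radical subgroups.** -/
theorem sectionFree_of_radical (hS : IsPGroup p S) (hF : F.IsSaturated p) {H : Type*} [Group H]
    (h : ∀ Q : Subgroup Ω, F.IsFullyNormalized Q → F.IsCentric Q → F.IsRadical p Q →
      ∀ N : FusionSystem (normalizerIn S Q), F.IsNormalizerSystem Q N →
        ∀ (L : Type u) [Group L] (ι : ↥(normalizerIn S Q) →* L), N.IsModel p L ι → ¬ Involves H L) :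
    F.IsSectionFree p H := by
  suffices key : ∀ n : ℕ, ∀ Q : Subgroup Ω, Nat.card S - Nat.card Q = n → F.IsFullyNormalized Q →
      F.IsCentric Q → ∀ N : FusionSystem (normalizerIn S Q), F.IsNormalizerSystem Q N →
        ∀ (L : Type u) [Group L] (ι : ↥(normalizerIn S Q) →* L), N.IsModel p L ι → ¬ Involves H L from
    fun Q hQ hQc N hN L _ ι hL => key _ Q rfl hQ hQc N hN L ι hL
  intro n
  induction n using Nat.strong_induction_on with
  | _ n ih =>
    intro Q hn hQ hQc N hN L _ ι hL hinv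
    let V := normalizerIn S Q
    haveI := hL.1
    set R := ((pCore p L).comap ι).map V.subtype with hRdef
    have hRn : N.IsNormal R := normal_pCore_preimage hL
    have hRV : R ≤ V := Subgroup.map_subtype_le _
    have hRS : R ≤ S := hRV.trans inf_le_left
    have hQR : Q ≤ R := by
      haveI : ((Q.subgroupOf V).map ι).Normal := normal_image hL (normal_normalizerSystem hQ.1 hN)
      have h1 := le_pCore (((show IsPGroup p ↥V from hS.to_le inf_le_left).to_subgroup (Q.subgroupOf V)).map ι)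
      intro x hx
      exact ⟨⟨x, le_normalizerIn hQ.1 hx⟩, h1 (Subgroup.mem_map_of_mem ι
        (show (⟨x, le_normalizerIn hQ.1 hx⟩ : V) ∈ Q.subgroupOf V from hx)), rfl⟩
    by_cases hRQ : R ≤ Q
    · exact h Q hQ hQc (radical_of_pCore_le hS hQ.1 hQc hN hL hRQ) N hN L ι hL hinv
    have hlt : Q < R := lt_of_le_not_ge hQR hRQ
    have hRc : F.IsCentric R := centric_mono hQc hQR hRS
    obtain ⟨R', hconj, hR'⟩ := exists_fullyNormalized (F := F) hRS
    obtain ⟨φ, hφ, hφm, hφR⟩ := exists_map_normalizer_fn hS hF hR' hconj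
    haveI : Finite ↥(normalizerIn S R) := finite_of_le inf_le_left
    have hR'S := hR'.1
    have hR'c : F.IsCentric R' := ⟨hR'S, fun T hT => hRc.2 T (isConj_trans hconj hT)⟩
    let N' := normSys F hR'S
    have hN' : F.IsNormalizerSystem R' N' := fun _ => rfl
    have hN's : N'.IsSaturated p := normSys_saturated hS hF hR'
    have hN'n := normal_normalizerSystem hR'S hN'
    have hN'c : N'.IsCentric R' := by
      refine ⟨le_normalizerIn hR'S, fun T hT => ?_⟩
      rw [eq_of_isConj_stronglyClosed (normal_stronglyClosed hN'n) hT]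
      intro x hx
      exact centric_inv_mem hR'c (mem_centralizerIn.1 hx).1.1 (mem_centralizerIn.1 hx).2
    obtain ⟨L', _, κ, hL'⟩ := exists_model (show IsPGroup p ↥(normalizerIn S R') from hS.to_le inf_le_left) hN's hN'n hN'c
    have hRsc := normal_stronglyClosed hRn
    have hVR : V ≤ normalizerIn S R := le_inf inf_le_left (stronglyClosed_le_normalizer hRsc)
    have hK : ∀ A f, Map N A f ↔ A ≤ V ∧ (∀ x ∈ A, f x ∈ V) ∧ PairMap F Q R A f := by
      intro A f
      refine ⟨fun hf => ?_, fun ⟨hA, hm, g, hg, hgf, hgR, hgQ⟩ => ?_⟩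
      · obtain ⟨hA, hm, -⟩ := (map_normalizerSystem_iff hN).1 hf
        obtain ⟨g, hg, hgf, hgR⟩ := (normal_iff.1 hRn).2 A f hf
        obtain ⟨-, -, g₂, hg₂, hg₂g, hg₂Q⟩ := (map_normalizerSystem_iff hN).1 hg
        refine ⟨hA, hm, g₂, hg₂.restrict le_sup_left,
          fun x hx => (hg₂g x (Subgroup.mem_sup_left hx)).trans (hgf x hx), ?_, hg₂Q⟩
        rw [im_congr fun x hx => hg₂g x (Subgroup.mem_sup_right hx), hgR]
      · exact (map_normalizerSystem_iff hN).2
          ⟨hA, hm, g, hg.restrict (sup_le_sup_left hQR A), hgf, hgQ⟩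
    obtain ⟨j, hj⟩ := pair_embed hS hQR hRc hRV inf_le_left inf_le_right hK hL
      (fun ψ hψ => by
        haveI : Finite ↥(normalizerIn S (im Q ψ)) := finite_of_le inf_le_left
        exact (Subgroup.card_le_of_le (show _ ≤ normalizerIn S (im Q ψ) from
          le_inf (inf_le_left.trans inf_le_left) inf_le_right)).trans
          (hQ.2 _ (isConj_iff.2 ⟨ψ, hψ.restrict hQR, rfl⟩)))
      (hφ.restrict hVR) (fun x hx => hφm x (hVR hx)) hφR hN' hL'
    refine ih (Nat.card S - Nat.card R') ?_ R' rfl hR' hR'c N' hN' L' κ hL' (involves_of_injective j hj hinv)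
    have h1 := card_lt_of_lt hlt hRS
    have h2 := isConj_card hconj
    have h3 : Nat.card R ≤ Nat.card S := Subgroup.card_le_of_le hRS
    omega

set_option maxHeartbeats 1600000 in
/-- Section-freeness passes to normalizer systems. -/
theorem sectionFree_normalizerSystem (hS : IsPGroup p S) (hF : F.IsSaturated p) {H : Type*} [Group H]
    (hfree : F.IsSectionFree p H) (hQ : F.IsFullyNormalized Q)
    {N : FusionSystem (normalizerIn S Q)} (hN : F.IsNormalizerSystem Q N) : N.IsSectionFree p H := by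
  have hNs := saturated_of_isNormalizerSystem hS hF hQ hN
  haveI : Finite ↥(normalizerIn S Q) := finite_of_le inf_le_left
  refine sectionFree_of_radical (show IsPGroup p ↥(normalizerIn S Q) from hS.to_le inf_le_left) hNs fun P hP hPc hPr K hK L _ ι hL hinv => ?_
  have hQP : Q ≤ P := normal_le_centric_radical (show IsPGroup p ↥(normalizerIn S Q) from hS.to_le inf_le_left) (normal_normalizerSystem hQ.1 hN) hPc hPr
  have hPV := hP.1
  have hPS : P ≤ S := hPV.trans inf_le_left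
  have hback : ∀ ψ, Map F P ψ → ∃ h, Map F (normalizerIn S (im Q ψ)) h ∧
      (∀ x ∈ normalizerIn S (im Q ψ), h x ∈ normalizerIn S Q) ∧ (∀ x ∈ P, ψ x ∈ normalizerIn S (im Q ψ)) ∧
      N.IsConj P (im P (h ∘ ψ)) := by
    intro ψ hψ
    obtain ⟨h, hh, hhm, hhQ⟩ := exists_map_normalizer_fn hS hF hQ (isConj_symm
      (isConj_iff.2 ⟨ψ, hψ.restrict hQP, rfl⟩))
    have hmem : ∀ x ∈ P, ψ x ∈ normalizerIn S (im Q ψ) := fun x hx =>
      hψ.mem_normalizer hQP hx (hPV hx).2
    refine ⟨h, hh, hhm, hmem, isConj_iff.2 ⟨h ∘ ψ, (map_normalizerSystem_iff hN).2 ⟨hPV, fun x hx =>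
      hhm _ (hmem x hx), h ∘ ψ, ?_, fun x _ => rfl, ?_⟩, rfl⟩⟩
    · rw [sup_eq_left.2 hQP]; exact hψ.comp hh hmem
    · rw [(hψ.restrict hQP).im_comp, hhQ]
  have hPFc : F.IsCentric P := by
    refine ⟨hPS, fun T hT => ?_⟩
    obtain ⟨ψ, hψ, rfl⟩ := isConj_iff.1 hT
    obtain ⟨h, hh, hhm, hmem, hc⟩ := hback ψ hψ
    intro x hx
    rw [mem_centralizerIn] at hx
    have hx' : x ∈ normalizerIn S (im Q ψ) := centralizerIn_le_normalizerIn
      (mem_centralizerIn.2 ⟨hx.1, fun y hy => hx.2 y (im_mono hQP hy)⟩)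
    have h1 : h x ∈ im P (h ∘ ψ) := by
      refine hPc.2 _ hc (mem_centralizerIn.2 ⟨hhm x hx', fun y hy => ?_⟩)
      obtain ⟨z, hz, rfl⟩ := (hψ.comp hh hmem).mem_im.1 hy
      show h (ψ z) * h x = h x * h (ψ z)
      rw [← hh.map_mul (hmem z hz) hx', hx.2 _ (mem_im_of_mem hz), hh.map_mul hx' (hmem z hz)]
    obtain ⟨z, hz, he⟩ := (hψ.comp hh hmem).mem_im.1 h1
    rw [← hh.injOn (hmem z hz) hx' he]
    exact mem_im_of_mem hz
  obtain ⟨R', hconj, hR'⟩ := exists_fullyNormalized (F := F) hPS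
  obtain ⟨φ, hφ, hφm, hφR⟩ := exists_map_normalizer_fn hS hF hR' hconj
  have hR'c : F.IsCentric R' := ⟨hR'.1, fun T hT => hPFc.2 T (isConj_trans hconj hT)⟩
  let N' := normSys F hR'.1
  have hN' : F.IsNormalizerSystem R' N' := fun _ => rfl
  have hN'n := normal_normalizerSystem hR'.1 hN'
  have hN'c : N'.IsCentric R' := by
    refine ⟨le_normalizerIn hR'.1, fun T hT => ?_⟩
    rw [eq_of_isConj_stronglyClosed (normal_stronglyClosed hN'n) hT]
    intro x hx
    exact centric_inv_mem hR'c (mem_centralizerIn.1 hx).1.1 (mem_centralizerIn.1 hx).2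
  obtain ⟨L', _, κ, hL'⟩ := exists_model (show IsPGroup p ↥(normalizerIn S R') from hS.to_le inf_le_left) (normSys_saturated hS hF hR') hN'n hN'c
  have hUS : normalizerIn (normalizerIn S Q) P ≤ normalizerIn S P := le_inf (inf_le_left.trans inf_le_left) inf_le_right
  have hKiff : ∀ A f, Map K A f ↔ A ≤ normalizerIn (normalizerIn S Q) P ∧
      (∀ x ∈ A, f x ∈ normalizerIn (normalizerIn S Q) P) ∧ PairMap F Q P A f := by
    intro A f
    rw [map_normalizerSystem_iff hK]
    refine and_congr_right fun hA => and_congr_right fun _ => ⟨fun ⟨g, hg, hgf, hgP⟩ => ?_,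
      fun ⟨g, hg, hgf, hgP, hgQ⟩ => ⟨g, ?_, hgf, hgP⟩⟩
    · obtain ⟨-, -, g₂, hg₂, hg₂g, hg₂Q⟩ := (map_normalizerSystem_iff hN).1 hg
      refine ⟨g₂, hg₂.restrict le_sup_left, fun x hx => (hg₂g x (Subgroup.mem_sup_left hx)).trans (hgf x hx),
        ?_, hg₂Q⟩
      rw [im_congr fun x hx => hg₂g x (Subgroup.mem_sup_right hx), hgP]
    · refine (map_normalizerSystem_iff hN).2 ⟨sup_le (hA.trans inf_le_left) hPV, fun x hx => ⟨hg.mem hx, ?_⟩,
        g, by rwa [sup_eq_left.2 (hQP.trans le_sup_right)], fun x _ => rfl, hgQ⟩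
      have hxn : x ∈ Subgroup.normalizer (Q : Set Ω) := ((sup_le (hA.trans inf_le_left) hPV) hx).2
      have := (hg.mem_normalizer (hQP.trans le_sup_right) hx hxn).2
      rwa [hgQ] at this
  have hmax : ∀ ψ, Map F P ψ →
      Nat.card ↥(normalizerIn S (im P ψ) ⊓ Subgroup.normalizer ((im Q ψ : Subgroup Ω) : Set Ω)) ≤
        Nat.card ↥(normalizerIn (normalizerIn S Q) P) := by
    intro ψ hψ
    obtain ⟨h, hh, hhm, hmem, hc⟩ := hback ψ hψ
    refine le_trans ?_ (hP.2 _ hc)
    have hX : normalizerIn S (im P ψ) ⊓ Subgroup.normalizer ((im Q ψ : Subgroup Ω) : Set Ω) ≤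
        normalizerIn S (im Q ψ) := le_inf (inf_le_left.trans inf_le_left) inf_le_right
    have hPX : im P ψ ≤ normalizerIn S (im Q ψ) := im_le_iff.2 hmem
    haveI : Finite ↥(normalizerIn (normalizerIn S Q) (im P (h ∘ ψ))) := finite_of_le (inf_le_left.trans inf_le_left)
    refine (hh.restrict hX).card_le fun x hx => ⟨hhm x (hX hx), ?_⟩
    have := (hh.mem_normalizer hPX (hX hx) hx.1.2).2
    rwa [← hψ.im_comp] at this
  obtain ⟨j, hj⟩ := pair_embed hS hQP hPFc (le_normalizerIn hPV) (inf_le_left.trans inf_le_left)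
    (inf_le_left.trans inf_le_right) hKiff hL hmax
    (hφ.restrict hUS) (fun x hx => hφm x (hUS hx)) hφR hN' hL'
  exact hfree R' hR' hR'c N' hN' L' κ hL' (involves_of_injective j hj hinv)

end Cfsg.Agent.Local.FS
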