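import Cfsg.Agent.Lib.Local.FS.ModelQuotient
import Cfsg.Agent.Lib.Local.FS.SectionFree
import Cfsg.Agent.Lib.Local.FS.Factor

/-!
Section-freeness passes to factor systems by normal subgroups.
-/

set_option autoImplicit false

namespace Cfsg.Agent.Local.FS

open Cfsg Cfsg.FusionSystem Cfsg.Agent.Fusion

universe u v w

/-- A fully normalized centric subgroup has a model of its normalizer system. -/
theorem exists_model_fn {Ω : Type u} [Group Ω] {S : Subgroup Ω} [Finite S] {F : FusionSystem S} {p : ℕ}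
    [Fact p.Prime] {Q : Subgroup Ω} (hS : IsPGroup p S) (hF : F.IsSaturated p) (hQ : F.IsFullyNormalized Q)
    (hQc : F.IsCentric Q) :
    ∃ (L : Type u) (_ : Group L) (ι : ↥(normalizerIn S Q) →* L), (normSys F hQ.1).IsModel p L ι := by
  haveI : Finite ↥(normalizerIn S Q) := finite_normalizerIn
  have hn := normal_normalizerSystem hQ.1 (N := normSys F hQ.1) (F := F) fun _ => rfl
  refine exists_model (show IsPGroup p ↥(normalizerIn S Q) from hS.to_le inf_le_left)
    (normSys_saturated hS hF hQ) hn ⟨le_normalizerIn hQ.1, fun T hT => ?_⟩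
  rw [eq_of_isConj_stronglyClosed (normal_stronglyClosed hn) hT]
  exact fun x hx => centric_inv_mem hQc (mem_centralizerIn.1 hx).1.1 (mem_centralizerIn.1 hx).2

theorem involves_of_surjective_hom {H : Type*} [Group H] {L : Type u} [Group L] {L' : Type v} [Group L']
    (π : L →* L') (hπ : Function.Surjective π) (h : Involves H L') : Involves H L := by
  obtain ⟨K, f, hf⟩ := involves_exists_surjective h
  refine involves_of_surjective (f.comp (π.subgroupComap K)) (hf.comp ?_)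
  rintro ⟨y, hy⟩
  obtain ⟨x, rfl⟩ := hπ y
  exact ⟨⟨x, hy⟩, rfl⟩

variable {Ω : Type u} [Group Ω] {S : Subgroup Ω} {F : FusionSystem S} {T : Subgroup Ω}
  {Ω' : Type v} [Group Ω'] {S' : Subgroup Ω'} {θ : S →* Ω'} {E : FusionSystem S'} {p : ℕ}
  [Fact p.Prime] [Finite S]

theorem fac_centric_pre (hT : F.StronglyClosed T) (hE : F.IsFactorSystem T θ E) {Q' : Subgroup Ω'}
    (hQ : E.IsCentric Q') : F.IsCentric (preimageAlong θ Q') := by
  refine ⟨preimage_le _, fun R hR x hx => ?_⟩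
  obtain ⟨f, hf, rfl⟩ := isConj_iff.1 hR
  have hTR : T ≤ im (preimageAlong θ Q') f := fun t ht => by
    obtain ⟨s, hs, rfl⟩ := (hf.restrict (fac_le_pre hE)).surj_of_card_le hT.1
      (fun z hz => stronglyClosed_map hT hf (fac_le_pre hE hz) hz) le_rfl t ht
    exact mem_im_of_mem (fac_le_pre hE hs)
  have he : preimageAlong θ (imageAlong θ (im (preimageAlong θ Q') f)) = im (preimageAlong θ Q') f := by
    rw [fac_pre_up hE hf.im_le, sup_eq_left.2 hTR]
  have hconj : E.IsConj Q' (imageAlong θ (im (preimageAlong θ Q') f)) := by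
    refine (fac_isConj hE hT hQ.1 (fac_up_le hE)).2 ?_
    rwa [he]
  obtain ⟨hxS, hxc⟩ := mem_centralizerIn.1 hx
  rw [← he]
  refine fac_mem_pre.2 ⟨hxS, hQ.2 _ hconj (mem_centralizerIn.2 ⟨fac_ue_mem hE hxS, fun a ha => ?_⟩)⟩
  obtain ⟨y, hy, rfl⟩ := (mem_up hf.im_le).1 ha
  rw [← ue_mul (hf.im_le hy) hxS, hxc y hy, ue_mul hxS (hf.im_le hy)]

/-- Factor systems by normal subgroups inherit section-freeness. -/
theorem fac_sectionFree {H : Type w} [Group H] (hS : IsPGroup p S) (hF : F.IsSaturated p) (hTn : F.IsNormal T)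
    (hE : F.IsFactorSystem T θ E) (hfree : F.IsSectionFree p H) : E.IsSectionFree p H := by
  intro Q' hQ' hQ'c N' hN' L' _ ι' hL' hinv
  have hT := normal_stronglyClosed hTn
  haveI := fac_finite hE
  set Q := preimageAlong θ Q' with hQdef
  have hQ := (fac_fn_iff hE hT hQ'.1).1 hQ'
  have hQc := fac_centric_pre hT hE hQ'c
  have hTQ : T ≤ Q := fac_le_pre hE
  obtain ⟨L, _, ι, hL⟩ := exists_model_fn hS hF hQ hQc
  have hN : F.IsNormalizerSystem Q (normSys F hQ.1) := fun _ => rfl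
  haveI := hL.1
  haveI : Finite ↥(normalizerIn S Q) := finite_normalizerIn
  haveI : Finite ↥(normalizerIn S' Q') := finite_normalizerIn
  have hV : preimageAlong θ (normalizerIn S' Q') = normalizerIn S Q := fac_normalizerIn hE hQ'.1
  have hTN : (normSys F hQ.1).IsNormal T := by
    refine normal_iff.2 ⟨hTQ.trans (le_normalizerIn hQ.1), fun A f hf => ?_⟩
    obtain ⟨hA, -, g, hg, hgf, hgQ⟩ := (map_normalizerSystem_iff hN).1 hf
    have hAQ : A ⊔ Q ≤ normalizerIn S Q := sup_le hA (le_normalizerIn hQ.1)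
    have hgN : Map (normSys F hQ.1) (A ⊔ Q) g := (map_normalizerSystem_iff hN).2 ⟨hAQ, fun x hx => ⟨hg.mem hx, by
      have := (hg.mem_normalizer le_sup_right hx (hAQ hx).2).2
      rwa [hgQ] at this⟩, g, by rwa [sup_assoc, sup_idem], fun x _ => rfl, hgQ⟩
    haveI := finite_of_le hT.1
    exact ⟨g, hgN.restrict (sup_le_sup_left hTQ A), hgf, Subgroup.eq_of_le_of_card_ge
      (im_le_iff.2 fun x hx => stronglyClosed_map hT hg (Subgroup.mem_sup_right (hTQ hx)) hx)
      (hg.restrict (hTQ.trans le_sup_right)).card_im.ge⟩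
  let Tm : Subgroup L := (T.subgroupOf (normalizerIn S Q)).map ι
  haveI : Tm.Normal := normal_image hL hTN
  set π := QuotientGroup.mk' Tm with hπ
  have hval : ∀ x : ↥(normalizerIn S Q), ue θ x ∈ normalizerIn S' Q' := fun x =>
    (fac_mem_pre.1 (hV.ge x.2)).2
  let lam : ↥(normalizerIn S Q) →* ↥(normalizerIn S' Q') :=
    MonoidHom.mk' (fun x => ⟨ue θ x, hval x⟩) fun x y => Subtype.ext (ue_mul x.2.1 y.2.1)
  have hlam : Function.Surjective lam := fun a => by
    obtain ⟨x, hx, hxa⟩ := fac_exists_pre hE (P' := normalizerIn S' Q') inf_le_left a.2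
    exact ⟨⟨x, hV.le hx⟩, Subtype.ext hxa⟩
  have hker : lam.ker ≤ (π.comp ι).ker := fun x hx => by
    refine (QuotientGroup.eq_one_iff _).2 (Subgroup.mem_map_of_mem ι ?_)
    exact (fac_ue_eq_one hE x.2.1).1 (congrArg Subtype.val (MonoidHom.mem_ker.1 hx))
  let κ := MonoidHom.liftOfSurjective lam hlam ⟨π.comp ι, hker⟩
  have hκ : ∀ x, κ (lam x) = π (ι x) := fun x => by
    show (MonoidHom.liftOfSurjective lam hlam ⟨π.comp ι, hker⟩) (lam x) = _
    simp [MonoidHom.liftOfSurjective]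
  have hκinj : Function.Injective κ := by
    refine (injective_iff_map_eq_one κ).2 fun a ha => ?_
    obtain ⟨x, rfl⟩ := hlam a
    rw [hκ] at ha
    obtain ⟨t, ht, hte⟩ := (QuotientGroup.eq_one_iff _).1 ha
    refine Subtype.ext ((fac_ue_eq_one hE x.2.1).2 ?_)
    rw [← hL.2.1.1 hte]; exact ht
  have hreal : N'.IsRealizedBy κ := by
    refine ⟨hκinj, fun A' hA' φ' hφ' => ⟨fun hφ => ?_, fun ⟨gb, hgb⟩ => ?_⟩⟩
    · obtain ⟨-, -, g', hg', hg'f, hg'Q⟩ := (map_normalizerSystem_iff hN').1 (map_of_mem hφ)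
      have hA'S : A' ≤ S' := hA'.trans inf_le_left
      obtain ⟨-, g, hg, hgg⟩ := fac_lift hE hT hg'
      have hA0 : preimageAlong θ A' ≤ preimageAlong θ (A' ⊔ Q') := (fac_pre_le_iff hE hA'S).2 le_sup_left
      have hQ0 : Q ≤ preimageAlong θ (A' ⊔ Q') := (fac_pre_le_iff hE hQ'.1).2 le_sup_right
      have hgQ : im Q g = Q := by
        rw [← fac_im hE hT (hg.restrict hQ0) (hg'.restrict le_sup_right) fun x hx => hgg x (hQ0 hx), hg'Q]
      have hgN : Map (normSys F hQ.1) (preimageAlong θ A') g := by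
        refine (map_normalizerSystem_iff hN).2 ⟨fun x hx => hV.le
          (fac_mem_pre.2 ⟨(fac_mem_pre.1 hx).1, hA' (fac_mem_pre.1 hx).2⟩), fun x hx => hV.le ?_,
          g, hg.restrict (sup_le hA0 hQ0), fun _ _ => rfl, hgQ⟩
        refine fac_mem_pre.2 ⟨hg.mem (hA0 hx), ?_⟩
        rw [hgg x (hA0 hx), hg'f _ (fac_mem_pre.1 hx).2, fn_apply φ' (fac_mem_pre.1 hx).2]
        exact hφ' _
      obtain ⟨h, hh⟩ := exists_conj_of_map hL.2.1 hgN
      refine ⟨π h, fun a => ?_⟩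
      obtain ⟨x, hx, hxa⟩ := fac_exists_pre hE hA'S a.2
      have hxV : x ∈ normalizerIn S Q :=
        hV.le (fac_mem_pre.2 ⟨(fac_mem_pre.1 hx).1, hA' (fac_mem_pre.1 hx).2⟩)
      have hgxV : g x ∈ normalizerIn S Q := hgN.mem hx
      have h1 := hh ⟨x, hxV⟩ hx ⟨g x, hgxV⟩ rfl
      rw [show (⟨(a : Ω'), hA' a.2⟩ : ↥(normalizerIn S' Q')) = lam ⟨x, hxV⟩ from Subtype.ext hxa.symm,
        show (⟨φ' a, hφ' a⟩ : ↥(normalizerIn S' Q')) = lam ⟨g x, hgxV⟩ from Subtype.ext (by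
          show φ' a = ue θ (g x)
          rw [hgg x (hA0 hx), hxa, hg'f _ a.2, fn_coe]), hκ, hκ, h1, map_mul, map_mul, map_inv]
    · obtain ⟨l, rfl⟩ := QuotientGroup.mk_surjective gb
      have hA'S : A' ≤ S' := hA'.trans inf_le_left
      have hA0V : preimageAlong θ A' ≤ normalizerIn S Q := fun x hx => hV.le
        (fac_mem_pre.2 ⟨(fac_mem_pre.1 hx).1, hA' (fac_mem_pre.1 hx).2⟩)
      have hkey : ∀ x : ↥(normalizerIn S Q), (x : Ω) ∈ preimageAlong θ A' → ∃ y : ↥(normalizerIn S Q),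
          ι y = l * ι x * l⁻¹ ∧ ∀ h, ue θ y = φ' ⟨ue θ x, h⟩ := by
        intro x hx
        obtain ⟨y₀, hy₀⟩ := hlam ⟨φ' ⟨ue θ x, (fac_mem_pre.1 hx).2⟩, hφ' _⟩
        have h1 : π (ι y₀) = π (l * ι x * l⁻¹) := by
          rw [← hκ, hy₀, hgb, map_mul, map_mul, map_inv, ← hκ]
          rfl
        obtain ⟨t, ht, hte⟩ := QuotientGroup.eq.1 h1
        refine ⟨y₀ * t, ?_, fun _ => ?_⟩
        · rw [map_mul, hte, mul_inv_cancel_left]
        · show ue θ ((y₀ : Ω) * t) = _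
          rw [ue_mul y₀.2.1 t.2.1, (fac_ue_eq_one hE t.2.1).2 ht, mul_one]
          exact congrArg Subtype.val hy₀
      obtain ⟨b, hb, hbl⟩ := exists_map_of_conj hL.2.1 hA0V l fun x hx =>
        let ⟨y, hy, _⟩ := hkey x hx; ⟨y, hy⟩
      obtain ⟨-, -, g, hg, hgb', hgQ⟩ := (map_normalizerSystem_iff hN).1 hb
      have hsup : preimageAlong θ (A' ⊔ Q') = preimageAlong θ A' ⊔ Q := by
        have hle : preimageAlong θ A' ⊔ Q ≤ S := sup_le (preimage_le _) hQ.1
        refine le_antisymm ?_ (sup_le ((fac_pre_le_iff hE hA'S).2 le_sup_left)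
          ((fac_pre_le_iff hE hQ'.1).2 le_sup_right))
        have h2 : A' ⊔ Q' ≤ imageAlong θ (preimageAlong θ A' ⊔ Q) := by
          refine sup_le (fun a ha => ?_) (fun a ha => ?_)
          · obtain ⟨x, hx, rfl⟩ := fac_exists_pre hE hA'S ha
            exact ue_mem_up hle (Subgroup.mem_sup_left hx)
          · obtain ⟨x, hx, rfl⟩ := fac_exists_pre hE hQ'.1 ha
            exact ue_mem_up hle (Subgroup.mem_sup_right hx)
        refine ((fac_pre_le_iff hE (sup_le hA'S hQ'.1)).2 h2).trans ?_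
        rw [fac_pre_up hE hle]
        exact sup_le le_rfl (hTQ.trans le_sup_right)
      have hg2 : Map F (preimageAlong θ (A' ⊔ Q')) g := hsup ▸ hg
      have hg' := fac_induced hE hT (sup_le hA'S hQ'.1) hg2
      have hspec : ∀ x ∈ preimageAlong θ (A' ⊔ Q'), ue θ (g x) = (fun a => ue θ (g (ve θ a))) (ue θ x) := by
        intro x hx
        refine fac_congr hE hT hg2 (fac_le_pre hE) hx ?_ (fac_ue_ve hE (fac_ue_mem hE (fac_mem_pre.1 hx).1)).symm
        exact fac_mem_pre.2 ⟨ve_mem, (fac_ue_ve hE (fac_ue_mem hE (fac_mem_pre.1 hx).1)).symm ▸ (fac_mem_pre.1 hx).2⟩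
      refine mem_iff_map.2 ((map_normalizerSystem_iff hN').2 ⟨hA', fun a ha => ?_, _, hg', fun a ha => ?_, ?_⟩)
      · rw [fn_apply φ' ha]; exact hφ' _
      · obtain ⟨x, hx, rfl⟩ := fac_exists_pre hE hA'S ha
        obtain ⟨y, hy, hyu⟩ := hkey ⟨x, hA0V hx⟩ hx
        have hs : ue θ (g x) = ue θ (g (ve θ (ue θ x))) := hspec x (hsup.ge (Subgroup.mem_sup_left hx))
        rw [← hs, hgb' x hx, hbl ⟨x, hA0V hx⟩ hx y hy, hyu ha, fn_apply φ' ha]
      · have hQ0 : Q ≤ preimageAlong θ (A' ⊔ Q') := (fac_pre_le_iff hE hQ'.1).2 le_sup_right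
        refine fac_pre_inj hE (hg'.restrict le_sup_right).im_le hQ'.1 ?_
        rw [fac_im hE hT (hg2.restrict hQ0) (hg'.restrict le_sup_right) (fun x hx => hspec x (hQ0 hx)), hgQ]
  have hrange : κ.range = ι.range.map π := by
    ext z
    constructor
    · rintro ⟨a, rfl⟩
      obtain ⟨x, rfl⟩ := hlam a
      exact ⟨ι x, ⟨x, rfl⟩, (hκ x).symm⟩
    · rintro ⟨_, ⟨x, rfl⟩, rfl⟩
      exact ⟨lam x, hκ x⟩
  have hsyl : ∃ P : Sylow p (L ⧸ Tm), (P : Subgroup (L ⧸ Tm)) = κ.range := by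
    obtain ⟨P, hP⟩ := hL.2.2.1
    exact ⟨P.mapSurjective (QuotientGroup.mk'_surjective Tm), by rw [hrange, ← hP]; rfl⟩
  let Qb : Subgroup (L ⧸ Tm) := ((Q.subgroupOf (normalizerIn S Q)).map ι).map π
  haveI : ((Q.subgroupOf (normalizerIn S Q)).map ι).Normal :=
    normal_image hL (normal_normalizerSystem hQ.1 hN)
  haveI : Qb.Normal := Subgroup.Normal.map inferInstance π (QuotientGroup.mk'_surjective Tm)
  have hmodel := model_quotient (show IsPGroup p ↥(normalizerIn S' Q') from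
      (fac_isPGroup hE hS).to_le inf_le_left) hreal hsyl Qb
    (by rw [hrange]; exact Subgroup.map_mono (Subgroup.map_le_range _ _))
    (fun a ha => ?_)
  · obtain ⟨e, -⟩ := model_unique (show IsPGroup p ↥(normalizerIn S' Q') from
      (fac_isPGroup hE hS).to_le inf_le_left) hmodel hL'
    refine hfree Q hQ hQc _ hN L ι hL (involves_of_surjective_hom
      ((e.toMonoidHom.comp (QuotientGroup.mk' _)).comp π)
      ((e.surjective.comp (QuotientGroup.mk'_surjective _)).comp (QuotientGroup.mk'_surjective Tm)) hinv)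
  · have hmem : (a : Ω') ∈ Q' := by
      refine centric_inv_mem hQ'c a.2.1 fun b hb => ?_
      obtain ⟨y, hy, rfl⟩ := fac_exists_pre hE hQ'.1 hb
      have hyV := le_normalizerIn hQ.1 hy
      have h1 := Subgroup.mem_centralizer_iff.1 ha (π (ι ⟨y, hyV⟩))
        ⟨ι ⟨y, hyV⟩, ⟨⟨y, hyV⟩, hy, rfl⟩, rfl⟩
      rw [← hκ, ← map_mul, ← map_mul] at h1
      exact congrArg Subtype.val (hκinj h1)
    obtain ⟨x, rfl⟩ := hlam a
    exact ⟨ι x, ⟨x, show (x : Ω) ∈ Q from fac_mem_pre.2 ⟨x.2.1, hmem⟩, rfl⟩, (hκ x).symm⟩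

end Cfsg.Agent.Local.FS
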