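import Cfsg.Agent.Lib.Local.FS.FourOffender
import Cfsg.Agent.Lib.Local.FS.FactorFree
import Cfsg.Agent.Lib.Fusion.LinearStable

/-!
A transvection inverting an element of odd order gives a section isomorphic to `S₄`.
-/

set_option autoImplicit false

namespace Cfsg.Agent.Local.FS

open Cfsg Cfsg.Agent.Fusion

section Module

variable {W : Type*} [CommGroup W] [Finite W] {Y : Type*} [Group Y] [Finite Y] (φ : Y →* MulAut W)

/-- The commutator map of an element. -/
def commMap (y : Y) : W →* W := MonoidHom.mk' (fun w => w * φ y w) fun u v => by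
  rw [map_mul, mul_mul_mul_comm]

set_option maxHeartbeats 1000000 in
/-- An offender gives a fours group on which a subgroup acts as `S₃`. -/
theorem exists_fours (hW : ∀ w : W, w * w = 1) (hφ : Function.Injective φ) {K A : Subgroup Y}
    [K.Normal] (hK : ∀ a ∈ K, ∀ b ∈ K, a * b = b * a) (hKodd : Odd (Nat.card K)) (hA : IsPGroup 2 A)
    (hAab : ∀ a ∈ A, ∀ b ∈ A, a * b = b * a) (hA1 : A ≠ ⊥)
    (hfaith : ∀ a ∈ A, (∀ k ∈ K, a * k = k * a) → a = 1)
    (hoff : (fixW φ (A : Set Y)).index ≤ Nat.card A) :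
    ∃ (a y : Y) (R : Subgroup W), Nat.card R = 4 ∧ y ≠ 1 ∧ y ^ 3 = 1 ∧ a * y * a⁻¹ = y⁻¹ ∧
      (∀ r ∈ R, φ a r ∈ R) ∧ (∀ r ∈ R, φ y r ∈ R) ∧ ∀ r ∈ R, φ y r = r → r = 1 := by
  obtain ⟨a, haA, ha1, ha2, haind⟩ := exists_transvection φ hW hφ hK hKodd hA hAab hA1 hfaith hoff
  obtain ⟨k, hk, hka⟩ : ∃ k ∈ K, a * k ≠ k * a := by
    by_contra hcon
    push Not at hcon
    exact ha1 (hfaith a haA hcon)
  have hai : a⁻¹ = a := inv_eq_of_mul_eq_one_right ha2
  set a' := k * a * k⁻¹ with ha'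
  set y := a * a' with hy
  have hy' : y = a * k * a⁻¹ * k⁻¹ := by rw [hy, ha', hai]; group
  have hyK : y ∈ K := hy' ▸ K.mul_mem ((inferInstance : K.Normal).conj_mem k hk a) (K.inv_mem hk)
  have hy1 : y ≠ 1 := fun h => hka (by
    rw [hy', mul_inv_eq_one, mul_inv_eq_iff_eq_mul] at h; exact h)
  have hinv : a * y * a⁻¹ = y⁻¹ := by
    calc a * y * a⁻¹ = (a * a) * (k * a * k⁻¹) * a⁻¹ := by rw [hy, ha']; group
      _ = k * a * k⁻¹ * a⁻¹ := by rw [ha2, one_mul]
      _ = y⁻¹ := by rw [hy, ha', mul_inv_rev, mul_inv_rev, mul_inv_rev, inv_inv, hai]; group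
  obtain ⟨n, hn, hyn⟩ : ∃ n, Odd n ∧ y ^ n = 1 :=
    ⟨orderOf y, hKodd.of_dvd_nat (Subgroup.orderOf_dvd_natCard K hyK), pow_orderOf_eq_one y⟩
  set R := (commMap φ y).range
  have hfree : ∀ r ∈ R, φ y r = r → r = 1 := by
    rintro _ ⟨w, rfl⟩ h
    exact eq_one_of_odd_fixed hW hn (f := φ y) (by rw [← map_pow, hyn, map_one]) h
  have hRy : ∀ r ∈ R, φ y r ∈ R := by
    rintro _ ⟨w, rfl⟩
    exact ⟨φ y w, (map_mul (φ y) w (φ y w)).symm⟩
  have hRa : ∀ r ∈ R, φ a r ∈ R := by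
    rintro _ ⟨w, rfl⟩
    set u := φ a w
    have h1 : φ a (φ y w) = φ y⁻¹ u := by
      rw [← MulAut.mul_apply, ← map_mul, show a * y = y⁻¹ * a by rw [← hinv]; group, map_mul, MulAut.mul_apply]
    refine ⟨φ y⁻¹ u, ?_⟩
    show φ y⁻¹ u * φ y (φ y⁻¹ u) = φ a (w * φ y w)
    rw [map_mul (φ a), h1, show φ y (φ y⁻¹ u) = u by
      rw [← MulAut.mul_apply, ← map_mul, mul_inv_cancel, map_one, MulAut.one_apply], mul_comm]
  -- order at most four
  have hR4 : Nat.card R ≤ 4 := by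
    have hTa : Nat.card (commMap φ a).range ≤ 2 := by
      rw [← Subgroup.index_ker]
      refine (Nat.le_of_dvd (Nat.pos_of_ne_zero Subgroup.index_ne_zero_of_finite)
        (Subgroup.index_dvd_of_le fun w hw => ?_)).trans haind
      show w * φ a w = 1
      rw [hw a rfl, hW]
    have hTa' : ∀ v, commMap φ a' v ∈ (commMap φ a).range.map (φ k).toMonoidHom := fun v => by
      refine ⟨commMap φ a (φ k⁻¹ v), ⟨_, rfl⟩, ?_⟩
      show φ k (φ k⁻¹ v * φ a (φ k⁻¹ v)) = v * φ a' v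
      rw [map_mul, ha', map_mul, map_mul, MulAut.mul_apply, MulAut.mul_apply,
        show φ k (φ k⁻¹ v) = v by rw [← MulAut.mul_apply, ← map_mul, mul_inv_cancel, map_one, MulAut.one_apply]]
    set U := (commMap φ a).range
    set V := U.map (φ k).toMonoidHom
    have hsub : (R : Set W) ⊆ (fun q : W × W => q.1 * q.2) '' ((V : Set W) ×ˢ (U : Set W)) := by
      rintro _ ⟨w, rfl⟩
      refine ⟨(commMap φ a' w, commMap φ a (φ a' w)), ⟨hTa' w, _, rfl⟩, ?_⟩
      show w * φ a' w * (φ a' w * φ a (φ a' w)) = w * φ y w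
      rw [mul_assoc, mul_self_cancel hW]
      simp only [hy, ha', map_mul, MulAut.mul_apply]
    calc Nat.card R = (R : Set W).ncard := Nat.card_coe_set_eq _
      _ ≤ ((V : Set W) ×ˢ (U : Set W)).ncard :=
          (Set.ncard_le_ncard hsub).trans (Set.ncard_image_le (Set.toFinite _))
      _ = Nat.card V * Nat.card U := by rw [Set.ncard_prod]; rfl
      _ ≤ 2 * 2 := Nat.mul_le_mul ((Subgroup.card_map_of_injective (φ k).injective).le.trans hTa) hTa
  obtain ⟨w₀, hw₀⟩ : ∃ w, φ y w ≠ w := by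
    by_contra hcon
    push Not at hcon
    exact hy1 (hφ ((MulEquiv.ext fun w => hcon w).trans (map_one φ).symm))
  set r := w₀ * φ y w₀
  have hrR : r ∈ R := ⟨w₀, rfl⟩
  have hr1 : r ≠ 1 := fun h => hw₀ (by
    calc φ y w₀ = w₀ * r := (mul_self_cancel hW _ _).symm
      _ = w₀ := by rw [h, mul_one])
  have hyy : ∀ s ∈ R, φ y (φ y s) = s → φ y s = s := by
    intro s _ hs
    obtain ⟨m, rfl⟩ := hn
    have h1 : ∀ i, (φ y ^ (2 * i)) s = s := by
      intro i
      induction i with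
      | zero => simp
      | succ i ih => rw [mul_add, pow_add, MulAut.mul_apply, mul_one, sq, MulAut.mul_apply, hs, ih]
    calc φ y s = φ y ((φ y ^ (2 * m)) s) := by rw [h1]
      _ = s := by rw [← MulAut.mul_apply, ← pow_succ', ← map_pow, hyn, map_one, MulAut.one_apply]
  have hne1 : ∀ s ∈ R, s ≠ 1 → φ y s ≠ s ∧ φ y s ≠ 1 ∧ φ y (φ y s) ≠ s :=
    fun s hs hs1 => ⟨fun h => hs1 (hfree s hs h), fun h => hs1 ((map_eq_one_iff _ (φ y).injective).1 h),
      fun h => hs1 (hfree s hs (hyy s hs h))⟩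
  obtain ⟨h1, h2, h3⟩ := hne1 r hrR hr1
  obtain ⟨h4, h5, -⟩ := hne1 _ (hRy r hrR) h2
  have hfour : ({1, r, φ y r, φ y (φ y r)} : Set W).ncard = 4 := by
    rw [Set.ncard_insert_of_notMem (by simp [Ne.symm hr1, Ne.symm h2, Ne.symm h5]),
      Set.ncard_insert_of_notMem (by simp [Ne.symm h1, Ne.symm h3]), Set.ncard_pair (Ne.symm h4)]
  have hset : (R : Set W) = {1, r, φ y r, φ y (φ y r)} := by
    refine (Set.eq_of_subset_of_ncard_le ?_ ?_).symm
    · rintro _ (rfl | rfl | rfl | rfl)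
      · exact R.one_mem
      · exact hrR
      · exact hRy r hrR
      · exact hRy _ (hRy r hrR)
    · rw [hfour, ← Nat.card_coe_set_eq]; exact hR4
  have hcard : Nat.card R = 4 := (Nat.card_coe_set_eq _).trans (hset ▸ hfour)
  refine ⟨a, y, R, hcard, hy1, ?_, hinv, hRa, hRy, hfree⟩
  have hy3R : ∀ s ∈ R, φ y (φ y (φ y s)) = s := by
    intro s hs
    have h3r : φ y (φ y (φ y r)) = r := by
      have hm : φ y (φ y (φ y r)) ∈ ({1, r, φ y r, φ y (φ y r)} : Set W) := hset ▸ hRy _ (hRy _ (hRy r hrR))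
      rcases hm with h | h | h | h
      · exact absurd ((map_eq_one_iff _ (φ y).injective).1 h) h5
      · exact h
      · exact absurd ((φ y).injective h) h3
      · exact absurd ((φ y).injective h) h4
    have hm : s ∈ ({1, r, φ y r, φ y (φ y r)} : Set W) := hset ▸ hs
    rcases hm with rfl | rfl | rfl | rfl
    · simp
    · exact h3r
    · rw [h3r]
    · rw [h3r]
  refine hφ ((MulEquiv.ext fun w => ?_).trans (map_one φ).symm)
  have hmem : w * φ (y ^ 3) w ∈ R := by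
    have e : w * φ (y ^ 3) w = (w * φ y w) * (φ y w * φ y (φ y w)) * (φ y (φ y w) * φ y (φ y (φ y w))) := by
      rw [mul_assoc w, mul_self_cancel hW, mul_assoc, mul_self_cancel hW, map_pow, pow_succ, pow_two,
        MulAut.mul_apply, MulAut.mul_apply]
    rw [e]
    exact R.mul_mem (R.mul_mem ⟨w, rfl⟩ ⟨φ y w, rfl⟩) ⟨φ y (φ y w), rfl⟩
  have hfix : φ (y ^ 3) (w * φ (y ^ 3) w) = w * φ (y ^ 3) w := by
    rw [map_pow, pow_succ, pow_two, MulAut.mul_apply, MulAut.mul_apply]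
    exact hy3R _ (by simpa [map_pow, pow_succ, MulAut.mul_apply] using hmem)
  have h6 := eq_one_of_odd_fixed hW hn (f := φ (y ^ 3))
    (by rw [← map_pow, ← pow_mul, mul_comm, pow_mul, hyn, one_pow, map_one]) hfix
  calc φ (y ^ 3) w = w * (w * φ (y ^ 3) w) := (mul_self_cancel hW _ _).symm
    _ = (1 : MulAut W) w := by rw [h6, mul_one, MulAut.one_apply]

end Module

/-- A subgroup of index four whose core has index at least twenty-four gives `S₄`. -/
theorem involves_four_of_cosets {G : Type*} [Group G] [Finite G] (N : Subgroup G) (h4 : N.index = 4)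
    (h24 : 24 ≤ N.normalCore.index) : Involves (Equiv.Perm (Fin 4)) G := by
  classical
  have e : G ⧸ N ≃ Fin 4 := Finite.equivFinOfCardEq h4
  set f : G →* Equiv.Perm (Fin 4) := e.permCongrHom.toMonoidHom.comp (MulAction.toPermHom G (G ⧸ N))
  have hker : f.ker = N.normalCore := by
    rw [Subgroup.normalCore_eq_ker]
    ext x
    simp [f, MonoidHom.mem_ker]
  have hsurj : Function.Surjective f := by
    rw [← MonoidHom.range_eq_top]
    refine Subgroup.eq_top_of_le_card _ ?_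
    rw [Nat.card_perm, Nat.card_fin, ← Subgroup.index_ker, hker]
    exact h24
  exact involves_of_surjective_hom f hsurj involves_refl

set_option maxHeartbeats 1000000 in
/-- An offender on a self-centralized module gives a section isomorphic to `S₄`. -/
theorem involves_four_of_offender {L : Type*} [Group L] [Finite L] {W Q : Subgroup L} [W.Normal] [Q.Normal]
    (hWab : ∀ a ∈ W, ∀ b ∈ W, a * b = b * a) (hW2 : ∀ a ∈ W, a * a = 1)
    (hQ : Q = Subgroup.centralizer (W : Set L)) (hQp : IsPGroup 2 Q) {K A : Subgroup (L ⧸ Q)} [K.Normal]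
    (hK : ∀ a ∈ K, ∀ b ∈ K, a * b = b * a) (hKodd : Odd (Nat.card K)) (hA : IsPGroup 2 A)
    (hAab : ∀ a ∈ A, ∀ b ∈ A, a * b = b * a) (hA1 : A ≠ ⊥)
    (hfaith : ∀ a ∈ A, (∀ k ∈ K, a * k = k * a) → a = 1)
    (hoff : (W ⊓ Subgroup.centralizer (A.comap (QuotientGroup.mk' Q) : Set L)).relIndex W ≤ Nat.card A) :
    Involves (Equiv.Perm (Fin 4)) L := by
  letI : CommGroup W :=
    { (inferInstance : Group W) with mul_comm := fun a b => Subtype.ext (hWab a a.2 b b.2) }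
  set π := QuotientGroup.mk' Q
  have hQker : ∀ q ∈ Q, (MulAut.conjNormal q : MulAut W) = 1 := fun q hq => MulEquiv.ext fun w => Subtype.ext (by
    rw [MulAut.conjNormal_apply, MulAut.one_apply, ← Subgroup.mem_centralizer_iff.1 (show q ∈ Subgroup.centralizer (W : Set L) from hQ ▸ hq) w w.2,
      mul_inv_cancel_right])
  set φ : L ⧸ Q →* MulAut W := QuotientGroup.lift Q MulAut.conjNormal hQker
  have hval : ∀ (l : L) (w : W), ((φ (π l) w : W) : L) = l * w * l⁻¹ := fun l w => MulAut.conjNormal_apply l w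
  have hfixmem : ∀ {l : L} {w : W}, φ (π l) w = w → (w : L) * l = l * w := fun {l w} h =>
    (mul_inv_eq_iff_eq_mul.1 ((hval l w).symm.trans (congrArg Subtype.val h))).symm
  have hφ : Function.Injective φ := by
    rw [← MonoidHom.ker_eq_bot_iff, Subgroup.eq_bot_iff_forall]
    intro z hz
    obtain ⟨l, rfl⟩ := QuotientGroup.mk'_surjective Q z
    refine (QuotientGroup.eq_one_iff l).2 ?_
    rw [hQ]
    refine Subgroup.mem_centralizer_iff.2 fun w hw => hfixmem (w := ⟨w, hw⟩) ?_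
    rw [show φ (π l) = 1 from hz, MulAut.one_apply]
  have hW : ∀ w : W, w * w = 1 := fun w => Subtype.ext (hW2 w w.2)
  have hoff' : (fixW φ (A : Set (L ⧸ Q))).index ≤ Nat.card A := by
    refine le_trans (Nat.le_of_dvd (Nat.pos_of_ne_zero Subgroup.index_ne_zero_of_finite)
      (Subgroup.index_dvd_of_le fun w hw b hb => ?_)) hoff
    obtain ⟨l, rfl⟩ := QuotientGroup.mk'_surjective Q b
    refine Subtype.ext ((hval l w).trans ?_)
    rw [mul_inv_eq_iff_eq_mul]
    exact Subgroup.mem_centralizer_iff.1 (Subgroup.mem_inf.1 hw).2 l hb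
  obtain ⟨a₂, y₂, R, hR4, hy1, hy3, hinv, hRa, hRy, hfree⟩ :=
    exists_fours φ hW hφ hK hKodd hA hAab hA1 hfaith hoff'
  obtain ⟨a, rfl⟩ := QuotientGroup.mk'_surjective Q a₂
  obtain ⟨y₁, rfl⟩ := QuotientGroup.mk'_surjective Q y₂
  -- a lift of order three
  obtain ⟨l₀, hl₀⟩ := hQp ⟨y₁ ^ 3, (QuotientGroup.eq_one_iff _).1 (by rw [← hy3]; rfl)⟩
  set y := y₁ ^ 2 ^ l₀
  have hy : y ^ 3 = 1 := by
    rw [← pow_mul, mul_comm, pow_mul]; exact congrArg Subtype.val hl₀
  have hπy : π y = π y₁ ∨ π y = (π y₁)⁻¹ := by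
    have h3 : ¬ 3 ∣ 2 ^ l₀ := fun h => by
      have := Nat.Prime.dvd_of_dvd_pow Nat.prime_three h
      omega
    rw [map_pow]
    obtain ⟨i, hi | hi⟩ : ∃ i, 2 ^ l₀ = 3 * i + 1 ∨ 2 ^ l₀ = 3 * i + 2 := ⟨2 ^ l₀ / 3, by omega⟩
    · left; rw [hi, pow_add, pow_mul, hy3, one_pow, one_mul, pow_one]
    · right
      rw [hi, pow_add, pow_mul, hy3, one_pow, one_mul]
      exact eq_inv_of_mul_eq_one_right (by rw [← pow_succ']; exact hy3)
  have hπy1 : π y ≠ 1 := by
    rcases hπy with h | h <;> rw [h]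
    · exact hy1
    · exact inv_ne_one.2 hy1
  have hπinv : π a * π y * (π a)⁻¹ = (π y)⁻¹ := by
    rcases hπy with h | h <;> rw [h]
    · exact hinv
    · rw [← conj_inv, hinv]
  have hyfree : ∀ r ∈ R, φ (π y) r = r → r = 1 := by
    intro r hr h
    refine hfree r hr ?_
    rcases hπy with h' | h' <;> rw [h'] at h
    · exact h
    · conv_lhs => rw [← h]
      rw [← MulAut.mul_apply, ← map_mul, mul_inv_cancel, map_one, MulAut.one_apply]
  have hyR : ∀ r ∈ R, φ (π y) r ∈ R := by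
    intro r hr
    rw [map_pow, map_pow]
    generalize 2 ^ l₀ = i
    induction i generalizing r with
    | zero => simpa using hr
    | succ i ih => rw [pow_succ, MulAut.mul_apply]; exact ih _ (hRy r hr)
  -- the transvection normalizes a conjugate
  set Z := (Subgroup.zpowers (π y)).comap π with hZ
  have hyZ : Subgroup.zpowers y ≤ Z := Subgroup.zpowers_le.2 (Subgroup.mem_zpowers (π y))
  haveI : Fact (Nat.Prime 3) := ⟨Nat.prime_three⟩
  have hord : orderOf y = 3 := orderOf_eq_prime hy fun h => hπy1 (by rw [h, map_one])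
  have hordπ : orderOf (π y) = 3 := orderOf_eq_prime (by rw [← map_pow, hy, map_one]) hπy1
  have hsyl : SylIn 3 (Subgroup.zpowers y) Z := by
    refine ⟨hyZ, IsPGroup.of_card (n := 1) (by rw [Nat.card_zpowers, hord, pow_one]), ?_⟩
    obtain ⟨i, hi⟩ := IsPGroup.iff_card.1 hQp
    have h1 := Subgroup.relIndex_comap (⊥ : Subgroup (L ⧸ Q)) π Z
    rw [hZ, Subgroup.map_comap_eq_self_of_surjective (QuotientGroup.mk'_surjective Q),
      MonoidHom.comap_bot, QuotientGroup.ker_mk', Subgroup.relIndex_bot_left, Nat.card_zpowers, hordπ, ← hZ] at h1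
    have hQZ : Q ≤ Z := fun q hq => by
      show π q ∈ Subgroup.zpowers (π y)
      rw [show π q = 1 from (QuotientGroup.eq_one_iff q).2 hq]; exact one_mem _
    have h2 := Subgroup.relIndex_mul_relIndex (⊥ : Subgroup L) Q Z bot_le hQZ
    have h3 := Subgroup.relIndex_mul_relIndex (⊥ : Subgroup L) (Subgroup.zpowers y) Z bot_le hyZ
    rw [Subgroup.relIndex_bot_left, Subgroup.relIndex_bot_left, h1] at h2
    rw [Subgroup.relIndex_bot_left, Subgroup.relIndex_bot_left, Nat.card_zpowers, hord, ← h2, hi,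
      mul_comm] at h3
    rw [Nat.eq_of_mul_eq_mul_right (by norm_num) h3]
    intro h
    have := Nat.Prime.dvd_of_dvd_pow Nat.prime_three h
    omega
  have haZ : a ∈ Subgroup.normalizer (Z : Set L) := by
    refine mem_normalizer_of_cj_le ?_
    rintro _ ⟨z, hz, rfl⟩
    show π (a * z * a⁻¹) ∈ Subgroup.zpowers (π y)
    obtain ⟨i, hi⟩ := Subgroup.mem_zpowers_iff.1 (show π z ∈ Subgroup.zpowers (π y) from hz)
    rw [map_mul, map_mul, map_inv, ← hi, ← conj_zpow, hπinv]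
    exact zpow_mem (inv_mem (Subgroup.mem_zpowers _)) _
  obtain ⟨z, hz, hza⟩ := frattini_conj hsyl (H := Subgroup.normalizer (Z : Set L)) le_rfl haZ
  set b := z * a
  -- the subgroup inducing `S₄`
  set R' : Subgroup L := R.map W.subtype
  have hR'4 : Nat.card R' = 4 := (Subgroup.card_map_of_injective W.subtype_injective).trans hR4
  have hstab : ∀ l : L, (∀ r ∈ R, φ (π l) r ∈ R) → l ∈ Subgroup.normalizer (R' : Set L) := fun l hl =>
    mem_normalizer_of_cj_le (by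
      rintro _ ⟨_, ⟨r, hr, rfl⟩, rfl⟩
      exact ⟨φ (π l) r, hl r hr, hval l r⟩)
  have hzR : ∀ r ∈ R, φ (π z) r ∈ R := by
    obtain ⟨i, hi⟩ := Subgroup.mem_zpowers_iff.1 (show π z ∈ Subgroup.zpowers (π y) from hz)
    rw [← hi]
    clear hi
    intro r hr
    induction i using Int.induction_on generalizing r with
    | zero => simpa using hr
    | succ i ih => rw [zpow_add_one, map_mul, MulAut.mul_apply]; exact ih _ (hyR r hr)
    | pred i ih =>
      rw [zpow_sub_one, map_mul, MulAut.mul_apply]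
      refine ih _ ?_
      rw [show (π y)⁻¹ = π y * π y from inv_eq_of_mul_eq_one_right (by
        rw [← mul_assoc, ← pow_three', ← map_pow, hy, map_one]), map_mul, MulAut.mul_apply]
      exact hyR _ (hyR r hr)
  set N := Subgroup.normalizer (Subgroup.zpowers y : Set L) ⊓ Subgroup.normalizer (R' : Set L)
  have hyN : y ∈ N := ⟨Subgroup.le_normalizer (Subgroup.mem_zpowers y), hstab y hyR⟩
  have hbN : b ∈ N := ⟨hza, hstab b fun r hr => by
    rw [map_mul, map_mul, MulAut.mul_apply]; exact hzR _ (hRa r hr)⟩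
  have hdisj : ∀ x ∈ N, x ∈ R' → x = 1 := by
    rintro _ hxN ⟨r, hr, rfl⟩
    have h1 : W.subtype r * y * (W.subtype r)⁻¹ * y⁻¹ ∈ R' := by
      rw [show W.subtype r * y * (W.subtype r)⁻¹ * y⁻¹ = W.subtype r * (y * (W.subtype r)⁻¹ * y⁻¹) by group]
      exact R'.mul_mem ⟨r, hr, rfl⟩ (conj_mem_of_normalizer hyN.2 (R'.inv_mem ⟨r, hr, rfl⟩))
    have h2 : W.subtype r * y * (W.subtype r)⁻¹ * y⁻¹ ∈ Subgroup.zpowers y :=
      mul_mem (conj_mem_of_normalizer hxN.1 (Subgroup.mem_zpowers y)) (inv_mem (Subgroup.mem_zpowers y))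
    have h3 : R' ⊓ Subgroup.zpowers y = ⊥ := by
      refine Subgroup.inf_eq_bot_of_coprime ?_
      rw [hR'4, Nat.card_zpowers, hord]
      norm_num
    have h4 : W.subtype r * y * (W.subtype r)⁻¹ * y⁻¹ = 1 :=
      Subgroup.mem_bot.1 (h3 ▸ ⟨h1, h2⟩)
    rw [mul_inv_eq_one, mul_inv_eq_iff_eq_mul] at h4
    rw [show r = 1 from hyfree r hr (Subtype.ext (by
      rw [hval, ← show (r : L) * y = y * r from h4, mul_inv_cancel_right]))]
    rfl
  set M := R' ⊔ N
  set N₁ := N.subgroupOf M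
  have hprod : ∀ x ∈ M, ∃ r ∈ R', ∃ n ∈ N, r * n = x := fun x hx => by
    obtain ⟨n, hn, r, hr, rfl⟩ := exists_mul_of_mem_sup inf_le_right (show x ∈ N ⊔ R' by rwa [sup_comm])
    exact ⟨n * r * n⁻¹, conj_mem_of_normalizer hn.2 hr, n, hn, by group⟩
  have hindex : N₁.index = 4 := by
    rw [← hR'4]
    have hcompl : Subgroup.IsComplement' (R'.subgroupOf M) N₁ := by
      refine Subgroup.isComplement'_of_disjoint_and_mul_eq_univ ?_ ?_
      · rw [disjoint_iff, Subgroup.eq_bot_iff_forall]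
        exact fun x hx => Subtype.ext (hdisj x hx.2 hx.1)
      · refine Set.eq_univ_of_forall fun x => ?_
        obtain ⟨r, hr, n, hn, hrn⟩ := hprod x x.2
        exact ⟨⟨r, Subgroup.mem_sup_left hr⟩, hr, ⟨n, Subgroup.mem_sup_right hn⟩, hn, Subtype.ext hrn⟩
    rw [hcompl.index_eq_card, Nat.card_congr (Subgroup.subgroupOfEquivOfLe le_sup_left).toEquiv]
  refine involves_trans (involves_four_of_cosets N₁ hindex ?_) (involves_subgroup involves_refl M)
  set C := (N ⊓ Subgroup.centralizer (R' : Set L)).subgroupOf M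
  have hcoreC : N₁.normalCore ≤ C := fun x hx => by
    have hxN : (x : L) ∈ N := Subgroup.normalCore_le N₁ hx
    refine ⟨hxN, Subgroup.mem_centralizer_iff.2 fun r hr => ?_⟩
    have h1 : (r : L) * x * r⁻¹ ∈ N := hx ⟨r, Subgroup.mem_sup_left hr⟩
    have h2 : r * x * r⁻¹ * (x : L)⁻¹ = 1 := hdisj _ (N.mul_mem h1 (N.inv_mem hxN)) (by
      rw [show r * x * r⁻¹ * (x : L)⁻¹ = r * (x * r⁻¹ * (x : L)⁻¹) by group]
      exact R'.mul_mem hr (conj_mem_of_normalizer hxN.2 (R'.inv_mem hr)))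
    rwa [mul_inv_eq_one, mul_inv_eq_iff_eq_mul] at h2
  refine le_trans ?_ (Nat.le_of_dvd (Nat.pos_of_ne_zero Subgroup.index_ne_zero_of_finite)
    (Subgroup.index_dvd_of_le hcoreC))
  rw [← Subgroup.relIndex_mul_index (show C ≤ N₁ from Subgroup.comap_mono inf_le_left), hindex,
    Subgroup.relIndex_subgroupOf le_sup_right]
  -- at least six cosets
  set C₀ := N ⊓ Subgroup.centralizer (R' : Set L) with hC₀
  suffices 6 ≤ C₀.relIndex N by omega
  have hnot : ∀ l : L, l ∈ C₀ → ∀ r ∈ R, φ (π l) r = r := fun l hl r hr => Subtype.ext (by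
    rw [hval, mul_inv_eq_iff_eq_mul]
    exact Subgroup.mem_centralizer_iff.1 hl.2 _ ⟨r, hr, rfl⟩ |>.symm)
  obtain ⟨⟨r, hr⟩, hr1⟩ : ∃ r : R, r ≠ 1 := by
    haveI : Nontrivial R := Finite.one_lt_card_iff_nontrivial.1 (by omega)
    exact exists_ne 1
  have hr1' : r ≠ 1 := fun h => hr1 (Subtype.ext h)
  have hπr : ∀ l ∈ C₀, φ (π l) r = r := fun l hl => hnot l hl r hr
  set D := C₀.subgroupOf N
  haveI : D.Normal := by
    refine ⟨fun x hx g => ?_⟩
    refine ⟨(g * x * g⁻¹).2, Subgroup.mem_centralizer_iff.2 fun s hs => ?_⟩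
    have h1 : (g : L)⁻¹ * s * g ∈ R' := by
      simpa using conj_mem_of_normalizer (inv_mem g.2.2) hs
    calc s * ((g : L) * x * (g : L)⁻¹) = g * (((g : L)⁻¹ * s * g) * x) * (g : L)⁻¹ := by group
      _ = g * (x * ((g : L)⁻¹ * s * g)) * (g : L)⁻¹ := by
          rw [Subgroup.mem_centralizer_iff.1 (show (x : L) ∈ Subgroup.centralizer (R' : Set L) from hx.2) _ h1]
      _ = (g : L) * x * (g : L)⁻¹ * s := by group
  rw [Subgroup.relIndex, Subgroup.index_eq_card]
  set ρ := QuotientGroup.mk' D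
  have hyD : ρ ⟨y, hyN⟩ ≠ 1 := fun h => hr1' (hyfree r hr (hπr y ((QuotientGroup.eq_one_iff (N := D) (⟨y, hyN⟩ : N)).1 h)))
  have hoy : orderOf (ρ ⟨y, hyN⟩) = 3 := orderOf_eq_prime (by
    rw [← map_pow, show (⟨y, hyN⟩ : N) ^ 3 = 1 from Subtype.ext hy, map_one]) hyD
  have hnc : ρ ⟨b, hbN⟩ * ρ ⟨y, hyN⟩ ≠ ρ ⟨y, hyN⟩ * ρ ⟨b, hbN⟩ := by
    intro h
    have h1 : ρ (⟨b, hbN⟩ * ⟨y, hyN⟩ * ⟨b, hbN⟩⁻¹ * ⟨y, hyN⟩⁻¹) = 1 := by
      rw [map_mul, map_mul, map_mul, map_inv, map_inv, h, mul_inv_cancel_right, mul_inv_cancel]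
    set e : N := ⟨b, hbN⟩ * ⟨y, hyN⟩ * ⟨b, hbN⟩⁻¹ * ⟨y, hyN⟩⁻¹
    have h2 : φ (π (b * y * b⁻¹ * y⁻¹)) r = r := hπr _ ((QuotientGroup.eq_one_iff e).1 h1)
    obtain ⟨i, hi⟩ := Subgroup.mem_zpowers_iff.1 (show π z ∈ Subgroup.zpowers (π y) from hz)
    have h3 : π (b * y * b⁻¹ * y⁻¹) = π y := by
      have h4 : π b * π y * (π b)⁻¹ = (π y)⁻¹ := by
        calc π b * π y * (π b)⁻¹ = π z * (π a * π y * (π a)⁻¹) * (π z)⁻¹ := by rw [map_mul]; group
          _ = (π y)⁻¹ := by rw [hπinv, ← hi]; group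
      rw [map_mul, map_mul, map_mul, map_inv, map_inv, h4]
      calc (π y)⁻¹ * (π y)⁻¹ = π y * (π y ^ 3)⁻¹ := by group
        _ = π y := by rw [← map_pow, hy, map_one, inv_one, mul_one]
    exact hr1' (hyfree r hr (h3 ▸ h2))
  show 6 ≤ Nat.card (N ⧸ D)
  have h3dvd : 3 ∣ Nat.card (N ⧸ D) := hoy ▸ orderOf_dvd_natCard _
  obtain ⟨q, hq⟩ := h3dvd
  have hq0 : 0 < Nat.card (N ⧸ D) := Nat.card_pos
  rcases q with - | _ | q
  · omega
  · haveI : Fact (Nat.Prime 3) := ⟨Nat.prime_three⟩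
    haveI := isCyclic_of_prime_card (α := N ⧸ D) (p := 3) hq
    letI := IsCyclic.commGroup (α := N ⧸ D)
    exact absurd (mul_comm _ _) hnc
  · omega

end Cfsg.Agent.Local.FS
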