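import Cfsg.Agent.Lib.Local.FS.FreeConstrained
import Cfsg.Agent.Lib.Local.FS.Group
import Cfsg.Agent.Lib.Fusion.QdNoControl

/-!
A group is `Qd(p)`-free exactly when its fusion system is.
-/

set_option autoImplicit false

namespace Cfsg.Agent.Local.FS

open Cfsg Cfsg.FusionSystem Cfsg.Agent.Fusion

universe u v

variable {G : Type u} [Group G] [Finite G] {p : ℕ} [Fact p.Prime] {S : Subgroup G}

/-- The normalizer system of a fully normalized subgroup is realized by the normalizer. -/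
theorem realized_normalizer_group (hS : SylIn p S ⊤) {Q : Subgroup G}
    (hQ : (groupFusionSystem S).IsFullyNormalized Q) {N : FusionSystem (normalizerIn S Q)}
    (hN : (groupFusionSystem S).IsNormalizerSystem Q N) :
    N.IsRealizedBy (Subgroup.inclusion (inf_le_right : normalizerIn S Q ≤ Subgroup.normalizer (Q : Set G))) ∧
      ∃ T : Sylow p ↥(Subgroup.normalizer (Q : Set G)), (T : Subgroup ↥(Subgroup.normalizer (Q : Set G))) =
        (Subgroup.inclusion (inf_le_right : normalizerIn S Q ≤ Subgroup.normalizer (Q : Set G))).range := by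
  have hsyl := (fn_group_iff hS hQ.1).1 hQ
  set H := Subgroup.normalizer (Q : Set G)
  have hinc : Function.Injective (Subgroup.inclusion (inf_le_right : normalizerIn S Q ≤ H)) :=
    Subgroup.inclusion_injective _
  have hr : N.IsRealizedBy (Subgroup.inclusion (inf_le_right : normalizerIn S Q ≤ H)) := by
    refine ⟨hinc, fun A hA φ hφ => ⟨fun h => ?_, fun ⟨g, hg⟩ => ?_⟩⟩
    · obtain ⟨-, -, f, hf, hff, hfQ⟩ := (map_normalizerSystem_iff hN).1 (map_of_mem h)
      obtain ⟨-, -, g, hg⟩ := map_group_iff.1 hf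
      have hgQ : g ∈ H := by
        refine mem_normalizer_of_conj_mem le_rfl fun x hx => ?_
        rw [← hg x (Subgroup.mem_sup_right hx)]
        exact hfQ.le (mem_im_of_mem hx)
      refine ⟨⟨g, hgQ⟩, fun x => Subtype.ext ?_⟩
      show φ x = g * (x : G) * g⁻¹
      rw [← hg x (Subgroup.mem_sup_left x.2), hff x x.2, fn_coe]
    · have hval : ∀ x ∈ A, fn φ x = (g : G) * x * (g : G)⁻¹ := fun x hx =>
        (fn_apply φ hx).trans (congrArg Subtype.val (hg ⟨x, hx⟩))
      have hAS : A ⊔ Q ≤ S.comap (MulAut.conj (g : G)).toMonoidHom := sup_le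
        (fun x hx => by
          show (g : G) * x * (g : G)⁻¹ ∈ S
          rw [← hval x hx, fn_apply φ hx]; exact (hφ _).1)
        (fun x hx => hQ.1 (conj_mem_of_normalizer g.2 hx))
      refine mem_iff_map.2 ((map_normalizerSystem_iff hN).2 ⟨hA, fun x hx => by
        rw [fn_apply φ hx]; exact hφ _, fun x => (g : G) * x * (g : G)⁻¹, map_group_iff.2
          ⟨sup_le (hA.trans inf_le_left) hQ.1, fun x hx => hAS hx, g, fun _ _ => rfl⟩,
        fun x hx => (hval x hx).symm, ?_⟩)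
      rw [im_conj]
      exact Subgroup.eq_of_le_of_card_ge
        (by rintro _ ⟨x, hx, rfl⟩; exact conj_mem_of_normalizer g.2 hx) (card_cj Q _).ge
  have hsyl' : ∃ T : Sylow p H, (T : Subgroup H) =
      (Subgroup.inclusion (inf_le_right : normalizerIn S Q ≤ H)).range := by
    obtain ⟨T, hT⟩ := hsyl.exists_sylow_subgroupOf
    exact ⟨T, hT.trans (Subgroup.inclusion_range _).symm⟩
  exact ⟨hr, hsyl'⟩

/-- The model of the normalizer system of a centric fully normalized subgroup of a group system. -/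
theorem exists_model_group (hS : SylIn p S ⊤) {Q : Subgroup G}
    (hQ : (groupFusionSystem S).IsFullyNormalized Q) (hQc : (groupFusionSystem S).IsCentric Q)
    {N : FusionSystem (normalizerIn S Q)} (hN : (groupFusionSystem S).IsNormalizerSystem Q N) :
    N.IsModel p (↥(Subgroup.normalizer (Q : Set G)) ⧸ pPrimeCore p ↥(Subgroup.normalizer (Q : Set G)))
      ((QuotientGroup.mk' _).comp (Subgroup.inclusion inf_le_right)) := by
  have hsyl := (fn_group_iff hS hQ.1).1 hQ
  set H := Subgroup.normalizer (Q : Set G)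
  obtain ⟨hr, hsyl'⟩ := realized_normalizer_group hS hQ hN
  haveI : (Q.subgroupOf H).Normal := Subgroup.normal_in_normalizer
  refine model_quotient (hS.isPGroup.to_le inf_le_left) hr hsyl' (Q.subgroupOf H) ?_ fun s hs => ?_
  · intro x hx
    exact ⟨⟨x, le_normalizerIn hQ.1 (Subgroup.mem_subgroupOf.1 hx)⟩, Subtype.ext rfl⟩
  · refine Subgroup.mem_subgroupOf.2 (centric_inv_mem hQc s.2.1 fun y hy => ?_)
    exact congrArg Subtype.val (Subgroup.mem_centralizer_iff.1 hs ⟨y, Subgroup.le_normalizer hy⟩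
      (Subgroup.mem_subgroupOf.2 hy))

/-- A group without a section gives a section-free fusion system. -/
theorem group_sectionFree {X : Type*} [Group X] (hS : SylIn p S ⊤) (h : ¬ Involves X G) :
    (groupFusionSystem S).IsSectionFree p X := by
  intro Q hQ hQc N hN L _ ι hL hinv
  haveI : Finite ↥(normalizerIn S Q) := finite_of_le inf_le_left
  obtain ⟨e, -⟩ := model_unique (hS.isPGroup.to_le inf_le_left) (exists_model_group hS hQ hQc hN) hL
  exact h (involves_trans (involves_of_surjective_hom (e.toMonoidHom.comp (QuotientGroup.mk' _))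
    (e.surjective.comp (QuotientGroup.mk'_surjective _)) hinv) (involves_subgroup involves_refl _))

/-- The translations of the affine group. -/
def qdTr (p : ℕ) (w : Fin 2 → ZMod p) : ↥(qd p) := ⟨affMat p 1 w, affMat_mem_qd p 1 w⟩

theorem qdTr_add (a b : Fin 2 → ZMod p) : qdTr p (a + b) = qdTr p a * qdTr p b := by
  refine Subtype.ext ?_
  show affMat p 1 (a + b) = affMat p 1 a * affMat p 1 b
  rw [affMat_mul, one_mul, show (1 : Matrix.SpecialLinearGroup (Fin 2) (ZMod p)).1 = 1 from rfl,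
    Matrix.one_mulVec, add_comm]

theorem qdTr_zero : qdTr p 0 = 1 := by
  have h := qdTr_add (p := p) 0 0
  rw [add_zero] at h
  exact left_eq_mul.1 h

theorem qdTr_conj (x : ↥(qd p)) :
    ∃ R : Matrix.SpecialLinearGroup (Fin 2) (ZMod p), ∀ w, x * qdTr p w * x⁻¹ = qdTr p (R.1.mulVec w) := by
  obtain ⟨R, v, hx⟩ := qd_elim x
  refine ⟨R, fun w => ?_⟩
  rw [mul_inv_eq_iff_eq_mul]
  refine Subtype.ext ?_
  show x.1 * affMat p 1 w = affMat p 1 (R.1.mulVec w) * x.1
  rw [← hx, affMat_mul, affMat_mul, mul_one, one_mul,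
    show (1 : Matrix.SpecialLinearGroup (Fin 2) (ZMod p)).1 = 1 from rfl, Matrix.one_mulVec, add_comm]

theorem exists_qdTr_lin (R : Matrix.SpecialLinearGroup (Fin 2) (ZMod p)) :
    ∃ x : ↥(qd p), ∀ w, x * qdTr p w * x⁻¹ = qdTr p (R.1.mulVec w) := by
  refine ⟨⟨affMat p R 0, affMat_mem_qd p R 0⟩, fun w => ?_⟩
  rw [mul_inv_eq_iff_eq_mul]
  refine Subtype.ext ?_
  show affMat p R 0 * affMat p 1 w = affMat p 1 (R.1.mulVec w) * affMat p R 0
  rw [affMat_mul, affMat_mul, mul_one, one_mul,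
    show (1 : Matrix.SpecialLinearGroup (Fin 2) (ZMod p)).1 = 1 from rfl, Matrix.one_mulVec, add_comm]

theorem qdTr_injective : Function.Injective (qdTr p) := by
  intro a b h
  have h1 : affMat p 1 a = affMat p 1 b := congrArg Subtype.val h
  exact (affMat_injective h1).2

/-- The translations as a subgroup. -/
def qdV (p : ℕ) [Fact p.Prime] : Subgroup ↥(qd p) :=
  (MonoidHom.mk' (fun w : Multiplicative (Fin 2 → ZMod p) => qdTr p w.toAdd)
    fun a b => qdTr_add a.toAdd b.toAdd).range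

theorem qdV_normal : (qdV p).Normal := by
  refine ⟨?_⟩
  rintro _ ⟨w, rfl⟩ x
  obtain ⟨R, hR⟩ := qdTr_conj x
  exact ⟨Multiplicative.ofAdd (R.1.mulVec w.toAdd), (hR _).symm⟩

theorem isPGroup_qdV : IsPGroup p ↥(qdV p) := by
  rintro ⟨_, w, rfl⟩
  refine ⟨1, Subtype.ext ?_⟩
  show qdTr p w.toAdd ^ p ^ 1 = 1
  have hpow : ∀ i : ℕ, qdTr p w.toAdd ^ i = qdTr p (i • w.toAdd) := fun i => by
    induction i with
    | zero => simp [qdTr_zero]
    | succ i ih => rw [pow_succ, ih, succ_nsmul, qdTr_add]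
  rw [hpow, pow_one, ← qdTr_zero]
  congr 1
  ext i
  simp

set_option maxHeartbeats 800000 in
/-- A realization of the fusion of `G` in `L` carries sections `Qd(p)` to `L`. -/
theorem involves_qd_of_realized (hp : p ≠ 2) (hS : SylIn p S ⊤) {L : Type v} [Group L] [Finite L]
    (κ : S →* L) (hκ : Function.Injective κ)
    (hreal : ∀ (A : Subgroup S) (g : G) (hg : ∀ a ∈ A, g * (a : G) * g⁻¹ ∈ S),
      ∃ l : L, ∀ (a : S) (ha : a ∈ A), l * κ a * l⁻¹ = κ ⟨g * (a : G) * g⁻¹, hg a ha⟩)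
    (h : Involves ↥(qd p) G) : Involves ↥(qd p) L := by
  classical
  obtain ⟨K, f, hf⟩ := involves_exists_surjective h
  haveI : Finite ↥(qd p) := Finite.of_surjective f hf
  haveI := qdV_normal (p := p)
  -- a Sylow subgroup over the translations
  set VK := (qdV p).comap f with hVK
  haveI : VK.Normal := Subgroup.normal_comap f
  obtain ⟨T₀⟩ : Nonempty (Sylow p VK) := inferInstance
  set T : Subgroup K := (T₀ : Subgroup VK).map VK.subtype with hT
  set N₀ := Subgroup.normalizer (T : Set K)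
  let fv : VK →* qdV p := (f.comp VK.subtype).codRestrict _ fun x => x.2
  have hfv : Function.Surjective fv := by
    rintro ⟨y, hy⟩
    obtain ⟨x, rfl⟩ := hf y
    exact ⟨⟨x, hy⟩, rfl⟩
  have hTV : ∀ w, ∃ t : K, t ∈ T ∧ f t = qdTr p w := by
    intro w
    have htop : (T₀.mapSurjective hfv : Subgroup (qdV p)) = ⊤ :=
      ((T₀.mapSurjective hfv).is_maximal' (Q := ⊤) ((isPGroup_qdV (p := p)).of_equiv Subgroup.topEquiv.symm) le_top).symm
    have hmem : (⟨qdTr p w, Multiplicative.ofAdd w, rfl⟩ : qdV p) ∈ (T₀.mapSurjective hfv : Subgroup (qdV p)) := by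
      rw [htop]; trivial
    obtain ⟨x, hx, hxe⟩ := hmem
    exact ⟨x, ⟨x, hx, rfl⟩, congrArg Subtype.val hxe⟩
  have hTimg : ∀ t ∈ T, ∃ w, f t = qdTr p w := by
    rintro _ ⟨x, -, rfl⟩
    obtain ⟨w, hw⟩ := x.2
    exact ⟨w.toAdd, hw.symm⟩
  have hN₀ : ∀ y, ∃ k ∈ N₀, f k = y := by
    intro y
    obtain ⟨x, rfl⟩ := hf y
    have hx : x ∈ ((N₀ ⊔ VK : Subgroup K) : Set K) := by
      rw [Sylow.normalizer_sup_eq_top T₀]; trivial
    rw [Subgroup.mul_normal] at hx
    obtain ⟨a, ha, b, hb, rfl⟩ := hx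
    obtain ⟨w, hw⟩ := (hb : f b ∈ qdV p)
    obtain ⟨t, ht, hte⟩ := hTV w.toAdd
    refine ⟨a * t, mul_mem ha (Subgroup.le_normalizer ht), ?_⟩
    rw [map_mul, map_mul, hte, ← hw]; rfl
  -- move into `S`
  have hTG : IsPGroup p ↥(T.map K.subtype) := (T₀.2.map _).map _
  obtain ⟨c, -, hc⟩ := hS.conj_le hTG le_top
  have hτmem : ∀ t : T, c * ((t : K) : G) * c⁻¹ ∈ S := fun t => hc (conj_mem_cj ⟨t, t.2, rfl⟩)
  let τ : T →* S := MonoidHom.mk' (fun t => ⟨c * ((t : K) : G) * c⁻¹, hτmem t⟩) fun a b => Subtype.ext (by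
    show c * (((a : K) : G) * ((b : K) : G)) * c⁻¹ = c * ((a : K) : G) * c⁻¹ * (c * ((b : K) : G) * c⁻¹)
    group)
  let j : T →* L := κ.comp τ
  have hj : Function.Injective j := hκ.comp fun a b he => by
    have := congrArg Subtype.val he
    exact Subtype.ext (Subtype.ext (mul_left_cancel (mul_right_cancel this)))
  let act : N₀ → T → T := fun k t => ⟨(k : K) * t * (k : K)⁻¹, conj_mem_of_normalizer k.2 t.2⟩
  have hex : ∀ k : N₀, ∃ l : L, ∀ t : T, l * j t * l⁻¹ = j (act k t) := by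
    intro k
    have hcalc : ∀ t : T, (c * ((k : K) : G) * c⁻¹) * (τ t : G) * (c * ((k : K) : G) * c⁻¹)⁻¹ = (τ (act k t) : G) := by
      intro t
      show (c * ((k : K) : G) * c⁻¹) * (c * ((t : K) : G) * c⁻¹) * (c * ((k : K) : G) * c⁻¹)⁻¹ =
        c * (((k : K) : G) * ((t : K) : G) * ((k : K) : G)⁻¹) * c⁻¹
      group
    have hm : ∀ a ∈ τ.range, (c * ((k : K) : G) * c⁻¹) * (a : G) * (c * ((k : K) : G) * c⁻¹)⁻¹ ∈ S := by
      rintro _ ⟨t, rfl⟩
      rw [hcalc]; exact (τ (act k t)).2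
    obtain ⟨l, hl⟩ := hreal τ.range _ hm
    exact ⟨l, fun t => (hl _ ⟨t, rfl⟩).trans (congrArg κ (Subtype.ext (hcalc t)))⟩
  let M : Subgroup L :=
    { carrier := {l | ∃ k : N₀, ∀ t : T, l * j t * l⁻¹ = j (act k t)}
      one_mem' := ⟨1, fun t => by
        rw [show act 1 t = t from Subtype.ext (by simp [act])]; simp⟩
      mul_mem' := by
        rintro a b ⟨k, hk⟩ ⟨k', hk'⟩
        refine ⟨k * k', fun t => ?_⟩
        rw [show act (k * k') t = act k (act k' t) from Subtype.ext (by simp [act, mul_assoc]), ← hk, ← hk']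
        group
      inv_mem' := by
        rintro a ⟨k, hk⟩
        refine ⟨k⁻¹, fun t => ?_⟩
        have h1 := hk (act k⁻¹ t)
        rw [show act k (act k⁻¹ t) = t from Subtype.ext (by simp [act, mul_assoc])] at h1
        rw [← h1]; group }
  have hjM : ∀ t : T, j t ∈ M := fun t => ⟨⟨t, Subgroup.le_normalizer t.2⟩, fun s => by
    rw [show act ⟨t, Subgroup.le_normalizer t.2⟩ s = t * s * t⁻¹ from rfl, map_mul, map_mul, map_inv]⟩
  let jM : T →* M := j.codRestrict M hjM
  let hq : T →* ↥(qd p) := f.comp T.subtype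
  set Nn : Subgroup M := hq.ker.map jM with hNn
  haveI : Nn.Normal := by
    refine ⟨?_⟩
    rintro _ ⟨t, ht, rfl⟩ ⟨l, k, hk⟩
    refine ⟨act k t, ?_, Subtype.ext (hk t).symm⟩
    show f ((k : K) * t * (k : K)⁻¹) = 1
    rw [map_mul, map_mul, map_inv, show f t = 1 from ht]; group
  set π := QuotientGroup.mk' Nn
  have hπ : ∀ s t : T, f s = f t → π (jM s) = π (jM t) := fun s t hst => QuotientGroup.eq.2 ⟨s⁻¹ * t,
    show f ((s : K)⁻¹ * t) = 1 by rw [map_mul, map_inv, hst, inv_mul_cancel], by rw [map_mul, map_inv]⟩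
  have hπ' : ∀ s t : T, π (jM s) = π (jM t) → f s = f t := by
    intro s t hst
    obtain ⟨u, hu, hue⟩ := QuotientGroup.eq.1 hst
    have h1 : u = s⁻¹ * t := hj (by
      rw [map_mul, map_inv]
      exact (congrArg Subtype.val hue).trans (by simp [jM]))
    have h2 : f ((s : K)⁻¹ * t) = 1 := by
      have h3 : f u = 1 := hu
      rw [h1] at h3
      exact h3
    rw [map_mul, map_inv, inv_mul_eq_one] at h2
    exact h2
  choose tw htw htwf using hTV
  let tT : (Fin 2 → ZMod p) → T := fun w => ⟨tw w, htw w⟩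
  let W : (Fin 2 → ZMod p) → M ⧸ Nn := fun w => π (jM (tT w))
  have hW : Function.Injective W := fun a b hab => qdTr_injective <| by
    have h1 := hπ' _ _ hab
    rwa [show f (tT a : K) = qdTr p a from htwf a, show f (tT b : K) = qdTr p b from htwf b] at h1
  have hadd : ∀ a b, W (a + b) = W a * W b := fun a b => by
    show π (jM (tT (a + b))) = π (jM (tT a)) * π (jM (tT b))
    rw [← map_mul, ← map_mul]
    refine hπ _ _ ?_
    show f (tw (a + b)) = f (tw a * tw b)
    rw [map_mul, htwf, htwf, htwf, qdTr_add]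
  have hlin : ∀ y : M ⧸ Nn, ∃ R : Matrix.SpecialLinearGroup (Fin 2) (ZMod p),
      ∀ w, y * W w * y⁻¹ = W (R.1.mulVec w) := by
    intro y
    obtain ⟨⟨l, k, hk⟩, rfl⟩ := QuotientGroup.mk'_surjective Nn y
    obtain ⟨R, hR⟩ := qdTr_conj (f k)
    refine ⟨R, fun w => ?_⟩
    show π _ * π _ * (π _)⁻¹ = π _
    rw [← map_inv, ← map_mul, ← map_mul]
    rw [show (⟨l, k, hk⟩ : M) * jM (tT w) * (⟨l, k, hk⟩ : M)⁻¹ = jM (act k (tT w)) from Subtype.ext (hk _)]
    refine hπ _ _ ?_
    show f ((k : K) * tw w * (k : K)⁻¹) = f (tw (R.1.mulVec w))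
    rw [map_mul, map_mul, map_inv, htwf, htwf, hR]
  choose σ₀ hσ₀ using hlin
  have huniq : ∀ (y : M ⧸ Nn) (R : Matrix.SpecialLinearGroup (Fin 2) (ZMod p)),
      (∀ w, y * W w * y⁻¹ = W (R.1.mulVec w)) → σ₀ y = R := fun y R h =>
    Subtype.ext (Matrix.ext_iff_mulVec.2 fun w => hW ((hσ₀ y w).symm.trans (h w)))
  let σ : (⊤ : Subgroup (M ⧸ Nn)) →* Matrix.SpecialLinearGroup (Fin 2) (ZMod p) :=
    MonoidHom.mk' (fun y => σ₀ y) fun a b => huniq _ _ fun w => by
      show (a : M ⧸ Nn) * b * W w * ((a : M ⧸ Nn) * b)⁻¹ = W (((σ₀ a).1 * (σ₀ b).1).mulVec w)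
      rw [← Matrix.mulVec_mulVec, ← hσ₀, ← hσ₀]; group
  have hσ : Function.Surjective σ := by
    intro R
    obtain ⟨x, hx⟩ := exists_qdTr_lin R
    obtain ⟨k, hk, rfl⟩ := hN₀ x
    obtain ⟨l, hl⟩ := hex ⟨k, hk⟩
    refine ⟨⟨π ⟨l, ⟨k, hk⟩, hl⟩, trivial⟩, huniq _ _ fun w => ?_⟩
    show π _ * π _ * (π _)⁻¹ = π _
    rw [← map_inv, ← map_mul, ← map_mul]
    rw [show (⟨l, ⟨k, hk⟩, hl⟩ : M) * jM (tT w) * (⟨l, ⟨k, hk⟩, hl⟩ : M)⁻¹ = jM (act ⟨k, hk⟩ (tT w)) from
      Subtype.ext (hl _)]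
    refine hπ _ _ ?_
    show f (k * tw w * k⁻¹) = f (tw (R.1.mulVec w))
    rw [map_mul, map_mul, map_inv, htwf, htwf, hx]
  have := involves_qd_of_natural hp W hW hadd ⊤ σ hσ fun y w => hσ₀ y w
  exact involves_trans (involves_of_surjective_hom π (QuotientGroup.mk'_surjective Nn) this)
    (involves_subgroup involves_refl M)

/-- A `Qd(p)`-free group system comes from a `Qd(p)`-free group. -/
theorem qd_free_of_group_system (hp : p ≠ 2) (hS : SylIn p S ⊤)
    (hfree : (groupFusionSystem S).IsSectionFree p ↥(qd p)) : ¬ Involves ↥(qd p) G := by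
  intro h
  have hsat := group_saturated hS
  obtain ⟨-, Q, hQn, hQc⟩ := constrained_of_qd_free hp hS.isPGroup hsat hfree
  have hQsc := normal_stronglyClosed hQn
  have hV : normalizerIn S Q = S := inf_eq_left.2 (stronglyClosed_le_normalizer hQsc)
  have hfn : (groupFusionSystem S).IsFullyNormalized Q :=
    ⟨hQn.1, fun R hR => by rw [eq_of_isConj_stronglyClosed hQsc hR]⟩
  obtain ⟨L, _, ι, hL⟩ := exists_model_fn hS.isPGroup hsat hfn hQc
  haveI := hL.1
  refine hfree Q hfn hQc _ (fun _ => rfl) L ι hL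
    (involves_qd_of_realized hp hS (ι.comp (Subgroup.inclusion hV.ge))
      (hL.2.1.1.comp (Subgroup.inclusion_injective _)) (fun A g hg => ?_) h)
  have hA : A.map S.subtype ≤ S := Subgroup.map_subtype_le _
  have hf : Map (groupFusionSystem S) (A.map S.subtype) (fun x => g * x * g⁻¹) := by
    refine map_group_iff.2 ⟨hA, ?_, g, fun _ _ => rfl⟩
    rintro _ ⟨a, ha, rfl⟩
    exact hg a ha
  obtain ⟨f', hf', hff, hfQ⟩ := (normal_iff.1 hQn).2 _ _ hf
  obtain ⟨l, hl⟩ := exists_conj_of_map hL.2.1 ((map_normalizerSystem_iff (N := normSys (groupFusionSystem S) hfn.1)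
    fun _ => rfl).2 ⟨hA.trans hV.ge, fun x hx => hV.ge (hf.mem hx), f', hf', hff, hfQ⟩)
  refine ⟨l, fun a ha => ?_⟩
  exact (hl ⟨a, hV.ge a.2⟩ ⟨a, ha, rfl⟩ ⟨g * (a : G) * g⁻¹, hV.ge (hg a ha)⟩ rfl).symm

end Cfsg.Agent.Local.FS
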