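import Cfsg.Agent.Lib.Local.FS.InnerPair
import Cfsg.Agent.Lib.Local.FS.FourLift
import Cfsg.Agent.Lib.Local.FS.GroupFree
import Cfsg.Agent.Lib.Fusion.ThompsonNPC
import Cfsg.Agent.Lib.Fusion.CoatomNPC

/-!
Thompson's normal `2`-complement criterion for groups without a section isomorphic to `S₄`.
-/

set_option autoImplicit false

namespace Cfsg.Agent.Local.FS

open Cfsg Cfsg.FusionSystem Cfsg.Agent.Fusion

universe u

/-- The abelian Thompson subgroup as a functor. -/
def wJA (Q : Type u) [Group Q] : Subgroup Q := thompsonSubgroupA Q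

/-- The centre as a functor. -/
def wCen (Q : Type u) [Group Q] : Subgroup Q := Subgroup.center Q

theorem inducedFunctor_wJA {G : Type u} [Group G] (P : Subgroup G) :
    inducedFunctor wJA P = thompsonSubgroupAOf P := rfl

theorem inducedFunctor_wCen {G : Type u} [Group G] (P : Subgroup G) :
    inducedFunctor wCen P = P ⊓ Subgroup.centralizer (P : Set G) := inducedFunctor_center P

theorem isCharPFunctor_wCen {p : ℕ} [Fact p.Prime] : IsCharPFunctor.{u} p wCen := isCharPFunctor_center

theorem isCharPFunctor_wJA {p : ℕ} [Fact p.Prime] : IsCharPFunctor.{u} p wJA := by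
  refine ⟨fun Q _ _ hQ hn h => ?_, fun Q R _ _ _ _ φ => map_thompsonSubgroupA φ⟩
  exact (isCharPFunctor_wZA (p := p)).1 Q hQ hn (le_bot_iff.1 (inf_le_left.trans h.le))

/-- The abelian Thompson subgroup is determined by any subgroup containing all large abelian subgroups. -/
theorem thompsonSubgroupAOf_eq_of_le {G : Type*} [Group G] [Finite G] {H K : Subgroup G} (hKH : K ≤ H)
    (h : thompsonSubgroupAOf H ≤ K) : thompsonSubgroupAOf K = thompsonSubgroupAOf H := by
  have e : ∀ H : Subgroup G,
      thompsonSubgroupAOf H = sSup (maxIn (fun A : Subgroup G => IsMulCommutative A) H) := fun H => by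
    rw [thompsonSubgroupAOf, thompsonSubgroupA, map_sSup_subtype, image_maxAbelian]
  rw [e, e, maxIn_eq_of_le replFamily_comm hKH fun A hA => le_trans (le_sSup hA) (e H ▸ h)]

section Group

variable {G : Type u} [Group G] [Finite G] {p : ℕ} [Fact p.Prime] {S : Subgroup G}

/-- Automorphisms induced from a subgroup with a normal complement containing `S` are `p`-elements. -/
theorem exists_pow_of_hnpc (hS : IsPGroup p S) {H A : Subgroup G} (hH : HasNormalPComplement p H)
    (hAS : A ≤ S) (hSH : S ≤ H) {α : MulAut A} {g : G} (hg : g ∈ H)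
    (h : ∀ x ∈ A, av α x = g * x * g⁻¹) : ∃ k, α ^ p ^ k = 1 := by
  obtain ⟨k, m, hm, hkm⟩ := Nat.exists_eq_pow_mul_and_not_dvd (orderOf_pos g).ne' p (Fact.out : p.Prime).ne_one
  have hiter : ∀ n : ℕ, ∀ x ∈ A, av (α ^ n) x = g ^ n * x * (g ^ n)⁻¹ := by
    intro n
    induction n with
    | zero => intro x hx; simp [av_one hx]
    | succ n ih =>
      intro x hx
      rw [pow_succ, av_mul _ _ hx, h x hx, ih _ (h x hx ▸ av_mem α hx), pow_succ]
      group
  refine ⟨k, aut_ext fun x hx => ?_⟩
  rw [hiter _ x hx, av_one hx]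
  have hgA : g ^ p ^ k ∈ Subgroup.normalizer (A : Set G) := mem_normalizer_of_cj_le (by
    rintro _ ⟨y, hy, rfl⟩
    show g ^ p ^ k * y * (g ^ p ^ k)⁻¹ ∈ A
    rw [← hiter _ y hy]; exact av_mem _ hy)
  have hord : (orderOf (⟨g ^ p ^ k, pow_mem hg _⟩ : H)).Coprime p := by
    rw [Subgroup.orderOf_mk, orderOf_pow_of_dvd (pow_ne_zero _ (Fact.out : p.Prime).ne_zero)
      (hkm ▸ dvd_mul_right _ _), hkm, Nat.mul_div_cancel_left _ (pow_pos (Fact.out : p.Prime).pos k)]
    exact ((Nat.Prime.coprime_iff_not_dvd Fact.out).2 hm).symm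
  have hnorm : (⟨g ^ p ^ k, pow_mem hg _⟩ : H) ∈ Subgroup.normalizer (A.subgroupOf H : Set H) :=
    mem_normalizer_of_cj_le (by
      rintro _ ⟨y, hy, rfl⟩
      show g ^ p ^ k * (y : G) * (g ^ p ^ k)⁻¹ ∈ A
      exact conj_mem_of_normalizer hgA hy)
  have := Subgroup.mem_centralizer_iff.1 (hnpc_centralize hH ((hS.to_le hAS).comap_subtype) hnorm hord)
    ⟨x, hSH (hAS hx)⟩ hx
  rw [← show x * g ^ p ^ k = g ^ p ^ k * x from congrArg Subtype.val this, mul_inv_cancel_right]

theorem hnpc_of_isPGroup {H : Subgroup G} (h : IsPGroup p H) : HasNormalPComplement p H :=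
  hnpc_of_pgroup_quotient_pPrimeCore (h.to_quotient _)

theorem cAt_group (hS : IsPGroup p S) {U : Subgroup G} (hSU : S ≤ Subgroup.centralizer (U : Set G))
    (h : HasNormalPComplement p (Subgroup.centralizer (U : Set G))) : CAt (groupFusionSystem S) p U := by
  intro A hUA hAS α hα hx
  obtain ⟨-, -, g, hg⟩ := map_group_iff.1 (map_of_mem_autGroup hAS hα)
  refine exists_pow_of_hnpc hS h hAS hSU (mem_centralizer_set.2 fun u hu => ?_) hg
  exact (hg u (hUA hu)).symm.trans (hx u hu)

theorem pAt_group (hS : IsPGroup p S) {U : Subgroup G} (hSU : S ≤ Subgroup.normalizer (U : Set G))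
    (h : HasNormalPComplement p (Subgroup.normalizer (U : Set G))) : PAt (groupFusionSystem S) p U := by
  intro A hUA hA α hα hi
  obtain ⟨-, -, g, hg⟩ := map_group_iff.1 (map_of_mem_autGroup (hA.trans inf_le_left) hα)
  refine exists_pow_of_hnpc hS h (hA.trans inf_le_left) hSU (mem_normalizer_of_cj_le ?_) hg
  rintro _ ⟨u, hu, rfl⟩
  show g * u * g⁻¹ ∈ U
  rw [← hg u (hUA hu)]
  exact hi.le (mem_im_of_mem hu)

/-- A group with inner fusion has a normal complement. -/
theorem hnpc_of_isInner (hS : SylIn p S ⊤) (h : IsInner (groupFusionSystem S)) : HasNormalPComplement p G := by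
  refine hnpc_of_fusion_controlled hS fun x hx g hgx => ?_
  have hle : Subgroup.zpowers x ≤ S := Subgroup.zpowers_le.2 hx
  have hm : ∀ y ∈ Subgroup.zpowers x, g * y * g⁻¹ ∈ S := by
    intro y hy
    obtain ⟨i, rfl⟩ := Subgroup.mem_zpowers_iff.1 hy
    rw [← conj_zpow]; exact zpow_mem hgx i
  obtain ⟨s, hs, he⟩ := h _ (fun y => g * y * g⁻¹) (map_group_iff.2 ⟨hle, hm, g, fun _ _ => rfl⟩)
  exact ⟨s, hs, (he x (Subgroup.mem_zpowers x)).symm⟩

end Group

theorem fact_two : Fact (Nat.Prime 2) := ⟨Nat.prime_two⟩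

/-- An element of odd order fixing the involutions of an abelian `2`-group fixes it. -/
theorem commute_of_fixed_involutions {G : Type*} [Group G] {Z : Subgroup G}
    (hab : ∀ a ∈ Z, ∀ b ∈ Z, a * b = b * a) (hZ2 : IsPGroup 2 Z) {l : G}
    (hl : l ∈ Subgroup.normalizer (Z : Set G)) {n : ℕ} (hn : Odd n) (hln : l ^ n = 1)
    (h : ∀ z ∈ Z, z * z = 1 → l * z * l⁻¹ = z) : ∀ z ∈ Z, l * z * l⁻¹ = z := by
  suffices ∀ i, ∀ z ∈ Z, z ^ 2 ^ i = 1 → l * z * l⁻¹ = z from fun z hz => by
    obtain ⟨i, hi⟩ := hZ2 ⟨z, hz⟩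
    exact this i z hz (congrArg Subtype.val hi)
  intro i
  induction i with
  | zero => intro z _ hz; simp only [pow_zero, pow_one] at hz; subst hz; simp
  | succ i ih =>
    intro z hz hzi
    have hsq := ih (z * z) (Z.mul_mem hz hz) (by rw [← sq, ← pow_mul, ← pow_succ']; exact hzi)
    set w := l * z * l⁻¹
    have hwZ : w ∈ Z := conj_mem_of_normalizer hl hz
    set d := z⁻¹ * w
    have hdd : d * d = 1 := by
      have e : w * w = z * z := by rw [← hsq]; simp only [w]; group
      calc d * d = z⁻¹ * (w * z⁻¹) * w := by simp only [d]; group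
        _ = z⁻¹ * (z⁻¹ * w) * w := by rw [hab w hwZ _ (Z.inv_mem hz)]
        _ = (z * z)⁻¹ * (w * w) := by group
        _ = 1 := by rw [e, inv_mul_cancel]
    have hd := h d (Z.mul_mem (Z.inv_mem hz) hwZ) hdd
    have hiter : ∀ j : ℕ, l ^ j * z * (l ^ j)⁻¹ = z * d ^ j := by
      intro j
      induction j with
      | zero => simp
      | succ j ihj =>
        calc l ^ (j + 1) * z * (l ^ (j + 1))⁻¹ = l * (l ^ j * z * (l ^ j)⁻¹) * l⁻¹ := by
              rw [pow_succ']; group
          _ = (l * z * l⁻¹) * (l * d * l⁻¹) ^ j := by rw [ihj, conj_pow]; group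
          _ = z * d ^ (j + 1) := by
              rw [hd, pow_succ', ← mul_assoc, show z * d = w from mul_inv_cancel_left z w]
    have h1 := hiter n
    rw [hln] at h1
    obtain ⟨m, rfl⟩ := hn
    have h2 : d = 1 := by
      have h3 : d ^ (2 * m + 1) = 1 := by simpa using h1
      rwa [pow_succ, pow_mul, sq, hdd, one_pow, one_mul] at h3
    exact (inv_mul_eq_one.1 h2).symm

set_option maxHeartbeats 1000000 in
/-- The final configuration: a maximal Sylow subgroup with abelian complement modulo the core. -/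
theorem four_final {L : Type u} [Group L] [Finite L] (P : Sylow 2 L)
    (hc : Subgroup.centralizer ((pCore 2 L : Subgroup L) : Set L) ≤ pCore 2 L)
    (hfree : ¬ Involves (Equiv.Perm (Fin 4)) L)
    (hCZ : Subgroup.centralizer ((inducedFunctor wCen (P : Subgroup L) : Subgroup L) : Set L) ≤ P)
    (hJ : ¬ thompsonSubgroupAOf (P : Subgroup L) ≤ pCore 2 L)
    (hco : IsCoatom (P : Subgroup L)) (hq : HasNormalPComplement 2 (L ⧸ pCore 2 L)) : False := by
  haveI := fact_two
  set Q := pCore 2 L
  have hQp : IsPGroup 2 Q := isPGroup_pCore 2 L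
  have hQP : Q ≤ (P : Subgroup L) := pCore_le_sylow P
  set π := QuotientGroup.mk' Q
  have hπ : Function.Surjective π := QuotientGroup.mk'_surjective Q
  have hcomap : ((P : Subgroup L).map π).comap π = P := by
    rw [QuotientGroup.comap_map_mk', sup_eq_right.2 hQP]
  set T := (P : Subgroup L).map π
  have hco' : IsCoatom T := ⟨fun h => hco.1 (by rw [← hcomap, h, Subgroup.comap_top]), fun X hX => by
    have h3 : X.comap π = ⊤ := hco.2 _ (lt_of_le_of_ne (hcomap.ge.trans (Subgroup.comap_mono hX.le))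
      fun h => hX.ne (Subgroup.comap_injective hπ (hcomap.trans h)))
    exact Subgroup.comap_injective hπ (h3.trans (Subgroup.comap_top π).symm)⟩
  have hT : SylIn 2 T ⊤ := sylIn_map_mk (N := Q) (sylIn_top P)
  set K := pResidual 2 (L ⧸ Q)
  have hK := pResidual_commutes hT hco' hq
  have hKodd : Odd (Nat.card K) := Nat.coprime_two_right.1 (hnpc_iff.1 hq)
  have hKT : K ⊔ T = ⊤ := by
    obtain ⟨T₀, hT₀⟩ := hT.exists_sylow
    rw [← hT₀]; exact pResidual_sup_sylow T₀
  -- the module
  set Z := Q ⊓ Subgroup.centralizer (Q : Set L)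
  haveI : Z.Normal := Subgroup.normal_inf_normal Q (Subgroup.centralizer (Q : Set L))
  have hZab : ∀ a ∈ Z, ∀ b ∈ Z, a * b = b * a := fun a ha b hb =>
    Subgroup.mem_centralizer_iff.1 hb.2 a ha.1
  let W : Subgroup L :=
    { carrier := {x | x ∈ Z ∧ x * x = 1}
      one_mem' := ⟨one_mem _, one_mul 1⟩
      mul_mem' := fun {a b} ha hb => ⟨mul_mem ha.1 hb.1, by
        rw [show a * b * (a * b) = a * (b * a) * b by group, hZab b hb.1 a ha.1,
          show a * (a * b) * b = (a * a) * (b * b) by group, ha.2, hb.2, one_mul]⟩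
      inv_mem' := fun {a} ha => ⟨inv_mem ha.1, by rw [← mul_inv_rev, ha.2, inv_one]⟩ }
  haveI hWn : W.Normal := ⟨fun x hx g => ⟨(inferInstance : Z.Normal).conj_mem x hx.1 g, by
    rw [show g * x * g⁻¹ * (g * x * g⁻¹) = g * (x * x) * g⁻¹ by group, hx.2, mul_one, mul_inv_cancel]⟩⟩
  set C := Subgroup.centralizer (W : Set L)
  haveI : C.Normal := Subgroup.normal_centralizer (H := W)
  have hQC : Q ≤ C := fun q hq => Subgroup.mem_centralizer_iff.2 fun w hw =>
    (Subgroup.mem_centralizer_iff.1 hw.1.2 q hq).symm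
  have hZP : inducedFunctor wCen (P : Subgroup L) ≤ Z := by
    rw [inducedFunctor_wCen]
    intro x hx
    have h1 : x ∈ Subgroup.centralizer (Q : Set L) :=
      Subgroup.centralizer_le (show (Q : Set L) ⊆ _ from hQP) hx.2
    exact ⟨hc h1, h1⟩
  -- the centralizer of the module is the core
  have hCQ : C = Q := by
    rcases eq_or_lt_of_le (le_sup_right : (P : Subgroup L) ≤ C ⊔ P) with h | h
    · exact le_antisymm (le_pCore (P.2.to_le (h.ge.trans' le_sup_left))) hQC
    exfalso
    have htop : C ⊔ (P : Subgroup L) = ⊤ := hco.2 _ h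
    have hquot : IsPGroup 2 (L ⧸ C) := by
      refine (P.2.map (QuotientGroup.mk' C)).of_equiv ((MulEquiv.subgroupCongr ?_).trans Subgroup.topEquiv)
      rw [← Subgroup.map_top_of_surjective _ (QuotientGroup.mk'_surjective C), ← htop, Subgroup.map_sup,
        QuotientGroup.map_mk'_self, bot_sup_eq]
    have hle : pResidual 2 L ⊔ (P : Subgroup L) ≤ Subgroup.centralizer (inducedFunctor wCen (P : Subgroup L) : Set L) := by
      refine sup_le ((Subgroup.closure_le _).2 fun l hl => ?_) ?_
      · have hlC : l ∈ C := pResidual_le_of_isPGroup_quotient hquot (Subgroup.subset_closure hl)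
        refine mem_centralizer_set.2 fun z hz => commute_of_fixed_involutions hZab (hQp.to_le inf_le_left)
          (by rw [Subgroup.normalizer_eq_top]; trivial) (Nat.coprime_two_right.1 hl) (pow_orderOf_eq_one l)
          (fun w hw hw2 => mem_centralizer_set.1 hlC w ⟨hw, hw2⟩) z (hZP hz)
      · intro x hx
        rw [inducedFunctor_wCen]
        exact Subgroup.mem_centralizer_iff.2 fun z hz => (Subgroup.mem_centralizer_iff.1 hz.2 x hx).symm
    rw [pResidual_sup_sylow] at hle
    exact hco.1 (top_le_iff.1 (hle.trans hCZ))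
  -- an offender
  obtain ⟨A, hA, hAQ⟩ : ∃ A ∈ maxIn (fun A : Subgroup L => IsMulCommutative A) (P : Subgroup L), ¬ A ≤ Q := by
    by_contra hcon
    push Not at hcon
    refine hJ ?_
    rw [thompsonSubgroupAOf, thompsonSubgroupA, map_sSup_subtype, image_maxAbelian]
    exact sSup_le hcon
  have hAab : ∀ a ∈ A, ∀ b ∈ A, a * b = b * a := fun a ha b hb =>
    congrArg Subtype.val (hA.2.1.1.1 ⟨a, ha⟩ ⟨b, hb⟩)
  refine hfree (involves_four_of_offender (W := W) (Q := Q) (fun a ha b hb => hZab a ha.1 b hb.1)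
    (fun a ha => ha.2) hCQ.symm hQp (K := K) (A := A.map π) hK hKodd ((P.2.to_le hA.1).map π) ?_ ?_ ?_ ?_)
  · rintro _ ⟨a, ha, rfl⟩ _ ⟨b, hb, rfl⟩
    rw [← map_mul, ← map_mul, hAab a ha b hb]
  · exact fun h => hAQ (((Subgroup.map_eq_bot_iff A).1 h).trans (QuotientGroup.ker_mk' Q).le)
  · intro a ha hak
    set D := T ⊓ Subgroup.centralizer (K : Set (L ⧸ Q))
    haveI : D.Normal := by
      refine Subgroup.normalizer_eq_top_iff.1 (top_le_iff.1 (hKT.ge.trans (sup_le ?_ ?_)))
      · exact (Subgroup.le_centralizer_iff.1 inf_le_right).trans (Subgroup.centralizer_le_normalizer _)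
      · intro t ht
        refine mem_normalizer_of_cj_le ?_
        rintro _ ⟨d, hd, rfl⟩
        refine ⟨T.mul_mem (T.mul_mem ht hd.1) (T.inv_mem ht), Subgroup.mem_centralizer_iff.2 fun k hk => ?_⟩
        have h1 : t⁻¹ * k * t ∈ K := by
          have := (inferInstance : K.Normal).conj_mem k hk t⁻¹
          rwa [inv_inv] at this
        show k * (t * d * t⁻¹) = t * d * t⁻¹ * k
        calc k * (t * d * t⁻¹) = t * ((t⁻¹ * k * t) * d) * t⁻¹ := by group
          _ = t * (d * (t⁻¹ * k * t)) * t⁻¹ := by rw [Subgroup.mem_centralizer_iff.1 hd.2 _ h1]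
          _ = t * d * t⁻¹ * k := by group
    have h1 : D ≤ pCore 2 (L ⧸ Q) := le_pCore (hT.isPGroup.to_le inf_le_left)
    rw [pCore_quotient_eq_bot] at h1
    exact Subgroup.mem_bot.1 (h1 ⟨Subgroup.map_mono hA.1 ha,
      Subgroup.mem_centralizer_iff.2 fun k hk => (hak k hk).symm⟩)
  · set X := A ⊓ Q
    have hWX : W ⊓ A ≤ W ⊓ Subgroup.centralizer (((A.map π).comap π : Subgroup L) : Set L) := by
      rintro w ⟨hw, hwA⟩
      refine ⟨hw, ?_⟩
      rw [QuotientGroup.comap_map_mk', sup_comm]
      refine Subgroup.mem_centralizer_iff.2 fun x hx => ?_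
      have hle : A ⊔ Q ≤ Subgroup.centralizer {w} := sup_le
        (fun a ha => Subgroup.mem_centralizer_singleton_iff.2 (hAab a ha w hwA))
        (fun q hq => Subgroup.mem_centralizer_singleton_iff.2 (Subgroup.mem_centralizer_iff.1 hw.1.2 q hq))
      exact Subgroup.mem_centralizer_singleton_iff.1 (hle hx)
    refine (Subgroup.relIndex_le_of_le_left hWX
      Subgroup.index_ne_zero_of_finite).trans ?_
    have hWQ : W ≤ Q := fun w hw => hw.1.1
    -- the comparison subgroup
    have hBab : IsMulCommutative (X ⊔ W : Subgroup L) := by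
      have h1 : X ⊔ W ≤ Subgroup.centralizer ((X ⊔ W : Subgroup L) : Set L) := by
        have hx : ∀ x ∈ X, ∀ w ∈ W, x * w = w * x := fun x hx w hw => Subgroup.mem_centralizer_iff.1 hw.1.2 x hx.2
        refine sup_le ?_ ?_ <;> rw [Subgroup.le_centralizer_iff] <;> refine sup_le ?_ ?_
        · exact fun a ha => Subgroup.mem_centralizer_iff.2 fun b hb => hAab b hb.1 a ha.1
        · exact fun w hw => Subgroup.mem_centralizer_iff.2 fun b hb => hx b hb w hw
        · exact fun x hx' => Subgroup.mem_centralizer_iff.2 fun w hw => (hx x hx' w hw).symm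
        · exact fun a ha => Subgroup.mem_centralizer_iff.2 fun b hb => hZab b hb.1 a ha.1
      exact ⟨⟨fun a b => Subtype.ext (Subgroup.mem_centralizer_iff.1 (h1 b.2) a a.2)⟩⟩
    have hle := hA.2.2 (X ⊔ W) (sup_le (inf_le_left.trans hA.1) (hWQ.trans hQP)) hBab
    have e1 := Subgroup.relIndex_mul_relIndex (⊥ : Subgroup L) W (X ⊔ W) bot_le le_sup_right
    rw [Subgroup.relIndex_bot_left, Subgroup.relIndex_bot_left, Subgroup.relIndex_sup_right] at e1
    have e2 := Subgroup.relIndex_mul_relIndex (⊥ : Subgroup L) (W ⊓ X) X bot_le inf_le_right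
    rw [Subgroup.relIndex_bot_left, Subgroup.relIndex_bot_left, Subgroup.inf_relIndex_right] at e2
    have e3 := Subgroup.relIndex_mul_relIndex (⊥ : Subgroup L) (W ⊓ A) W bot_le inf_le_left
    rw [Subgroup.relIndex_bot_left, Subgroup.relIndex_bot_left] at e3
    have e4 : Nat.card A = Nat.card X * Nat.card (A.map π) := by
      have h1 := Subgroup.relIndex_ker (f := π) (K := A)
      rw [QuotientGroup.ker_mk', ← Subgroup.inf_relIndex_right, inf_comm] at h1
      have h2 := Subgroup.relIndex_mul_relIndex (⊥ : Subgroup L) X A bot_le inf_le_left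
      rw [Subgroup.relIndex_bot_left, Subgroup.relIndex_bot_left, h1] at h2
      exact h2.symm
    have e5 : W ⊓ X = W ⊓ A := le_antisymm (inf_le_inf_left _ inf_le_left)
      fun w hw => ⟨hw.1, hw.2, hWQ hw.1⟩
    rw [← e1, e4, ← e2, e5, ← e3] at hle
    have h0 : 0 < Nat.card ↥(W ⊓ A) * W.relIndex X := Nat.mul_pos Nat.card_pos
      (Nat.pos_of_ne_zero Subgroup.index_ne_zero_of_finite)
    refine Nat.le_of_mul_le_mul_left ?_ h0
    calc _ = Nat.card ↥(W ⊓ A) * (W ⊓ A).relIndex W * W.relIndex X := by ring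
      _ ≤ _ := hle

set_option maxHeartbeats 1000000 in
/-- **The group step**: a constrained `S₄`-free group with both local subgroups inside `P` is a `2`-group. -/
theorem thompson_four_hG (n : ℕ) : ∀ (L : Type u) [Group L] [Finite L] (P : Sylow 2 L),
    Nat.card (P : Subgroup L) ≤ n →
    Subgroup.centralizer ((pCore 2 L : Subgroup L) : Set L) ≤ pCore 2 L →
    ¬ Involves (Equiv.Perm (Fin 4)) L →
    Subgroup.centralizer ((inducedFunctor wCen (P : Subgroup L) : Subgroup L) : Set L) ≤ P →
    Subgroup.normalizer ((inducedFunctor wJA (P : Subgroup L) : Subgroup L) : Set L) ≤ P →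
    (P : Subgroup L) = ⊤ := by
  haveI := fact_two
  induction n using Nat.strong_induction_on with
  | _ n ihn =>
  suffices ∀ (m : ℕ) (L : Type u) [Group L] [Finite L] (P : Sylow 2 L), Nat.card L = m →
      Nat.card (P : Subgroup L) ≤ n →
      Subgroup.centralizer ((pCore 2 L : Subgroup L) : Set L) ≤ pCore 2 L →
      ¬ Involves (Equiv.Perm (Fin 4)) L →
      Subgroup.centralizer ((inducedFunctor wCen (P : Subgroup L) : Subgroup L) : Set L) ≤ P →
      Subgroup.normalizer ((inducedFunctor wJA (P : Subgroup L) : Subgroup L) : Set L) ≤ P →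
      (P : Subgroup L) = ⊤ from fun L _ _ P => this _ L P rfl
  intro m
  induction m using Nat.strong_induction_on with
  | _ m ihm =>
  intro L _ _ P hm hn hc hfree hCZ hNJ
  by_contra hne
  set Q := pCore 2 L
  have hQP : Q ≤ (P : Subgroup L) := pCore_le_sylow P
  have hJ : ¬ thompsonSubgroupAOf (P : Subgroup L) ≤ Q := by
    intro hle
    refine hne (top_le_iff.1 (le_trans ?_ hNJ))
    rw [inducedFunctor_wJA, ← thompsonSubgroupAOf_eq_of_le hQP hle, ← inducedFunctor_wJA,
      ← Subgroup.normalizer_eq_top (H := Q)]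
    exact conjFunctor_normalizer_le (isConjugacyFunctor_induced (G := L) (isCharPFunctor_wJA (p := 2)))
      (isPGroup_pCore 2 L)
  have hPQ : (P : Subgroup L) ≠ Q := fun h => hJ ((Subgroup.map_subtype_le _).trans h.le)
  have hQ1 : Q ≠ ⊥ := fun h => hne (top_le_iff.1 (le_trans (le_trans (by
    rw [h]; exact fun x _ => Subgroup.mem_centralizer_iff.2 fun y hy => by
      simp [Subgroup.mem_bot.1 hy]) hc) hQP))
  -- maximality
  have hco : IsCoatom (P : Subgroup L) := by
    refine ⟨hne, fun X hX => ?_⟩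
    by_contra hXtop
    have hPX := hX.le
    have hQX := hQP.trans hPX
    have hmap : ((P.subtype hPX : Subgroup X)).map X.subtype = (P : Subgroup L) := by
      rw [Sylow.coe_subtype, Subgroup.map_subgroupOf_eq_of_le hPX]
    have hW : ∀ {W : ∀ (Q : Type u) [Group Q], Subgroup Q}, IsCharPFunctor.{u} 2 W →
        (inducedFunctor W (P.subtype hPX : Subgroup X)).map X.subtype = inducedFunctor W (P : Subgroup L) :=
      fun hW => by rw [← inducedFunctor_map_of_injOn hW X.subtype X.subtype_injective.injOn (P.subtype hPX).2, hmap]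
    have hpc : Q.subgroupOf X ≤ pCore 2 X := le_pCore ((isPGroup_pCore 2 L).comap_subtype)
    have hXP := ihm (Nat.card X) (hm ▸ lt_of_le_of_ne (Subgroup.card_le_card_group X)
        fun h => hXtop (Subgroup.eq_top_of_card_eq X h)) X (P.subtype hPX) rfl
      (by
        refine le_trans ?_ hn
        rw [← hmap, Subgroup.card_map_of_injective X.subtype_injective])
      (fun x hx => hpc (Subgroup.mem_subgroupOf.2 (hc (Subgroup.mem_centralizer_iff.2 fun q hq => by
        exact congrArg Subtype.val (Subgroup.mem_centralizer_iff.1 hx ⟨q, hQX hq⟩ (hpc (Subgroup.mem_subgroupOf.2 hq)))))))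
      (fun h => hfree (involves_of_injective X.subtype X.subtype_injective h))
      (fun x hx => Subgroup.mem_subgroupOf.2 (hCZ (Subgroup.mem_centralizer_iff.2 fun z hz => by
        rw [← hW isCharPFunctor_wCen] at hz
        obtain ⟨z', hz', rfl⟩ := hz
        exact congrArg Subtype.val (Subgroup.mem_centralizer_iff.1 hx z' hz'))))
      (fun x hx => Subgroup.mem_subgroupOf.2 (hNJ (mem_normalizer_of_cj_le (by
        rintro _ ⟨z, hz, rfl⟩
        rw [← hW isCharPFunctor_wJA] at hz ⊢
        obtain ⟨z', hz', rfl⟩ := hz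
        exact ⟨x * z' * x⁻¹, conj_mem_of_normalizer hx hz', rfl⟩))))
    refine hX.not_ge fun x hx => ?_
    have h1 : (⟨x, hx⟩ : X) ∈ (P.subtype hPX : Subgroup X) := hXP ▸ Subgroup.mem_top _
    exact h1
  -- the quotient
  set π := QuotientGroup.mk' Q
  set S' := (P : Subgroup L).map π
  have hS' : SylIn 2 S' ⊤ := sylIn_map_mk (N := Q) (sylIn_top P)
  have hcomap : S'.comap π = P := by rw [QuotientGroup.comap_map_mk', sup_eq_right.2 hQP]
  have hS'1 : S' ≠ ⊥ := fun h => hPQ (le_antisymm (by
    rw [← QuotientGroup.ker_mk' Q, ← Subgroup.map_eq_bot_iff]; exact h) hQP)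
  have hnorm : ∀ {W : ∀ (Q : Type u) [Group Q], Subgroup Q}, IsCharPFunctor.{u} 2 W →
      Subgroup.normalizer (inducedFunctor W S' : Set (L ⧸ Q)) = S' := by
    intro W hW
    set N := Subgroup.normalizer (inducedFunctor W S' : Set (L ⧸ Q))
    have hle : S' ≤ N := sylow_le_normalizer_functor (isConjugacyFunctor_induced hW) hS'.isPGroup
    have hPN : (P : Subgroup L) ≤ N.comap π := hcomap ▸ Subgroup.comap_mono hle
    rcases eq_or_lt_of_le hPN with h | h
    · rw [← Subgroup.map_comap_eq_self_of_surjective (QuotientGroup.mk'_surjective Q) N, ← h]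
    exfalso
    have hN : N = ⊤ := Subgroup.comap_injective (QuotientGroup.mk'_surjective Q)
      ((hco.2 _ h).trans (Subgroup.comap_top π).symm)
    haveI := Subgroup.normalizer_eq_top_iff.1 hN
    have h2 := le_pCore (p := 2) (hS'.isPGroup.to_le (inducedFunctor_le W S'))
    rw [pCore_quotient_eq_bot, le_bot_iff] at h2
    exact (isConjugacyFunctor_induced hW _ hS'.isPGroup).2.1 hS'1 h2
  have hlt : Nat.card S' < n := by
    refine lt_of_lt_of_le ?_ hn
    have h1 := Subgroup.relIndex_ker (f := π) (K := (P : Subgroup L))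
    rw [QuotientGroup.ker_mk'] at h1
    have h2 := Subgroup.relIndex_mul_relIndex (⊥ : Subgroup L) Q P bot_le hQP
    rw [Subgroup.relIndex_bot_left, Subgroup.relIndex_bot_left, h1] at h2
    rw [← h2]
    exact lt_mul_of_one_lt_left Nat.card_pos ((Subgroup.one_lt_card_iff_ne_bot _).2 hQ1)
  have hSC : S' ≤ Subgroup.centralizer (inducedFunctor wCen S' : Set (L ⧸ Q)) := by
    rw [inducedFunctor_wCen]
    exact Subgroup.le_centralizer_iff.1 inf_le_right
  refine four_final P hc hfree hCZ hJ hco (hnpc_of_isInner hS' (isInner_of_pair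
    (W₁ := wCen) (W₂ := wJA) (X := Equiv.Perm (Fin 4)) isCharPFunctor_wCen.1 isCharPFunctor_wCen.2
    isCharPFunctor_wJA.1 isCharPFunctor_wJA.2 (Nat.card S') (ihn _ hlt)
    hS'.isPGroup (group_saturated hS') le_rfl (group_sectionFree hS' fun h =>
      hfree (involves_of_surjective_hom π (QuotientGroup.mk'_surjective Q) h)) ?_ ?_))
  · refine cAt_group hS'.isPGroup hSC (hnpc_of_isPGroup (hS'.isPGroup.to_le ?_))
    exact (Subgroup.centralizer_le_normalizer _).trans (hnorm isCharPFunctor_wCen).le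
  · refine pAt_group hS'.isPGroup (hnorm isCharPFunctor_wJA).ge (hnpc_of_isPGroup ?_)
    rw [hnorm isCharPFunctor_wJA]; exact hS'.isPGroup

end Cfsg.Agent.Local.FS
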