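import Cfsg.Agent.Lib.Local.FS.WeakNormal
import Cfsg.Agent.Lib.Local.FS.Centric
import Cfsg.Agent.Lib.Fusion.Cores

set_option autoImplicit false

namespace Cfsg.Agent.Local.FS

open Cfsg Cfsg.FusionSystem Cfsg.Agent.Fusion

variable {Ω : Type*} [Group Ω] {S : Subgroup Ω} {F E : FusionSystem S}
  {P : Subgroup Ω} {f : Ω → Ω} {p : ℕ} [Finite S]

/-- In an invariant subsystem on the whole of `S` the automorphism groups are normal. -/
theorem conj_mem_autGroup (hE : E.IsInvariantIn F) (hP : P ≤ S) {φ β : MulAut P} (hφ : φ ∈ F.autGroup P)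
    (hβ : β ∈ E.autGroup P) : φ * β * φ⁻¹ ∈ E.autGroup P := by
  obtain ⟨α, hα, g, hg, he⟩ := frattini_map hE hP (map_of_mem_autGroup hP hφ)
  obtain ⟨g1, hg1, hgg, hg1g, -⟩ := hg.exists_inv
  have hm : Map E (im P g) (g ∘ av β ∘ g1) :=
    (hg1.comp (map_of_mem_autGroup hP hβ) fun y hy => (hg1g y hy).2).comp hg
      fun y hy => av_mem β (hg1g y hy).2
  obtain ⟨h, hh, hhe⟩ := inv_map hE hm hα
  have hi : im (im P g) (av α) = P := by
    rw [← hg.im_comp]; exact (im_congr fun x hx => (he x hx).symm).trans (im_av φ)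
  rw [hi] at hh
  refine mem_autGroup_of_map (hh.congr fun y hy => ?_)
  have hx : av φ⁻¹ y ∈ P := av_mem _ hy
  conv_lhs => rw [← av_av_inv φ hy, he _ hx]
  rw [hhe _ (mem_im_of_mem hx), Function.comp_apply, Function.comp_apply, hgg _ hx,
    ← he _ (av_mem β hx), av_mul _ _ hy, av_mul _ _ (av_mem _ hy)]

variable [Fact p.Prime]

/-- A centric subgroup is fully centralized in every subsystem. -/
theorem fc_sub_of_centric (hP : F.IsCentric P) (hsub : E.IsSubsystemOf F) : E.IsFullyCentralized P := by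
  refine ⟨hP.1, fun Q hQ => ?_⟩
  obtain ⟨f, hf, hi⟩ := isConj_iff.1 (isConj_symm (isConj_of_sub hsub hQ))
  haveI := finite_of_le (S := S) (show centralizerIn S P ≤ S from inf_le_left)
  have hle : centralizerIn S Q ≤ Q := hP.2 Q (isConj_of_sub hsub hQ)
  refine (hf.restrict hle).card_le fun x hx => ?_
  exact hi ▸ hf.mem_centralizer le_rfl (hle hx) (mem_centralizerIn.1 hx).2

/-- An automorphism of `S` agreeing on a centric subgroup with a map of an invariant saturated subsystem
belongs to it. -/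
theorem mem_of_restrict_centric (hS : IsPGroup p S) (hF : F.IsSaturated p) (hEs : E.IsSaturated p)
    (hsub : E.IsSubsystemOf F) {α : MulAut S} (hα : α ∈ F.autGroup S) (hP : F.IsCentric P)
    (hαP : ∀ x ∈ P, av α x ∈ P) (hm : Map E P (av α)) : α ∈ E.autGroup S := by
  suffices ∀ n, ∀ P : Subgroup Ω, Nat.card S - Nat.card P = n → F.IsCentric P → (∀ x ∈ P, av α x ∈ P) →
      Map E P (av α) → α ∈ E.autGroup S from this _ P rfl hP hαP hm
  intro n
  induction n using Nat.strong_induction_on with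
  | _ n ih =>
  intro P hn hP hαP hm
  rcases eq_or_lt_of_le hP.1 with rfl | hlt
  · exact mem_autGroup_of_map hm
  have hαS := map_of_mem_autGroup le_rfl hα
  haveI := finite_of_le hP.1
  have hi : im P (av α) = P := Subgroup.eq_of_le_of_card_ge (im_le_iff.2 hαP) hm.card_im.ge
  obtain ⟨ψ, hψ, hψe⟩ := (receptive_iff.1 (receptive_of_fc hS hEs (fc_sub_of_centric hP hsub))).2 P _ hm hi
  have hN : normalizerIn S P ≤ Nf S P (av α) := fun a ha =>
    ⟨ha.1, ha.2, av α a, av_mem α ha.1, fun x hx => hαS.map_conj ha.1 (hP.1 hx)⟩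
  have hlt' : P < normalizerIn S P := lt_normalizerIn hS hlt
  obtain ⟨z, hz, -, hzr⟩ := centric_agree hS hF hP hlt'.le ((hψ.restrict hN).of_sub hsub)
    (hαS.restrict inf_le_left) hψe
  have hzN : z ∈ normalizerIn S P := hlt'.le hz
  refine ih _ ?_ _ rfl (centric_mono hP hlt'.le inf_le_left) (fun x hx => ?_) ?_
  · have h1 := card_lt_of_lt (S := S) hlt' inf_le_left
    have h2 : Nat.card ↥(normalizerIn S P) ≤ Nat.card S := Subgroup.card_le_of_le inf_le_left
    omega
  · have := hαS.mem_normalizer hP.1 hx.1 hx.2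
    rwa [hi] at this
  · refine ((map_conjBy (F := E) inf_le_left (inf_le_left (a := S) hzN)).comp (hψ.restrict hN) ?_).congr
      fun r hr => (hzr r hr).symm
    exact fun r hr => Subgroup.mul_mem _ (Subgroup.mul_mem _ hzN hr) (Subgroup.inv_mem _ hzN)

end Cfsg.Agent.Local.FS
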