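import Cfsg.Agent.Lib.Local.FS.SimpleGroupSystem
import Cfsg.Agent.Lib.Local.FS.Simplicity
import Cfsg.Agent.Lib.Fusion.KInf

/-!
Simplicity of a group fusion system when the automizer of the Sylow subgroup is generated by
`p`-elements of normalizers of normal self-centralizing subgroups.
-/

set_option autoImplicit false

namespace Cfsg.Agent.Local.FS

open Cfsg Cfsg.FusionSystem Cfsg.Agent.Fusion

variable {G : Type*} [Group G] [Finite G] {p : ℕ} [Fact p.Prime]

/-- The generators allowed in the criterion. -/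
def IsNormalGenerator (p : ℕ) (S : Subgroup G) (h : G) : Prop :=
  h ∈ Subgroup.normalizer (S : Set G) ∧ ∃ R : Subgroup G, R ≤ S ∧ (∀ s ∈ S, ∀ x ∈ R, s * x * s⁻¹ ∈ R) ∧
    Subgroup.centralizer (R : Set G) ≤ R ∧
    h ∈ Subgroup.closure {k : G | k ∈ Subgroup.normalizer (R : Set G) ∧ ∃ e : ℕ, k ^ p ^ e = 1}

/-- The criterion, for one Sylow subgroup. -/
theorem simple_of_normal_centric_self (S : Sylow p G) (hS1 : (S : Subgroup G) ≠ ⊥)
    (ha : ∀ T : Subgroup G, T ≤ (S : Subgroup G) → T ≠ ⊥ →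
      (∀ x ∈ T, ∀ g : G, g * x * g⁻¹ ∈ (S : Subgroup G) → g * x * g⁻¹ ∈ T) → (S : Subgroup G) ≤ T)
    (hb : Subgroup.normalizer ((S : Subgroup G) : Set G) ≤
      Subgroup.closure {h : G | IsNormalGenerator p (S : Subgroup G) h}) :
    (groupFusionSystem (S : Subgroup G)).IsSimple p := by
  set F := groupFusionSystem (S : Subgroup G) with hFdef
  have hF : F.IsSaturated p := group_saturated (sylIn_top S)
  have hS : IsPGroup p ↥(S : Subgroup G) := S.2
  refine ⟨hF, hS1, fun T E hEn => ?_⟩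
  obtain ⟨⟨hEs, -, hinv⟩, -⟩ := hEn
  rcases eq_or_ne T ⊥ with hT1 | hT1
  · exact Or.inl hT1
  have hTS := hinv.2.1
  obtain rfl : T = (S : Subgroup G) :=
    le_antisymm hTS.1 (ha T hTS.1 hT1 fun x hx g hg => stronglyClosed_group_conj hTS hx g hg)
  refine Or.inr ⟨rfl, fun P => Set.Subset.antisymm (hinv.1 P) fun φ hφ => ?_⟩
  have hauto : ∀ g ∈ Subgroup.normalizer ((S : Subgroup G) : Set G),
      ∃ β ∈ E.autGroup (S : Subgroup G), ∀ x ∈ (S : Subgroup G), av β x = g * x * g⁻¹ := by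
    intro g hg
    replace hg := hb hg
    induction hg using Subgroup.closure_induction with
    | one => exact ⟨1, Subgroup.one_mem _, fun x hx => by rw [av_one hx]; simp⟩
    | mul a b _ _ iha ihb =>
      obtain ⟨γ, hγ, hγa⟩ := iha
      obtain ⟨δ, hδ, hδb⟩ := ihb
      refine ⟨γ * δ, Subgroup.mul_mem _ hγ hδ, fun x hx => ?_⟩
      rw [av_mul _ _ hx, hγa _ (av_mem δ hx), hδb x hx]; group
    | inv a _ iha =>
      obtain ⟨γ, hγ, hγa⟩ := iha
      refine ⟨γ⁻¹, Subgroup.inv_mem _ hγ, fun x hx => ?_⟩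
      have := hγa _ (av_mem γ⁻¹ hx)
      rw [av_av_inv γ hx] at this
      calc av γ⁻¹ x = a⁻¹ * (a * av γ⁻¹ x * a⁻¹) * a⁻¹⁻¹ := by group
        _ = _ := by rw [← this]
    | mem h hh =>
      obtain ⟨hhn, R, hRS, hRnorm, hRc, hhcl⟩ := hh
      haveI := mulAut_finite_of_le hRS
      have hcent : F.IsCentric R := by
        refine ⟨hRS, fun Q hQ => ?_⟩
        obtain ⟨-, -, g, rfl⟩ := isConj_group_iff.1 hQ
        intro y hy
        rw [mem_centralizerIn] at hy
        rw [mem_cj]
        refine hRc (Subgroup.mem_centralizer_iff.2 fun r hr => ?_)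
        have hc := hy.2 _ (conj_mem_cj (g := g) hr)
        calc r * (g⁻¹ * y * g) = g⁻¹ * ((g * r * g⁻¹) * y) * g := by group
          _ = g⁻¹ * (y * (g * r * g⁻¹)) * g := by rw [hc]
          _ = g⁻¹ * y * g * r := by group
      have hfn : F.IsFullyNormalized R := by
        refine ⟨hRS, fun Q _ => ?_⟩
        have hnS : normalizerIn (S : Subgroup G) R = (S : Subgroup G) :=
          le_antisymm inf_le_left (le_inf le_rfl fun s hs => Subgroup.mem_normalizer_fintype fun x hx => hRnorm s hs x hx)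
        rw [hnS]
        exact Subgroup.card_le_of_le inf_le_left
      have key : h ∈ Subgroup.normalizer (R : Set G) ∧
          ∃ γ ∈ E.autGroup R, ∀ x ∈ R, av γ x = h * x * h⁻¹ := by
        clear hhn
        induction hhcl using Subgroup.closure_induction with
        | mem k hk =>
          obtain ⟨hkn, e, he⟩ := hk
          obtain ⟨γ, hγ, -⟩ := exists_aut_conj hkn
          refine ⟨hkn, γ, ?_, hγ⟩
          have hγF : γ ∈ F.autGroup R :=
            mem_autGroup_of_map (map_group_iff.2 ⟨hRS, fun x hx => hRS (av_mem γ hx), k, hγ⟩)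
          have hpow : ∀ n : ℕ, ∀ x ∈ R, av (γ ^ n) x = k ^ n * x * (k ^ n)⁻¹ := by
            intro n
            induction n with
            | zero => intro x hx; simp [av_one hx]
            | succ n ih =>
              intro x hx
              rw [pow_succ', av_mul _ _ hx, hγ _ (av_mem _ hx), ih x hx, pow_succ']; group
          have hγp : IsPGroup p ↥(Subgroup.zpowers γ) := by
            obtain ⟨j, -, hj⟩ := (Nat.dvd_prime_pow Fact.out).1 (orderOf_dvd_of_pow_eq_one
              (show γ ^ p ^ e = 1 from aut_ext fun x hx => by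
                rw [hpow _ x hx, he, av_one hx]; group))
            exact IsPGroup.of_card ((Nat.card_zpowers _).trans hj)
          obtain ⟨χ, hχ, hle⟩ := (fa_iff.1 (fc_fa_of_fn hS hF hfn).2).2.conj_le hγp
            (Subgroup.zpowers_le.2 hγF)
          have h1 : χ * γ * χ⁻¹ ∈ E.autGroup R :=
            autInducedBy_le_autGroup hRS (hle (conj_mem_cj (Subgroup.mem_zpowers _)))
          have h2 := conj_mem_autGroup hinv hRS (Subgroup.inv_mem _ hχ) h1
          simpa [mul_assoc] using h2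
        | one => exact ⟨Subgroup.one_mem _, 1, Subgroup.one_mem _, fun x hx => by rw [av_one hx]; simp⟩
        | mul a b _ _ iha ihb =>
          obtain ⟨han, γ, hγ, hγa⟩ := iha
          obtain ⟨hbn, δ, hδ, hδb⟩ := ihb
          refine ⟨Subgroup.mul_mem _ han hbn, γ * δ, Subgroup.mul_mem _ hγ hδ, fun x hx => ?_⟩
          rw [av_mul _ _ hx, hγa _ (av_mem δ hx), hδb x hx]; group
        | inv a _ iha =>
          obtain ⟨han, γ, hγ, hγa⟩ := iha
          refine ⟨Subgroup.inv_mem _ han, γ⁻¹, Subgroup.inv_mem _ hγ, fun x hx => ?_⟩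
          have := hγa _ (av_mem γ⁻¹ hx)
          rw [av_av_inv γ hx] at this
          calc av γ⁻¹ x = a⁻¹ * (a * av γ⁻¹ x * a⁻¹) * a⁻¹⁻¹ := by group
            _ = _ := by rw [← this]
      obtain ⟨-, γ, hγ, hγh⟩ := key
      obtain ⟨β, hβ, -⟩ := exists_aut_conj hhn
      have hagree : ∀ x ∈ R, av β x = av γ x := fun x hx => (hβ x (hRS hx)).trans (hγh x hx).symm
      refine ⟨β, mem_of_restrict_centric hS hF hEs hinv.1 ?_ hcent (fun x hx => hagree x hx ▸ av_mem γ hx)
        ((map_of_mem_autGroup hRS hγ).congr fun x hx => (hagree x hx).symm), hβ⟩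
      exact mem_autGroup_of_map (map_group_iff.2 ⟨le_rfl, fun x hx => av_mem β hx, h, hβ⟩)
  have htop : F.autGroup (S : Subgroup G) ≤ E.autGroup (S : Subgroup G) := by
    intro α hα
    obtain ⟨-, -, g, hg⟩ := map_group_iff.1 (map_of_mem_autGroup le_rfl hα)
    obtain ⟨β, hβ, hβg⟩ := hauto g (Subgroup.mem_normalizer_fintype fun x hx => by
      show g * x * g⁻¹ ∈ (S : Subgroup G)
      rw [← hg x hx]
      exact av_mem α hx)
    rwa [show α = β from aut_ext fun x hx => (hg x hx).trans (hβg x hx).symm]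
  obtain ⟨α, hα, g, hg, he⟩ := frattini_map hinv (F.le_of_mem hφ).1 (map_of_mem hφ)
  exact mem_iff_map.2 ((hg.comp (map_of_mem_autGroup le_rfl (htop hα)) fun x hx => hg.mem hx).congr
    fun x hx => (he x hx).symm)

/-- The criterion, checked on one Sylow subgroup and concluded for every one. -/
theorem simple_of_normal_centric (S₀ S : Sylow p G) (hS1 : (S₀ : Subgroup G) ≠ ⊥)
    (ha : ∀ T : Subgroup G, T ≤ (S₀ : Subgroup G) → T ≠ ⊥ →
      (∀ x ∈ T, ∀ g : G, g * x * g⁻¹ ∈ (S₀ : Subgroup G) → g * x * g⁻¹ ∈ T) → (S₀ : Subgroup G) ≤ T)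
    (hb : Subgroup.normalizer ((S₀ : Subgroup G) : Set G) ≤
      Subgroup.closure {h : G | IsNormalGenerator p (S₀ : Subgroup G) h}) :
    (groupFusionSystem (S : Subgroup G)).IsSimple p := by
  obtain ⟨w, hw⟩ := MulAction.exists_smul_eq G S₀ S
  set c : G →* G := (MulAut.conj w).toMonoidHom with hc
  have hcap : ∀ x, c x = w * x * w⁻¹ := fun x => rfl
  have hS : (S : Subgroup G) = (S₀ : Subgroup G).map c := by
    rw [← hw, Sylow.coe_subgroup_smul]; rfl
  have hcinj : Function.Injective c := (MulAut.conj w).injective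
  have hmem : ∀ (H : Subgroup G) (x : G), c x ∈ H.map c ↔ x ∈ H :=
    fun H x => Subgroup.mem_map_iff_mem hcinj
  have hsurj : ∀ y, ∃ x, c x = y := fun y => ⟨w⁻¹ * y * w, by rw [hcap]; group⟩
  refine simple_of_normal_centric_self S ?_ ?_ ?_
  · rw [hS, Ne, Subgroup.map_eq_bot_iff_of_injective _ hcinj]
    exact hS1
  · intro T hTS hT1 hcl
    have h := ha (T.comap c) (fun x hx => (hmem _ x).1 (hS ▸ hTS hx)) (fun h => hT1 ?_) fun x hx g hg => ?_
    · rw [hS]
      exact (Subgroup.map_mono h).trans (Subgroup.map_comap_le c T)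
    · refine le_bot_iff.1 fun y hy => ?_
      obtain ⟨x, rfl⟩ := hsurj y
      have hx : x ∈ T.comap c := hy
      rw [h, Subgroup.mem_bot] at hx
      rw [hx, map_one]; exact one_mem _
    · show c (g * x * g⁻¹) ∈ T
      rw [map_mul, map_mul, map_inv]
      refine hcl _ hx _ ?_
      rw [← map_inv, ← map_mul, ← map_mul, hS, hmem]
      exact hg
  · intro g hg
    obtain ⟨n, rfl⟩ := hsurj g
    have hn : n ∈ Subgroup.normalizer ((S₀ : Subgroup G) : Set G) := by
      refine Subgroup.mem_normalizer_iff.2 fun x => ?_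
      have := Subgroup.mem_normalizer_iff.1 hg (c x)
      rw [← map_inv, ← map_mul, ← map_mul, hS, hmem, hmem] at this
      exact this
    have h1 := Subgroup.mem_map_of_mem c (hb hn)
    rw [MonoidHom.map_closure] at h1
    refine Subgroup.closure_mono ?_ h1
    rintro _ ⟨h, ⟨hhn, R, hRS, hRn, hRc, hhR⟩, rfl⟩
    refine ⟨Subgroup.mem_normalizer_fintype fun y hy => ?_, R.map c, hS ▸ Subgroup.map_mono hRS, ?_, ?_, ?_⟩
    · obtain ⟨x, rfl⟩ := hsurj y
      show c h * c x * (c h)⁻¹ ∈ (S : Subgroup G)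
      rw [← map_inv, ← map_mul, ← map_mul, hS, hmem]
      exact (Subgroup.mem_normalizer_iff.1 hhn x).1 ((hmem _ x).1 (hS ▸ hy))
    · intro s hs x hx
      obtain ⟨s, rfl⟩ := hsurj s
      obtain ⟨x, rfl⟩ := hsurj x
      rw [← map_inv, ← map_mul, ← map_mul, hmem]
      exact hRn s ((hmem _ s).1 (hS ▸ hs)) x ((hmem _ x).1 hx)
    · intro y hy
      obtain ⟨x, rfl⟩ := hsurj y
      rw [hmem]
      refine hRc (Subgroup.mem_centralizer_iff.2 fun r hr => hcinj ?_)
      rw [map_mul, map_mul]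
      exact Subgroup.mem_centralizer_iff.1 hy _ ((hmem _ r).2 hr)
    · have h2 := Subgroup.mem_map_of_mem c hhR
      rw [MonoidHom.map_closure] at h2
      refine Subgroup.closure_mono ?_ h2
      rintro _ ⟨k, ⟨hk, e, he⟩, rfl⟩
      refine ⟨Subgroup.mem_normalizer_fintype fun y hy => ?_, e, by rw [← map_pow, he, map_one]⟩
      obtain ⟨x, rfl⟩ := hsurj y
      show c k * c x * (c k)⁻¹ ∈ R.map c
      rw [← map_inv, ← map_mul, ← map_mul, hmem]
      exact (Subgroup.mem_normalizer_iff.1 hk x).1 ((hmem _ x).1 hy)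

/-- A nontrivial subgroup of a `p`-group, normalized by it, contains a central element. -/
theorem exists_central_of_normalized {S T : Subgroup G} (hS : IsPGroup p S) (hTS : T ≤ S) (hT1 : T ≠ ⊥)
    (hn : ∀ s ∈ S, ∀ x ∈ T, s * x * s⁻¹ ∈ T) : ∃ x ∈ T, x ≠ 1 ∧ ∀ s ∈ S, s * x = x * s := by
  haveI : (T.subgroupOf S).Normal := ⟨fun x hx g => hn g g.2 x hx⟩
  haveI : Group.IsNilpotent S := hS.isNilpotent
  have hne : ¬ T.subgroupOf S ≤ ⊥ := fun h => hT1 (le_bot_iff.1 fun x hx => by
    have := h (x := ⟨x, hTS hx⟩) (Subgroup.mem_subgroupOf.2 hx)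
    rw [Subgroup.mem_bot] at this
    exact Subgroup.mem_bot.2 (congrArg Subtype.val this))
  obtain ⟨x, hx, hx1, hxc⟩ := exists_fixed_mod (N := (⊥ : Subgroup S)) (C := T.subgroupOf S) (Q := ⊤)
    (by rw [Subgroup.normalizer_eq_top]) hne
  exact ⟨x, hx, fun h => hx1 (Subgroup.mem_bot.2 (Subtype.ext h)), fun s hs =>
    (congrArg Subtype.val (commutatorElement_eq_one_iff_mul_comm.1
      (Subgroup.mem_bot.1 (hxc ⟨s, hs⟩ trivial)))).symm⟩

end Cfsg.Agent.Local.FS
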