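import Cfsg.Agent.Lib.Local.FS.Sub

set_option autoImplicit false

namespace Cfsg.Agent.Local.FS

open Cfsg Cfsg.FusionSystem

variable {Ω : Type*} [Group Ω] {S : Subgroup Ω} [Finite S] {F : FusionSystem S} {p : ℕ}

theorem simple_of_inn (hF : F.IsSaturated p) (hS1 : S ≠ ⊥) (htop : F.autGroup S = Inn ↥S)
    (hsc : ∀ T : Subgroup Ω, F.StronglyClosed T → T = ⊥ ∨ T = S) : F.IsSimple p := by
  refine ⟨hF, hS1, fun T E hE => ?_⟩
  obtain ⟨⟨-, -, hsub, hT, -, hfrat⟩, -⟩ := hE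
  rcases hsc T hT with h | h
  · exact Or.inl h
  refine Or.inr ⟨h, fun P => Set.Subset.antisymm (hsub P) fun φ hφ => ?_⟩
  subst h
  have hP := (F.le_of_mem hφ).1
  obtain ⟨α, hα, φ₀, hφ₀, he⟩ := hfrat P hP φ hφ
  rw [htop] at hα
  obtain ⟨g, hg, hgα⟩ := mem_Inn.1 hα
  have h0 := map_of_mem hφ₀
  refine (h0.comp (map_conjBy (F := E) le_rfl hg) fun x hx => h0.mem hx).mem_hom fun x => ?_
  have hx0 : φ₀ x ∈ T := (E.le_of_mem hφ₀).2 x
  rw [he x hx0, ← av_apply α hx0, hgα _ hx0]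
  show _ = g * fn φ₀ (x : Ω) * g⁻¹
  rw [fn_coe]

end Cfsg.Agent.Local.FS
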