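import Cfsg.Agent.Lib.Local.FS.Series
import Cfsg.Agent.Lib.Local.FS.Simple

set_option autoImplicit false

namespace Cfsg.Agent.Local.FS

open Cfsg Cfsg.FusionSystem Cfsg.Agent.Fusion

variable {Ω : Type*} [Group Ω] {S : Subgroup Ω} [Finite S] {F : FusionSystem S}
  {T P : Subgroup Ω} {f : Ω → Ω} {p : ℕ}

theorem map_inner_eq (hab : ∀ x ∈ S, ∀ y ∈ S, x * y = y * x) (hTS : T ≤ S)
    (h : Map (innerFusionSystem T) P f) {x : Ω} (hx : x ∈ P) : f x = x := by
  obtain ⟨φ, ⟨hP, g, hg, hφ⟩, he⟩ := h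
  rw [← he ⟨x, hx⟩, hφ ⟨x, hx⟩]
  show g * x * g⁻¹ = x
  rw [hab g (hTS hg) x (hTS (hP hx)), mul_inv_cancel_right]

theorem inner_saturated [Fact p.Prime] (hS : IsPGroup p S)
    (hab : ∀ x ∈ S, ∀ y ∈ S, x * y = y * x) (hTS : T ≤ S) :
    (innerFusionSystem T).IsSaturated p := by
  haveI := finite_of_le hTS
  intro P hP
  haveI := mulAut_finite_of_le hP
  refine ⟨P, isConj_refl hP, fa_iff.2 ⟨hP, autInducedBy_le_autGroup hP, isPGroup_autS (hS.to_le hTS), ?_⟩, ?_⟩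
  · have h : (innerFusionSystem T).autGroup P = ⊥ := by
      rw [eq_bot_iff]
      intro α hα
      refine Subgroup.mem_bot.2 (aut_ext fun x hx => ?_)
      rw [map_inner_eq hab hTS (map_of_mem_autGroup hP hα) hx, av_one hx]
    rw [h, Subgroup.relIndex_bot_right]
    exact Nat.Prime.not_dvd_one Fact.out
  · refine receptive_iff.2 ⟨hP, fun X f hf _ => ⟨id, map_id (Nf_le.trans inf_le_left), fun x hx => ?_⟩⟩
    exact (map_inner_eq hab hTS hf hx).symm

/-- The inner system of a strongly closed subgroup of an abelian group is a normal subsystem. -/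
theorem inner_normalIn [Fact p.Prime] (hS : IsPGroup p S) (hF : F.IsSaturated p)
    (hab : ∀ x ∈ S, ∀ y ∈ S, x * y = y * x) (hT : F.StronglyClosed T)
    (hext : ∀ (P : Subgroup Ω) (f : Ω → Ω), P ≤ T → Map F P f →
      ∃ α ∈ F.autGroup T, ∀ x ∈ P, av α x = f x) :
    (innerFusionSystem T).IsNormalIn F p := by
  haveI := finite_of_le hT.1
  haveI := mulAut_finite_of_le hT.1
  refine ⟨⟨inner_saturated hS hab hT.1, hF, ?_, hT, ?_, ?_⟩, ?_⟩
  · rintro P φ ⟨hP, g, hg, hφ⟩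
    exact (map_conjBy (hP.trans hT.1) (hT.1 hg)).mem_hom hφ
  · intro P hPT φ hφ α hα
    have hle : (P.subgroupOf T).map (T.subtype.comp α.toMonoidHom) ≤ T := by
      rintro _ ⟨x, -, rfl⟩
      exact SetLike.coe_mem _
    obtain ⟨χ, hχ, he⟩ := map_id (F := innerFusionSystem T) hle
    refine ⟨χ, hχ, fun x hφx hαx => (he _).trans ?_⟩
    show ((α ⟨x, hPT x.2⟩ : T) : Ω) = _
    have h1 : φ x = x := (fn_coe φ x).symm.trans (map_inner_eq hab hT.1 (map_of_mem hφ) x.2)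
    exact congrArg (fun t : T => ((α t : T) : Ω)) (Subtype.ext h1.symm)
  · intro P hP φ hφ
    obtain ⟨α, hα, hαφ⟩ := hext P _ hP (map_of_mem hφ)
    obtain ⟨ψ, hψ, he⟩ := map_id (F := innerFusionSystem T) hP
    refine ⟨α, hα, ψ, hψ, fun x hx => ?_⟩
    rw [← fn_coe φ x, ← hαφ x x.2, av_apply α (hP x.2)]
    exact congrArg (fun t : T => ((α t : T) : Ω)) (Subtype.ext (he x).symm)
  · intro α hα
    refine ⟨1, Subgroup.one_mem _, fun x => ?_, fun c _ => ?_⟩
    · show (x : Ω) = ((α x : T) : Ω)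
      rw [← av_coe α x, map_inner_eq hab hT.1 (map_of_mem_autGroup le_rfl hα) x.2]
    · show (c : Ω)⁻¹ * (c : Ω) ∈ _
      rw [inv_mul_cancel]
      exact Subgroup.one_mem _

theorem abelian_extend [Fact p.Prime] (hS : IsPGroup p S) (hF : F.IsSaturated p)
    (hab : ∀ x ∈ S, ∀ y ∈ S, x * y = y * x) (hf : Map F P f) :
    ∃ α ∈ F.autGroup S, ∀ x ∈ P, av α x = f x := by
  have hC : ∀ Q : Subgroup Ω, Q ≤ S → centralizerIn S Q = S := fun Q hQ =>
    le_antisymm inf_le_left fun x hx => mem_centralizerIn.2 ⟨hx, fun y hy => hab y (hQ hy) x hx⟩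
  have hfc : F.IsFullyCentralized (im P f) := ⟨hf.im_le, fun Q hQ => by
    rw [hC _ hf.im_le, hC Q (isConj_le hQ).2]⟩
  obtain ⟨g, hg, hgf⟩ := (receptive_iff.1 (receptive_of_fc hS hF hfc)).2 P f hf rfl
  have hgS := hg.restrict ((hC P hf.le).ge.trans centralizerIn_le_Nf)
  obtain ⟨α, hα, hαg⟩ := exists_aut hgS (Subgroup.eq_of_le_of_card_ge hgS.im_le hgS.card_im.ge)
  exact ⟨α, hα, fun x hx => by rw [hαg x (hf.le hx), hgf x hx]⟩

end Cfsg.Agent.Local.FS
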