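import Cfsg.Agent.Lib.Local.FS.MinimalNonInner
import Cfsg.Agent.Lib.Local.FS.Abelian

/-!
Chains of strongly closed subgroups with cyclic factors over an abelian group.
-/

set_option autoImplicit false

namespace Cfsg.Agent.Local.FS

open Cfsg Cfsg.FusionSystem Cfsg.Agent.Fusion

universe u

/-- Two coordinates with the same modulus. -/
def HasSquareFactor (p : ℕ) (A : Type*) [Group A] : Prop :=
  ∃ (n : ℕ) (H : Type) (_ : CommGroup H), 0 < n ∧
    Nonempty (A ≃* (Multiplicative (ZMod (p ^ n)) × Multiplicative (ZMod (p ^ n))) × H)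

theorem exists_split_cyclicFamily {A : Type*} [Group A] {ι : Type} (n : ι → ℕ)
    (e : A ≃* ((i : ι) → Multiplicative (ZMod (n i)))) (a b : ι) (hab : a ≠ b) :
    ∃ (H : Type) (_ : CommGroup H), Nonempty (A ≃* (Multiplicative (ZMod (n a)) × Multiplicative (ZMod (n b))) × H) := by
  classical
  refine ⟨(i : {i : ι // i ≠ a ∧ i ≠ b}) → Multiplicative (ZMod (n i)), inferInstance, ⟨e.trans
    { toFun := fun f => ((f a, f b), fun i => f i)
      invFun := fun q i => if h : i = a then h ▸ q.1.1 else if h' : i = b then h' ▸ q.1.2 else q.2 ⟨i, h, h'⟩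
      left_inv := fun f => by
        funext i
        by_cases h : i = a
        · subst h; simp
        · by_cases h' : i = b
          · subst h'; simp [h]
          · simp [h, h']
      right_inv := fun q => by
        refine Prod.ext (Prod.ext (by simp) (by simp [hab.symm])) (funext fun i => ?_)
        simp [i.2.1, i.2.2]
      map_mul' := fun f g => rfl }⟩⟩

variable {p : ℕ} [hp : Fact p.Prime]

/-- Without a square factor the layers `Ω₁ ∩ ℧_j` drop by at most a factor `p`. -/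
theorem layer_step {A : Type u} [CommGroup A] [Finite A] (hA : IsPGroup p A) (hns : ¬ HasSquareFactor p A) (j : ℕ)
    {x1 y1 : A} (hx : (x1 ^ p ^ j) ^ p = 1) (hy : (y1 ^ p ^ j) ^ p = 1) (hnx : ∀ z : A, z ^ p ^ (j + 1) ≠ x1 ^ p ^ j) :
    ∃ k : ℕ, ∃ z : A, z ^ p ^ (j + 1) = y1 ^ p ^ j * ((x1 ^ p ^ j) ^ k)⁻¹ := by
  obtain ⟨ι, _, n, hn, ⟨e⟩⟩ := CommGroup.equiv_prod_multiplicative_zmod_of_finite A
  have hp' := hp.out
  classical
  have hpow : ∀ i, ∃ m, 0 < m ∧ n i = p ^ m := by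
    intro i
    obtain ⟨t, ht⟩ := hA (e.symm (Pi.mulSingle i (Multiplicative.ofAdd 1)))
    have h1 : (Pi.mulSingle i (Multiplicative.ofAdd 1) : (i : ι) → Multiplicative (ZMod (n i))) ^ p ^ t = 1 := by
      rw [← e.apply_symm_apply (Pi.mulSingle i _), ← map_pow, ht, map_one]
    have h2 := congrFun h1 i
    rw [Pi.pow_apply, Pi.mulSingle_eq_same, Pi.one_apply] at h2
    have h3 : ((p ^ t : ℕ) : ZMod (n i)) = 0 := by
      have := congrArg Multiplicative.toAdd h2
      simpa using this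
    obtain ⟨m, -, hm⟩ := (Nat.dvd_prime_pow hp').1 ((ZMod.natCast_eq_zero_iff _ _).1 h3)
    refine ⟨m, Nat.pos_of_ne_zero ?_, hm⟩
    rintro rfl
    exact absurd (hn i) (by simp [hm])
  choose m hm0 hm using hpow
  have hinj : Function.Injective m := by
    intro a b hab
    by_contra hne
    obtain ⟨H, _, ⟨e'⟩⟩ := exists_split_cyclicFamily n e a b hne
    refine hns ⟨m a, H, inferInstance, hm0 a, ?_⟩
    have ha := hm a
    have hb : n b = p ^ m a := by rw [hm b, hab]
    rw [ha, hb] at e'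
    exact ⟨e'⟩
  obtain ⟨c, hc⟩ : ∃ c : (i : ι) → A → ZMod (n i), ∀ i z, c i z = Multiplicative.toAdd (e z i) :=
    ⟨fun i z => Multiplicative.toAdd (e z i), fun _ _ => rfl⟩
  have hcpow : ∀ i z (k : ℕ), c i (z ^ k) = (k : ZMod (n i)) * c i z := fun i z k => by
    rw [hc, hc, map_pow, Pi.pow_apply, toAdd_pow, nsmul_eq_mul]
  have hc1 : ∀ i, c i 1 = 0 := fun i => by rw [hc, map_one]; rfl
  have hother : ∀ z : A, (z ^ p ^ j) ^ p = 1 → ∀ i, m i ≠ j + 1 →
      ∃ w : ZMod (n i), ((p ^ (j + 1) : ℕ) : ZMod (n i)) * w = c i (z ^ p ^ j) := by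
    intro z hz i hi
    rcases le_or_gt (m i) j with h | h
    · refine ⟨0, ?_⟩
      rw [mul_zero, hcpow, show ((p ^ j : ℕ) : ZMod (n i)) = 0 from
        (ZMod.natCast_eq_zero_iff _ _).2 (hm i ▸ pow_dvd_pow p h), zero_mul]
    · have h0 := hcpow i z (p ^ (j + 1))
      rw [pow_succ, pow_mul, hz, hc1] at h0
      haveI : NeZero (n i) := ⟨(Nat.zero_lt_of_lt (hn i)).ne'⟩
      rw [← ZMod.natCast_zmod_val (c i z), ← Nat.cast_mul] at h0
      have h1 := (ZMod.natCast_eq_zero_iff _ _).1 h0.symm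
      have h2 : p ^ j * p * p ∣ p ^ j * p * (c i z).val :=
        (dvd_trans (by rw [← pow_succ, ← pow_succ, hm i]; exact pow_dvd_pow p (by omega)) h1)
      obtain ⟨w, hw⟩ := (Nat.mul_dvd_mul_iff_left (Nat.mul_pos (pow_pos hp'.pos j) hp'.pos)).1 h2
      refine ⟨(w : ZMod (n i)), ?_⟩
      rw [hcpow, ← ZMod.natCast_zmod_val (c i z), hw, pow_succ]
      push_cast
      ring
  have hrange : ∀ z : A, (∀ i, ∃ w : ZMod (n i), ((p ^ (j + 1) : ℕ) : ZMod (n i)) * w = c i z) →
      ∃ z' : A, z' ^ p ^ (j + 1) = z := by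
    intro z h
    choose w hw using h
    refine ⟨e.symm fun i => Multiplicative.ofAdd (w i), e.injective (funext fun i => ?_)⟩
    apply Multiplicative.toAdd.injective
    rw [← hc, ← hc, hcpow, hc, e.apply_symm_apply]
    exact hw i
  obtain ⟨i0, hi0⟩ : ∃ i0, m i0 = j + 1 := by
    by_contra h
    push Not at h
    obtain ⟨z', hz'⟩ := hrange _ fun i => hother x1 hx i (h i)
    exact hnx z' hz'
  haveI : NeZero (n i0) := ⟨(Nat.zero_lt_of_lt (hn i0)).ne'⟩
  have hu : ((c i0 x1).val : ZMod p) ≠ 0 := by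
    intro h0
    obtain ⟨w, hw⟩ := (ZMod.natCast_eq_zero_iff _ _).1 h0
    obtain ⟨z', hz'⟩ := hrange (x1 ^ p ^ j) fun i => by
      by_cases hi : i = i0
      · subst hi
        refine ⟨(w : ZMod (n i)), ?_⟩
        rw [hcpow, ← ZMod.natCast_zmod_val (c i x1), hw, pow_succ]
        push_cast
        ring
      · exact hother x1 hx i fun h => hi (hinj (h.trans hi0.symm))
    exact hnx z' hz'
  refine ⟨(((c i0 y1).val : ZMod p) * ((c i0 x1).val : ZMod p)⁻¹).val, ?_⟩
  obtain ⟨k, hk⟩ : ∃ k, k = (((c i0 y1).val : ZMod p) * ((c i0 x1).val : ZMod p)⁻¹).val := ⟨_, rfl⟩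
  rw [← hk]
  have hz : y1 ^ p ^ j * ((x1 ^ p ^ j) ^ k)⁻¹ = (y1 * (x1 ^ k)⁻¹) ^ p ^ j := by
    rw [mul_pow, inv_pow, ← pow_mul, ← pow_mul, mul_comm k]
  rw [hz]
  have hmem : ((y1 * (x1 ^ k)⁻¹) ^ p ^ j) ^ p = 1 := by
    rw [← hz, mul_pow, inv_pow, hy, pow_right_comm, hx, one_pow, inv_one, mul_one]
  refine hrange _ fun i => ?_
  by_cases hi : i = i0
  · subst hi
    obtain ⟨t, ht⟩ : (p : ℤ) ∣ (c i y1).val - k * (c i x1).val := by
      rw [← ZMod.intCast_zmod_eq_zero_iff_dvd]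
      push_cast
      rw [hk, ZMod.natCast_zmod_val, mul_assoc, inv_mul_cancel₀ hu, mul_one, sub_self]
    refine ⟨(t : ZMod (n i)), ?_⟩
    have hsub : c i (y1 * (x1 ^ k)⁻¹) = c i y1 - (k : ZMod (n i)) * c i x1 := by
      rw [hc, map_mul, map_inv, Pi.mul_apply, Pi.inv_apply, toAdd_mul, toAdd_inv, ← hc, ← hc, hcpow, sub_eq_add_neg]
    rw [hcpow, hsub, ← ZMod.natCast_zmod_val (c i y1), ← ZMod.natCast_zmod_val (c i x1)]
    have h2 := congrArg (fun a : ℤ => (a : ZMod (n i))) ht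
    push_cast at h2
    rw [h2, pow_succ]
    push_cast
    ring
  · exact hother _ hmem i fun h => hi (hinj (h.trans hi0.symm))

/-- The layer `{x | x^{p^{i+1}} = 1, x^{p^i} ∈ ℧_j}`. -/
def layer' (A : Type*) [CommGroup A] (p i j : ℕ) : Subgroup A :=
  (powMonoidHom (p ^ (i + 1)) : A →* A).ker ⊓ ((powMonoidHom (p ^ j) : A →* A).range).comap (powMonoidHom (p ^ i))

theorem layer'_characteristic {A : Type*} [CommGroup A] (i j : ℕ) : (layer' A p i j).Characteristic := by
  refine Subgroup.characteristic_iff_le_map.2 fun γ x hx => ⟨γ.symm x, ?_, γ.apply_symm_apply x⟩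
  obtain ⟨h1, z, hz⟩ := hx
  refine ⟨?_, γ.symm z, ?_⟩
  · show γ.symm x ^ p ^ (i + 1) = 1
    rw [← map_pow, show x ^ p ^ (i + 1) = 1 from h1, map_one]
  · show γ.symm z ^ p ^ j = γ.symm x ^ p ^ i
    rw [← map_pow, ← map_pow, show z ^ p ^ j = x ^ p ^ i from hz]

/-- Without a square factor a characteristic subgroup grows by a cyclic step to a characteristic one. -/
theorem exists_char_step {A : Type u} [CommGroup A] [Finite A] (hA : IsPGroup p A) (hns : ¬ HasSquareFactor p A)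
    (C : Subgroup A) [C.Characteristic] (hC : C ≠ ⊤) :
    ∃ x ∉ C, (C ⊔ Subgroup.zpowers x).Characteristic := by
  obtain ⟨N, hN⟩ := IsPGroup.iff_card.1 hA
  have hAN : ∀ x : A, x ^ p ^ N = 1 := fun x => by rw [← hN, pow_card_eq_one']
  have hex : ∃ i, ∃ x, x ^ p ^ (i + 1) = 1 ∧ x ∉ C := by
    obtain ⟨x, hx⟩ : ∃ x, x ∉ C := by
      by_contra h; push Not at h
      exact hC (eq_top_iff.2 fun x _ => h x)
    exact ⟨N, x, by rw [pow_succ, pow_mul, hAN, one_pow], hx⟩
  classical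
  obtain ⟨i, hi, himin⟩ : ∃ i, (∃ x, x ^ p ^ (i + 1) = 1 ∧ x ∉ C) ∧ ∀ x : A, x ^ p ^ i = 1 → x ∈ C := by
    refine ⟨Nat.find hex, Nat.find_spec hex, fun x hx => ?_⟩
    by_contra hxC
    rcases Nat.eq_zero_or_pos (Nat.find hex) with h0 | h0
    · rw [h0, pow_zero, pow_one] at hx
      exact hxC (hx ▸ C.one_mem)
    · refine Nat.find_min hex (Nat.sub_lt h0 one_pos) ⟨x, ?_, hxC⟩
      rwa [show Nat.find hex - 1 + 1 = Nat.find hex by omega]
  have hex2 : ∃ j, layer' A p i j ≤ C := ⟨N, fun x hx => by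
    obtain ⟨-, z, hz⟩ := hx
    refine himin x ?_
    rw [← show z ^ p ^ N = x ^ p ^ i from hz, hAN]⟩
  have hj0 : ¬ layer' A p i 0 ≤ C := fun h => by
    obtain ⟨x, hx, hxC⟩ := hi
    exact hxC (h ⟨hx, x ^ p ^ i, by show (x ^ p ^ i) ^ p ^ 0 = x ^ p ^ i; simp⟩)
  obtain ⟨j, hj, hj1⟩ : ∃ j, ¬ layer' A p i j ≤ C ∧ layer' A p i (j + 1) ≤ C := by
    have hpos : 0 < Nat.find hex2 := Nat.pos_of_ne_zero fun h => hj0 (h ▸ Nat.find_spec hex2)
    refine ⟨Nat.find hex2 - 1, Nat.find_min hex2 (by omega), ?_⟩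
    rw [show Nat.find hex2 - 1 + 1 = Nat.find hex2 by omega]
    exact Nat.find_spec hex2
  obtain ⟨x, hx, hxC⟩ := SetLike.not_le_iff_exists.1 hj
  refine ⟨x, hxC, ?_⟩
  have hle : layer' A p i j ≤ C ⊔ Subgroup.zpowers x := by
    intro y hy
    obtain ⟨hx1, x1, hx2⟩ := id hx
    obtain ⟨hy1, y1, hy2⟩ := id hy
    replace hx2 : x1 ^ p ^ j = x ^ p ^ i := hx2
    replace hy2 : y1 ^ p ^ j = y ^ p ^ i := hy2
    replace hx1 : x ^ p ^ (i + 1) = 1 := hx1
    replace hy1 : y ^ p ^ (i + 1) = 1 := hy1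
    have hnx : ∀ z : A, z ^ p ^ (j + 1) ≠ x1 ^ p ^ j := fun z hz => hxC (hj1 ⟨hx1, z, hz.trans hx2⟩)
    obtain ⟨k, z, hz⟩ := layer_step hA hns j (x1 := x1) (y1 := y1) (by rw [hx2, ← pow_mul, ← pow_succ, hx1])
      (by rw [hy2, ← pow_mul, ← pow_succ, hy1]) hnx
    have h1 : y * (x ^ k)⁻¹ ∈ C := hj1 ⟨by
      show (y * (x ^ k)⁻¹) ^ p ^ (i + 1) = 1
      rw [mul_pow, inv_pow, hy1, pow_right_comm, hx1, one_pow, inv_one, mul_one], z, by
      show z ^ p ^ (j + 1) = (y * (x ^ k)⁻¹) ^ p ^ i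
      rw [hz, hx2, hy2, mul_pow, inv_pow, ← pow_mul, ← pow_mul, mul_comm (p ^ i) k]⟩
    have := Subgroup.mul_mem_sup h1 (pow_mem (Subgroup.mem_zpowers x) k)
    rwa [inv_mul_cancel_right] at this
  have he : C ⊔ Subgroup.zpowers x = C ⊔ layer' A p i j :=
    le_antisymm (sup_le_sup_left (Subgroup.zpowers_le.2 hx) C) (sup_le le_sup_left hle)
  rw [he]
  haveI := layer'_characteristic (A := A) (p := p) i j
  refine Subgroup.characteristic_iff_map_eq.2 fun γ => ?_
  rw [Subgroup.map_sup, Subgroup.characteristic_iff_map_eq.1 inferInstance γ,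
    Subgroup.characteristic_iff_map_eq.1 inferInstance γ]

variable {Ω : Type u} [Group Ω] {S : Subgroup Ω} [Finite S]

/-- Characteristic chains with cyclic steps give strongly closed ones. -/
theorem exists_chain_of_no_square (hS : IsPGroup p S) (hab : IsMulCommutative ↥S) (hns : ¬ HasSquareFactor p S)
    (F : FusionSystem S) (hF : F.IsSaturated p) :
    ∃ (m : ℕ) (c : Fin (m + 1) → Subgroup Ω), c 0 = ⊥ ∧ c (Fin.last m) = S ∧
      (∀ i : Fin (m + 1), F.StronglyClosed (c i)) ∧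
      ∀ i : Fin m, c i.castSucc ≤ c i.succ ∧ ∃ x ∈ S, c i.succ = c i.castSucc ⊔ Subgroup.zpowers x := by
  letI : CommGroup S := { (inferInstance : Group S) with mul_comm := hab.is_comm.comm }
  have habS : ∀ x ∈ S, ∀ y ∈ S, x * y = y * x := fun x hx y hy =>
    congrArg Subtype.val (hab.is_comm.comm (⟨x, hx⟩ : S) ⟨y, hy⟩)
  have hsc : ∀ C : Subgroup S, C.Characteristic → F.StronglyClosed (C.map S.subtype) := by
    intro C hC
    refine stronglyClosed_iff.2 ⟨Subgroup.map_subtype_le C, fun P f hP hf x hx => ?_⟩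
    obtain ⟨α, -, hαf⟩ := abelian_extend hS hF habS hf
    obtain ⟨y, hy, rfl⟩ := hP hx
    rw [← hαf _ hx]
    refine ⟨α y, ?_, (av_coe α y).symm⟩
    rw [← Subgroup.characteristic_iff_map_eq.1 hC α]
    exact ⟨y, hy, rfl⟩
  suffices ∀ (k : ℕ) (C : Subgroup S), C.Characteristic → C.index = k →
      ∃ (m : ℕ) (c : Fin (m + 1) → Subgroup Ω), c 0 = C.map S.subtype ∧ c (Fin.last m) = S ∧
        (∀ i : Fin (m + 1), F.StronglyClosed (c i)) ∧
        ∀ i : Fin m, c i.castSucc ≤ c i.succ ∧ ∃ x ∈ S, c i.succ = c i.castSucc ⊔ Subgroup.zpowers x by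
    obtain ⟨m, c, h0, h⟩ := this _ ⊥ inferInstance rfl
    exact ⟨m, c, h0.trans (Subgroup.map_bot _), h⟩
  intro k
  induction k using Nat.strong_induction_on with
  | _ k ih =>
  intro C hC hk
  by_cases hCt : C = ⊤
  · subst hCt
    exact ⟨0, fun _ => S, by simp [← MonoidHom.range_eq_map], rfl, fun _ => by
      simpa [← MonoidHom.range_eq_map] using hsc ⊤ inferInstance, fun i => i.elim0⟩
  obtain ⟨x, hx, hchar⟩ := exists_char_step hS hns C hCt
  have hlt : (C ⊔ Subgroup.zpowers x).index < k := hk ▸ by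
    haveI : Finite (S ⧸ C) := Quotient.finite _
    exact Subgroup.index_strictAnti (lt_of_le_not_ge le_sup_left fun h =>
      hx (h (Subgroup.mem_sup_right (Subgroup.mem_zpowers x))))
  obtain ⟨m, c, h0, hl, hc1, hc2⟩ := ih _ hlt _ hchar rfl
  refine ⟨m + 1, Fin.cons (C.map S.subtype) c, rfl, ?_, ?_, ?_⟩
  · rw [← Fin.succ_last, Fin.cons_succ, hl]
  · intro i
    induction i using Fin.cases with
    | zero => exact hsc C hC
    | succ i => simp only [Fin.cons_succ]; exact hc1 i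
  · intro i
    induction i using Fin.cases with
    | zero =>
      simp only [Fin.castSucc_zero, Fin.cons_zero, Fin.cons_succ, h0, Subgroup.map_sup]
      exact ⟨le_sup_left, x, x.2, by rw [MonoidHom.map_zpowers]; rfl⟩
    | succ i =>
      rw [← Fin.succ_castSucc]
      simp only [Fin.cons_succ]
      exact hc2 i

theorem no_common_line {K : Type*} [Field K] (h2 : (2 : K) ≠ 0) {u v k l : K} (h1 : u = k * u) (h1' : -v = k * v)
    (h3 : v = l * u) (h3' : u = l * v) : u = 0 ∧ v = 0 := by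
  have hu : u = 0 := by
    by_contra hu
    have hk : k = 1 := (mul_left_eq_self₀.1 h1.symm).resolve_right hu
    rw [hk, one_mul] at h1'
    have hv : v = 0 := by
      have : (2 : K) * v = 0 := by linear_combination -h1'
      exact (mul_eq_zero.1 this).resolve_left h2
    exact hu (by rw [h3', hv, mul_zero])
  exact ⟨hu, by rw [h3, hu, mul_zero]⟩

theorem no_fixed_line_two : ∀ u v k : ZMod 2, v = k * u → u + v = k * v → u = 0 ∧ v = 0 := by decide

/-- A group of coprime order without an invariant line modulo `p`. -/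
theorem exists_no_line {n : ℕ} (hn : 0 < n) (red : ZMod (p ^ n) →+* ZMod p) :
    ∃ B : Subgroup (MulAut (Multiplicative (ZMod (p ^ n)) × Multiplicative (ZMod (p ^ n)))), ¬ p ∣ Nat.card B ∧
      ∀ u v : ZMod p, (∀ b ∈ B, ∀ x : Multiplicative (ZMod (p ^ n)) × Multiplicative (ZMod (p ^ n)), ∃ k : ZMod p,
        red (Multiplicative.toAdd x.1) = u ∧ red (Multiplicative.toAdd x.2) = v →
        red (Multiplicative.toAdd (b x).1) = k * u ∧ red (Multiplicative.toAdd (b x).2) = k * v) →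
      u = 0 ∧ v = 0 := by
  have hp' := hp.out
  let V := Multiplicative (ZMod (p ^ n)) × Multiplicative (ZMod (p ^ n))
  let a : MulAut V :=
    { toFun := fun v => (v.1, v.2⁻¹)
      invFun := fun v => (v.1, v.2⁻¹)
      left_inv := fun v => by simp
      right_inv := fun v => by simp
      map_mul' := fun v w => Prod.ext rfl (mul_inv v.2 w.2) }
  let σ : MulAut V :=
    { toFun := fun v => (v.2, v.1)
      invFun := fun v => (v.2, v.1)
      left_inv := fun v => rfl
      right_inv := fun v => rfl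
      map_mul' := fun v w => rfl }
  let τ : MulAut V :=
    { toFun := fun v => (v.2, v.1⁻¹ * v.2⁻¹)
      invFun := fun v => (v.1⁻¹ * v.2⁻¹, v.1)
      left_inv := fun v => by refine Prod.ext ?_ rfl; simp [mul_comm]
      right_inv := fun v => by refine Prod.ext rfl ?_; simp [mul_comm]
      map_mul' := fun v w => Prod.ext rfl (by
        show (v.1 * w.1)⁻¹ * (v.2 * w.2)⁻¹ = (v.1⁻¹ * v.2⁻¹) * (w.1⁻¹ * w.2⁻¹)
        rw [mul_inv, mul_inv, mul_mul_mul_comm]) }
  haveI : Finite (MulAut V) := Finite.of_injective (fun a : MulAut V => (a : V → V)) DFunLike.coe_injective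
  have hex : ∀ u v : ZMod p, ∃ x : V, red (Multiplicative.toAdd x.1) = u ∧ red (Multiplicative.toAdd x.2) = v :=
    fun u v => by
      obtain ⟨a, ha⟩ := (ZMod.ringHom_surjective red) u
      obtain ⟨b, hb⟩ := (ZMod.ringHom_surjective red) v
      exact ⟨(Multiplicative.ofAdd a, Multiplicative.ofAdd b), ha, hb⟩
  rcases eq_or_ne p 2 with rfl | hp2
  · have h3 : τ ^ 3 = 1 := MulEquiv.ext fun v => by
      show τ (τ (τ v)) = v
      simp [τ, mul_comm, mul_left_comm]
    refine ⟨Subgroup.zpowers τ, fun hd => ?_, fun u v h => ?_⟩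
    · rw [Nat.card_zpowers] at hd
      exact absurd (hd.trans (orderOf_dvd_of_pow_eq_one h3)) (by decide)
    · obtain ⟨x, hx⟩ := hex u v
      obtain ⟨k, hk⟩ := h τ (Subgroup.mem_zpowers τ) x
      obtain ⟨h1, h2⟩ := hk hx
      refine no_fixed_line_two u v k ?_ ?_
      · rw [← h1]; exact hx.2.symm
      · rw [← h2]
        show u + v = red (Multiplicative.toAdd (x.1⁻¹ * x.2⁻¹))
        rw [toAdd_mul, toAdd_inv, toAdd_inv, map_add, map_neg, map_neg, hx.1, hx.2, ZMod.neg_eq_self_mod_two,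
          ZMod.neg_eq_self_mod_two]
  · have ha2 : a ^ 2 = 1 := MulEquiv.ext fun v => by
      show a (a v) = v
      simp [a]
    have hσ2 : σ ^ 2 = 1 := MulEquiv.ext fun v => rfl
    have hr4 : (a * σ) ^ 4 = 1 := MulEquiv.ext fun v => by
      show a (σ (a (σ (a (σ (a (σ v))))))) = v
      simp [a, σ]
    have hσn : σ ∈ Subgroup.normalizer (Subgroup.zpowers (a * σ) : Set (MulAut V)) := by
      refine mem_normalizer_of_cj_le ?_
      rw [cj, MonoidHom.map_zpowers, Subgroup.zpowers_le]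
      have : σ * (a * σ) * σ⁻¹ = (a * σ)⁻¹ := by
        rw [mul_inv_rev, inv_eq_of_mul_eq_one_right (show a * a = 1 by rw [← sq, ha2])]
        simp only [mul_assoc, mul_inv_cancel, mul_one]
        rw [inv_eq_of_mul_eq_one_right (show σ * σ = 1 by rw [← sq, hσ2])]
      show σ * (a * σ) * σ⁻¹ ∈ Subgroup.zpowers (a * σ)
      rw [this]
      exact inv_mem (Subgroup.mem_zpowers _)
    haveI := Fact.mk Nat.prime_two
    have hpow : ∀ {g : MulAut V} (k : ℕ), g ^ 2 ^ k = 1 → IsPGroup 2 (Subgroup.zpowers g) := fun {g} k h => by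
      obtain ⟨j, -, hj⟩ := (Nat.dvd_prime_pow Nat.prime_two).1 (orderOf_dvd_of_pow_eq_one h)
      exact IsPGroup.of_card (n := j) (by rw [Nat.card_zpowers, hj])
    have h2 : IsPGroup 2 (Subgroup.zpowers (a * σ) ⊔ Subgroup.zpowers σ : Subgroup (MulAut V)) :=
      (hpow 2 hr4).to_sup_of_normal_left' (hpow 1 hσ2) (Subgroup.zpowers_le.2 hσn)
    refine ⟨Subgroup.zpowers (a * σ) ⊔ Subgroup.zpowers σ, fun hd => ?_, fun u v h => ?_⟩
    · obtain ⟨k, hk⟩ := IsPGroup.iff_card.1 h2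
      rw [hk] at hd
      exact hp2 ((Nat.prime_dvd_prime_iff_eq hp' Nat.prime_two).1 (hp'.dvd_of_dvd_pow hd))
    · obtain ⟨x, hx⟩ := hex u v
      have hσB : σ ∈ Subgroup.zpowers (a * σ) ⊔ Subgroup.zpowers σ :=
        Subgroup.mem_sup_right (Subgroup.mem_zpowers σ)
      obtain ⟨k, hk⟩ := h a (by
        have := mul_mem (Subgroup.mem_sup_left (Subgroup.mem_zpowers (a * σ)) :
          a * σ ∈ Subgroup.zpowers (a * σ) ⊔ Subgroup.zpowers σ) (inv_mem hσB)
        rwa [mul_inv_cancel_right] at this) x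
      obtain ⟨l, hl⟩ := h σ hσB x
      obtain ⟨h1, h1'⟩ := hk hx
      obtain ⟨h3, h3'⟩ := hl hx
      refine no_common_line ?_ (k := k) (l := l) ?_ ?_ ?_ ?_
      · intro h0
        exact hp2 ((Nat.prime_dvd_prime_iff_eq hp' Nat.prime_two).1
          ((ZMod.natCast_eq_zero_iff 2 p).1 (by exact_mod_cast h0)))
      · rw [← h1]; exact hx.1.symm
      · rw [← h1']
        show -v = red (-(Multiplicative.toAdd x.2))
        rw [map_neg, hx.2]
      · rw [← h3]; exact hx.2.symm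
      · rw [← h3']; exact hx.1.symm

set_option maxHeartbeats 1000000 in
/-- Over a square factor a group of coprime order leaves no chain. -/
theorem not_chain_of_square (hS : IsPGroup p S) (hsq : HasSquareFactor p S) :
    ∃ F : FusionSystem S, F.IsSaturated p ∧
      ¬ ∃ (m : ℕ) (c : Fin (m + 1) → Subgroup Ω), c 0 = ⊥ ∧ c (Fin.last m) = S ∧
        (∀ i : Fin (m + 1), F.StronglyClosed (c i)) ∧
        ∀ i : Fin m, c i.castSucc ≤ c i.succ ∧ ∃ x ∈ S, c i.succ = c i.castSucc ⊔ Subgroup.zpowers x := by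
  obtain ⟨n, H, _, hn, ⟨e⟩⟩ := hsq
  have hp' := hp.out
  obtain ⟨red, -⟩ : ∃ _ : ZMod (p ^ n) →+* ZMod p, True := ⟨ZMod.castHom (dvd_pow_self p hn.ne') (ZMod p), trivial⟩
  obtain ⟨ψ, hψ⟩ : ∃ ψ : S →* Multiplicative (ZMod p) × Multiplicative (ZMod p), ∀ s : S,
      Multiplicative.toAdd (ψ s).1 = red (Multiplicative.toAdd (e s).1.1) ∧
      Multiplicative.toAdd (ψ s).2 = red (Multiplicative.toAdd (e s).1.2) := by
    refine ⟨((AddMonoidHom.toMultiplicative red.toAddMonoidHom).prodMap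
      (AddMonoidHom.toMultiplicative red.toAddMonoidHom)).comp ((MonoidHom.fst _ H).comp e.toMonoidHom),
      fun s => ⟨rfl, rfl⟩⟩
  let V := Multiplicative (ZMod (p ^ n)) × Multiplicative (ZMod (p ^ n))
  obtain ⟨lift, hlift⟩ : ∃ lift : MulAut V →* MulAut S, ∀ (b : MulAut V) (s : S), (e (lift b s)).1 = b (e s).1 :=
    ⟨{ toFun := fun b => (e.trans (b.prodCongr (MulEquiv.refl H))).trans e.symm
       map_one' := MulEquiv.ext fun s => by
         apply e.injective; simp; rfl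
       map_mul' := fun b b' => MulEquiv.ext fun s => by
         apply e.injective; simp; rfl }, fun b s => by simp; rfl⟩
  obtain ⟨B, hB, hBl⟩ := exists_no_line hn red
  let B' := B.map lift
  have hB' : ¬ p ∣ Nat.card B' := fun hd => hB (hd.trans (Subgroup.card_map_dvd B lift))
  refine ⟨autSys (Inn ↥S ⊔ B') le_sup_left, autSys_saturated hS B' hB', ?_⟩
  rintro ⟨m, c, h0, hl, hsc, hstep⟩
  have hcS : ∀ i, c i ≤ S := fun i => (hsc i).1
  have key : ∀ (k : ℕ) (hk : k < m + 1), ∀ s : S, (s : Ω) ∈ c ⟨k, hk⟩ → ψ s = 1 := by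
    intro k
    induction k with
    | zero =>
      intro hk s hs
      rw [show (⟨0, hk⟩ : Fin (m + 1)) = 0 from rfl, h0, Subgroup.mem_bot] at hs
      rw [show s = 1 from Subtype.ext hs, map_one]
    | succ k ih =>
      intro hk s hs
      have hk' : k < m + 1 := by omega
      obtain ⟨-, x, hxS, hx'⟩ := hstep ⟨k, by omega⟩
      have hx : c ⟨k + 1, hk⟩ = c ⟨k, hk'⟩ ⊔ Subgroup.zpowers x := hx'
      have hle : (c ⟨k + 1, hk⟩).subgroupOf S ≤ ψ.ker ⊔ Subgroup.zpowers ⟨x, hxS⟩ := by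
        have : c ⟨k + 1, hk⟩ ≤ (ψ.ker ⊔ Subgroup.zpowers (⟨x, hxS⟩ : S)).map S.subtype := by
          rw [hx]
          refine sup_le (fun y hy => ?_) (Subgroup.zpowers_le.2 ?_)
          · have h1 : ψ ⟨y, hcS _ hy⟩ = 1 := ih hk' _ hy
            exact Subgroup.mem_map.2 ⟨⟨y, hcS _ hy⟩, Subgroup.mem_sup_left (MonoidHom.mem_ker.2 h1), rfl⟩
          · exact Subgroup.mem_map.2 ⟨⟨x, hxS⟩, Subgroup.mem_sup_right (Subgroup.mem_zpowers _), rfl⟩
        intro y hy
        exact (Subgroup.mem_map_iff_mem S.subtype_injective).1 (this hy)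
      have hline : ∀ y : S, (y : Ω) ∈ c ⟨k + 1, hk⟩ → ∃ i : ℤ, ψ y = ψ ⟨x, hxS⟩ ^ i := by
        intro y hy
        obtain ⟨u, hu, w, hw, rfl⟩ := Subgroup.mem_sup_of_normal_left.1 (hle hy)
        obtain ⟨i, rfl⟩ := Subgroup.mem_zpowers_iff.1 hw
        exact ⟨i, by rw [map_mul, MonoidHom.mem_ker.1 hu, one_mul, map_zpow]⟩
      have hxc : x ∈ c ⟨k + 1, hk⟩ := hx.ge (Subgroup.mem_sup_right (Subgroup.mem_zpowers x))
      have hψx : ψ ⟨x, hxS⟩ = 1 := by
        obtain ⟨z1, z2⟩ := hψ ⟨x, hxS⟩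
        have h := hBl (Multiplicative.toAdd (ψ ⟨x, hxS⟩).1) (Multiplicative.toAdd (ψ ⟨x, hxS⟩).2) fun b hb w => by
          have hbm : Map (autSys (Inn ↥S ⊔ B') le_sup_left) S (av (lift b)) :=
            map_autSys_iff.2 ⟨le_rfl, lift b, Subgroup.mem_sup_right ⟨b, hb, rfl⟩, fun _ _ => rfl⟩
          have h1 : ((lift b ⟨x, hxS⟩ : S) : Ω) ∈ c ⟨k + 1, hk⟩ := by
            rw [← av_coe]
            exact stronglyClosed_map (hsc _) hbm hxS hxc
          obtain ⟨i, hi⟩ := hline _ h1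
          refine ⟨(i : ZMod p), fun hw => ?_⟩
          obtain ⟨w1, w2⟩ := hψ (lift b ⟨x, hxS⟩)
          rw [hlift] at w1 w2
          rw [hi, Prod.pow_fst, toAdd_zpow, zsmul_eq_mul] at w1
          rw [hi, Prod.pow_snd, toAdd_zpow, zsmul_eq_mul] at w2
          have hbw : red (Multiplicative.toAdd (b w).1) = red (Multiplicative.toAdd (b (e ⟨x, hxS⟩).1).1) ∧
              red (Multiplicative.toAdd (b w).2) = red (Multiplicative.toAdd (b (e ⟨x, hxS⟩).1).2) := by
            obtain ⟨d, hd, hdw⟩ : ∃ d : V, (red (Multiplicative.toAdd d.1) = 0 ∧ red (Multiplicative.toAdd d.2) = 0) ∧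
                w = (e ⟨x, hxS⟩).1 * d := ⟨(e ⟨x, hxS⟩).1⁻¹ * w, ⟨by
                  show red (Multiplicative.toAdd ((e ⟨x, hxS⟩).1.1⁻¹ * w.1)) = 0
                  rw [toAdd_mul, toAdd_inv, map_add, map_neg, hw.1, z1, neg_add_cancel], by
                  show red (Multiplicative.toAdd ((e ⟨x, hxS⟩).1.2⁻¹ * w.2)) = 0
                  rw [toAdd_mul, toAdd_inv, map_add, map_neg, hw.2, z2, neg_add_cancel]⟩,
                (mul_inv_cancel_left _ _).symm⟩
            have hker : ∀ z : ZMod (p ^ n), red z = 0 → ∃ t, z = (p : ZMod (p ^ n)) * t := fun z hz => by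
              rw [← ZMod.natCast_zmod_val z, map_natCast, ZMod.natCast_eq_zero_iff] at hz
              obtain ⟨t, ht⟩ := hz
              exact ⟨t, by rw [← ZMod.natCast_zmod_val z, ht, Nat.cast_mul]⟩
            obtain ⟨t1, ht1⟩ := hker _ hd.1
            obtain ⟨t2, ht2⟩ := hker _ hd.2
            have hdp : d = ((Multiplicative.ofAdd t1, Multiplicative.ofAdd t2) : V) ^ p := Prod.ext
              (Multiplicative.toAdd.injective (by rw [Prod.pow_fst, toAdd_pow, nsmul_eq_mul]; exact ht1))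
              (Multiplicative.toAdd.injective (by rw [Prod.pow_snd, toAdd_pow, nsmul_eq_mul]; exact ht2))
            rw [hdw, map_mul, hdp, map_pow]
            constructor
            · rw [Prod.fst_mul, Prod.pow_fst, toAdd_mul, toAdd_pow, map_add, map_nsmul]
              simp
            · rw [Prod.snd_mul, Prod.pow_snd, toAdd_mul, toAdd_pow, map_add, map_nsmul]
              simp
          rw [hbw.1, hbw.2, ← w1, ← w2]
          exact ⟨rfl, rfl⟩
        exact Prod.ext (Multiplicative.toAdd.injective h.1) (Multiplicative.toAdd.injective h.2)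
      obtain ⟨i, hi⟩ := hline s hs
      rw [hi, hψx, one_zpow]
  have h := key m (lt_add_one m) (e.symm ((Multiplicative.ofAdd 1, 1), 1)) (by
    show ((e.symm ((Multiplicative.ofAdd 1, 1), 1) : S) : Ω) ∈ c (Fin.last m)
    rw [hl]; exact SetLike.coe_mem _)
  have h1 := (hψ (e.symm ((Multiplicative.ofAdd 1, 1), 1))).1
  rw [h, e.apply_symm_apply] at h1
  simp at h1

end Cfsg.Agent.Local.FS
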