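import Cfsg.Agent.Lib.Local.FS.Factor
import Cfsg.Agent.Lib.Local.FS.Constrained

/-!
If the factor system by a normal subgroup `T` is constrained then `T` is centric, unless a larger subgroup is normal.
-/

set_option autoImplicit false

namespace Cfsg.Agent.Local.FS

open Cfsg Cfsg.FusionSystem Cfsg.Agent.Fusion

variable {Ω : Type*} [Group Ω] {S : Subgroup Ω} {F : FusionSystem S} {T : Subgroup Ω}
  {Ω' : Type*} [Group Ω'] {S' : Subgroup Ω'} {θ : S →* Ω'} {E : FusionSystem S'} {R' : Subgroup Ω'}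
  {p : ℕ} [Fact p.Prime] [Finite S]

/-- The preimage of a strongly closed subgroup is strongly closed. -/
theorem fac_stronglyClosed_pre (hS : IsPGroup p S) (hF : F.IsSaturated p) (hT : F.StronglyClosed T)
    (hE : F.IsFactorSystem T θ E) (hR : E.StronglyClosed R') : F.StronglyClosed (preimageAlong θ R') := by
  refine stronglyClosed_iff.2 ⟨preimage_le R', fun P f hP hf x hx => ?_⟩
  obtain ⟨g, hg, h⟩ := quotMap_all hS hF hT P f hf
  have hPT : P ⊔ T ≤ preimageAlong θ R' := sup_le hP (fac_le_pre hE)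
  have he : preimageAlong θ (imageAlong θ P) = P ⊔ T := fac_pre_up hE hf.le
  have hg' : Map E (imageAlong θ P) _ := fac_induced hE hT (fac_up_le hE) (he ▸ hg)
  have hupR : imageAlong θ P ≤ R' := (fac_pre_le_iff hE (fac_up_le hE)).1 (he ▸ hPT)
  have hux : ue θ x ∈ imageAlong θ P := ue_mem_up hf.le hx
  have h1 := (stronglyClosed_iff.1 hR).2 _ _ hupR hg' _ hux
  rw [fac_congr hE hT hg le_sup_right (by
      rw [← he]; exact fac_mem_pre.2 ⟨ve_mem, (fac_ue_ve hE (fac_ue_mem hE (hf.le hx))).symm ▸ hux⟩)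
    (Subgroup.mem_sup_left hx) (fac_ue_ve hE (fac_ue_mem hE (hf.le hx)))] at h1
  refine fac_mem_pre.2 ⟨hf.mem hx, ?_⟩
  have h2 := (fac_ue_eq_one hE (hE.1 (h x hx))).2 (h x hx)
  rw [ue_mul (S.inv_mem (hf.mem hx)) (hg.mem (Subgroup.mem_sup_left hx)), ue_inv (hf.mem hx), inv_mul_eq_one] at h2
  rw [h2]; exact h1

/-- The intersection of a normal subgroup with a strongly closed one is normal, if the latter is inside. -/
theorem normal_inf_stronglyClosed {C : Subgroup Ω} (hR : F.IsNormal T) (hC : F.StronglyClosed C) :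
    F.IsNormal (T ⊓ C) := by
  refine normal_iff.2 ⟨inf_le_left.trans hR.1, fun P f hf => ?_⟩
  obtain ⟨g, hg, hgf, hgT⟩ := (normal_iff.1 hR).2 P f hf
  refine ⟨g, hg.restrict (sup_le_sup_left inf_le_left P), hgf, ?_⟩
  haveI := finite_of_le ((inf_le_left : T ⊓ C ≤ T).trans hR.1)
  refine Subgroup.eq_of_le_of_card_ge (im_le_iff.2 fun x hx => ⟨hgT.le (mem_im_of_mem hx.1), ?_⟩)
    (hg.restrict (inf_le_left.trans le_sup_right)).card_im.ge
  exact stronglyClosed_map hC hg (Subgroup.mem_sup_right hx.1) hx.2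

/-- If a normal subgroup `R₀'` of the factor system lies in the image of `T C_S(T)`, its preimage is normal. -/
theorem fac_normal_pre (hS : IsPGroup p S) (hF : F.IsSaturated p) (hTn : F.IsNormal T)
    (hE : F.IsFactorSystem T θ E) (hR : E.IsNormal R')
    (hRC : preimageAlong θ R' ≤ T ⊔ centralizerIn S T) : F.IsNormal (preimageAlong θ R') := by
  have hT := normal_stronglyClosed hTn
  haveI := fac_finite hE
  have hR'S := hR.1
  have hR0sc := fac_stronglyClosed_pre hS hF hT hE (normal_stronglyClosed hR)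
  refine normal_of_centric_radical hS hF hR0sc fun P hC hrad => ?_
  have hTP : T ≤ P := normal_le_centric_radical hS hTn hC hrad
  refine le_of_inf_normalizer_le hS hR0sc.1 (stronglyClosed_le_normalizer hR0sc) hC.1 fun a ha => ?_
  haveI := finite_of_le hC.1
  haveI := mulAut_finite_of_le hC.1
  let Good : MulAut P → Prop := fun β => ∃ b ∈ preimageAlong θ R' ⊓ Subgroup.normalizer (P : Set Ω),
    (∀ x ∈ P, ue θ (av β x) = ue θ b * ue θ x * (ue θ b)⁻¹) ∧ ∃ d ∈ T, ∀ t ∈ T, av β t = d * t * d⁻¹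
  let A : Subgroup ↥(F.autGroup P) :=
    { carrier := {β | Good β}
      one_mem' := ⟨1, Subgroup.one_mem _, fun x hx => by
        rw [OneMemClass.coe_one, av_one hx, ue_apply (i := θ) S.one_mem]
        simp [show (⟨(1 : Ω), S.one_mem⟩ : S) = 1 from rfl], 1, T.one_mem, fun t ht => by
        rw [OneMemClass.coe_one, av_one (hTP ht)]; simp⟩
      mul_mem' := by
        rintro β γ ⟨b, hb, hb1, d, hd, hd1⟩ ⟨c, hc, hc1, e, he, he1⟩
        refine ⟨b * c, Subgroup.mul_mem _ hb hc, fun x hx => ?_, d * e, T.mul_mem hd he, fun t ht => ?_⟩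
        · rw [Subgroup.coe_mul, av_mul _ _ hx, hb1 _ (av_mem _ hx), hc1 x hx,
            ue_mul (hR0sc.1 hb.1) (hR0sc.1 hc.1)]
          group
        · rw [Subgroup.coe_mul, av_mul _ _ (hTP ht), he1 t ht, hd1 _ (T.mul_mem (T.mul_mem he ht) (T.inv_mem he))]
          group
      inv_mem' := by
        rintro β ⟨b, hb, hb1, d, hd, hd1⟩
        refine ⟨b⁻¹, Subgroup.inv_mem _ hb, fun x hx => ?_, d⁻¹, T.inv_mem hd, fun t ht => ?_⟩
        · have h := hb1 _ (av_mem (β : MulAut P)⁻¹ hx)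
          rw [av_av_inv _ hx] at h
          rw [InvMemClass.coe_inv, ue_inv (hR0sc.1 hb.1), h]; group
        · have hy : d⁻¹ * t * d ∈ T := T.mul_mem (T.mul_mem (T.inv_mem hd) ht) hd
          have h := hd1 _ hy
          rw [show d * (d⁻¹ * t * d) * d⁻¹ = t by group] at h
          rw [InvMemClass.coe_inv, inv_inv]
          conv_lhs => rw [← h]
          rw [av_inv_av _ (hTP hy)] }
  have hAn : A.Normal := by
    refine ⟨fun β hβ γ => ?_⟩
    obtain ⟨b, hb, hb1, d, hd, hd1⟩ := hβ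
    have hγ := map_of_mem_autGroup hC.1 γ.2
    have hpre : preimageAlong θ (imageAlong θ P) = P := by rw [fac_pre_up hE hC.1, sup_eq_left.2 hTP]
    have hγ' : Map E (imageAlong θ P) _ := fac_induced hE hT (fac_up_le hE)
      (show Map F (preimageAlong θ (imageAlong θ P)) (av (γ : MulAut P)) by rw [hpre]; exact hγ)
    obtain ⟨g', hg', hg'γ, hg'R⟩ := (normal_iff.1 hR).2 _ _ hγ'
    have hub : ue θ b ∈ R' := (fac_mem_pre.1 hb.1).2
    have hb' : g' (ue θ b) ∈ R' := hg'R.le (mem_im_of_mem hub)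
    obtain ⟨b₁, hb₁, hb₁e⟩ := fac_exists_pre hE hR'S hb'
    have hval : ∀ x ∈ P, g' (ue θ x) = ue θ (av (γ : MulAut P) x) := fun x hx => by
      rw [hg'γ _ (ue_mem_up hC.1 hx)]
      refine fac_congr hE hT hγ hTP ?_ hx (fac_ue_ve hE (fac_ue_mem hE (hC.1 hx)))
      rw [← hpre]
      exact fac_mem_pre.2 ⟨ve_mem, (fac_ue_ve hE (fac_ue_mem hE (hC.1 hx))).symm ▸ ue_mem_up hC.1 hx⟩
    have hbS := hR0sc.1 hb.1
    have hb₁S := hR0sc.1 hb₁
    have hmemx : ∀ {y}, y ∈ P → ue θ y ∈ imageAlong θ P ⊔ R' := fun hy => Subgroup.mem_sup_left (ue_mem_up hC.1 hy)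
    have hmain : ∀ x ∈ P, ue θ (av ((γ * β * γ⁻¹ : ↥(F.autGroup P)) : MulAut P) x) =
        ue θ b₁ * ue θ x * (ue θ b₁)⁻¹ := by
      intro x hx
      have hy : av (γ : MulAut P)⁻¹ x ∈ P := av_mem _ hx
      rw [Subgroup.coe_mul, Subgroup.coe_mul, InvMemClass.coe_inv, av_mul _ _ hx, av_mul _ _ hy,
        ← hval _ (av_mem _ hy), hb1 _ hy, hg'.map_conj (Subgroup.mem_sup_right hub) (hmemx hy), hval _ hy,
        av_av_inv _ hx, hb₁e]
    refine ⟨b₁, ⟨hb₁, ?_⟩, hmain, av (γ : MulAut P) d, stronglyClosed_map hT hγ (hTP hd) hd, fun t ht => ?_⟩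
    · refine mem_normalizer_of_conj_mem hC.1 fun x hx => ?_
      rw [← hpre]
      refine fac_mem_pre.2 ⟨S.mul_mem (S.mul_mem hb₁S (hC.1 hx)) (S.inv_mem hb₁S), ?_⟩
      rw [ue_conj hb₁S (hC.1 hx), ← hmain x hx]
      exact ue_mem_up hC.1 (av_mem _ hx)
    · have hy : av (γ : MulAut P)⁻¹ t ∈ T :=
        stronglyClosed_map hT (map_of_mem_autGroup hC.1 (Subgroup.inv_mem _ γ.2)) (hTP ht) ht
      rw [Subgroup.coe_mul, Subgroup.coe_mul, InvMemClass.coe_inv, av_mul _ _ (hTP ht), av_mul _ _ (hTP hy),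
        hd1 _ hy, hγ.map_conj (hTP hd) (hTP hy), av_av_inv _ (hTP ht)]
  have hAp : IsPGroup p A := by
    rintro ⟨β, b, hb, hb1, d, hd, hd1⟩
    obtain ⟨kb, hkb⟩ := hS ⟨b, hR0sc.1 hb.1⟩
    obtain ⟨kd, hkd⟩ := hS ⟨d, hT.1 hd⟩
    have hb' : b ^ p ^ kb = 1 := congrArg Subtype.val hkb
    have hd' : d ^ p ^ kd = 1 := congrArg Subtype.val hkd
    have hub : (ue θ b) ^ p ^ kb = 1 := by
      rw [ue_apply (i := θ) (hR0sc.1 hb.1), ← map_pow, hkb, map_one]
    have hpow : ∀ n : ℕ, (∀ x ∈ P, ue θ (av ((β : MulAut P) ^ n) x) = ue θ b ^ n * ue θ x * (ue θ b ^ n)⁻¹) ∧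
        (∀ t ∈ T, av ((β : MulAut P) ^ n) t = d ^ n * t * (d ^ n)⁻¹) := by
      intro n
      induction n with
      | zero => exact ⟨fun x hx => by simp [av_one hx], fun t ht => by simp [av_one (hTP ht)]⟩
      | succ n ih =>
        refine ⟨fun x hx => ?_, fun t ht => ?_⟩
        · rw [pow_succ, av_mul _ _ hx, ih.1 _ (av_mem _ hx), hb1 x hx, pow_succ]; group
        · rw [pow_succ, av_mul _ _ (hTP ht), hd1 t ht,
            ih.2 _ (T.mul_mem (T.mul_mem hd ht) (T.inv_mem hd)), pow_succ]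
          group
    have h1 := hpow (p ^ (kb + kd))
    rw [show ue θ b ^ p ^ (kb + kd) = 1 by rw [pow_add, pow_mul, hub, one_pow],
      show d ^ p ^ (kb + kd) = 1 by rw [pow_add, mul_comm, pow_mul, hd', one_pow]] at h1
    simp only [one_mul, inv_one, mul_one] at h1
    obtain ⟨k, hk⟩ := exists_pow_eq_one_of_stabilizes (hS.to_le hC.1)
      (α := (β : MulAut P) ^ p ^ (kb + kd)) (fun i => if i = 0 then ⊥ else if i = 1 then T else ⊤) 2
      (if_pos rfl) (by simp) (by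
        refine monotone_nat_of_le_succ fun i => ?_
        match i with
        | 0 => simp
        | 1 => simp
        | (n + 2) => simp)
      (by
        intro i hi x hx hxC
        match i, hi with
        | 0, _ =>
          simp at hxC ⊢
          rw [h1.2 x hxC, inv_mul_cancel]
        | 1, _ =>
          simp
          have hxS := hC.1 hx
          have hyS := hC.1 (av_mem ((β : MulAut P) ^ p ^ (kb + kd)) hx)
          refine (fac_ue_eq_one hE (S.mul_mem (S.inv_mem hxS) hyS)).1 ?_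
          rw [ue_mul (S.inv_mem hxS) hyS, ue_inv hxS, h1.1 x hx, inv_mul_cancel])
    refine ⟨kb + kd + k, Subtype.ext (Subtype.ext ?_)⟩
    show (β : MulAut P) ^ p ^ (kb + kd + k) = 1
    rw [pow_add, pow_mul]; exact hk
  obtain ⟨haR, han⟩ := ha
  obtain ⟨t₀, ht₀, c, hc, hac⟩ := mem_sup_of_normalized (centralizerIn_le_normalizer_of_sc hT) hT.1 (hRC haR)
  have haS := hR0sc.1 haR
  obtain ⟨β, hβ, hβS⟩ := exists_aut_conj han
  have hβF : β ∈ F.autGroup P := autInducedBy_le_autGroup hC.1 (hβS S haS)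
  have hβA : (⟨β, hβF⟩ : ↥(F.autGroup P)) ∈ A := by
    refine ⟨a, ⟨haR, han⟩, fun x hx => ?_, t₀, ht₀, fun t ht => ?_⟩
    · show ue θ (av β x) = _
      rw [hβ x hx, ue_conj haS (hC.1 hx)]
    · show av β t = _
      rw [hβ t (hTP ht), ← hac]
      calc t₀ * c * t * (t₀ * c)⁻¹ = t₀ * (c * t) * c⁻¹ * t₀⁻¹ := by group
        _ = t₀ * (t * c) * c⁻¹ * t₀⁻¹ := by rw [(mem_centralizerIn.1 hc).2 t ht]
        _ = t₀ * t * t₀⁻¹ := by group
  haveI := hAn
  have hinn : β ∈ Inn P := hrad.2 ▸ ⟨⟨β, hβF⟩, le_pCore hAp hβA, rfl⟩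
  obtain ⟨y, hy, hyβ⟩ := mem_Inn.1 hinn
  have hc' : y⁻¹ * a ∈ P := by
    refine centric_inv_mem hC (S.mul_mem (S.inv_mem (hC.1 hy)) haS) fun x hx => ?_
    have h1 := (hβ x hx).symm.trans (hyβ x hx)
    calc x * (y⁻¹ * a) = y⁻¹ * (y * x * y⁻¹) * a := by group
      _ = y⁻¹ * (a * x * a⁻¹) * a := by rw [h1]
      _ = _ := by group
  simpa using P.mul_mem hy hc'

/-- A maximal normal subgroup with constrained factor system is centric. -/
theorem centric_of_constrained_quotient (hS : IsPGroup p S) (hF : F.IsSaturated p) (hTn : F.IsNormal T)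
    (hmax : ∀ R : Subgroup Ω, F.IsNormal R → R ≤ T)
    (hE : F.IsFactorSystem T θ E) (hcon : E.IsConstrained p) : F.IsCentric T := by
  have hT := normal_stronglyClosed hTn
  haveI := fac_finite hE
  refine ⟨hT.1, fun T₁ hT₁ => ?_⟩
  rw [eq_of_isConj_stronglyClosed hT hT₁]
  obtain ⟨-, R', hR'n, hR'c⟩ := hcon
  set C := T ⊔ centralizerIn S T
  have hCsc : F.StronglyClosed C := stronglyClosed_sup_centralizer hS hF hT
  have hpreC : preimageAlong θ (imageAlong θ C) = C := by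
    rw [fac_pre_up hE hCsc.1, sup_eq_left.2 le_sup_left]
  have hC'sc : E.StronglyClosed (imageAlong θ C) := by
    refine stronglyClosed_iff.2 ⟨fac_up_le hE, fun P' f' hP' hf' a ha => ?_⟩
    obtain ⟨-, f, hf, hff⟩ := fac_lift hE hT hf'
    obtain ⟨x, hx, rfl⟩ := fac_exists_pre hE hf'.le ha
    rw [← hff x hx]
    have hxC : x ∈ C := hpreC.le ((fac_pre_le_iff hE hf'.le).2 hP' hx)
    exact ue_mem_up hCsc.1 (stronglyClosed_map hCsc hf hx hxC)
  have hR0 : preimageAlong θ (R' ⊓ imageAlong θ C) ≤ C := fun x hx => hpreC.le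
    (fac_mem_pre.2 ⟨(fac_mem_pre.1 hx).1, (fac_mem_pre.1 hx).2.2⟩)
  have hle := hmax _ (fac_normal_pre hS hF hTn hE (normal_inf_stronglyClosed hR'n hC'sc) hR0)
  have hbot : R' ⊓ imageAlong θ C ≤ ⊥ := by
    intro a ha
    obtain ⟨x, hx, rfl⟩ := fac_exists_pre hE (inf_le_left.trans hR'n.1) ha
    exact Subgroup.mem_bot.2 ((fac_ue_eq_one hE (fac_mem_pre.1 hx).1).2 (hle hx))
  intro c hc
  have hcS := (mem_centralizerIn.1 hc).1
  have hR'sc := normal_stronglyClosed hR'n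
  have hcR : ue θ c ∈ R' := by
    refine centric_inv_mem hR'c (fac_ue_mem hE hcS) fun r hr => ?_
    have hr' := hR'n.1 hr
    have hu : ue θ c ∈ imageAlong θ C := ue_mem_up hCsc.1 (Subgroup.mem_sup_right hc)
    have h1 : ue θ c * r * (ue θ c)⁻¹ ∈ R' := stronglyClosed_conj_mem hR'sc (fac_ue_mem hE hcS) hr
    have h2 : r * (ue θ c)⁻¹ * r⁻¹ ∈ imageAlong θ C :=
      stronglyClosed_conj_mem hC'sc hr' ((imageAlong θ C).inv_mem hu)
    have hw : ue θ c * r * (ue θ c)⁻¹ * r⁻¹ = 1 := Subgroup.mem_bot.1 (hbot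
      ⟨R'.mul_mem h1 (R'.inv_mem hr), by
        rw [show ue θ c * r * (ue θ c)⁻¹ * r⁻¹ = ue θ c * (r * (ue θ c)⁻¹ * r⁻¹) by group]
        exact (imageAlong θ C).mul_mem hu h2⟩)
    calc r * ue θ c = ue θ c * r * (ue θ c)⁻¹ * r⁻¹ * (r * ue θ c) := by rw [hw, one_mul]
      _ = ue θ c * r := by group
  exact (fac_ue_eq_one hE hcS).1 (Subgroup.mem_bot.1
    (hbot ⟨hcR, ue_mem_up hCsc.1 (Subgroup.mem_sup_right hc)⟩))

end Cfsg.Agent.Local.FS
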