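import Cfsg.Agent.Lib.Local.FS.AltWreath

/-!
Translations of squares of blocks inside a wreath Sylow subgroup, and the action of `SL₂` on them.
-/

set_option autoImplicit false
set_option linter.unusedSectionVars false

namespace Cfsg.Agent.Local.FS.AltSimple

open Equiv

variable {p : ℕ} [Fact p.Prime] [NeZero p] {ξ ζ ι ρ α : Type*} [Fintype ξ] [DecidableEq ξ] [Fintype ζ]
  [DecidableEq ζ] [Fintype ι] [DecidableEq ι] [Fintype ρ]
  [DecidableEq ρ] [Fintype α] [DecidableEq α] (e : (ι × ZMod p) ⊕ ρ ≃ α) (e2 : (ξ × ZMod p) ⊕ ζ ≃ ι)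

/-- A point in a square of blocks. -/
def sq (o : ξ) (z : ZMod p × ZMod p) : α := pt e (e2 (.inl (o, z.1)), z.2)

theorem sq_inj {o o' : ξ} {z z' : ZMod p × ZMod p} (h : sq e e2 o z = sq e e2 o' z') : o = o' ∧ z = z' := by
  obtain ⟨h1, h2⟩ := Prod.ext_iff.1 (pt_inj e h)
  obtain ⟨h3, h4⟩ := Prod.ext_iff.1 (Sum.inl_injective (e2.injective h1))
  exact ⟨h3, Prod.ext h4 h2⟩

/-- Every point is in a square, in a left-over block or left over. -/
theorem point_cases (c : α) : (∃ o z, c = sq e e2 o z) ∨ (∃ f y, c = pt e (e2 (.inr f), y)) ∨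
    ∃ d, c = e (.inr d) := by
  obtain ⟨x, rfl⟩ := e.surjective c
  rcases x with ⟨i, y⟩ | d
  · obtain ⟨j, rfl⟩ := e2.surjective i
    rcases j with ⟨o, x⟩ | f
    exacts [Or.inl ⟨o, (x, y), rfl⟩, Or.inr (Or.inl ⟨f, y, rfl⟩)]
  · exact Or.inr (Or.inr ⟨d, rfl⟩)

theorem ext_sq {f g : Perm α} (h1 : ∀ o z, f (sq e e2 o z) = g (sq e e2 o z))
    (h2 : ∀ c y, f (pt e (e2 (.inr c), y)) = g (pt e (e2 (.inr c), y)))
    (h3 : ∀ d, f (e (.inr d)) = g (e (.inr d))) : f = g := by
  refine Equiv.ext fun a => ?_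
  rcases point_cases e e2 a with ⟨o, z, rfl⟩ | ⟨c, y, rfl⟩ | ⟨d, rfl⟩
  exacts [h1 o z, h2 c y, h3 d]

/-- Separate permutations of the squares. -/
def psiFun (t : ξ → Perm (ZMod p × ZMod p)) : Perm α :=
  ff e (((Equiv.prodCongr e2.symm (Equiv.refl (ZMod p))).trans ((Equiv.sumProdDistrib _ _ _).trans
    (Equiv.sumCongr (Equiv.prodAssoc _ _ _) (Equiv.refl _)))).symm.permCongr
      (Equiv.sumCongr (Equiv.prodCongrRight t) (Equiv.refl _)))

theorem psiFun_sq (t : ξ → Perm (ZMod p × ZMod p)) (o : ξ) (z : ZMod p × ZMod p) :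
    psiFun e e2 t (sq e e2 o z) = sq e e2 o (t o z) := by
  simp [psiFun, sq, ff_pt, Equiv.permCongr_apply]

theorem psiFun_left (t : ξ → Perm (ZMod p × ZMod p)) (c : ζ) (y : ZMod p) :
    psiFun e e2 t (pt e (e2 (.inr c), y)) = pt e (e2 (.inr c), y) := by
  simp [psiFun, ff_pt, Equiv.permCongr_apply]

theorem psiFun_inr (t : ξ → Perm (ZMod p × ZMod p)) (d : ρ) : psiFun e e2 t (e (.inr d)) = e (.inr d) :=
  ff_inr e _ d

/-- Separate permutations of the squares, as a homomorphism. -/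
def psi : (ξ → Perm (ZMod p × ZMod p)) →* Perm α where
  toFun := psiFun e e2
  map_one' := ext_sq e e2 (fun o z => by simp [psiFun_sq]) (fun c y => by simp [psiFun_left])
    fun d => by simp [psiFun_inr]
  map_mul' t t' := ext_sq e e2 (fun o z => by simp [psiFun_sq, Perm.mul_apply])
    (fun c y => by simp [psiFun_left, Perm.mul_apply]) fun d => by simp [psiFun_inr, Perm.mul_apply]

variable (O : Finset ξ)

/-- The same permutation of each square in `O`. -/
def phi : Perm (ZMod p × ZMod p) →* Perm α :=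
  (psi e e2).comp
    { toFun := fun M o => if o ∈ O then M else 1
      map_one' := by funext o; simp
      map_mul' := fun M N => by funext o; by_cases h : o ∈ O <;> simp [h] }

theorem phi_mem (M : Perm (ZMod p × ZMod p)) {o : ξ} (h : o ∈ O) (z : ZMod p × ZMod p) :
    phi e e2 O M (sq e e2 o z) = sq e e2 o (M z) := by
  show psiFun e e2 _ _ = _
  rw [psiFun_sq]
  simp [h]

theorem phi_not_mem (M : Perm (ZMod p × ZMod p)) {o : ξ} (h : o ∉ O) (z : ZMod p × ZMod p) :
    phi e e2 O M (sq e e2 o z) = sq e e2 o z := by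
  show psiFun e e2 _ _ = _
  rw [psiFun_sq]
  simp [h]

theorem phi_left (M : Perm (ZMod p × ZMod p)) (c : ζ) (y : ZMod p) :
    phi e e2 O M (pt e (e2 (.inr c), y)) = pt e (e2 (.inr c), y) := psiFun_left e e2 _ c y

theorem phi_inr (M : Perm (ZMod p × ZMod p)) (d : ρ) : phi e e2 O M (e (.inr d)) = e (.inr d) :=
  psiFun_inr e e2 _ d

theorem const_inv {u : ξ → ZMod p} (hu : ∀ o, o ∉ O → u o = 0) {v : ι → ZMod p}
    (hv : ∀ o ∈ O, ∀ x, v (e2 (.inl (o, x))) = v (e2 (.inl (o, 0)))) (i : ι) : v (vec e2 u i) = v i := by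
  obtain ⟨j, rfl⟩ := e2.surjective i
  rcases j with ⟨o, x⟩ | f
  · rw [show e2 (.inl (o, x)) = pt e2 (o, x) from rfl, vec, mono_pt]
    by_cases ho : o ∈ O
    · exact (hv o ho _).trans (hv o ho x).symm
    · simp [hu o ho, pt]
  · rw [vec, mono_inr]

/-- Translations of the squares in `O` and of the other blocks. -/
def Rsq : Subgroup (Perm α) where
  carrier := {g | ∃ u : ξ → ZMod p, (∀ o, o ∉ O → u o = 0) ∧ ∃ v : ι → ZMod p,
    (∀ o ∈ O, ∀ x, v (e2 (.inl (o, x))) = v (e2 (.inl (o, 0)))) ∧ g = mono e (vec e2 u) 1 v}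
  one_mem' := ⟨0, fun _ _ => rfl, 0, fun _ _ _ => rfl, by rw [vec_zero, mono_one]⟩
  mul_mem' := by
    rintro _ _ ⟨u, hu, v, hv, rfl⟩ ⟨u', hu', v', hv', rfl⟩
    refine ⟨u + u', fun o ho => by simp [hu o ho, hu' o ho], v' + v,
      fun o ho x => by simp [hv o ho x, hv' o ho x], ?_⟩
    rw [mono_mul, vec_add]
    congr 1
    · funext i; simp
    · funext i; simp [const_inv e2 O hu' hv i]
  inv_mem' := by
    rintro _ ⟨u, hu, v, hv, rfl⟩
    refine ⟨-u, fun o ho => by simp [hu o ho], -v, fun o ho x => by simp [hv o ho x],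
      inv_eq_of_mul_eq_one_right ?_⟩
    rw [mono_mul, vec_add, ← mono_one e, add_neg_cancel, vec_zero]
    congr 1
    · funext i; simp
    · funext i; simp [const_inv e2 O (u := -u) (fun o ho => by simp [hu o ho]) hv i]

theorem Rsq_le_W {P : Subgroup (Perm ι)} (hP : ∀ u, vec e2 u ∈ P) : Rsq e e2 O ≤ W e P := by
  rintro _ ⟨u, -, v, -, rfl⟩
  exact ⟨_, hP u, v, rfl⟩

theorem phi_norm (M : Perm (ZMod p × ZMod p)) (hM : ∀ a b, M (a + b) = M a + M b) {r : Perm α}
    (hr : r ∈ Rsq e e2 O) : phi e e2 O M * r * (phi e e2 O M)⁻¹ ∈ Rsq e e2 O := by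
  obtain ⟨u, hu, v, hv, rfl⟩ := hr
  let w : ξ → ZMod p × ZMod p := fun o => M (u o, v (e2 (.inl (o, 0))))
  let v' : ι → ZMod p := fun i => Sum.elim (fun x : ξ × ZMod p => if x.1 ∈ O then (w x.1).2 else v i)
    (fun _ => v i) (e2.symm i)
  refine ⟨fun o => if o ∈ O then (w o).1 else 0, fun o ho => if_neg ho, v',
    fun o ho x => by simp [v', ho], ?_⟩
  rw [mul_inv_eq_iff_eq_mul]
  refine ext_sq e e2 (fun o z => ?_) (fun c y => ?_) fun d => ?_
  · obtain ⟨x, y⟩ := z
    have e1 : ∀ (u : ξ → ZMod p) (v : ι → ZMod p) (z : ZMod p × ZMod p),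
        mono e (vec e2 u) 1 v (sq e e2 o z) = sq e e2 o (z + (u o, v (e2 (.inl (o, z.1))))) := by
      intro u v z
      rw [sq, sq, mono_pt, show e2 (.inl (o, z.1)) = pt e2 (o, z.1) from rfl, vec, mono_pt]
      simp [pt]
    by_cases ho : o ∈ O
    · simp only [Perm.mul_apply, phi_mem e e2 O M ho, e1]
      congr 1
      rw [hv o ho x, hM]
      simp [v', ho, w]
    · simp only [Perm.mul_apply, phi_not_mem e e2 O M ho, e1]
      congr 1
      simp [v', ho, hu o ho]
  · have e2' : ∀ (u : ξ → ZMod p) (v : ι → ZMod p),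
        mono e (vec e2 u) 1 v (pt e (e2 (.inr c), y)) = pt e (e2 (.inr c), y + v (e2 (.inr c))) := by
      intro u v
      rw [mono_pt, vec, mono_inr]
      simp
    simp only [Perm.mul_apply, phi_left, e2']
    simp [v']
  · simp [phi_inr, mono_inr]

theorem mem_Rsq_of_commute [Subsingleton ρ] {g : Perm α} (hg : ∀ r ∈ Rsq e e2 O, r * g = g * r) :
    g ∈ Rsq e e2 O := by
  classical
  have hsq : ∀ o ∈ O, ∃ t, ∀ z, g (sq e e2 o z) = sq e e2 o (z + t) := by
    intro o ho
    let r : ZMod p × ZMod p → Perm α := fun a => mono e (vec e2 (Pi.single o a.1)) 1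
      (fun i => Sum.elim (fun x : ξ × ZMod p => if x.1 = o then a.2 else 0) (fun _ => 0) (e2.symm i))
    have hr : ∀ a, r a ∈ Rsq e e2 O := by
      intro a
      refine ⟨Pi.single o a.1, fun o' ho' => Pi.single_eq_of_ne (by rintro rfl; exact ho' ho) _,
        fun i => Sum.elim (fun x : ξ × ZMod p => if x.1 = o then a.2 else 0) (fun _ => 0) (e2.symm i),
        fun o' _ x => ?_, rfl⟩
      simp only [Equiv.symm_apply_apply, Sum.elim_inl]
    have hro : ∀ a o' z, r a (sq e e2 o' z) = sq e e2 o' (if o' = o then z + a else z) := by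
      intro a o' z
      simp only [r]
      rw [sq, sq, mono_pt, show e2 (.inl (o', z.1)) = pt e2 (o', z.1) from rfl, vec, mono_pt]
      rcases eq_or_ne o' o with rfl | h
      · simp [pt]
      · simp [pt, h]
    have hcomm : ∀ a, r a (g (sq e e2 o 0)) = g (sq e e2 o a) := by
      intro a
      have := congrArg (fun f : Perm α => f (sq e e2 o 0)) (hg _ (hr a))
      simpa [Perm.mul_apply, hro] using this
    have hne : r (1, 0) (g (sq e e2 o 0)) ≠ g (sq e e2 o 0) := by
      rw [hcomm]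
      intro h
      simpa using congrArg Prod.fst (sq_inj e e2 (g.injective h)).2
    rcases point_cases e e2 (g (sq e e2 o 0)) with ⟨o', z, hz⟩ | ⟨f, y, hz⟩ | ⟨d, hz⟩
    · rw [hz, hro] at hne
      obtain rfl : o' = o := by
        by_contra h
        exact hne (by rw [if_neg h])
      refine ⟨z, fun a => ?_⟩
      rw [← hcomm, hz, hro, if_pos rfl, add_comm]
    · exact absurd (by rw [hz]; simp [r, mono_pt, vec, mono_inr]) hne
    · exact absurd (by rw [hz]; simp [r, mono_inr]) hne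
  have hout : ∀ i : ι, (∀ o ∈ O, ∀ x, i ≠ e2 (.inl (o, x))) →
      ∃ b, ∀ y, g (pt e (i, y)) = pt e (i, y + b) := by
    intro i hi
    have hr : ∀ a, vec e (Pi.single i a) ∈ Rsq e e2 O := fun a => ⟨0, fun _ _ => rfl, Pi.single i a, fun o ho x => by
      rw [Pi.single_eq_of_ne (hi o ho x).symm, Pi.single_eq_of_ne (hi o ho 0).symm], by rw [vec_zero]; rfl⟩
    have hcomm : ∀ a, vec e (Pi.single i a) (g (pt e (i, 0))) = g (pt e (i, a)) := by
      intro a
      have := congrArg (fun f : Perm α => f (pt e (i, 0))) (hg _ (hr a))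
      simp only [Perm.mul_apply] at this
      rw [this, vec, mono_pt]
      simp
    obtain ⟨b, hb⟩ := (single_moves e one_ne_zero).1 (show vec e (Pi.single i (1 : ZMod p))
        (g (pt e (i, 0))) ≠ g (pt e (i, 0)) from fun h => by
      rw [hcomm] at h
      simpa using (Prod.ext_iff.1 (pt_inj e (g.injective h))).2)
    refine ⟨b, fun y => ?_⟩
    rw [← hcomm, hb, vec, mono_pt]
    simp [add_comm]
  have hsq' : ∀ o, ∃ t, o ∈ O → ∀ z, g (sq e e2 o z) = sq e e2 o (z + t) := fun o => by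
    by_cases ho : o ∈ O
    · exact (hsq o ho).imp fun t ht _ => ht
    · exact ⟨0, fun h => absurd h ho⟩
  choose t ht using hsq'
  have hout' : ∀ i, ∃ b, (∀ o ∈ O, ∀ x, i ≠ e2 (.inl (o, x))) → ∀ y, g (pt e (i, y)) = pt e (i, y + b) :=
    fun i => by
      by_cases hi : ∀ o ∈ O, ∀ x, i ≠ e2 (.inl (o, x))
      · exact (hout i hi).imp fun b hb _ => hb
      · exact ⟨0, fun h => absurd h hi⟩
  choose b hb using hout'
  refine ⟨fun o => if o ∈ O then (t o).1 else 0, fun o ho => if_neg ho,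
    fun i => Sum.elim (fun x : ξ × ZMod p => if x.1 ∈ O then (t x.1).2 else b i) (fun _ => b i) (e2.symm i),
    fun o ho x => by simp [ho], ext_sub e fun i y => ?_⟩
  obtain ⟨j, rfl⟩ := e2.surjective i
  rcases j with ⟨o, x⟩ | f
  · rw [mono_pt, show e2 (.inl (o, x)) = pt e2 (o, x) from rfl, vec, mono_pt]
    by_cases ho : o ∈ O
    · rw [show pt e (pt e2 (o, x), y) = sq e e2 o (x, y) from rfl, ht o ho]
      simp [pt, sq, ho]
    · rw [hb _ fun o' ho' x' h => ho ?_]
      · simp [pt, ho]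
      · rw [show o = o' from (Prod.ext_iff.1 (pt_inj e2 (h : pt e2 (o, x) = pt e2 (o', x')))).1]
        exact ho'
  · rw [mono_pt, vec, mono_inr, hb _ fun o' _ x' h => Sum.inr_ne_inl (e2.injective h)]
    simp

/-- The shear keeping the block coordinate. -/
def shearU (a : ZMod p) : Perm (ZMod p × ZMod p) where
  toFun z := (z.1, z.2 + a * z.1)
  invFun z := (z.1, z.2 - a * z.1)
  left_inv z := by simp
  right_inv z := by simp

/-- The shear moving the block coordinate. -/
def shearL (a : ZMod p) : Perm (ZMod p × ZMod p) where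
  toFun z := (z.1 + a * z.2, z.2)
  invFun z := (z.1 - a * z.2, z.2)
  left_inv z := by simp
  right_inv z := by simp

theorem shearU_apply (a : ZMod p) (z : ZMod p × ZMod p) : shearU a z = (z.1, z.2 + a * z.1) := rfl

theorem shearL_apply (a : ZMod p) (z : ZMod p × ZMod p) : shearL a z = (z.1 + a * z.2, z.2) := rfl

theorem shearU_add (a : ZMod p) (z w : ZMod p × ZMod p) : shearU a (z + w) = shearU a z + shearU a w :=
  Prod.ext rfl (by simp [shearU_apply]; ring)

theorem shearL_add (a : ZMod p) (z w : ZMod p × ZMod p) : shearL a (z + w) = shearL a z + shearL a w :=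
  Prod.ext (by simp [shearL_apply]; ring) rfl

/-- The Weyl element. -/
def weyl (a : (ZMod p)ˣ) : Perm (ZMod p × ZMod p) :=
  shearL (a : ZMod p) * shearU (-((a⁻¹ : (ZMod p)ˣ) : ZMod p)) * shearL (a : ZMod p)

theorem weyl_apply (a : (ZMod p)ˣ) (z : ZMod p × ZMod p) :
    weyl a z = ((a : ZMod p) * z.2, -(((a⁻¹ : (ZMod p)ˣ) : ZMod p) * z.1)) := by
  have h : (a : ZMod p) * ((a⁻¹ : (ZMod p)ˣ) : ZMod p) = 1 := a.mul_inv
  simp only [weyl, Perm.mul_apply, shearU_apply, shearL_apply]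
  refine Prod.ext ?_ ?_ <;> dsimp only
  · linear_combination (-z.1 - (a : ZMod p) * z.2) * h
  · linear_combination (-z.2) * h

theorem weyl_conj (b : ZMod p) : weyl 1 * shearL b * (weyl 1)⁻¹ = shearU (-b) := by
  rw [mul_inv_eq_iff_eq_mul]
  refine Equiv.ext fun z => ?_
  simp only [Perm.mul_apply, weyl_apply, shearU_apply, shearL_apply]
  ext <;> simp [sub_eq_add_neg, add_comm, mul_comm]

theorem diag_eq (a : (ZMod p)ˣ) (z : ZMod p × ZMod p) :
    (weyl a * weyl (-1 : (ZMod p)ˣ)) z = ((a : ZMod p) * z.1, ((a⁻¹ : (ZMod p)ˣ) : ZMod p) * z.2) := by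
  simp only [Perm.mul_apply, weyl_apply, inv_neg, inv_one, Units.val_neg, Units.val_one, neg_mul, one_mul,
    mul_neg, neg_neg]

theorem weyl_add (a : (ZMod p)ˣ) (z w : ZMod p × ZMod p) : weyl a (z + w) = weyl a z + weyl a w := by
  simp only [weyl_apply, Prod.fst_add, Prod.snd_add, Prod.mk_add_mk]
  refine Prod.ext ?_ ?_ <;> dsimp only <;> ring

theorem shearU_pow (a : ZMod p) : ∀ m : ℕ, shearU a ^ m = shearU ((m : ZMod p) * a)
  | 0 => Equiv.ext fun z => by simp [shearU_apply]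
  | m + 1 => by
    rw [pow_succ, shearU_pow a m]
    refine Equiv.ext fun z => ?_
    simp [shearU_apply, Perm.mul_apply]
    ring

theorem shearL_pow (a : ZMod p) : ∀ m : ℕ, shearL a ^ m = shearL ((m : ZMod p) * a)
  | 0 => Equiv.ext fun z => by simp [shearL_apply]
  | m + 1 => by
    rw [pow_succ, shearL_pow a m]
    refine Equiv.ext fun z => ?_
    simp [shearL_apply, Perm.mul_apply]
    ring

theorem phi_shear_pow (a : ZMod p) :
    phi e e2 O (shearU a) ^ p = 1 ∧ phi e e2 O (shearL a) ^ p = 1 := by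
  rw [← map_pow, ← map_pow, shearU_pow, shearL_pow, ZMod.natCast_self, zero_mul]
  constructor <;> refine (congrArg _ ?_).trans (map_one _) <;> refine Equiv.ext fun z => ?_
  · simp [shearU_apply]
  · simp [shearL_apply]

theorem phi_shearU_eq [Subsingleton ρ] (a : ZMod p) : phi e e2 O (shearU a) =
    vec e (fun i => Sum.elim (fun x : ξ × ZMod p => if x.1 ∈ O then a * x.2 else 0) (fun _ => 0)
      (e2.symm i)) := by
  refine ext_sub e fun i y => ?_
  obtain ⟨j, rfl⟩ := e2.surjective i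
  rw [vec, mono_pt]
  rcases j with ⟨o, x⟩ | f
  · rw [show pt e (e2 (.inl (o, x)), y) = sq e e2 o (x, y) from rfl]
    by_cases ho : o ∈ O
    · rw [phi_mem e e2 O _ ho]
      simp [shearU_apply, sq, ho]
    · rw [phi_not_mem e e2 O _ ho]
      simp [sq, ho]
  · simp [phi_left]

/-- The diagonal element as a monomial permutation. -/
theorem phi_diag_eq [Subsingleton ρ] (a : (ZMod p)ˣ) : phi e e2 O (weyl a * weyl (-1 : (ZMod p)ˣ)) =
    mono e (mono e2 1 (fun o => if o ∈ O then a else 1) 0)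
      (fun i => Sum.elim (fun x : ξ × ZMod p => if x.1 ∈ O then a⁻¹ else 1) (fun _ => 1) (e2.symm i)) 0 := by
  refine ext_sub e fun i y => ?_
  obtain ⟨j, rfl⟩ := e2.surjective i
  rw [mono_pt]
  rcases j with ⟨o, x⟩ | f
  · rw [show pt e (e2 (.inl (o, x)), y) = sq e e2 o (x, y) from rfl,
      show e2 (.inl (o, x)) = pt e2 (o, x) from rfl, mono_pt]
    by_cases ho : o ∈ O
    · rw [phi_mem e e2 O _ ho, diag_eq]
      simp [sq, pt, ho, -Units.val_inv_eq_inv_val]
    · rw [phi_not_mem e e2 O _ ho]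
      simp [sq, pt, ho]
  · rw [mono_inr, phi_left]
    simp

end Cfsg.Agent.Local.FS.AltSimple
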