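import Mathlib

/-!
Monomial permutations of blocks of size `p` and the wreath Sylow subgroup of a symmetric group.
-/

set_option autoImplicit false
set_option linter.unusedSectionVars false

namespace Cfsg.Agent.Local.FS.AltSimple

open Equiv

variable {p : ℕ} [Fact p.Prime] [NeZero p] {ι ρ α : Type*} [Fintype ι] [DecidableEq ι] [Fintype ρ]
  [DecidableEq ρ] [Fintype α] [DecidableEq α] (e : (ι × ZMod p) ⊕ ρ ≃ α)

/-- A point in a block. -/
def pt (x : ι × ZMod p) : α := e (.inl x)

theorem pt_inj {x y : ι × ZMod p} (h : pt e x = pt e y) : x = y := Sum.inl_injective (e.injective h)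

/-- Permutations of the blocks, extended. -/
def ff : Perm (ι × ZMod p) →* Perm α :=
  (Equiv.permCongrHom e).toMonoidHom.comp ((Perm.sumCongrHom (ι × ZMod p) ρ).comp (MonoidHom.inl _ _))

theorem ff_pt (g : Perm (ι × ZMod p)) (x : ι × ZMod p) : ff e g (pt e x) = pt e (g x) := by
  simp [ff, pt, Equiv.permCongr_apply]

theorem ff_inr (g : Perm (ι × ZMod p)) (c : ρ) : ff e g (e (.inr c)) = e (.inr c) := by
  simp [ff, Equiv.permCongr_apply]

theorem sign_ff (g : Perm (ι × ZMod p)) : Perm.sign (ff e g) = Perm.sign g := by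
  show Perm.sign (e.permCongr (Equiv.Perm.sumCongr g 1)) = _
  rw [Perm.sign_permCongr, Perm.sign_sumCongr, map_one, mul_one]

/-- A monomial permutation of the block points. -/
def monoPerm (σ : Perm ι) (l : ι → (ZMod p)ˣ) (v : ι → ZMod p) : Perm (ι × ZMod p) :=
  (Equiv.prodCongrRight fun i => (Units.mulLeft (l i)).trans (Equiv.addRight (v i))).trans
    (Equiv.prodCongr σ (Equiv.refl _))

theorem monoPerm_apply (σ : Perm ι) (l : ι → (ZMod p)ˣ) (v : ι → ZMod p) (i : ι) (y : ZMod p) :
    monoPerm σ l v (i, y) = (σ i, (l i : ZMod p) * y + v i) := rfl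

/-- Monomial permutations. -/
def mono (σ : Perm ι) (l : ι → (ZMod p)ˣ) (v : ι → ZMod p) : Perm α := ff e (monoPerm σ l v)

theorem mono_pt (σ : Perm ι) (l : ι → (ZMod p)ˣ) (v : ι → ZMod p) (i : ι) (y : ZMod p) :
    mono e σ l v (pt e (i, y)) = pt e (σ i, (l i : ZMod p) * y + v i) := by
  rw [mono, ff_pt, monoPerm_apply]

theorem mono_inr (σ : Perm ι) (l : ι → (ZMod p)ˣ) (v : ι → ZMod p) (c : ρ) :
    mono e σ l v (e (.inr c)) = e (.inr c) := ff_inr e _ c

/-- Permutations fixing the extra points are determined by the block points. -/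
theorem ext_pts {f g : Perm α} (h : ∀ i y, f (pt e (i, y)) = g (pt e (i, y)))
    (h' : ∀ c, f (e (.inr c)) = g (e (.inr c))) : f = g := by
  refine Equiv.ext fun a => ?_
  obtain ⟨x, rfl⟩ := e.surjective a
  rcases x with ⟨i, y⟩ | c
  exacts [h i y, h' c]

/-- With at most one extra point the block points suffice. -/
theorem ext_sub [Subsingleton ρ] {f g : Perm α} (h : ∀ i y, f (pt e (i, y)) = g (pt e (i, y))) : f = g := by
  refine ext_pts e h fun c => ?_
  obtain ⟨x, hx⟩ := e.surjective (g⁻¹ (f (e (.inr c))))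
  rcases x with ⟨i, y⟩ | c'
  · have h1 : f (pt e (i, y)) = f (e (.inr c)) := by
      rw [h, show pt e (i, y) = g⁻¹ (f (e (.inr c))) from hx]
      exact g.apply_symm_apply _
    exact absurd (e.injective (f.injective h1)) (by simp)
  · rw [Subsingleton.elim c' c] at hx
    exact (g.apply_symm_apply _).symm.trans (congrArg g hx.symm)

theorem mono_mul (σ σ' : Perm ι) (l l' : ι → (ZMod p)ˣ) (v v' : ι → ZMod p) :
    mono e σ l v * mono e σ' l' v' =
      mono e (σ * σ') (fun i => l (σ' i) * l' i) (fun i => (l (σ' i) : ZMod p) * v' i + v (σ' i)) := by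
  refine ext_pts e (fun i y => ?_) fun c => ?_
  · simp only [Perm.mul_apply, mono_pt, Units.val_mul]
    congr 2
    ring
  · simp only [Perm.mul_apply, mono_inr]

theorem mono_one : mono e 1 1 0 = 1 := ext_pts e (fun i y => by simp [mono_pt]) fun c => by simp [mono_inr]

theorem mono_inj {σ σ' : Perm ι} {l l' : ι → (ZMod p)ˣ} {v v' : ι → ZMod p}
    (h : mono e σ l v = mono e σ' l' v') : σ = σ' ∧ l = l' ∧ v = v' := by
  have h0 : ∀ i y, (σ i, (l i : ZMod p) * y + v i) = (σ' i, (l' i : ZMod p) * y + v' i) := fun i y =>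
    pt_inj e (by rw [← mono_pt, ← mono_pt, h])
  have hv : v = v' := funext fun i => by simpa using (Prod.ext_iff.1 (h0 i 0)).2
  refine ⟨Equiv.ext fun i => (Prod.ext_iff.1 (h0 i 0)).1, funext fun i => Units.ext ?_, hv⟩
  simpa [hv] using (Prod.ext_iff.1 (h0 i 1)).2

/-- Translations. -/
def vec (v : ι → ZMod p) : Perm α := mono e 1 1 v

/-- Block permutations. -/
def lft (σ : Perm ι) : Perm α := mono e σ 1 0

theorem vec_add (v w : ι → ZMod p) : vec e v * vec e w = vec e (v + w) := by
  rw [vec, vec, vec, mono_mul]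
  congr 1
  · simp; rfl
  · funext i; simp [add_comm]

theorem vec_zero : vec e (0 : ι → ZMod p) = 1 := mono_one e

theorem vec_pow (v : ι → ZMod p) : ∀ m : ℕ, vec e v ^ m = vec e (m • v)
  | 0 => by rw [pow_zero, zero_smul, vec_zero]
  | m + 1 => by rw [pow_succ, vec_pow v m, vec_add, succ_nsmul]

theorem vec_pow_p (v : ι → ZMod p) : vec e v ^ p = 1 := by
  rw [vec_pow, show p • v = 0 from funext fun i => by simp, vec_zero]

theorem vec_inj {v w : ι → ZMod p} (h : vec e v = vec e w) : v = w := (mono_inj e h).2.2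

theorem lft_mul (σ τ : Perm ι) : lft e σ * lft e τ = lft e (σ * τ) := by
  rw [lft, lft, lft, mono_mul]
  congr 1
  · simp; rfl
  · funext i; simp

/-- Block permutations, as a homomorphism. -/
def lftHom : Perm ι →* Perm α where
  toFun := lft e
  map_one' := mono_one e
  map_mul' σ τ := (lft_mul e σ τ).symm

/-- Scalings, as a homomorphism. -/
def sclHom : (ι → (ZMod p)ˣ) →* Perm α where
  toFun l := mono e 1 l 0
  map_one' := mono_one e
  map_mul' l l' := by
    rw [mono_mul]
    congr 1
    funext i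
    simp

theorem mono_decomp (σ : Perm ι) (l : ι → (ZMod p)ˣ) (v : ι → ZMod p) :
    mono e σ l v = lft e σ * (vec e v * sclHom e l) := by
  show _ = lft e σ * (vec e v * mono e 1 l 0)
  rw [lft, vec, mono_mul, mono_mul]
  congr 1
  · funext i; simp
  · funext i; simp

theorem mono_vec (σ : Perm ι) (l : ι → (ZMod p)ˣ) (v w : ι → ZMod p) :
    mono e σ l v * vec e w * (mono e σ l v)⁻¹ =
      vec e (fun i => (l (σ⁻¹ i) : ZMod p) * w (σ⁻¹ i)) := by
  rw [mul_inv_eq_iff_eq_mul, vec, vec, mono_mul, mono_mul]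
  congr 1
  · funext i; simp
  · funext i; simp [add_comm]

theorem sign_lft (σ : Perm ι) : Perm.sign (lft e σ) = Perm.sign σ ^ p := by
  rw [lft, mono, sign_ff, show monoPerm σ 1 0 = Equiv.prodCongrLeft (fun _ : ZMod p => σ) from
    Equiv.ext fun x => by
      obtain ⟨i, y⟩ := x
      rw [monoPerm_apply]
      simp [Equiv.prodCongrLeft],
    Perm.sign_prodCongrLeft, Finset.prod_const, Finset.card_univ, ZMod.card]

theorem sign_of_odd {X : Type*} [Fintype X] [DecidableEq X] {g : Perm X} {m : ℕ} (hm : Odd m) (h : g ^ m = 1) :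
    Perm.sign g = 1 := by
  have h1 : Perm.sign g ^ m = 1 := by rw [← map_pow, h, map_one]
  rcases Int.units_eq_one_or (Perm.sign g) with h | h
  · exact h
  · rw [h, hm.neg_one_pow] at h1
    exact absurd h1 (by decide)

/-- The wreath product on the blocks. -/
def W (P : Subgroup (Perm ι)) : Subgroup (Perm α) where
  carrier := {g | ∃ σ ∈ P, ∃ v, g = mono e σ 1 v}
  one_mem' := ⟨1, P.one_mem, 0, (mono_one e).symm⟩
  mul_mem' := by
    rintro _ _ ⟨σ, hσ, v, rfl⟩ ⟨τ, hτ, w, rfl⟩
    refine ⟨σ * τ, P.mul_mem hσ hτ, fun i => w i + v (τ i), ?_⟩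
    rw [mono_mul]
    congr 1
    · funext i; simp
    · funext i; simp
  inv_mem' := by
    rintro _ ⟨σ, hσ, v, rfl⟩
    refine ⟨σ⁻¹, P.inv_mem hσ, fun i => -v (σ⁻¹ i), inv_eq_of_mul_eq_one_right ?_⟩
    rw [mono_mul, ← mono_one e]
    congr 1
    · simp
    · funext i; simp
    · funext i; simp

theorem mem_W {P : Subgroup (Perm ι)} {g : Perm α} : g ∈ W e P ↔ ∃ σ ∈ P, ∃ v, g = mono e σ 1 v := Iff.rfl

theorem vec_mem_W (P : Subgroup (Perm ι)) (v : ι → ZMod p) : vec e v ∈ W e P := ⟨1, P.one_mem, v, rfl⟩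

theorem lft_mem_W {P : Subgroup (Perm ι)} {σ : Perm ι} (h : σ ∈ P) : lft e σ ∈ W e P := ⟨σ, h, 0, rfl⟩

theorem card_W (P : Subgroup (Perm ι)) : Nat.card (W e P) = p ^ Fintype.card ι * Nat.card P := by
  let E : (ι → ZMod p) × P → W e P := fun x => ⟨mono e x.2.1 1 x.1, x.2.1, x.2.2, x.1, rfl⟩
  have hE : Function.Bijective E := ⟨fun x y h => by
      obtain ⟨h1, -, h2⟩ := mono_inj e (congrArg Subtype.val h)
      exact Prod.ext h2 (Subtype.ext h1),
    fun ⟨g, σ, hσ, v, hg⟩ => ⟨(v, ⟨σ, hσ⟩), Subtype.ext hg.symm⟩⟩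
  rw [← Nat.card_congr (Equiv.ofBijective E hE), Nat.card_prod, Nat.card_fun, Nat.card_eq_fintype_card (α := ι),
    Nat.card_zmod]

theorem isPGroup_W {P : Subgroup (Perm ι)} (hP : IsPGroup p P) : IsPGroup p (W e P) := by
  obtain ⟨a, ha⟩ := IsPGroup.iff_card.1 hP
  exact IsPGroup.of_card (n := Fintype.card ι + a) (by rw [card_W, ha, pow_add])

theorem W_even (hodd : p ≠ 2) {P : Subgroup (Perm ι)} (hP : IsPGroup p P) :
    W e P ≤ alternatingGroup α := by
  intro g hg
  obtain ⟨a, ha⟩ := isPGroup_W e hP ⟨g, hg⟩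
  rw [Perm.mem_alternatingGroup]
  exact sign_of_odd (((Fact.out : p.Prime).odd_of_ne_two hodd).pow) (congrArg Subtype.val ha)

/-- The block `i` as moved set. -/
theorem single_moves {i : ι} {a : ZMod p} (ha : a ≠ 0) {b : α} :
    vec e (Pi.single i a) b ≠ b ↔ ∃ y, b = pt e (i, y) := by
  obtain ⟨x, rfl⟩ := e.surjective b
  rcases x with ⟨j, y⟩ | c
  · rw [show e (.inl (j, y)) = pt e (j, y) from rfl, vec, mono_pt]
    rcases eq_or_ne j i with rfl | hji
    · refine iff_of_true (fun h => ?_) ⟨y, rfl⟩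
      have := (Prod.ext_iff.1 (pt_inj e h)).2
      simp at this
      exact ha this
    · refine iff_of_false (fun h => h ?_) fun ⟨y', h⟩ => hji (Prod.ext_iff.1 (pt_inj e h)).1
      simp [hji]
  · rw [vec, mono_inr]
    exact iff_of_false (fun h => h rfl) fun ⟨y, h⟩ => by simp [pt] at h

theorem two_blocks_absurd {f : Perm α} {i : ι} {a b : ι} (hab : a ≠ b)
    (ha : ∀ y, ∃ y', f (pt e (i, y')) = pt e (a, y)) (hb : ∀ y, ∃ y', f (pt e (i, y')) = pt e (b, y)) :
    False := by
  have h : ∀ x : Bool × ZMod p, ∃ y', f (pt e (i, y')) = pt e (if x.1 then a else b, x.2) := fun x => by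
    rcases x with ⟨_ | _, y⟩
    · simpa using hb y
    · simpa using ha y
  choose c hc using h
  have hinj : Function.Injective c := fun x y hxy => by
    have h1 := pt_inj e ((hc x).symm.trans (hxy ▸ hc y))
    obtain ⟨h2, h3⟩ := Prod.ext_iff.1 h1
    refine Prod.ext ?_ h3
    rcases x with ⟨_ | _, _⟩ <;> rcases y with ⟨_ | _, _⟩ <;> simp_all
  have := Fintype.card_le_of_injective c hinj
  rw [Fintype.card_prod, Fintype.card_bool, ZMod.card] at this
  have := (Fact.out : p.Prime).pos
  omega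

/-- A permutation conjugating the block cycles into the wreath product is monomial. -/
theorem exists_mono [Subsingleton ρ] {P : Subgroup (Perm ι)} {g : Perm α}
    (hg : ∀ i, g * vec e (Pi.single i 1) * g⁻¹ ∈ W e P) : ∃ σ l v, g = mono e σ l v := by
  classical
  have key : ∀ i, ∃ (j : ι) (a : (ZMod p)ˣ) (b : ZMod p), ∀ y, g (pt e (i, y)) = pt e (j, (a : ZMod p) * y + b) := by
    intro i
    obtain ⟨τ, -, w, hx⟩ := hg i
    set x := g * vec e (Pi.single i 1) * g⁻¹ with hxdef
    have hmov : ∀ c, x c ≠ c → ∃ y, g (pt e (i, y)) = c := by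
      intro c hc
      have h1 : vec e (Pi.single i (1 : ZMod p)) (g⁻¹ c) ≠ g⁻¹ c := fun h => hc (by
        rw [hxdef, Perm.mul_apply, Perm.mul_apply, h]
        exact g.apply_symm_apply c)
      obtain ⟨y, hy⟩ := (single_moves e one_ne_zero).1 h1
      exact ⟨y, by rw [← hy]; exact g.apply_symm_apply c⟩
    have hblock : ∀ j, (τ j ≠ j ∨ w j ≠ 0) → ∀ y, ∃ y', g (pt e (i, y')) = pt e (j, y) := by
      intro j hj y
      refine hmov _ fun h => ?_
      rw [hx, mono_pt] at h
      obtain ⟨h1, h2⟩ := Prod.ext_iff.1 (pt_inj e h)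
      rcases hj with hj | hj
      · exact hj h1
      · simp at h2; exact hj h2
    have hτ : τ = 1 := Equiv.ext fun j => by
      by_contra h
      exact two_blocks_absurd e (a := j) (b := τ j) (fun h' => h h'.symm) (hblock j (Or.inl h))
        (hblock (τ j) (Or.inl fun h' => h (τ.injective h')))
    subst hτ
    have hw : w ≠ 0 := by
      rintro rfl
      rw [hxdef, mono_one, conj_eq_one_iff] at hx
      have := congrFun (vec_inj e (hx.trans (vec_zero e).symm)) i
      simp at this
    obtain ⟨j, hj⟩ := Function.ne_iff.1 hw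
    have huniq : ∀ j', w j' ≠ 0 → j' = j := fun j' hj' => by
      by_contra h
      exact two_blocks_absurd e h (hblock j' (Or.inr hj')) (hblock j (Or.inr hj))
    set a := w j with ha
    have ha0 : a ≠ 0 := hj
    have hxe : x = vec e (Pi.single j a) := by
      rw [hx, vec, show w = Pi.single j a from funext fun j' => by
        rcases eq_or_ne j' j with rfl | h
        · simp [ha]
        · rw [Pi.single_eq_of_ne h]; exact not_not.1 fun h' => h (huniq j' h')]
    have hstep : ∀ y, g (pt e (i, y + 1)) = x (g (pt e (i, y))) := fun y => by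
      rw [hxdef, Perm.mul_apply, Perm.mul_apply, Perm.coe_inv, g.symm_apply_apply, vec, mono_pt]
      simp
    obtain ⟨b, hb⟩ : ∃ b, g (pt e (i, 0)) = pt e (j, b) := by
      refine (single_moves e ha0).1 (hxe ▸ fun h => ?_)
      have h1 := hstep 0
      rw [h, zero_add] at h1
      simpa using (Prod.ext_iff.1 (pt_inj e (g.injective h1))).2
    refine ⟨j, Units.mk0 a ha0, b, fun y => ?_⟩
    suffices ∀ m : ℕ, g (pt e (i, (m : ZMod p))) = pt e (j, a * m + b) by
      simpa using this y.val
    intro m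
    induction m with
    | zero => simpa using hb
    | succ m ih =>
      rw [Nat.cast_succ, hstep, ih, hxe, vec, mono_pt]
      simp
      ring
  choose s l v hs using key
  have hinj : Function.Injective s := by
    intro i i' h
    have h1 : g (pt e (i', ((l i')⁻¹ : (ZMod p)ˣ) * (v i - v i'))) = g (pt e (i, 0)) := by
      rw [hs, hs, h, ← mul_assoc, Units.mul_inv, one_mul, mul_zero, zero_add, sub_add_cancel]
    exact ((Prod.ext_iff.1 (pt_inj e (g.injective h1))).1).symm
  refine ⟨Equiv.ofBijective s (Finite.injective_iff_bijective.1 hinj), l, v, ext_sub e fun i y => ?_⟩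
  rw [hs, mono_pt]
  rfl

/-- Only translations centralize all block cycles. -/
theorem exists_vec_of_commute [Subsingleton ρ] {x : Perm α}
    (hx : ∀ i, x * vec e (Pi.single i 1) = vec e (Pi.single i 1) * x) : ∃ v, x = vec e v := by
  have hb : ∀ i, ∃ b, x (pt e (i, 0)) = pt e (i, b) := by
    intro i
    refine (single_moves e one_ne_zero).1 fun h => ?_
    rw [← Perm.mul_apply, ← hx i, Perm.mul_apply] at h
    exact (single_moves e (one_ne_zero (α := ZMod p))).2 ⟨0, rfl⟩ (x.injective h)
  choose b hb using hb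
  refine ⟨b, ext_sub e fun i y => ?_⟩
  rw [vec, mono_pt]
  suffices ∀ m : ℕ, x (pt e (i, (m : ZMod p))) = pt e (i, (m : ZMod p) + b i) by simpa using this y.val
  intro m
  induction m with
  | zero => simpa using hb i
  | succ m ih =>
    have h1 := congrArg (fun f : Perm α => f (pt e (i, (m : ZMod p)))) (hx i)
    simp only [Perm.mul_apply, ih] at h1
    rw [vec, mono_pt, mono_pt] at h1
    simp at h1
    rw [Nat.cast_succ, h1]
    simp [add_right_comm]

end Cfsg.Agent.Local.FS.AltSimple
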