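import Cfsg.Agent.Lib.Local.FS.Map

set_option autoImplicit false

namespace Cfsg.Agent.Local.FS

open Cfsg Cfsg.FusionSystem

variable {Ω : Type*} [Group Ω] {S : Subgroup Ω} {F : FusionSystem S} {P Q R K : Subgroup Ω} {f : Ω → Ω}

/-- An automorphism of a subgroup as a function on the ambient group. -/
noncomputable def av (α : MulAut P) : Ω → Ω := fn (P.subtype.comp α.toMonoidHom)

theorem av_coe (α : MulAut P) (x : P) : av α x = (α x : Ω) := fn_coe _ x

theorem av_apply (α : MulAut P) {x : Ω} (hx : x ∈ P) : av α x = (α ⟨x, hx⟩ : Ω) := fn_apply _ hx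

theorem av_mem (α : MulAut P) {x : Ω} (hx : x ∈ P) : av α x ∈ P := by
  rw [av_apply α hx]; exact SetLike.coe_mem _

theorem av_mul (α β : MulAut P) {x : Ω} (hx : x ∈ P) : av (α * β) x = av α (av β x) := by
  rw [av_apply _ hx, av_apply β hx, av_coe α (β ⟨x, hx⟩)]; rfl

theorem av_one {x : Ω} (hx : x ∈ P) : av (1 : MulAut P) x = x := by rw [av_apply _ hx]; rfl

theorem av_inv_av (α : MulAut P) {x : Ω} (hx : x ∈ P) : av α⁻¹ (av α x) = x := by
  rw [← av_mul _ _ hx, inv_mul_cancel, av_one hx]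

theorem av_av_inv (α : MulAut P) {x : Ω} (hx : x ∈ P) : av α (av α⁻¹ x) = x := by
  rw [← av_mul _ _ hx, mul_inv_cancel, av_one hx]

theorem aut_ext {α β : MulAut P} (h : ∀ x ∈ P, av α x = av β x) : α = β := by
  refine MulEquiv.ext fun x => Subtype.ext ?_
  rw [← av_coe, ← av_coe]; exact h x x.2

theorem finite_mulAut [Finite P] : Finite (MulAut P) :=
  Finite.of_injective (fun α : MulAut P => (α : P → P)) DFunLike.coe_injective

instance finite_mulAut_subgroup [Finite P] : Finite (MulAut P) := finite_mulAut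

theorem mulAut_finite_of_le [Finite S] (hP : P ≤ S) : Finite (MulAut P) :=
  haveI := finite_of_le hP
  finite_mulAut

theorem mem_autGroup_of_map {α : MulAut P} (h : Map F P (av α)) : α ∈ F.autGroup P :=
  Subgroup.subset_closure (mem_iff_map.2 h)

theorem map_of_mem_autGroup [Finite S] (hP : P ≤ S) {α : MulAut P} (h : α ∈ F.autGroup P) :
    Map F P (av α) := by
  have := mulAut_finite_of_le hP
  rw [FusionSystem.autGroup, ← Subgroup.mem_toSubmonoid, Subgroup.closure_toSubmonoid_of_finite] at h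
  induction h using Submonoid.closure_induction with
  | mem α hα => exact mem_iff_map.1 hα
  | one => exact (map_id hP).congr fun x hx => (av_one hx).symm
  | mul α β _ _ iha ihb =>
    exact (ihb.comp iha fun x hx => av_mem β hx).congr fun x hx => (av_mul α β hx).symm

theorem mem_autGroup_iff [Finite S] (hP : P ≤ S) {α : MulAut P} :
    α ∈ F.autGroup P ↔ Map F P (av α) :=
  ⟨map_of_mem_autGroup hP, mem_autGroup_of_map⟩

theorem im_av (α : MulAut P) : im P (av α) = P :=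
  le_antisymm (im_le_iff.2 fun _ hx => av_mem α hx) fun x hx => by
    have h := mem_im_of_mem (f := av α) (av_mem α⁻¹ hx)
    rwa [av_av_inv α hx] at h

/-- Automorphism of `P` from a function restricting to a bijective map of the system. -/
theorem exists_aut (h : Map F P f) (hi : im P f = P) :
    ∃ α ∈ F.autGroup P, ∀ x ∈ P, av α x = f x := by
  have hm : ∀ x : P, f x ∈ P := fun x => hi.le (mem_im_of_mem x.2)
  let φ : P →* P := MonoidHom.mk' (fun x => ⟨f x, hm x⟩) fun x y => Subtype.ext (h.map_mul x.2 y.2)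
  have hb : Function.Bijective φ := by
    refine ⟨fun x y he => Subtype.ext (h.injOn x.2 y.2 (congrArg Subtype.val he)), fun y => ?_⟩
    obtain ⟨x, hx, he⟩ := h.mem_im.1 (hi.ge y.2)
    exact ⟨⟨x, hx⟩, Subtype.ext he⟩
  let α : MulAut P := MulEquiv.ofBijective φ hb
  have hα : ∀ x ∈ P, av α x = f x := fun x hx => av_apply α hx
  exact ⟨α, mem_autGroup_of_map (h.congr fun x hx => (hα x hx).symm), hα⟩

/-! ### Automorphisms induced by conjugation -/

theorem mem_autInducedBy {α : MulAut P} :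
    α ∈ autInducedBy K P ↔ ∃ g ∈ K, ∀ x ∈ P, av α x = g * x * g⁻¹ := by
  constructor
  · intro h
    induction h using Subgroup.closure_induction with
    | mem α hα =>
      obtain ⟨g, hg, h⟩ := hα
      exact ⟨g, hg, fun x hx => by rw [av_apply α hx]; exact h ⟨x, hx⟩⟩
    | one => exact ⟨1, K.one_mem, fun x hx => by rw [av_one hx]; simp⟩
    | mul α β _ _ iha ihb =>
      obtain ⟨g, hg, hga⟩ := iha
      obtain ⟨k, hk, hkb⟩ := ihb
      refine ⟨g * k, K.mul_mem hg hk, fun x hx => ?_⟩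
      rw [av_mul _ _ hx, hga _ (av_mem β hx), hkb x hx]; group
    | inv α _ iha =>
      obtain ⟨g, hg, hga⟩ := iha
      refine ⟨g⁻¹, K.inv_mem hg, fun x hx => ?_⟩
      have := hga _ (av_mem α⁻¹ hx)
      rw [av_av_inv α hx] at this
      calc av α⁻¹ x = g⁻¹ * (g * av α⁻¹ x * g⁻¹) * g⁻¹⁻¹ := by group
        _ = _ := by rw [← this]
  · rintro ⟨g, hg, h⟩
    exact Subgroup.subset_closure ⟨g, hg, fun x => by rw [← av_coe]; exact h x x.2⟩

theorem exists_aut_conj {g : Ω} (hn : g ∈ Subgroup.normalizer (P : Set Ω)) :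
    ∃ α : MulAut P, (∀ x ∈ P, av α x = g * x * g⁻¹) ∧ ∀ K : Subgroup Ω, g ∈ K → α ∈ autInducedBy K P := by
  let α : MulAut P :=
    { toFun := fun x => ⟨g * x * g⁻¹, conj_mem_of_normalizer hn x.2⟩
      invFun := fun x => ⟨g⁻¹ * x * g, by
        simpa using conj_mem_of_normalizer (Subgroup.inv_mem _ hn) x.2⟩
      left_inv := fun x => Subtype.ext (by simp [mul_assoc])
      right_inv := fun x => Subtype.ext (by simp [mul_assoc])
      map_mul' := fun x y => Subtype.ext (by simp [mul_assoc]) }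
  refine ⟨α, fun x hx => av_apply α hx, fun K hK => mem_autInducedBy.2 ⟨g, hK, fun x hx => av_apply α hx⟩⟩

theorem mem_normalizer_of_conj_aut {α : MulAut P} {g : Ω} (h : ∀ x ∈ P, av α x = g * x * g⁻¹) :
    g ∈ Subgroup.normalizer (P : Set Ω) := by
  refine Subgroup.mem_normalizer_iff.2 fun x => ⟨fun hx => h x hx ▸ av_mem α hx, fun hx => ?_⟩
  have h1 := h _ (av_mem α⁻¹ hx)
  rw [av_av_inv α hx, mul_left_inj, mul_right_inj] at h1
  exact h1 ▸ av_mem α⁻¹ hx

theorem autInducedBy_le_autGroup [Finite S] (hP : P ≤ S) : autInducedBy S P ≤ F.autGroup P := by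
  intro α h
  obtain ⟨g, hg, h⟩ := mem_autInducedBy.1 h
  exact mem_autGroup_of_map ((map_conjBy hP hg).congr fun x hx => (h x hx).symm)

theorem mem_Inn {α : MulAut P} : α ∈ Inn P ↔ ∃ g ∈ P, ∀ x ∈ P, av α x = g * x * g⁻¹ := by
  unfold Inn
  constructor
  · rintro ⟨g, rfl⟩
    exact ⟨g, g.2, fun x hx => by rw [av_apply _ hx]; rfl⟩
  · rintro ⟨g, hg, h⟩
    exact ⟨⟨g, hg⟩, aut_ext fun x hx => by rw [h x hx, av_apply _ hx]; rfl⟩

/-! ### Transport along an isomorphism of the system -/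

/-- The isomorphism `P ≃* im P f`. -/
theorem exists_equiv (h : Map F P f) (hi : im P f = Q) :
    ∃ e : P ≃* Q, ∀ x : P, (e x : Ω) = f x := by
  let φ : P →* Q := MonoidHom.mk' (fun x => ⟨f x, hi.le (mem_im_of_mem x.2)⟩)
    fun x y => Subtype.ext (h.map_mul x.2 y.2)
  have hb : Function.Bijective φ := by
    refine ⟨fun x y he => Subtype.ext (h.injOn x.2 y.2 (congrArg Subtype.val he)), fun y => ?_⟩
    obtain ⟨x, hx, he⟩ := h.mem_im.1 (hi.ge y.2)
    exact ⟨⟨x, hx⟩, Subtype.ext he⟩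
  exact ⟨MulEquiv.ofBijective φ hb, fun x => rfl⟩

theorem av_congr_apply {e : P ≃* Q} (he : ∀ x : P, (e x : Ω) = f x) (α : MulAut P) {x : Ω}
    (hx : x ∈ P) : av (MulAut.congr e α) (f x) = f (av α x) := by
  have hf : f x ∈ Q := he ⟨x, hx⟩ ▸ SetLike.coe_mem _
  rw [av_apply _ hf, av_apply _ hx]
  have h1 : (⟨f x, hf⟩ : Q) = e ⟨x, hx⟩ := Subtype.ext (he ⟨x, hx⟩).symm
  rw [h1]
  show ((e (α (e.symm (e ⟨x, hx⟩))) : Q) : Ω) = _
  rw [e.symm_apply_apply, he]

theorem congr_mem_autGroup [Finite S] (h : Map F P f) (hi : im P f = Q) {e : P ≃* Q}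
    (he : ∀ x : P, (e x : Ω) = f x) {α : MulAut P} (hα : α ∈ F.autGroup P) :
    MulAut.congr e α ∈ F.autGroup Q := by
  obtain ⟨g, hg, hgf, hfg, -⟩ := h.exists_inv
  rw [hi] at hg hfg
  refine mem_autGroup_of_map ((((hg.comp (map_of_mem_autGroup h.le hα) fun y hy => (hfg y hy).2).comp h
    fun y hy => av_mem α (hfg y hy).2)).congr fun y hy => ?_)
  have := av_congr_apply he α (hfg y hy).2
  rw [(hfg y hy).1] at this
  exact this.symm

theorem congr_mem_autGroup_iff [Finite S] (h : Map F P f) (hi : im P f = Q) {e : P ≃* Q}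
    (he : ∀ x : P, (e x : Ω) = f x) {α : MulAut P} :
    MulAut.congr e α ∈ F.autGroup Q ↔ α ∈ F.autGroup P := by
  refine ⟨fun hα => ?_, congr_mem_autGroup h hi he⟩
  obtain ⟨g, hg, hgf, hfg, hgi⟩ := h.exists_inv
  rw [hi] at hg hgi
  have := congr_mem_autGroup hg hgi (e := e.symm) (fun y => by
    have h1 := hgf (e.symm y) (SetLike.coe_mem _)
    rw [← he, e.apply_symm_apply] at h1
    exact h1.symm) hα
  convert this using 1
  ext x
  simp [MulAut.congr]

theorem map_autGroup [Finite S] (h : Map F P f) (hi : im P f = Q) {e : P ≃* Q}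
    (he : ∀ x : P, (e x : Ω) = f x) :
    (F.autGroup P).map (MulAut.congr e).toMonoidHom = F.autGroup Q := by
  ext β
  rw [Subgroup.mem_map]
  refine ⟨fun ⟨α, hα, hb⟩ => hb ▸ congr_mem_autGroup h hi he hα, fun hβ => ?_⟩
  refine ⟨(MulAut.congr e).symm β, ?_, (MulAut.congr e).apply_symm_apply β⟩
  rw [← congr_mem_autGroup_iff h hi he, MulEquiv.apply_symm_apply]
  exact hβ

/-! ### The subgroup `N_φ` -/

/-- The elements of `N_S(P)` whose action on `P`, transported by `f`, is induced from `S`. -/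
def Nf (S P : Subgroup Ω) (f : Ω → Ω) : Subgroup Ω where
  carrier := {g | g ∈ S ∧ g ∈ Subgroup.normalizer (P : Set Ω) ∧
    ∃ h ∈ S, ∀ x ∈ P, f (g * x * g⁻¹) = h * f x * h⁻¹}
  one_mem' := ⟨S.one_mem, Subgroup.one_mem _, 1, S.one_mem, fun x _ => by simp⟩
  mul_mem' := by
    rintro a b ⟨ha, han, h, hh, hah⟩ ⟨hb, hbn, k, hk, hbk⟩
    refine ⟨S.mul_mem ha hb, Subgroup.mul_mem _ han hbn, h * k, S.mul_mem hh hk, fun x hx => ?_⟩
    have h1 := hah _ (conj_mem_of_normalizer hbn hx)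
    rw [hbk x hx] at h1
    convert h1 using 1 <;> group
  inv_mem' := by
    rintro a ⟨ha, han, h, hh, hah⟩
    refine ⟨S.inv_mem ha, Subgroup.inv_mem _ han, h⁻¹, S.inv_mem hh, fun x hx => ?_⟩
    have h1 := hah _ (conj_mem_of_normalizer (Subgroup.inv_mem _ han) hx)
    simp only [inv_inv, mul_assoc, mul_inv_cancel, mul_one, mul_inv_cancel_left] at h1 ⊢
    rw [h1]; group

theorem mem_Nf {g : Ω} : g ∈ Nf S P f ↔ g ∈ S ∧ g ∈ Subgroup.normalizer (P : Set Ω) ∧
    ∃ h ∈ S, ∀ x ∈ P, f (g * x * g⁻¹) = h * f x * h⁻¹ := Iff.rfl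

theorem Nf_le : Nf S P f ≤ normalizerIn S P := fun _ hg => ⟨hg.1, hg.2.1⟩

theorem extender_eq {φ : P →* Ω} (hf : ∀ x : P, φ x = f x) : extender S P φ = Nf S P f := by
  refine le_antisymm ((Subgroup.closure_le _).2 ?_) fun g hg => Subgroup.subset_closure ?_
  · rintro g ⟨hg, hn, h, hh, he⟩
    refine ⟨hg, hn, h, hh, fun x hx => ?_⟩
    have h1 := he ⟨x, hx⟩ (conj_mem_of_normalizer hn hx)
    rwa [hf, hf] at h1
  · obtain ⟨hg, hn, h, hh, he⟩ := hg
    exact ⟨hg, hn, h, hh, fun x hx => by rw [hf, hf]; exact he x x.2⟩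

theorem le_Nf (h : Map F P f) : P ≤ Nf S P f := fun g hg =>
  ⟨h.le hg, Subgroup.le_normalizer hg, f g, h.mem hg, fun _ hx => h.map_conj hg hx⟩

theorem centralizerIn_le_Nf : centralizerIn S P ≤ Nf S P f := by
  intro g hg
  refine ⟨(mem_centralizerIn.1 hg).1, (centralizerIn_le_normalizerIn hg).2, 1, S.one_mem, fun x hx => ?_⟩
  rw [← (mem_centralizerIn.1 hg).2 x hx]; simp

/-- Receptivity, for functions. -/
theorem receptive_iff : F.IsReceptive Q ↔ Q ≤ S ∧ ∀ (P : Subgroup Ω) (f : Ω → Ω),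
    Map F P f → im P f = Q → ∃ g, Map F (Nf S P f) g ∧ ∀ x ∈ P, g x = f x := by
  refine and_congr_right fun _ => ⟨fun h P f hf hi => ?_, fun h P φ hφ hr => ?_⟩
  · obtain ⟨φ, hφ, he⟩ := hf
    have hM : Map F P f := ⟨φ, hφ, he⟩
    obtain ⟨ψ, hψ, hres⟩ := h P φ hφ ((hM.im_eq_range he).symm.trans hi)
    rw [← extender_eq he]
    refine ⟨fn ψ, map_of_mem hψ, fun x hx => ?_⟩
    have hx' : x ∈ extender S P φ := extender_eq he ▸ le_Nf hM hx
    rw [fn_apply ψ hx', hres x hx hx', he]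
  · have hM := map_of_mem hφ
    have he : ∀ x : P, φ x = fn φ x := fun x => (fn_coe φ x).symm
    obtain ⟨g, hg, hgf⟩ := h P (fn φ) hM ((hM.im_eq_range he).trans hr)
    rw [← extender_eq he] at hg
    obtain ⟨ψ, hψ, hψg⟩ := hg
    exact ⟨ψ, hψ, fun x hP hN => by rw [hψg, hgf x hP, fn_apply φ hP]⟩

end Cfsg.Agent.Local.FS
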