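import Cfsg.Agent.Lib.Local.FS.InnerZJ
import Cfsg.Agent.Lib.Fusion.AxiomaticZJ

/-!
A nilpotency criterion for a family of abelian subgroups with invariance and replacement.
-/

set_option autoImplicit false

namespace Cfsg.Agent.Local.FS

open Cfsg Cfsg.FusionSystem Cfsg.Agent.Fusion

universe u

variable {Ω : Type u} [Group Ω] {S : Subgroup Ω} [Finite S] {F : FusionSystem S} {p : ℕ} [Fact p.Prime]

theorem le_normalizerIn_zIn (hS : IsPGroup p S) {𝒜 : Set (Subgroup Ω)} (hne : 𝒜.Nonempty)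
    (hmem : ∀ A ∈ 𝒜, A ≤ S ∧ IsMulCommutative A)
    (hinv : ∀ Q : Subgroup Ω, Q ≤ S → (∃ A ∈ 𝒜, A ≤ Q) → ∀ α ∈ F.autGroup Q,
      ∀ x ∈ zIn 𝒜 Q, av α x ∈ zIn 𝒜 Q) : S ≤ normalizerIn S (zIn 𝒜 S) := by
  intro s hs
  obtain ⟨A, hA⟩ := hne
  have hle : zIn 𝒜 S ≤ S := (sInf_le ⟨hA, (hmem A hA).1⟩ : zIn 𝒜 S ≤ A).trans (hmem A hA).1
  refine ⟨hs, mem_normalizer_of_conj_mem hle fun x hx => ?_⟩
  obtain ⟨α, hα, hαx⟩ := exists_aut (F := F) (map_conjBy le_rfl hs) (Subgroup.eq_of_le_of_card_ge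
    (im_le_iff.2 fun y hy => S.mul_mem (S.mul_mem hs hy) (S.inv_mem hs))
    (map_conjBy (F := F) le_rfl hs).card_im.ge)
  rw [← hαx x (hle hx)]
  exact hinv S le_rfl ⟨A, hA, (hmem A hA).1⟩ α hα x hx

/-- A family transported to a realizing group. -/
theorem glaub_of_realized {V : Subgroup Ω} [Finite V] {N : FusionSystem V} {L : Type*} [Group L] {ι : V →* L}
    (hr : N.IsRealizedBy ι) (𝒜 : Set (Subgroup Ω)) (hmem : ∀ A ∈ 𝒜, A ≤ V ∧ IsMulCommutative A) (hne : 𝒜.Nonempty)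
    (hinv : ∀ R : Subgroup Ω, R ≤ V → (∃ A ∈ 𝒜, A ≤ R) → ∀ f, Map N R f → im R f = R →
      ∀ x ∈ zIn 𝒜 R, f x ∈ zIn 𝒜 R)
    (hrep : ∀ B : Subgroup Ω, B ≤ V → V ≤ Subgroup.normalizer (B : Set Ω) → ⁅⁅B, B⁆, B⁆ = ⊥ →
      (∃ A ∈ 𝒜, ⁅B, B⁆ ≤ A ∧ ¬ B ≤ A) →
      ∃ A ∈ 𝒜, ⁅B, B⁆ ≤ A ∧ ¬ B ≤ A ∧ B ≤ Subgroup.normalizer (A : Set Ω)) :
    GlaubFamily ι.range ((fun A => (A.subgroupOf V).map ι) '' 𝒜) ∧
      zIn ((fun A => (A.subgroupOf V).map ι) '' 𝒜) ι.range = ((zIn 𝒜 V).subgroupOf V).map ι := by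
  set 𝒜₀ : Set (Subgroup V) := (fun A => A.subgroupOf V) '' 𝒜
  have himg : (fun A => (A.subgroupOf V).map ι) '' 𝒜 = (fun A : Subgroup V => A.map ι) '' 𝒜₀ := by
    rw [← Set.image_comp]; rfl
  obtain ⟨A₀, hA₀⟩ := hne
  have hback : ∀ A ∈ 𝒜, (A.subgroupOf V).map V.subtype = A := fun A hA =>
    Subgroup.map_subgroupOf_eq_of_le (hmem A hA).1
  have hz : ∀ R : Subgroup V, (∃ A ∈ 𝒜₀, A ≤ R) → ∀ x : V, x ∈ zIn 𝒜₀ R ↔ (x : Ω) ∈ zIn 𝒜 (R.map V.subtype) := by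
    intro R _ x
    simp only [zIn, Subgroup.mem_sInf]
    constructor
    · rintro hx A ⟨hA, hAR⟩
      refine hx (A.subgroupOf V) ⟨⟨A, hA, rfl⟩, ?_⟩
      rw [← Subgroup.map_le_map_iff_of_injective V.subtype_injective, hback A hA]
      exact hAR
    · rintro hx _ ⟨⟨A, hA, rfl⟩, hAR⟩
      exact hx A ⟨hA, hback A hA ▸ Subgroup.map_mono hAR⟩
  have htop : (∃ A ∈ 𝒜₀, A ≤ (⊤ : Subgroup V)) := ⟨_, ⟨A₀, hA₀, rfl⟩, le_top⟩
  have htopV : (⊤ : Subgroup V).map V.subtype = V := by rw [← MonoidHom.range_eq_map, Subgroup.range_subtype]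
  obtain ⟨hfam, hfz⟩ := GlaubFamily.map ι hr.1 (P := (⊤ : Subgroup V)) (𝒜 := 𝒜₀) (by
      rintro _ ⟨A, hA, rfl⟩
      exact ⟨le_top, ⟨⟨fun x y => Subtype.ext (Subtype.ext
        (congrArg Subtype.val ((hmem A hA).2.1.1 ⟨_, x.2⟩ ⟨_, y.2⟩) :))⟩⟩⟩)
    ⟨_, A₀, hA₀, rfl⟩ (by
      intro R _ hRA g hg x hx
      set R' := R.map V.subtype
      have hR'V : R' ≤ V := Subgroup.map_subtype_le R
      obtain ⟨f, hf, hfg⟩ := exists_map_of_conj hr hR'V g fun y hy => Subgroup.map_le_range ι R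
        (conj_mem_of_normalizer hg (Subgroup.mem_map_of_mem ι ((Subgroup.mem_map_iff_mem V.subtype_injective).1 hy)))
      have hstep : ∀ y : V, y ∈ R → ∃ y' ∈ R, ι y' = g * ι y * g⁻¹ ∧ f y = y' := fun y hy => by
        obtain ⟨y', hy', he⟩ := conj_mem_of_normalizer hg (Subgroup.mem_map_of_mem ι hy)
        exact ⟨y', hy', he, hfg y (Subgroup.mem_map_of_mem V.subtype hy) y' he⟩
      haveI : Finite ↥R' := finite_of_le hR'V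
      have hfR : im R' f = R' := Subgroup.eq_of_le_of_card_ge (im_le_iff.2 (by
        rintro _ ⟨y, hy, rfl⟩
        obtain ⟨y', hy', -, he⟩ := hstep y hy
        exact he ▸ Subgroup.mem_map_of_mem V.subtype hy')) hf.card_im.ge
      obtain ⟨A', ⟨A, hA, rfl⟩, hAR⟩ := hRA
      have hxR : x ∈ R := (sInf_le ⟨⟨A, hA, rfl⟩, hAR⟩ : zIn 𝒜₀ R ≤ A.subgroupOf V).trans hAR hx
      obtain ⟨x', -, he, hfx⟩ := hstep x hxR
      rw [← he]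
      refine Subgroup.mem_map_of_mem ι ((hz R ⟨_, ⟨A, hA, rfl⟩, hAR⟩ x').2 ?_)
      rw [← hfx]
      exact hinv R' hR'V ⟨A, hA, hback A hA ▸ Subgroup.map_mono hAR⟩ f hf hfR x
        ((hz R ⟨_, ⟨A, hA, rfl⟩, hAR⟩ x).1 hx))
    (by
      intro B _ hPB hcl hA
      obtain ⟨A', ⟨A, hA, rfl⟩, hBA, hnA⟩ := hA
      obtain ⟨R, hR, h1, h2, h3⟩ := hrep (B.map V.subtype) (Subgroup.map_subtype_le B)
        (htopV.ge.trans ((Subgroup.map_mono hPB).trans (Subgroup.le_normalizer_map V.subtype)))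
        (by rw [← Subgroup.map_commutator, ← Subgroup.map_commutator, hcl, Subgroup.map_bot])
        ⟨A, hA, by rw [← hback A hA, ← Subgroup.map_commutator]; exact Subgroup.map_mono hBA,
          fun h => hnA fun b hb => h ⟨b, hb, rfl⟩⟩
      refine ⟨_, ⟨R, hR, rfl⟩, ?_, fun h => h2 (by rw [← hback R hR]; exact Subgroup.map_mono h),
        fun b hb => Subgroup.mem_normalizer_iff.2 fun y => ?_⟩
      · rw [← Subgroup.map_commutator] at h1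
        exact Subgroup.map_le_iff_le_comap.1 h1
      · exact Subgroup.mem_normalizer_iff.1 (h3 ⟨b, hb, rfl⟩) (y : Ω))
  rw [← MonoidHom.range_eq_map, ← himg] at hfam
  refine ⟨hfam, ?_⟩
  rw [himg, MonoidHom.range_eq_map, hfz ⊤ htop]
  congr 1
  ext x
  rw [hz ⊤ htop x, htopV, Subgroup.mem_subgroupOf]

set_option maxHeartbeats 800000 in
/-- In a realizing constrained stable group the intersection of a family is normal. -/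
theorem isNormal_zIn_of_realized {V : Subgroup Ω} [Finite V] {N : FusionSystem V} {L : Type*} [Group L] [Finite L]
    {ι : V →* L} (hr : N.IsRealizedBy ι) (T : Sylow p L) (hT : (T : Subgroup L) = ι.range)
    (hc : Subgroup.centralizer (pCore p L : Set L) ≤ pCore p L)
    (hst : ∀ (R : Subgroup L) [R.Normal], IsPGroup p R → IsPStableOn p R)
    (𝒜 : Set (Subgroup Ω)) (hmem : ∀ A ∈ 𝒜, A ≤ V ∧ IsMulCommutative A) (hne : 𝒜.Nonempty)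
    (hinv : ∀ R : Subgroup Ω, R ≤ V → (∃ A ∈ 𝒜, A ≤ R) → ∀ f, Map N R f → im R f = R →
      ∀ x ∈ zIn 𝒜 R, f x ∈ zIn 𝒜 R)
    (hrep : ∀ B : Subgroup Ω, B ≤ V → V ≤ Subgroup.normalizer (B : Set Ω) → ⁅⁅B, B⁆, B⁆ = ⊥ →
      (∃ A ∈ 𝒜, ⁅B, B⁆ ≤ A ∧ ¬ B ≤ A) →
      ∃ A ∈ 𝒜, ⁅B, B⁆ ≤ A ∧ ¬ B ≤ A ∧ B ≤ Subgroup.normalizer (A : Set Ω)) :
    N.IsNormal (zIn 𝒜 V) := by
  obtain ⟨hfam, hz⟩ := glaub_of_realized hr 𝒜 hmem hne hinv hrep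
  rw [← hT] at hfam hz
  haveI hWn := zIn_normal T hfam hc hst
  rw [hz] at hWn
  set W₀ := zIn 𝒜 V with hW₀
  obtain ⟨A₀, hA₀⟩ := hne
  have hW₀V : W₀ ≤ V := (sInf_le ⟨hA₀, (hmem A₀ hA₀).1⟩ : W₀ ≤ A₀).trans (hmem A₀ hA₀).1
  refine normal_iff.2 ⟨hW₀V, fun P f hf => ?_⟩
  obtain ⟨c, hc⟩ := exists_conj_of_map hr hf
  have hWL : ∀ x : V, (x : Ω) ∈ W₀ → ∃ y : V, (y : Ω) ∈ W₀ ∧ ι y = c * ι x * c⁻¹ := fun x hx => by
    obtain ⟨y, hy, he⟩ := hWn.conj_mem _ (Subgroup.mem_map_of_mem ι (Subgroup.mem_subgroupOf.2 hx)) c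
    exact ⟨y, hy, he⟩
  have hle : P ⊔ W₀ ≤ ((ι.range).comap ((MulAut.conj c).toMonoidHom.comp ι)).map V.subtype := by
    refine sup_le (fun x hx => ⟨⟨x, hf.le hx⟩, ⟨⟨f x, hf.mem hx⟩, hc _ hx _ rfl⟩, rfl⟩)
      (fun x hx => ⟨⟨x, hW₀V hx⟩, ?_, rfl⟩)
    obtain ⟨y, -, hy⟩ := hWL ⟨x, hW₀V hx⟩ hx
    exact ⟨y, hy⟩
  obtain ⟨f', hf', hf'c⟩ := exists_map_of_conj hr (sup_le hf.le hW₀V) c fun x hx =>
    (Subgroup.mem_map_iff_mem V.subtype_injective).1 (hle hx)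
  refine ⟨f', hf', fun x hx =>
    hf'c ⟨x, hf.le hx⟩ (Subgroup.mem_sup_left hx) ⟨f x, hf.mem hx⟩ (hc _ hx _ rfl), ?_⟩
  haveI := finite_of_le hW₀V
  refine Subgroup.eq_of_le_of_card_ge (im_le_iff.2 fun x hx => ?_) (hf'.restrict le_sup_right).card_im.ge
  obtain ⟨y, hy, hyc⟩ := hWL ⟨x, hW₀V hx⟩ hx
  rw [hf'c ⟨x, _⟩ (Subgroup.mem_sup_right hx) y hyc]
  exact hy

set_option maxHeartbeats 800000 in
/-- **The axiomatic criterion**. -/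
theorem isInner_of_family (hp2 : p ≠ 2) (hS : IsPGroup p S) (hF : F.IsSaturated p)
    (𝒜 : Set (Subgroup Ω)) (hmem : ∀ A ∈ 𝒜, A ≤ S ∧ IsMulCommutative A) (hne : 𝒜.Nonempty)
    (hinv : ∀ Q : Subgroup Ω, Q ≤ S → (∃ A ∈ 𝒜, A ≤ Q) → ∀ α ∈ F.autGroup Q,
      ∀ x ∈ zIn 𝒜 Q, av α x ∈ zIn 𝒜 Q)
    (hrep : ∀ B : Subgroup Ω, B ≤ S → S ≤ Subgroup.normalizer (B : Set Ω) → ⁅⁅B, B⁆, B⁆ = ⊥ →
      (∃ A ∈ 𝒜, ⁅B, B⁆ ≤ A ∧ ¬ B ≤ A) →
      ∃ A ∈ 𝒜, ⁅B, B⁆ ≤ A ∧ ¬ B ≤ A ∧ B ≤ Subgroup.normalizer (A : Set Ω))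
    (h : PAt F p (zIn 𝒜 S)) : IsInner F := by
  by_contra hne'
  obtain ⟨E, hE, hsub, hEne, hmin⟩ := exists_minimal hF hne'
  obtain ⟨-, Q, hQn, hQc⟩ := constrained_of_minimal (W := wZA) (isCharPFunctor_wZA).1 (isCharPFunctor_wZA).2
    (wZA_hG hp2) hS hE hEne hmin
  have hsubA : ∀ R : Subgroup Ω, E.autGroup R ≤ F.autGroup R := fun R =>
    (Subgroup.closure_le _).2 fun α hα => Subgroup.subset_closure (hsub R hα)
  have hQsc := normal_stronglyClosed hQn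
  have hV : normalizerIn S Q = S := inf_eq_left.2 (stronglyClosed_le_normalizer hQsc)
  set V := normalizerIn S Q
  have hfn : E.IsFullyNormalized Q := ⟨hQn.1, fun R hR => by rw [eq_of_isConj_stronglyClosed hQsc hR]⟩
  obtain ⟨L, _, ι, hL⟩ := exists_model_fn hS hE hfn hQc
  haveI := hL.1
  obtain ⟨T, hT⟩ := hL.2.2.1
  obtain ⟨A₀, hA₀⟩ := hne
  set W₀ := zIn 𝒜 S with hW₀
  have hW₀S : W₀ ≤ S := (sInf_le ⟨hA₀, (hmem A₀ hA₀).1⟩ : W₀ ≤ A₀).trans (hmem A₀ hA₀).1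
  have hSW : S ≤ normalizerIn S W₀ := le_normalizerIn_zIn hS ⟨A₀, hA₀⟩ hmem hinv
  obtain ⟨hfam, hzeq⟩ := glaub_of_realized (V := V) hL.2.1 𝒜 (fun A hA => ⟨(hmem A hA).1.trans hV.ge, (hmem A hA).2⟩)
    ⟨A₀, hA₀⟩ (fun R hR hA f hf hfR x hx => by
      obtain ⟨-, -, g', hg', hgf, -⟩ := (map_normalizerSystem_iff fun _ => rfl).1 hf
      have hfE : Map E R f := (hg'.restrict le_sup_left).congr hgf
      obtain ⟨α, hα, hαf⟩ := exists_aut hfE hfR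
      have hxR : x ∈ R := by
        obtain ⟨A, hA', hAR⟩ := hA
        exact hAR ((sInf_le ⟨hA', hAR⟩ : zIn 𝒜 R ≤ A) hx)
      rw [← hαf x hxR]
      exact hinv R (hR.trans hV.le) hA α (hsubA R hα) x hx)
    (fun B hB hVB => hrep B (hB.trans hV.le) (hV.ge.trans hVB))
  rw [← hT, show zIn 𝒜 V = W₀ from congrArg (zIn 𝒜) hV] at hzeq
  rw [← hT] at hfam
  have hN := isPGroup_of_model hS hfn.1 hQc hV hL hW₀S
    (Subgroup.normalizer ((W₀.subgroupOf V).map ι : Set L)) le_rfl (pt := False) False.elim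
    fun A hWA hA α hα hi _ => h A hWA (hA.trans hSW) α (hsubA A hα) hi
  refine hEne (isInner_of_model_top hQn hV hL (hT ▸ eq_top_of_glaub hp2 _ L T _ rfl hfam hL.2.2.2 ?_))
  rw [hzeq]
  exact ((T.is_maximal' hN (hT.le.trans (range_le_normalizer_image ι
    (hV.le.trans (hSW.trans inf_le_right)))))).le

end Cfsg.Agent.Local.FS
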