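import Cfsg.Agent.Lib.Local.FS.Normal
import Cfsg.Agent.Lib.Local.FS.Sat
import Cfsg.Agent.Lib.Fusion.Cores

/-!
Invariant subsystems are the strongly invariant ones.
-/

set_option autoImplicit false

namespace Cfsg.Agent.Local.FS

open Cfsg Cfsg.FusionSystem Cfsg.Agent.Fusion

variable {Ω : Type*} [Group Ω] {S : Subgroup Ω} {F : FusionSystem S} {T : Subgroup Ω}
  {E : FusionSystem T} {p : ℕ}

/-- Conjugation of the maps of `E` by maps of `F`. -/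
def StrongInv (E : FusionSystem T) (F : FusionSystem S) : Prop :=
  ∀ (P Q : Subgroup Ω) (f g : Ω → Ω), P ≤ Q → Q ≤ T → Map E P f → (∀ x ∈ P, f x ∈ Q) → Map F Q g →
    ∃ h, Map E (im P g) h ∧ ∀ x ∈ P, h (g x) = g (f x)

/-- A map is a map of `E` followed by an automorphism of `T`. -/
def Decomp (E : FusionSystem T) (F : FusionSystem S) (P : Subgroup Ω) (f : Ω → Ω) : Prop :=
  ∃ α ∈ F.autGroup T, ∃ g, Map E P g ∧ ∀ x ∈ P, f x = av α (g x)

theorem strongInv_iff_template :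
    StrongInv E F ↔ ∀ (P Q : Subgroup Ω) (hPQ : P ≤ Q) (_ : Q ≤ T) (φ : P →* Ω) (_ : φ ∈ E.Hom P)
      (hφQ : ∀ x : P, φ x ∈ Q) (ψ : Q →* Ω) (_ : ψ ∈ F.Hom Q),
      ∃ χ ∈ E.Hom ((P.subgroupOf Q).map ψ), ∀ (x : P)
        (hx : ψ (Subgroup.inclusion hPQ x) ∈ (P.subgroupOf Q).map ψ),
        χ ⟨ψ (Subgroup.inclusion hPQ x), hx⟩ = ψ ⟨φ x, hφQ x⟩ := by
  constructor
  · intro h P Q hPQ hQ φ hφ hφQ ψ hψ
    have hm := map_of_mem hφ
    obtain ⟨k, hk, hkx⟩ := h P Q (fn φ) (fn ψ) hPQ hQ hm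
      (fun x hx => by rw [fn_apply φ hx]; exact hφQ ⟨x, hx⟩) (map_of_mem hψ)
    rw [← map_subgroupOf_eq_im hPQ (fun x => (fn_coe ψ x).symm)] at hk
    obtain ⟨χ, hχ, hχk⟩ := hk
    refine ⟨χ, hχ, fun x hx => ?_⟩
    rw [hχk]
    have h1 := hkx x x.2
    rw [fn_coe φ x, fn_apply ψ (hPQ x.2), fn_apply ψ (hφQ x)] at h1
    exact h1
  · intro h P Q f g hPQ hQ hf hfQ hg
    obtain ⟨φ, hφ, hφf⟩ := hf
    obtain ⟨ψ, hψ, hψg⟩ := hg
    obtain ⟨χ, hχ, hχx⟩ := h P Q hPQ hQ φ hφ (fun x => by rw [hφf]; exact hfQ x x.2) ψ hψ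
    refine ⟨fn χ, ?_, fun x hx => ?_⟩
    · rw [← map_subgroupOf_eq_im hPQ hψg]
      exact map_of_mem hχ
    · have hx' : ψ (Subgroup.inclusion hPQ ⟨x, hx⟩) ∈ (P.subgroupOf Q).map ψ := ⟨⟨x, hPQ hx⟩, hx, rfl⟩
      have h1 := hχx ⟨x, hx⟩ hx'
      rw [← fn_apply χ hx', hψg, hψg] at h1
      simp only [Subgroup.coe_inclusion, hφf] at h1
      exact h1

variable [Finite S]

theorem map_aut (hT : T ≤ S) {α : MulAut T} (hα : α ∈ F.autGroup T) : Map F T (av α) :=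
  map_of_mem_autGroup hT hα

theorem decomp_restrict {P R : Subgroup Ω} {f : Ω → Ω} (h : Decomp E F P f) (hRP : R ≤ P) :
    Decomp E F R f := by
  obtain ⟨α, hα, g, hg, he⟩ := h
  exact ⟨α, hα, g, hg.restrict hRP, fun x hx => he x (hRP hx)⟩

theorem decomp_comp (hT : F.StronglyClosed T) (hinv : StrongInv E F) {P Q : Subgroup Ω} {f f' : Ω → Ω}
    (hQT : Q ≤ T) (h : Decomp E F P f) (h' : Decomp E F Q f') (hm : ∀ x ∈ P, f x ∈ Q) :
    Decomp E F P (f' ∘ f) := by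
  obtain ⟨α, hα, g, hg, he⟩ := h
  obtain ⟨α', hα', g', hg', he'⟩ := h'
  obtain ⟨k, hk, hkx⟩ := hinv Q T g' (av α⁻¹) hQT le_rfl hg' (fun x hx => hg'.mem hx)
    (map_aut hT.1 (inv_mem hα))
  have hkey : ∀ x ∈ P, g x = av α⁻¹ (f x) := fun x hx => by rw [he x hx, av_inv_av α (hg.mem hx)]
  refine ⟨α' * α, mul_mem hα' hα, k ∘ g, hg.comp hk fun x hx => ?_, fun x hx => ?_⟩
  · rw [hkey x hx]; exact mem_im_of_mem (hm x hx)
  · show f' (f x) = av (α' * α) (k (g x))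
    rw [hkey x hx, hkx _ (hm x hx), av_mul _ _ (av_mem _ (hg'.mem (hm x hx))),
      av_av_inv α (hg'.mem (hm x hx)), ← he' _ (hm x hx)]

theorem decomp_inv (hT : F.StronglyClosed T) (hinv : StrongInv E F) {P : Subgroup Ω} {f f' : Ω → Ω}
    (h : Decomp E F P f) (hi : ∀ x ∈ P, f' (f x) = x) : Decomp E F (im P f) f' := by
  obtain ⟨α, hα, g, hg, he⟩ := h
  obtain ⟨g', hg', hgg, hgg', -⟩ := hg.exists_inv
  obtain ⟨k, hk, hkx⟩ := hinv (im P g) T g' (av α) hg.im_le le_rfl hg' (fun x hx => hg'.mem hx)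
    (map_aut hT.1 hα)
  have him : im (im P g) (av α) = im P f := by
    rw [← hg.im_comp]
    exact im_congr fun x hx => (he x hx).symm
  rw [him] at hk
  refine ⟨α⁻¹, inv_mem hα, k, hk, fun y hy => ?_⟩
  obtain ⟨z, hz, rfl⟩ := ((map_aut hT.1 hα).restrict hg.im_le).mem_im.1 (him.ge hy)
  obtain ⟨x, hx, rfl⟩ := hg.mem_im.1 hz
  rw [hkx _ hz, hgg x hx, av_inv_av α (hg.le hx), ← he x hx, hi x hx]

theorem decomp_of_map {P : Subgroup Ω} {g : Ω → Ω} (hg : Map E P g) : Decomp E F P g :=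
  ⟨1, one_mem _, g, hg, fun x hx => (av_one (hg.mem hx)).symm⟩

variable [Fact p.Prime]

theorem decomp_all (hS : IsPGroup p S) (hF : F.IsSaturated p) (hE : E.IsSubsystemOf F) (hT : F.StronglyClosed T)
    (hinv : StrongInv E F) : ∀ (P : Subgroup Ω) (f : Ω → Ω), P ≤ T → Map F P f → Decomp E F P f := by
  suffices hgen : ∀ n, ∀ (P : Subgroup Ω) (f : Ω → Ω), Nat.card T - Nat.card P = n → P ≤ T → Map F P f →
      Decomp E F P f from fun P f h1 h2 => hgen _ P f rfl h1 h2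
  intro n
  induction n using Nat.strong_induction_on with
  | _ n ih =>
  intro P f hn hPT hf
  haveI := finite_of_le hT.1
  rcases eq_or_lt_of_le hPT with rfl | hlt
  · obtain ⟨α, hα, hαf⟩ := exists_aut hf (Subgroup.eq_of_le_of_card_ge
      (im_le_iff.2 fun x hx => stronglyClosed_map hT hf hx hx) hf.card_im.ge)
    exact ⟨α, hα, id, map_id le_rfl, fun x hx => (hαf x hx).symm⟩
  obtain ⟨Q, hPQ, hQn⟩ := exists_fullyNormalized (F := F) (hPT.trans hT.1)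
  have hQS := hQn.1
  haveI := mulAut_finite_of_le hQS
  have hQT : Q ≤ T := by
    obtain ⟨g, hg, rfl⟩ := isConj_iff.1 hPQ
    exact im_le_iff.2 fun x hx => stronglyClosed_map hT hg hx (hPT hx)
  have hcard : Nat.card Q = Nat.card P := (isConj_card hPQ).symm
  have hTn : T ≤ S := hT.1
  -- bigger subgroups
  have hbig : ∀ (R : Subgroup Ω) (g : Ω → Ω), R ≤ T → Nat.card P < Nat.card R → Map F R g →
      Decomp E F R g := fun R g hR hc hg => by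
    have : Nat.card R ≤ Nat.card T := Subgroup.card_le_of_le hR
    exact ih _ (by omega) R g rfl hR hg
  -- conjugates reach `Q` by decomposable maps
  have hto : ∀ X : Subgroup Ω, X ≤ T → F.IsConj P X → ∃ h, Map F X h ∧ im X h = Q ∧ Decomp E F X h := by
    intro X hXT hX
    obtain ⟨h, hh, -, hhi⟩ := exists_map_normalizer_fn hS hF hQn (isConj_trans (isConj_symm hX) hPQ)
    have hXlt : X < T := lt_of_le_of_ne hXT fun e => by
      have h1 := isConj_card hX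
      rw [e] at h1
      exact hlt.ne (Subgroup.eq_of_le_of_card_ge hPT h1.ge)
    have hgrow := lt_inf_normalizer hS hXlt hTn
    have hR : T ⊓ Subgroup.normalizer (X : Set Ω) ≤ normalizerIn S X := inf_le_inf_right _ hTn
    refine ⟨h, hh.restrict (le_normalizerIn (hXT.trans hTn)), hhi,
      decomp_restrict (hbig _ h inf_le_left ?_ (hh.restrict hR)) hgrow.le⟩
    rw [isConj_card hX]
    exact card_lt_of_lt hgrow (inf_le_left.trans hTn)
  -- automorphisms of `Q`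
  have hEQ : E.autGroup Q ≤ F.autGroup Q := Subgroup.closure_mono fun α (hα : _ ∈ E.Hom Q) => hE Q hα
  have haut : ∀ β ∈ F.autGroup Q, Decomp E F Q (av β) := by
    intro β hβ
    haveI : Finite T := finite_of_le hTn
    have hN : ∀ γ ∈ F.autGroup Q, ∀ ε ∈ E.autGroup Q, γ * ε * γ⁻¹ ∈ E.autGroup Q := by
      intro γ hγ ε hε
      obtain ⟨k, hk, hkx⟩ := hinv Q Q (av ε) (av γ) le_rfl hQT (map_of_mem_autGroup hQT hε)
        (fun x hx => av_mem ε hx) (map_of_mem_autGroup hQS hγ)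
      rw [im_av] at hk
      refine mem_autGroup_of_map (hk.congr fun y hy => ?_)
      have h1 := hkx _ (av_mem γ⁻¹ hy)
      rw [av_av_inv γ hy] at h1
      rw [h1, av_mul _ _ hy, av_mul _ _ (av_mem γ⁻¹ hy)]
    obtain ⟨U, hU⟩ : ∃ U, U = autInducedBy S Q ⊓ E.autGroup Q := ⟨_, rfl⟩
    have hUs : SylIn p U (E.autGroup Q) := by
      rw [hU]
      refine (fa_iff.1 (fc_fa_of_fn hS hF hQn).2).2.inf_normal hEQ fun γ hγ => ?_
      refine Subgroup.mem_normalizer_iff.2 fun ε => ⟨hN γ hγ ε, fun h => ?_⟩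
      simpa [mul_assoc] using hN γ⁻¹ (inv_mem hγ) _ h
    obtain ⟨ε, hε, hle⟩ := hUs.conj_le (isPGroup_cj hUs.isPGroup β) (by
      rintro _ ⟨u, hu, rfl⟩
      exact hN β hβ u (hUs.le hu))
    rw [cj_cj] at hle
    obtain ⟨γ, hγd⟩ : ∃ γ, γ = ε * β := ⟨_, rfl⟩
    rw [← hγd] at hle
    have hγ : γ ∈ F.autGroup Q := hγd ▸ mul_mem (hEQ hε) hβ
    have hm := map_of_mem_autGroup hQS hγ
    obtain ⟨G, hG, hGγ⟩ := (receptive_iff.1
      (receptive_of_fc hS hF (fc_fa_of_fn hS hF hQn).1)).2 Q _ hm (im_av γ)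
    have hQlt : Q < T := lt_of_le_of_ne hQT fun e => by
      rw [e] at hcard
      exact hlt.ne (Subgroup.eq_of_le_of_card_ge hPT hcard.le)
    have hgrow := lt_inf_normalizer hS hQlt hTn
    have hRN : T ⊓ Subgroup.normalizer (Q : Set Ω) ≤ Nf S Q (av γ) := by
      rintro s ⟨hsT, hsn⟩
      obtain ⟨c, hc, hcS⟩ := exists_aut_conj hsn
      have hcU : c ∈ U := hU ▸ ⟨hcS S (hTn hsT), mem_autGroup_of_map
        ((map_conjBy hQT hsT).congr fun x hx => (hc x hx).symm)⟩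
      obtain ⟨h, hh, hhc⟩ := mem_autInducedBy.1 ((hU ▸ hle (conj_mem_cj hcU) :
        γ * c * γ⁻¹ ∈ autInducedBy S Q ⊓ E.autGroup Q)).1
      refine ⟨hTn hsT, hsn, h, hh, fun x hx => ?_⟩
      have h1 := hhc _ (av_mem γ hx)
      rw [av_mul _ _ (av_mem γ hx), av_inv_av γ hx, av_mul _ _ hx, hc x hx] at h1
      exact h1
    have hd := decomp_restrict (hbig _ G inf_le_left (hcard ▸ card_lt_of_lt hgrow (inf_le_left.trans hTn))
      (hG.restrict hRN)) hgrow.le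
    have hd' := decomp_comp hT hinv hQT hd
      (decomp_of_map (F := F) (map_of_mem_autGroup hQT (inv_mem hε))) (fun x hx => hGγ x hx ▸ av_mem γ hx)
    obtain ⟨α, hα, g, hg, he⟩ := hd'
    refine ⟨α, hα, g, hg, fun x hx => ?_⟩
    rw [← he x hx, Function.comp_apply, hGγ x hx, ← av_mul _ _ hx, hγd, inv_mul_cancel_left]
  have hX2 : im P f ≤ T := im_le_iff.2 fun x hx => stronglyClosed_map hT hf hx (hPT hx)
  obtain ⟨h₁, hh₁, hi₁, hd₁⟩ := hto P hPT (isConj_refl (hPT.trans hTn))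
  obtain ⟨h₂, hh₂, hi₂, hd₂⟩ := hto (im P f) hX2 (isConj_iff.2 ⟨f, hf, rfl⟩)
  obtain ⟨k₁, hk₁, hk₁h, hhk₁, -⟩ := hh₁.exists_inv
  obtain ⟨k₂, hk₂, hk₂h, -, -⟩ := hh₂.exists_inv
  rw [hi₁] at hk₁ hhk₁
  have hfk : Map F Q (f ∘ k₁) := hk₁.comp hf fun y hy => (hhk₁ y hy).2
  have hfkm : ∀ y ∈ Q, (f ∘ k₁) y ∈ im P f := fun y hy => mem_im_of_mem (hhk₁ y hy).2
  have hb : Map F Q (h₂ ∘ f ∘ k₁) := hfk.comp hh₂ hfkm
  haveI := finite_of_le hQS
  obtain ⟨β, hβ, hβe⟩ := exists_aut hb (Subgroup.eq_of_le_of_card_ge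
    (im_le_iff.2 fun y hy => hi₂.le (mem_im_of_mem (hfkm y hy))) hb.card_im.ge)
  have hd2 := decomp_inv hT hinv hd₂ hk₂h
  rw [hi₂] at hd2
  have := decomp_comp hT hinv hQT (decomp_comp hT hinv hQT hd₁ (haut β hβ)
    (fun x hx => hi₁.le (mem_im_of_mem hx))) hd2 (fun x hx => av_mem β (hi₁.le (mem_im_of_mem hx)))
  obtain ⟨α, hα, g, hg, he⟩ := this
  refine ⟨α, hα, g, hg, fun x hx => ?_⟩
  rw [← he x hx]
  show f x = k₂ (av β (h₁ x))
  rw [hβe _ (hi₁.le (mem_im_of_mem hx)), Function.comp_apply, Function.comp_apply, hk₁h x hx,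
    hk₂h _ (mem_im_of_mem hx)]

theorem isInvariantIn_iff (hS : IsPGroup p S) (hF : F.IsSaturated p) (hE : E.IsSubsystemOf F)
    (hT : F.StronglyClosed T) : E.IsInvariantIn F ↔ StrongInv E F := by
  constructor
  · rintro ⟨-, -, h1, h2⟩ P Q f g hPQ hQ hf hfQ hg
    obtain ⟨ψ, hψ, hψg⟩ := id hg
    obtain ⟨α, hα, φ₀, hφ₀, hdec⟩ := h2 Q hQ ψ hψ
    have hg₀ := map_of_mem hφ₀
    have hgd : ∀ y ∈ Q, g y = av α (fn φ₀ y) := fun y hy => by
      have hy' : φ₀ ⟨y, hy⟩ ∈ T := by rw [← fn_apply φ₀ hy]; exact hg₀.mem hy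
      rw [← hψg ⟨y, hy⟩, hdec ⟨y, hy⟩ hy', fn_apply φ₀ hy, av_apply α hy']
    obtain ⟨g₁, hg₁, hg₁g, hgg₁, -⟩ := (hg₀.restrict hPQ).exists_inv
    have hk : Map E (im P (fn φ₀)) (fn φ₀ ∘ f ∘ g₁) :=
      (hg₁.comp hf fun y hy => (hgg₁ y hy).2).comp hg₀ fun y hy => hfQ _ (hgg₁ y hy).2
    obtain ⟨k', hk', hk'e⟩ := id hk
    obtain ⟨χ, hχ, hχx⟩ := h1 (im P (fn φ₀)) (hg₀.restrict hPQ).im_le k' hk' α hα
    refine ⟨fn χ, ?_, fun x hx => ?_⟩
    · have e : ((im P (fn φ₀)).subgroupOf T).map (T.subtype.comp α.toMonoidHom) = im P g := by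
        rw [map_subgroupOf_eq_im (hg₀.restrict hPQ).im_le (fun y => (av_coe α y).symm),
          ← (hg₀.restrict hPQ).im_comp]
        exact im_congr fun x hx => (hgd x (hPQ hx)).symm
      rw [← e]
      exact map_of_mem hχ
    · have hx0 : fn φ₀ x ∈ im P (fn φ₀) := mem_im_of_mem hx
      have hxT := (hg₀.restrict hPQ).im_le hx0
      have hkT : k' ⟨_, hx0⟩ ∈ T := by rw [hk'e]; exact hk.mem hx0
      have hαx : ((α ⟨fn φ₀ x, hxT⟩ : T) : Ω) ∈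
          ((im P (fn φ₀)).subgroupOf T).map (T.subtype.comp α.toMonoidHom) := ⟨⟨_, hxT⟩, hx0, rfl⟩
      have h := hχx ⟨_, hx0⟩ hkT hαx
      rw [← fn_apply χ hαx, ← av_apply α hxT, ← hgd x (hPQ hx), ← av_apply α hkT, hk'e] at h
      rw [h]
      show av α (fn φ₀ (f (g₁ (fn φ₀ x)))) = g (f x)
      rw [hg₁g x hx, ← hgd _ (hfQ x hx)]
  · intro hinv
    refine ⟨hE, hT, fun P hPT φ hφ α hα => ?_, fun P hPT φ hφ => ?_⟩
    · obtain ⟨χ, hχ, hχx⟩ := strongInv_iff_template.1 hinv P T hPT le_rfl φ hφ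
        (fun x => (E.le_of_mem hφ).2 x) (T.subtype.comp α.toMonoidHom)
        ((map_aut hT.1 hα).mem_hom fun x => (av_coe α x).symm)
      exact ⟨χ, hχ, fun x hφx hαx => hχx x hαx⟩
    · obtain ⟨α, hα, g, hg, he⟩ := decomp_all hS hF hE hT hinv P _ hPT (map_of_mem hφ)
      obtain ⟨φ₀, hφ₀, hφ₀g⟩ := id hg
      refine ⟨α, hα, φ₀, hφ₀, fun x hx => ?_⟩
      rw [← fn_coe φ x, he x x.2, ← hφ₀g x, av_apply α hx]

end Cfsg.Agent.Local.FS
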