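import Cfsg.Agent.Lib.Local.FS.Systems

set_option autoImplicit false

namespace Cfsg.Agent.Local.FS

open Cfsg Cfsg.FusionSystem Cfsg.Agent.Fusion

variable {Ω : Type*} [Group Ω] {S : Subgroup Ω} {F : FusionSystem S}
  {P Q R P' Q' R' : Subgroup Ω} {f g : Ω → Ω} {p : ℕ}

/-- The automorphisms of `R` in the system preserving `Q` and `P`. -/
def stab (F : FusionSystem S) (R Q P : Subgroup Ω) : Subgroup (MulAut R) where
  carrier := {α | α ∈ F.autGroup R ∧ ∀ x ∈ R, (av α x ∈ Q ↔ x ∈ Q) ∧ (av α x ∈ P ↔ x ∈ P)}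
  one_mem' := ⟨Subgroup.one_mem _, fun x hx => by rw [av_one hx]; exact ⟨Iff.rfl, Iff.rfl⟩⟩
  mul_mem' := by
    rintro α β ⟨hα, ha⟩ ⟨hβ, hb⟩
    refine ⟨Subgroup.mul_mem _ hα hβ, fun x hx => ?_⟩
    rw [av_mul _ _ hx]
    exact ⟨(ha _ (av_mem β hx)).1.trans (hb x hx).1, (ha _ (av_mem β hx)).2.trans (hb x hx).2⟩
  inv_mem' := by
    rintro α ⟨hα, ha⟩
    refine ⟨Subgroup.inv_mem _ hα, fun x hx => ?_⟩
    have h := ha _ (av_mem α⁻¹ hx)
    rw [av_av_inv α hx] at h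
    exact ⟨h.1.symm, h.2.symm⟩

theorem sylIn_map_equiv {G H : Type*} [Group G] [Group H] (e : G ≃* H) {T A : Subgroup G}
    (h : SylIn p T A) : SylIn p (T.map e.toMonoidHom) (A.map e.toMonoidHom) :=
  ⟨Subgroup.map_mono h.le, h.isPGroup.map _, by
    rw [Subgroup.relIndex_map_map_of_injective _ _ e.injective]; exact h.not_dvd⟩

theorem Map.mem_im_iff (hg : Map F R g) (hQR : Q ≤ R) (hi : im Q g = Q') {x : Ω} (hx : x ∈ R) :
    g x ∈ Q' ↔ x ∈ Q := by
  refine ⟨fun h => ?_, fun h => hi.le (mem_im_of_mem h)⟩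
  obtain ⟨y, hy, he⟩ := (hg.restrict hQR).mem_im.1 (hi.ge h)
  exact hg.injOn (hQR hy) hx he ▸ hy

theorem map_stab [Finite S] (hg : Map F R g) (hi : im R g = R') (hQR : Q ≤ R) (hPR : P ≤ R)
    (hQ : im Q g = Q') (hP : im P g = P') {e : R ≃* R'} (he : ∀ x : R, (e x : Ω) = g x) :
    (stab F R Q P).map (MulAut.congr e).toMonoidHom = stab F R' Q' P' := by
  have key : ∀ α : MulAut R, MulAut.congr e α ∈ stab F R' Q' P' ↔ α ∈ stab F R Q P := by
    intro α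
    refine and_congr (congr_mem_autGroup_iff hg hi he) ⟨fun h x hx => ?_, fun h y hy => ?_⟩
    · have h1 := h (g x) (hi.le (mem_im_of_mem hx))
      rwa [av_congr_apply he α hx, hg.mem_im_iff hQR hQ hx, hg.mem_im_iff hQR hQ (av_mem α hx),
        hg.mem_im_iff hPR hP hx, hg.mem_im_iff hPR hP (av_mem α hx)] at h1
    · obtain ⟨x, hx, rfl⟩ := hg.mem_im.1 (hi.ge hy)
      rw [av_congr_apply he α hx, hg.mem_im_iff hQR hQ hx, hg.mem_im_iff hQR hQ (av_mem α hx),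
        hg.mem_im_iff hPR hP hx, hg.mem_im_iff hPR hP (av_mem α hx)]
      exact h x hx
  ext β
  rw [Subgroup.mem_map]
  refine ⟨fun ⟨α, hα, hb⟩ => hb ▸ (key α).2 hα, fun hβ => ?_⟩
  refine ⟨(MulAut.congr e).symm β, ?_, (MulAut.congr e).apply_symm_apply β⟩
  rw [← key, MulEquiv.apply_symm_apply]
  exact hβ

variable [Finite S] [Fact p.Prime]

/-- A well placed conjugate of `P` in the normaliser system. -/
theorem exists_good (hS : IsPGroup p S) (hF : F.IsSaturated p) (hQ : F.IsFullyNormalized Q)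
    (hP : P ≤ normalizerIn S Q) :
    ∃ P', P' ≤ normalizerIn S Q ∧ (normSys F hQ.1).IsConj P P' ∧ F.IsFullyCentralized (P' ⊔ Q) ∧
      SylIn p (autInducedBy S (P' ⊔ Q) ⊓ stab F (P' ⊔ Q) Q P') (stab F (P' ⊔ Q) Q P') := by
  have hPS : P ≤ S := hP.trans inf_le_left
  have hRS : P ⊔ Q ≤ S := sup_le hPS hQ.1
  obtain ⟨R₁, hR₁, hfn⟩ := exists_fullyNormalized (F := F) hRS
  obtain ⟨g₀, hg₀, hg₀i⟩ := isConj_iff.1 hR₁
  haveI := mulAut_finite_of_le hfn.1
  obtain ⟨T, hT⟩ := exists_sylIn (p := p) (stab F R₁ (im Q g₀) (im P g₀))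
  obtain ⟨χ, hχ, hle⟩ := (fa_iff.1 (fc_fa_of_fn hS hF hfn).2).2.conj_le hT.isPGroup
    (hT.le.trans fun a ha => ha.1)
  have hχm := map_of_mem_autGroup hfn.1 hχ
  set g := av χ ∘ g₀ with hgdef
  have hg : Map F (P ⊔ Q) g := hg₀.comp hχm fun x hx => hg₀i.le (mem_im_of_mem hx)
  have hgi : im (P ⊔ Q) g = R₁ := by rw [hg₀.im_comp, hg₀i, im_av]
  obtain ⟨eχ, heχ⟩ := exists_equiv hχm (im_av χ)
  have hQ₁ : im Q g = im (im Q g₀) (av χ) := (hg₀.restrict le_sup_right).im_comp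
  have hP₁ : im P g = im (im P g₀) (av χ) := (hg₀.restrict le_sup_left).im_comp
  have hsyl : SylIn p (autInducedBy S R₁ ⊓ stab F R₁ (im Q g) (im P g)) (stab F R₁ (im Q g) (im P g)) := by
    have h1 := sylIn_map_equiv (MulAut.congr eχ) hT
    rw [map_stab hχm (im_av χ) ((im_mono le_sup_right).trans hg₀i.le) ((im_mono le_sup_left).trans hg₀i.le)
      hQ₁.symm hP₁.symm heχ] at h1
    refine h1.of_card_ge ((isPGroup_autS hS).to_le inf_le_left) inf_le_right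
      (Subgroup.card_le_of_le (le_inf ?_ h1.le))
    rintro _ ⟨β, hβ, rfl⟩
    have h2 : (MulAut.congr eχ).toMonoidHom β = χ * β * χ⁻¹ := aut_ext fun y hy => by
      show av (MulAut.congr eχ β) y = _
      conv_lhs => rw [← av_av_inv χ hy]
      rw [av_congr_apply heχ β (av_mem _ hy), av_mul _ _ hy, av_mul _ _ (av_mem _ hy)]
    rw [h2]
    exact hle (conj_mem_cj hβ)
  have hQR₁ : im Q g ≤ R₁ := (im_mono le_sup_right).trans hgi.le
  have hPR₁ : im P g ≤ R₁ := (im_mono le_sup_left).trans hgi.le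
  have hconjQ : F.IsConj (im Q g) Q := isConj_symm (isConj_iff.2 ⟨g, hg.restrict le_sup_right, rfl⟩)
  obtain ⟨k, hk, hkm, hkQ⟩ := exists_map_normalizer_fn hS hF hQ hconjQ
  have hR₁N : R₁ ≤ normalizerIn S (im Q g) := by
    intro y hy
    obtain ⟨x, hx, rfl⟩ := hg.mem_im.1 (hgi.ge hy)
    refine hg.mem_normalizer le_sup_right hx ?_
    exact sup_le (hP.trans inf_le_right) Subgroup.le_normalizer hx
  have hkR := hk.restrict hR₁N
  have hkg : Map F (P ⊔ Q) (k ∘ g) := hg.comp hkR fun x hx => hgi.le (mem_im_of_mem hx)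
  have hkgQ : im Q (k ∘ g) = Q := by rw [(hg.restrict le_sup_right).im_comp, hkQ]
  have hkgP : im P (k ∘ g) = im (im P g) k := (hg.restrict le_sup_left).im_comp
  set P' := im (im P g) k with hP'def
  have hkR₁ : im R₁ k = P' ⊔ Q := by
    rw [← hgi, ← hg.im_comp]
    refine le_antisymm (hkg.im_sup_le.trans (sup_le_sup hkgP.le hkgQ.le)) (sup_le ?_ ?_)
    · exact hkgP.ge.trans (im_mono le_sup_left)
    · exact hkgQ.ge.trans (im_mono le_sup_right)
  have hP'N : P' ≤ normalizerIn S Q :=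
    im_le_iff.2 fun x hx => hkm x (hR₁N (hPR₁ hx))
  refine ⟨P', hP'N, ?_, ?_, ?_⟩
  · obtain ⟨φ, hφ, he⟩ := hkg.restrict (le_sup_left (b := Q))
    have hm : φ ∈ (normSys F hQ.1).Hom P := by
      refine mem_normalizerHom.2 ⟨hP, fun x => ?_, k ∘ g, hkg, he, hkgQ⟩
      rw [he]
      exact hP'N (hkgP.le (mem_im_of_mem x.2))
    exact isConj_iff.2 ⟨k ∘ g, (map_of_mem hm).congr fun x hx => (fn_apply φ hx).trans (he _), hkgP⟩
  · refine ⟨sup_le (hP'N.trans inf_le_left) hQ.1, fun R hR => ?_⟩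
    refine ((fc_fa_of_fn hS hF hfn).1.2 R (isConj_trans (isConj_iff.2 ⟨k, hkR, hkR₁⟩) hR)).trans ?_
    rw [← hkR₁]
    refine card_centralizerIn_le_of_map hk hR₁N fun c hc => ?_
    refine centralizerIn_le_normalizerIn (mem_centralizerIn.2 ⟨(mem_centralizerIn.1 hc).1, fun y hy => ?_⟩)
    exact (mem_centralizerIn.1 hc).2 y (hQR₁ hy)
  · haveI := mulAut_finite_of_le (show P' ⊔ Q ≤ S from sup_le (hP'N.trans inf_le_left) hQ.1)
    obtain ⟨ek, hek⟩ := exists_equiv hkR hkR₁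
    have h1 := sylIn_map_equiv (MulAut.congr ek) hsyl
    rw [map_stab hkR hkR₁ hQR₁ hPR₁ hkQ rfl hek] at h1
    refine h1.of_card_ge ((isPGroup_autS hS).to_le inf_le_left) inf_le_right
      (Subgroup.card_le_of_le (le_inf ?_ h1.le))
    rintro _ ⟨β, ⟨hβS, hβ⟩, rfl⟩
    obtain ⟨s, hs, hsβ⟩ := mem_autInducedBy.1 hβS
    have hsN : s ∈ normalizerIn S (im Q g) := by
      refine ⟨hs, mem_normalizer_of_conj_mem (hQR₁.trans hfn.1) fun y hy => ?_⟩
      rw [← hsβ y (hQR₁ hy)]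
      exact (hβ.2 y (hQR₁ hy)).1.2 hy
    refine mem_autInducedBy.2 ⟨k s, hk.mem hsN, fun y hy => ?_⟩
    obtain ⟨x, hx, rfl⟩ := hkR.mem_im.1 (hkR₁.ge hy)
    show av (MulAut.congr ek β) (k x) = _
    rw [av_congr_apply hek β hx, hsβ x hx, hk.map_conj hsN (hR₁N hx)]

/-- A well placed subgroup is receptive in the normaliser system. -/
theorem receptive_of_good (hS : IsPGroup p S) (hF : F.IsSaturated p) (hQ : Q ≤ S)
    (hP : P ≤ normalizerIn S Q) (hfc : F.IsFullyCentralized (P ⊔ Q))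
    (hsyl : SylIn p (autInducedBy S (P ⊔ Q) ⊓ stab F (P ⊔ Q) Q P) (stab F (P ⊔ Q) Q P)) :
    (normSys F hQ).IsReceptive P := by
  haveI := mulAut_finite_of_le hfc.1
  refine receptive_iff.2 ⟨hP, fun X f hf hi => ?_⟩
  obtain ⟨φ, hφ, hφf⟩ := id hf
  obtain ⟨hX, -, g, hg, hφg, hgQ⟩ := mem_normalizerHom.1 hφ
  have hgX : ∀ x ∈ X, g x = f x := fun x hx => (hφg ⟨x, hx⟩).symm.trans (hφf _)
  have hgP : im X g = P := (im_congr hgX).trans hi
  have hgi : im (X ⊔ Q) g = P ⊔ Q := le_antisymm (hg.im_sup_le.trans (sup_le_sup hgP.le hgQ.le))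
    (sup_le (hgP.ge.trans (im_mono le_sup_left)) (hgQ.ge.trans (im_mono le_sup_right)))
  obtain ⟨e, he⟩ := exists_equiv hg hgi
  haveI := mulAut_finite_of_le (show X ⊔ Q ≤ S from hg.le)
  set N' := Nf (normalizerIn S Q) X f with hN'def
  have hN'S : N' ≤ S := fun a ha => ha.1.1
  have hN'n : ∀ a ∈ N', a ∈ Subgroup.normalizer ((X ⊔ Q : Subgroup Ω) : Set Ω) := by
    intro a ha
    refine mem_normalizer_of_conj_mem hg.le fun y hy => ?_
    have hle : X ⊔ Q ≤ (X ⊔ Q).comap (MulAut.conj a).toMonoidHom := by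
      refine sup_le (fun y hy => ?_) fun y hy => ?_ <;> rw [Subgroup.mem_comap]
      · exact Subgroup.mem_sup_left (conj_mem_of_normalizer ha.2.1 hy)
      · exact Subgroup.mem_sup_right (conj_mem_of_normalizer ha.1.2 hy)
    exact hle hy
  have hmiQ : ∀ x ∈ X ⊔ Q, (g x ∈ Q ↔ x ∈ Q) := fun x hx => hg.mem_im_iff le_sup_right hgQ hx
  have hmiP : ∀ x ∈ X ⊔ Q, (g x ∈ P ↔ x ∈ X) := fun x hx => hg.mem_im_iff le_sup_left hgP hx
  let H : Subgroup (MulAut ↥(P ⊔ Q)) :=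
    { carrier := {β | β ∈ stab F (P ⊔ Q) Q P ∧ ∃ h ∈ normalizerIn S Q, ∀ y ∈ P, av β y = h * y * h⁻¹}
      one_mem' := ⟨Subgroup.one_mem _, 1, Subgroup.one_mem _, fun y hy => by
        rw [av_one (Subgroup.mem_sup_left hy)]; simp⟩
      mul_mem' := by
        rintro a b ⟨ha, h, hh, hah⟩ ⟨hb, k, hk, hbk⟩
        refine ⟨Subgroup.mul_mem _ ha hb, h * k, Subgroup.mul_mem _ hh hk, fun y hy => ?_⟩
        have hy' : y ∈ P ⊔ Q := Subgroup.mem_sup_left hy
        rw [av_mul _ _ hy', hah _ ((hb.2 y hy').2.2 hy), hbk y hy]; group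
      inv_mem' := by
        rintro a ⟨ha, h, hh, hah⟩
        refine ⟨Subgroup.inv_mem _ ha, h⁻¹, Subgroup.inv_mem _ hh, fun y hy => ?_⟩
        have hy' : y ∈ P ⊔ Q := Subgroup.mem_sup_left hy
        have h1 := hah _ (((Subgroup.inv_mem _ ha).2 y hy').2.2 hy)
        rw [av_av_inv a hy'] at h1
        calc av a⁻¹ y = h⁻¹ * (h * av a⁻¹ y * h⁻¹) * h⁻¹⁻¹ := by group
          _ = _ := by rw [← h1] }
  have hsylH : SylIn p (autInducedBy S (P ⊔ Q) ⊓ stab F (P ⊔ Q) Q P) H := by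
    refine hsyl.mono (fun β hβ => ⟨hβ.2, ?_⟩) fun β hβ => hβ.1
    obtain ⟨s, hs, hsβ⟩ := mem_autInducedBy.1 hβ.1
    refine ⟨s, ⟨hs, mem_normalizer_of_conj_mem hQ fun y hy => ?_⟩, fun y hy => hsβ y (Subgroup.mem_sup_left hy)⟩
    rw [← hsβ y (Subgroup.mem_sup_right hy)]
    exact (hβ.2.2 y (Subgroup.mem_sup_right hy)).1.2 hy
  obtain ⟨χ, ⟨⟨hχ, hχs⟩, h₀, hh₀, hχh₀⟩, hle⟩ := hsylH.conj_le
    (Q := (autInducedBy N' (X ⊔ Q)).map (MulAut.congr e).toMonoidHom)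
    (((isPGroup_autS (P := X ⊔ Q) hS).to_le fun α hα => by
      obtain ⟨a, ha, h⟩ := mem_autInducedBy.1 hα
      exact mem_autInducedBy.2 ⟨a, hN'S ha, h⟩).map _)
    (by
      rintro _ ⟨α, hα, rfl⟩
      obtain ⟨a, ha, haα⟩ := mem_autInducedBy.1 hα
      refine ⟨⟨congr_mem_autGroup hg hgi he (autInducedBy_le_autGroup hg.le
        (mem_autInducedBy.2 ⟨a, hN'S ha, haα⟩)), fun y hy => ?_⟩, ?_⟩
      · obtain ⟨x, hx, rfl⟩ := hg.mem_im.1 (hgi.ge hy)
        show (av (MulAut.congr e α) (g x) ∈ Q ↔ _) ∧ (av (MulAut.congr e α) (g x) ∈ P ↔ _)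
        rw [av_congr_apply he α hx, haα x hx, hmiQ x hx, hmiP x hx,
          hmiQ _ (conj_mem_of_normalizer (hN'n a ha) hx), hmiP _ (conj_mem_of_normalizer (hN'n a ha) hx)]
        exact ⟨(Subgroup.mem_normalizer_iff.1 ha.1.2 x).symm, (Subgroup.mem_normalizer_iff.1 ha.2.1 x).symm⟩
      · obtain ⟨-, -, h, hh, hah⟩ := id ha
        refine ⟨h, hh, fun y hy => ?_⟩
        obtain ⟨x, hx, rfl⟩ := (hg.restrict le_sup_left).mem_im.1 (hgP.ge hy)
        show av (MulAut.congr e α) (g x) = _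
        rw [av_congr_apply he α (Subgroup.mem_sup_left hx), haα x (Subgroup.mem_sup_left hx),
          hgX _ (conj_mem_of_normalizer ha.2.1 hx), hah x hx, hgX x hx])
  have hh₀n : ∀ y ∈ P ⊔ Q, h₀⁻¹ * y * h₀ ∈ P ⊔ Q := by
    intro y hy
    have hle' : P ⊔ Q ≤ (P ⊔ Q).comap (MulAut.conj h₀⁻¹).toMonoidHom := by
      refine sup_le (fun y hy => ?_) fun y hy => ?_ <;>
        rw [Subgroup.mem_comap, show (MulAut.conj h₀⁻¹).toMonoidHom y = h₀⁻¹ * y * h₀⁻¹⁻¹ from rfl]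
      · refine Subgroup.mem_sup_left ?_
        have hy' : y ∈ P ⊔ Q := Subgroup.mem_sup_left hy
        have hm : av χ⁻¹ y ∈ P := (hχs _ (av_mem _ hy')).2.1 (by rwa [av_av_inv χ hy'])
        rw [← av_av_inv χ hy', hχh₀ _ hm]
        simpa [mul_assoc] using hm
      · exact Subgroup.mem_sup_right (conj_mem_of_normalizer (Subgroup.inv_mem _ hh₀.2) hy)
    simpa using hle' hy
  have hgm : ∀ x ∈ X ⊔ Q, g x ∈ P ⊔ Q := fun x hx => hgi.le (mem_im_of_mem hx)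
  set g' := (fun y => h₀⁻¹ * y * h₀⁻¹⁻¹) ∘ av χ ∘ g with hg'def
  have hg' : Map F (X ⊔ Q) g' :=
    (hg.comp (map_of_mem_autGroup hfc.1 hχ) hgm).comp (map_conjBy hfc.1 (S.inv_mem hh₀.1))
      fun x hx => av_mem χ (hgm x hx)
  have hg'm : ∀ x ∈ X ⊔ Q, g' x ∈ P ⊔ Q := fun x hx => by
    simpa [hg'def] using hh₀n _ (av_mem χ (hgm x hx))
  have hg'i : im (X ⊔ Q) g' = P ⊔ Q := by
    haveI := finite_of_le hfc.1
    refine Subgroup.eq_of_le_of_card_ge (im_le_iff.2 hg'm) ?_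
    rw [hg'.card_im, ← hg.card_im, hgi]
  have hg'X : ∀ x ∈ X, g' x = f x := fun x hx => by
    show h₀⁻¹ * av χ (g x) * h₀⁻¹⁻¹ = f x
    rw [hχh₀ _ ((hmiP x (Subgroup.mem_sup_left hx)).2 hx), hgX x hx]
    group
  obtain ⟨G, hG, hGg⟩ := (receptive_iff.1 (receptive_of_fc hS hF hfc)).2 _ g' hg' hg'i
  have hN'le : N' ≤ Nf S (X ⊔ Q) g' := by
    intro a ha
    obtain ⟨α, hα, hαS⟩ := exists_aut_conj (P := X ⊔ Q) (hN'n a ha)
    obtain ⟨s, hs, hsα⟩ := mem_autInducedBy.1 (hle (conj_mem_cj (g := χ) ⟨α, hαS _ ha, rfl⟩)).1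
    refine ⟨hN'S ha, hN'n a ha, h₀⁻¹ * s * h₀⁻¹⁻¹,
      S.mul_mem (S.mul_mem (S.inv_mem hh₀.1) hs) (S.inv_mem (S.inv_mem hh₀.1)), fun x hx => ?_⟩
    have h1 := hsα _ (av_mem χ (hgm x hx))
    rw [av_mul _ _ (av_mem χ (hgm x hx)), av_inv_av χ (hgm x hx), av_mul _ _ (hgm x hx),
      show ((MulAut.congr e).toMonoidHom α : MulAut ↥(P ⊔ Q)) = MulAut.congr e α from rfl,
      av_congr_apply he α hx, hα x hx] at h1
    show h₀⁻¹ * av χ (g (a * x * a⁻¹)) * h₀⁻¹⁻¹ =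
      h₀⁻¹ * s * h₀⁻¹⁻¹ * (h₀⁻¹ * av χ (g x) * h₀⁻¹⁻¹) * (h₀⁻¹ * s * h₀⁻¹⁻¹)⁻¹
    rw [h1]; group
  have hQN : Q ≤ Nf S (X ⊔ Q) g' := le_sup_right.trans (le_Nf hg')
  have hGQ : im Q G = Q := by
    haveI := finite_of_le hQ
    refine Subgroup.eq_of_le_of_card_ge (im_le_iff.2 fun y hy => ?_) ((hG.restrict hQN).card_im.ge)
    rw [hGg y (Subgroup.mem_sup_right hy)]
    refine conj_mem_of_normalizer (Subgroup.inv_mem _ hh₀.2) ?_
    exact (hχs _ (hgm y (Subgroup.mem_sup_right hy))).1.2 ((hmiQ y (Subgroup.mem_sup_right hy)).2 hy)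
  obtain ⟨ψ, hψF, hψ⟩ := hG.restrict hN'le
  have hψE : ψ ∈ (normSys F hQ).Hom N' := by
    refine mem_normalizerHom.2 ⟨fun a ha => ha.1, fun a => ?_, G, hG.restrict (sup_le hN'le hQN), hψ, hGQ⟩
    rw [hψ a]
    have := hG.mem_normalizer hQN (hN'le a.2) a.2.1.2
    rwa [hGQ] at this
  exact ⟨G, (map_of_mem hψE).congr fun a ha => (fn_apply ψ ha).trans (hψ _),
    fun x hx => (hGg x (Subgroup.mem_sup_left hx)).trans (hg'X x hx)⟩

/-- A well placed subgroup is fully automised in the normaliser system. -/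
theorem fa_of_good (hS : IsPGroup p S) (hF : F.IsSaturated p) (hQ : Q ≤ S)
    (hP : P ≤ normalizerIn S Q) (hPQ : P ⊔ Q ≤ S)
    (hsyl : SylIn p (autInducedBy S (P ⊔ Q) ⊓ stab F (P ⊔ Q) Q P) (stab F (P ⊔ Q) Q P)) :
    (normSys F hQ).IsFullyAutomized p P := by
  haveI := mulAut_finite_of_le hPQ
  haveI := mulAut_finite_of_le (show P ≤ S from hP.trans inf_le_left)
  have hex : ∀ β : stab F (P ⊔ Q) Q P, ∃ α : MulAut P, ∀ x ∈ P, av α x = av (β : MulAut ↥(P ⊔ Q)) x := by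
    intro β
    have hm := (map_of_mem_autGroup hPQ β.2.1).restrict (le_sup_left (b := Q))
    haveI := finite_of_le hm.le
    obtain ⟨α, -, hα⟩ := exists_aut hm (Subgroup.eq_of_le_of_card_ge
      (im_le_iff.2 fun x hx => (β.2.2 x (Subgroup.mem_sup_left hx)).2.2 hx) hm.card_im.ge)
    exact ⟨α, hα⟩
  choose r hr using hex
  let res : ↥(stab F (P ⊔ Q) Q P) →* MulAut P := MonoidHom.mk' r fun β γ => aut_ext fun x hx => by
    have hx' : x ∈ P ⊔ Q := Subgroup.mem_sup_left hx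
    rw [hr _ x hx, av_mul _ _ hx, hr γ x hx, hr β _ ((γ.2.2 x hx').2.2 hx)]
    exact av_mul _ _ hx'
  have hrange : res.range = (normSys F hQ).autGroup P := by
    refine le_antisymm ?_ fun α hα => ?_
    · rintro _ ⟨β, rfl⟩
      obtain ⟨φ, hφ, he⟩ := (map_of_mem_autGroup hPQ β.2.1).restrict (le_sup_left (b := Q))
      have hm : φ ∈ (normSys F hQ).Hom P := by
        refine mem_normalizerHom.2 ⟨hP, fun x => ?_, av (β : MulAut ↥(P ⊔ Q)),
          map_of_mem_autGroup hPQ β.2.1, he, ?_⟩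
        · rw [he]; exact hP ((β.2.2 x (Subgroup.mem_sup_left x.2)).2.2 x.2)
        · haveI := finite_of_le hQ
          have hm := (map_of_mem_autGroup hPQ β.2.1).restrict (le_sup_right (a := P))
          exact Subgroup.eq_of_le_of_card_ge
            (im_le_iff.2 fun x hx => (β.2.2 x (Subgroup.mem_sup_right hx)).1.2 hx) hm.card_im.ge
      refine mem_autGroup_of_map ((map_of_mem hm).congr fun x hx => ?_)
      rw [fn_apply φ hx, he, show res β = r β from rfl, hr β x hx]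
    · obtain ⟨φ, hφ, he⟩ := map_of_mem_autGroup hP hα
      obtain ⟨-, -, g, hg, hφg, hgQ⟩ := mem_normalizerHom.1 hφ
      have hgP : im P g = P :=
        (im_congr fun x hx => (hφg ⟨x, hx⟩).symm.trans (he _)).trans (im_av α)
      obtain ⟨β, hβ, hβg⟩ := exists_aut hg (le_antisymm (hg.im_sup_le.trans (sup_le_sup hgP.le hgQ.le))
        (sup_le (hgP.ge.trans (im_mono le_sup_left)) (hgQ.ge.trans (im_mono le_sup_right))))
      refine ⟨⟨β, hβ, fun x hx => ?_⟩, aut_ext fun x hx => ?_⟩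
      · rw [hβg x hx]
        exact ⟨hg.mem_im_iff le_sup_right hgQ hx, hg.mem_im_iff le_sup_left hgP hx⟩
      · show av (r _) x = _
        rw [hr _ x hx]
        exact (hβg x (Subgroup.mem_sup_left hx)).trans ((hφg ⟨x, hx⟩).symm.trans (he _))
  set T := autInducedBy S (P ⊔ Q) ⊓ stab F (P ⊔ Q) Q P with hTdef
  have hTr : (T.subgroupOf (stab F (P ⊔ Q) Q P)).map res ≤ autInducedBy (normalizerIn S Q) P := by
    rintro _ ⟨β, hβ, rfl⟩
    obtain ⟨s, hs, hsβ⟩ := mem_autInducedBy.1 hβ.1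
    refine mem_autInducedBy.2 ⟨s, ⟨hs, mem_normalizer_of_conj_mem hQ fun y hy => ?_⟩, fun x hx => ?_⟩
    · rw [← hsβ y (Subgroup.mem_sup_right hy)]
      exact (β.2.2 y (Subgroup.mem_sup_right hy)).1.2 hy
    · show av (r β) x = _
      rw [hr β x hx]
      exact hsβ x (Subgroup.mem_sup_left hx)
  have hNp := hS.to_le (show normalizerIn S Q ≤ S from inf_le_left)
  haveI : Finite ↥(normalizerIn S Q) := finite_of_le inf_le_left
  refine fa_iff.2 ⟨hP, autInducedBy_le_autGroup hP, isPGroup_autS hNp, fun hd => hsyl.not_dvd ?_⟩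
  refine dvd_trans hd (dvd_trans ?_ (?_ : ((T.subgroupOf (stab F (P ⊔ Q) Q P)).map res.rangeRestrict).index ∣ _))
  · have h1 : ((T.subgroupOf (stab F (P ⊔ Q) Q P)).map res.rangeRestrict).index =
        ((T.subgroupOf (stab F (P ⊔ Q) Q P)).map res).relIndex res.range := by
      rw [Subgroup.relIndex, Subgroup.subgroupOf]
      congr 1
      ext ⟨y, hy⟩
      constructor
      · rintro ⟨x, hx, he⟩; exact ⟨x, hx, congrArg Subtype.val he⟩
      · rintro ⟨x, hx, he⟩; exact ⟨x, hx, Subtype.ext he⟩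
    rw [h1, ← hrange]
    exact ⟨_, (Subgroup.relIndex_mul_relIndex _ _ _ hTr
      (hrange.symm ▸ autInducedBy_le_autGroup hP)).symm.trans (mul_comm _ _)⟩
  · exact Subgroup.index_map_dvd _ res.rangeRestrict_surjective

theorem normSys_saturated (hS : IsPGroup p S) (hF : F.IsSaturated p) (hQ : F.IsFullyNormalized Q) :
    (normSys F hQ.1).IsSaturated p := by
  intro P hP
  obtain ⟨P', hP', hconj, hfc, hsyl⟩ := exists_good hS hF hQ hP
  exact ⟨P', hconj, fa_of_good hS hF hQ.1 hP' hfc.1 hsyl, receptive_of_good hS hF hQ.1 hP' hfc hsyl⟩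

theorem saturated_of_isNormalizerSystem (hS : IsPGroup p S) (hF : F.IsSaturated p)
    (hQ : F.IsFullyNormalized Q) {E : FusionSystem (normalizerIn S Q)} (hE : F.IsNormalizerSystem Q E) :
    E.IsSaturated p := by
  have : E = normSys F hQ.1 := by
    have h : E.Hom = (normSys F hQ.1).Hom := funext hE
    revert h
    cases E
    intro h
    unfold normSys
    subst h
    rfl
  exact this ▸ normSys_saturated hS hF hQ

end Cfsg.Agent.Local.FS
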