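import Cfsg.Agent.Lib.Local.FS.CentralizerValid

/-!
Automorphisms fixing a fully normalized subgroup and moving elements inside it are conjugations from the
centralizer; extension of maps of a strongly closed subgroup over `R C_S(R)`.
-/

set_option autoImplicit false

namespace Cfsg.Agent.Local.FS

open Cfsg Cfsg.FusionSystem Cfsg.Agent.Fusion

variable {Ω : Type*} [Group Ω] {S T : Subgroup Ω} [Finite S] {F : FusionSystem S}
  {R Y : Subgroup Ω} {f : Ω → Ω} {p : ℕ} [Fact p.Prime]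

/-- An automorphism fixing a fully normalized `R` and moving elements inside `R` is conjugation by
an element of `C_S(R)`. -/
theorem stab_eq_autS (hS : IsPGroup p S) (hF : F.IsSaturated p) (hR : F.IsFullyNormalized R)
    (hRY : R ≤ Y) (hY : Y ≤ normalizerIn S R)
    (hC : ∀ s ∈ centralizerIn S R, s ∈ Subgroup.normalizer (Y : Set Ω))
    {κ : MulAut Y} (hκ : κ ∈ F.autGroup Y) (h1 : ∀ r ∈ R, av κ r = r)
    (h2 : ∀ y ∈ Y, y⁻¹ * av κ y ∈ R) :
    ∃ s ∈ centralizerIn S R, ∀ y ∈ Y, av κ y = s * y * s⁻¹ := by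
  have hYS : Y ≤ S := hY.trans inf_le_left
  haveI := finite_of_le hYS
  obtain ⟨q, hq, hW⟩ := exists_push (n := 0) hS (fun U hU _ => hF U hU) hYS Nat.card_pos hRY
  obtain ⟨ψ, hψ, hψR, hψY⟩ := exists_extend_norm hS hW hq rfl hRY rfl hY
  set Y' := im Y q
  set R' := im R q
  have hCM : centralizerIn S R ≤ normalizerIn S R ⊓ Subgroup.normalizer (Y : Set Ω) :=
    fun s hs => ⟨centralizerIn_le_normalizerIn hs, hC s hs⟩
  have hYM : Y ≤ normalizerIn S R ⊓ Subgroup.normalizer (Y : Set Ω) := le_inf hY Subgroup.le_normalizer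
  have hψY' := hψ.restrict hYM
  obtain ⟨e, he⟩ := exists_equiv hψY' hψY
  have hm : ∀ r ∈ R', av (MulAut.congr e κ) r = r := by
    intro r hr
    obtain ⟨z, hz, rfl⟩ := (hψ.restrict (hRY.trans hYM)).mem_im.1 (hψR.ge hr)
    rw [av_congr_apply he κ (hRY hz), h1 z hz]
  have hs : ∀ y ∈ Y', y⁻¹ * av (MulAut.congr e κ) y ∈ R' := by
    intro y hy
    obtain ⟨z, hz, rfl⟩ := hψY'.mem_im.1 (hψY.ge hy)
    rw [av_congr_apply he κ hz, ← hψY'.map_inv hz, ← hψY'.map_mul (Y.inv_mem hz) (av_mem κ hz)]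
    exact hψR.le (mem_im_of_mem (h2 z hz))
  obtain ⟨w, hwS, hw⟩ := mem_autInducedBy.1
    (shift_le_autS hS hW (congr_mem_autGroup hψY' hψY he hκ) hm hs)
  have hwC : w ∈ centralizerIn S R' := mem_centralizerIn.2 ⟨hwS, fun r hr => by
    have h := hw r ((hψR.ge.trans ((im_mono hRY).trans hψY.le)) hr)
    rw [hm r hr] at h
    exact (eq_mul_inv_iff_mul_eq.1 h : r * w = w * r)⟩
  have hψC := hψ.restrict hCM
  obtain ⟨s, hs', rfl⟩ := hψC.surj_of_card_le inf_le_left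
    (fun z hz => by
      have h := hψ.mem_centralizer (hRY.trans hYM) (hCM hz) (mem_centralizerIn.1 hz).2
      rwa [hψR] at h)
    ((fc_fa_of_fn hS hF hR).1.2 _ (isConj_iff.2 ⟨q, hq.restrict hRY, rfl⟩)) w hwC
  refine ⟨s, hs', fun y hy => ?_⟩
  have hsy : s * y * s⁻¹ ∈ Y := conj_mem_of_normalizer (hC s hs') hy
  refine hψY'.injOn (av_mem κ hy) hsy ?_
  rw [hψ.map_conj (hCM hs') (hYM hy), ← hw _ (hψY.le (mem_im_of_mem hy)), av_congr_apply he κ hy]

omit [Finite S] [Fact p.Prime] in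
theorem centralizerIn_normalizes_centric (hT : F.StronglyClosed T) (hCT : T ⊓ centralizerIn S R ≤ R)
    (hRY : R ≤ Y) (hY : Y ≤ normalizerIn S R) (hYT : Y ≤ T) {s : Ω} (hs : s ∈ centralizerIn S R) [Finite S] :
    s ∈ Subgroup.normalizer (Y : Set Ω) := by
  refine mem_normalizer_of_conj_mem (hY.trans inf_le_left) fun y hy => ?_
  have hyn := hY hy
  have hw : s * y * s⁻¹ * y⁻¹ ∈ T ⊓ centralizerIn S R := by
    refine ⟨T.mul_mem (stronglyClosed_conj_mem hT hs.1 (hYT hy)) (T.inv_mem (hYT hy)), ?_⟩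
    have h : y * s⁻¹ * y⁻¹ ∈ centralizerIn S R := by
      refine mem_centralizerIn.2 ⟨S.mul_mem (S.mul_mem hyn.1 (S.inv_mem hs.1)) (S.inv_mem hyn.1), fun r hr => ?_⟩
      have h1 : y⁻¹ * r * y ∈ R := by
        simpa using conj_mem_of_normalizer (Subgroup.inv_mem _ hyn.2) hr
      have h2 := (mem_centralizerIn.1 ((centralizerIn S R).inv_mem hs)).2 _ h1
      calc r * (y * s⁻¹ * y⁻¹) = y * (y⁻¹ * r * y * s⁻¹) * y⁻¹ := by group
        _ = y * (s⁻¹ * (y⁻¹ * r * y)) * y⁻¹ := by rw [h2]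
        _ = _ := by group
    rw [show s * y * s⁻¹ * y⁻¹ = s * (y * s⁻¹ * y⁻¹) by group]
    exact Subgroup.mul_mem _ hs h
  have := Y.mul_mem (hRY (hCT hw)) hy
  rwa [inv_mul_cancel_right] at this

/-- A map on a part of `N_T(R)` stabilising a fully normalized `R` with `C_T(R) ≤ R` extends over
`R C_S(R)`, stabilising it. -/
theorem exists_extend_hat (hS : IsPGroup p S) (hF : F.IsSaturated p) (hR : F.IsFullyNormalized R)
    (hT : F.StronglyClosed T) (hCT : T ⊓ centralizerIn S R ≤ R) (hRY : R ≤ Y)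
    (hY : Y ≤ normalizerIn T R) (hf : Map F Y f) (hfR : im R f = R) :
    ∃ g, Map F (Y ⊔ (R ⊔ centralizerIn S R)) g ∧ (∀ y ∈ Y, g y = f y) ∧ im R g = R ∧
      im (R ⊔ centralizerIn S R) g = R ⊔ centralizerIn S R := by
  have hfR' := hf.restrict hRY
  have hYN : Y ≤ normalizerIn S R := fun y hy => ⟨hT.1 (hY hy).1, (hY hy).2⟩
  have hYT : Y ≤ T := hY.trans inf_le_left
  obtain ⟨γ, hγ, hγf⟩ := (receptive_iff.1 (receptive_of_fc hS hF (fc_fa_of_fn hS hF hR).1)).2 R f hfR' hfR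
  have hle : Y ⊔ (R ⊔ centralizerIn S R) ≤ Nf S R f := sup_le (fun y hy => ⟨(hYN hy).1, (hY hy).2, f y,
    hf.mem hy, fun x hx => hf.map_conj hy (hRY hx)⟩) (sup_le (le_Nf hfR') centralizerIn_le_Nf)
  set D := Y ⊔ (R ⊔ centralizerIn S R) with hD
  have hγ' : Map F D γ := hγ.restrict hle
  have hRD : R ≤ D := le_sup_left.trans le_sup_right
  have hYD : Y ≤ D := le_sup_left
  have hγR : im R γ = R := (im_congr hγf).trans hfR
  have hγY : ∀ y ∈ Y, (f y)⁻¹ * γ y ∈ R := by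
    intro y hy
    refine hCT ⟨T.mul_mem (T.inv_mem (stronglyClosed_map hT hf hy (hYT hy)))
      (stronglyClosed_map hT hγ' (hYD hy) (hYT hy)),
      mem_centralizerIn.2 ⟨S.mul_mem (S.inv_mem (hf.mem hy)) (hγ'.mem (hYD hy)), fun r hr => ?_⟩⟩
    obtain ⟨z, hz, rfl⟩ := hfR'.mem_im.1 (hfR.ge hr)
    have hz' : y * z * y⁻¹ ∈ R := conj_mem_of_normalizer (hY hy).2 hz
    have e1 : γ y * f z * (γ y)⁻¹ = f y * f z * (f y)⁻¹ := by
      rw [← hf.map_conj hy (hRY hz), ← hγf _ hz', hγ'.map_conj (hYD hy) (hRD hz), hγf z hz]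
    calc f z * ((f y)⁻¹ * γ y) = (f y)⁻¹ * (f y * f z * (f y)⁻¹) * γ y := by group
      _ = (f y)⁻¹ * (γ y * f z * (γ y)⁻¹) * γ y := by rw [e1]
      _ = _ := by group
  have hYf : im Y f = im Y γ := by
    haveI := finite_of_le hf.im_le
    refine (Subgroup.eq_of_le_of_card_ge (im_le_iff.2 fun y hy => ?_) ?_).symm
    · have := (im Y f).mul_mem (mem_im_of_mem (f := f) hy) ((hfR.ge.trans (im_mono hRY)) (hγY y hy))
      rwa [mul_inv_cancel_left] at this
    · rw [hf.card_im, (hγ'.restrict hYD).card_im]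
  obtain ⟨k, hk, hkγ, hγk, hki⟩ := hγ'.exists_inv
  have hYi : ∀ y ∈ Y, f y ∈ im D γ := fun y hy => im_mono hYD (hYf.le (mem_im_of_mem hy))
  have hκm : Map F Y (k ∘ f) := hf.comp hk hYi
  have hκY : im Y (k ∘ f) = Y := by
    rw [hf.im_comp, hYf, ← (hγ'.restrict hYD).im_comp]
    exact (im_congr fun y hy => hkγ y (hYD hy)).trans im_id
  obtain ⟨κ, hκ, hκe⟩ := exists_aut hκm hκY
  have hκR : ∀ r ∈ R, av κ r = r := fun r hr => by
    rw [hκe r (hRY hr)]
    show k (f r) = r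
    rw [← hγf r hr, hkγ r (hRD hr)]
  have hκs : ∀ y ∈ Y, y⁻¹ * av κ y ∈ R := fun y hy => by
    rw [hκe y hy]
    show y⁻¹ * k (f y) ∈ R
    obtain ⟨r, hr, hre⟩ := hfR'.mem_im.1 (hfR.ge (hγY y hy))
    have hr' : γ r⁻¹ = (γ y)⁻¹ * f y := by
      rw [hγ'.map_inv (hRD hr), hγf r hr, hre]; group
    have : k (f y) = y * r⁻¹ := by
      rw [show f y = γ y * γ r⁻¹ by rw [hr']; group, ← hγ'.map_mul (hYD hy) (hRD (R.inv_mem hr)),
        hkγ _ (D.mul_mem (hYD hy) (hRD (R.inv_mem hr)))]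
    rw [this, inv_mul_cancel_left]
    exact R.inv_mem hr
  have hC := fun s hs => centralizerIn_normalizes_centric (s := s) hT hCT hRY hYN hYT hs
  obtain ⟨s, hs, hsκ⟩ := stab_eq_autS hS hF hR hRY hYN hC hκ hκR hκs
  have hsn : s ∈ Subgroup.normalizer (Y : Set Ω) := hC s hs
  have hsR : ∀ r ∈ R, s * r * s⁻¹ = r := fun r hr => by
    rw [← (mem_centralizerIn.1 hs).2 r hr, mul_inv_cancel_right]
  have hsH : ∀ x ∈ R ⊔ centralizerIn S R, s * x * s⁻¹ ∈ R ⊔ centralizerIn S R := fun x hx =>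
    Subgroup.mul_mem _ (Subgroup.mul_mem _ (Subgroup.mem_sup_right hs) hx)
      (Subgroup.inv_mem _ (Subgroup.mem_sup_right hs))
  have hsD : ∀ x ∈ D, s * x * s⁻¹ ∈ D := fun x hx =>
    (show D ≤ D.comap (MulAut.conj s).toMonoidHom from sup_le
      (fun y hy => Subgroup.mem_sup_left (conj_mem_of_normalizer hsn hy))
      fun y hy => Subgroup.mem_sup_right (hsH y hy)) hx
  refine ⟨γ ∘ fun x => s * x * s⁻¹, (map_conjBy hγ'.le hs.1).comp hγ' hsD, fun y hy => ?_, ?_, ?_⟩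
  · show γ (s * y * s⁻¹) = f y
    rw [← hsκ y hy, hκe y hy]
    exact (hγk _ (hYi y hy)).1
  · refine (im_congr fun r hr => ?_).trans hγR
    show γ (s * r * s⁻¹) = γ r
    rw [hsR r hr]
  · have hCγ : im (R ⊔ centralizerIn S R) γ ≤ R ⊔ centralizerIn S R :=
      (hγ'.restrict le_sup_right).im_sup_le.trans (sup_le (hγR.le.trans le_sup_left) ((im_le_iff.2
        fun x hx => hγR ▸ hγ'.mem_centralizer hRD (Subgroup.mem_sup_right (Subgroup.mem_sup_right hx))
          (mem_centralizerIn.1 hx).2).trans le_sup_right))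
    have hm := (map_conjBy (F := F) hγ'.le hs.1).comp hγ' hsD
    haveI := finite_of_le (le_sup_right.trans hγ'.le : R ⊔ centralizerIn S R ≤ S)
    exact Subgroup.eq_of_le_of_card_ge (im_le_iff.2 fun x hx => hCγ (mem_im_of_mem (hsH x hx)))
      (hm.restrict le_sup_right).card_im.ge

end Cfsg.Agent.Local.FS
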