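import Cfsg.Agent.Lib.Local.FS.Normal
import Cfsg.Prelude.Def_FusionComponents

set_option autoImplicit false

namespace Cfsg.Agent.Local.FS

open Cfsg Cfsg.FusionSystem

variable {Ω : Type*} [Group Ω] {S T : Subgroup Ω} {F : FusionSystem S} {E : FusionSystem T}
  {P Q R : Subgroup Ω} {f : Ω → Ω} {p : ℕ}

theorem Map.of_sub (hsub : E.IsSubsystemOf F) (h : Map E P f) : Map F P f :=
  let ⟨φ, hφ, he⟩ := h; ⟨φ, hsub P hφ, he⟩

theorem le_of_sub (hsub : E.IsSubsystemOf F) : T ≤ S := ((map_id (F := E) le_rfl).of_sub hsub).le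

theorem isConj_of_sub (hsub : E.IsSubsystemOf F) (h : E.IsConj P Q) : F.IsConj P Q := by
  obtain ⟨f, hf, rfl⟩ := isConj_iff.1 h
  exact isConj_iff.2 ⟨f, hf.of_sub hsub, rfl⟩

variable [Finite S] [Fact p.Prime]

theorem fc_of_sub (hS : IsPGroup p S) (hF : F.IsSaturated p) (hT : F.StronglyClosed T)
    (hsub : E.IsSubsystemOf F) (hQT : Q ≤ T) (hQ : F.IsFullyCentralized Q) :
    E.IsFullyCentralized Q := by
  haveI := finite_of_le hT.1
  refine ⟨hQT, fun R hR => ?_⟩
  obtain ⟨f, hf, hi⟩ := isConj_iff.1 (isConj_of_sub hsub (isConj_symm hR))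
  obtain ⟨g, hg, hgf⟩ := (receptive_iff.1 (receptive_of_fc hS hF hQ)).2 R f hf hi
  have hle : centralizerIn T R ≤ Nf S R f :=
    (inf_le_inf_right _ hT.1).trans centralizerIn_le_Nf
  refine (hg.restrict hle).card_le fun x hx => ?_
  have h1 := hg.mem_centralizer (le_Nf hf) (hle hx) (mem_centralizerIn.1 hx).2
  rw [im_congr hgf, hi] at h1
  exact ⟨stronglyClosed_map hT hg (hle hx) hx.1, h1.2⟩

theorem fn_of_sub (hS : IsPGroup p S) (hF : F.IsSaturated p) (hT : F.StronglyClosed T)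
    (hsub : E.IsSubsystemOf F) (hQT : Q ≤ T) (hQ : F.IsFullyNormalized Q) :
    E.IsFullyNormalized Q := by
  haveI := finite_of_le hT.1
  refine ⟨hQT, fun R hR => ?_⟩
  obtain ⟨g, hg, hgm, -⟩ := exists_map_normalizer_fn hS hF hQ (isConj_of_sub hsub (isConj_symm hR))
  have hle : normalizerIn T R ≤ normalizerIn S R := inf_le_inf_right _ hT.1
  refine (hg.restrict hle).card_le fun x hx => ?_
  exact ⟨stronglyClosed_map hT hg (hle hx) hx.1, (hgm x (hle hx)).2⟩

theorem subnormal_isSubsystem {E : FusionSystem T} (hE : E.IsSubnormalIn F p) : E.IsSubsystemOf F := by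
  induction hE with
  | refl F p => exact fun P => subset_rfl
  | step hED hD ih => exact fun P => (ih P).trans (hD.1.2.2.1 P)

end Cfsg.Agent.Local.FS
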