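import Cfsg.Agent.Lib.Local.FS.NormSat

/-!
The centraliser system of a fully centralised subgroup is saturated.
-/

set_option autoImplicit false

namespace Cfsg.Agent.Local.FS

open Cfsg Cfsg.FusionSystem Cfsg.Agent.Fusion

variable {Ω : Type*} [Group Ω] {S : Subgroup Ω} {F : FusionSystem S}
  {P Q R P' Q' R' : Subgroup Ω} {f g : Ω → Ω} {p : ℕ}

/-- The automorphisms of `R` in the system fixing `Q` pointwise and preserving `P`. -/
def stabC (F : FusionSystem S) (R Q P : Subgroup Ω) : Subgroup (MulAut R) where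
  carrier := {α | α ∈ F.autGroup R ∧ ∀ x ∈ R, (x ∈ Q → av α x = x) ∧ (av α x ∈ P ↔ x ∈ P)}
  one_mem' := ⟨Subgroup.one_mem _, fun x hx => by rw [av_one hx]; exact ⟨fun _ => rfl, Iff.rfl⟩⟩
  mul_mem' := by
    rintro α β ⟨hα, ha⟩ ⟨hβ, hb⟩
    refine ⟨Subgroup.mul_mem _ hα hβ, fun x hx => ?_⟩
    rw [av_mul _ _ hx]
    refine ⟨fun hq => ?_, (ha _ (av_mem β hx)).2.trans (hb x hx).2⟩
    rw [(hb x hx).1 hq, (ha x hx).1 hq]
  inv_mem' := by
    rintro α ⟨hα, ha⟩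
    refine ⟨Subgroup.inv_mem _ hα, fun x hx => ?_⟩
    refine ⟨fun hq => ?_, ?_⟩
    · conv_lhs => rw [← (ha x hx).1 hq]
      exact av_inv_av α hx
    · have h := (ha _ (av_mem α⁻¹ hx)).2
      rw [av_av_inv α hx] at h
      exact h.symm

theorem map_stabC [Finite S] (hg : Map F R g) (hi : im R g = R') (hQR : Q ≤ R) (hPR : P ≤ R)
    (hQ : im Q g = Q') (hP : im P g = P') {e : R ≃* R'} (he : ∀ x : R, (e x : Ω) = g x) :
    (stabC F R Q P).map (MulAut.congr e).toMonoidHom = stabC F R' Q' P' := by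
  have key : ∀ α : MulAut R, MulAut.congr e α ∈ stabC F R' Q' P' ↔ α ∈ stabC F R Q P := by
    intro α
    refine and_congr (congr_mem_autGroup_iff hg hi he) ⟨fun h x hx => ?_, fun h y hy => ?_⟩
    · have h1 := h (g x) (hi.le (mem_im_of_mem hx))
      rw [av_congr_apply he α hx, hg.mem_im_iff hPR hP hx, hg.mem_im_iff hPR hP (av_mem α hx),
        hg.mem_im_iff hQR hQ hx] at h1
      exact ⟨fun hq => hg.injOn (av_mem α hx) hx (h1.1 hq), h1.2⟩
    · obtain ⟨x, hx, rfl⟩ := hg.mem_im.1 (hi.ge hy)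
      rw [av_congr_apply he α hx, hg.mem_im_iff hPR hP hx, hg.mem_im_iff hPR hP (av_mem α hx),
        hg.mem_im_iff hQR hQ hx]
      exact ⟨fun hq => by rw [(h x hx).1 hq], (h x hx).2⟩
  ext β
  rw [Subgroup.mem_map]
  refine ⟨fun ⟨α, hα, hb⟩ => hb ▸ (key α).2 hα, fun hβ => ?_⟩
  refine ⟨(MulAut.congr e).symm β, ?_, (MulAut.congr e).apply_symm_apply β⟩
  rw [← key, MulEquiv.apply_symm_apply]
  exact hβ

variable [Finite S] [Fact p.Prime]

/-- A well placed conjugate of `P` in the centraliser system. -/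
theorem exists_good_cent (hS : IsPGroup p S) (hF : F.IsSaturated p) (hQ : F.IsFullyCentralized Q)
    (hP : P ≤ centralizerIn S Q) :
    ∃ P', P' ≤ centralizerIn S Q ∧ (centSys F hQ.1).IsConj P P' ∧ F.IsFullyCentralized (P' ⊔ Q) ∧
      SylIn p (autInducedBy S (P' ⊔ Q) ⊓ stabC F (P' ⊔ Q) Q P') (stabC F (P' ⊔ Q) Q P') := by
  have hPS : P ≤ S := hP.trans inf_le_left
  have hRS : P ⊔ Q ≤ S := sup_le hPS hQ.1
  obtain ⟨R₁, hR₁, hfn⟩ := exists_fullyNormalized (F := F) hRS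
  obtain ⟨g₀, hg₀, hg₀i⟩ := isConj_iff.1 hR₁
  haveI := mulAut_finite_of_le hfn.1
  obtain ⟨T, hT⟩ := exists_sylIn (p := p) (stabC F R₁ (im Q g₀) (im P g₀))
  obtain ⟨χ, hχ, hle⟩ := (fa_iff.1 (fc_fa_of_fn hS hF hfn).2).2.conj_le hT.isPGroup
    (hT.le.trans fun a ha => ha.1)
  have hχm := map_of_mem_autGroup hfn.1 hχ
  set g := av χ ∘ g₀ with hgdef
  have hg : Map F (P ⊔ Q) g := hg₀.comp hχm fun x hx => hg₀i.le (mem_im_of_mem hx)
  have hgi : im (P ⊔ Q) g = R₁ := by rw [hg₀.im_comp, hg₀i, im_av]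
  obtain ⟨eχ, heχ⟩ := exists_equiv hχm (im_av χ)
  have hQ₁ : im Q g = im (im Q g₀) (av χ) := (hg₀.restrict le_sup_right).im_comp
  have hP₁ : im P g = im (im P g₀) (av χ) := (hg₀.restrict le_sup_left).im_comp
  have hsyl : SylIn p (autInducedBy S R₁ ⊓ stabC F R₁ (im Q g) (im P g)) (stabC F R₁ (im Q g) (im P g)) := by
    have h1 := sylIn_map_equiv (MulAut.congr eχ) hT
    rw [map_stabC hχm (im_av χ) ((im_mono le_sup_right).trans hg₀i.le) ((im_mono le_sup_left).trans hg₀i.le)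
      hQ₁.symm hP₁.symm heχ] at h1
    refine h1.of_card_ge ((isPGroup_autS hS).to_le inf_le_left) inf_le_right
      (Subgroup.card_le_of_le (le_inf ?_ h1.le))
    rintro _ ⟨β, hβ, rfl⟩
    have h2 : (MulAut.congr eχ).toMonoidHom β = χ * β * χ⁻¹ := aut_ext fun y hy => by
      show av (MulAut.congr eχ β) y = _
      conv_lhs => rw [← av_av_inv χ hy]
      rw [av_congr_apply heχ β (av_mem _ hy), av_mul _ _ hy, av_mul _ _ (av_mem _ hy)]
    rw [h2]
    exact hle (conj_mem_cj hβ)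
  have hQR₁ : im Q g ≤ R₁ := (im_mono le_sup_right).trans hgi.le
  have hPR₁ : im P g ≤ R₁ := (im_mono le_sup_left).trans hgi.le
  -- undo `g` on the image of `Q` and extend
  obtain ⟨k₀, hk₀, hk₀g, -, -⟩ := (hg.restrict (le_sup_right (a := P))).exists_inv
  have hk₀Q : im (im Q g) k₀ = Q := by
    refine hk₀.im_eq (fun y hy => ?_) fun x hx => ⟨g x, mem_im_of_mem hx, hk₀g x hx⟩
    obtain ⟨x, hx, rfl⟩ := (hg.restrict (le_sup_right (a := P))).mem_im.1 hy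
    rw [hk₀g x hx]; exact hx
  obtain ⟨k, hk, hkk⟩ := (receptive_iff.1 (receptive_of_fc hS hF hQ)).2 _ k₀ hk₀ hk₀Q
  have hR₁N : R₁ ≤ Nf S (im Q g) k₀ := by
    rw [← hgi]
    refine hg.im_sup_le.trans (sup_le (im_le_iff.2 fun x hx => centralizerIn_le_Nf ?_) (le_Nf hk₀))
    refine mem_centralizerIn.2 ⟨hg.mem (Subgroup.mem_sup_left hx), fun y hy => ?_⟩
    obtain ⟨z, hz, rfl⟩ := (hg.restrict (le_sup_right (a := P))).mem_im.1 hy
    rw [← hg.map_mul (Subgroup.mem_sup_right hz) (Subgroup.mem_sup_left hx),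
      ← hg.map_mul (Subgroup.mem_sup_left hx) (Subgroup.mem_sup_right hz), (mem_centralizerIn.1 (hP hx)).2 z hz]
  have hkR := hk.restrict hR₁N
  have hkg : Map F (P ⊔ Q) (k ∘ g) := hg.comp hkR fun x hx => hgi.le (mem_im_of_mem hx)
  have hkfix : ∀ x ∈ Q, (k ∘ g) x = x := fun x hx => (hkk _ (mem_im_of_mem hx)).trans (hk₀g x hx)
  have hkgQ : im Q (k ∘ g) = Q := by rw [im_congr (g := id) hkfix, im_id]
  have hkQ : im (im Q g) k = Q := by rw [im_congr hkk, hk₀Q]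
  have hkgP : im P (k ∘ g) = im (im P g) k := (hg.restrict le_sup_left).im_comp
  set P' := im (im P g) k with hP'def
  have hkR₁ : im R₁ k = P' ⊔ Q := by
    rw [← hgi, ← hg.im_comp]
    refine le_antisymm (hkg.im_sup_le.trans (sup_le_sup hkgP.le hkgQ.le)) (sup_le ?_ ?_)
    · exact hkgP.ge.trans (im_mono le_sup_left)
    · exact hkgQ.ge.trans (im_mono le_sup_right)
  have hP'N : P' ≤ centralizerIn S Q := by
    rw [← hkgP, im_le_iff]
    intro x hx
    refine mem_centralizerIn.2 ⟨hkg.mem (Subgroup.mem_sup_left hx), fun y hy => ?_⟩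
    conv_lhs => rw [← hkfix y hy]
    conv_rhs => rw [← hkfix y hy]
    rw [← hkg.map_mul (Subgroup.mem_sup_right hy) (Subgroup.mem_sup_left hx),
      ← hkg.map_mul (Subgroup.mem_sup_left hx) (Subgroup.mem_sup_right hy),
      (mem_centralizerIn.1 (hP hx)).2 y hy]
  refine ⟨P', hP'N, ?_, ?_, ?_⟩
  · obtain ⟨φ, hφ, he⟩ := hkg.restrict (le_sup_left (b := Q))
    have hm : φ ∈ (centSys F hQ.1).Hom P := by
      refine mem_centralizerHom.2 ⟨hP, fun x => ?_, k ∘ g, hkg, he, hkfix⟩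
      rw [he]
      exact hP'N (hkgP.le (mem_im_of_mem x.2))
    exact isConj_iff.2 ⟨k ∘ g, (map_of_mem hm).congr fun x hx => (fn_apply φ hx).trans (he _), hkgP⟩
  · refine ⟨sup_le (hP'N.trans inf_le_left) hQ.1, fun R hR => ?_⟩
    refine ((fc_fa_of_fn hS hF hfn).1.2 R (isConj_trans (isConj_iff.2 ⟨k, hkR, hkR₁⟩) hR)).trans ?_
    rw [← hkR₁]
    refine card_centralizerIn_le_of_map hk hR₁N fun c hc => ?_
    refine centralizerIn_le_Nf (mem_centralizerIn.2 ⟨(mem_centralizerIn.1 hc).1, fun y hy => ?_⟩)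
    exact (mem_centralizerIn.1 hc).2 y (hQR₁ hy)
  · haveI := mulAut_finite_of_le (show P' ⊔ Q ≤ S from sup_le (hP'N.trans inf_le_left) hQ.1)
    obtain ⟨ek, hek⟩ := exists_equiv hkR hkR₁
    have h1 := sylIn_map_equiv (MulAut.congr ek) hsyl
    rw [map_stabC hkR hkR₁ hQR₁ hPR₁ hkQ rfl hek] at h1
    refine h1.of_card_ge ((isPGroup_autS hS).to_le inf_le_left) inf_le_right
      (Subgroup.card_le_of_le (le_inf ?_ h1.le))
    rintro _ ⟨β, ⟨hβS, hβ⟩, rfl⟩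
    obtain ⟨s, hs, hsβ⟩ := mem_autInducedBy.1 hβS
    have hsN : s ∈ Nf S (im Q g) k₀ := by
      refine centralizerIn_le_Nf (mem_centralizerIn.2 ⟨hs, fun y hy => ?_⟩)
      have h := (hβ.2 y (hQR₁ hy)).1 hy
      rw [hsβ y (hQR₁ hy), mul_inv_eq_iff_eq_mul] at h
      exact h.symm
    refine mem_autInducedBy.2 ⟨k s, hk.mem hsN, fun y hy => ?_⟩
    obtain ⟨x, hx, rfl⟩ := hkR.mem_im.1 (hkR₁.ge hy)
    show av (MulAut.congr ek β) (k x) = _
    rw [av_congr_apply hek β hx, hsβ x hx, hk.map_conj hsN (hR₁N hx)]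

/-- A well placed subgroup is receptive in the centraliser system. -/
theorem receptive_of_good_cent (hS : IsPGroup p S) (hF : F.IsSaturated p) (hQ : Q ≤ S)
    (hP : P ≤ centralizerIn S Q) (hfc : F.IsFullyCentralized (P ⊔ Q))
    (hsyl : SylIn p (autInducedBy S (P ⊔ Q) ⊓ stabC F (P ⊔ Q) Q P) (stabC F (P ⊔ Q) Q P)) :
    (centSys F hQ).IsReceptive P := by
  haveI := mulAut_finite_of_le hfc.1
  refine receptive_iff.2 ⟨hP, fun X f hf hi => ?_⟩
  obtain ⟨φ, hφ, hφf⟩ := id hf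
  obtain ⟨hX, -, g, hg, hφg, hgQ⟩ := mem_centralizerHom.1 hφ
  have hgX : ∀ x ∈ X, g x = f x := fun x hx => (hφg ⟨x, hx⟩).symm.trans (hφf _)
  have hgQ' : im Q g = Q := by rw [im_congr (g := id) hgQ, im_id]
  have hgP : im X g = P := (im_congr hgX).trans hi
  have hgi : im (X ⊔ Q) g = P ⊔ Q := le_antisymm (hg.im_sup_le.trans (sup_le_sup hgP.le hgQ'.le))
    (sup_le (hgP.ge.trans (im_mono le_sup_left)) (hgQ'.ge.trans (im_mono le_sup_right)))
  obtain ⟨e, he⟩ := exists_equiv hg hgi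
  haveI := mulAut_finite_of_le (show X ⊔ Q ≤ S from hg.le)
  set N' := Nf (centralizerIn S Q) X f with hN'def
  have hN'S : N' ≤ S := fun a ha => ha.1.1
  have hN'c : ∀ a ∈ N', ∀ y ∈ Q, a * y * a⁻¹ = y := fun a ha y hy => by
    rw [← (mem_centralizerIn.1 ha.1).2 y hy, mul_inv_cancel_right]
  have hN'n : ∀ a ∈ N', a ∈ Subgroup.normalizer ((X ⊔ Q : Subgroup Ω) : Set Ω) := by
    intro a ha
    refine mem_normalizer_of_conj_mem hg.le fun y hy => ?_
    have hle : X ⊔ Q ≤ (X ⊔ Q).comap (MulAut.conj a).toMonoidHom := by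
      refine sup_le (fun y hy => ?_) fun y hy => ?_ <;> rw [Subgroup.mem_comap]
      · exact Subgroup.mem_sup_left (conj_mem_of_normalizer ha.2.1 hy)
      · refine Subgroup.mem_sup_right ?_
        show a * y * a⁻¹ ∈ Q
        rwa [hN'c a ha y hy]
    exact hle hy
  have hmiQ : ∀ x ∈ X ⊔ Q, (g x ∈ Q ↔ x ∈ Q) := fun x hx => hg.mem_im_iff le_sup_right hgQ' hx
  have hmiP : ∀ x ∈ X ⊔ Q, (g x ∈ P ↔ x ∈ X) := fun x hx => hg.mem_im_iff le_sup_left hgP hx
  let H : Subgroup (MulAut ↥(P ⊔ Q)) :=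
    { carrier := {β | β ∈ stabC F (P ⊔ Q) Q P ∧ ∃ h ∈ centralizerIn S Q, ∀ y ∈ P, av β y = h * y * h⁻¹}
      one_mem' := ⟨Subgroup.one_mem _, 1, Subgroup.one_mem _, fun y hy => by
        rw [av_one (Subgroup.mem_sup_left hy)]; simp⟩
      mul_mem' := by
        rintro a b ⟨ha, h, hh, hah⟩ ⟨hb, k, hk, hbk⟩
        refine ⟨Subgroup.mul_mem _ ha hb, h * k, Subgroup.mul_mem _ hh hk, fun y hy => ?_⟩
        have hy' : y ∈ P ⊔ Q := Subgroup.mem_sup_left hy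
        rw [av_mul _ _ hy', hah _ ((hb.2 y hy').2.2 hy), hbk y hy]; group
      inv_mem' := by
        rintro a ⟨ha, h, hh, hah⟩
        refine ⟨Subgroup.inv_mem _ ha, h⁻¹, Subgroup.inv_mem _ hh, fun y hy => ?_⟩
        have hy' : y ∈ P ⊔ Q := Subgroup.mem_sup_left hy
        have h1 := hah _ (((Subgroup.inv_mem _ ha).2 y hy').2.2 hy)
        rw [av_av_inv a hy'] at h1
        calc av a⁻¹ y = h⁻¹ * (h * av a⁻¹ y * h⁻¹) * h⁻¹⁻¹ := by group
          _ = _ := by rw [← h1] }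
  have hsylH : SylIn p (autInducedBy S (P ⊔ Q) ⊓ stabC F (P ⊔ Q) Q P) H := by
    refine hsyl.mono (fun β hβ => ⟨hβ.2, ?_⟩) fun β hβ => hβ.1
    obtain ⟨s, hs, hsβ⟩ := mem_autInducedBy.1 hβ.1
    refine ⟨s, mem_centralizerIn.2 ⟨hs, fun y hy => ?_⟩, fun y hy => hsβ y (Subgroup.mem_sup_left hy)⟩
    have h := (hβ.2.2 y (Subgroup.mem_sup_right hy)).1 hy
    rw [hsβ y (Subgroup.mem_sup_right hy), mul_inv_eq_iff_eq_mul] at h
    exact h.symm
  obtain ⟨χ, ⟨⟨hχ, hχs⟩, h₀, hh₀, hχh₀⟩, hle⟩ := hsylH.conj_le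
    (Q := (autInducedBy N' (X ⊔ Q)).map (MulAut.congr e).toMonoidHom)
    (((isPGroup_autS (P := X ⊔ Q) hS).to_le fun α hα => by
      obtain ⟨a, ha, h⟩ := mem_autInducedBy.1 hα
      exact mem_autInducedBy.2 ⟨a, hN'S ha, h⟩).map _)
    (by
      rintro _ ⟨α, hα, rfl⟩
      obtain ⟨a, ha, haα⟩ := mem_autInducedBy.1 hα
      refine ⟨⟨congr_mem_autGroup hg hgi he (autInducedBy_le_autGroup hg.le
        (mem_autInducedBy.2 ⟨a, hN'S ha, haα⟩)), fun y hy => ?_⟩, ?_⟩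
      · obtain ⟨x, hx, rfl⟩ := hg.mem_im.1 (hgi.ge hy)
        show (_ → av (MulAut.congr e α) (g x) = _) ∧ (av (MulAut.congr e α) (g x) ∈ P ↔ _)
        rw [av_congr_apply he α hx, haα x hx, hmiP x hx, hmiP _ (conj_mem_of_normalizer (hN'n a ha) hx)]
        exact ⟨fun hq => by rw [hN'c a ha x ((hmiQ x hx).1 hq)],
          (Subgroup.mem_normalizer_iff.1 ha.2.1 x).symm⟩
      · obtain ⟨-, -, h, hh, hah⟩ := id ha
        refine ⟨h, hh, fun y hy => ?_⟩
        obtain ⟨x, hx, rfl⟩ := (hg.restrict le_sup_left).mem_im.1 (hgP.ge hy)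
        show av (MulAut.congr e α) (g x) = _
        rw [av_congr_apply he α (Subgroup.mem_sup_left hx), haα x (Subgroup.mem_sup_left hx),
          hgX _ (conj_mem_of_normalizer ha.2.1 hx), hah x hx, hgX x hx])
  have hh₀c : ∀ y ∈ Q, h₀⁻¹ * y * h₀ = y := fun y hy => by
    rw [mul_assoc, (mem_centralizerIn.1 hh₀).2 y hy, inv_mul_cancel_left]
  have hh₀n : ∀ y ∈ P ⊔ Q, h₀⁻¹ * y * h₀ ∈ P ⊔ Q := by
    intro y hy
    have hle' : P ⊔ Q ≤ (P ⊔ Q).comap (MulAut.conj h₀⁻¹).toMonoidHom := by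
      refine sup_le (fun y hy => ?_) fun y hy => ?_ <;>
        rw [Subgroup.mem_comap, show (MulAut.conj h₀⁻¹).toMonoidHom y = h₀⁻¹ * y * h₀⁻¹⁻¹ from rfl]
      · refine Subgroup.mem_sup_left ?_
        have hy' : y ∈ P ⊔ Q := Subgroup.mem_sup_left hy
        have hm : av χ⁻¹ y ∈ P := (hχs _ (av_mem _ hy')).2.1 (by rwa [av_av_inv χ hy'])
        rw [← av_av_inv χ hy', hχh₀ _ hm]
        simpa [mul_assoc] using hm
      · refine Subgroup.mem_sup_right ?_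
        rwa [inv_inv, hh₀c y hy]
    simpa using hle' hy
  have hgm : ∀ x ∈ X ⊔ Q, g x ∈ P ⊔ Q := fun x hx => hgi.le (mem_im_of_mem hx)
  set g' := (fun y => h₀⁻¹ * y * h₀⁻¹⁻¹) ∘ av χ ∘ g with hg'def
  have hg' : Map F (X ⊔ Q) g' :=
    (hg.comp (map_of_mem_autGroup hfc.1 hχ) hgm).comp (map_conjBy hfc.1 (S.inv_mem hh₀.1))
      fun x hx => av_mem χ (hgm x hx)
  have hg'm : ∀ x ∈ X ⊔ Q, g' x ∈ P ⊔ Q := fun x hx => by
    simpa [hg'def] using hh₀n _ (av_mem χ (hgm x hx))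
  have hg'i : im (X ⊔ Q) g' = P ⊔ Q := by
    haveI := finite_of_le hfc.1
    refine Subgroup.eq_of_le_of_card_ge (im_le_iff.2 hg'm) ?_
    rw [hg'.card_im, ← hg.card_im, hgi]
  have hg'X : ∀ x ∈ X, g' x = f x := fun x hx => by
    show h₀⁻¹ * av χ (g x) * h₀⁻¹⁻¹ = f x
    rw [hχh₀ _ ((hmiP x (Subgroup.mem_sup_left hx)).2 hx), hgX x hx]
    group
  obtain ⟨G, hG, hGg⟩ := (receptive_iff.1 (receptive_of_fc hS hF hfc)).2 _ g' hg' hg'i
  have hN'le : N' ≤ Nf S (X ⊔ Q) g' := by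
    intro a ha
    obtain ⟨α, hα, hαS⟩ := exists_aut_conj (P := X ⊔ Q) (hN'n a ha)
    obtain ⟨s, hs, hsα⟩ := mem_autInducedBy.1 (hle (conj_mem_cj (g := χ) ⟨α, hαS _ ha, rfl⟩)).1
    refine ⟨hN'S ha, hN'n a ha, h₀⁻¹ * s * h₀⁻¹⁻¹,
      S.mul_mem (S.mul_mem (S.inv_mem hh₀.1) hs) (S.inv_mem (S.inv_mem hh₀.1)), fun x hx => ?_⟩
    have h1 := hsα _ (av_mem χ (hgm x hx))
    rw [av_mul _ _ (av_mem χ (hgm x hx)), av_inv_av χ (hgm x hx), av_mul _ _ (hgm x hx),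
      show ((MulAut.congr e).toMonoidHom α : MulAut ↥(P ⊔ Q)) = MulAut.congr e α from rfl,
      av_congr_apply he α hx, hα x hx] at h1
    show h₀⁻¹ * av χ (g (a * x * a⁻¹)) * h₀⁻¹⁻¹ =
      h₀⁻¹ * s * h₀⁻¹⁻¹ * (h₀⁻¹ * av χ (g x) * h₀⁻¹⁻¹) * (h₀⁻¹ * s * h₀⁻¹⁻¹)⁻¹
    rw [h1]; group
  have hQN : Q ≤ Nf S (X ⊔ Q) g' := le_sup_right.trans (le_Nf hg')
  have hGQ : ∀ y ∈ Q, G y = y := fun y hy => by
    rw [hGg y (Subgroup.mem_sup_right hy)]
    show h₀⁻¹ * av χ (g y) * h₀⁻¹⁻¹ = y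
    rw [hgQ y hy, (hχs y (Subgroup.mem_sup_right hy)).1 hy, inv_inv, hh₀c y hy]
  obtain ⟨ψ, hψF, hψ⟩ := hG.restrict hN'le
  have hψE : ψ ∈ (centSys F hQ).Hom N' := by
    refine mem_centralizerHom.2 ⟨fun a ha => ha.1, fun a => ?_, G, hG.restrict (sup_le hN'le hQN), hψ, hGQ⟩
    rw [hψ a]
    refine mem_centralizerIn.2 ⟨hG.mem (hN'le a.2), fun y hy => ?_⟩
    conv_lhs => rw [← hGQ y hy]
    conv_rhs => rw [← hGQ y hy]
    rw [← hG.map_mul (hQN hy) (hN'le a.2), ← hG.map_mul (hN'le a.2) (hQN hy),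
      (mem_centralizerIn.1 a.2.1).2 y hy]
  exact ⟨G, (map_of_mem hψE).congr fun a ha => (fn_apply ψ ha).trans (hψ _),
    fun x hx => (hGg x (Subgroup.mem_sup_left hx)).trans (hg'X x hx)⟩

/-- A well placed subgroup is fully automised in the centraliser system. -/
theorem fa_of_good_cent (hS : IsPGroup p S) (hQ : Q ≤ S)
    (hP : P ≤ centralizerIn S Q) (hPQ : P ⊔ Q ≤ S)
    (hsyl : SylIn p (autInducedBy S (P ⊔ Q) ⊓ stabC F (P ⊔ Q) Q P) (stabC F (P ⊔ Q) Q P)) :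
    (centSys F hQ).IsFullyAutomized p P := by
  haveI := mulAut_finite_of_le hPQ
  haveI := mulAut_finite_of_le (show P ≤ S from hP.trans inf_le_left)
  have hex : ∀ β : stabC F (P ⊔ Q) Q P, ∃ α : MulAut P, ∀ x ∈ P, av α x = av (β : MulAut ↥(P ⊔ Q)) x := by
    intro β
    have hm := (map_of_mem_autGroup hPQ β.2.1).restrict (le_sup_left (b := Q))
    haveI := finite_of_le hm.le
    obtain ⟨α, -, hα⟩ := exists_aut hm (Subgroup.eq_of_le_of_card_ge
      (im_le_iff.2 fun x hx => (β.2.2 x (Subgroup.mem_sup_left hx)).2.2 hx) hm.card_im.ge)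
    exact ⟨α, hα⟩
  choose r hr using hex
  let res : ↥(stabC F (P ⊔ Q) Q P) →* MulAut P := MonoidHom.mk' r fun β γ => aut_ext fun x hx => by
    have hx' : x ∈ P ⊔ Q := Subgroup.mem_sup_left hx
    rw [hr _ x hx, av_mul _ _ hx, hr γ x hx, hr β _ ((γ.2.2 x hx').2.2 hx)]
    exact av_mul _ _ hx'
  have hrange : res.range = (centSys F hQ).autGroup P := by
    refine le_antisymm ?_ fun α hα => ?_
    · rintro _ ⟨β, rfl⟩
      obtain ⟨φ, hφ, he⟩ := (map_of_mem_autGroup hPQ β.2.1).restrict (le_sup_left (b := Q))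
      have hm : φ ∈ (centSys F hQ).Hom P := by
        refine mem_centralizerHom.2 ⟨hP, fun x => ?_, av (β : MulAut ↥(P ⊔ Q)),
          map_of_mem_autGroup hPQ β.2.1, he, fun x hx => (β.2.2 x (Subgroup.mem_sup_right hx)).1 hx⟩
        rw [he]; exact hP ((β.2.2 x (Subgroup.mem_sup_left x.2)).2.2 x.2)
      refine mem_autGroup_of_map ((map_of_mem hm).congr fun x hx => ?_)
      rw [fn_apply φ hx, he, show res β = r β from rfl, hr β x hx]
    · obtain ⟨φ, hφ, he⟩ := map_of_mem_autGroup hP hα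
      obtain ⟨-, -, g, hg, hφg, hgQ⟩ := mem_centralizerHom.1 hφ
      have hgQ' : im Q g = Q := by rw [im_congr (g := id) hgQ, im_id]
      have hgP : im P g = P :=
        (im_congr fun x hx => (hφg ⟨x, hx⟩).symm.trans (he _)).trans (im_av α)
      obtain ⟨β, hβ, hβg⟩ := exists_aut hg (le_antisymm (hg.im_sup_le.trans (sup_le_sup hgP.le hgQ'.le))
        (sup_le (hgP.ge.trans (im_mono le_sup_left)) (hgQ'.ge.trans (im_mono le_sup_right))))
      refine ⟨⟨β, hβ, fun x hx => ?_⟩, aut_ext fun x hx => ?_⟩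
      · rw [hβg x hx]
        exact ⟨hgQ x, hg.mem_im_iff le_sup_left hgP hx⟩
      · show av (r _) x = _
        rw [hr _ x hx]
        exact (hβg x (Subgroup.mem_sup_left hx)).trans ((hφg ⟨x, hx⟩).symm.trans (he _))
  set T := autInducedBy S (P ⊔ Q) ⊓ stabC F (P ⊔ Q) Q P with hTdef
  have hTr : (T.subgroupOf (stabC F (P ⊔ Q) Q P)).map res ≤ autInducedBy (centralizerIn S Q) P := by
    rintro _ ⟨β, hβ, rfl⟩
    obtain ⟨s, hs, hsβ⟩ := mem_autInducedBy.1 hβ.1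
    refine mem_autInducedBy.2 ⟨s, mem_centralizerIn.2 ⟨hs, fun y hy => ?_⟩, fun x hx => ?_⟩
    · have h := (β.2.2 y (Subgroup.mem_sup_right hy)).1 hy
      have h' := hsβ y (Subgroup.mem_sup_right hy)
      simp only [Subgroup.coe_subtype] at h'
      rw [h', mul_inv_eq_iff_eq_mul] at h
      exact h.symm
    · show av (r β) x = _
      rw [hr β x hx]
      exact hsβ x (Subgroup.mem_sup_left hx)
  have hNp := hS.to_le (show centralizerIn S Q ≤ S from inf_le_left)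
  haveI : Finite ↥(centralizerIn S Q) := finite_of_le inf_le_left
  refine fa_iff.2 ⟨hP, autInducedBy_le_autGroup hP, isPGroup_autS hNp, fun hd => hsyl.not_dvd ?_⟩
  refine dvd_trans hd (dvd_trans ?_ (?_ : ((T.subgroupOf (stabC F (P ⊔ Q) Q P)).map res.rangeRestrict).index ∣ _))
  · have h1 : ((T.subgroupOf (stabC F (P ⊔ Q) Q P)).map res.rangeRestrict).index =
        ((T.subgroupOf (stabC F (P ⊔ Q) Q P)).map res).relIndex res.range := by
      rw [Subgroup.relIndex, Subgroup.subgroupOf]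
      congr 1
      ext ⟨y, hy⟩
      constructor
      · rintro ⟨x, hx, he⟩; exact ⟨x, hx, congrArg Subtype.val he⟩
      · rintro ⟨x, hx, he⟩; exact ⟨x, hx, Subtype.ext he⟩
    rw [h1, ← hrange]
    exact ⟨_, (Subgroup.relIndex_mul_relIndex _ _ _ hTr
      (hrange.symm ▸ autInducedBy_le_autGroup hP)).symm.trans (mul_comm _ _)⟩
  · exact Subgroup.index_map_dvd _ res.rangeRestrict_surjective

theorem centSys_saturated (hS : IsPGroup p S) (hF : F.IsSaturated p) (hQ : F.IsFullyCentralized Q) :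
    (centSys F hQ.1).IsSaturated p := by
  intro P hP
  obtain ⟨P', hP', hconj, hfc, hsyl⟩ := exists_good_cent hS hF hQ hP
  exact ⟨P', hconj, fa_of_good_cent hS hQ.1 hP' hfc.1 hsyl, receptive_of_good_cent hS hF hQ.1 hP' hfc hsyl⟩

theorem saturated_of_isCentralizerSystem (hS : IsPGroup p S) (hF : F.IsSaturated p)
    (hQ : F.IsFullyCentralized Q) {E : FusionSystem (centralizerIn S Q)} (hE : F.IsCentralizerSystem Q E) :
    E.IsSaturated p := by
  have : E = centSys F hQ.1 := by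
    have h : E.Hom = (centSys F hQ.1).Hom := funext hE
    revert h
    cases E
    intro h
    unfold centSys
    subst h
    rfl
  exact this ▸ centSys_saturated hS hF hQ

end Cfsg.Agent.Local.FS
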