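import Cfsg.Agent.Lib.Local.FS.IndexKernelSys
import Cfsg.Agent.Lib.Local.FS.Normal
import Cfsg.Agent.Lib.Local.FS.Sub
import Cfsg.Agent.Lib.Solv.PGroupPhi

/-!
Saturated subsystems of `p`-power index: existence, uniqueness, and normality over normal subgroups.
-/

set_option autoImplicit false

namespace Cfsg.Agent.Local.FS

open Cfsg Cfsg.FusionSystem Cfsg.Agent.Fusion

universe u

variable {Ω : Type u} [Group Ω] {S T : Subgroup Ω} {F : FusionSystem S} {E : FusionSystem T}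
  {P Q R : Subgroup Ω} {f : Ω → Ω} {p : ℕ}

theorem eq_of_map_iff {E E' : FusionSystem T} (h : ∀ P f, Map E P f ↔ Map E' P f) : E = E' := by
  have hH : E.Hom = E'.Hom := funext fun P => Set.ext fun φ => by
    rw [mem_iff_map, mem_iff_map]; exact h P _
  cases E; cases E'; congr

variable [Finite S]

theorem autGroup_le_of_sub (hsub : E.IsSubsystemOf F) (hP : P ≤ T) : E.autGroup P ≤ F.autGroup P :=
  fun _ hα => by
    haveI := finite_of_le (le_of_sub hsub)
    exact mem_autGroup_of_map ((map_of_mem_autGroup hP hα).of_sub hsub)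

theorem pResidual_mono_sub [Fact p.Prime] (hsub : E.IsSubsystemOf F) (hP : P ≤ T) {α : MulAut P}
    (hα : α ∈ (pResidual p ↥(E.autGroup P)).map (E.autGroup P).subtype) :
    α ∈ (pResidual p ↥(F.autGroup P)).map (F.autGroup P).subtype := by
  obtain ⟨γ, hγ, rfl⟩ := hα
  haveI := finite_of_le (le_of_sub hsub)
  haveI := mulAut_finite_of_le hP
  exact ⟨Subgroup.inclusion (autGroup_le_of_sub hsub hP) γ, Fusion.map_pResidual_le _ ⟨γ, hγ, rfl⟩, rfl⟩

theorem hyperfocal_mono [Fact p.Prime] (hsub : E.IsSubsystemOf F) : E.hyperfocalSubgroup p ≤ F.hyperfocalSubgroup p := by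
  refine (Subgroup.closure_le _).2 ?_
  rintro _ ⟨P, α, x, hP, hα, rfl⟩
  obtain ⟨γ, hγ, he⟩ := pResidual_mono_sub (p := p) hsub hP ⟨α, hα, rfl⟩
  exact Subgroup.subset_closure ⟨P, γ, x, hP.trans (le_of_sub hsub), hγ,
    by rw [show (γ : MulAut P) = (α : MulAut P) from he]⟩

theorem pPower_trans {M : Subgroup Ω} {E₁ : FusionSystem M} (h₁ : E₁.HasPPowerIndexIn F p)
    (h₂ : E.HasPPowerIndexIn E₁ p) (hT : F.hyperfocalSubgroup p ≤ T) (hTM : T ≤ M) :
    E.HasPPowerIndexIn F p := by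
  refine ⟨fun P φ hφ => h₁.1 P (h₂.1 P hφ), hT, fun P hP => ?_⟩
  rw [pResidual, MonoidHom.map_closure, Subgroup.closure_le]
  rintro _ ⟨α, hα, rfl⟩
  have h1 : (α : MulAut P) ∈ E₁.autGroup P :=
    h₁.2.2 P (hP.trans hTM) ⟨α, Subgroup.subset_closure hα, rfl⟩
  refine h₂.2.2 P hP ⟨⟨α, h1⟩, Subgroup.subset_closure ?_, rfl⟩
  have hα' : (orderOf α).Coprime p := hα
  show (orderOf (⟨(α : MulAut P), h1⟩ : E₁.autGroup P)).Coprime p
  rw [← Subgroup.orderOf_coe] at hα' ⊢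
  exact hα'

variable [Fact p.Prime]

/-- Saturated subsystems of `p`-power index exist over every subgroup above the hyperfocal subgroup. -/
theorem exists_pPower (hS : IsPGroup p S) (hF : F.IsSaturated p) (hTS : T ≤ S)
    (hT : F.hyperfocalSubgroup p ≤ T) :
    ∃ E : FusionSystem T, E.IsSaturated p ∧ E.HasPPowerIndexIn F p := by
  suffices h : ∀ (n : ℕ) (S : Subgroup Ω) [Finite S] (F : FusionSystem S), Nat.card S = n → IsPGroup p S →
      F.IsSaturated p → T ≤ S → F.hyperfocalSubgroup p ≤ T →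
      ∃ E : FusionSystem T, E.IsSaturated p ∧ E.HasPPowerIndexIn F p from h _ S F rfl hS hF hTS hT
  intro n
  induction n using Nat.strong_induction_on with
  | _ n ih =>
  intro S _ F hn hS hF hTS hT
  rcases eq_or_lt_of_le hTS with rfl | hlt
  · exact ⟨F, hF, fun _ _ h => h, hT, fun P _ => Subgroup.map_subtype_le _⟩
  obtain ⟨M, hM, hTM⟩ : ∃ M : Subgroup S, IsCoatom M ∧ T.subgroupOf S ≤ M := by
    refine (eq_top_or_exists_le_coatom (T.subgroupOf S)).resolve_left fun h => hlt.ne ?_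
    exact le_antisymm hTS (Subgroup.subgroupOf_eq_top.1 h)
  haveI := Solv.coatom_normal hS hM
  have hidx : Nat.card (S ⧸ M) = p := Solv.coatom_index hS hM
  haveI : IsCyclic (S ⧸ M) := isCyclic_of_prime_card hidx
  letI : CommGroup (S ⧸ M) := IsCyclic.commGroup
  let χ : S →* S ⧸ M := QuotientGroup.mk' M
  have hA : ∀ a : S ⧸ M, a ^ p = 1 := fun a => by rw [← hidx]; exact pow_card_eq_one'
  have hχ : StableHom F χ := by
    intro P f hf u v hu hv
    obtain ⟨g, hg, h⟩ := conj_mod_hyperfocal hS hF hf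
    have h1 : χ ((⟨g, hg⟩ * u * ⟨g, hg⟩⁻¹)⁻¹ * v) = 1 := by
      refine (QuotientGroup.eq_one_iff _).2 (hTM (Subgroup.mem_subgroupOf.2 (hT ?_)))
      simpa [hv] using h u hu
    rw [map_mul, map_inv, inv_mul_eq_one, map_mul, map_mul, map_inv, mul_inv_cancel_comm] at h1
    exact h1.symm
  obtain ⟨b⟩ := exists_charBiset hS hF
  obtain ⟨s, hs⟩ := CharBiset.exists_sect_stable b χ hχ
  have hker : χ.ker = M := QuotientGroup.ker_mk' M
  have hsat := kerSys_saturated (s := s) (hχ := hχ) (hs := hs) hS hF hA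
  have hTK : T ≤ χ.ker.map S.subtype := fun x hx =>
    ⟨⟨x, hTS hx⟩, hker.ge (hTM (Subgroup.mem_subgroupOf.2 hx)), rfl⟩
  haveI := finite_of_le (S := S) (kerBase_le (χ := χ))
  have hp1 : (s.kerSys hχ hs).HasPPowerIndexIn F p :=
    ⟨kerSys_sub, hT.trans hTK, fun P hP => pResidual_le_kerSys Fact.out hA hP⟩
  have hlt' : Nat.card ↥(χ.ker.map S.subtype) < n := by
    rw [Subgroup.card_map_of_injective S.subtype_injective, hker, ← hn]
    refine lt_of_le_of_ne (Subgroup.card_le_card_group M) fun h => hM.1 ?_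
    exact Subgroup.eq_top_of_card_eq M h
  obtain ⟨E, hE, hEi⟩ := ih _ hlt' _ (s.kerSys hχ hs) rfl (hS.to_le kerBase_le) hsat hTK
    ((hyperfocal_mono kerSys_sub).trans hT)
  exact ⟨E, hE, pPower_trans hp1 hEi hT hTK⟩

theorem map_le_of_pPower (hS : IsPGroup p S) {E' : FusionSystem T} (hEs : E.IsSaturated p)
    (hE : E.HasPPowerIndexIn F p) (hE' : E'.HasPPowerIndexIn F p) (h : Map E P f) : Map E' P f := by
  have hTS := le_of_sub hE.1
  haveI := finite_of_le hTS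
  refine alperin (hS.to_le hTS) hEs (isClosedClass_map E') (fun R hR α hα => ?_) P f h
  have hRfn := gen_fn (F := E) (p := p) hR
  obtain ⟨β, hβ, γ, hγ, rfl⟩ := exists_autS_mul_residual (hS.to_le hTS) hEs hRfn hα
  exact map_of_mem_autGroup hRfn.1 ((E'.autGroup R).mul_mem (autInducedBy_le_autGroup hRfn.1 hβ)
    (hE'.2.2 R hRfn.1 (pResidual_mono_sub hE.1 hRfn.1 ⟨γ, hγ, rfl⟩)))

/-- Saturated subsystems of `p`-power index are unique. -/
theorem pPower_unique (hS : IsPGroup p S) {E' : FusionSystem T} (hEs : E.IsSaturated p)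
    (hE : E.HasPPowerIndexIn F p) (hEs' : E'.IsSaturated p) (hE' : E'.HasPPowerIndexIn F p) : E = E' :=
  eq_of_map_iff fun _ _ => ⟨map_le_of_pPower hS hEs hE hE', map_le_of_pPower hS hEs' hE' hE⟩

theorem pPower_stronglyClosed (hS : IsPGroup p S) (hF : F.IsSaturated p) (hTS : T ≤ S)
    (hTn : (T.subgroupOf S).Normal) (hT : F.hyperfocalSubgroup p ≤ T) : F.StronglyClosed T := by
  refine stronglyClosed_iff.2 ⟨hTS, fun P f hP hf x hx => ?_⟩
  obtain ⟨g, hg, h⟩ := conj_mod_hyperfocal hS hF hf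
  have h1 : g * x * g⁻¹ ∈ T := hTn.conj_mem ⟨x, hf.le hx⟩ (hP hx) ⟨g, hg⟩
  have h2 := T.mul_mem h1 (hT (h x hx))
  rwa [mul_inv_cancel_left] at h2

theorem congr_mem_pResidual (h : Map F P f) (hi : im P f = Q) {e : P ≃* Q}
    (he : ∀ x : P, (e x : Ω) = f x) {α : MulAut P}
    (hα : α ∈ (pResidual p ↥(F.autGroup P)).map (F.autGroup P).subtype) :
    MulAut.congr e α ∈ (pResidual p ↥(F.autGroup Q)).map (F.autGroup Q).subtype := by
  obtain ⟨γ, hγ, rfl⟩ := hα
  haveI := mulAut_finite_of_le h.le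
  let c : F.autGroup P →* F.autGroup Q :=
    ((MulAut.congr e).toMonoidHom.comp (F.autGroup P).subtype).codRestrict _
      (fun a => congr_mem_autGroup h hi he a.2)
  exact ⟨c γ, Fusion.map_pResidual_le c ⟨γ, hγ, rfl⟩, rfl⟩

/-- Automorphisms of `T` in `F` transport the subsystem into itself. -/
theorem pPower_transport (hS : IsPGroup p S) (hEs : E.IsSaturated p)
    (hE : E.HasPPowerIndexIn F p) {α : MulAut T} (hα : α ∈ F.autGroup T) (hf : Map E P f) :
    ∃ h, Map E (im P (av α)) h ∧ ∀ x ∈ P, h (av α x) = av α (f x) := by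
  have hTS := le_of_sub hE.1
  haveI := finite_of_le hTS
  have hαm : Map F T (av α) := map_of_mem_autGroup hTS hα
  have him : ∀ {X : Subgroup Ω}, X ≤ T → im X (av α) ≤ T := fun hX =>
    im_le_iff.2 fun x hx => av_mem α (hX hx)
  refine alperin (F := E) (K := fun P f => ∃ h, Map E (im P (av α)) h ∧ ∀ x ∈ P, h (av α x) = av α (f x))
    (hS.to_le hTS) hEs ⟨?_, ?_, ?_, ?_⟩ ?_ P f hf
  · rintro P f g ⟨h, hh, hhe⟩ he
    exact ⟨h, hh, fun x hx => he x hx ▸ hhe x hx⟩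
  · rintro P R f - ⟨h, hh, hhe⟩ hR
    exact ⟨h, hh.restrict (im_mono hR), fun x hx => hhe x (hR hx)⟩
  · rintro P Q f g hfm hgm ⟨h, hh, hhe⟩ ⟨h', hh', hhe'⟩ hm
    refine ⟨h' ∘ h, hh.comp hh' fun y hy => ?_, fun x hx => ?_⟩
    · obtain ⟨x, hx, rfl⟩ := (hαm.restrict hfm.le).mem_im.1 hy
      rw [hhe x hx]
      exact mem_im_of_mem (hm x hx)
    · show h' (h (av α x)) = av α (g (f x))
      rw [hhe x hx, hhe' _ (hm x hx)]
  · rintro P f g hfm ⟨h, hh, hhe⟩ hinv
    obtain ⟨k, hk, hkh, -, -⟩ := hh.exists_inv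
    have hi : im (im P (av α)) h = im (im P f) (av α) := by
      rw [← hfm.im_comp, ← (hαm.restrict hfm.le).im_comp]
      exact im_congr hhe
    rw [hi] at hk
    refine ⟨k, hk, fun y hy => ?_⟩
    obtain ⟨x, hx, rfl⟩ := hfm.mem_im.1 hy
    rw [hinv x hx, ← hhe x hx, hkh _ (mem_im_of_mem hx)]
  · intro R hR γ hγ
    have hRfn := gen_fn (F := E) (p := p) hR
    obtain ⟨β, hβ, δ, hδ, rfl⟩ := exists_autS_mul_residual (hS.to_le hTS) hEs hRfn hγ
    obtain ⟨t, ht, htβ⟩ := mem_autInducedBy.1 hβ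
    obtain ⟨e, he⟩ := exists_equiv (hαm.restrict hRfn.1) rfl
    have h1 := hE.2.2 _ (him hRfn.1)
      (congr_mem_pResidual (hαm.restrict hRfn.1) rfl he (pResidual_mono_sub hE.1 hRfn.1 ⟨δ, hδ, rfl⟩))
    refine ⟨fun y => av α t * av (MulAut.congr e (δ : MulAut R)) y * (av α t)⁻¹,
      (map_of_mem_autGroup (him hRfn.1) h1).comp (map_conjBy (him hRfn.1) (av_mem α ht))
        fun y hy => av_mem _ hy, fun x hx => ?_⟩
    show av α t * _ * _ = _
    rw [av_congr_apply (f := av α) he (δ : MulAut R) hx, av_mul _ _ hx, htβ _ (av_mem _ hx),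
      hαm.map_conj ht (hRfn.1 (av_mem _ hx))]

/-- Restriction to the subgroup of automorphisms of `O^p`. -/
theorem pPower_restrict (hE : E.HasPPowerIndexIn F p) (hT : F.StronglyClosed T) (hR : R ≤ S)
    {γ : F.autGroup R} (hγ : γ ∈ pResidual p ↥(F.autGroup R)) : Map E (R ⊓ T) (av (γ : MulAut R)) := by
  haveI := mulAut_finite_of_le hR
  haveI := finite_of_le hT.1
  have hmem : ∀ δ : F.autGroup R, ∀ x ∈ R ⊓ T, av (δ : MulAut R) x ∈ R ⊓ T := fun δ x hx =>
    ⟨av_mem _ hx.1, stronglyClosed_map hT (map_of_mem_autGroup hR δ.2) hx.1 hx.2⟩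
  induction hγ using Subgroup.closure_induction with
  | mem δ hδ =>
    have hm := (map_of_mem_autGroup hR δ.2).restrict (inf_le_left : R ⊓ T ≤ R)
    haveI := finite_of_le (show R ⊓ T ≤ S from inf_le_left.trans hR)
    have hi : im (R ⊓ T) (av (δ : MulAut R)) = R ⊓ T :=
      Subgroup.eq_of_le_of_card_ge (im_le_iff.2 (hmem δ)) hm.card_im.ge
    obtain ⟨β, hβ, hβe⟩ := exists_aut hm hi
    have hord : β ^ orderOf δ = 1 := aut_ext fun x hx => by
      rw [av_one hx, ← av_pow (inf_le_left : R ⊓ T ≤ R) (fun y hy => (hβe y hy).symm) _ x hx,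
        ← SubmonoidClass.coe_pow, pow_orderOf_eq_one, OneMemClass.coe_one, av_one hx.1]
    refine (map_of_mem_autGroup inf_le_right (hE.2.2 _ inf_le_right
      ⟨⟨β, hβ⟩, Subgroup.subset_closure ?_, rfl⟩)).congr hβe
    show (orderOf (⟨β, hβ⟩ : F.autGroup (R ⊓ T))).Coprime p
    rw [← Subgroup.orderOf_coe]
    exact Nat.Coprime.coprime_dvd_left (orderOf_dvd_of_pow_eq_one hord) hδ
  | one => exact (map_id inf_le_right).congr fun x hx => by rw [OneMemClass.coe_one, av_one hx.1]; rfl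
  | mul a c _ _ iha ihc =>
    exact (ihc.comp iha (hmem c)).congr fun x hx => by
      rw [Subgroup.coe_mul, av_mul _ _ hx.1]; rfl
  | inv a _ ih =>
    obtain ⟨g, hg, hga, -, -⟩ := ih.exists_inv
    have hi : im (R ⊓ T) (av (a : MulAut R)) = R ⊓ T := by
      haveI := finite_of_le (show R ⊓ T ≤ S from inf_le_left.trans hR)
      exact Subgroup.eq_of_le_of_card_ge (im_le_iff.2 (hmem a)) ih.card_im.ge
    rw [hi] at hg
    refine hg.congr fun x hx => ?_
    obtain ⟨y, hy, rfl⟩ := ih.mem_im.1 (hi.ge hx)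
    rw [hga y hy, Subgroup.coe_inv, av_inv_av _ hy.1]

/-- A saturated subsystem of `p`-power index over a normal subgroup is invariant. -/
theorem pPower_invariant (hS : IsPGroup p S) (hF : F.IsSaturated p) (hTn : (T.subgroupOf S).Normal)
    (hEs : E.IsSaturated p) (hE : E.HasPPowerIndexIn F p) : E.IsInvariantIn F := by
  have hTS := le_of_sub hE.1
  haveI := finite_of_le hTS
  have hT := pPower_stronglyClosed hS hF hTS hTn hE.2.1
  refine ⟨hE.1, hT, fun P hPT φ hφ α hα => ?_, fun P hPT φ hφ => ?_⟩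
  · obtain ⟨h, hh, hhe⟩ := pPower_transport hS hEs hE hα (map_of_mem hφ)
    rw [← map_subgroupOf_eq_im hPT (φ := T.subtype.comp α.toMonoidHom) (fun y => (av_coe α y).symm)] at hh
    obtain ⟨χ, hχ, hχh⟩ := hh
    refine ⟨χ, hχ, fun x hφx hαx => ?_⟩
    rw [hχh, ← av_apply α (hPT x.2), ← av_apply α hφx, hhe x x.2, fn_coe]
  · have hconj : ∀ s ∈ S, ∀ (Y : Subgroup Ω) (h : Ω → Ω), Map E Y h → ∃ h', Map E
        (im Y fun y => s * y * s⁻¹) h' ∧ ∀ y ∈ Y, h' (s * y * s⁻¹) = s * h y * s⁻¹ := by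
      intro s hs Y h hh
      obtain ⟨α, hα, hαS⟩ := exists_aut_conj (P := T) (stronglyClosed_le_normalizer hT hs)
      obtain ⟨h', hh', he'⟩ := pPower_transport hS hEs hE (autInducedBy_le_autGroup hTS (hαS S hs)) hh
      rw [im_congr fun y hy => hα y (hh.le hy)] at hh'
      exact ⟨h', hh', fun y hy => by rw [← hα y (hh.le hy), he' y hy, hα _ (hh.mem hy)]⟩
    obtain ⟨s, hs, h, hh, hhe⟩ : ∃ s ∈ S, ∃ h, Map E (P ⊓ T) h ∧
        ∀ x ∈ P ⊓ T, fn φ x = s * h x * s⁻¹ := by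
      refine alperin (F := F) (K := fun P f => ∃ s ∈ S, ∃ h, Map E (P ⊓ T) h ∧
          ∀ x ∈ P ⊓ T, f x = s * h x * s⁻¹) hS hF ⟨?_, ?_, ?_, ?_⟩ ?_ P (fn φ) (map_of_mem hφ)
      · rintro P f g ⟨s, hs, h, hh, hhe⟩ he
        exact ⟨s, hs, h, hh, fun x hx => (he x hx.1).symm.trans (hhe x hx)⟩
      · rintro P R f - ⟨s, hs, h, hh, hhe⟩ hR
        exact ⟨s, hs, h, hh.restrict (inf_le_inf_right _ hR), fun x hx => hhe x ⟨hR hx.1, hx.2⟩⟩
      · rintro P Q f g hfm - ⟨s, hs, h, hh, hhe⟩ ⟨s', hs', h', hh', hhe'⟩ hm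
        obtain ⟨k, hk, hke⟩ := hconj s⁻¹ (S.inv_mem hs) _ _ hh'
        have hfx : ∀ x ∈ P ⊓ T, f x ∈ Q ⊓ T := fun x hx =>
          ⟨hm x hx.1, stronglyClosed_map hT hfm hx.1 hx.2⟩
        have hhx : ∀ x ∈ P ⊓ T, h x = s⁻¹ * f x * s⁻¹⁻¹ := fun x hx => by rw [hhe x hx]; group
        refine ⟨s' * s, S.mul_mem hs' hs, k ∘ h, hh.comp hk fun x hx => ?_, fun x hx => ?_⟩
        · rw [hhx x hx]
          exact mem_im_of_mem (f := fun y => s⁻¹ * y * s⁻¹⁻¹) (hfx x hx)
        · show g (f x) = s' * s * k (h x) * (s' * s)⁻¹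
          rw [hhx x hx, hke _ (hfx x hx), hhe' _ (hfx x hx)]
          group
      · rintro P f g hfm ⟨s, hs, h, hh, hhe⟩ hinv
        obtain ⟨k, hk, hkh, -, -⟩ := hh.exists_inv
        obtain ⟨k', hk', hke⟩ := hconj s hs _ _ hk
        have hpre : ∀ y ∈ im P f ⊓ T, ∃ x ∈ P ⊓ T, f x = y := by
          rintro y ⟨hy, hyT⟩
          obtain ⟨g', hg', hg'f, -, -⟩ := hfm.exists_inv
          obtain ⟨x, hx, rfl⟩ := hfm.mem_im.1 hy
          refine ⟨x, ⟨hx, ?_⟩, rfl⟩
          rw [← hg'f x hx]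
          exact stronglyClosed_map hT hg' (mem_im_of_mem hx) hyT
        refine ⟨s⁻¹, S.inv_mem hs, k', hk'.restrict (fun y hy => ?_), fun y hy => ?_⟩
        · obtain ⟨x, hx, rfl⟩ := hpre y hy
          rw [hhe x hx]
          exact mem_im_of_mem (f := fun y => s * y * s⁻¹) (mem_im_of_mem hx)
        · obtain ⟨x, hx, rfl⟩ := hpre y hy
          rw [hinv x hx.1, hhe x hx, hke _ (mem_im_of_mem hx), hkh x hx]
          group
      · intro R hR γ hγ
        have hRfn := gen_fn (F := F) (p := p) hR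
        obtain ⟨β, hβ, δ, hδ, rfl⟩ := exists_autS_mul_residual hS hF hRfn hγ
        obtain ⟨t, ht, htβ⟩ := mem_autInducedBy.1 hβ
        exact ⟨t, ht, _, pPower_restrict hE hT hRfn.1 hδ, fun x hx => by
          rw [av_mul _ _ hx.1, htβ _ (av_mem _ hx.1)]⟩
    obtain ⟨α, hα, hαS⟩ := exists_aut_conj (P := T) (stronglyClosed_le_normalizer hT hs)
    rw [inf_eq_left.2 hPT] at hh
    obtain ⟨φ₀, hφ₀, hφ₀h⟩ := hh
    refine ⟨α, autInducedBy_le_autGroup hTS (hαS S hs), φ₀, hφ₀, fun x hx => ?_⟩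
    rw [← av_apply α hx, hα _ hx, hφ₀h x, ← hhe x ⟨x.2, hPT x.2⟩, fn_coe]

theorem pPower_normal (hS : IsPGroup p S) (hF : F.IsSaturated p) (hTn : (T.subgroupOf S).Normal)
    (hEs : E.IsSaturated p) (hE : E.HasPPowerIndexIn F p) : E.IsNormalIn F p := by
  have hTS := le_of_sub hE.1
  haveI := finite_of_le hTS
  have hT := pPower_stronglyClosed hS hF hTS hTn hE.2.1
  refine ⟨⟨hEs, hF, pPower_invariant hS hF hTn hEs hE⟩, ?_⟩
  set C := centralizerIn S T with hCdef
  have hL : T ⊔ C ≤ S := sup_le hTS inf_le_left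
  haveI := mulAut_finite_of_le hL
  haveI := mulAut_finite_of_le hTS
  let B : MulAut T → Prop := fun α => ∃ β ∈ F.autGroup (T ⊔ C), (∀ x ∈ T, av β x = av α x) ∧
    ∀ c ∈ C, c⁻¹ * av β c ∈ T ⊓ Subgroup.centralizer (T : Set Ω)
  have hone : B 1 := ⟨1, one_mem _, fun x hx => by rw [av_one (Subgroup.mem_sup_left hx), av_one hx],
    fun c hc => by rw [av_one (Subgroup.mem_sup_right hc), inv_mul_cancel]; exact one_mem _⟩
  have hmul : ∀ a a', B a → B a' → B (a * a') := by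
    rintro a a' ⟨β, hβ, hβT, hβC⟩ ⟨β', hβ', hβT', hβC'⟩
    refine ⟨β * β', mul_mem hβ hβ', fun x hx => ?_, fun c hc => ?_⟩
    · rw [av_mul _ _ (Subgroup.mem_sup_left hx), av_mul _ _ hx, hβT' x hx, hβT _ (av_mem _ hx)]
    · have hz := hβC' c hc
      have hcL : c ∈ T ⊔ C := Subgroup.mem_sup_right hc
      rw [av_mul _ _ hcL, show av β' c = c * (c⁻¹ * av β' c) by group,
        (map_of_mem_autGroup hL hβ).map_mul hcL (Subgroup.mem_sup_left hz.1), ← mul_assoc]
      refine Subgroup.mul_mem _ (hβC c hc) ?_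
      rw [hβT _ hz.1]
      refine ⟨av_mem _ hz.1, Subgroup.mem_centralizer_iff.2 fun y hy => ?_⟩
      have hy' := av_mem a⁻¹ hy
      have := Subgroup.mem_centralizer_iff.1 hz.2 _ hy'
      have h2 := congrArg (av a) this
      rw [av_apply _ (T.mul_mem hy' hz.1), av_apply _ (T.mul_mem hz.1 hy')] at h2
      rw [← av_av_inv a hy, av_apply a hy', av_apply a hz.1, ← Subgroup.coe_mul, ← map_mul, ← Subgroup.coe_mul,
        ← map_mul]
      exact h2
  have hfn : F.IsFullyNormalized T := by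
    refine ⟨hTS, fun Q hQ => le_of_eq ?_⟩
    obtain ⟨g, hg, rfl⟩ := isConj_iff.1 hQ
    rw [Subgroup.eq_of_le_of_card_ge (im_le_iff.2 fun x hx => stronglyClosed_map hT hg hx hx) hg.card_im.ge]
  have hp' : ∀ γ : F.autGroup T, (orderOf γ).Coprime p → B (γ : MulAut T) := by
    intro γ hγ
    rcases Nat.lt_or_ge 1 (orderOf γ) with h1 | h1
    swap
    · rw [orderOf_eq_one_iff.1 (le_antisymm h1 (orderOf_pos γ))]; exact hone
    obtain ⟨g, hg, hgγ⟩ := (receptive_iff.1 (receptive_of_fc hS hF (fc_fa_of_fn hS hF hfn).1)).2 T _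
      (map_of_mem_autGroup hTS γ.2) (im_av _)
    have hLN : T ⊔ C ≤ Nf S T (av (γ : MulAut T)) :=
      sup_le (le_Nf (map_of_mem_autGroup hTS γ.2)) centralizerIn_le_Nf
    have hgL := hg.restrict hLN
    have hgT : im T g = T := by rw [im_congr hgγ, im_av]
    have hgi : im (T ⊔ C) g = T ⊔ C := by
      haveI := finite_of_le hL
      refine Subgroup.eq_of_le_of_card_ge (hgL.im_sup_le.trans (sup_le_sup hgT.le (im_le_iff.2 fun c hc => ?_)))
        hgL.card_im.ge
      have := hgL.mem_centralizer le_sup_left (Subgroup.mem_sup_right hc) (mem_centralizerIn.1 hc).2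
      rwa [hgT] at this
    obtain ⟨β₀, hβ₀, hβ₀e⟩ := exists_aut hgL hgi
    obtain ⟨a, r, hr, hord⟩ := Nat.exists_eq_pow_mul_and_not_dvd
      (orderOf_pos (⟨β₀, hβ₀⟩ : F.autGroup (T ⊔ C))).ne' p (Fact.out : p.Prime).ne_one
    obtain ⟨k, -, hk⟩ := Nat.exists_mul_mod_eq_one_of_coprime (hγ.symm.pow_left a) h1
    set β : F.autGroup (T ⊔ C) := ⟨β₀, hβ₀⟩ ^ (p ^ a * k) with hβdef
    have hβo : (orderOf β).Coprime p := by
      refine Nat.Coprime.coprime_dvd_left (orderOf_dvd_of_pow_eq_one (x := β) (n := r) ?_)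
        ((Nat.Prime.coprime_iff_not_dvd Fact.out).2 hr).symm
      rw [hβdef, ← pow_mul, mul_right_comm, ← hord, pow_mul, pow_orderOf_eq_one, one_pow]
    have hβT : ∀ x ∈ T, av (β : MulAut ↥(T ⊔ C)) x = av (γ : MulAut T) x := fun x hx => by
      rw [hβdef, SubmonoidClass.coe_pow, av_pow (α := (γ : MulAut T)) le_sup_left
        (fun y hy => (hβ₀e y (Subgroup.mem_sup_left hy)).trans (hgγ y hy)) _ x hx,
        ← SubmonoidClass.coe_pow, ← pow_mod_orderOf, hk, pow_one]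
    refine ⟨β, β.2, hβT, fun c hc => ?_⟩
    have hm := map_of_mem_autGroup hL β.2
    have h2 := hm.mem_centralizer le_sup_left (Subgroup.mem_sup_right hc) (mem_centralizerIn.1 hc).2
    rw [im_congr hβT, im_av] at h2
    exact ⟨hE.2.1 (inv_mul_mem_hyperfocal hL (Subgroup.subset_closure hβo) (Subgroup.mem_sup_right hc)),
      Subgroup.mul_mem _ (Subgroup.inv_mem _ hc.2) h2.2⟩
  intro α hα
  obtain ⟨β, hβ, γ, hγ, rfl⟩ := exists_autS_mul_residual (hS.to_le hTS) hEs fn_self hα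
  obtain ⟨t, ht, htβ⟩ := mem_autInducedBy.1 hβ
  have hBβ : B β := by
    obtain ⟨c, hc, hcS⟩ := exists_aut_conj (P := T ⊔ C) (g := t)
      (Subgroup.le_normalizer (Subgroup.mem_sup_left ht))
    refine ⟨c, autInducedBy_le_autGroup hL (hcS S (hTS ht)), fun x hx => ?_, fun z hz => ?_⟩
    · rw [hc x (Subgroup.mem_sup_left hx), htβ x hx]
    · rw [hc z (Subgroup.mem_sup_right hz), (mem_centralizerIn.1 hz).2 t ht]
      simp
  have hBγ : B (γ : MulAut T) := by
    obtain ⟨γ', hγ', he⟩ := pResidual_mono_sub hE.1 le_rfl ⟨γ, hγ, rfl⟩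
    rw [← show (γ' : MulAut T) = (γ : MulAut T) from he]
    clear he
    rw [pResidual, SetLike.mem_coe, ← Subgroup.mem_toSubmonoid, Subgroup.closure_toSubmonoid_of_finite] at hγ'
    induction hγ' using Submonoid.closure_induction with
    | mem δ hδ => exact hp' δ hδ
    | one => exact hone
    | mul a c _ _ iha ihc => exact hmul _ _ iha ihc
  obtain ⟨β', hβ', h1, h2⟩ := hmul _ _ hBβ hBγ
  refine ⟨β', hβ', fun x => ?_, fun c hc => ?_⟩
  · rw [← av_coe, ← av_coe]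
    exact h1 x x.2
  · rw [← av_coe]
    exact h2 c hc

end Cfsg.Agent.Local.FS
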