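import Cfsg.Agent.Lib.Local.FS.FocalCentralizer
import Cfsg.Agent.Lib.Local.FS.CentSat
import Cfsg.Agent.Lib.Local.FS.PowerIndex

/-!
The centralizer system `C_F(E)` of a normal subsystem `E` is normal in `F`.
-/

set_option autoImplicit false

namespace Cfsg.Agent.Local.FS

open Cfsg Cfsg.FusionSystem Cfsg.Agent.Fusion

variable {Ω : Type*} [Group Ω] {S T : Subgroup Ω} [Finite S] {F : FusionSystem S} {E : FusionSystem T}
  {C C₁ D P Q R U W : Subgroup Ω} {f g : Ω → Ω} {p : ℕ} [Fact p.Prime]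

omit [Finite S] [Fact p.Prime] in
theorem map_centSys {hT : T ≤ S} :
    Map (centSys F hT) P f ↔ P ≤ centralizerIn S T ∧
      ∃ g, Map F (P ⊔ T) g ∧ (∀ x ∈ P, g x = f x) ∧ ∀ x ∈ T, g x = x := by
  constructor
  · rintro ⟨φ, hφ, h⟩
    obtain ⟨hP, -, g, hg, hφg, hgT⟩ := mem_centralizerHom.1 hφ
    exact ⟨hP, g, hg, fun x hx => ((hφg ⟨x, hx⟩).symm.trans (h ⟨x, hx⟩) :), hgT⟩
  · rintro ⟨hP, g, hg, hgf, hgT⟩
    obtain ⟨φ, hφ, h⟩ := (hg.restrict le_sup_left).congr hgf
    refine ⟨φ, mem_centralizerHom.2 ⟨hP, fun x => ?_, g, hg, fun x => (h x).trans (hgf x x.2).symm, hgT⟩, h⟩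
    rw [h, ← hgf x x.2]
    have h1 := hg.mem_centralizer le_sup_right (Subgroup.mem_sup_left x.2) (mem_centralizerIn.1 (hP x.2)).2
    rwa [im_congr (g := id) hgT, im_id] at h1

/-- Two centric subgroups of `E` and two subgroups of `C` joined by a map fixing the former: extending over the
normaliser in `T`. -/
theorem exists_map_climbT (hS : IsPGroup p S) (hE : E.IsWeaklyNormalIn F p) (hQ : E.IsCentric Q)
    (hP : P ≤ centralizerIn S T) {κ : Ω → Ω} (hκ : Map F (Q ⊔ P) κ) (hκQ : ∀ r ∈ Q, κ r = r)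
    (hκP : im P κ ≤ centralizerIn S T) :
    ∃ κ', Map F (normalizerIn T Q ⊔ P) κ' ∧ ∀ x ∈ P, κ' x = κ x := by
  obtain ⟨hEs, hF, hEi⟩ := id hE
  have hT := hEi.2.1
  have hQS : Q ≤ S := hQ.1.trans hT.1
  obtain ⟨W₂, hW₂⟩ : ∃ W, W = Q ⊔ im P κ := ⟨_, rfl⟩
  obtain ⟨W₁, hW₁⟩ : ∃ W, W = Q ⊔ P := ⟨_, rfl⟩
  rw [← hW₁] at hκ
  have hQW₁ : Q ≤ W₁ := hW₁ ▸ le_sup_left
  have hPW₁ : P ≤ W₁ := hW₁ ▸ le_sup_right
  have hQW₂ : Q ≤ W₂ := hW₂ ▸ le_sup_left
  have hκi : im W₁ κ = W₂ := by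
    refine le_antisymm ?_ (hW₂.le.trans (sup_le ?_ (im_mono hPW₁)))
    · rw [hW₂, hW₁]
      rw [hW₁] at hκ
      exact hκ.im_sup_le.trans (sup_le_sup (by rw [im_congr (g := id) hκQ, im_id]) le_rfl)
    · intro r hr
      rw [← hκQ r hr]
      exact mem_im_of_mem (hQW₁ hr)
  have hW₂S : W₂ ≤ S := hκi ▸ hκ.im_le
  haveI := finite_of_le hW₂S
  haveI := finite_of_le hκ.le
  have hcomm : ∀ {X : Subgroup Ω}, X ≤ centralizerIn S T → ∀ t ∈ T, ∀ x ∈ X, t * x * t⁻¹ = x :=
    fun hX t ht x hx => conj_centT (hX hx) ht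
  have hnorm : ∀ (X W : Subgroup Ω), X ≤ centralizerIn S T → W = Q ⊔ X → ∀ t ∈ normalizerIn T Q,
      t ∈ Subgroup.normalizer (W : Set Ω) := by
    intro X W hX hW t ht
    have hle : W ≤ W.comap (MulAut.conj t).toMonoidHom := by
      rw [hW]
      refine sup_le (fun z hz => Subgroup.mem_sup_left (conj_mem_of_normalizer ht.2 hz)) fun z hz => ?_
      show t * z * t⁻¹ ∈ Q ⊔ X
      rw [hcomm hX t ht.1 z hz]
      exact Subgroup.mem_sup_right hz
    exact mem_normalizer_of_conj_mem (hW ▸ sup_le hQS (hX.trans inf_le_left)) fun z hz => hle hz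
  obtain ⟨q, hq, hW⟩ := exists_push (n := 0) hS (fun U hU _ => hF U hU) hW₂S Nat.card_pos hQW₂
  set W₃ := im W₂ q
  set Q₃ := im Q q
  have hW₃S : W₃ ≤ S := hW.2.1.1
  haveI := mulAut_finite_of_le hW₃S
  obtain ⟨e, he⟩ := exists_equiv hq rfl
  obtain ⟨A, hA⟩ : ∃ A, A = (autInducedBy (normalizerIn T Q) W₂).map (MulAut.congr e).toMonoidHom := ⟨_, rfl⟩
  have hle₂ : autInducedBy (normalizerIn T Q) W₂ ≤ autInducedBy S W₂ := fun α hα => by
    obtain ⟨t, ht, h⟩ := mem_autInducedBy.1 hα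
    exact mem_autInducedBy.2 ⟨t, hT.1 ht.1, h⟩
  have hAp : IsPGroup p A := hA ▸ ((isPGroup_autS hS).to_le hle₂).map _
  have hAst : A ≤ stab F W₃ Q₃ Q₃ := by
    rw [hA]
    rintro _ ⟨a, ha, rfl⟩
    obtain ⟨t, ht, hta⟩ := mem_autInducedBy.1 ha
    refine ⟨congr_mem_autGroup hq rfl he (autInducedBy_le_autGroup hW₂S (hle₂ ha)), fun z hz => ?_⟩
    obtain ⟨w, hw, rfl⟩ := hq.mem_im.1 hz
    have h : av ((MulAut.congr e).toMonoidHom a) (q w) ∈ Q₃ ↔ q w ∈ Q₃ := by
      show av (MulAut.congr e a) (q w) ∈ Q₃ ↔ _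
      rw [av_congr_apply he a hw, hta w hw]
      have htw := conj_mem_of_normalizer (hnorm _ _ hκP hW₂ t ht) hw
      refine ⟨fun h => ?_, fun h => ?_⟩
      · obtain ⟨r, hr, hre⟩ := (hq.restrict hQW₂).mem_im.1 h
        have h3 := hq.injOn (hQW₂ hr) htw hre
        have h4 : w ∈ Q := by
          have h5 := conj_mem_of_normalizer (Subgroup.inv_mem _ ht.2) hr
          rw [h3] at h5
          simpa [mul_assoc] using h5
        exact mem_im_of_mem h4
      · obtain ⟨r, hr, hre⟩ := (hq.restrict hQW₂).mem_im.1 h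
        rw [← hq.injOn (hQW₂ hr) hw hre]
        exact mem_im_of_mem (conj_mem_of_normalizer ht.2 hr)
    exact ⟨h, h⟩
  obtain ⟨χ, hχ, hle⟩ := hW.2.2.conj_le hAp hAst
  have hχm := map_of_mem_autGroup hW₃S hχ.1
  obtain ⟨N, hN⟩ : ∃ N, N = normalizerIn T Q := ⟨_, rfl⟩
  have hext : ∀ (X W' : Subgroup Ω) (h : Ω → Ω), X ≤ centralizerIn S T → W' = Q ⊔ X → Map F W' h →
      im W' h = W₂ → (∀ r ∈ Q, h r = r) → im X h ≤ centralizerIn S T →
      ∃ g, Map F (N ⊔ W') g ∧ ∀ z ∈ W', g z = av χ (q (h z)) := by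
    intro X W' h hX hW' hh hhi hhQ hhX
    have hh3 : Map F W' (av χ ∘ (q ∘ h)) := (hh.comp hq fun z hz => hhi.le (mem_im_of_mem hz)).comp hχm
      fun z hz => mem_im_of_mem (hhi.le (mem_im_of_mem hz))
    have hh3i : im W' (av χ ∘ (q ∘ h)) = W₃ := by
      rw [(hh.comp hq fun z hz => hhi.le (mem_im_of_mem hz)).im_comp, hh.im_comp, hhi, im_av]
    obtain ⟨g, hg, hge⟩ := (receptive_iff.1 hW.2.1).2 W' _ hh3 hh3i
    have hNf : N ≤ Nf S W' (av χ ∘ (q ∘ h)) := by
      intro t ht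
      rw [hN] at ht
      have htW := hnorm X W' hX hW' t ht
      obtain ⟨a, ha, haS⟩ := exists_aut_conj (hnorm _ _ hκP hW₂ t ht)
      have hc := (hle (conj_mem_cj (g := χ) (show (MulAut.congr e).toMonoidHom a ∈ A from
        hA ▸ ⟨a, haS _ ht, rfl⟩))).1
      obtain ⟨s, hs, hse⟩ := mem_autInducedBy.1 hc
      refine ⟨hT.1 ht.1, htW, s, hs, fun z hz => ?_⟩
      show av χ (q (h (t * z * t⁻¹))) = s * av χ (q (h z)) * s⁻¹
      have hhz : h z ∈ W₂ := hhi.le (mem_im_of_mem hz)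
      have hqz : q (h z) ∈ W₃ := mem_im_of_mem hhz
      have heq : h (t * z * t⁻¹) = t * h z * t⁻¹ := by
        have hz' := hW'.le hz
        rw [← SetLike.mem_coe, Subgroup.coe_mul_of_right_le_normalizer_left Q X (by
          intro x hx
          refine mem_normalizer_of_conj_mem hQS fun r hr => ?_
          rw [← comm_of_centT (hX hx) (hQ.1 hr), mul_inv_cancel_right]; exact hr)] at hz'
        obtain ⟨r, hr, x, hx, rfl⟩ := hz'
        have hrW : r ∈ W' := hW' ▸ Subgroup.mem_sup_left hr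
        have hxW : x ∈ W' := hW' ▸ Subgroup.mem_sup_right hx
        have hrt := conj_mem_of_normalizer ht.2 hr
        rw [show t * (r * x) * t⁻¹ = (t * r * t⁻¹) * (t * x * t⁻¹) by group, hcomm hX t ht.1 x hx,
          hh.map_mul (hW' ▸ Subgroup.mem_sup_left hrt) hxW, hh.map_mul hrW hxW, hhQ r hr, hhQ _ hrt,
          show t * (r * h x) * t⁻¹ = (t * r * t⁻¹) * (t * h x * t⁻¹) by group,
          hcomm hhX t ht.1 (h x) (mem_im_of_mem hx)]
      rw [← hse _ (av_mem χ hqz), av_mul _ _ (av_mem χ hqz), av_inv_av χ hqz, av_mul _ _ hqz, heq]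
      show _ = av χ (av (MulAut.congr e a) (q (h z)))
      rw [av_congr_apply he a hhz, ha _ hhz]
    exact ⟨g, hg.restrict (sup_le hNf (le_Nf hh3)), fun z hz => hge z hz⟩
  obtain ⟨g₁, hg₁, hg₁e⟩ := hext P W₁ κ hP hW₁ hκ hκi hκQ hκP
  obtain ⟨g₂, hg₂, hg₂e⟩ := hext (im P κ) W₂ id hκP hW₂ (map_id hW₂S) im_id (fun _ _ => rfl)
    (by rw [im_id]; exact hκP)
  have hQN : Q ≤ N := hN ▸ le_normalizerIn hQ.1
  have hκW : ∀ z ∈ W₁, g₁ z = g₂ (κ z) := fun z hz => by
    rw [hg₁e z hz, hg₂e _ (hκi.le (mem_im_of_mem hz))]; rfl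
  have hg₁Q : ∀ r ∈ Q, g₁ r = g₂ r := fun r hr => by rw [hκW r (hQW₁ hr), hκQ r hr]
  have hQ'c := centric_of_sub_map hEi hQ (hg₂.restrict (hQN.trans le_sup_left))
  have hN₁ : ∀ t ∈ N, g₁ t ∈ im (N ⊔ W₂) g₂ := by
    intro t ht
    have ht' : t ∈ normalizerIn T Q := hN ▸ ht
    have h1 : g₁ t ∈ T := stronglyClosed_map hT hg₁ (Subgroup.mem_sup_left ht) ht'.1
    have h2 : g₂ t ∈ T := stronglyClosed_map hT hg₂ (Subgroup.mem_sup_left ht) ht'.1
    have hu : (g₂ t)⁻¹ * g₁ t ∈ im Q g₂ := by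
      refine hQ'c.2 _ (isConj_refl hQ'c.1) (mem_centralizerIn.2 ⟨T.mul_mem (T.inv_mem h2) h1, fun z hz => ?_⟩)
      obtain ⟨r, hr, rfl⟩ := (hg₂.restrict (hQN.trans le_sup_left)).mem_im.1 hz
      have hrt := conj_mem_of_normalizer ht'.2 hr
      have e1 := hg₁.map_conj (Subgroup.mem_sup_left ht) (Subgroup.mem_sup_left (hQN hr))
      have e2 := hg₂.map_conj (Subgroup.mem_sup_left ht) (Subgroup.mem_sup_left (hQN hr))
      rw [hg₁Q r hr, hg₁Q _ hrt, e2] at e1
      calc g₂ r * ((g₂ t)⁻¹ * g₁ t) = (g₂ t)⁻¹ * (g₂ t * g₂ r * (g₂ t)⁻¹) * g₁ t := by group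
        _ = (g₂ t)⁻¹ * (g₁ t * g₂ r * (g₁ t)⁻¹) * g₁ t := by rw [e1]
        _ = _ := by group
    rw [show g₁ t = g₂ t * ((g₂ t)⁻¹ * g₁ t) by group]
    exact Subgroup.mul_mem _ (mem_im_of_mem (Subgroup.mem_sup_left ht))
      (im_mono (hQN.trans le_sup_left) hu)
  have hrange : ∀ z ∈ N ⊔ W₁, g₁ z ∈ im (N ⊔ W₂) g₂ := by
    intro z hz
    refine (show im N g₁ ⊔ im W₁ g₁ ≤ im (N ⊔ W₂) g₂ from sup_le (im_le_iff.2 hN₁) ?_)
      (hg₁.im_sup_le (mem_im_of_mem hz))
    exact im_le_iff.2 fun w hw => by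
      rw [hκW w hw]; exact mem_im_of_mem (Subgroup.mem_sup_right (hκi.le (mem_im_of_mem hw)))
  obtain ⟨l, hl, hlg, -, -⟩ := hg₂.exists_inv
  refine ⟨l ∘ g₁, (hg₁.comp hl hrange).restrict (hN ▸ sup_le_sup_left hPW₁ N), fun x hx => ?_⟩
  show l (g₁ x) = κ x
  rw [hκW x (hPW₁ hx)]
  exact hlg _ (Subgroup.mem_sup_right (hκi.le (mem_im_of_mem (hPW₁ hx))))

/-- A map on a centric subgroup of `E` and elements of `C_S(E)` is, on the latter, induced by a map defined
on `T`. -/
theorem exists_map_T (hS : IsPGroup p S) (hE : E.IsNormalIn F p) :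
    ∀ (R C₁ : Subgroup Ω) (g : Ω → Ω), E.IsCentric R → C₁ ≤ centEOf E F → Map F (R ⊔ C₁) g →
      ∃ h, Map F (T ⊔ C₁) h ∧ ∀ x ∈ C₁, h x = g x := by
  obtain ⟨hW, -⟩ := id hE
  obtain ⟨hEs, hF, hEi⟩ := id hW
  have hT := hEi.2.1
  haveI := finite_of_le hT.1
  have hsc := stronglyClosed_centEOf hS hE
  suffices ∀ n, ∀ (R C₁ : Subgroup Ω) (g : Ω → Ω), Nat.card T - Nat.card R = n → E.IsCentric R →
      C₁ ≤ centEOf E F → Map F (R ⊔ C₁) g → ∃ h, Map F (T ⊔ C₁) h ∧ ∀ x ∈ C₁, h x = g x from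
    fun R C₁ g => this _ R C₁ g rfl
  intro n
  induction n using Nat.strong_induction_on with
  | _ n ih =>
  intro R C₁ g hn hR hC₁ hg
  rcases eq_or_lt_of_le hR.1 with rfl | hlt
  · exact ⟨g, hg, fun x _ => rfl⟩
  obtain ⟨a, ha, e, he, hge⟩ := frattini_map hEi hR.1 (hg.restrict le_sup_left)
  obtain ⟨ê, hê, hêe, hêC⟩ := (centE_centEOf hS hE).2 R e he
  have hTfn : F.IsFullyNormalized T := by
    refine ⟨hT.1, fun U hU => ?_⟩
    obtain ⟨u, hu, hi⟩ := isConj_iff.1 hU
    rw [Subgroup.eq_of_le_of_card_ge (hi ▸ im_le_iff.2 fun z hz => stronglyClosed_map hT hu hz hz)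
      (isConj_card hU).le]
  obtain ⟨A, hA, hAa⟩ := (receptive_iff.1 (receptive_of_fc hS hF (fc_fa_of_fn hS hF hTfn).1)).2 T _
    (map_of_mem_autGroup hT.1 ha) (im_av a)
  have hAY : Map F (T ⊔ centralizerIn S T) A := hA.restrict
    (sup_le (le_Nf (map_of_mem_autGroup hT.1 ha)) centralizerIn_le_Nf)
  have hC₁T : C₁ ≤ centralizerIn S T := hC₁.trans centEOf_le
  have hêm : ∀ z ∈ R ⊔ C₁, ê z ∈ T ⊔ C₁ := by
    intro z hz
    refine (show im R ê ⊔ im C₁ ê ≤ T ⊔ C₁ from sup_le_sup ?_ ?_)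
      ((hê.restrict (sup_le_sup_left hC₁ R)).im_sup_le (mem_im_of_mem hz))
    · exact im_le_iff.2 fun w hw => by rw [hêe w hw]; exact he.mem hw
    · exact im_le_iff.2 fun w hw => by rw [hêC w (hC₁ hw)]; exact hw
  have hh₀ : Map F (R ⊔ C₁) (A ∘ ê) := (hê.restrict (sup_le_sup_left hC₁ R)).comp hAY fun z hz =>
    sup_le_sup_left hC₁T T (hêm z hz)
  have hh₀R : ∀ r ∈ R, (A ∘ ê) r = g r := fun r hr => by
    show A (ê r) = g r
    rw [hêe r hr, hAa _ (he.mem hr), hge r hr]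
  have hh₀C : ∀ x ∈ C₁, (A ∘ ê) x = A x := fun x hx => by
    show A (ê x) = A x
    rw [hêC x (hC₁ hx)]
  obtain ⟨k, hk, hkh, hhk, -⟩ := hh₀.exists_inv
  obtain ⟨R', hR'⟩ : ∃ R', R' = im R g := ⟨_, rfl⟩
  obtain ⟨C₂, hC₂⟩ : ∃ C₂, C₂ = im C₁ A := ⟨_, rfl⟩
  have hAC₁ : Map F C₁ A := hAY.restrict (hC₁T.trans le_sup_right)
  have hC₂C : C₂ ≤ centEOf E F :=
    hC₂ ▸ im_le_iff.2 fun x hx => stronglyClosed_map hsc hAC₁ hx (hC₁ hx)
  have hdom : R' ⊔ C₂ ≤ im (R ⊔ C₁) (A ∘ ê) := by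
    refine sup_le ?_ ?_
    · rw [hR', ← im_congr hh₀R]; exact im_mono le_sup_left
    · rw [hC₂, ← im_congr hh₀C]; exact im_mono le_sup_right
  have hκ : Map F (R' ⊔ C₂) (g ∘ k) := (hk.comp hg fun z hz => (hhk z hz).2).restrict hdom
  have hκR : ∀ r ∈ R', (g ∘ k) r = r := by
    intro r hr
    obtain ⟨w, hw, rfl⟩ := (hg.restrict le_sup_left).mem_im.1 (hR' ▸ hr)
    show g (k (g w)) = g w
    conv_lhs => rw [← hh₀R w hw]
    rw [hkh w (Subgroup.mem_sup_left hw)]
  have hR'c : E.IsCentric R' := hR' ▸ centric_of_sub_map hEi hR (hg.restrict le_sup_left)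
  have hC₂i : im C₂ (g ∘ k) ≤ centEOf E F := im_le_iff.2 fun x hx =>
    stronglyClosed_map hsc hκ (Subgroup.mem_sup_right hx) (hC₂C hx)
  obtain ⟨κ', hκ', hκ'e⟩ := exists_map_climbT hS hW hR'c (hC₂C.trans centEOf_le) hκ hκR (hC₂i.trans centEOf_le)
  have hR'lt : R' < T := lt_of_le_of_ne hR'c.1 fun he' => by
    have h1 := card_lt_of_lt hlt hT.1
    rw [← (hg.restrict le_sup_left).card_im, ← hR', he'] at h1
    omega
  have hlt2 := lt_normalizerIn (hS.to_le hT.1) hR'lt
  have hcard : Nat.card T - Nat.card ↥(normalizerIn T R') < n := by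
    have h1 := card_lt_of_lt hlt2 (inf_le_left.trans hT.1)
    have h2 : Nat.card ↥R' = Nat.card ↥R := by rw [hR', (hg.restrict le_sup_left).card_im]
    have h3 : Nat.card ↥(normalizerIn T R') ≤ Nat.card ↥T := Subgroup.card_le_of_le inf_le_left
    omega
  obtain ⟨h', hh', hh'e⟩ := ih _ hcard _ C₂ κ' rfl (centric_mono hR'c hlt2.le inf_le_left) hC₂C hκ'
  have hAm : ∀ z ∈ T ⊔ C₁, A z ∈ T ⊔ C₂ := by
    intro z hz
    refine (show im T A ⊔ im C₁ A ≤ T ⊔ C₂ from sup_le_sup ?_ hC₂.ge)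
      ((hAY.restrict (sup_le_sup_left hC₁T T)).im_sup_le (mem_im_of_mem hz))
    exact im_le_iff.2 fun w hw => stronglyClosed_map hT hAY (Subgroup.mem_sup_left hw) hw
  refine ⟨h' ∘ A, (hAY.restrict (sup_le_sup_left hC₁T T)).comp hh' hAm, fun x hx => ?_⟩
  have hAx : A x ∈ C₂ := hC₂ ▸ mem_im_of_mem hx
  show h' (A x) = g x
  rw [hh'e _ hAx, hκ'e _ hAx]
  show g (k (A x)) = g x
  rw [← hh₀C x hx, hkh x (Subgroup.mem_sup_right hx)]

/-- Every map between subgroups of `C_S(E)` extends to `T`. -/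
theorem exists_extend_T (hS : IsPGroup p S) (hE : E.IsNormalIn F p) (hf : Map F P f)
    (hP : P ≤ centEOf E F) : ∃ h, Map F (T ⊔ P) h ∧ ∀ x ∈ P, h x = f x := by
  obtain ⟨hW, -⟩ := id hE
  obtain ⟨hEs, hF, hEi⟩ := id hW
  have hT := hEi.2.1
  have hsc := stronglyClosed_centEOf hS hE
  set C := centEOf E F
  let K : Subgroup Ω → (Ω → Ω) → Prop := fun P f =>
    ∃ h, Map F (T ⊔ (P ⊓ C)) h ∧ ∀ x ∈ P ⊓ C, h x = f x
  have hmem : ∀ {X : Subgroup Ω} {h : Ω → Ω}, Map F (T ⊔ X) h → ∀ {Y : Subgroup Ω},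
      (∀ x ∈ X, h x ∈ Y) → ∀ z ∈ T ⊔ X, h z ∈ T ⊔ Y := by
    intro X h hh Y hXY z hz
    refine (show im T h ⊔ im X h ≤ T ⊔ Y from sup_le_sup ?_ (im_le_iff.2 hXY))
      (hh.im_sup_le (mem_im_of_mem hz))
    exact im_le_iff.2 fun w hw => stronglyClosed_map hT hh (Subgroup.mem_sup_left hw) hw
  have hK : IsClosedClass F K :=
    { congr := fun ⟨h, hh, he⟩ hfg => ⟨h, hh, fun x hx => (he x hx).trans (hfg x hx.1)⟩
      restrict := fun _ ⟨h, hh, he⟩ hR => ⟨h, hh.restrict (sup_le_sup_left (inf_le_inf_right C hR) T),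
        fun x hx => he x ⟨hR hx.1, hx.2⟩⟩
      comp := fun hf hg ⟨h, hh, he⟩ ⟨h', hh', he'⟩ hm => by
        have hX := fun x (hx : x ∈ _ ⊓ C) => (⟨hm x hx.1, stronglyClosed_map hsc hf hx.1 hx.2⟩ :
          _ ∈ _ ⊓ C)
        refine ⟨h' ∘ h, hh.comp hh' (hmem hh fun x hx => by rw [he x hx]; exact hX x hx), fun x hx => ?_⟩
        show h' (h x) = _
        rw [he x hx, he' _ (hX x hx)]; rfl
      inv := fun {P f g} hf ⟨h, hh, he⟩ hgf => by
        obtain ⟨k, hk, hkh, -, -⟩ := hh.exists_inv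
        have hpre : ∀ y ∈ im P f ⊓ C, ∃ x ∈ P ⊓ C, f x = y := by
          rintro y ⟨hy, hyC⟩
          obtain ⟨x, hx, rfl⟩ := hf.mem_im.1 hy
          obtain ⟨g', hg', hg'f, -, -⟩ := hf.exists_inv
          exact ⟨x, ⟨hx, hg'f x hx ▸ stronglyClosed_map hsc hg' (mem_im_of_mem hx) hyC⟩, rfl⟩
        haveI := finite_of_le hT.1
        have hTi : im T h = T := Subgroup.eq_of_le_of_card_ge
          (im_le_iff.2 fun w hw => stronglyClosed_map hT hh (Subgroup.mem_sup_left hw) hw)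
          (hh.restrict le_sup_left).card_im.ge
        refine ⟨k, hk.restrict (sup_le (hTi.ge.trans (im_mono le_sup_left)) fun y hy => ?_), fun y hy => ?_⟩
        · obtain ⟨x, hx, rfl⟩ := hpre y hy
          rw [← he x hx]; exact mem_im_of_mem (Subgroup.mem_sup_right hx)
        · obtain ⟨x, hx, rfl⟩ := hpre y hy
          rw [hgf x hx.1, ← he x hx, hkh x (Subgroup.mem_sup_right hx)] }
  obtain ⟨h, hh, he⟩ := alperin hS hF hK (fun U hU α hα => by
    obtain ⟨hUc, hUr⟩ := gen_centric_radical hS hF hU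
    have hR : E.IsCentric (U ⊓ T) := by
      by_contra hno
      exact (not_radical_of_inter_not_centric hS hF hT hEi.1 hUc hno).2 hUr
    obtain ⟨h, hh, he⟩ := exists_map_T hS hE (U ⊓ T) (U ⊓ C) (av α) hR inf_le_right
      ((map_of_mem_autGroup hUc.1 hα).restrict (sup_le inf_le_left inf_le_left))
    exact ⟨h, hh, he⟩) P f hf
  rw [inf_eq_left.2 hP] at hh he
  exact ⟨h, hh, he⟩

/-- `C_F(E)` exists as a normal subsystem of `F` inside `C_F(T)`. -/
theorem exists_centralizer_system_full (hS : IsPGroup p S) (hE : E.IsNormalIn F p) :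
    ∃ D : FusionSystem (centEOf E F), D.IsNormalIn F p ∧
      (∀ P : Subgroup Ω, D.Hom P ⊆ F.centralizerHom T P) ∧
      (centralizerIn S T ≤ centEOf E F → ∀ P : Subgroup Ω, F.centralizerHom T P ⊆ D.Hom P) := by
  obtain ⟨hW, -⟩ := id hE
  obtain ⟨hEs, hF, hEi⟩ := id hW
  have hT := hEi.2.1
  haveI := finite_of_le hT.1
  have hsc := stronglyClosed_centEOf hS hE
  set C := centEOf E F with hCdef
  have hCS : C ≤ S := hsc.1
  have hCT : C ≤ centralizerIn S T := centEOf_le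
  haveI := finite_of_le hCS
  haveI : Finite ↥(centralizerIn S T) := finite_of_le inf_le_left
  have hTfn : F.IsFullyNormalized T := by
    refine ⟨hT.1, fun U hU => ?_⟩
    obtain ⟨u, hu, hi⟩ := isConj_iff.1 hU
    rw [Subgroup.eq_of_le_of_card_ge (hi ▸ im_le_iff.2 fun z hz => stronglyClosed_map hT hu hz hz)
      (isConj_card hU).le]
  have hTfc := (fc_fa_of_fn hS hF hTfn).1
  set G := centSys F hTfc.1
  have hGs : G.IsSaturated p := centSys_saturated hS hF hTfc
  have hGp : IsPGroup p ↥(centralizerIn S T) := hS.to_le inf_le_left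
  have hGF : G.IsSubsystemOf F := fun P φ hφ => (show φ ∈ F.centralizerHom T P from hφ).1
  have hfoc : G.hyperfocalSubgroup p ≤ C := by
    refine (Subgroup.closure_le _).2 ?_
    rintro _ ⟨P, α, x, hP, -, rfl⟩
    have hm := map_of_mem_autGroup (F := G) hP α.2
    obtain ⟨-, g, hg, hgf, hgT⟩ := map_centSys.1 hm
    have h := focal_centE hS hE (V := {(x : Ω)⁻¹ * g x}) (by
      rintro v hv
      obtain rfl := Set.mem_singleton_iff.1 hv
      exact ⟨x, g, hP x.2, hg.restrict (sup_le le_sup_right ((Subgroup.zpowers_le.2 x.2).trans le_sup_left)),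
        hgT, rfl⟩)
    have := h.le_centEOf (Subgroup.subset_closure rfl)
    rwa [hgf x x.2, av_coe] at this
  obtain ⟨D, hDs, hDp⟩ := exists_pPower hGp hGs hCT hfoc
  have hCn : (C.subgroupOf (centralizerIn S T)).Normal := ⟨fun c hc g =>
    stronglyClosed_conj_mem hsc g.2.1 hc⟩
  have hDn := pPower_normal hGp hGs hCn hDs hDp
  have hDG : D.IsSubsystemOf G := hDp.1
  have hDF : D.IsSubsystemOf F := fun P φ hφ => hGF P (hDG P hφ)
  have hfull : centralizerIn S T ≤ C → ∀ P : Subgroup Ω, F.centralizerHom T P ⊆ D.Hom P := by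
    intro hle P φ hφ
    have heq := le_antisymm hCT hle
    have aux : ∀ {U : Subgroup Ω} (_ : U = centralizerIn S T) (D : FusionSystem U),
        D.IsSaturated p → D.HasPPowerIndexIn G p → ∀ P, G.Hom P ⊆ D.Hom P := by
      rintro U rfl D hDs hDp P
      rw [pPower_unique hGp hDs hDp hGs ⟨fun _ => le_rfl, hyperfocal_le,
        fun P _ => Subgroup.map_subtype_le _⟩]
    exact aux heq D hDs hDp P hφ
  refine ⟨D, ⟨⟨hDs, hF, hDF, hsc, fun P hPC φ hφ α hα => ?_, fun P hPC φ hφ => ?_⟩, fun α hα => ?_⟩,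
    fun P φ hφ => hDG P hφ, hfull⟩
  · -- invariance
    have hαm : Map F C (av α) := map_of_mem_autGroup hCS hα
    obtain ⟨a, ha, hae⟩ := exists_extend_T hS hE hαm le_rfl
    have hTa : ∀ t ∈ T, a t ∈ T := fun t ht => stronglyClosed_map hT ha (Subgroup.mem_sup_left ht) ht
    have hTai : im T a = T := Subgroup.eq_of_le_of_card_ge (im_le_iff.2 hTa) (ha.restrict le_sup_left).card_im.ge
    have him : ∀ {X : Subgroup Ω}, X ≤ C → im X (av α) ≤ C := fun hX =>
      im_le_iff.2 fun x hx => av_mem α (hX hx)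
    have htr : ∀ (R : Subgroup Ω), R ≤ C → ∀ (e : R ≃* ↥(im R (av α))),
        (∀ x : R, (e x : Ω) = av α x) → ∀ γ ∈ G.autGroup R, MulAut.congr e γ ∈ G.autGroup (im R (av α)) := by
      intro R hR e he γ hγ
      obtain ⟨-, c, hc, hcγ, hcT⟩ := map_centSys.1 (map_of_mem_autGroup (F := G) (hR.trans hCT) hγ)
      have haR : Map F (T ⊔ R) a := ha.restrict (sup_le_sup_left hR T)
      obtain ⟨k, hk, hka, hak, -⟩ := haR.exists_inv
      have hdom : im R (av α) ⊔ T ≤ im (T ⊔ R) a := by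
        refine sup_le ?_ (hTai.ge.trans (im_mono le_sup_left))
        rw [← im_congr (f := a) fun x hx => hae x (hR hx)]
        exact im_mono le_sup_right
      have hcm : ∀ z ∈ R ⊔ T, c z ∈ T ⊔ R := by
        intro z hz
        refine (show im R c ⊔ im T c ≤ T ⊔ R from sup_le ?_ ?_) (hc.im_sup_le (mem_im_of_mem hz))
        · exact im_le_iff.2 fun w hw => Subgroup.mem_sup_right (by rw [hcγ w hw]; exact av_mem γ hw)
        · exact im_le_iff.2 fun w hw => Subgroup.mem_sup_left (by rw [hcT w hw]; exact hw)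
      have hk' : ∀ z ∈ im R (av α) ⊔ T, k z ∈ R ⊔ T := fun z hz => by
        rw [sup_comm]; exact (hak z (hdom hz)).2
      refine mem_autGroup_of_map (map_centSys.2 ⟨(him hR).trans hCT, a ∘ c ∘ k,
        ((hk.restrict hdom).comp hc hk').comp haR fun z hz => hcm _ (hk' z hz), fun y hy => ?_, fun y hy => ?_⟩)
      · obtain ⟨x, hx, rfl⟩ := (hαm.restrict hR).mem_im.1 hy
        show a (c (k (av α x))) = av (MulAut.congr e γ) (av α x)
        rw [av_congr_apply he γ hx, ← hae x (hR hx), hka x (Subgroup.mem_sup_right hx), hcγ x hx,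
          hae _ (hR (av_mem γ hx))]
      · obtain ⟨t, ht, rfl⟩ := (ha.restrict le_sup_left).mem_im.1 (hTai.ge hy)
        show a (c (k (a t))) = a t
        rw [hka t (Subgroup.mem_sup_left ht), hcT t ht]
    have htrP : ∀ (R : Subgroup Ω), R ≤ C → ∀ (e : R ≃* ↥(im R (av α))),
        (∀ x : R, (e x : Ω) = av α x) → ∀ γ : G.autGroup R, γ ∈ pResidual p ↥(G.autGroup R) →
        MulAut.congr e (γ : MulAut R) ∈ D.autGroup (im R (av α)) := by
      intro R hR e he γ hγ
      haveI := mulAut_finite_of_le (hR.trans hCS)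
      let c : G.autGroup R →* G.autGroup (im R (av α)) :=
        ((MulAut.congr e).toMonoidHom.comp (G.autGroup R).subtype).codRestrict _
          (fun b => htr R hR e he b b.2)
      exact hDp.2.2 _ (him hR) ⟨c γ, Fusion.map_pResidual_le c ⟨γ, hγ, rfl⟩, rfl⟩
    have hkey : ∀ (P : Subgroup Ω) (f : Ω → Ω), Map D P f →
        ∃ h, Map D (im P (av α)) h ∧ ∀ x ∈ P, h (av α x) = av α (f x) := by
      intro P f hf
      refine alperin (F := D) (K := fun P f => ∃ h, Map D (im P (av α)) h ∧ ∀ x ∈ P, h (av α x) = av α (f x))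
        (hS.to_le hCS) hDs ⟨?_, ?_, ?_, ?_⟩ ?_ P f hf
      · rintro P f g ⟨h, hh, hhe⟩ he
        exact ⟨h, hh, fun x hx => he x hx ▸ hhe x hx⟩
      · rintro P R f - ⟨h, hh, hhe⟩ hR
        exact ⟨h, hh.restrict (im_mono hR), fun x hx => hhe x (hR hx)⟩
      · rintro P Q f g hfm hgm ⟨h, hh, hhe⟩ ⟨h', hh', hhe'⟩ hm
        refine ⟨h' ∘ h, hh.comp hh' fun y hy => ?_, fun x hx => ?_⟩
        · obtain ⟨x, hx, rfl⟩ := (hαm.restrict hfm.le).mem_im.1 hy
          rw [hhe x hx]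
          exact mem_im_of_mem (hm x hx)
        · show h' (h (av α x)) = av α (g (f x))
          rw [hhe x hx, hhe' _ (hm x hx)]
      · rintro P f g hfm ⟨h, hh, hhe⟩ hinv
        obtain ⟨k, hk, hkh, -, -⟩ := hh.exists_inv
        have hi : im (im P (av α)) h = im (im P f) (av α) := by
          rw [← hfm.im_comp, ← (hαm.restrict hfm.le).im_comp]
          exact im_congr hhe
        rw [hi] at hk
        refine ⟨k, hk, fun y hy => ?_⟩
        obtain ⟨x, hx, rfl⟩ := hfm.mem_im.1 hy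
        rw [hinv x hx, ← hhe x hx, hkh _ (mem_im_of_mem hx)]
      · intro R hR γ hγ
        have hRfn := gen_fn (F := D) (p := p) hR
        obtain ⟨β, hβ, δ, hδ, rfl⟩ := exists_autS_mul_residual (hS.to_le hCS) hDs hRfn hγ
        obtain ⟨t, ht, htβ⟩ := mem_autInducedBy.1 hβ
        obtain ⟨e, he⟩ := exists_equiv (hαm.restrict hRfn.1) rfl
        obtain ⟨δ', hδ', hδe⟩ := pResidual_mono_sub hDG hRfn.1 (α := (δ : MulAut R)) ⟨δ, hδ, rfl⟩
        have h1 := htrP R hRfn.1 e he δ' hδ'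
        have hδ'' : (δ' : MulAut R) = (δ : MulAut R) := hδe
        rw [hδ''] at h1
        refine ⟨fun y => av α t * av (MulAut.congr e (δ : MulAut R)) y * (av α t)⁻¹,
          (map_of_mem_autGroup (him hRfn.1) h1).comp (map_conjBy (him hRfn.1) (av_mem α ht))
            fun y hy => av_mem _ hy, fun x hx => ?_⟩
        show av α t * _ * _ = _
        rw [av_congr_apply (f := av α) he (δ : MulAut R) hx, av_mul _ _ hx, htβ _ (av_mem _ hx),
          hαm.map_conj ht (hRfn.1 (av_mem _ hx))]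
    obtain ⟨u, hu, hue⟩ := hkey P _ (map_of_mem hφ)
    have hP' : (P.subgroupOf C).map (C.subtype.comp α.toMonoidHom) = im P (av α) :=
      map_subgroupOf_eq_im hPC fun x => (av_coe α x).symm
    rw [← hP'] at hu
    obtain ⟨χ, hχ, hχu⟩ := hu
    refine ⟨χ, hχ, fun x hφx hαx => ?_⟩
    rw [hχu ⟨_, hαx⟩, ← av_apply α hφx]
    show u ((α ⟨x, hPC x.2⟩ : C) : Ω) = _
    rw [← av_apply α (hPC x.2), hue x x.2, fn_coe]
  · -- Frattini condition
    obtain ⟨h, hh, hhe⟩ := exists_extend_T hS hE (map_of_mem hφ) hPC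
    have hTh : ∀ t ∈ T, h t ∈ T := fun t ht => stronglyClosed_map hT hh (Subgroup.mem_sup_left ht) ht
    have hThi : im T h = T := Subgroup.eq_of_le_of_card_ge (im_le_iff.2 hTh) (hh.restrict le_sup_left).card_im.ge
    obtain ⟨a, ha, hah⟩ := exists_aut (hh.restrict le_sup_left) hThi
    obtain ⟨A, hA, hAa⟩ := (receptive_iff.1 (receptive_of_fc hS hF hTfc)).2 T _
      (map_of_mem_autGroup hT.1 ha) (im_av a)
    have hAY : Map F (T ⊔ centralizerIn S T) A := hA.restrict
      (sup_le (le_Nf (map_of_mem_autGroup hT.1 ha)) centralizerIn_le_Nf)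
    have hAT : ∀ t ∈ T, A t = h t := fun t ht => (hAa t ht).trans (hah t ht)
    have hAC : Map F (T ⊔ C) A := hAY.restrict (sup_le_sup_left hCT T)
    have hACi : im C A = C := Subgroup.eq_of_le_of_card_ge
      (im_le_iff.2 fun x hx => stronglyClosed_map hsc hAC (Subgroup.mem_sup_right hx) hx)
      (hAC.restrict le_sup_right).card_im.ge
    have hATi : im T A = T := by rw [im_congr hAT, hThi]
    obtain ⟨α, hα, hαA⟩ := exists_aut (hAC.restrict le_sup_right) hACi
    obtain ⟨k, hk, hkA, hAk, -⟩ := hAC.exists_inv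
    have hhm : ∀ z ∈ T ⊔ P, h z ∈ im (T ⊔ C) A := by
      intro z hz
      refine (show im T h ⊔ im P h ≤ im (T ⊔ C) A from sup_le ?_ ?_) (hh.im_sup_le (mem_im_of_mem hz))
      · rw [hThi]; exact hATi.ge.trans (im_mono le_sup_left)
      · refine im_le_iff.2 fun x hx => im_mono le_sup_right (hACi.ge ?_)
        exact stronglyClosed_map hsc hh (Subgroup.mem_sup_right hx) (hPC hx)
    have hψ : Map G P (k ∘ h) := map_centSys.2 ⟨hPC.trans hCT, k ∘ h,
      (hh.comp hk hhm).restrict (sup_comm T P).ge, fun x hx => rfl, fun t ht => by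
        show k (h t) = t
        rw [← hAT t ht, hkA t (Subgroup.mem_sup_left ht)]⟩
    obtain ⟨α', hα', ψ₀, hψ₀, hψe⟩ := frattini_map hDn.1.2.2 hPC hψ
    obtain ⟨φ₀, hφ₀, hφ₀e⟩ := id hψ₀
    refine ⟨α * α', mul_mem hα (mem_autGroup_of_map ((map_of_mem_autGroup (F := G) hCT hα').of_sub hGF)),
      φ₀, hφ₀, fun x hx => ?_⟩
    rw [← av_apply _ hx, hφ₀e x, av_mul _ _ (hψ₀.mem x.2), ← hψe x x.2, ← fn_coe φ x, ← hhe x x.2]
    have hkx : (k ∘ h) x ∈ C := by rw [hψe x x.2]; exact av_mem α' (hψ₀.mem x.2)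
    rw [hαA _ hkx]
    exact ((hAk _ (hhm _ (Subgroup.mem_sup_right x.2))).1).symm
  · -- extension condition
    set L := C ⊔ centralizerIn S C with hLdef
    have hL : L ≤ S := sup_le hCS inf_le_left
    haveI := mulAut_finite_of_le hL
    haveI := mulAut_finite_of_le hCS
    have hTL : T ≤ centralizerIn S C := fun t ht => mem_centralizerIn.2
      ⟨hT.1 ht, fun c hc => (comm_of_centT (hCT hc) ht).symm⟩
    let B : MulAut C → Prop := fun α => ∃ β ∈ F.autGroup L, (∀ x ∈ C, av β x = av α x) ∧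
      ∀ c ∈ centralizerIn S C, c⁻¹ * av β c ∈ C ⊓ Subgroup.centralizer (C : Set Ω)
    have hone : B 1 := ⟨1, one_mem _, fun x hx => by rw [av_one (Subgroup.mem_sup_left hx), av_one hx],
      fun c hc => by rw [av_one (Subgroup.mem_sup_right hc), inv_mul_cancel]; exact one_mem _⟩
    have hmul : ∀ a a', B a → B a' → B (a * a') := by
      rintro a a' ⟨β, hβ, hβC, hβs⟩ ⟨β', hβ', hβC', hβs'⟩
      refine ⟨β * β', mul_mem hβ hβ', fun x hx => ?_, fun c hc => ?_⟩
      · rw [av_mul _ _ (Subgroup.mem_sup_left hx), av_mul _ _ hx, hβC' x hx, hβC _ (av_mem _ hx)]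
      · have hz := hβs' c hc
        have hcL : c ∈ L := Subgroup.mem_sup_right hc
        rw [av_mul _ _ hcL, show av β' c = c * (c⁻¹ * av β' c) by group,
          (map_of_mem_autGroup hL hβ).map_mul hcL (Subgroup.mem_sup_left hz.1), ← mul_assoc]
        refine Subgroup.mul_mem _ (hβs c hc) ?_
        rw [hβC _ hz.1]
        refine ⟨av_mem _ hz.1, Subgroup.mem_centralizer_iff.2 fun y hy => ?_⟩
        have hy' := av_mem a⁻¹ hy
        have := Subgroup.mem_centralizer_iff.1 hz.2 _ hy'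
        have h2 := congrArg (av a) this
        rw [av_apply _ (C.mul_mem hy' hz.1), av_apply _ (C.mul_mem hz.1 hy')] at h2
        rw [← av_av_inv a hy, av_apply a hy', av_apply a hz.1, ← Subgroup.coe_mul, ← map_mul, ← Subgroup.coe_mul,
          ← map_mul]
        exact h2
    have hp' : ∀ δ : D.autGroup C, (orderOf δ).Coprime p → B (δ : MulAut C) := by
      intro δ hδ
      rcases Nat.lt_or_ge 1 (orderOf δ) with h1 | h1
      swap
      · haveI : Finite ↥(D.autGroup C) := inferInstance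
        rw [orderOf_eq_one_iff.1 (le_antisymm h1 (orderOf_pos δ))]; exact hone
      obtain ⟨-, d, hd, hdδ, hdT⟩ := map_centSys.1 ((map_of_mem_autGroup (F := D) le_rfl δ.2).of_sub hDG)
      have hXS : C ⊔ T ≤ S := sup_le hCS hT.1
      have hdC : im C d = C := by rw [im_congr hdδ, im_av]
      have hdTi : im T d = T := by rw [im_congr (g := id) hdT, im_id]
      have hdi : im (C ⊔ T) d = C ⊔ T := le_antisymm (hd.im_sup_le.trans (sup_le_sup hdC.le hdTi.le))
        (sup_le (hdC.ge.trans (im_mono le_sup_left)) (hdTi.ge.trans (im_mono le_sup_right)))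
      have hXfn : F.IsFullyNormalized (C ⊔ T) := by
        refine ⟨hXS, fun U hU => ?_⟩
        obtain ⟨u, hu, hi⟩ := isConj_iff.1 hU
        haveI := finite_of_le hXS
        rw [Subgroup.eq_of_le_of_card_ge (hi ▸ hu.im_sup_le.trans (sup_le_sup
          (im_le_iff.2 fun z hz => stronglyClosed_map hsc hu (Subgroup.mem_sup_left hz) hz)
          (im_le_iff.2 fun z hz => stronglyClosed_map hT hu (Subgroup.mem_sup_right hz) hz)))
          (isConj_card hU).le]
      obtain ⟨G₁, hG₁, hG₁d⟩ := (receptive_iff.1 (receptive_of_fc hS hF (fc_fa_of_fn hS hF hXfn).1)).2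
        (C ⊔ T) d hd hdi
      have hLN : L ≤ Nf S (C ⊔ T) d := by
        refine sup_le (le_sup_left.trans (le_Nf hd)) fun s hs => ?_
        obtain ⟨hsS, hsC⟩ := mem_centralizerIn.1 hs
        have hconjC : ∀ x ∈ C, s * x * s⁻¹ = x := fun x hx => by
          rw [← hsC x hx, mul_inv_cancel_right]
        have hle : C ⊔ T ≤ (C ⊔ T).comap (MulAut.conj s).toMonoidHom := by
          refine sup_le (fun x hx => ?_) fun x hx => Subgroup.mem_sup_right (stronglyClosed_conj_mem hT hsS hx)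
          show s * x * s⁻¹ ∈ C ⊔ T
          rw [hconjC x hx]; exact Subgroup.mem_sup_left hx
        refine ⟨hsS, mem_normalizer_of_conj_mem hXS fun z hz => hle hz, s, hsS, fun x hx => ?_⟩
        have hm₁ : Map F (C ⊔ T) (d ∘ fun x => s * x * s⁻¹) :=
          (map_conjBy hXS hsS).comp hd fun z hz => hle hz
        have hm₂ : Map F (C ⊔ T) ((fun x => s * x * s⁻¹) ∘ d) :=
          hd.comp (map_conjBy hXS hsS) fun z hz => hdi.le (mem_im_of_mem hz)
        suffices ∀ z ∈ Subgroup.closure ((C : Set Ω) ∪ (T : Set Ω)),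
            z ∈ C ⊔ T ∧ d (s * z * s⁻¹) = s * d z * s⁻¹ by
          have hle' : C ⊔ T ≤ Subgroup.closure ((C : Set Ω) ∪ (T : Set Ω)) :=
            sup_le (fun z hz => Subgroup.subset_closure (Or.inl hz)) fun z hz =>
              Subgroup.subset_closure (Or.inr hz)
          exact (this x (hle' hx)).2
        intro z hz
        induction hz using Subgroup.closure_induction with
        | mem v hv =>
          rcases hv with hv | hv
          · refine ⟨Subgroup.mem_sup_left hv, ?_⟩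
            rw [hconjC v hv, hdδ v hv, hconjC _ (av_mem _ hv)]
          · refine ⟨Subgroup.mem_sup_right hv, ?_⟩
            rw [hdT _ (stronglyClosed_conj_mem hT hsS hv), hdT v hv]
        | one => exact ⟨Subgroup.one_mem _, by simp [hd.map_one]⟩
        | mul u v _ _ hu hv =>
          refine ⟨Subgroup.mul_mem _ hu.1 hv.1, ?_⟩
          have e1 := hm₁.map_mul hu.1 hv.1
          have e2 := hm₂.map_mul hu.1 hv.1
          simp only [Function.comp] at e1 e2
          rw [e1, hu.2, hv.2, e2]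
        | inv u _ hu =>
          refine ⟨Subgroup.inv_mem _ hu.1, ?_⟩
          have e1 := hm₁.map_inv hu.1
          have e2 := hm₂.map_inv hu.1
          simp only [Function.comp] at e1 e2
          rw [e1, hu.2, e2]
      have hgL := hG₁.restrict hLN
      have hgC : ∀ x ∈ C, G₁ x = av (δ : MulAut C) x := fun x hx =>
        (hG₁d x (Subgroup.mem_sup_left hx)).trans (hdδ x hx)
      have hgT : ∀ x ∈ T, G₁ x = x := fun x hx => (hG₁d x (Subgroup.mem_sup_right hx)).trans (hdT x hx)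
      have hgi : im L G₁ = L := by
        haveI := finite_of_le hL
        refine Subgroup.eq_of_le_of_card_ge (hgL.im_sup_le.trans (sup_le_sup ?_ (im_le_iff.2 fun c hc => ?_)))
          hgL.card_im.ge
        · rw [im_congr hgC, im_av]
        · have := hgL.mem_centralizer le_sup_left (Subgroup.mem_sup_right hc) (mem_centralizerIn.1 hc).2
          rwa [im_congr hgC, im_av] at this
      obtain ⟨β₀, hβ₀, hβ₀e⟩ := exists_aut hgL hgi
      obtain ⟨n, r, hr, hord⟩ := Nat.exists_eq_pow_mul_and_not_dvd (orderOf_pos β₀).ne' p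
        (Fact.out : p.Prime).ne_one
      obtain ⟨k, -, hk⟩ := Nat.exists_mul_mod_eq_one_of_coprime (hδ.symm.pow_left n) h1
      obtain ⟨β, hβdef⟩ : ∃ β, β = β₀ ^ (p ^ n * k) := ⟨_, rfl⟩
      have hβF : β ∈ F.autGroup L := hβdef ▸ pow_mem hβ₀ _
      have hβo : (orderOf β).Coprime p := by
        refine Nat.Coprime.coprime_dvd_left (orderOf_dvd_of_pow_eq_one (x := β) (n := r) ?_)
          ((Nat.Prime.coprime_iff_not_dvd Fact.out).2 hr).symm
        rw [hβdef, ← pow_mul, mul_right_comm, ← hord, pow_mul, pow_orderOf_eq_one, one_pow]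
      have hβC : ∀ x ∈ C, av β x = av (δ : MulAut C) x := fun x hx => by
        rw [hβdef, av_pow (α := (δ : MulAut C)) le_sup_left
          (fun y hy => (hβ₀e y (Subgroup.mem_sup_left hy)).trans (hgC y hy)) _ x hx,
          ← SubmonoidClass.coe_pow, ← pow_mod_orderOf, hk, pow_one]
      have hTL' : T ≤ L := hTL.trans le_sup_right
      have hβT : ∀ x ∈ T, av β x = x := fun x hx => by
        rw [hβdef, av_pow (α := (1 : MulAut T)) hTL'
          (fun y hy => (hβ₀e y (hTL' hy)).trans ((hgT y hy).trans (av_one hy).symm)) _ x hx, one_pow, av_one hx]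
      have hmβ := map_of_mem_autGroup hL hβF
      refine ⟨β, hβF, hβC, fun s hs => ?_⟩
      -- the shift
      obtain ⟨z, hzdef⟩ : ∃ z, z = s⁻¹ * av β s := ⟨_, rfl⟩
      have hsL : s ∈ L := Subgroup.mem_sup_right hs
      have hsS := (mem_centralizerIn.1 hs).1
      have hβsC : av β s ∈ centralizerIn S C := by
        have := hmβ.mem_centralizer le_sup_left hsL (mem_centralizerIn.1 hs).2
        rwa [im_congr hβC, im_av] at this
      have hzC' : z ∈ centralizerIn S C := hzdef ▸ Subgroup.mul_mem _ (Subgroup.inv_mem _ hs) hβsC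
      have hzT : z ∈ centralizerIn S T := by
        refine mem_centralizerIn.2 ⟨(mem_centralizerIn.1 hzC').1, fun t ht => ?_⟩
        have hst := stronglyClosed_conj_mem hT hsS ht
        have h2 := hmβ.map_conj hsL (hTL' ht)
        rw [hβT _ hst, hβT t ht] at h2
        rw [hzdef]
        calc t * (s⁻¹ * av β s) = s⁻¹ * (s * t * s⁻¹) * av β s := by group
          _ = s⁻¹ * (av β s * t * (av β s)⁻¹) * av β s := by rw [h2]
          _ = _ := by group
      obtain ⟨Z, hZ⟩ : ∃ Z, Z = centralizerIn S T ⊓ centralizerIn S C := ⟨_, rfl⟩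
      have hZL : C ⊔ Z ≤ L := sup_le_sup_left (hZ.le.trans inf_le_right) C
      have hZi : im Z (av β) ≤ Z := by
        refine hZ ▸ im_le_iff.2 fun w hw => ⟨?_, ?_⟩
        · have h2 := hmβ.mem_centralizer hTL' (Subgroup.mem_sup_right hw.2) (mem_centralizerIn.1 hw.1).2
          rwa [im_congr (g := id) hβT, im_id] at h2
        · have h2 := hmβ.mem_centralizer le_sup_left (Subgroup.mem_sup_right hw.2) (mem_centralizerIn.1 hw.2).2
          rwa [im_congr hβC, im_av] at h2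
      have hmCZ := hmβ.restrict hZL
      have hCZi : im (C ⊔ Z) (av β) = C ⊔ Z := by
        haveI := finite_of_le (hZL.trans hL)
        refine Subgroup.eq_of_le_of_card_ge (hmCZ.im_sup_le.trans (sup_le_sup ?_ hZi)) hmCZ.card_im.ge
        rw [im_congr hβC, im_av]
      obtain ⟨β₁, hβ₁, hβ₁e⟩ := exists_aut hmCZ hCZi
      have hβ₁G : β₁ ∈ G.autGroup (C ⊔ Z) := mem_autGroup_of_map (map_centSys.2
        ⟨sup_le hCT (hZ.le.trans inf_le_left), av β, hmβ.restrict (sup_le hZL hTL'),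
          fun x hx => (hβ₁e x hx).symm, hβT⟩)
      haveI := mulAut_finite_of_le (hZL.trans hL)
      have hβ₁o : (orderOf (⟨β₁, hβ₁G⟩ : G.autGroup (C ⊔ Z))).Coprime p := by
        rw [Subgroup.orderOf_mk]
        refine Nat.Coprime.coprime_dvd_left (orderOf_dvd_of_pow_eq_one (aut_ext fun w hw => ?_)) hβo
        have := av_pow hZL (α := β₁) (β := β) (fun x hx => (hβ₁e x hx).symm) (orderOf β) w hw
        rw [pow_orderOf_eq_one, av_one (hZL hw)] at this
        rw [av_one hw]; exact this.symm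
      have hsh : ∀ w ∈ Z, w⁻¹ * av β w ∈ C ⊓ Subgroup.centralizer (C : Set Ω) := by
        intro w hw
        have hw' : w ∈ C ⊔ Z := Subgroup.mem_sup_right hw
        refine ⟨?_, (Subgroup.mul_mem _ (Subgroup.inv_mem _ (hZ.le hw).2) (hZ.le (hZi (mem_im_of_mem hw))).2).2⟩
        rw [← hβ₁e w hw']
        exact hfoc (inv_mul_mem_hyperfocal (F := G) (γ := ⟨β₁, hβ₁G⟩)
          (sup_le hCT (hZ.le.trans inf_le_left)) (Subgroup.subset_closure hβ₁o) hw')
      have hzZ : z ∈ Z := hZ ▸ ⟨hzT, hzC'⟩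
      have hiter : ∀ n : ℕ, ∃ c ∈ C ⊓ Subgroup.centralizer (C : Set Ω), av (β ^ n) s = s * z ^ n * c := by
        intro n
        induction n with
        | zero => exact ⟨1, one_mem _, by rw [pow_zero, av_one hsL]; group⟩
        | succ n ih =>
          obtain ⟨c, hc, hcn⟩ := ih
          obtain ⟨c₁, hc₁⟩ : ∃ c₁, c₁ = z⁻¹ * av β z := ⟨_, rfl⟩
          have hc₁m := hc₁ ▸ hsh z hzZ
          have hcomm : Commute z c₁ := ((mem_centralizerIn.1 hzC').2 c₁ hc₁m.1).symm
          have hzL : z ∈ L := Subgroup.mem_sup_right hzC'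
          have hzn : av β (z ^ n) = (av β z) ^ n := by
            obtain ⟨ψ, hψ, he⟩ := id hmβ
            have h1 := map_pow ψ ⟨z, hzL⟩ n
            rw [he, he] at h1
            simpa using h1
          have hβc : av β c ∈ C ⊓ Subgroup.centralizer (C : Set Ω) := by
            refine ⟨by rw [hβC c hc.1]; exact av_mem _ hc.1, ?_⟩
            have h2 := hmβ.mem_centralizer le_sup_left (Subgroup.mem_sup_left hc.1)
              (fun y hy => Subgroup.mem_centralizer_iff.1 hc.2 y hy)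
            rw [im_congr hβC, im_av] at h2
            exact h2.2
          refine ⟨c₁ ^ n * av β c, Subgroup.mul_mem _ (Subgroup.pow_mem _ hc₁m n) hβc, ?_⟩
          rw [pow_succ', av_mul _ _ hsL, hcn,
            hmβ.map_mul (L.mul_mem hsL (L.pow_mem hzL n)) (Subgroup.mem_sup_left hc.1),
            hmβ.map_mul hsL (L.pow_mem hzL n), hzn, show av β z = z * c₁ by rw [hc₁, mul_inv_cancel_left],
            hcomm.mul_pow, show av β s = s * z by rw [hzdef, mul_inv_cancel_left], pow_succ' z n]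
          group
      obtain ⟨c, hc, hcn⟩ := hiter (orderOf β)
      rw [pow_orderOf_eq_one, av_one hsL] at hcn
      have hzn : z ^ orderOf β ∈ C := by
        have : z ^ orderOf β = c⁻¹ := by
          have h2 : 1 = z ^ orderOf β * c := by
            have := congrArg (s⁻¹ * ·) hcn
            simpa [mul_assoc] using this
          exact eq_inv_of_mul_eq_one_left h2.symm
        rw [this]; exact C.inv_mem hc.1
      refine ⟨hzdef ▸ ?_, hzdef ▸ hzC'.2⟩
      obtain ⟨j, hj⟩ := IsPGroup.iff_orderOf.1 hS ⟨z, (mem_centralizerIn.1 hzC').1⟩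
      rw [Subgroup.orderOf_mk] at hj
      have hcop : (orderOf z).Coprime (orderOf β) := hj ▸ (hβo.symm.pow_left j)
      obtain ⟨m, hm⟩ := exists_pow_eq_self_of_coprime (n := orderOf β) hcop.symm
      rw [← hm]
      exact C.pow_mem hzn m
    obtain ⟨β, hβ, γ, hγ, rfl⟩ := exists_autS_mul_residual (hS.to_le hCS) hDs fn_self hα
    obtain ⟨t, ht, htβ⟩ := mem_autInducedBy.1 hβ
    have hBβ : B β := by
      obtain ⟨c, hc, hcS⟩ := exists_aut_conj (P := L) (g := t)
        (Subgroup.le_normalizer (Subgroup.mem_sup_left ht))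
      refine ⟨c, autInducedBy_le_autGroup hL (hcS S (hCS ht)), fun x hx => ?_, fun z hz => ?_⟩
      · rw [hc x (Subgroup.mem_sup_left hx), htβ x hx]
      · rw [hc z (Subgroup.mem_sup_right hz), (mem_centralizerIn.1 hz).2 t ht]
        simp
    have hBγ : B (γ : MulAut C) := by
      clear hα
      rw [pResidual, ← Subgroup.mem_toSubmonoid, Subgroup.closure_toSubmonoid_of_finite] at hγ
      induction hγ using Submonoid.closure_induction with
      | mem δ hδ => exact hp' δ hδ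
      | one => exact hone
      | mul a c _ _ iha ihc => exact hmul _ _ iha ihc
    obtain ⟨β', hβ', h1, h2⟩ := hmul _ _ hBβ hBγ
    refine ⟨β', hβ', fun x => ?_, fun c hc => ?_⟩
    · rw [← av_coe, ← av_coe]
      exact h1 x x.2
    · rw [← av_coe]
      exact h2 c hc

theorem exists_centralizer_system (hS : IsPGroup p S) (hE : E.IsNormalIn F p) :
    ∃ D : FusionSystem (centEOf E F), D.IsNormalIn F p ∧
      ∀ P : Subgroup Ω, D.Hom P ⊆ F.centralizerHom T P := by
  obtain ⟨D, h1, h2, -⟩ := exists_centralizer_system_full hS hE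
  exact ⟨D, h1, h2⟩

end Cfsg.Agent.Local.FS
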