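import Cfsg.Agent.Lib.Local.FS.NormSat
import Cfsg.Agent.Lib.Local.FS.Essential

/-!
A system generated by a family of subgroups on which it is saturated is saturated, provided the
family misses only centric subgroups whose automiser has a core meeting `Aut_S` outside the inner
automorphisms (Broto, Castellana, Grodal, Levi, Oliver; Puig).
-/

set_option autoImplicit false

namespace Cfsg.Agent.Local.FS

open Cfsg Cfsg.FusionSystem Cfsg.Agent.Fusion

variable {Ω : Type*} [Group Ω] {S : Subgroup Ω} {F : FusionSystem S}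
  {P Q R X Y Z R' X' W : Subgroup Ω} {f g : Ω → Ω} {p n : ℕ}

/-- `O_p(Aut_F(X))` inside `Aut(X)`. -/
def coreAut (F : FusionSystem S) (p : ℕ) (X : Subgroup Ω) : Subgroup (MulAut X) :=
  (pCore p ↥(F.autGroup X)).map (F.autGroup X).subtype

theorem coreAut_le : coreAut F p X ≤ F.autGroup X := Subgroup.map_subtype_le _

theorem isPGroup_coreAut : IsPGroup p ↥(coreAut F p X) := (isPGroup_pCore p _).map _

theorem coreAut_conj {a β : MulAut X} (ha : a ∈ F.autGroup X) (hβ : β ∈ coreAut F p X) :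
    a * β * a⁻¹ ∈ coreAut F p X := by
  obtain ⟨b, hb, rfl⟩ := hβ
  exact ⟨⟨a, ha⟩ * b * ⟨a, ha⟩⁻¹, (inferInstance : (pCore p ↥(F.autGroup X)).Normal).conj_mem b hb _, rfl⟩

/-- Restriction to `X` of the automorphisms of `R` preserving it. -/
noncomputable def resX (hXR : X ≤ R) : ↥(stab F R X X) →* MulAut X :=
  MonoidHom.mk' (fun α =>
    { toFun := fun x => ⟨av (α : MulAut R) x, (α.2.2 x (hXR x.2)).1.2 x.2⟩
      invFun := fun x => ⟨av (α : MulAut R)⁻¹ x,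
        (α.2.2 _ (av_mem _ (hXR x.2))).1.1 (by rw [av_av_inv _ (hXR x.2)]; exact x.2)⟩
      left_inv := fun x => Subtype.ext (av_inv_av _ (hXR x.2))
      right_inv := fun x => Subtype.ext (av_av_inv _ (hXR x.2))
      map_mul' := fun x y => Subtype.ext (by
        show av (α : MulAut R) ((x : Ω) * y) = av (α : MulAut R) x * av (α : MulAut R) y
        rw [av_apply _ (R.mul_mem (hXR x.2) (hXR y.2)), av_apply _ (hXR x.2), av_apply _ (hXR y.2)]
        exact congrArg Subtype.val (map_mul (α : MulAut R) ⟨x, hXR x.2⟩ ⟨y, hXR y.2⟩)) })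
    fun α β => MulEquiv.ext fun x => Subtype.ext (av_mul _ _ (hXR x.2))

theorem resX_apply (hXR : X ≤ R) (α : ↥(stab F R X X)) {x : Ω} (hx : x ∈ X) :
    av (resX hXR α) x = av (α : MulAut R) x := by
  rw [av_apply _ hx]; rfl

/-- A conjugation into a Sylow subgroup can be done by an element acting trivially, when the image
is a `p`-group. -/
theorem exists_conj_fix {B M : Type*} [Group B] [Finite B] [Group M] [Fact p.Prime] {T L U : Subgroup B}
    (φ : B →* M) (hT : SylIn p T L) (hL : IsPGroup p ↥(L.map φ)) (hU : IsPGroup p U) (hUL : U ≤ L) :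
    ∃ γ ∈ L, φ γ = 1 ∧ cj U γ ≤ T := by
  obtain ⟨γ, hγ, hle⟩ := hT.conj_le hU hUL
  set f := (φ.comp L.subtype).rangeRestrict
  have hp : IsPGroup p ↥(φ.comp L.subtype).range := by
    rw [MonoidHom.range_comp, Subgroup.range_subtype]; exact hL
  have hM : (T.subgroupOf L).map f = ⊤ := by
    rw [← Subgroup.index_eq_one]
    have hd : ((T.subgroupOf L).map f).index ∣ (T.subgroupOf L).index :=
      Subgroup.index_map_dvd _ (φ.comp L.subtype).rangeRestrict_surjective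
    haveI : Finite ↥(φ.comp L.subtype).range :=
      Finite.of_surjective _ (φ.comp L.subtype).rangeRestrict_surjective
    obtain ⟨k, hk⟩ := hp.index ((T.subgroupOf L).map f)
    rcases k with _ | k
    · simpa using hk
    · exact absurd ((hk ▸ dvd_pow_self p k.succ_ne_zero).trans hd) hT.not_dvd
  obtain ⟨t, ht, hte⟩ := hM.ge (Subgroup.mem_top (f ⟨γ, hγ⟩))
  have hte' : φ (t : B) = φ γ := congrArg Subtype.val hte
  refine ⟨(t : B)⁻¹ * γ, L.mul_mem (L.inv_mem t.2) hγ, by rw [map_mul, map_inv, hte', inv_mul_cancel], ?_⟩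
  rw [← cj_cj]
  exact (cj_mono hle _).trans (cj_eq_self_of_mem (T.inv_mem ht)).le

/-- The elements of `N_S(X)` inducing on `X` an element of `O_p(Aut_F(X))`. -/
def Tk (F : FusionSystem S) (p : ℕ) (X : Subgroup Ω) : Subgroup Ω :=
  ((coreAut F p X).comap (normalizerHomS S X)).map (normalizerIn S X).subtype

theorem mem_Tk [Finite S] {s : Ω} :
    s ∈ Tk F p X ↔ s ∈ normalizerIn S X ∧ ∃ β ∈ coreAut F p X, ∀ x ∈ X, av β x = s * x * s⁻¹ := by
  constructor
  · rintro ⟨t, ht, rfl⟩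
    exact ⟨t.2, _, ht, fun x hx => normalizerHomS_apply t hx⟩
  · rintro ⟨hs, β, hβ, h⟩
    exact ⟨⟨s, hs⟩, by
      show normalizerHomS S X ⟨s, hs⟩ ∈ coreAut F p X
      rwa [show normalizerHomS S X ⟨s, hs⟩ = β from
        aut_ext fun x hx => (normalizerHomS_apply _ hx).trans (h x hx).symm], rfl⟩

theorem Tk_le : Tk F p X ≤ normalizerIn S X := Subgroup.map_subtype_le _

variable [Finite S]

theorem congr_mem_coreAut (h : Map F P f) (hi : im P f = Q) {e : P ≃* Q}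
    (he : ∀ x : P, (e x : Ω) = f x) {α : MulAut P} (hα : α ∈ coreAut F p P) :
    MulAut.congr e α ∈ coreAut F p Q := by
  obtain ⟨a, ha, rfl⟩ := hα
  let E : ↥(F.autGroup P) ≃* ↥(F.autGroup Q) :=
    ((F.autGroup P).equivMapOfInjective (MulAut.congr e).toMonoidHom (MulAut.congr e).injective).trans
      (MulEquiv.subgroupCongr (map_autGroup h hi he))
  exact ⟨E a, map_pCore_le E ⟨a, ha, rfl⟩, rfl⟩

theorem inn_le_coreAut (hS : IsPGroup p S) (hX : X ≤ S) : Inn X ≤ coreAut F p X := by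
  intro α hα
  have hn : ((Inn X).subgroupOf (F.autGroup X)).Normal := by
    refine ⟨fun a ha b => ?_⟩
    obtain ⟨y, hy, hya⟩ := mem_Inn.1 (Subgroup.mem_subgroupOf.1 ha)
    refine Subgroup.mem_subgroupOf.2 (mem_Inn.2 ⟨av (b : MulAut X) y, av_mem _ hy, fun x hx => ?_⟩)
    show av ((b : MulAut X) * (a : MulAut X) * (b : MulAut X)⁻¹) x = _
    have hb := map_of_mem_autGroup hX b.2
    rw [av_mul _ _ hx, av_mul _ _ (av_mem _ hx), hya _ (av_mem _ hx), hb.map_conj hy (av_mem _ hx),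
      av_av_inv _ hx]
  exact ⟨⟨α, inn_le_autGroup hX hα⟩, le_pCore ((isPGroup_inn hS hX).comap_subtype (K := F.autGroup X)) hα, rfl⟩

theorem le_Tk (hS : IsPGroup p S) (hX : X ≤ S) : X ≤ Tk F p X := fun s hs => by
  obtain ⟨β, hβ, -⟩ := exists_aut_conj (P := X) (Subgroup.le_normalizer hs)
  exact mem_Tk.2 ⟨le_normalizerIn hX hs, β, inn_le_coreAut hS hX (mem_Inn.2 ⟨s, hs, hβ⟩), hβ⟩

theorem map_Tk (hg : Map F R g) (hXR : X ≤ R) {s : Ω} (hsR : s ∈ R) (hs : s ∈ Tk F p X) :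
    g s ∈ Tk F p (im X g) := by
  obtain ⟨hsN, β, hβ, h⟩ := mem_Tk.1 hs
  obtain ⟨e, he⟩ := exists_equiv (hg.restrict hXR) rfl
  refine mem_Tk.2 ⟨hg.mem_normalizer hXR hsR hsN.2, _, congr_mem_coreAut (hg.restrict hXR) rfl he hβ,
    fun y hy => ?_⟩
  obtain ⟨x, hx, rfl⟩ := (hg.restrict hXR).mem_im.1 hy
  rw [av_congr_apply he β hx, h x hx, hg.map_conj hsR (hXR hx)]

/-- `N_S(X)` maps into `N_S(Y)` sending `X` onto `Y`. -/
def Up (F : FusionSystem S) (X Y : Subgroup Ω) : Prop :=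
  ∃ f, Map F (normalizerIn S X) f ∧ im X f = Y

/-- `X` and `Y` map upwards to a common conjugate. -/
def Join (F : FusionSystem S) (X Y : Subgroup Ω) : Prop := ∃ M, Up F X M ∧ Up F Y M

theorem Up.refl : Up F X X := ⟨id, map_id inf_le_left, im_id⟩

theorem up_mem (hX : X ≤ S) (hf : Map F (normalizerIn S X) f) (hi : im X f = Y) :
    ∀ x ∈ normalizerIn S X, f x ∈ normalizerIn S Y :=
  fun _ hx => hi ▸ hf.mem_normalizer (le_normalizerIn hX) hx hx.2

theorem Up.trans (hX : X ≤ S) (h : Up F X Y) (h' : Up F Y Z) : Up F X Z := by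
  obtain ⟨f, hf, hi⟩ := h
  obtain ⟨g, hg, hgi⟩ := h'
  exact ⟨g ∘ f, hf.comp hg (up_mem hX hf hi), by
    rw [(hf.restrict (le_normalizerIn hX)).im_comp, hi, hgi]⟩

theorem Up.isConj (hX : X ≤ S) (h : Up F X Y) : F.IsConj X Y :=
  let ⟨f, hf, hi⟩ := h; isConj_iff.2 ⟨f, hf.restrict (le_normalizerIn hX), hi⟩

theorem Join.symm (h : Join F X Y) : Join F Y X := let ⟨M, a, b⟩ := h; ⟨M, b, a⟩

/-- A pair `X ≤ R` with `R` receptive and `Aut_S(R)` containing a Sylow subgroup of the stabiliser of `X`. -/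
def WellPlaced (F : FusionSystem S) (p : ℕ) (R X : Subgroup Ω) : Prop :=
  X ≤ R ∧ F.IsReceptive R ∧ SylIn p (autInducedBy S R ⊓ stab F R X X) (stab F R X X)

variable [Fact p.Prime]

omit [Fact p.Prime] in
/-- The hypothesis that everything larger has been treated. -/
def Above (F : FusionSystem S) (p n : ℕ) : Prop :=
  ∀ R : Subgroup Ω, R ≤ S → n < Nat.card R → ∃ Q, F.IsConj R Q ∧ F.IsFullyAutomized p Q ∧ F.IsReceptive Q

theorem exists_push (hS : IsPGroup p S) (hab : Above F p n) (hR : R ≤ S) (hn : n < Nat.card R)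
    (hXR : X ≤ R) : ∃ f, Map F R f ∧ WellPlaced F p (im R f) (im X f) := by
  obtain ⟨R₁, hR₁, hfa, hrec⟩ := hab R hR hn
  obtain ⟨g₀, hg₀, hg₀i⟩ := isConj_iff.1 hR₁
  haveI := mulAut_finite_of_le hfa.1
  obtain ⟨T, hT⟩ := exists_sylIn (p := p) (stab F R₁ (im X g₀) (im X g₀))
  obtain ⟨χ, hχ, hle⟩ := (fa_iff.1 hfa).2.conj_le hT.isPGroup (hT.le.trans fun a ha => ha.1)
  have hχm := map_of_mem_autGroup hfa.1 hχ
  have hg : Map F R (av χ ∘ g₀) := hg₀.comp hχm fun x hx => hg₀i.le (mem_im_of_mem hx)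
  have hgi : im R (av χ ∘ g₀) = R₁ := by rw [hg₀.im_comp, hg₀i, im_av]
  obtain ⟨eχ, heχ⟩ := exists_equiv hχm (im_av χ)
  have hX₁ : im X (av χ ∘ g₀) = im (im X g₀) (av χ) := (hg₀.restrict hXR).im_comp
  refine ⟨_, hg, ?_⟩
  rw [hgi]
  refine ⟨(im_mono hXR).trans hgi.le, hrec, ?_⟩
  have h1 := sylIn_map_equiv (MulAut.congr eχ) hT
  rw [map_stab hχm (im_av χ) ((im_mono hXR).trans hg₀i.le) ((im_mono hXR).trans hg₀i.le)
    hX₁.symm hX₁.symm heχ] at h1
  refine h1.of_card_ge ((isPGroup_autS hS).to_le inf_le_left) inf_le_right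
    (Subgroup.card_le_of_le (le_inf ?_ h1.le))
  rintro _ ⟨β, hβ, rfl⟩
  have h2 : (MulAut.congr eχ).toMonoidHom β = χ * β * χ⁻¹ := aut_ext fun y hy => by
    show av (MulAut.congr eχ β) y = _
    conv_lhs => rw [← av_av_inv χ hy]
    rw [av_congr_apply heχ β (av_mem _ hy), av_mul _ _ hy, av_mul _ _ (av_mem _ hy)]
  rw [h2]
  exact hle (conj_mem_cj hβ)

omit [Fact p.Prime] in
/-- The transported automorphisms of `W` lie in the stabiliser. -/
theorem congr_mem_stab (hf : Map F R f) (hi : im R f = R') (hXR : X ≤ R) (hiX : im X f = X')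
    {e : R ≃* R'} (he : ∀ x : R, (e x : Ω) = f x) {w : Ω} (hw : w ∈ S)
    (hwX : w ∈ Subgroup.normalizer (X : Set Ω)) {β : MulAut R} (hβ : ∀ x ∈ R, av β x = w * x * w⁻¹) :
    MulAut.congr e β ∈ stab F R' X' X' := by
  refine ⟨congr_mem_autGroup hf hi he (autInducedBy_le_autGroup hf.le (mem_autInducedBy.2 ⟨w, hw, hβ⟩)),
    fun y hy => ?_⟩
  obtain ⟨x, hx, rfl⟩ := hf.mem_im.1 (hi.ge hy)
  have h : av (MulAut.congr e β) (f x) ∈ X' ↔ f x ∈ X' := by
    rw [av_congr_apply he β hx, hf.mem_im_iff hXR hiX hx, hf.mem_im_iff hXR hiX (av_mem β hx), hβ x hx]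
    exact (Subgroup.mem_normalizer_iff.1 hwX x).symm
  exact ⟨h, h⟩

omit [Fact p.Prime] in
/-- Extending along a conjugation into `Aut_S`. -/
theorem extend_of_conj (hW : F.IsReceptive R') (hf : Map F R f) (hi : im R f = R') {e : R ≃* R'}
    (he : ∀ x : R, (e x : Ω) = f x) {γ : MulAut R'} (hγ : γ ∈ F.autGroup R')
    (hWN : W ≤ normalizerIn S R)
    (hconj : ∀ w ∈ W, ∀ β : MulAut R, (∀ x ∈ R, av β x = w * x * w⁻¹) →
      γ * MulAut.congr e β * γ⁻¹ ∈ autInducedBy S R') :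
    ∃ ψ, Map F (R ⊔ W) ψ ∧ ∀ x ∈ R, ψ x = av γ (f x) := by
  have hm : ∀ x ∈ R, f x ∈ R' := fun x hx => hi.le (mem_im_of_mem hx)
  have hf' : Map F R (av γ ∘ f) := hf.comp (map_of_mem_autGroup hW.1 hγ) hm
  have hi' : im R (av γ ∘ f) = R' := by rw [hf.im_comp, hi, im_av]
  obtain ⟨ψ, hψ, hψf⟩ := (receptive_iff.1 hW).2 R _ hf' hi'
  refine ⟨ψ, hψ.restrict (sup_le (le_Nf hf') fun w hw => ?_), hψf⟩
  obtain ⟨β, hβ, -⟩ := exists_aut_conj (hWN hw).2
  obtain ⟨h, hh, hhβ⟩ := mem_autInducedBy.1 (hconj w hw β hβ)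
  refine ⟨(hWN hw).1, (hWN hw).2, h, hh, fun x hx => ?_⟩
  have h1 := hhβ _ (av_mem γ (hm x hx))
  rw [av_mul _ _ (av_mem γ (hm x hx)), av_inv_av γ (hm x hx), av_mul _ _ (hm x hx),
    av_congr_apply he β hx, hβ x hx] at h1
  exact h1

theorem exists_extend_norm (hS : IsPGroup p S) (hW : WellPlaced F p R' X') (hf : Map F R f)
    (hi : im R f = R') (hXR : X ≤ R) (hiX : im X f = X') (hRN : R ≤ normalizerIn S X) :
    ∃ ψ, Map F (normalizerIn S X ⊓ Subgroup.normalizer (R : Set Ω)) ψ ∧ im X ψ = X' ∧ im R ψ = R' := by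
  obtain ⟨hXR', hrec, hsyl⟩ := hW
  haveI := mulAut_finite_of_le hrec.1
  haveI := mulAut_finite_of_le hf.le
  obtain ⟨e, he⟩ := exists_equiv hf hi
  set M := normalizerIn S X ⊓ Subgroup.normalizer (R : Set Ω) with hM
  have hMS : M ≤ S := fun a ha => ha.1.1
  obtain ⟨γ, hγ, hle⟩ := hsyl.conj_le (Q := (autInducedBy M R).map (MulAut.congr e).toMonoidHom)
    (((isPGroup_autS (P := R) hS).to_le fun α hα => by
      obtain ⟨a, ha, h⟩ := mem_autInducedBy.1 hα
      exact mem_autInducedBy.2 ⟨a, hMS ha, h⟩).map _)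
    (by
      rintro _ ⟨α, hα, rfl⟩
      obtain ⟨a, ha, h⟩ := mem_autInducedBy.1 hα
      exact congr_mem_stab hf hi hXR hiX he ha.1.1 ha.1.2 h)
  obtain ⟨ψ, hψ, hψf⟩ := extend_of_conj hrec hf hi he hγ.1 (W := M) (fun a ha => ⟨ha.1.1, ha.2⟩)
    fun w hw β hβ => (hle (conj_mem_cj (g := γ) ⟨β, mem_autInducedBy.2 ⟨w, hw, hβ⟩, rfl⟩)).1
  have hRM : R ≤ M := le_inf hRN Subgroup.le_normalizer
  refine ⟨ψ, hψ.restrict le_sup_right, ?_, ?_⟩
  · haveI := finite_of_le ((hXR'.trans hrec.1))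
    refine Subgroup.eq_of_le_of_card_ge (im_le_iff.2 fun x hx => ?_) ?_
    · rw [hψf x (hXR hx)]
      exact (hγ.2 _ (hi.le (mem_im_of_mem (hXR hx)))).1.2 (hiX.le (mem_im_of_mem hx))
    · rw [(hψ.restrict (hXR.trans le_sup_left)).card_im, ← hiX, (hf.restrict hXR).card_im]
  · rw [im_congr hψf]
    show im R (av γ ∘ f) = R'
    rw [hf.im_comp, hi, im_av]

/-- Two conjugates linked by a map defined above them join upwards. -/
theorem join_of_step (hS : IsPGroup p S) (hab : Above F p n) :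
    ∀ (R X : Subgroup Ω) (f : Ω → Ω), Nat.card X = n → X < R → R ≤ normalizerIn S X → Map F R f →
      Join F X (im X f) := by
  suffices ∀ m, ∀ (R X : Subgroup Ω) (f : Ω → Ω), Nat.card S - Nat.card R = m → Nat.card X = n →
      X < R → R ≤ normalizerIn S X → Map F R f → Join F X (im X f) from fun R X f => this _ R X f rfl
  intro m
  induction m using Nat.strong_induction_on with
  | _ m ih =>
  intro R X f hm hX hXR hRN hf
  have hXS : X ≤ S := hXR.le.trans hf.le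
  have hnR : n < Nat.card R := hX ▸ card_lt_of_lt hXR hf.le
  set Y := im X f with hY
  have hYS : Y ≤ S := (hf.restrict hXR.le).im_le
  have hYR : Y ≤ im R f := im_mono hXR.le
  have hR'N : im R f ≤ normalizerIn S Y :=
    im_le_iff.2 fun x hx => hf.mem_normalizer hXR.le hx (hRN hx).2
  rcases eq_or_lt_of_le hRN with heq | hlt
  · exact ⟨Y, ⟨f, heq ▸ hf, rfl⟩, Up.refl⟩
  rcases eq_or_lt_of_le hR'N with heq | hlt'
  · obtain ⟨k, hk, hkf, -, -⟩ := hf.exists_inv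
    refine ⟨X, Up.refl, k, heq ▸ hk, ?_⟩
    refine (hk.restrict hYR).im_eq (fun y hy => ?_) fun x hx => ⟨f x, mem_im_of_mem hx, hkf x (hXR.le hx)⟩
    obtain ⟨x, hx, rfl⟩ := (hf.restrict hXR.le).mem_im.1 hy
    rw [hkf x (hXR.le hx)]; exact hx
  obtain ⟨q, hq, hqW⟩ := exists_push hS hab hf.im_le (by rw [hf.card_im]; exact hnR) hYR
  set Z := im Y q with hZ
  have hm' : ∀ x ∈ R, f x ∈ im R f := fun x hx => mem_im_of_mem hx
  obtain ⟨ψ, hψ, hψX, -⟩ := exists_extend_norm hS hqW (hf.comp hq hm') hf.im_comp hXR.le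
    (hf.restrict hXR.le).im_comp hRN
  obtain ⟨ψ', hψ', hψY, -⟩ := exists_extend_norm hS hqW hq rfl hYR rfl hR'N
  have hgr : R < normalizerIn S X ⊓ Subgroup.normalizer (R : Set Ω) :=
    lt_inf_normalizer hS hlt inf_le_left
  have hgr' : im R f < normalizerIn S Y ⊓ Subgroup.normalizer (im R f : Set Ω) :=
    lt_inf_normalizer hS hlt' inf_le_left
  have hbig : ∀ (A B : Subgroup Ω) (h : Ω → Ω), Nat.card R < Nat.card A → Nat.card B = n → B < A →
      A ≤ normalizerIn S B → Map F A h → Join F B (im B h) := by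
    intro A B h hA hB hBA hAN hh
    refine ih _ ?_ A B h rfl hB hBA hAN hh
    have := Subgroup.card_le_of_le hh.le
    omega
  have hcR : Nat.card R < Nat.card ↥(normalizerIn S X ⊓ Subgroup.normalizer (R : Set Ω)) :=
    card_lt_of_lt hgr (fun a ha => ha.1.1)
  have hcR' : Nat.card R < Nat.card ↥(normalizerIn S Y ⊓ Subgroup.normalizer (im R f : Set Ω)) :=
    hf.card_im ▸ card_lt_of_lt hgr' (fun a ha => ha.1.1)
  have hYn : Nat.card Y = n := by rw [hY, (hf.restrict hXR.le).card_im, hX]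
  obtain ⟨M₁, hXM, hZM₁⟩ := hψX ▸ hbig _ X ψ hcR hX (hXR.trans hgr) inf_le_left hψ
  obtain ⟨M₂, hYM, hZM₂⟩ := hψY ▸ hbig _ Y ψ' hcR' hYn
    (lt_of_le_of_ne (le_inf (le_normalizerIn hYS) (fun y hy => Subgroup.le_normalizer (hYR hy)))
      fun he => by rw [← he] at hcR'; omega) inf_le_left hψ'
  -- the two upper ends are linked above `Z`
  have hZS : Z ≤ S := (hq.restrict hYR).im_le
  obtain ⟨u, hu, hui⟩ := hZM₁
  obtain ⟨v, hv, hvi⟩ := hZM₂
  obtain ⟨k, hk, hku, -, -⟩ := hu.exists_inv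
  have hcZ : Nat.card R < Nat.card ↥(normalizerIn S Z) := by
    refine hcR.trans_le (hψ.card_le fun x hx => ?_)
    rw [← hψX]
    exact hψ.mem_normalizer (hXR.le.trans hgr.le) hx hx.1.2
  have hM₁ : M₁ ≤ im (normalizerIn S Z) u := hui ▸ im_mono (le_normalizerIn hZS)
  have hM₁n : Nat.card M₁ = n := by
    rw [← hui, (hu.restrict (le_normalizerIn hZS)).card_im, hZ, (hq.restrict hYR).card_im, hYn]
  have hvk : Map F (im (normalizerIn S Z) u) (v ∘ k) := hk.comp hv fun y hy => by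
    obtain ⟨x, hx, rfl⟩ := hu.mem_im.1 hy
    rw [hku x hx]; exact hx
  have hvk' : im M₁ (v ∘ k) = M₂ := by
    rw [← hui, ← (hu.restrict (le_normalizerIn hZS)).im_comp, ← hvi]
    exact im_congr fun x hx => by
      show v (k (u x)) = v x
      rw [hku x (le_normalizerIn hZS hx)]
  have hlast := hbig _ M₁ (v ∘ k) (by rw [hu.card_im]; exact hcZ) hM₁n
    (lt_of_le_of_ne hM₁ fun he => by rw [he, hu.card_im] at hM₁n; omega)
    (im_le_iff.2 (up_mem hZS hu hui)) hvk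
  rw [hvk'] at hlast
  obtain ⟨M, h1, h2⟩ := hlast
  exact ⟨M, hXM.trans hXS h1, hYM.trans hYS h2⟩

theorem Join.trans (hS : IsPGroup p S) (hab : Above F p n) (hn : n < Nat.card S) (hX : X ≤ S)
    (hY : Y ≤ S) (hZ : Z ≤ S) (hYn : Nat.card Y = n) (h : Join F X Y) (h' : Join F Y Z) :
    Join F X Z := by
  obtain ⟨M₁, hXM, hYM₁⟩ := h
  obtain ⟨M₂, hYM₂, hZM⟩ := h'
  obtain ⟨u, hu, hui⟩ := hYM₁
  obtain ⟨v, hv, hvi⟩ := hYM₂
  obtain ⟨k, hk, hku, -, -⟩ := hu.exists_inv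
  have hYlt : Y < S := lt_of_le_of_ne hY fun he => by rw [he] at hYn; omega
  have hM₁n : Nat.card M₁ = n := by rw [← hui, (hu.restrict (le_normalizerIn hY)).card_im, hYn]
  have hlt : n < Nat.card ↥(normalizerIn S Y) :=
    hYn ▸ card_lt_of_lt (lt_normalizerIn hS hYlt) inf_le_left
  have hvk : Map F (im (normalizerIn S Y) u) (v ∘ k) := hk.comp hv fun y hy => by
    obtain ⟨x, hx, rfl⟩ := hu.mem_im.1 hy
    rw [hku x hx]; exact hx
  have hlast := join_of_step hS hab _ M₁ (v ∘ k) hM₁n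
    (lt_of_le_of_ne (hui ▸ im_mono (le_normalizerIn hY)) fun he => by
      rw [he, hu.card_im] at hM₁n; omega)
    (im_le_iff.2 (up_mem hY hu hui)) hvk
  rw [show im M₁ (v ∘ k) = M₂ by
    rw [← hui, ← (hu.restrict (le_normalizerIn hY)).im_comp, ← hvi]
    exact im_congr fun x hx => by
      show v (k (u x)) = v x
      rw [hku x (le_normalizerIn hY hx)]] at hlast
  obtain ⟨M, h1, h2⟩ := hlast
  exact ⟨M, hXM.trans hX h1, hZM.trans hZ h2⟩

/-- Extension by an element acting trivially on the distinguished subgroup. -/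
theorem exists_extend_fix (hS : IsPGroup p S) (hW : WellPlaced F p R' X') (hf : Map F R f)
    (hi : im R f = R') (hXR : X ≤ R) (hiX : im X f = X') (hWN : W ≤ normalizerIn S R)
    (hWX : W ≤ normalizerIn S X) {T L : Subgroup ↥(stab F R' X' X')} (hT : SylIn p T L)
    (hTS : ∀ t ∈ T, (t : MulAut R') ∈ autInducedBy S R')
    (hL : IsPGroup p ↥(L.map (resX hW.1)))
    (hWL : ∀ w ∈ W, ∀ b : ↥(stab F R' X' X'),
      (∀ x ∈ R, av (b : MulAut R') (f x) = f (w * x * w⁻¹)) → b ∈ L) :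
    ∃ ψ, Map F (R ⊔ W) ψ ∧ ∀ x ∈ X, ψ x = f x := by
  haveI := mulAut_finite_of_le hW.2.1.1
  obtain ⟨e, he⟩ := exists_equiv hf hi
  have hUp : IsPGroup p ↥(((autInducedBy W R).map (MulAut.congr e).toMonoidHom).subgroupOf
      (stab F R' X' X')) :=
    (((isPGroup_autS (P := R) hS).to_le fun α hα => by
      obtain ⟨a, ha, h⟩ := mem_autInducedBy.1 hα
      exact mem_autInducedBy.2 ⟨a, (hWN ha).1, h⟩).map _).comap_subtype
  obtain ⟨γ, -, hγ1, hle⟩ := exists_conj_fix (resX hW.1) hT hL hUp (by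
    intro b hb
    obtain ⟨β, hβ, hb'⟩ := Subgroup.mem_subgroupOf.1 hb
    obtain ⟨w, hw, hwβ⟩ := mem_autInducedBy.1 hβ
    refine hWL w hw b fun x hx => ?_
    rw [← hb']
    show av (MulAut.congr e β) (f x) = _
    rw [av_congr_apply he β hx, hwβ x hx])
  obtain ⟨ψ, hψ, hψf⟩ := extend_of_conj hW.2.1 hf hi he γ.2.1 hWN fun w hw β hβ => by
    have hb : MulAut.congr e β ∈ stab F R' X' X' :=
      congr_mem_stab hf hi hXR hiX he (hWN hw).1 (hWX hw).2 hβ
    have h1 : (⟨_, hb⟩ : ↥(stab F R' X' X')) ∈ ((autInducedBy W R).map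
        (MulAut.congr e).toMonoidHom).subgroupOf (stab F R' X' X') :=
      Subgroup.mem_subgroupOf.2 ⟨β, mem_autInducedBy.2 ⟨w, hw, hβ⟩, rfl⟩
    exact hTS _ (hle (conj_mem_cj (g := γ) h1))
  refine ⟨ψ, hψ, fun x hx => ?_⟩
  have hfx : f x ∈ X' := hiX.le (mem_im_of_mem hx)
  rw [hψf x (hXR hx), ← resX_apply hW.1 γ hfx, hγ1, av_one hfx]

/-- The chosen Sylow subgroup of the stabiliser, inside it. -/
theorem sylIn_stab (hW : WellPlaced F p R X) :
    SylIn p ((autInducedBy S R ⊓ stab F R X X).subgroupOf (stab F R X X)) ⊤ :=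
  ⟨le_top, hW.2.2.isPGroup.comap_subtype, by
    rw [Subgroup.relIndex_top_right]; exact hW.2.2.not_dvd⟩

omit [Fact p.Prime] in
theorem resX_mem_autGroup (hXR : X ≤ R) (hR : R ≤ S) (b : ↥(stab F R X X)) :
    resX hXR b ∈ F.autGroup X :=
  mem_autGroup_of_map (((map_of_mem_autGroup hR b.2.1).restrict hXR).congr
    fun _ hx => (resX_apply hXR b hx).symm)

omit [Fact p.Prime] in
theorem normalizerIn_le_normalizer_Tk (hX : X ≤ S) :
    normalizerIn S X ≤ Subgroup.normalizer (Tk F p X : Set Ω) := fun s hs => by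
  refine mem_normalizer_of_conj_mem (Tk_le.trans inf_le_left) fun t ht => ?_
  have hm : Map F (normalizerIn S X) fun x => s * x * s⁻¹ := map_conjBy inf_le_left hs.1
  have hi : im X (fun x => s * x * s⁻¹) = X :=
    (hm.restrict (le_normalizerIn hX)).im_eq (fun x hx => conj_mem_of_normalizer hs.2 hx)
      fun y hy => ⟨s⁻¹ * y * s, by simpa using conj_mem_of_normalizer (Subgroup.inv_mem _ hs.2) hy, by group⟩
  have := map_Tk hm (le_normalizerIn hX) (Tk_le ht) ht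
  rwa [hi] at this

omit [Fact p.Prime] in
theorem im_Tk_eq (hX : X ≤ S) (hXT : X ≤ Tk F p X) (hg : Map F (Tk F p X) g) (hi : im X g = X) :
    im (Tk F p X) g = Tk F p X := by
  haveI := finite_of_le (show Tk F p X ≤ S from Tk_le.trans inf_le_left)
  refine Subgroup.eq_of_le_of_card_ge (im_le_iff.2 fun s hs => ?_) hg.card_im.ge
  have := map_Tk hg hXT hs hs
  rwa [hi] at this

/-- Generation by a family, as an induction principle. -/
theorem map_of_gen {ℋ : Set (Subgroup Ω)}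
    (hgen : ∀ E : FusionSystem S, (∀ P ∈ ℋ, F.Hom P ⊆ E.Hom P) → F ≤ E)
    {C : Subgroup Ω → (Ω → Ω) → Prop}
    (hcongr : ∀ {Y : Subgroup Ω} {f g : Ω → Ω}, C Y f → (∀ x ∈ Y, f x = g x) → C Y g)
    (hconj : ∀ {Y : Subgroup Ω} {s : Ω}, Y ≤ S → s ∈ S → C Y fun x => s * x * s⁻¹)
    (hcomp : ∀ {Y Z : Subgroup Ω} {f g : Ω → Ω}, Map F Y f → Map F Z g → C Y f → C Z g →
      (∀ x ∈ Y, f x ∈ Z) → C Y (g ∘ f))
    (hinv : ∀ {Y : Subgroup Ω} {f g : Ω → Ω}, Map F Y f → C Y f → (∀ x ∈ Y, g (f x) = x) →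
      C (im Y f) g)
    (hbase : ∀ Y ∈ ℋ, ∀ f, Map F Y f → C Y f) : ∀ Y f, Map F Y f → C Y f := by
  let E : FusionSystem S :=
    { Hom := fun Y => {φ | φ ∈ F.Hom Y ∧ C Y (fn φ)}
      le_of_mem := fun h => F.le_of_mem h.1
      injective_of_mem := fun h => F.injective_of_mem h.1
      conj_mem := fun {Y g} hY hg => ⟨F.conj_mem hY hg, hcongr (hconj hY hg)
        fun x hx => (fn_apply (conjHom Y g) hx).symm⟩
      comp_mem := fun {Y Z φ ψ} hφ hψ h => ⟨F.comp_mem hφ.1 hψ.1 h,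
        hcongr (hcomp (map_of_mem hφ.1) (map_of_mem hψ.1) hφ.2 hψ.2 fun x hx => by
          rw [fn_apply φ hx]; exact h _) fun x hx => by
          show fn ψ (fn φ x) = _
          rw [fn_apply φ hx, fn_apply ψ (h _), fn_apply _ hx]; rfl⟩
      inv_mem := fun {Y φ} hφ => by
        obtain ⟨ψ, hψ, hψφ⟩ := F.inv_mem hφ.1
        refine ⟨ψ, ⟨hψ, ?_⟩, hψφ⟩
        refine ((map_of_mem hφ.1).im_eq_range (fun x => (fn_coe φ x).symm)).subst
          (motive := fun Z => C Z (fn ψ)) (hinv (map_of_mem hφ.1) hφ.2 fun x hx => ?_)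
        rw [fn_apply φ hx, fn_apply ψ ⟨_, rfl⟩]
        exact hψφ ⟨x, hx⟩ }
  intro Y f hf
  obtain ⟨φ, hφ, hφf⟩ := id hf
  have hE : φ ∈ E.Hom Y :=
    hgen E (fun Z hZ ψ hψ => ⟨hψ, hbase Z hZ _ (map_of_mem hψ)⟩) Y hφ
  exact hcongr hE.2 fun x hx => (fn_apply φ hx).trans (hφf _)

section Class

variable {ℋ : Set (Subgroup Ω)} (hS : IsPGroup p S) (hP : P ≤ S) (hab : Above F p (Nat.card P))
  (hPS : Nat.card P < Nat.card S)
  (hgen : ∀ E : FusionSystem S, (∀ P ∈ ℋ, F.Hom P ⊆ E.Hom P) → F ≤ E)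
  (hℋ : ∀ X ∈ ℋ, ¬ F.IsConj P X)

include hS hP hab hPS hgen hℋ

theorem join_all (hX : F.IsConj P X) : Join F P X := by
  obtain ⟨f, hf, hi⟩ := isConj_iff.1 hX
  have := map_of_gen hgen (C := fun Y f => ∀ Z ≤ Y, F.IsConj P Z → Join F Z (im Z f))
    (fun h he Z hZ hc => by rw [← im_congr fun x hx => he x (hZ hx)]; exact h Z hZ hc)
    (fun {Y s} hY hs Z hZ hc =>
      ⟨_, ⟨_, map_conjBy inf_le_left hs, rfl⟩, Up.refl⟩)
    (fun {Y Z f g} hf hg hCf hCg hm X hX hc => by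
      have hfX := hf.restrict hX
      have hc' : F.IsConj P (im X f) := isConj_trans hc (isConj_iff.2 ⟨f, hfX, rfl⟩)
      have hle : im X f ≤ Z := im_le_iff.2 fun x hx => hm x (hX hx)
      rw [hfX.im_comp]
      exact (hCf X hX hc).trans hS hab hPS (hX.trans hf.le) hfX.im_le (hg.restrict hle).im_le
        (isConj_card hc').symm (hCg _ hle hc'))
    (fun {Y f g} hf hCf hg X hX hc => by
      obtain ⟨k, hk, hkf, hfk, hki⟩ := hf.exists_inv
      have hkg : ∀ y ∈ im Y f, k y = g y := fun y hy => by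
        obtain ⟨x, hx, rfl⟩ := hf.mem_im.1 hy
        rw [hkf x hx, hg x hx]
      rw [← im_congr fun y hy => hkg y (hX hy)]
      have hkX := hk.restrict hX
      have hle : im X k ≤ Y := im_le_iff.2 fun y hy => (hfk y (hX hy)).2
      have h := hCf _ hle (isConj_trans hc (isConj_iff.2 ⟨k, hkX, rfl⟩))
      rw [← hkX.im_comp, im_congr (f := f ∘ k) (g := id) fun y hy => (hfk y (hX hy)).1, im_id] at h
      exact h.symm)
    (fun Y hY f hf Z hZ hc => by
      have hlt : Z < Y := lt_of_le_of_ne hZ fun he => hℋ Y hY (he ▸ hc)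
      exact join_of_step hS hab _ Z f (isConj_card hc).symm (lt_inf_normalizer hS hlt hf.le)
        (le_inf (inf_le_left.trans hf.le) inf_le_right) (hf.restrict inf_le_left))
    P f hf P le_rfl (isConj_refl hP)
  rwa [hi] at this

theorem exists_top (hwit : ∃ Q, F.IsConj P Q ∧ Q < Tk F p Q) :
    ∃ X, F.IsConj P X ∧ (∀ Y, F.IsConj P Y → Up F Y X) ∧ X < Tk F p X ∧
      WellPlaced F p (Tk F p X) X := by
  obtain ⟨P₀, hP₀, hfn⟩ := exists_fullyNormalized (F := F) hP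
  have hup : ∀ Y, F.IsConj P Y → Up F Y P₀ := by
    intro Y hY
    have hYS := (isConj_le hY).2
    obtain ⟨M, hYM, hPM⟩ := (join_all hS hP hab hPS hgen hℋ hY).symm.trans hS hab hPS hYS hP
      hfn.1 rfl (join_all hS hP hab hPS hgen hℋ hP₀)
    obtain ⟨u, hu, hui⟩ := hPM
    have hMS : M ≤ S := hui ▸ (hu.restrict (le_normalizerIn hfn.1)).im_le
    have hiN : im (normalizerIn S P₀) u = normalizerIn S M :=
      Subgroup.eq_of_le_of_card_ge (im_le_iff.2 (up_mem hfn.1 hu hui))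
        (by rw [hu.card_im]; exact hfn.2 M (Up.isConj hfn.1 ⟨u, hu, hui⟩))
    obtain ⟨k, hk, hku, -, -⟩ := hu.exists_inv
    rw [hiN] at hk
    refine hYM.trans hYS ⟨k, hk, (hk.restrict (le_normalizerIn hMS)).im_eq (fun y hy => ?_)
      fun x hx => ⟨u x, hui.le (mem_im_of_mem hx), hku x (le_normalizerIn hfn.1 hx)⟩⟩
    obtain ⟨x, hx, rfl⟩ := (hu.restrict (le_normalizerIn hfn.1)).mem_im.1 (hui.ge hy)
    rw [hku x (le_normalizerIn hfn.1 hx)]; exact hx
  have hT₀ : P₀ < Tk F p P₀ := by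
    obtain ⟨Q, hQ, hlt⟩ := hwit
    obtain ⟨u, hu, hui⟩ := hup Q hQ
    refine lt_of_le_not_ge (le_Tk hS hfn.1) fun hle => hlt.not_ge fun t ht => ?_
    have hQN := le_normalizerIn (isConj_le hQ).2
    have h1 := map_Tk hu hQN (Tk_le ht) ht
    rw [hui] at h1
    obtain ⟨x, hx, hxt⟩ := (hu.restrict hQN).mem_im.1 (hui.ge (hle h1))
    rwa [← hu.injOn (hQN hx) (Tk_le ht) hxt]
  have hT₀S : Tk F p P₀ ≤ S := Tk_le.trans inf_le_left
  have hn : Nat.card P < Nat.card (Tk F p P₀) := isConj_card hP₀ ▸ card_lt_of_lt hT₀ hT₀S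
  obtain ⟨f, hf, hW⟩ := exists_push hS hab hT₀S hn hT₀.le
  set X := im P₀ f with hX
  obtain ⟨ψ, hψ, hψX, hψT⟩ := exists_extend_norm hS hW hf rfl hT₀.le rfl Tk_le
  have hN : normalizerIn S P₀ ≤ normalizerIn S P₀ ⊓ Subgroup.normalizer (Tk F p P₀ : Set Ω) :=
    le_inf le_rfl (normalizerIn_le_normalizer_Tk hfn.1)
  have hψ' := hψ.restrict hN
  have hconjX : F.IsConj P X := isConj_trans hP₀ (isConj_iff.2 ⟨f, hf.restrict hT₀.le, rfl⟩)
  have hiN : im (normalizerIn S P₀) ψ = normalizerIn S X :=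
    Subgroup.eq_of_le_of_card_ge (im_le_iff.2 (up_mem hfn.1 hψ' hψX))
      (by rw [hψ'.card_im]; exact hfn.2 X (isConj_trans (isConj_symm hP₀) hconjX))
  have hT : im (Tk F p P₀) f = Tk F p X := by
    rw [← hψT]
    refine le_antisymm (im_le_iff.2 fun t ht => ?_) fun y hy => ?_
    · have := map_Tk hψ' (le_normalizerIn hfn.1) (Tk_le ht) ht
      rwa [hψX] at this
    · obtain ⟨k, hk, hkψ, -, -⟩ := hψ'.exists_inv
      rw [hiN] at hk
      have hXk : im X k = P₀ := by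
        rw [← hψX, ← (hψ'.restrict (le_normalizerIn hfn.1)).im_comp,
          im_congr (f := k ∘ ψ) (g := id) fun x hx => hkψ x (le_normalizerIn hfn.1 hx), im_id]
      obtain ⟨t, ht, rfl⟩ := hψ'.mem_im.1 (hiN.ge (Tk_le hy))
      have := map_Tk hk (le_normalizerIn (isConj_le hconjX).2) (Tk_le hy) hy
      rw [hXk, hkψ t ht] at this
      exact mem_im_of_mem this
  refine ⟨X, hconjX, fun Y hY => (hup Y hY).trans (isConj_le hY).2 ⟨ψ, hψ', hψX⟩,
    lt_of_le_of_ne (hT ▸ hW.1) fun he => ?_, hT ▸ hW⟩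
  have h1 := card_lt_of_lt hT₀ hT₀S
  rw [← hf.card_im, hT, ← he, hX, (hf.restrict hT₀.le).card_im] at h1
  omega

variable (hX : F.IsConj P X) (hup : ∀ Y, F.IsConj P Y → Up F Y X) (hXT : X < Tk F p X)
  (hWT : WellPlaced F p (Tk F p X) X)

include hX hup hXT hWT

omit hgen hℋ in
/-- A map fixing `X` and defined above it agrees on `X` with a map on `Tk X`. -/
theorem ext_of_step : ∀ (R : Subgroup Ω) (β : Ω → Ω), X < R → R ≤ normalizerIn S X → Map F R β →
    im X β = X → ∃ g, Map F (Tk F p X) g ∧ ∀ x ∈ X, g x = β x := by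
  suffices ∀ m, ∀ (R : Subgroup Ω) (β : Ω → Ω), Nat.card S - Nat.card R = m → X < R →
      R ≤ normalizerIn S X → Map F R β → im X β = X →
      ∃ g, Map F (Tk F p X) g ∧ ∀ x ∈ X, g x = β x from fun R β => this _ R β rfl
  intro m
  induction m using Nat.strong_induction_on with
  | _ m ih =>
  intro R β hm hXR hRN hβ hβX
  have hXS := (isConj_le hX).2
  set T := Tk F p X with hTdef
  by_cases hTR : T ≤ R
  · exact ⟨β, hβ.restrict hTR, fun x _ => rfl⟩
  have hn : Nat.card P < Nat.card R := isConj_card hX ▸ card_lt_of_lt hXR hβ.le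
  have hRT : R ≤ Subgroup.normalizer (T : Set Ω) := hRN.trans (normalizerIn_le_normalizer_Tk hXS)
  have hU : R ⊔ T ≤ S := sup_le hβ.le (Tk_le.trans inf_le_left)
  have hR1 : R < R ⊔ (T ⊓ Subgroup.normalizer (R : Set Ω)) := by
    obtain ⟨u, ⟨huU, hun⟩, huR⟩ := SetLike.exists_of_lt (lt_inf_normalizer hS
      (lt_of_le_not_ge (le_sup_left : R ≤ R ⊔ T) fun h => hTR (le_sup_right.trans h)) hU)
    refine lt_of_le_not_ge le_sup_left fun hle => huR ?_
    replace huU : u ∈ ((R ⊔ T : Subgroup Ω) : Set Ω) := huU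
    rw [Subgroup.coe_mul_of_left_le_normalizer_right R T hRT] at huU
    obtain ⟨r, hr, s, hs, rfl⟩ := huU
    have hsn : s ∈ Subgroup.normalizer (R : Set Ω) := by
      simpa using Subgroup.mul_mem _ (Subgroup.inv_mem _ (Subgroup.le_normalizer hr)) hun
    exact R.mul_mem hr (hle (Subgroup.mem_sup_right ⟨hs, hsn⟩))
  have hXR' : X ≤ im R β := hβX ▸ im_mono hXR.le
  have hR'N : im R β ≤ normalizerIn S X :=
    im_le_iff.2 fun x hx => hβX ▸ hβ.mem_normalizer hXR.le hx (hRN hx).2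
  have hcard : Nat.card R < Nat.card ↥(normalizerIn S X) :=
    (card_lt_of_lt hR1 (sup_le hβ.le (inf_le_left.trans (Tk_le.trans inf_le_left)))).trans_le
      (Subgroup.card_le_of_le (sup_le hRN (inf_le_left.trans Tk_le)))
  have hR'lt : im R β < normalizerIn S X := lt_of_le_of_ne hR'N fun he => by
    rw [← he, hβ.card_im] at hcard; omega
  obtain ⟨q, hq, hqW⟩ := exists_push hS hab hβ.im_le (by rw [hβ.card_im]; exact hn) hXR'
  obtain ⟨ψ₂, hψ₂, hψ₂X, hψ₂R⟩ := exists_extend_norm hS hqW hq rfl hXR' rfl hR'N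
  set Z := im X q with hZ
  set R₂ := im (im R β) q with hR₂
  have hR'M : im R β ≤ normalizerIn S X ⊓ Subgroup.normalizer (im R β : Set Ω) :=
    le_inf hR'N Subgroup.le_normalizer
  have hm' : ∀ x ∈ R, β x ∈ normalizerIn S X ⊓ Subgroup.normalizer (im R β : Set Ω) :=
    fun x hx => hR'M (mem_im_of_mem hx)
  have hf₂ : Map F R (ψ₂ ∘ β) := hβ.comp hψ₂ hm'
  have hf₂X : im X (ψ₂ ∘ β) = Z := by rw [(hβ.restrict hXR.le).im_comp, hβX, hψ₂X]
  haveI := mulAut_finite_of_le hqW.2.1.1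
  set B := stab F R₂ Z Z
  set L : Subgroup ↥B := (coreAut F p Z).comap (resX hqW.1)
  have hLn : L.Normal := ⟨fun b hb a => by
    show resX hqW.1 (a * b * a⁻¹) ∈ coreAut F p Z
    rw [map_mul, map_mul, map_inv]
    exact coreAut_conj (resX_mem_autGroup hqW.1 hqW.2.1.1 a) hb⟩
  have hL : SylIn p ((autInducedBy S R₂ ⊓ B).subgroupOf B ⊓ L) L :=
    (sylIn_stab hqW).inf_normal le_top (Subgroup.normalizer_eq_top L).ge
  obtain ⟨ψ₁, hψ₁, hψ₁X⟩ := exists_extend_fix hS hqW (W := T ⊓ Subgroup.normalizer (R : Set Ω)) hf₂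
    (by rw [hβ.im_comp, hψ₂R]) hXR.le hf₂X (fun w hw => ⟨(Tk_le hw.1).1, hw.2⟩)
    (inf_le_left.trans Tk_le) hL (fun t ht => ht.1.1)
    (isPGroup_coreAut.to_le (Subgroup.map_comap_le _ _)) (by
      intro w hw b hb
      show resX hqW.1 b ∈ coreAut F p Z
      obtain ⟨-, β₀, hβ₀, hw₀⟩ := mem_Tk.1 hw.1
      obtain ⟨e₀, he₀⟩ := exists_equiv (hf₂.restrict hXR.le) hf₂X
      rw [show resX hqW.1 b = MulAut.congr e₀ β₀ from aut_ext fun z hz => by
        obtain ⟨x, hx, rfl⟩ := (hf₂.restrict hXR.le).mem_im.1 (hf₂X.ge hz)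
        rw [resX_apply hqW.1 b hz, hb x (hXR.le hx), av_congr_apply he₀ β₀ hx, hw₀ x hx]]
      exact congr_mem_coreAut (hf₂.restrict hXR.le) hf₂X he₀ hβ₀)
  have hψ₁Z : im X ψ₁ = Z := (im_congr hψ₁X).trans hf₂X
  have hZc : F.IsConj P Z := isConj_trans hX (isConj_iff.2 ⟨q, hq.restrict hXR', rfl⟩)
  obtain ⟨ω, hω, hωX⟩ := hup Z hZc
  have hM₁N : R ⊔ (T ⊓ Subgroup.normalizer (R : Set Ω)) ≤ normalizerIn S X :=
    sup_le hRN (inf_le_left.trans Tk_le)
  have hm₁ : ∀ x ∈ R ⊔ (T ⊓ Subgroup.normalizer (R : Set Ω)), ψ₁ x ∈ normalizerIn S Z :=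
    fun x hx => hψ₁Z ▸ hψ₁.mem_normalizer (hXR.le.trans le_sup_left) hx (hM₁N hx).2
  have hm₂ : ∀ x ∈ normalizerIn S X ⊓ Subgroup.normalizer (im R β : Set Ω), ψ₂ x ∈ normalizerIn S Z :=
    fun x hx => hψ₂X ▸ hψ₂.mem_normalizer (hXR'.trans hR'M) hx hx.1.2
  have hgr : im R β < normalizerIn S X ⊓ Subgroup.normalizer (im R β : Set Ω) :=
    lt_inf_normalizer hS hR'lt inf_le_left
  have c1 := card_lt_of_lt hR1 hψ₁.le
  have c2 := card_lt_of_lt hgr hψ₂.le
  rw [hβ.card_im] at c2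
  have s1 := Subgroup.card_le_of_le hψ₁.le
  have s2 := Subgroup.card_le_of_le hψ₂.le
  obtain ⟨g₁, hg₁, hg₁X⟩ := ih _ (by omega) _ (ω ∘ ψ₁) rfl (hXR.trans hR1) hM₁N
    (hψ₁.comp hω hm₁) (by rw [(hψ₁.restrict (hXR.le.trans le_sup_left)).im_comp, hψ₁Z, hωX])
  obtain ⟨g₂, hg₂, hg₂X⟩ := ih _ (by omega) _ (ω ∘ ψ₂) rfl
    (lt_of_le_of_lt hXR' hgr) inf_le_left
    (hψ₂.comp hω hm₂) (by rw [(hψ₂.restrict (hXR'.trans hR'M)).im_comp, hψ₂X, hωX])
  have hωm : ∀ z ∈ Z, ω z ∈ X := fun z hz => hωX.le (mem_im_of_mem hz)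
  have hg₁i : im X g₁ = X := by
    rw [im_congr hg₁X, (hψ₁.restrict (hXR.le.trans le_sup_left)).im_comp, hψ₁Z, hωX]
  have hg₂i : im X g₂ = X := by
    rw [im_congr hg₂X, (hψ₂.restrict (hXR'.trans hR'M)).im_comp, hψ₂X, hωX]
  obtain ⟨k, hk, hkg, -, -⟩ := hg₂.exists_inv
  rw [im_Tk_eq hXS hXT.le hg₂ hg₂i] at hk
  refine ⟨k ∘ g₁, hg₁.comp hk fun t ht =>
    (im_Tk_eq hXS hXT.le hg₁ hg₁i).le (mem_im_of_mem ht), fun x hx => ?_⟩
  have hβx : β x ∈ X := hβX.le (mem_im_of_mem hx)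
  show k (g₁ x) = β x
  rw [hg₁X x hx]
  show k (ω (ψ₁ x)) = β x
  rw [hψ₁X x hx]
  show k ((ω ∘ ψ₂) (β x)) = β x
  rw [← hg₂X _ hβx, hkg _ (hXT.le hβx)]

/-- Every automorphism of `X` is the restriction of a map on `Tk X`. -/
theorem ext_all {β : Ω → Ω} (hβ : Map F X β) (hβX : im X β = X) :
    ∃ g, Map F (Tk F p X) g ∧ ∀ x ∈ X, g x = β x := by
  have hXS := (isConj_le hX).2
  have step : ∀ (R Z : Subgroup Ω) (f u v : Ω → Ω), F.IsConj P Z → Z < R → R ≤ normalizerIn S Z →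
      Map F R f → Map F (normalizerIn S Z) u → im Z u = X →
      Map F (normalizerIn S (im Z f)) v → im (im Z f) v = X →
      ∃ g, Map F (Tk F p X) g ∧ ∀ z ∈ Z, g (u z) = v (f z) := by
    intro R Z f u v hc hZR hRN hf hu hui hv hvi
    have hZS := (isConj_le hc).2
    have huR := hu.restrict hRN
    obtain ⟨k, hk, hku, -, -⟩ := huR.exists_inv
    have hfm : ∀ x ∈ R, f x ∈ normalizerIn S (im Z f) :=
      fun x hx => hf.mem_normalizer hZR.le hx (hRN hx).2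
    have hkm : ∀ y ∈ im R u, k y ∈ R := fun y hy => by
      obtain ⟨x, hx, rfl⟩ := huR.mem_im.1 hy
      rw [hku x hx]; exact hx
    have hXle : X ≤ im R u := hui ▸ im_mono hZR.le
    have hXlt : X < im R u := lt_of_le_of_ne hXle fun he => by
      have h1 := card_lt_of_lt hZR hf.le
      rw [← huR.card_im, ← he, ← isConj_card hX, ← isConj_card hc] at h1
      omega
    have hvfk : Map F (im R u) ((v ∘ f) ∘ k) := hk.comp (hf.comp hv hfm) hkm
    have key : ∀ z ∈ Z, ((v ∘ f) ∘ k) (u z) = v (f z) := fun z hz => by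
      show v (f (k (u z))) = _
      rw [hku z (hZR.le hz)]
    have hXi : im X ((v ∘ f) ∘ k) = X := by
      rw [← hui, ← (huR.restrict hZR.le).im_comp, im_congr (f := ((v ∘ f) ∘ k) ∘ u) (g := v ∘ f) key,
        (hf.restrict hZR.le).im_comp, hvi, hui]
    obtain ⟨g, hg, hgX⟩ := ext_of_step hS hP hab hPS hX hup hXT hWT _ _ hXlt
      (im_le_iff.2 fun x hx => hui ▸ hu.mem_normalizer (le_normalizerIn hZS) (hRN hx) (hRN hx).2)
      hvfk hXi
    exact ⟨g, hg, fun z hz => (hgX _ (hui.le (mem_im_of_mem hz))).trans (key z hz)⟩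
  have hgi : ∀ {Z Z' : Subgroup Ω} {f u v g : Ω → Ω}, Z ≤ S → Map F Z f → im Z f = Z' →
      Map F (normalizerIn S Z) u → im Z u = X → Map F (normalizerIn S Z') v → im Z' v = X →
      Map F (Tk F p X) g → (∀ z ∈ Z, g (u z) = v (f z)) → im (Tk F p X) g = Tk F p X := by
    intro Z Z' f u v g hZ hf hfi hu hui hv hvi hg hguv
    refine im_Tk_eq hXS hXT.le hg ?_
    rw [← hui, ← (hu.restrict (le_normalizerIn hZ)).im_comp, im_congr (f := g ∘ u) (g := v ∘ f) hguv,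
      hf.im_comp, hfi, hvi, hui]
  have := map_of_gen hgen (C := fun Y f => ∀ Z ≤ Y, F.IsConj P Z → ∀ u v,
      Map F (normalizerIn S Z) u → im Z u = X →
      Map F (normalizerIn S (im Z f)) v → im (im Z f) v = X →
      ∃ g, Map F (Tk F p X) g ∧ ∀ z ∈ Z, g (u z) = v (f z))
    (fun h he Z hZ hc u v hu hui hv hvi => by
      rw [← im_congr fun x hx => he x (hZ hx)] at hv hvi
      obtain ⟨g, hg, hgz⟩ := h Z hZ hc u v hu hui hv hvi
      exact ⟨g, hg, fun z hz => by rw [hgz z hz, he z (hZ hz)]⟩)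
    (fun {Y s} hY hs Z hZ hc u v hu hui hv hvi => by
      have hlt : Z < S := lt_of_le_of_ne (hZ.trans hY) fun he => by
        have := isConj_card hc
        rw [he] at this; omega
      exact step _ Z _ u v hc (lt_normalizerIn hS hlt) le_rfl (map_conjBy inf_le_left hs) hu hui hv hvi)
    (fun {Y Y' f f'} hf hf' hCf hCf' hm Z hZ hc u v hu hui hv hvi => by
      have hfZ := hf.restrict hZ
      have hc' : F.IsConj P (im Z f) := isConj_trans hc (isConj_iff.2 ⟨f, hfZ, rfl⟩)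
      have hle : im Z f ≤ Y' := im_le_iff.2 fun x hx => hm x (hZ hx)
      obtain ⟨w, hw, hwi⟩ := hup _ hc'
      rw [hfZ.im_comp] at hv hvi
      obtain ⟨g₁, hg₁, h₁⟩ := hCf Z hZ hc u w hu hui hw hwi
      obtain ⟨g₂, hg₂, h₂⟩ := hCf' _ hle hc' w v hw hwi hv hvi
      refine ⟨g₂ ∘ g₁, hg₁.comp hg₂ fun t ht =>
        (hgi (hZ.trans hf.le) hfZ rfl hu hui hw hwi hg₁ h₁).le (mem_im_of_mem ht), fun z hz => ?_⟩
      show g₂ (g₁ (u z)) = v (f' (f z))
      rw [h₁ z hz, h₂ _ (mem_im_of_mem hz)])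
    (fun {Y f g₀} hf hCf hg₀ Z hZ hc u v hu hui hv hvi => by
      obtain ⟨k, hk, hkf, hfk, -⟩ := hf.exists_inv
      have hkg : ∀ y ∈ im Y f, k y = g₀ y := fun y hy => by
        obtain ⟨x, hx, rfl⟩ := hf.mem_im.1 hy
        rw [hkf x hx, hg₀ x hx]
      have hkZ := hk.restrict hZ
      rw [← im_congr fun y hy => hkg y (hZ hy)] at hv hvi
      have hle : im Z k ≤ Y := im_le_iff.2 fun y hy => (hfk y (hZ hy)).2
      have hfi : im (im Z k) f = Z := by
        rw [← hkZ.im_comp, im_congr (f := f ∘ k) (g := id) fun y hy => (hfk y (hZ hy)).1, im_id]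
      obtain ⟨g, hg, hgz⟩ := hCf _ hle (isConj_trans hc (isConj_iff.2 ⟨k, hkZ, rfl⟩)) v u hv hvi
        (by rw [hfi]; exact hu) (by rw [hfi]; exact hui)
      obtain ⟨l, hl, hlg, -, -⟩ := hg.exists_inv
      rw [hgi (hle.trans hf.le) (hf.restrict hle) hfi hv hvi hu hui hg hgz] at hl
      refine ⟨l, hl, fun z hz => ?_⟩
      obtain ⟨x, hx, rfl⟩ := (hf.restrict hle).mem_im.1 (hfi.ge hz)
      rw [← hgz x hx, hlg _ (hXT.le (hvi.le (mem_im_of_mem hx))), ← hkg _ (hZ hz), hkf x (hle hx)])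
    (fun Y hY f hf Z hZ hc u v hu hui hv hvi => by
      have hlt : Z < Y := lt_of_le_of_ne hZ fun he => hℋ Y hY (he ▸ hc)
      exact step _ Z f u v hc (lt_inf_normalizer hS hlt hf.le)
        (le_inf (inf_le_left.trans hf.le) inf_le_right) (hf.restrict inf_le_left) hu hui hv hvi)
    X β hβ X le_rfl hX id id (map_id inf_le_left) im_id
    (map_id inf_le_left) (by rw [im_id]; exact hβX)
  obtain ⟨g, hg, hgX⟩ := this
  exact ⟨g, hg, hgX⟩

theorem fa_of_top : F.IsFullyAutomized p X := by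
  have hXS := (isConj_le hX).2
  haveI := mulAut_finite_of_le hXS
  haveI := mulAut_finite_of_le hWT.2.1.1
  set res := resX hWT.1 with hres
  have hrange : res.range = F.autGroup X := by
    refine le_antisymm ?_ fun α hα => ?_
    · rintro _ ⟨b, rfl⟩; exact resX_mem_autGroup hWT.1 hWT.2.1.1 b
    · obtain ⟨g, hg, hgX⟩ := ext_all hS hP hab hPS hgen hℋ hX hup hXT hWT
        (map_of_mem_autGroup hXS hα) (im_av α)
      have hgi : im X g = X := (im_congr hgX).trans (im_av α)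
      obtain ⟨b, hb, hbg⟩ := exists_aut hg (im_Tk_eq hXS hXT.le hg hgi)
      refine ⟨⟨b, hb, fun x hx => ?_⟩, aut_ext fun x hx => ?_⟩
      · rw [hbg x hx]
        exact ⟨hg.mem_im_iff hXT.le hgi hx, hg.mem_im_iff hXT.le hgi hx⟩
      · rw [resX_apply hWT.1 _ hx, hbg x (hXT.le hx), hgX x hx]
  set T := (autInducedBy S (Tk F p X) ⊓ stab F (Tk F p X) X X).subgroupOf (stab F (Tk F p X) X X)
  have hTr : T.map res ≤ autInducedBy S X := by
    rintro _ ⟨b, hb, rfl⟩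
    obtain ⟨s, hs, hsb⟩ := mem_autInducedBy.1 hb.1
    exact mem_autInducedBy.2 ⟨s, hs, fun x hx => by
      rw [resX_apply hWT.1 b hx]; exact hsb x (hXT.le hx)⟩
  refine fa_iff.2 ⟨hXS, autInducedBy_le_autGroup hXS, isPGroup_autS hS, fun hd => ?_⟩
  refine (sylIn_stab hWT).not_dvd ?_
  rw [Subgroup.relIndex_top_right]
  refine dvd_trans hd (dvd_trans ?_ (?_ : (T.map res.rangeRestrict).index ∣ _))
  · have h1 : (T.map res.rangeRestrict).index = (T.map res).relIndex res.range := by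
      rw [Subgroup.relIndex, Subgroup.subgroupOf]
      congr 1
      ext ⟨y, hy⟩
      constructor
      · rintro ⟨x, hx, he⟩; exact ⟨x, hx, congrArg Subtype.val he⟩
      · rintro ⟨x, hx, he⟩; exact ⟨x, hx, Subtype.ext he⟩
    rw [h1, ← hrange]
    exact ⟨_, (Subgroup.relIndex_mul_relIndex _ _ _ hTr
      (hrange.symm ▸ autInducedBy_le_autGroup hXS)).symm.trans (mul_comm _ _)⟩
  · exact Subgroup.index_map_dvd _ res.rangeRestrict_surjective

theorem receptive_of_top : F.IsReceptive X := by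
  have hXS := (isConj_le hX).2
  refine receptive_iff.2 ⟨hXS, fun Q f hf hi => ?_⟩
  have hQ : F.IsConj P Q := isConj_trans hX (isConj_symm (isConj_iff.2 ⟨f, hf, hi⟩))
  obtain ⟨u, hu, hui⟩ := hup Q hQ
  have hQN := le_normalizerIn (S := S) hf.le
  obtain ⟨k, hk, hku, -, -⟩ := (hu.restrict hQN).exists_inv
  rw [hui] at hk
  have hkm : ∀ x ∈ X, k x ∈ Q := fun x hx => by
    obtain ⟨y, hy, rfl⟩ := (hu.restrict hQN).mem_im.1 (hui.ge hx)
    rw [hku y hy]; exact hy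
  set α := f ∘ k with hαdef
  have hα : Map F X α := hk.comp hf hkm
  have hαi : im X α = X := by
    rw [hαdef, ← hui, ← (hu.restrict hQN).im_comp,
      im_congr (f := (f ∘ k) ∘ u) (g := f) (fun x hx => congrArg f (hku x hx)), hi, hui]
  obtain ⟨g, hg, hgα⟩ := ext_all hS hP hab hPS hgen hℋ hX hup hXT hWT hα hαi
  have hgi : im X g = X := (im_congr hgα).trans hαi
  haveI := mulAut_finite_of_le hWT.2.1.1
  set B := stab F (Tk F p X) X X
  set L : Subgroup ↥B := (autInducedBy S X).comap (resX hWT.1)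
  have hTL : (autInducedBy S (Tk F p X) ⊓ B).subgroupOf B ≤ L := fun b hb => by
    obtain ⟨s, hs, hsb⟩ := mem_autInducedBy.1 hb.1
    exact mem_autInducedBy.2 ⟨s, hs, fun x hx => by
      rw [resX_apply hWT.1 b hx]; exact hsb x (hXT.le hx)⟩
  have hNle : Nf S X α ≤ normalizerIn S X := Nf_le
  obtain ⟨θ, hθ, hθα⟩ := exists_extend_fix hS hWT (W := Nf S X α) hg
    (im_Tk_eq hXS hXT.le hg hgi) hXT.le hgi
    (fun w hw => ⟨(hNle hw).1, normalizerIn_le_normalizer_Tk hXS (hNle hw)⟩) hNle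
    ((sylIn_stab hWT).mono hTL le_top) (fun t ht => ht.1)
    ((isPGroup_autS hS).to_le (Subgroup.map_comap_le _ _)) (by
      intro w hw b hb
      show resX hWT.1 b ∈ autInducedBy S X
      obtain ⟨-, hwn, h, hh, hwh⟩ := hw
      refine mem_autInducedBy.2 ⟨h, hh, fun y hy => ?_⟩
      obtain ⟨x, hx, rfl⟩ := (hg.restrict hXT.le).mem_im.1 (hgi.ge hy)
      rw [resX_apply hWT.1 b hy, hb x (hXT.le hx), hgα _ (conj_mem_of_normalizer hwn hx), hgα x hx,
        hwh x hx])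
  have hmem : ∀ a ∈ Nf S Q f, u a ∈ Nf S X α := by
    rintro a ⟨haS, han, h, hh, hah⟩
    have haN : a ∈ normalizerIn S Q := ⟨haS, han⟩
    refine ⟨hu.mem haN, (up_mem hf.le hu hui a haN).2, h, hh, fun x hx => ?_⟩
    obtain ⟨y, hy, rfl⟩ := (hu.restrict hQN).mem_im.1 (hui.ge hx)
    rw [← hu.map_conj haN (hQN hy)]
    show f (k (u (a * y * a⁻¹))) = h * f (k (u y)) * h⁻¹
    rw [hku _ (conj_mem_of_normalizer han hy), hku y hy, hah y hy]
  refine ⟨θ ∘ u, (hu.restrict Nf_le).comp (hθ.restrict le_sup_right) hmem, fun y hy => ?_⟩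
  show θ (u y) = f y
  have huy : u y ∈ X := hui.le (mem_im_of_mem hy)
  rw [hθα _ huy, hgα _ huy]
  show f (k (u y)) = f y
  rw [hku y hy]

end Class

/-- The saturation criterion. -/
theorem saturated_of_family (hS : IsPGroup p S) (ℋ : Set (Subgroup Ω))
    (hℋconj : ∀ P ∈ ℋ, ∀ Q, F.IsConj P Q → Q ∈ ℋ)
    (hsat : ∀ P ∈ ℋ, ∃ Q, F.IsConj P Q ∧ F.IsFullyAutomized p Q ∧ F.IsReceptive Q)
    (hgen : ∀ E : FusionSystem S, (∀ P ∈ ℋ, F.Hom P ⊆ E.Hom P) → F ≤ E)
    (hstar : ∀ P : Subgroup Ω, F.IsCentric P → P ∉ ℋ → ∃ Q, F.IsConj P Q ∧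
      ¬ (autInducedBy S Q ⊓ coreAut F p Q ≤ Inn Q)) : F.IsSaturated p := by
  suffices ∀ m, ∀ P : Subgroup Ω, Nat.card S - Nat.card P = m → P ≤ S →
      ∃ Q, F.IsConj P Q ∧ F.IsFullyAutomized p Q ∧ F.IsReceptive Q from fun P hP => this _ P rfl hP
  intro m
  induction m using Nat.strong_induction_on with
  | _ m ih =>
  intro P hm hP
  by_cases hPℋ : P ∈ ℋ
  · exact hsat P hPℋ
  have hab : Above F p (Nat.card P) := fun R hR hlt => by
    refine ih _ ?_ R rfl hR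
    have := Subgroup.card_le_of_le hR
    omega
  have hℋ : ∀ X ∈ ℋ, ¬ F.IsConj P X := fun X hX hc => hPℋ (hℋconj X hX P (isConj_symm hc))
  have hwit : ∃ Q, F.IsConj P Q ∧ Q < Tk F p Q := by
    by_cases hC : F.IsCentric P
    · obtain ⟨Q, hQ, hnot⟩ := hstar P hC hPℋ
      obtain ⟨β, hβ, hβi⟩ := SetLike.not_le_iff_exists.1 hnot
      obtain ⟨s, hs, hsβ⟩ := mem_autInducedBy.1 hβ.1
      refine ⟨Q, hQ, lt_of_le_not_ge (le_Tk hS (isConj_le hQ).2) fun hle => hβi ?_⟩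
      exact mem_Inn.2 ⟨s, hle (mem_Tk.2 ⟨⟨hs, mem_normalizer_of_conj_aut hsβ⟩, β, hβ.2, hsβ⟩), hsβ⟩
    · obtain ⟨Q, hQ, hnot⟩ : ∃ Q, F.IsConj P Q ∧ ¬ centralizerIn S Q ≤ Q := by
        by_contra hno
        exact hC ⟨hP, fun Q hQ => by_contra fun h => hno ⟨Q, hQ, h⟩⟩
      obtain ⟨c, hc, hcQ⟩ := SetLike.not_le_iff_exists.1 hnot
      refine ⟨Q, hQ, lt_of_le_not_ge (le_Tk hS (isConj_le hQ).2) fun hle => hcQ (hle ?_)⟩
      refine mem_Tk.2 ⟨centralizerIn_le_normalizerIn hc, 1, Subgroup.one_mem _, fun x hx => ?_⟩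
      rw [av_one hx, ← (mem_centralizerIn.1 hc).2 x hx, mul_inv_cancel_right]
  have hPS : Nat.card P < Nat.card S := by
    obtain ⟨Q, hQ, hlt⟩ := hwit
    rw [isConj_card hQ]
    exact card_lt_of_lt (hlt.trans_le (Tk_le.trans inf_le_left)) le_rfl
  obtain ⟨X, hX, hup, hXT, hWT⟩ := exists_top hS hP hab hPS hgen hℋ hwit
  exact ⟨X, hX, fa_of_top hS hP hab hPS hgen hℋ hX hup hXT hWT,
    receptive_of_top hS hP hab hPS hgen hℋ hX hup hXT hWT⟩

end Cfsg.Agent.Local.FS
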