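import Cfsg.Agent.Lib.Local.FS.PrimeIndex
import Cfsg.Agent.Lib.Local.FS.CentricCriterion
import Cfsg.Prelude.Def_FusionComponents

/-!
Existence of the smallest saturated subsystem of index prime to `p`.
-/

set_option autoImplicit false

namespace Cfsg.Agent.Local.FS

open Cfsg Cfsg.FusionSystem Cfsg.Agent.Fusion

variable {Ω : Type*} [Group Ω] {S : Subgroup Ω} {F E : FusionSystem S} {P Q R : Subgroup Ω}
  {f g : Ω → Ω} {p : ℕ}

/-- The maps of `F` belonging to every system in a family. -/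
def interSys (F : FusionSystem S) (C : Set (FusionSystem S)) : FusionSystem S where
  Hom P := {φ | φ ∈ F.Hom P ∧ ∀ E ∈ C, φ ∈ E.Hom P}
  le_of_mem h := F.le_of_mem h.1
  injective_of_mem h := F.injective_of_mem h.1
  conj_mem hP hg := ⟨F.conj_mem hP hg, fun E _ => E.conj_mem hP hg⟩
  comp_mem hφ hψ h := ⟨F.comp_mem hφ.1 hψ.1 h, fun E hE => E.comp_mem (hφ.2 E hE) (hψ.2 E hE) h⟩
  inv_mem {P φ} hφ := by
    obtain ⟨ψ, hψ, hψφ⟩ := F.inv_mem hφ.1
    refine ⟨ψ, ⟨hψ, fun E hE => ?_⟩, hψφ⟩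
    obtain ⟨ψ', hψ', hψ'φ⟩ := E.inv_mem (hφ.2 E hE)
    rwa [show ψ = ψ' from MonoidHom.ext fun y => by
      obtain ⟨y, x, rfl⟩ := y
      rw [hψφ x, hψ'φ x]]

theorem map_interSys {C : Set (FusionSystem S)} :
    Map (interSys F C) P f ↔ Map F P f ∧ ∀ E ∈ C, Map E P f := by
  refine ⟨fun ⟨φ, hφ, h⟩ => ⟨⟨φ, hφ.1, h⟩, fun E hE => ⟨φ, hφ.2 E hE, h⟩⟩, fun ⟨⟨φ, hφ, h⟩, hE⟩ => ?_⟩
  exact ⟨φ, ⟨hφ, fun E hE' => (hE E hE').mem_hom h⟩, h⟩

/-- `E` contains the generators and is detected on centric subgroups. -/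
def CentClosed (F : FusionSystem S) (p : ℕ) (E : FusionSystem S) : Prop :=
  (∀ P : Subgroup Ω, F.IsCentric P → pResAut p (F.autGroup P) ≤ E.autGroup P) ∧
    ∀ (P Q : Subgroup Ω) (f : Ω → Ω), Map F P f → Q ≤ P → F.IsCentric Q → Map E Q f → Map E P f

variable [Finite S] [Fact p.Prime]

omit [Fact p.Prime] in
theorem centClosed_interSys {C : Set (FusionSystem S)} (hC : ∀ E ∈ C, CentClosed F p E) :
    CentClosed F p (interSys F C) := by
  refine ⟨fun P hP α hα => mem_autGroup_of_map (map_interSys.2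
    ⟨map_of_mem_autGroup hP.1 (pResAut_le _ hα), fun E hE =>
      map_of_mem_autGroup hP.1 ((hC E hE).1 P hP hα)⟩), fun P Q f hf hQP hQ h => ?_⟩
  exact map_interSys.2 ⟨hf, fun E hE => (hC E hE).2 P Q f hf hQP hQ ((map_interSys.1 h).2 E hE)⟩

/-- The candidate for `O^{p'}(F)`. -/
def primeRes (F : FusionSystem S) (p : ℕ) : FusionSystem S := interSys F {E | CentClosed F p E}

theorem primeRes_le : primeRes F p ≤ F := fun _ _ h => h.1

omit [Fact p.Prime] in
theorem centClosed_primeRes : CentClosed F p (primeRes F p) := centClosed_interSys fun _ h => h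

theorem centric_primeRes (hS : IsPGroup p S) (hF : F.IsSaturated p) :
    (primeRes F p).IsCentric P ↔ F.IsCentric P :=
  centric_iff_of_fac hS hF primeRes_le centClosed_primeRes.1

omit [Fact p.Prime] in
theorem autGroup_le_of_le (hle : E ≤ F) (hP : P ≤ S) : E.autGroup P ≤ F.autGroup P := fun _ hα => by
  obtain ⟨φ, hφ, h⟩ := map_of_mem_autGroup hP hα
  exact mem_autGroup_of_map ⟨φ, hle P hφ, h⟩

theorem primeRes_saturated (hS : IsPGroup p S) (hF : F.IsSaturated p) :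
    (primeRes F p).IsSaturated p := by
  have hle : primeRes F p ≤ F := primeRes_le
  have hconjF : ∀ {A B : Subgroup Ω}, (primeRes F p).IsConj A B → F.IsConj A B :=
    fun ⟨φ, hφ, hr⟩ => ⟨φ, hle _ hφ, hr⟩
  refine saturated_of_family hS {P | F.IsCentric P} (fun P hP Q hQ => ?_) (fun P hP => ?_)
    (fun E hE => ?_) fun P hP hP' => absurd ((centric_primeRes hS hF).1 hP) hP'
  · exact ⟨(isConj_le hQ).2, fun R hR => hP.2 R (isConj_trans (hconjF hQ) hR)⟩
  · obtain ⟨Q, hQ, hfn⟩ := exists_fullyNormalized (F := F) hP.1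
    obtain ⟨f, hf, hi⟩ := isConj_iff.1 hQ
    obtain ⟨α, hα, f₀, h₀, hfe⟩ := fac_of_map hS hF centClosed_primeRes.1 hf
    set Q₀ := im P f₀
    have hQ₀S : Q₀ ≤ S := h₀.1.im_le
    have hQeq : im Q₀ (av α) = Q := by
      rw [← hi, ← h₀.1.im_comp]
      exact im_congr fun x hx => (hfe x hx).symm
    have hfn₀ : F.IsFullyNormalized Q₀ := by
      refine ⟨hQ₀S, fun R hR => (hfn.2 R (isConj_trans (isConj_symm
        (isConj_iff.2 ⟨_, map_autS hα hQ₀S, hQeq⟩)) hR)).trans ?_⟩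
      have hm := map_autS (F := F) ((F.autGroup S).inv_mem hα) (inf_le_left : normalizerIn S Q ≤ S)
      have hi' : im Q (av α⁻¹) = Q₀ := by
        rw [← hQeq, ← (map_autS hα hQ₀S).im_comp,
          im_congr (f := av α⁻¹ ∘ av α) (g := id) fun x hx => av_inv_av α (hQ₀S hx), im_id]
      exact hm.card_le fun x hx => hi' ▸ hm.mem_normalizer (le_normalizerIn hfn.1) hx hx.2
    obtain ⟨hfc, hfa⟩ := fc_fa_of_fn hS hF hfn₀
    refine ⟨Q₀, isConj_iff.2 ⟨f₀, h₀.map, rfl⟩, ?_, ?_⟩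
    · haveI := mulAut_finite_of_le hQ₀S
      exact fa_iff.2 ⟨hQ₀S, (fa_iff.1 hfa).2.mono (autInducedBy_le_autGroup hQ₀S)
        (autGroup_le_of_le hle hQ₀S)⟩
    · refine receptive_iff.2 ⟨hQ₀S, fun X g hg hgi => ?_⟩
      have hgF : Map F X g := let ⟨φ, hφ, he⟩ := hg; ⟨φ, hle _ hφ, he⟩
      have hXc : F.IsCentric X := ⟨hg.le, fun R hR => hP.2 R (isConj_trans
        (isConj_trans (isConj_iff.2 ⟨f₀, h₀.1, rfl⟩) (isConj_symm (isConj_iff.2 ⟨g, hgF, hgi⟩))) hR)⟩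
      obtain ⟨ψ, hψ, hψg⟩ := (receptive_iff.1 (receptive_of_fc hS hF hfc)).2 X g hgF hgi
      exact ⟨ψ, centClosed_primeRes.2 _ X ψ hψ (le_Nf hgF) hXc
        (hg.congr fun x hx => (hψg x hx).symm), hψg⟩
  · have hC : CentClosed F p (interSys F {primeRes F p, E}) := by
      refine ⟨fun P hP α hα => mem_autGroup_of_map ?_, fun P Q f hf hQP hQ h => ?_⟩
      · have hM := map_of_mem_autGroup hP.1 (centClosed_primeRes.1 P hP hα)
        refine map_interSys.2 ⟨map_of_mem_autGroup hP.1 (pResAut_le _ hα), ?_⟩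
        rintro D (rfl | rfl)
        · exact hM
        · obtain ⟨φ, hφ, he⟩ := hM
          exact ⟨φ, hE P hP hφ, he⟩
      · have hM := centClosed_primeRes.2 P Q f hf hQP hQ ((map_interSys.1 h).2 _ (Or.inl rfl))
        refine map_interSys.2 ⟨hf, ?_⟩
        rintro D (rfl | rfl)
        · exact hM
        · obtain ⟨φ, hφ, he⟩ := hM
          exact ⟨φ, hE P (centric_mono hQ hQP hf.le) hφ, he⟩
    intro P φ hφ
    exact (hφ.2 _ hC).2 E (Or.inr rfl)

theorem isPPrimeResidual_primeRes (hS : IsPGroup p S) (hF : F.IsSaturated p) :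
    F.IsPPrimeResidual p (primeRes F p) := by
  refine ⟨primeRes_saturated hS hF, ⟨primeRes_le, fun P hP =>
    pResAut_le_of_centric hS hF centClosed_primeRes.1 hP⟩, fun D hD hDi P φ hφ => ?_⟩
  exact hφ.2 D ⟨fun P hP => hDi.2 P hP.1,
    fun P Q f hf hQP hQ h => map_of_centric_restrict hS hF hD hDi.1 hQ hQP hf h⟩

end Cfsg.Agent.Local.FS
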