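import Cfsg.Agent.Lib.Local.FS.PrimeResidualNormal

/-!
`O^{p'}(E)` of a weakly normal subsystem is normal (Craven).
-/

set_option autoImplicit false

namespace Cfsg.Agent.Local.FS

open Cfsg Cfsg.FusionSystem Cfsg.Agent.Fusion

variable {Ω : Type*} [Group Ω] {S T : Subgroup Ω} [Finite S] {F : FusionSystem S}
  {E : FusionSystem T} {P Q R X W R' X' : Subgroup Ω} {f g : Ω → Ω} {p : ℕ}

variable [Fact p.Prime]

/-- Extension as in `exists_extend_fix`, remembering the correcting automorphism. -/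
theorem exists_extend_fix_mem (hS : IsPGroup p S) (hW : WellPlaced F p R' X') (hf : Map F R f)
    (hi : im R f = R') (hXR : X ≤ R) (hiX : im X f = X') (hWN : W ≤ normalizerIn S R)
    (hWX : W ≤ normalizerIn S X) {U L : Subgroup ↥(stab F R' X' X')} (hU : SylIn p U L)
    (hUS : ∀ t ∈ U, (t : MulAut R') ∈ autInducedBy S R')
    (hL : IsPGroup p ↥(L.map (resX hW.1)))
    (hWL : ∀ w ∈ W, ∀ b : ↥(stab F R' X' X'),
      (∀ x ∈ R, av (b : MulAut R') (f x) = f (w * x * w⁻¹)) → b ∈ L) :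
    ∃ ψ, Map F (R ⊔ W) ψ ∧ (∀ x ∈ X, ψ x = f x) ∧
      ∃ γ ∈ L, ∀ x ∈ R, ψ x = av (γ : MulAut R') (f x) := by
  haveI := mulAut_finite_of_le hW.2.1.1
  obtain ⟨e, he⟩ := exists_equiv hf hi
  have hUp : IsPGroup p ↥(((autInducedBy W R).map (MulAut.congr e).toMonoidHom).subgroupOf
      (stab F R' X' X')) :=
    (((isPGroup_autS (P := R) hS).to_le fun α hα => by
      obtain ⟨a, ha, h⟩ := mem_autInducedBy.1 hα
      exact mem_autInducedBy.2 ⟨a, (hWN ha).1, h⟩).map _).comap_subtype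
  obtain ⟨γ, hγL, hγ1, hle⟩ := exists_conj_fix (resX hW.1) hU hL hUp (by
    intro b hb
    obtain ⟨β, hβ, hb'⟩ := Subgroup.mem_subgroupOf.1 hb
    obtain ⟨w, hw, hwβ⟩ := mem_autInducedBy.1 hβ
    refine hWL w hw b fun x hx => ?_
    rw [← hb']
    show av (MulAut.congr e β) (f x) = _
    rw [av_congr_apply he β hx, hwβ x hx])
  obtain ⟨ψ, hψ, hψf⟩ := extend_of_conj hW.2.1 hf hi he γ.2.1 hWN fun w hw β hβ => by
    have hb : MulAut.congr e β ∈ stab F R' X' X' :=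
      congr_mem_stab hf hi hXR hiX he (hWN hw).1 (hWX hw).2 hβ
    have h1 : (⟨_, hb⟩ : ↥(stab F R' X' X')) ∈ ((autInducedBy W R).map
        (MulAut.congr e).toMonoidHom).subgroupOf (stab F R' X' X') :=
      Subgroup.mem_subgroupOf.2 ⟨β, mem_autInducedBy.2 ⟨w, hw, hβ⟩, rfl⟩
    exact hUS _ (hle (conj_mem_cj (g := γ) h1))
  refine ⟨ψ, hψ, fun x hx => ?_, γ, hγL, hψf⟩
  have hfx : f x ∈ X' := hiX.le (mem_im_of_mem hx)
  rw [hψf x (hXR hx), ← resX_apply hW.1 γ hfx, hγ1, av_one hfx]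

omit [Finite S] [Fact p.Prime] in
theorem comm_of_centT {c x : Ω} (hc : c ∈ centralizerIn S T) (hx : x ∈ T) : x * c = c * x :=
  (mem_centralizerIn.1 hc).2 x hx

omit [Finite S] [Fact p.Prime] in
theorem conj_centT {c x : Ω} (hc : c ∈ centralizerIn S T) (hx : x ∈ T) : x * c * x⁻¹ = c := by
  rw [comm_of_centT hc hx, mul_inv_cancel_right]

omit [Finite S] [Fact p.Prime] in
theorem centT_le_centralizerIn (hP : P ≤ T) : centralizerIn S T ≤ centralizerIn S P :=
  fun _ hc => mem_centralizerIn.2 ⟨(mem_centralizerIn.1 hc).1, fun _ hy => comm_of_centT hc (hP hy)⟩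

variable (F E) in
/-- `f` extends to `P C_S(T)` moving `C_S(T)` inside `T` only. -/
def ExtC (P : Subgroup Ω) (f : Ω → Ω) : Prop :=
  E.IsCentric P → ∃ g, Map F (P ⊔ centralizerIn S T) g ∧ (∀ x ∈ P, g x = f x) ∧
    ∀ c ∈ centralizerIn S T, c⁻¹ * g c ∈ T

omit [Fact p.Prime] in
theorem extC_diff (hE : E.IsInvariantIn F) (hP : E.IsCentric P) (hg : Map F (P ⊔ centralizerIn S T) g)
    (hgf : ∀ x ∈ P, g x = f x) {c : Ω} (hc : c ∈ centralizerIn S T) (h : c⁻¹ * g c ∈ T) :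
    c⁻¹ * g c ∈ im P f := by
  have hgP : Map F P g := hg.restrict le_sup_left
  rw [← im_congr hgf]
  refine centric_sub hE hP hgP (mem_centralizerIn.2 ⟨h, fun y hy => ?_⟩)
  obtain ⟨x, hx, rfl⟩ := hgP.mem_im.1 hy
  have hxP : x ∈ P ⊔ centralizerIn S T := Subgroup.mem_sup_left hx
  have hcP : c ∈ P ⊔ centralizerIn S T := Subgroup.mem_sup_right hc
  have h1 : g x * g c = g c * g x := by
    rw [← hg.map_mul hxP hcP, comm_of_centT hc (hP.1 hx), hg.map_mul hcP hxP]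
  have h2 : c * g x = g x * c := (comm_of_centT hc (stronglyClosed_map hE.2.1 hgP hx (hP.1 hx))).symm
  calc g x * (c⁻¹ * g c) = c⁻¹ * (c * g x) * c⁻¹ * g c := by group
    _ = c⁻¹ * (g x * g c) := by rw [h2]; group
    _ = c⁻¹ * g c * g x := by rw [h1, mul_assoc]

/-- The subsystem of `E` of maps extending over `C_S(T)`. -/
def extSys (hE : E.IsInvariantIn F) : FusionSystem T where
  Hom P := {φ | φ ∈ E.Hom P ∧ ExtC F E P (fn φ)}
  le_of_mem h := E.le_of_mem h.1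
  injective_of_mem h := E.injective_of_mem h.1
  conj_mem {P g} hP hg := ⟨E.conj_mem hP hg, fun _ => by
    refine ⟨fun x => g * x * g⁻¹, map_conjBy (sup_le (hP.trans hE.2.1.1) inf_le_left) (hE.2.1.1 hg),
      fun x hx => ?_, fun c hc => ?_⟩
    · exact (fn_apply (conjHom P g) hx).symm
    · show c⁻¹ * (g * c * g⁻¹) ∈ T
      rw [conj_centT hc hg, inv_mul_cancel]
      exact T.one_mem⟩
  comp_mem {P Q φ ψ} hφ hψ h := ⟨E.comp_mem hφ.1 hψ.1 h, fun hP => by
    obtain ⟨g, hg, hgf, hgC⟩ := hφ.2 hP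
    have hgP : Map F P g := hg.restrict le_sup_left
    have hle : im P g ≤ Q := im_le_iff.2 fun x hx => by rw [hgf x hx, fn_apply φ hx]; exact h _
    obtain ⟨g', hg', hgf', hgC'⟩ := hψ.2 (centric_mono (centric_of_sub_map hE hP hgP) hle
      (E.le_of_mem hψ.1).1)
    have hd : ∀ c ∈ centralizerIn S T, c⁻¹ * g c ∈ Q := fun c hc =>
      hle (extC_diff hE hP hg (fun _ _ => rfl) hc (hgC c hc))
    have hm : ∀ x ∈ P ⊔ centralizerIn S T, g x ∈ Q ⊔ centralizerIn S T := by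
      intro x hx
      refine (show im P g ⊔ im (centralizerIn S T) g ≤ Q ⊔ centralizerIn S T from sup_le ?_ ?_)
        (hg.im_sup_le (mem_im_of_mem hx))
      · exact hle.trans le_sup_left
      · refine im_le_iff.2 fun c hc => ?_
        rw [show g c = c * (c⁻¹ * g c) by group]
        exact Subgroup.mul_mem _ (Subgroup.mem_sup_right hc) (Subgroup.mem_sup_left (hd c hc))
    refine ⟨g' ∘ g, hg.comp hg' hm, fun x hx => ?_, fun c hc => ?_⟩
    · show g' (g x) = _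
      rw [hgf x hx, fn_apply φ hx, hgf' _ (h _), fn_apply ψ (h _), fn_apply _ hx]; rfl
    · show c⁻¹ * g' (g c) ∈ T
      rw [show g c = c * (c⁻¹ * g c) by group, hg'.map_mul (Subgroup.mem_sup_right hc)
        (Subgroup.mem_sup_left (hd c hc)), ← mul_assoc]
      exact T.mul_mem (hgC' c hc) (stronglyClosed_map hE.2.1 hg' (Subgroup.mem_sup_left (hd c hc))
        ((E.le_of_mem hψ.1).1 (hd c hc)))⟩
  inv_mem {P φ} hφ := by
    obtain ⟨ψ, hψ, hψφ⟩ := E.inv_mem hφ.1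
    refine ⟨ψ, ⟨hψ, fun hc => ?_⟩, hψφ⟩
    have hM := map_of_mem hφ.1
    have heq : im P (fn φ) = φ.range := hM.im_eq_range fun x => (fn_coe φ x).symm
    have hψM := map_of_mem hψ
    have hP : E.IsCentric P := by
      have h1 : im φ.range (fn ψ) = P := hψM.im_eq (fun y hy => by
          obtain ⟨x, rfl⟩ := hy
          rw [fn_apply ψ ⟨x, rfl⟩, hψφ x]; exact x.2)
        fun x hx => ⟨φ ⟨x, hx⟩, ⟨_, rfl⟩, by rw [fn_apply ψ ⟨_, rfl⟩]; exact hψφ ⟨x, hx⟩⟩
      exact h1 ▸ centric_of_sub_map hE hc (hψM.of_sub hE.1)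
    obtain ⟨g, hg, hgf, hgC⟩ := hφ.2 hP
    obtain ⟨k, hk, hkg, -, -⟩ := hg.exists_inv
    have hfP : φ.range = im P g := heq.symm.trans (im_congr fun x hx => (hgf x hx).symm)
    have hC : centralizerIn S T ≤ im (P ⊔ centralizerIn S T) g := by
      intro c hc
      rw [show c = g c * (c⁻¹ * g c)⁻¹ by group]
      refine Subgroup.mul_mem _ (mem_im_of_mem (Subgroup.mem_sup_right hc)) (Subgroup.inv_mem _ ?_)
      exact im_mono le_sup_left (extC_diff hE hP hg (fun _ _ => rfl) hc (hgC c hc))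
    refine ⟨k, hk.restrict (sup_le (hfP.le.trans (im_mono le_sup_left)) hC), fun y hy => ?_,
      fun c hc => ?_⟩
    · obtain ⟨x, rfl⟩ := hy
      rw [fn_apply ψ ⟨x, rfl⟩, hψφ x, show φ x = fn φ x from (fn_coe φ x).symm, ← hgf x x.2]
      exact hkg x (Subgroup.mem_sup_left x.2)
    · obtain ⟨x, hx, hxe⟩ := (hg.restrict le_sup_left).mem_im.1
        (extC_diff hE hP hg (fun _ _ => rfl) hc (hgC c hc))
      have hcx : g (c * x⁻¹) = c := by
        rw [hg.map_mul (Subgroup.mem_sup_right hc) (Subgroup.mem_sup_left (P.inv_mem hx)),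
          hg.map_inv (Subgroup.mem_sup_left hx), hxe, mul_inv_rev, inv_inv, mul_inv_cancel_left]
      have hk' : k c = c * x⁻¹ := by
        conv_lhs => rw [← hcx]
        exact hkg _ (Subgroup.mul_mem _ (Subgroup.mem_sup_right hc) (Subgroup.mem_sup_left (P.inv_mem hx)))
      rw [hk', inv_mul_cancel_left]
      exact T.inv_mem (hP.1 hx)

omit [Fact p.Prime] in
theorem map_extSys {hE : E.IsInvariantIn F} :
    Map (extSys hE) P f ↔ Map E P f ∧ ExtC F E P f := by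
  constructor
  · rintro ⟨φ, hφ, h⟩
    refine ⟨⟨φ, hφ.1, h⟩, fun hc => ?_⟩
    obtain ⟨g, hg, hgf, hgC⟩ := hφ.2 hc
    exact ⟨g, hg, fun x hx => by rw [hgf x hx, fn_apply φ hx]; exact h ⟨x, hx⟩, hgC⟩
  · rintro ⟨⟨φ, hφ, h⟩, hext⟩
    refine ⟨φ, ⟨hφ, fun hc => ?_⟩, h⟩
    obtain ⟨g, hg, hgf, hgC⟩ := hext hc
    exact ⟨g, hg, fun x hx => by rw [hgf x hx, fn_apply φ hx]; exact (h ⟨x, hx⟩).symm, hgC⟩

/-- The generators extend. -/
theorem pResAut_le_extSys (hS : IsPGroup p S) (hE : E.IsWeaklyNormalIn F p) (hP : E.IsCentric P) :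
    pResAut p (E.autGroup P) ≤ (extSys hE.2.2).autGroup P := by
  obtain ⟨hEs, hF, hEi⟩ := id hE
  have hT := hEi.2.1
  haveI := finite_of_le hT.1
  refine pResAut_induction fun a ha hk => mem_autGroup_of_map (map_extSys.2
    ⟨map_of_mem_autGroup hP.1 ha, fun _ => ?_⟩)
  obtain ⟨Q, hPQ, hQn⟩ := exists_fullyNormalized (F := F) (hP.1.trans hT.1)
  obtain ⟨u, hu, hum, hi⟩ := exists_map_normalizer_fn hS hF hQn hPQ
  have hPN : P ≤ normalizerIn S P := le_normalizerIn (hP.1.trans hT.1)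
  have huP := hu.restrict hPN
  have hQT : Q ≤ T := hi ▸ im_le_iff.2 fun x hx => stronglyClosed_map hT huP hx (hP.1 hx)
  have hQc : E.IsCentric Q := hi ▸ centric_of_sub_map hEi hP huP
  obtain ⟨e, he⟩ := exists_equiv huP hi
  haveI := mulAut_finite_of_le hQn.1
  have hpa : IsPGroup p (Subgroup.zpowers (MulAut.congr e a)) := by
    obtain ⟨k, hk⟩ := hk
    exact IsPGroup.of_card (n := k) (by
      rw [Nat.card_zpowers]
      exact (orderOf_injective (MulAut.congr e).toMonoidHom (MulAut.congr e).injective a).trans hk)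
  obtain ⟨c, hc, hle⟩ := (fa_iff.1 (fc_fa_of_fn (hS.to_le hT.1) hEs
    (fn_of_sub hS hF hT hEi.1 hQT hQn)).2).2.conj_le hpa
    (Subgroup.zpowers_le.2 (congr_mem_sub hEi huP hP.1 hi he ha))
  obtain ⟨t, ht, htc⟩ := mem_autInducedBy.1 (hle (conj_mem_cj (g := c) (Subgroup.mem_zpowers _)))
  have htn := mem_normalizer_of_conj_aut htc
  have hcm := map_of_mem_autGroup hQn.1 (autGroup_sub_le hEi hQT hc)
  obtain ⟨w, hw, hwc⟩ := (receptive_iff.1 (receptive_of_fc hS hF (fc_fa_of_fn hS hF hQn).1)).2 Q _ hcm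
    (im_av c)
  set Y := Q ⊔ centralizerIn S Q with hY
  have hYN : Y ≤ Nf S Q (av c) := sup_le (le_Nf hcm) centralizerIn_le_Nf
  have hwQ : ∀ d ∈ centralizerIn S Q, w d ∈ centralizerIn S Q := by
    intro d hd
    have h1 := hw.mem_centralizer (le_Nf hcm) (centralizerIn_le_Nf hd) (mem_centralizerIn.1 hd).2
    rwa [im_congr hwc, im_av] at h1
  have hwY : im Y w = Y := by
    haveI : Finite ↥Y := finite_of_le (sup_le hQn.1 inf_le_left)
    refine Subgroup.eq_of_le_of_card_ge ?_ (hw.restrict hYN).card_im.ge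
    refine (hw.restrict hYN).im_sup_le.trans (sup_le_sup (by rw [im_congr hwc, im_av]) ?_)
    exact im_le_iff.2 hwQ
  obtain ⟨k, hk', hkw, hwk, -⟩ := (hw.restrict hYN).exists_inv
  rw [hwY] at hk' hwk
  have hdq : ∀ d ∈ centralizerIn S Q, d⁻¹ * (t * d * t⁻¹) ∈ Q := by
    intro d hd
    have hdS := (mem_centralizerIn.1 hd).1
    refine hQc.2 Q (isConj_refl hQT) (mem_centralizerIn.2 ⟨?_, fun y hy => ?_⟩)
    · have h1 := stronglyClosed_map hT (map_conjBy (F := F) le_rfl (S.inv_mem hdS)) (hT.1 ht) ht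
      rw [inv_inv] at h1
      rw [show d⁻¹ * (t * d * t⁻¹) = (d⁻¹ * t * d) * t⁻¹ by group]
      exact T.mul_mem h1 (T.inv_mem ht)
    · have hy' : t⁻¹ * y * t ∈ Q := by
        simpa using conj_mem_of_normalizer (Subgroup.inv_mem _ htn) hy
      have h1 := (mem_centralizerIn.1 hd).2 _ hy'
      have h2 : y * (t * d * t⁻¹) = (t * d * t⁻¹) * y := by
        calc y * (t * d * t⁻¹) = t * ((t⁻¹ * y * t) * d) * t⁻¹ := by group
          _ = _ := by rw [h1]; group
      have h3 : y * d⁻¹ = d⁻¹ * y := by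
        have := (mem_centralizerIn.1 hd).2 y hy
        calc y * d⁻¹ = d⁻¹ * (d * y) * d⁻¹ := by group
          _ = _ := by rw [← this]; group
      rw [← mul_assoc, h3, mul_assoc, h2, ← mul_assoc]
  have htY : ∀ y ∈ Y, t * y * t⁻¹ ∈ Y := by
    intro y hy
    have hle' : Y ≤ Y.comap (MulAut.conj t).toMonoidHom := by
      refine sup_le (fun y hy => Subgroup.mem_sup_left (conj_mem_of_normalizer htn hy)) fun d hd => ?_
      show t * d * t⁻¹ ∈ Y
      rw [show t * d * t⁻¹ = d * (d⁻¹ * (t * d * t⁻¹)) by group]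
      exact Subgroup.mul_mem _ (Subgroup.mem_sup_right hd) (Subgroup.mem_sup_left (hdq d hd))
    exact hle' hy
  have hwm : ∀ y ∈ Y, w y ∈ Y := fun y hy => hwY.le (mem_im_of_mem hy)
  have hA : Map F Y (k ∘ (fun y => t * y * t⁻¹) ∘ w) :=
    ((hw.restrict hYN).comp (map_conjBy (sup_le hQn.1 inf_le_left) (hT.1 ht)) hwm).comp hk'
      fun y hy => htY _ (hwm y hy)
  have hAd : ∀ d ∈ centralizerIn S Q, d⁻¹ * (k ∘ (fun y => t * y * t⁻¹) ∘ w) d ∈ Q := by
    intro d hd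
    have hwd := hwQ d hd
    show d⁻¹ * k (t * w d * t⁻¹) ∈ Q
    have hq := hdq _ hwd
    rw [show t * w d * t⁻¹ = w d * ((w d)⁻¹ * (t * w d * t⁻¹)) by group,
      hk'.map_mul (Subgroup.mem_sup_right hwd) (Subgroup.mem_sup_left hq),
      hkw d (Subgroup.mem_sup_right hd), inv_mul_cancel_left]
    obtain ⟨x, hx, hxe⟩ := ((hw.restrict hYN).restrict le_sup_left).mem_im.1
      ((show im Q w = Q by rw [im_congr hwc, im_av]).ge hq)
    rw [← hxe, hkw x (Subgroup.mem_sup_left hx)]; exact hx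
  obtain ⟨l, hl, hlu, -, -⟩ := hu.exists_inv
  have hPC : P ⊔ centralizerIn S T ≤ normalizerIn S P :=
    sup_le hPN ((centT_le_centralizerIn hP.1).trans centralizerIn_le_normalizerIn)
  have hucQ : ∀ d ∈ centralizerIn S T, u d ∈ centralizerIn S Q := by
    intro d hd
    have h1 := hu.mem_centralizer hPN (hPC (Subgroup.mem_sup_right hd))
      (mem_centralizerIn.1 (centT_le_centralizerIn hP.1 hd)).2
    rwa [hi] at h1
  have huY : ∀ x ∈ P ⊔ centralizerIn S T, u x ∈ Y := by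
    intro x hx
    refine (show im P u ⊔ im (centralizerIn S T) u ≤ Y from sup_le ?_ ?_)
      ((hu.restrict hPC).im_sup_le (mem_im_of_mem hx))
    · exact hi.le.trans le_sup_left
    · exact im_le_iff.2 fun d hd => Subgroup.mem_sup_right (hucQ d hd)
  set A := k ∘ (fun y => t * y * t⁻¹) ∘ w with hAdef
  have hAP : ∀ x ∈ P, A (u x) = u (av a x) := by
    intro x hx
    have hux : u x ∈ Q := hi.le (mem_im_of_mem hx)
    show k (t * w (u x) * t⁻¹) = _
    rw [hwc _ hux, ← htc _ (av_mem c hux), av_mul _ _ (av_mem c hux), av_inv_av c hux,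
      av_mul _ _ hux, av_congr_apply he a hx]
    have hua : u (av a x) ∈ Q := hi.le (mem_im_of_mem (av_mem a hx))
    rw [← hwc _ hua, hkw _ (Subgroup.mem_sup_left hua)]
  have hAu : ∀ x ∈ P ⊔ centralizerIn S T, A (u x) ∈ im (normalizerIn S P) u := by
    intro x hx
    refine (show im P (A ∘ u) ⊔ im (centralizerIn S T) (A ∘ u) ≤ im (normalizerIn S P) u from
      sup_le ?_ ?_) (((hu.restrict hPC).comp hA huY).im_sup_le (mem_im_of_mem hx))
    · refine im_le_iff.2 fun y hy => ?_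
      show A (u y) ∈ _
      rw [hAP y hy]
      exact mem_im_of_mem (hPN (av_mem a hy))
    · refine im_le_iff.2 fun d hd => ?_
      show A (u d) ∈ _
      rw [show A (u d) = u d * ((u d)⁻¹ * A (u d)) by group]
      exact Subgroup.mul_mem _ (mem_im_of_mem (hPC (Subgroup.mem_sup_right hd)))
        (im_mono hPN (hi.ge (hAd _ (hucQ d hd))))
  refine ⟨l ∘ A ∘ u, ((hu.restrict hPC).comp hA huY).comp hl hAu, fun x hx => ?_, fun d hd => ?_⟩
  · show l (A (u x)) = _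
    rw [hAP x hx, hlu _ (hPN (av_mem a hx))]
  · show d⁻¹ * l (A (u d)) ∈ T
    obtain ⟨x, hx, hxe⟩ := huP.mem_im.1 (hi.ge (hAd _ (hucQ d hd)))
    have hdN := hPC (Subgroup.mem_sup_right hd)
    rw [show A (u d) = u d * ((u d)⁻¹ * A (u d)) by group, hAdef, ← hxe, ← hu.map_mul hdN (hPN hx),
      hlu _ (Subgroup.mul_mem _ hdN (hPN hx)), inv_mul_cancel_left]
    exact hP.1 hx

/-- Climbing from a centric subgroup to `T`. -/
theorem exists_climb (hS : IsPGroup p S) (hE : E.IsWeaklyNormalIn F p) {α : MulAut T}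
    {β : MulAut ↥(T ⊔ centralizerIn S T)} (hβ : β ∈ F.autGroup (T ⊔ centralizerIn S T))
    (hβα : ∀ x ∈ T, av β x = av α x) (hn : ¬ p ∣ orderOf β) (hR : E.IsCentric R)
    (hκ : ∃ κ, Map F (R ⊔ centralizerIn S T) κ ∧ (∀ x ∈ R, κ x = x) ∧
      ∀ c ∈ centralizerIn S T, (av β⁻¹ c)⁻¹ * κ c ∈ R) :
    ∃ κ, Map F (T ⊔ centralizerIn S T) κ ∧ (∀ x ∈ T, κ x = x) ∧
      ∀ c ∈ centralizerIn S T, (av β⁻¹ c)⁻¹ * κ c ∈ T := by
  obtain ⟨hEs, hF, hEi⟩ := id hE
  have hT := hEi.2.1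
  haveI := finite_of_le hT.1
  have hYS : T ⊔ (centralizerIn S T) ≤ S := sup_le hT.1 inf_le_left
  haveI := mulAut_finite_of_le hYS
  have hβm := map_of_mem_autGroup hYS hβ
  have hβC : ∀ c ∈ (centralizerIn S T), av β c ∈ (centralizerIn S T) := by
    intro c hc
    refine mem_centralizerIn.2 ⟨hβm.mem (Subgroup.mem_sup_right hc), fun y hy => ?_⟩
    have hy' : av α⁻¹ y ∈ T := av_mem _ hy
    have h1 : y = av β (av α⁻¹ y) := by rw [hβα _ hy', av_av_inv α hy]
    rw [h1, ← hβm.map_mul (Subgroup.mem_sup_left hy') (Subgroup.mem_sup_right hc),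
      comm_of_centT hc hy', hβm.map_mul (Subgroup.mem_sup_right hc) (Subgroup.mem_sup_left hy')]
  have hβiC : ∀ c ∈ (centralizerIn S T), av β⁻¹ c ∈ (centralizerIn S T) := by
    intro c hc
    haveI : Finite ↥(centralizerIn S T) := finite_centralizerIn
    obtain ⟨d, hd, hdc⟩ := (hβm.restrict le_sup_right).surj_of_card_le inf_le_left hβC le_rfl c hc
    rw [← hdc, av_inv_av β (Subgroup.mem_sup_right hd)]; exact hd
  suffices ∀ n, ∀ R : Subgroup Ω, Nat.card T - Nat.card R = n → E.IsCentric R →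
      (∃ κ, Map F (R ⊔ (centralizerIn S T)) κ ∧ (∀ x ∈ R, κ x = x) ∧ ∀ c ∈ (centralizerIn S T), (av β⁻¹ c)⁻¹ * κ c ∈ R) →
      ∃ κ, Map F (T ⊔ (centralizerIn S T)) κ ∧ (∀ x ∈ T, κ x = x) ∧ ∀ c ∈ (centralizerIn S T), (av β⁻¹ c)⁻¹ * κ c ∈ T from
    this _ R rfl hR hκ
  intro n
  induction n using Nat.strong_induction_on with
  | _ n ih =>
  intro R hcard hR hκ
  rcases eq_or_lt_of_le hR.1 with rfl | hlt
  · exact hκ
  obtain ⟨κ, hκm, hκR, hκC⟩ := hκ
  have hRS : R ⊔ (centralizerIn S T) ≤ S := sup_le (hR.1.trans hT.1) inf_le_left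
  have hκi : im (R ⊔ (centralizerIn S T)) κ = R ⊔ (centralizerIn S T) := by
    haveI : Finite ↥(R ⊔ (centralizerIn S T)) := finite_of_le hRS
    refine Subgroup.eq_of_le_of_card_ge (hκm.im_sup_le.trans ?_) hκm.card_im.ge
    refine sup_le (im_le_iff.2 fun x hx => ?_) (im_le_iff.2 fun c hc => ?_)
    · rw [hκR x hx]; exact Subgroup.mem_sup_left hx
    · rw [show κ c = av β⁻¹ c * ((av β⁻¹ c)⁻¹ * κ c) by group]
      exact Subgroup.mul_mem _ (Subgroup.mem_sup_right (hβiC c hc)) (Subgroup.mem_sup_left (hκC c hc))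
  set R' := normalizerIn T R with hR'
  have hRR' : R < R' := lt_normalizerIn (hS.to_le hT.1) hlt
  have hR'T : R' ≤ T := inf_le_left
  have hCN : R ⊔ (centralizerIn S T) ≤ normalizerIn S R := sup_le (le_normalizerIn (hR.1.trans hT.1))
    ((centT_le_centralizerIn hR.1).trans centralizerIn_le_normalizerIn)
  have hWn : R' ≤ normalizerIn S (R ⊔ (centralizerIn S T)) := fun r hr =>
    ⟨hT.1 hr.1, mem_normalizer_of_conj_mem hRS fun y hy => by
      have hle : R ⊔ (centralizerIn S T) ≤ (R ⊔ (centralizerIn S T)).comap (MulAut.conj r).toMonoidHom := by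
        refine sup_le (fun y hy => Subgroup.mem_sup_left (conj_mem_of_normalizer hr.2 hy)) fun c hc => ?_
        show r * c * r⁻¹ ∈ R ⊔ (centralizerIn S T)
        rw [conj_centT hc hr.1]; exact Subgroup.mem_sup_right hc
      exact hle hy⟩
  have hWX : R' ≤ normalizerIn S R := inf_le_inf_right _ hT.1
  haveI := finite_of_le hRS
  obtain ⟨q, hq, hW⟩ := exists_push (n := 0) hS (fun U hU _ => hF U hU) hRS Nat.card_pos
    (le_sup_left : R ≤ R ⊔ (centralizerIn S T))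
  obtain ⟨v, hv, hvX, hvR⟩ := exists_extend_norm hS hW hq rfl le_sup_left rfl hCN
  set R₂ := im (R ⊔ (centralizerIn S T)) q
  set X₂ := im R q
  set M := normalizerIn S R ⊓ Subgroup.normalizer ((R ⊔ (centralizerIn S T) : Subgroup Ω) : Set Ω)
  have hRCM : R ⊔ (centralizerIn S T) ≤ M := le_inf hCN Subgroup.le_normalizer
  have hR'M : R' ≤ M := fun r hr => ⟨hWX hr, (hWn hr).2⟩
  have hZM : R' ⊔ (centralizerIn S T) ≤ M := sup_le hR'M (le_sup_right.trans hRCM)
  have hκmem : ∀ x ∈ R ⊔ (centralizerIn S T), κ x ∈ R ⊔ (centralizerIn S T) := fun x hx => hκi.le (mem_im_of_mem hx)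
  have hvκ : Map F (R ⊔ (centralizerIn S T)) (v ∘ κ) := hκm.comp (hv.restrict hRCM) hκmem
  have hvκi : im (R ⊔ (centralizerIn S T)) (v ∘ κ) = R₂ := by rw [hκm.im_comp, hκi, hvR]
  have hvκX : im R (v ∘ κ) = X₂ := by
    rw [← hvX]; exact im_congr fun x hx => congrArg v (hκR x hx)
  have hX₂c : E.IsCentric X₂ := hvX ▸ centric_of_sub_map hEi hR (hv.restrict (le_sup_left.trans hRCM))
  haveI := mulAut_finite_of_le hW.2.1.1
  set B := stab F R₂ X₂ X₂
  let M0 : Subgroup ↥B :=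
    { carrier := {b | ∀ y ∈ R₂, y⁻¹ * av (b : MulAut R₂) y ∈ X₂}
      one_mem' := fun y hy => by
        show y⁻¹ * av (1 : MulAut R₂) y ∈ X₂
        rw [av_one hy, inv_mul_cancel]; exact X₂.one_mem
      mul_mem' := by
        intro a b ha hb y hy
        show y⁻¹ * av ((a : MulAut R₂) * (b : MulAut R₂)) y ∈ X₂
        rw [av_mul _ _ hy, show y⁻¹ * av (a : MulAut R₂) (av (b : MulAut R₂) y) =
          (y⁻¹ * av (b : MulAut R₂) y) * ((av (b : MulAut R₂) y)⁻¹ * av (a : MulAut R₂) (av (b : MulAut R₂) y)) by group]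
        exact X₂.mul_mem (hb y hy) (ha _ (av_mem _ hy))
      inv_mem' := by
        intro a ha y hy
        show y⁻¹ * av (a : MulAut R₂)⁻¹ y ∈ X₂
        have := X₂.inv_mem (ha _ (av_mem (a : MulAut R₂)⁻¹ hy))
        rwa [av_av_inv _ hy, mul_inv_rev, inv_inv] at this }
  have hM0n : M0.Normal := by
    refine ⟨fun b hb a y hy => ?_⟩
    show y⁻¹ * av ((a : MulAut R₂) * (b : MulAut R₂) * (a : MulAut R₂)⁻¹) y ∈ X₂
    have hy' := av_mem (a : MulAut R₂)⁻¹ hy
    have hb' := hb _ hy'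
    rw [av_mul _ _ hy, av_mul _ _ hy']
    have h1 := (a.2.2 _ (hW.1 hb')).1.2 hb'
    rwa [(map_of_mem_autGroup hW.2.1.1 a.2.1).map_mul (R₂.inv_mem hy') (av_mem _ hy'),
      (map_of_mem_autGroup hW.2.1.1 a.2.1).map_inv hy', av_av_inv _ hy] at h1
  set L := (autInducedBy S X₂).comap (resX hW.1) ⊓ M0
  set U := (autInducedBy S R₂ ⊓ B).subgroupOf B ⊓ M0
  have hUL : U ≤ L := by
    rintro b ⟨hb, hb0⟩
    obtain ⟨s, hs, hsb⟩ := mem_autInducedBy.1 hb.1
    exact ⟨mem_autInducedBy.2 ⟨s, hs, fun x hx => by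
      rw [resX_apply hW.1 b hx]; exact hsb x (hW.1 hx)⟩, hb0⟩
  have hUsyl : SylIn p U L :=
    ((sylIn_stab hW).inf_normal le_top (Subgroup.normalizer_eq_top M0).ge).mono hUL inf_le_right
  have hfc : ∀ x ∈ R ⊔ (centralizerIn S T), ∀ r ∈ R', x⁻¹ * (r * x * r⁻¹) ∈ R := by
    intro x hx r hr
    have hle : R ⊔ (centralizerIn S T) ≤ Subgroup.normalizer (R : Set Ω) := fun y hy => (hCN hy).2
    rw [sup_comm] at hx
    have hx' : x ∈ (((centralizerIn S T) ⊔ R : Subgroup Ω) : Set Ω) := hx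
    rw [Subgroup.coe_mul_of_left_le_normalizer_right (centralizerIn S T) R (le_sup_right.trans hle)] at hx'
    obtain ⟨c, hc, y, hy, rfl⟩ := hx'
    rw [show (c * y)⁻¹ * (r * (c * y) * r⁻¹) = y⁻¹ * c⁻¹ * (r * c * r⁻¹) * (r * y * r⁻¹) by group,
      conj_centT hc hr.1, inv_mul_cancel_right]
    exact R.mul_mem (R.inv_mem hy) (conj_mem_of_normalizer hr.2 hy)
  obtain ⟨ψ, hψ, hψX, γ, hγ, hψγ⟩ := exists_extend_fix_mem hS hW (W := R') hvκ hvκi le_sup_left hvκX
    hWn hWX hUsyl (fun t ht => ht.1.1)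
    ((isPGroup_autS hS).to_le ((Subgroup.map_mono inf_le_left).trans (Subgroup.map_comap_le _ _))) (by
      intro w hw b hb
      refine ⟨mem_autInducedBy.2 ⟨v w, hv.mem (hR'M hw), fun y hy => ?_⟩, fun y hy => ?_⟩
      · obtain ⟨x, hx, rfl⟩ := (hvκ.restrict le_sup_left).mem_im.1 (hvκX.ge hy)
        rw [resX_apply hW.1 b hy, hb x (Subgroup.mem_sup_left hx)]
        show v (κ (w * x * w⁻¹)) = v w * v (κ x) * (v w)⁻¹
        rw [hκR x hx, hκR _ (conj_mem_of_normalizer hw.2 hx),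
          hv.map_conj (hR'M hw) (hRCM (Subgroup.mem_sup_left hx))]
      · obtain ⟨x, hx, rfl⟩ := hvκ.mem_im.1 (hvκi.ge hy)
        have hwx : w * x * w⁻¹ ∈ R ⊔ (centralizerIn S T) := conj_mem_of_normalizer (hWn hw).2 hx
        have hd := hfc x hx w hw
        rw [hb x hx]
        have h1 : (v ∘ κ) (x⁻¹ * (w * x * w⁻¹)) ∈ X₂ := hvκX ▸ mem_im_of_mem hd
        rwa [hvκ.map_mul ((R ⊔ (centralizerIn S T)).inv_mem hx) hwx, hvκ.map_inv hx] at h1)
  -- pull back along `v`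
  set Z := R' ⊔ (centralizerIn S T) with hZ
  have hψZ : Map F Z ψ := hψ.restrict (sup_le le_sup_right (le_sup_right.trans le_sup_left))
  obtain ⟨K, hK, hKv, -, -⟩ := (hv.restrict hZM).exists_inv
  have hRZ : R ⊔ (centralizerIn S T) ≤ Z := sup_le_sup hRR'.le le_rfl
  have hu : ∀ r ∈ R', (v r)⁻¹ * ψ r ∈ X₂ := by
    intro r hr
    refine hX₂c.2 X₂ (isConj_refl hX₂c.1) (mem_centralizerIn.2 ⟨T.mul_mem (T.inv_mem
      (stronglyClosed_map hT hv (hR'M hr) hr.1)) (stronglyClosed_map hT hψ (Subgroup.mem_sup_right hr) hr.1),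
      fun y hy => ?_⟩)
    obtain ⟨x, hx, rfl⟩ := (hv.restrict (le_sup_left.trans hRCM)).mem_im.1 (hvX.ge hy)
    have hxx : ∀ z ∈ R, ψ z = v z := fun z hz => by
      rw [hψX z hz]; exact congrArg v (hκR z hz)
    have hc' : r * x * r⁻¹ ∈ R := conj_mem_of_normalizer hr.2 hx
    have hxW : x ∈ (R ⊔ (centralizerIn S T)) ⊔ R' := Subgroup.mem_sup_left (Subgroup.mem_sup_left hx)
    have h1 := hxx _ hc'
    rw [hψ.map_conj (Subgroup.mem_sup_right hr) hxW, hv.map_conj (hR'M hr)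
      (hRCM (Subgroup.mem_sup_left hx)), hxx x hx] at h1
    calc v x * ((v r)⁻¹ * ψ r) = (v r)⁻¹ * (v r * v x * (v r)⁻¹) * ψ r := by group
      _ = (v r)⁻¹ * (ψ r * v x * (ψ r)⁻¹) * ψ r := by rw [h1]
      _ = _ := by group
  have hXv : X₂ = im R v := hvX.symm
  have hr' : ∀ r ∈ R', ∃ x ∈ R, ψ r = v (r * x) := by
    intro r hr
    obtain ⟨x, hx, hxe⟩ := (hv.restrict (le_sup_left.trans hRCM)).mem_im.1 (hXv ▸ hu r hr)
    exact ⟨x, hx, by rw [hv.map_mul (hR'M hr) (hRCM (Subgroup.mem_sup_left hx)), hxe, mul_inv_cancel_left]⟩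
  have hc' : ∀ c ∈ (centralizerIn S T), ∃ x ∈ R, ψ c = v (κ c * x) := by
    intro c hc
    have hcR : c ∈ R ⊔ (centralizerIn S T) := Subgroup.mem_sup_right hc
    have hy : v (κ c) ∈ R₂ := hvR ▸ mem_im_of_mem (hκmem c hcR)
    have h1 := hγ.2 _ hy
    obtain ⟨x, hx, hxe⟩ := (hv.restrict (le_sup_left.trans hRCM)).mem_im.1 (hXv ▸ h1)
    refine ⟨x, hx, ?_⟩
    rw [hψγ c hcR, hv.map_mul (hRCM (hκmem c hcR)) (hRCM (Subgroup.mem_sup_left hx)), hxe,
      mul_inv_cancel_left]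
    rfl
  have hψim : ∀ z ∈ Z, ψ z ∈ im Z v := by
    intro z hz
    refine (show im R' ψ ⊔ im (centralizerIn S T) ψ ≤ im Z v from sup_le ?_ ?_)
      (hψZ.im_sup_le (mem_im_of_mem hz))
    · refine im_le_iff.2 fun r hr => ?_
      obtain ⟨x, hx, he⟩ := hr' r hr
      rw [he]
      exact mem_im_of_mem (Z.mul_mem (Subgroup.mem_sup_left hr) (Subgroup.mem_sup_left (hRR'.le hx)))
    · refine im_le_iff.2 fun c hc => ?_
      obtain ⟨x, hx, he⟩ := hc' c hc
      rw [he]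
      exact mem_im_of_mem (Z.mul_mem (hRZ (hκmem c (Subgroup.mem_sup_right hc)))
        (Subgroup.mem_sup_left (hRR'.le hx)))
  have hm₁ : Map F Z (K ∘ ψ) := hψZ.comp hK hψim
  have h₁r : ∀ r ∈ R', ∃ x ∈ R, (K ∘ ψ) r = r * x := fun r hr => by
    obtain ⟨x, hx, he⟩ := hr' r hr
    refine ⟨x, hx, ?_⟩
    show K (ψ r) = _
    rw [he]
    exact hKv _ (Z.mul_mem (Subgroup.mem_sup_left hr) (Subgroup.mem_sup_left (hRR'.le hx)))
  have h₁R : ∀ x ∈ R, (K ∘ ψ) x = x := fun x hx => by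
    show K (ψ x) = x
    rw [hψX x hx]
    show K (v (κ x)) = x
    rw [hκR x hx]; exact hKv x (Subgroup.mem_sup_left (hRR'.le hx))
  have h₁C : ∀ c ∈ (centralizerIn S T), (av β⁻¹ c)⁻¹ * (K ∘ ψ) c ∈ R := fun c hc => by
    obtain ⟨x, hx, he⟩ := hc' c hc
    show _ * K (ψ c) ∈ R
    rw [he, hKv _ (Z.mul_mem (hRZ (hκmem c (Subgroup.mem_sup_right hc)))
      (Subgroup.mem_sup_left (hRR'.le hx))), ← mul_assoc]
    exact R.mul_mem (hκC c hc) hx
  have hZS : Z ≤ S := sup_le (hR'T.trans hT.1) inf_le_left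
  haveI : Finite ↥Z := finite_of_le hZS
  haveI := mulAut_finite_of_le hZS
  have h₁i : im Z (K ∘ ψ) = Z := by
    refine Subgroup.eq_of_le_of_card_ge (hm₁.im_sup_le.trans (sup_le ?_ ?_)) hm₁.card_im.ge
    · refine im_le_iff.2 fun r hr => ?_
      obtain ⟨x, hx, he⟩ := h₁r r hr
      rw [he]; exact Z.mul_mem (Subgroup.mem_sup_left hr) (Subgroup.mem_sup_left (hRR'.le hx))
    · refine im_le_iff.2 fun c hc => ?_
      rw [show (K ∘ ψ) c = av β⁻¹ c * ((av β⁻¹ c)⁻¹ * (K ∘ ψ) c) by group]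
      exact Z.mul_mem (Subgroup.mem_sup_right (hβiC c hc)) (Subgroup.mem_sup_left (hRR'.le (h₁C c hc)))
  obtain ⟨A, hA, hAe⟩ := exists_aut hm₁ h₁i
  have hm₁R : Map F R' (K ∘ ψ) := hm₁.restrict le_sup_left
  haveI : Finite ↥R' := finite_of_le (hR'T.trans hT.1)
  obtain ⟨δ, -, hδe⟩ := exists_aut hm₁R (Subgroup.eq_of_le_of_card_ge (im_le_iff.2 fun r hr => by
    obtain ⟨x, hx, he⟩ := h₁r r hr
    rw [he]; exact R'.mul_mem hr (hRR'.le hx)) hm₁R.card_im.ge)
  obtain ⟨j, hj⟩ := exists_pow_eq_one_of_stabilizes ((hS.to_le hT.1).to_le hR'T) (α := δ)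
    (fun i => if i = 0 then ⊥ else if i = 1 then R else R') 2 rfl (by simp)
    (monotone_nat_of_le_succ fun i => by rcases i with _ | _ | i <;> simp [hRR'.le])
    (fun i hi x hx hxC => by
      rcases i with _ | _ | i
      · simp only [zero_add, one_ne_zero, if_false, if_true] at hxC ⊢
        rw [Subgroup.mem_bot, hδe x hx, h₁R x hxC, inv_mul_cancel]
      · obtain ⟨y, hy, he⟩ := h₁r x hx
        have he' : K (ψ x) = x * y := he
        simpa [hδe x hx, he'] using hy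
      · omega)
  have hAδ : ∀ r ∈ R', av A r = av δ r := fun r hr =>
    (hAe r (Subgroup.mem_sup_left hr)).trans (hδe r hr).symm
  have hAC : ∀ N : ℕ, ∀ c ∈ (centralizerIn S T), (av (β⁻¹ ^ N) c)⁻¹ * av (A ^ N) c ∈ R' ∧ av (β⁻¹ ^ N) c ∈ (centralizerIn S T) := by
    intro N
    induction N with
    | zero =>
      intro c hc
      rw [pow_zero, pow_zero, av_one (Subgroup.mem_sup_right hc), av_one (Subgroup.mem_sup_right hc),
        inv_mul_cancel]
      exact ⟨R'.one_mem, hc⟩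
    | succ N ihN =>
      intro c hc
      obtain ⟨h1, h2⟩ := ihN c hc
      have hcY : c ∈ T ⊔ (centralizerIn S T) := Subgroup.mem_sup_right hc
      have hcZ : c ∈ Z := Subgroup.mem_sup_right hc
      rw [pow_succ' β⁻¹ N, pow_succ' A N, av_mul _ _ hcY, av_mul _ _ hcZ]
      refine ⟨?_, hβiC _ h2⟩
      set d := av (β⁻¹ ^ N) c
      set r := d⁻¹ * av (A ^ N) c
      rw [show av (A ^ N) c = d * r from (mul_inv_cancel_left _ _).symm,
        (map_of_mem_autGroup hZS hA).map_mul (Subgroup.mem_sup_right h2) (Subgroup.mem_sup_left h1),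
        ← mul_assoc, hAe d (Subgroup.mem_sup_right h2)]
      refine R'.mul_mem (hRR'.le (h₁C d h2)) ?_
      rw [hAδ r h1]; exact av_mem δ h1
  obtain ⟨i, hi⟩ := exists_pow_eq_self_of_coprime (x := β⁻¹) (n := p ^ j) (by
    rw [orderOf_inv]
    exact ((Fact.out : p.Prime).coprime_iff_not_dvd.2 hn).pow_left j)
  rw [← pow_mul] at hi
  refine ih _ (by
    have h1 := card_lt_of_lt hRR' (hR'T.trans hT.1)
    have h2 := Subgroup.card_le_of_le hR'T
    omega) R' rfl (centric_mono hR hRR'.le hR'T)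
    ⟨av (A ^ (p ^ j * i)), map_of_mem_autGroup hZS (Subgroup.pow_mem _ hA _), fun r hr => ?_,
      fun c hc => ?_⟩
  · rw [av_pow le_sup_left hAδ _ r hr, pow_mul, hj, one_pow, av_one hr]
  · have := (hAC (p ^ j * i) c hc).1
    rwa [hi] at this

/-- The group of automorphisms of `T` extending suitably over `C_S(T)`. -/
def extAut (F : FusionSystem S) (T : Subgroup Ω) (hT : T ≤ S) : Subgroup (MulAut T) where
  carrier := {α | ∃ β ∈ F.autGroup (T ⊔ centralizerIn S T), (∀ x ∈ T, av β x = av α x) ∧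
    ∀ c ∈ centralizerIn S T, c⁻¹ * av β c ∈ T}
  one_mem' := ⟨1, Subgroup.one_mem _, fun x hx => by rw [av_one hx, av_one (Subgroup.mem_sup_left hx)],
    fun c hc => by rw [av_one (Subgroup.mem_sup_right hc), inv_mul_cancel]; exact T.one_mem⟩
  mul_mem' := by
    rintro a b ⟨α, hα, hαa, hαC⟩ ⟨β, hβ, hβb, hβC⟩
    refine ⟨α * β, Subgroup.mul_mem _ hα hβ, fun x hx => ?_, fun c hc => ?_⟩
    · rw [av_mul _ _ (Subgroup.mem_sup_left hx), hβb x hx, hαa _ (av_mem b hx), av_mul _ _ hx]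
    · have hm := map_of_mem_autGroup (sup_le hT inf_le_left : T ⊔ centralizerIn S T ≤ S) hα
      rw [av_mul _ _ (Subgroup.mem_sup_right hc), show av β c = c * (c⁻¹ * av β c) by group]
      erw [hm.map_mul (Subgroup.mem_sup_right hc : c ∈ T ⊔ centralizerIn S T)
          (Subgroup.mem_sup_left (hβC c hc))]
      rw [← mul_assoc, hαa _ (hβC c hc)]
      exact T.mul_mem (hαC c hc) (av_mem a (hβC c hc))
  inv_mem' := by
    rintro a ⟨α, hα, hαa, hαC⟩
    refine ⟨α⁻¹, Subgroup.inv_mem _ hα, fun x hx => ?_, fun c hc => ?_⟩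
    · conv_lhs => rw [← av_av_inv a hx, ← hαa _ (av_mem a⁻¹ hx)]
      exact av_inv_av α (Subgroup.mem_sup_left (av_mem a⁻¹ hx))
    · have hcY : c ∈ T ⊔ centralizerIn S T := Subgroup.mem_sup_right hc
      have ht := hαC c hc
      have hm := map_of_mem_autGroup (sup_le hT inf_le_left : T ⊔ centralizerIn S T ≤ S)
        (Subgroup.inv_mem _ hα)
      have h1 : av α⁻¹ (c * (c⁻¹ * av α c)) = c := by rw [mul_inv_cancel_left, av_inv_av α hcY]
      erw [hm.map_mul hcY (Subgroup.mem_sup_left ht)] at h1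
      rw [eq_mul_inv_of_mul_eq h1, inv_mul_cancel_left]
      refine T.inv_mem ?_
      have h2 : ∀ x ∈ T, av α⁻¹ x ∈ T := fun x hx => by
        conv => arg 2; rw [← av_av_inv a hx, ← hαa _ (av_mem a⁻¹ hx)]
        rw [av_inv_av α (Subgroup.mem_sup_left (av_mem a⁻¹ hx))]
        exact av_mem a⁻¹ hx
      exact h2 _ ht

theorem autInducedBy_le_extAut (hT : T ≤ S) : autInducedBy T T ≤ extAut F T hT := by
  intro α hα
  obtain ⟨t, ht, htα⟩ := mem_autInducedBy.1 hα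
  have hn : t ∈ Subgroup.normalizer ((T ⊔ centralizerIn S T : Subgroup Ω) : Set Ω) :=
    Subgroup.le_normalizer (Subgroup.mem_sup_left ht)
  obtain ⟨β, hβ, hβS⟩ := exists_aut_conj hn
  refine ⟨β, autInducedBy_le_autGroup (sup_le hT inf_le_left) (hβS S (hT ht)),
    fun x hx => (hβ x (Subgroup.mem_sup_left hx)).trans (htα x hx).symm, fun c hc => ?_⟩
  rw [hβ c (Subgroup.mem_sup_right hc), conj_centT hc ht, inv_mul_cancel]
  exact T.one_mem

omit [Finite S] in
theorem exists_exp_split {G : Type*} [Group G] [Finite G] (g : G) :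
    ∃ e : ℕ, ¬ p ∣ orderOf (g ^ e) ∧ (∃ k : ℕ, orderOf (g ^ e * g⁻¹) = p ^ k) ∧
      ∀ h : G, (∃ n : ℕ, ¬ p ∣ n ∧ h ^ n = 1 ∧ n ∣ orderOf g) → h ^ e = h := by
  obtain ⟨k, m, hm, h⟩ := Nat.exists_eq_pow_mul_and_not_dvd (orderOf_pos g).ne' p (Fact.out : p.Prime).ne_one
  have hc : Nat.Coprime (p ^ k) m := ((Fact.out : p.Prime).coprime_iff_not_dvd.2 hm).pow_left k
  obtain ⟨e, he1, he2⟩ := Nat.chineseRemainder hc 0 1
  have hpk : p ^ k ∣ e := (Nat.modEq_zero_iff_dvd).1 he1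
  refine ⟨e, fun hd => hm ?_, ?_, ?_⟩
  · refine hd.trans (orderOf_dvd_of_pow_eq_one ?_)
    rw [← pow_mul, ← orderOf_dvd_iff_pow_eq_one, h]
    exact Nat.mul_dvd_mul hpk dvd_rfl
  · obtain ⟨j, -, hj⟩ := (Nat.dvd_prime_pow Fact.out).1 (orderOf_dvd_of_pow_eq_one
      (show (g ^ e * g⁻¹) ^ p ^ k = 1 by
        rw [((Commute.refl g).pow_left e).inv_right.mul_pow, inv_pow, mul_inv_eq_one, ← pow_mul,
          pow_eq_pow_iff_modEq, h]
        have := Nat.ModEq.mul_left' (p ^ k) he2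
        simpa [mul_comm] using this))
    exact ⟨j, hj⟩
  · rintro x ⟨n, hn, hx, hnd⟩
    have hnm : n ∣ m := by
      refine Nat.Coprime.dvd_of_dvd_mul_left ?_ (h ▸ hnd)
      exact (((Fact.out : p.Prime).coprime_iff_not_dvd.2 hn).pow_left k).symm
    have h1 : e ≡ 1 [MOD n] := he2.of_dvd hnm
    calc x ^ e = x ^ 1 := pow_eq_pow_iff_modEq.2 (h1.of_dvd (orderOf_dvd_of_pow_eq_one hx))
      _ = x := pow_one x

/-- An automorphism of `T` which extends from a centric subgroup extends from `T`. -/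
theorem mem_extAut (hS : IsPGroup p S) (hE : E.IsWeaklyNormalIn F p) {α : MulAut T}
    (hα : α ∈ E.autGroup T) (hQ : E.IsCentric Q) (hαQ : Map (extSys hE.2.2) Q (av α)) :
    α ∈ extAut F T hE.2.2.2.1.1 := by
  obtain ⟨hEs, hF, hEi⟩ := id hE
  have hT := hEi.2.1
  haveI := finite_of_le hT.1
  have hTp := hS.to_le hT.1
  haveI := mulAut_finite_of_le (le_refl T)
  obtain ⟨e, he, ⟨k, hk⟩, -⟩ := exists_exp_split (p := p) α
  set α' := α ^ e with hα'
  have hα'E : α' ∈ E.autGroup T := Subgroup.pow_mem _ hα _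
  -- the `p`-part is inner
  have hin : α' * α⁻¹ ∈ autInducedBy T T := by
    have hmem : α' * α⁻¹ ∈ E.autGroup T := Subgroup.mul_mem _ hα'E (Subgroup.inv_mem _ hα)
    have hpa : IsPGroup p (Subgroup.zpowers (α' * α⁻¹)) :=
      IsPGroup.of_card (n := k) (by rw [Nat.card_zpowers]; exact hk)
    obtain ⟨x, hx, hle⟩ := (fa_iff.1 (fc_fa_of_fn hTp hEs fn_self).2).2.conj_le hpa
      (Subgroup.zpowers_le.2 hmem)
    obtain ⟨t, ht, htx⟩ := mem_autInducedBy.1 (hle (conj_mem_cj (g := x) (Subgroup.mem_zpowers _)))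
    refine mem_autInducedBy.2 ⟨av x⁻¹ t, av_mem _ ht, fun y hy => ?_⟩
    have hxm := map_of_mem_autGroup le_rfl (Subgroup.inv_mem _ hx)
    have h1 := htx _ (av_mem x hy)
    rw [av_mul _ _ (av_mem x hy), av_inv_av x hy, av_mul _ _ hy] at h1
    have h2 := congrArg (av x⁻¹) h1
    rwa [av_inv_av x (av_mem _ hy), hxm.map_conj ht (av_mem x hy), av_inv_av x hy] at h2
  suffices h' : α' ∈ extAut F T hT.1 by
    have := (extAut F T hT.1).mul_mem ((extAut F T hT.1).inv_mem (autInducedBy_le_extAut hT.1 hin)) h'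
    rwa [mul_inv_rev, inv_inv, inv_mul_cancel_right] at this
  have hα'Q : Map (extSys hEi) Q (av α') := by
    obtain ⟨t, ht, htα⟩ := mem_autInducedBy.1 hin
    refine (hαQ.comp (map_conjBy hαQ.im_le ht) fun x hx => mem_im_of_mem hx).congr fun x hx => ?_
    show t * av α x * t⁻¹ = _
    rw [← htα _ (av_mem α (hQ.1 hx)), av_mul _ _ (av_mem α (hQ.1 hx)), av_inv_av α (hQ.1 hx)]
  obtain ⟨g, hg, hgQ, hgC⟩ := (map_extSys.1 hα'Q).2 hQ
  have hYS : T ⊔ (centralizerIn S T) ≤ S := sup_le hT.1 inf_le_left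
  haveI := mulAut_finite_of_le hYS
  have hα'F := map_of_mem_autGroup hT.1 (autGroup_sub_le hEi le_rfl hα'E)
  have hTfn : F.IsFullyNormalized T := by
    refine ⟨hT.1, fun R hR => ?_⟩
    obtain ⟨h, hh, hi⟩ := isConj_iff.1 hR
    have hRT : R = T := Subgroup.eq_of_le_of_card_ge
      (hi ▸ im_le_iff.2 fun x hx => stronglyClosed_map hT hh hx hx) (isConj_card hR).le
    rw [hRT]
  obtain ⟨b, hb, hbα⟩ := (receptive_iff.1 (receptive_of_fc hS hF (fc_fa_of_fn hS hF hTfn).1)).2 T _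
    hα'F (im_av α')
  have hbY := hb.restrict (sup_le (le_Nf hα'F) centralizerIn_le_Nf : T ⊔ (centralizerIn S T) ≤ _)
  have hbi : im (T ⊔ (centralizerIn S T)) b = T ⊔ (centralizerIn S T) := by
    haveI : Finite ↥(T ⊔ (centralizerIn S T)) := finite_of_le hYS
    refine Subgroup.eq_of_le_of_card_ge (hbY.im_sup_le.trans (sup_le_sup
      (by rw [im_congr hbα, im_av]) (im_le_iff.2 fun c hc => ?_))) hbY.card_im.ge
    have h1 := hbY.mem_centralizer le_sup_left (Subgroup.mem_sup_right hc) (mem_centralizerIn.1 hc).2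
    rwa [im_congr hbα, im_av] at h1
  obtain ⟨β₀, hβ₀, hβ₀b⟩ := exists_aut hbY hbi
  have hβ₀α : ∀ x ∈ T, av β₀ x = av α' x := fun x hx =>
    (hβ₀b x (Subgroup.mem_sup_left hx)).trans (hbα x hx)
  obtain ⟨e', he', -, hfix⟩ := exists_exp_split (p := p) β₀
  set β := β₀ ^ e' with hβdef
  have hβ : β ∈ F.autGroup (T ⊔ (centralizerIn S T)) := Subgroup.pow_mem _ hβ₀ _
  have hβα : ∀ x ∈ T, av β x = av α' x := by
    intro x hx
    rw [hβdef, av_pow le_sup_left hβ₀α e' x hx]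
    have hd : orderOf α' ∣ orderOf β₀ := orderOf_dvd_of_pow_eq_one (aut_ext fun y hy => by
      rw [← av_pow le_sup_left hβ₀α _ y hy, pow_orderOf_eq_one, av_one hy,
        av_one (Subgroup.mem_sup_left hy)])
    obtain ⟨k', m', hm', h'⟩ := Nat.exists_eq_pow_mul_and_not_dvd (orderOf_pos β₀).ne' p
      (Fact.out : p.Prime).ne_one
    have hd' : orderOf α' ∣ m' :=
      Nat.Coprime.dvd_of_dvd_mul_left
        (((Fact.out : p.Prime).coprime_iff_not_dvd.2 he).pow_left k').symm (h' ▸ hd)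
    suffices α' ^ e' = α' by rw [this]
    have h1 : (β₀ ^ p ^ k') ^ e' = β₀ ^ p ^ k' :=
      hfix _ ⟨m', hm', by rw [← pow_mul, ← h', pow_orderOf_eq_one], h' ▸ dvd_mul_left m' _⟩
    have h2 : (α' ^ p ^ k') ^ e' = α' ^ p ^ k' := aut_ext fun y hy => by
      rw [← pow_mul, ← av_pow le_sup_left hβ₀α _ y hy, ← av_pow le_sup_left hβ₀α _ y hy, pow_mul, h1]
    obtain ⟨n, hn⟩ := exists_pow_eq_self_of_coprime (x := α') (n := p ^ k')
      (((Fact.out : p.Prime).coprime_iff_not_dvd.2 he).pow_left k')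
    calc α' ^ e' = ((α' ^ p ^ k') ^ n) ^ e' := by rw [hn]
      _ = ((α' ^ p ^ k') ^ e') ^ n := by rw [← pow_mul, ← pow_mul (α' ^ p ^ k'), mul_comm n]
      _ = α' := by rw [h2, hn]
  have hβn : ¬ p ∣ orderOf β := he'
  have hβm := map_of_mem_autGroup hYS (Subgroup.inv_mem _ hβ)
  have hgim : ∀ x ∈ Q ⊔ (centralizerIn S T), g x ∈ T ⊔ (centralizerIn S T) := by
    intro x hx
    refine (show im Q g ⊔ im (centralizerIn S T) g ≤ T ⊔ centralizerIn S T from sup_le ?_ ?_)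
      (hg.im_sup_le (mem_im_of_mem hx))
    · exact im_le_iff.2 fun y hy => Subgroup.mem_sup_left (stronglyClosed_map hT hg
        (Subgroup.mem_sup_left hy) (hQ.1 hy))
    · refine im_le_iff.2 fun c hc => ?_
      rw [show g c = c * (c⁻¹ * g c) by group]
      exact Subgroup.mul_mem _ (Subgroup.mem_sup_right hc) (Subgroup.mem_sup_left (hgC c hc))
  have hβiT : ∀ x ∈ T, av β⁻¹ x = av α'⁻¹ x := fun x hx => by
    conv_lhs => rw [← av_av_inv α' hx, ← hβα _ (av_mem _ hx)]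
    exact av_inv_av β (Subgroup.mem_sup_left (av_mem _ hx))
  obtain ⟨κ, hκ, hκT, hκC⟩ := exists_climb hS hE hβ hβα hβn hQ
    ⟨av β⁻¹ ∘ g, hg.comp hβm hgim, fun x hx => by
      show av β⁻¹ (g x) = x
      rw [hgQ x hx, hβiT _ (av_mem _ (hQ.1 hx)), av_inv_av α' (hQ.1 hx)], fun c hc => by
      show (av β⁻¹ c)⁻¹ * av β⁻¹ (g c) ∈ Q
      obtain ⟨x, hx, hxe⟩ := hα'Q.mem_im.1 (extC_diff hEi hQ hg hgQ hc (hgC c hc))
      rw [show g c = c * (c⁻¹ * g c) by group,
        hβm.map_mul (Subgroup.mem_sup_right hc) (Subgroup.mem_sup_left (hgC c hc)),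
        inv_mul_cancel_left, hβiT _ (hgC c hc), ← hxe, av_inv_av α' (hQ.1 hx)]
      exact hx⟩
  have hmm : Map F (T ⊔ (centralizerIn S T)) (av β ∘ κ) := hκ.comp (map_of_mem_autGroup hYS hβ) fun x hx => by
    refine (show im T κ ⊔ im (centralizerIn S T) κ ≤ T ⊔ centralizerIn S T from sup_le ?_ ?_)
      (hκ.im_sup_le (mem_im_of_mem hx))
    · exact im_le_iff.2 fun y hy => Subgroup.mem_sup_left (by rw [hκT y hy]; exact hy)
    · refine im_le_iff.2 fun c hc => ?_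
      rw [show κ c = av β⁻¹ c * ((av β⁻¹ c)⁻¹ * κ c) by group]
      exact Subgroup.mul_mem _ (av_mem _ (Subgroup.mem_sup_right hc)) (Subgroup.mem_sup_left (hκC c hc))
  obtain ⟨ε, hε, hεe⟩ := exists_aut hmm (by
    haveI : Finite ↥(T ⊔ (centralizerIn S T)) := finite_of_le hYS
    refine Subgroup.eq_of_le_of_card_ge (im_le_iff.2 fun x hx => ?_) hmm.card_im.ge
    show av β (κ x) ∈ T ⊔ (centralizerIn S T)
    exact av_mem β ((show im T κ ⊔ im (centralizerIn S T) κ ≤ T ⊔ centralizerIn S T from sup_le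
      (im_le_iff.2 fun y hy => Subgroup.mem_sup_left (by rw [hκT y hy]; exact hy))
      (im_le_iff.2 fun c hc => by
        rw [show κ c = av β⁻¹ c * ((av β⁻¹ c)⁻¹ * κ c) by group]
        exact Subgroup.mul_mem _ (av_mem _ (Subgroup.mem_sup_right hc))
          (Subgroup.mem_sup_left (hκC c hc)))) (hκ.im_sup_le (mem_im_of_mem hx))))
  refine ⟨ε, hε, fun x hx => ?_, fun c hc => ?_⟩
  · rw [hεe x (Subgroup.mem_sup_left hx)]
    show av β (κ x) = _
    rw [hκT x hx, hβα x hx]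
  · rw [hεe c (Subgroup.mem_sup_right hc)]
    show c⁻¹ * av β (κ c) ∈ T
    have hcY : c ∈ T ⊔ (centralizerIn S T) := Subgroup.mem_sup_right hc
    rw [show κ c = av β⁻¹ c * ((av β⁻¹ c)⁻¹ * κ c) by group,
      (map_of_mem_autGroup hYS hβ).map_mul (av_mem _ hcY) (Subgroup.mem_sup_left (hκC c hc)),
      av_av_inv β hcY, inv_mul_cancel_left, hβα _ (hκC c hc)]
    exact av_mem α' (hκC c hc)

/-- The system of maps of `E` decomposing with extendable automorphism of `T`. -/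
def extFac (hE : E.IsWeaklyNormalIn F p) : FusionSystem T :=
  haveI : Finite T := finite_of_le hE.2.2.2.1.1
  { Hom := fun P => {φ | φ ∈ E.Hom P ∧ ∃ α ∈ E.autGroup T ⊓ extAut F T hE.2.2.2.1.1,
      ∃ x, InvMap E (extSys hE.2.2) P x ∧ ∀ r ∈ P, fn φ r = av α (x r)}
    le_of_mem := fun h => E.le_of_mem h.1
    injective_of_mem := fun h => E.injective_of_mem h.1
    conj_mem := fun {P g} hP hg => ⟨E.conj_mem hP hg, 1, Subgroup.one_mem _, fun x => g * x * g⁻¹,
      invMap_conjBy hP hg, fun r hr => by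
        rw [fn_apply (conjHom P g) hr, av_one (T.mul_mem (T.mul_mem hg (hP hr)) (T.inv_mem hg))]; rfl⟩
    comp_mem := fun {P Q φ ψ} hφ hψ h => by
      refine ⟨E.comp_mem hφ.1 hψ.1 h, ?_⟩
      obtain ⟨α, hα, x, hx, hfe⟩ := hφ.2
      obtain ⟨β, hβ, y, hy, hge⟩ := hψ.2
      have hmem : ∀ r ∈ P, x r ∈ im Q (av α⁻¹) := fun r hr => by
        have h1 : fn φ r ∈ Q := by rw [fn_apply φ hr]; exact h _
        rw [hfe r hr] at h1
        have h2 := mem_im_of_mem (f := av α⁻¹) h1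
        rwa [av_inv_av α (hx.1.mem hr)] at h2
      refine ⟨β * α, Subgroup.mul_mem _ hβ hα, _, hx.comp (hy.conj ((E.autGroup T).inv_mem hα.1)) hmem,
        fun r hr => ?_⟩
      have h1 : fn φ r ∈ Q := by rw [fn_apply φ hr]; exact h _
      rw [fn_apply _ hr]
      show ψ ⟨φ ⟨r, hr⟩, _⟩ = av (β * α) (av α⁻¹ (y (av α⁻¹⁻¹ (x r))))
      rw [← fn_apply ψ (h ⟨r, hr⟩), ← fn_apply φ hr, hge _ h1, inv_inv,
        av_mul _ _ (av_mem α⁻¹ (hy.1.mem (by rw [← hfe r hr]; exact h1))),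
        ← hfe r hr, av_av_inv α (hy.1.mem h1)]
    inv_mem := fun {P φ} hφ => by
      obtain ⟨ψ, hψ, hψφ⟩ := E.inv_mem hφ.1
      refine ⟨ψ, ⟨hψ, ?_⟩, hψφ⟩
      obtain ⟨α, hα, x, hx, hfe⟩ := hφ.2
      obtain ⟨g₀, hg₀, hg₀f, -, -⟩ := hx.1.exists_inv
      have hk := (hx.inv hg₀f).conj hα.1
      have heq : im P (fn φ) = φ.range := (map_of_mem hφ.1).im_eq_range fun r => (fn_coe φ r).symm
      rw [← hx.1.im_comp, ← im_congr (f := fn φ) (g := av α ∘ x) hfe, heq] at hk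
      refine ⟨α⁻¹, Subgroup.inv_mem _ hα, _, hk, fun y hy => ?_⟩
      obtain ⟨r, rfl⟩ := hy
      rw [fn_apply ψ ⟨r, rfl⟩, hψφ r]
      show (r : Ω) = av α⁻¹ (av α (g₀ (av α⁻¹ (φ r))))
      rw [← fn_coe φ r, hfe r r.2, av_inv_av α (hx.1.mem r.2), hg₀f r r.2, av_inv_av α (hx.1.le r.2)] }

omit [Fact p.Prime] in
theorem map_extFac {hE : E.IsWeaklyNormalIn F p} [Finite T] :
    Map (extFac hE) P f ↔ Map E P f ∧ ∃ α ∈ E.autGroup T ⊓ extAut F T hE.2.2.2.1.1,
      ∃ x, InvMap E (extSys hE.2.2) P x ∧ ∀ r ∈ P, f r = av α (x r) := by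
  constructor
  · rintro ⟨φ, hφ, h⟩
    refine ⟨⟨φ, hφ.1, h⟩, ?_⟩
    obtain ⟨α, hα, x, hx, he⟩ := hφ.2
    exact ⟨α, hα, x, hx, fun r hr => (h ⟨r, hr⟩).symm.trans ((fn_apply φ hr).symm.trans (he r hr))⟩
  · rintro ⟨⟨φ, hφ, h⟩, α, hα, x, hx, he⟩
    exact ⟨φ, ⟨hφ, α, hα, x, hx, fun r hr => by rw [fn_apply φ hr, h ⟨r, hr⟩]; exact he r hr⟩, h⟩

theorem centClosed_extFac (hS : IsPGroup p S) (hE : E.IsWeaklyNormalIn F p) :
    CentClosed E p (extFac hE) := by
  obtain ⟨hEs, hF, hEi⟩ := id hE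
  haveI := finite_of_le hEi.2.1.1
  have hgen : ∀ P : Subgroup Ω, E.IsCentric P → pResAut p (E.autGroup P) ≤ (extSys hEi).autGroup P :=
    fun P hP => pResAut_le_extSys hS hE hP
  refine ⟨fun P hP γ hγ => mem_autGroup_of_map (map_extFac.2 ⟨map_of_mem_autGroup hP.1 (pResAut_le _ hγ),
    1, Subgroup.one_mem _, av γ, invMap_pResAut hgen hP hγ,
    fun r hr => (av_one (hP.1 (av_mem γ hr))).symm⟩), fun P Q f hf hQP hQ h => ?_⟩
  obtain ⟨α, hα, x, hx, he⟩ := fac_of_map (hS.to_le hEi.2.1.1) hEs hgen hf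
  obtain ⟨-, α', hα', x', hx', he'⟩ := map_extFac.1 h
  refine map_extFac.2 ⟨hf, α, ⟨hα, ?_⟩, x, hx, he⟩
  have hxQ := hx.restrict hQP
  obtain ⟨k, hk, hkx, hxk, -⟩ := hxQ.1.exists_inv
  have hc : InvMap E (extSys hEi) (im Q x) (x' ∘ k) :=
    (hxQ.inv hkx).comp hx' fun y hy => (hxk y hy).2
  have hmem : α'⁻¹ * α ∈ extAut F T hEi.2.1.1 := by
    refine mem_extAut hS hE (Subgroup.mul_mem _ (Subgroup.inv_mem _ hα'.1) hα)
      (centric_of_sub_map hEi hQ (hxQ.1.of_sub hEi.1)) (hc.map.congr fun y hy => ?_)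
    obtain ⟨q, hq, rfl⟩ := hxQ.1.mem_im.1 hy
    show x' (k (x q)) = _
    rw [hkx q hq, av_mul _ _ (hxQ.1.mem hq), ← he q (hQP hq), he' q hq, av_inv_av α' (hx'.1.mem hq)]
  simpa using Subgroup.mul_mem _ hα'.2 hmem

/-- `O^{p'}` of a weakly normal subsystem is normal. -/
theorem primeResidual_isNormalIn (hS : IsPGroup p S) (hE : E.IsWeaklyNormalIn F p)
    {D : FusionSystem T} (hD : E.IsPPrimeResidual p D) : D.IsNormalIn F p := by
  obtain ⟨hEs, hF, hEi⟩ := id hE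
  have hT := hEi.2.1
  haveI := finite_of_le hT.1
  have hTp := hS.to_le hT.1
  have hDF : D.IsSubsystemOf F := fun P φ hφ => hEi.1 P (hD.2.1.1 P hφ)
  have hDgen : ∀ P : Subgroup Ω, E.IsCentric P → pResAut p (E.autGroup P) ≤ D.autGroup P :=
    fun P hP => hD.2.1.2 P hP.1
  have hDc : CentClosed E p D :=
    ⟨hDgen, fun P Q f hf hQP hQ h => map_of_centric_restrict hTp hEs hD.1 hD.2.1.1 hQ hQP hf h⟩
  have hres := isPPrimeResidual_primeRes hTp hEs
  have hmin : ∀ X : FusionSystem T, CentClosed E p X → ∀ P φ, φ ∈ D.Hom P → φ ∈ X.Hom P :=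
    fun X hX P φ hφ => (hD.2.2 _ hres.1 hres.2.1 P hφ).2 X hX
  refine ⟨⟨hD.1, hF, hDF, hT, fun P hPT φ hφ α hα => ?_, fun P hPT φ hφ => ?_⟩, fun α hα => ?_⟩
  · -- invariance: the maps all whose transports lie in `D` form a closed system
    let Z : FusionSystem T :=
      { Hom := fun P => {ψ | ψ ∈ D.Hom P ∧ ∀ a ∈ F.autGroup T, ∃ h, Map D (im P (av a)) h ∧
          ∀ x ∈ P, h (av a x) = av a (fn ψ x)}
        le_of_mem := fun h => D.le_of_mem h.1
        injective_of_mem := fun h => D.injective_of_mem h.1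
        conj_mem := fun {P g} hP hg => ⟨D.conj_mem hP hg, fun a ha =>
          ⟨fun y => av a g * y * (av a g)⁻¹, map_conjBy (im_le_iff.2 fun x hx => av_mem a (hP hx))
            (av_mem a hg), fun x hx => by
            rw [fn_apply (conjHom P g) hx]
            show av a g * av a x * (av a g)⁻¹ = av a (g * x * g⁻¹)
            exact ((map_of_mem_autGroup hT.1 ha).map_conj hg (hP hx)).symm⟩⟩
        comp_mem := fun {P Q φ ψ} hφ hψ h => ⟨D.comp_mem hφ.1 hψ.1 h, fun a ha => by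
          obtain ⟨u, hu, hue⟩ := hφ.2 a ha
          obtain ⟨v, hv, hve⟩ := hψ.2 a ha
          have hP := (D.le_of_mem hφ.1).1
          refine ⟨v ∘ u, hu.comp hv fun y hy => ?_, fun x hx => ?_⟩
          · obtain ⟨x, hx, rfl⟩ := ((map_of_mem_autGroup hT.1 ha).restrict hP).mem_im.1 hy
            rw [hue x hx]
            exact mem_im_of_mem (by rw [fn_apply φ hx]; exact h _)
          · show v (u (av a x)) = _
            rw [hue x hx, hve _ (by rw [fn_apply φ hx]; exact h _), fn_apply φ hx, fn_apply ψ (h _),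
              fn_apply _ hx]; rfl⟩
        inv_mem := fun {P φ} hφ => by
          obtain ⟨ψ, hψ, hψφ⟩ := D.inv_mem hφ.1
          refine ⟨ψ, ⟨hψ, fun a ha => ?_⟩, hψφ⟩
          obtain ⟨u, hu, hue⟩ := hφ.2 a ha
          obtain ⟨k, hk, hku, -, -⟩ := hu.exists_inv
          have hP := (D.le_of_mem hφ.1).1
          have hset : im φ.range (av a) = im (im P (av a)) u := by
            rw [← ((map_of_mem_autGroup hT.1 ha).restrict hP).im_comp]
            rw [← (map_of_mem hφ.1).im_eq_range (fun x => (fn_coe φ x).symm), ← (map_of_mem hφ.1).im_comp]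
            exact im_congr fun x hx => (hue x hx).symm
          refine ⟨k, hset ▸ hk, fun y hy => ?_⟩
          obtain ⟨x, rfl⟩ := hy
          rw [fn_apply ψ ⟨x, rfl⟩, hψφ x, ← fn_coe φ x, ← hue x x.2]
          exact hku _ (mem_im_of_mem x.2) }
    have hZmap : ∀ {P : Subgroup Ω} {f : Ω → Ω}, Map Z P f ↔ Map D P f ∧ ∀ a ∈ F.autGroup T,
        ∃ h, Map D (im P (av a)) h ∧ ∀ x ∈ P, h (av a x) = av a (f x) := by
      intro P f
      constructor
      · rintro ⟨ψ, hψ, h⟩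
        refine ⟨⟨ψ, hψ.1, h⟩, fun a ha => ?_⟩
        obtain ⟨u, hu, hue⟩ := hψ.2 a ha
        exact ⟨u, hu, fun x hx => by rw [hue x hx, fn_apply ψ hx]; exact congrArg (av a) (h ⟨x, hx⟩)⟩
      · rintro ⟨⟨ψ, hψ, h⟩, ha⟩
        refine ⟨ψ, ⟨hψ, fun a haF => ?_⟩, h⟩
        obtain ⟨u, hu, hue⟩ := ha a haF
        exact ⟨u, hu, fun x hx => by rw [hue x hx, fn_apply ψ hx]; exact congrArg (av a) (h ⟨x, hx⟩).symm⟩
    have hZ : CentClosed E p Z := by
      refine ⟨fun P hP γ hγ => mem_autGroup_of_map (hZmap.2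
        ⟨map_of_mem_autGroup hP.1 (hDgen P hP hγ), fun a ha => ?_⟩), fun P Q f hf hQP hQ h => ?_⟩
      · have hm : Map F P (av a) := (map_of_mem_autGroup hT.1 ha).restrict hP.1
        obtain ⟨e, he⟩ := exists_equiv hm rfl
        have hle : pResAut p (E.autGroup P) ≤
            (pResAut p (E.autGroup (im P (av a)))).comap (MulAut.congr e).toMonoidHom :=
          pResAut_induction fun β hβ ⟨k, hk⟩ => mem_pResAut (congr_mem_sub hEi hm hP.1 rfl he hβ)
            ⟨k, (orderOf_injective (MulAut.congr e).toMonoidHom (MulAut.congr e).injective β).trans hk⟩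
        have hc := centric_of_sub_map hEi hP hm
        exact ⟨av (MulAut.congr e γ), map_of_mem_autGroup hc.1 (hDgen _ hc (hle hγ)),
          fun x hx => av_congr_apply he γ hx⟩
      · obtain ⟨hD', hh⟩ := hZmap.1 h
        refine hZmap.2 ⟨hDc.2 P Q f hf hQP hQ hD', fun a ha => ?_⟩
        obtain ⟨u, hu, hue⟩ := inv_map hEi hf ha
        obtain ⟨w, hw, hwe⟩ := hh a ha
        have hm : Map F Q (av a) := (map_of_mem_autGroup hT.1 ha).restrict hQ.1
        refine ⟨u, hDc.2 _ (im Q (av a)) u hu (im_mono hQP) (centric_of_sub_map hEi hQ hm)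
          (hw.congr fun y hy => ?_), hue⟩
        obtain ⟨x, hx, rfl⟩ := hm.mem_im.1 hy
        rw [hwe x hx, hue x (hQP hx)]
    obtain ⟨u, ⟨χ, hχ, hχu⟩, hue⟩ := (hmin Z hZ P φ hφ).2 α hα
    have hP' : (P.subgroupOf T).map (T.subtype.comp α.toMonoidHom) = im P (av α) :=
      map_subgroupOf_eq_im hPT fun x => (av_coe α x).symm
    have hM : Map D (im P (av α)) u := ⟨χ, hχ, hχu⟩
    rw [← hP'] at hM
    obtain ⟨χ', hχ', hχ'u⟩ := hM
    refine ⟨χ', hχ', fun x hφx hαx => ?_⟩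
    rw [hχ'u ⟨_, hαx⟩, ← av_apply α hφx]
    show u ((α ⟨x, hPT x.2⟩ : T) : Ω) = _
    rw [← av_apply α (hPT x.2), hue x x.2, fn_coe]
  · obtain ⟨a, ha, g, hg, he⟩ := frattini_map hEi hPT (map_of_mem hφ)
    obtain ⟨b, hb, x, hx, hge⟩ := fac_of_map hTp hEs hDgen hg
    obtain ⟨φ₀, hφ₀, hφ₀x⟩ := hx.map
    refine ⟨a * b, Subgroup.mul_mem _ ha (autGroup_sub_le hEi le_rfl hb), φ₀, hφ₀, fun r hr => ?_⟩
    rw [← fn_coe φ r, he r r.2, hge r r.2, ← av_mul _ _ (hx.1.mem r.2), ← hφ₀x r, av_apply _ hr]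
  · have hC := centClosed_extFac hS hE
    obtain ⟨φ, hφ, hφα⟩ := map_of_mem_autGroup le_rfl hα
    obtain ⟨-, a, ha, x, hx, he⟩ :=
      map_extFac.1 (show Map (extFac hE) T (av α) from ⟨φ, hmin _ hC T φ hφ, hφα⟩)
    obtain ⟨g, hg, hgx, hgC⟩ := (map_extSys.1 hx.map).2 (by
      refine ⟨le_rfl, fun Q hQ => ?_⟩
      haveI := finite_of_le (isConj_le hQ).2
      rw [Subgroup.eq_of_le_of_card_ge (isConj_le hQ).2 (isConj_card hQ).le]
      exact inf_le_left)
    obtain ⟨β, hβ, hβa, hβC⟩ := ha.2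
    have hYS : T ⊔ centralizerIn S T ≤ S := sup_le hT.1 inf_le_left
    haveI : Finite ↥(T ⊔ centralizerIn S T) := finite_of_le hYS
    have hgi : im (T ⊔ centralizerIn S T) g = T ⊔ centralizerIn S T := by
      refine Subgroup.eq_of_le_of_card_ge (hg.im_sup_le.trans (sup_le ?_ ?_)) hg.card_im.ge
      · exact im_le_iff.2 fun r hr => Subgroup.mem_sup_left
          (stronglyClosed_map hT hg (Subgroup.mem_sup_left hr) hr)
      · refine im_le_iff.2 fun c hc => ?_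
        rw [show g c = c * (c⁻¹ * g c) by group]
        exact Subgroup.mul_mem _ (Subgroup.mem_sup_right hc) (Subgroup.mem_sup_left (hgC c hc))
    obtain ⟨γ, hγ, hγg⟩ := exists_aut hg hgi
    have key : ∀ c ∈ centralizerIn S T, c⁻¹ * av (β * γ) c ∈ T ⊓ Subgroup.centralizer (T : Set Ω) := by
      intro c hc
      have hcY : c ∈ T ⊔ centralizerIn S T := Subgroup.mem_sup_right hc
      refine ⟨?_, ?_⟩
      · rw [av_mul _ _ hcY, hγg c hcY, show g c = c * (c⁻¹ * g c) by group,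
          (map_of_mem_autGroup hYS hβ).map_mul hcY (Subgroup.mem_sup_left (hgC c hc)), ← mul_assoc,
          hβa _ (hgC c hc)]
        exact T.mul_mem (hβC c hc) (av_mem a (hgC c hc))
      · refine Subgroup.mem_centralizer_iff.2 fun y hy => ?_
        have hm := map_of_mem_autGroup hYS (Subgroup.mul_mem _ hβ hγ)
        have himT : im T (av (β * γ)) = T := by
          rw [im_congr (g := av α) fun r hr => by
            rw [av_mul _ _ (Subgroup.mem_sup_left hr), hγg r (Subgroup.mem_sup_left hr), hgx r hr,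
              hβa _ (hx.1.mem hr), he r hr], im_av]
        have h1 := hm.mem_centralizer le_sup_left hcY (mem_centralizerIn.1 hc).2
        rw [himT] at h1
        have h2 : y * c⁻¹ = c⁻¹ * y := by
          have := comm_of_centT hc hy
          calc y * c⁻¹ = c⁻¹ * (c * y) * c⁻¹ := by group
            _ = _ := by rw [← this]; group
        rw [← mul_assoc, h2, mul_assoc, (mem_centralizerIn.1 h1).2 y hy, ← mul_assoc]
    refine ⟨β * γ, Subgroup.mul_mem _ hβ hγ, fun r => ?_, fun c hc => ?_⟩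
    · rw [← av_coe (β * γ) (Subgroup.inclusion le_sup_left r), ← av_coe α r, Subgroup.coe_inclusion,
        av_mul _ _ (Subgroup.mem_sup_left r.2), hγg _ (Subgroup.mem_sup_left r.2), hgx _ r.2,
        hβa _ (hx.1.mem r.2), he _ r.2]
    · rw [← av_coe (β * γ) c]; exact key c hc

end Cfsg.Agent.Local.FS
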