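import Cfsg.Agent.Lib.Local.FS.Sub
import Cfsg.Agent.Lib.Local.FS.Series
import Cfsg.Agent.Lib.Local.FS.Transport

set_option autoImplicit false

namespace Cfsg.Agent.Local.FS

open Cfsg Cfsg.FusionSystem Cfsg.Agent.Fusion

variable {Ω : Type*} [Group Ω] {S T : Subgroup Ω} {F : FusionSystem S} {E : FusionSystem T}
  {P : Subgroup Ω} {f : Ω → Ω} {p : ℕ}

/-- The inner system of a finite `p`-group is saturated. -/
theorem inner_isSaturated [Finite S] [Fact p.Prime] (hS : IsPGroup p S) :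
    (innerFusionSystem S).IsSaturated p := by
  have hr : (innerFusionSystem S).IsRealizedBy (MonoidHom.id ↥S) := by
    refine ⟨fun a b h => h, fun P hP φ hφ => ⟨?_, ?_⟩⟩
    · rintro ⟨-, g, hg, h⟩
      exact ⟨⟨g, hg⟩, fun x => Subtype.ext (h x)⟩
    · rintro ⟨g, h⟩
      exact ⟨hP, g, g.2, fun x => congrArg Subtype.val (h x)⟩
  obtain ⟨T, hT⟩ := (hS.of_equiv (Subgroup.topEquiv (G := ↥S)).symm).exists_le_sylow
  refine (fiso_of_realized hr).saturated hS (group_saturated ?_)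
  rw [show (MonoidHom.id ↥S).range = (T : Subgroup ↥S) from
    (MonoidHom.range_eq_top.2 fun x => ⟨x, rfl⟩).trans (eq_top_iff.2 hT).symm]
  exact sylIn_top T

/-- Invariance, for functions. -/
theorem inv_map (hE : E.IsInvariantIn F) (hf : Map E P f) {α : MulAut T} (hα : α ∈ F.autGroup T) :
    ∃ h, Map E (im P (av α)) h ∧ ∀ x ∈ P, h (av α x) = av α (f x) := by
  obtain ⟨φ, hφ, he⟩ := id hf
  obtain ⟨χ, hχ, hχe⟩ := hE.2.2.1 P hf.le φ hφ α hα
  have hP' : (P.subgroupOf T).map (T.subtype.comp α.toMonoidHom) = im P (av α) :=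
    map_subgroupOf_eq_im hf.le fun x => (av_coe α x).symm
  refine ⟨fn χ, hP' ▸ map_of_mem hχ, fun x hx => ?_⟩
  have hm : ((α ⟨x, hf.le hx⟩ : T) : Ω) ∈ (P.subgroupOf T).map (T.subtype.comp α.toMonoidHom) :=
    ⟨⟨x, hf.le hx⟩, hx, rfl⟩
  rw [av_apply α (hf.le hx), fn_apply χ hm, hχe ⟨x, hx⟩ ((E.le_of_mem hφ).2 _) hm, ← av_apply, he]

/-- The Frattini condition, for functions. -/
theorem frattini_map (hE : E.IsInvariantIn F) (hP : P ≤ T) (hf : Map F P f) :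
    ∃ α ∈ F.autGroup T, ∃ g, Map E P g ∧ ∀ x ∈ P, f x = av α (g x) := by
  obtain ⟨φ, hφ, he⟩ := hf
  obtain ⟨α, hα, φ₀, hφ₀, h⟩ := hE.2.2.2 P hP φ hφ
  refine ⟨α, hα, fn φ₀, map_of_mem hφ₀, fun x hx => ?_⟩
  have hm := (E.le_of_mem hφ₀).2 ⟨x, hx⟩
  rw [fn_apply φ₀ hx, av_apply α hm, ← he ⟨x, hx⟩, h ⟨x, hx⟩ hm]

variable [Finite S] [Fact p.Prime]

/-- The transport of a normal subgroup of an invariant subsystem is normal in it. -/
theorem normal_transport (hE : E.IsInvariantIn F) {R : Subgroup Ω} (hR : E.IsNormal R) {α : MulAut T}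
    (hα : α ∈ F.autGroup T) : E.IsNormal (im R (av α)) := by
  have hTS := hE.2.1.1
  haveI := finite_of_le hTS
  have hαR : Map F R (av α) := (map_of_mem_autGroup hTS hα).restrict hR.1
  refine normal_iff.2 ⟨im_le_iff.2 fun x hx => av_mem α (hR.1 hx), fun P f hf => ?_⟩
  obtain ⟨f', hf', hff⟩ := inv_map hE hf (Subgroup.inv_mem _ hα)
  obtain ⟨g', hg', hgf, hgR⟩ := (normal_iff.1 hR).2 _ _ hf'
  obtain ⟨h, hh, hhe⟩ := inv_map hE hg' hα
  have hle : P ⊔ im R (av α) ≤ im (im P (av α⁻¹) ⊔ R) (av α) := by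
    refine sup_le (fun x hx => ?_) (im_mono le_sup_right)
    rw [← av_av_inv α (hf.le hx)]
    exact mem_im_of_mem (Subgroup.mem_sup_left (mem_im_of_mem hx))
  refine ⟨h, hh.restrict hle, fun x hx => ?_, ?_⟩
  · have hx' : av α⁻¹ x ∈ im P (av α⁻¹) := mem_im_of_mem hx
    conv_lhs => rw [← av_av_inv α (hf.le hx)]
    rw [hhe _ (Subgroup.mem_sup_left hx'), hgf _ hx', hff x hx, av_av_inv α (hf.mem hx)]
  · haveI := finite_of_le hαR.im_le
    refine Subgroup.eq_of_le_of_card_ge (im_le_iff.2 fun y hy => ?_)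
      ((hh.restrict (le_sup_right.trans hle)).card_im.ge)
    obtain ⟨r, hr, rfl⟩ := hαR.mem_im.1 hy
    rw [hhe r (Subgroup.mem_sup_right hr)]
    exact mem_im_of_mem (hgR.le (mem_im_of_mem hr))

/-- The subgroup generated by the conjugates of a normal subgroup of a weakly normal subsystem is normal. -/
theorem normal_closure_of_weaklyNormal (hS : IsPGroup p S) (hE : E.IsWeaklyNormalIn F p)
    {R : Subgroup Ω} (hR : E.IsNormal R) :
    F.IsNormal (Subgroup.closure {x : Ω | ∃ φ ∈ F.Hom R, ∃ r : R, x = φ r}) := by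
  obtain ⟨hEs, hFs, hinv⟩ := hE
  have hTS := hinv.2.1.1
  haveI := finite_of_le hTS
  have hRc := normal_stronglyClosed hR
  have hset : {x : Ω | ∃ φ ∈ F.Hom R, ∃ r : R, x = φ r} =
      {x : Ω | ∃ α ∈ F.autGroup T, x ∈ av α '' (R : Set Ω)} := by
    ext x
    constructor
    · rintro ⟨φ, hφ, r, rfl⟩
      obtain ⟨α, hα, g, hg, he⟩ := frattini_map hinv hR.1 (map_of_mem hφ)
      exact ⟨α, hα, g r, stronglyClosed_map hRc hg r.2 r.2, ((fn_coe φ r).symm.trans (he r r.2)).symm⟩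
    · rintro ⟨α, hα, r, hr, rfl⟩
      obtain ⟨φ, hφ, he⟩ := (map_of_mem_autGroup hTS hα).restrict hR.1
      exact ⟨φ, hφ, ⟨r, hr⟩, (he ⟨r, hr⟩).symm⟩
  rw [hset]
  set Q := Subgroup.closure {x : Ω | ∃ α ∈ F.autGroup T, x ∈ av α '' (R : Set Ω)} with hQ
  have hQT : Q ≤ T := (Subgroup.closure_le _).2 fun x ⟨α, _, r, hr, he⟩ => he ▸ av_mem α (hR.1 hr)
  have hQA : Q = sSup {U | ∃ α ∈ F.autGroup T, U = im R (av α)} := by
    refine le_antisymm ((Subgroup.closure_le _).2 ?_) (sSup_le ?_)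
    · rintro x ⟨α, hα, r, hr, rfl⟩
      exact (le_sSup (show im R (av α) ∈ {U | ∃ α ∈ F.autGroup T, U = im R (av α)} from ⟨α, hα, rfl⟩))
        (mem_im_of_mem hr)
    · rintro U ⟨α, hα, rfl⟩
      exact im_le_iff.2 fun r hr => Subgroup.subset_closure ⟨α, hα, r, hr, rfl⟩
  have hQE : E.IsNormal Q := hQA ▸ normal_sSup (hS.to_le hTS) hEs _
    (by rintro U ⟨α, hα, rfl⟩; exact normal_transport hinv hR hα)
  refine normal_of_extends hS hFs (hQT.trans hTS) fun P f hP hf => ?_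
  obtain ⟨α, hα, g, hg, he⟩ := frattini_map hinv (hP.trans hQT) hf
  obtain ⟨β, hβ, hβg⟩ := normal_extends hQE P g hP hg
  have hαQ : ∀ x ∈ Q, av α x ∈ Q := by
    have hle : Q ≤ (Q.comap (T.subtype.comp α.toMonoidHom)).map T.subtype := by
      refine (Subgroup.closure_le _).2 ?_
      rintro x ⟨γ, hγ, r, hr, rfl⟩
      refine ⟨⟨_, av_mem γ (hR.1 hr)⟩, ?_, rfl⟩
      show (α ⟨_, av_mem γ (hR.1 hr)⟩ : Ω) ∈ Q
      rw [← av_apply, ← av_mul _ _ (hR.1 hr)]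
      exact Subgroup.subset_closure ⟨_, Subgroup.mul_mem _ hα hγ, r, hr, rfl⟩
    intro x hx
    obtain ⟨y, hy, rfl⟩ := hle hx
    rw [show av α (T.subtype y) = (α y : Ω) from av_coe α y]
    exact hy
  have hm : Map F Q (av α ∘ av β) :=
    ((map_of_mem_autGroup hQT hβ).of_sub hinv.1).comp ((map_of_mem_autGroup hTS hα).restrict hQT)
      fun x hx => av_mem β hx
  haveI := finite_of_le (hQT.trans hTS)
  obtain ⟨γ, hγ, hγe⟩ := exists_aut hm (Subgroup.eq_of_le_of_card_ge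
    (im_le_iff.2 fun x hx => hαQ _ (av_mem β hx)) hm.card_im.ge)
  exact ⟨γ, hγ, fun x hx => by rw [hγe x (hP hx), Function.comp_apply, hβg x hx, ← he x hx]⟩

/-- A subgroup is normal exactly when its inner system is weakly normal. -/
theorem normal_iff_inner_weaklyNormal (hS : IsPGroup p S) (hF : F.IsSaturated p) {Q : Subgroup Ω}
    (hQS : Q ≤ S) : F.IsNormal Q ↔ (innerFusionSystem Q).IsWeaklyNormalIn F p := by
  haveI := finite_of_le hQS
  refine ⟨fun h => ⟨inner_isSaturated (hS.to_le hQS), hF, ?_, normal_stronglyClosed h, ?_, ?_⟩,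
    fun h => ?_⟩
  · rintro P φ ⟨hP, g, hg, hφ⟩
    exact (map_conjBy (hP.trans hQS) (hQS hg)).mem_hom hφ
  · rintro P hPT φ ⟨-, g, hg, hφ⟩ α hα
    have hle : (P.subgroupOf Q).map (Q.subtype.comp α.toMonoidHom) ≤ Q := by
      rintro _ ⟨x, -, rfl⟩; exact SetLike.coe_mem _
    obtain ⟨χ, hχ, he⟩ := map_conjBy (F := innerFusionSystem Q) hle (α ⟨g, hg⟩).2
    refine ⟨χ, hχ, fun x hx hax => (he _).trans ?_⟩
    rw [show (⟨φ x, hx⟩ : Q) = ⟨g, hg⟩ * ⟨x, hPT x.2⟩ * (⟨g, hg⟩ : Q)⁻¹ from Subtype.ext (hφ x),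
      map_mul, map_mul, map_inv]
    rfl
  · intro P hP φ hφ
    obtain ⟨α, hα, he⟩ := normal_extends h P _ hP (map_of_mem hφ)
    obtain ⟨ψ, hψ, hψe⟩ := map_id (F := innerFusionSystem Q) hP
    refine ⟨α, hα, ψ, hψ, fun x hx => ?_⟩
    rw [← fn_coe φ x, ← he x x.2, av_apply α (hP x.2)]
    exact congrArg (fun t : Q => ((α t : Q) : Ω)) (Subtype.ext (hψe x).symm)
  · refine normal_of_extends hS hF hQS fun P f hP hf => ?_
    obtain ⟨α, hα, g, ⟨ψ, ⟨-, s, hs, hψ⟩, hψg⟩, he⟩ := frattini_map h.2.2 hP hf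
    obtain ⟨γ, hγ, hγF⟩ := exists_aut_conj (P := Q) (Subgroup.le_normalizer hs)
    refine ⟨α * γ, Subgroup.mul_mem _ hα (autInducedBy_le_autGroup hQS (hγF S (hQS hs))), fun x hx => ?_⟩
    rw [av_mul _ _ (hP hx), hγ x (hP hx), he x hx, ← hψg ⟨x, hx⟩, hψ]

end Cfsg.Agent.Local.FS
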