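import Cfsg.Agent.Lib.Local.FS.Sub
import Cfsg.Agent.Lib.Local.FS.WeakNormal
import Cfsg.Agent.Lib.Local.FS.Essential
import Cfsg.Agent.Lib.Fusion.Cores

/-!
A centric subgroup meeting a normal subsystem in a non-centric subgroup is not radical.
-/

set_option autoImplicit false

namespace Cfsg.Agent.Local.FS

open Cfsg Cfsg.FusionSystem Cfsg.Agent.Fusion

variable {Ω : Type*} [Group Ω] {S T : Subgroup Ω} {F : FusionSystem S} [Finite S] {p : ℕ} [Fact p.Prime]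

/-- An automorphism trivial on `P ⊓ T` and modulo it lies in the core of the automiser. -/
theorem stab_mem_pCore (hS : IsPGroup p S) (hT : F.StronglyClosed T) {P : Subgroup Ω} (hP : P ≤ S)
    {α : MulAut P} (hα : α ∈ F.autGroup P) (h1 : ∀ x ∈ P, x ∈ T → av α x = x)
    (h2 : ∀ x ∈ P, x⁻¹ * av α x ∈ T) :
    α ∈ (pCore p ↥(F.autGroup P)).map (F.autGroup P).subtype := by
  haveI := mulAut_finite_of_le hP
  haveI := finite_of_le hP
  let K : Subgroup ↥(F.autGroup P) :=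
    { carrier := {β | (∀ x ∈ P, x ∈ T → av (β : MulAut P) x = x) ∧ ∀ x ∈ P, x⁻¹ * av (β : MulAut P) x ∈ T}
      one_mem' := ⟨fun x hx _ => av_one hx, fun x hx => by
        rw [OneMemClass.coe_one, av_one hx, inv_mul_cancel]; exact T.one_mem⟩
      mul_mem' := by
        rintro a b ⟨ha, ha'⟩ ⟨hb, hb'⟩
        refine ⟨fun x hx hxT => ?_, fun x hx => ?_⟩
        · rw [Subgroup.coe_mul, av_mul _ _ hx, hb x hx hxT, ha x hx hxT]
        · rw [Subgroup.coe_mul, av_mul _ _ hx]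
          have := T.mul_mem (hb' x hx) (ha' _ (av_mem (b : MulAut P) hx))
          simpa [mul_assoc] using this
      inv_mem' := by
        rintro a ⟨ha, ha'⟩
        refine ⟨fun x hx hxT => ?_, fun x hx => ?_⟩
        · conv_lhs => rw [Subgroup.coe_inv, ← ha x hx hxT]
          exact av_inv_av (a : MulAut P) hx
        · rw [Subgroup.coe_inv]
          have := T.inv_mem (ha' _ (av_mem (a : MulAut P)⁻¹ hx))
          rw [av_av_inv (a : MulAut P) hx] at this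
          simpa using this }
  haveI : K.Normal := ⟨fun a ha g => by
    obtain ⟨ha, ha'⟩ := ha
    have hg := map_of_mem_autGroup hP g.2
    have hgi := map_of_mem_autGroup hP ((F.autGroup P).inv_mem g.2)
    refine ⟨fun x hx hxT => ?_, fun x hx => ?_⟩
    · rw [Subgroup.coe_mul, Subgroup.coe_mul, Subgroup.coe_inv, av_mul _ _ hx, av_mul _ _ (av_mem _ hx),
        ha _ (av_mem _ hx) (stronglyClosed_map hT hgi hx hxT), av_av_inv _ hx]
    · obtain ⟨y, hy⟩ : ∃ y, y = av ((g : MulAut P)⁻¹) x := ⟨_, rfl⟩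
      have hyP : y ∈ P := hy ▸ av_mem _ hx
      have hay : av (a : MulAut P) y ∈ P := av_mem _ hyP
      rw [Subgroup.coe_mul, Subgroup.coe_mul, Subgroup.coe_inv, av_mul _ _ hx, av_mul _ _ (av_mem _ hx), ← hy,
        show x = av (g : MulAut P) y by rw [hy, av_av_inv _ hx], ← hg.map_inv hyP, ← hg.map_mul (P.inv_mem hyP) hay]
      exact stronglyClosed_map hT hg (P.mul_mem (P.inv_mem hyP) hay) (ha' y hyP)⟩
  have hK : IsPGroup p K := by
    intro a
    obtain ⟨ha, ha'⟩ := a.2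
    obtain ⟨k, hk⟩ := IsPGroup.iff_card.1 (hS.to_le hP)
    refine ⟨k, Subtype.ext (Subtype.ext (aut_ext fun x hx => ?_))⟩
    rw [SubmonoidClass.coe_pow, SubmonoidClass.coe_pow, OneMemClass.coe_one, OneMemClass.coe_one, av_one hx]
    obtain ⟨A, hA⟩ : ∃ A, A = ((a : ↥(F.autGroup P)) : MulAut P) := ⟨_, rfl⟩
    rw [← hA] at ha ha' ⊢
    obtain ⟨t, ht⟩ : ∃ t, t = x⁻¹ * av A x := ⟨_, rfl⟩
    have htP : t ∈ P := ht ▸ P.mul_mem (P.inv_mem hx) (av_mem _ hx)
    have htT : t ∈ T := ht ▸ ha' x hx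
    have key : ∀ n : ℕ, av (A ^ n) x = x * t ^ n := by
      intro n
      induction n with
      | zero => rw [pow_zero, pow_zero, av_one hx, mul_one]
      | succ n ih =>
        rw [pow_succ' A, av_mul _ _ hx, ih,
          show av A (x * t ^ n) = av A x * av A (t ^ n) by
            rw [av_apply _ (P.mul_mem hx (P.pow_mem htP n)), av_apply _ hx, av_apply _ (P.pow_mem htP n)]
            exact congrArg Subtype.val (map_mul A ⟨x, hx⟩ ⟨t ^ n, P.pow_mem htP n⟩),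
          ha _ (P.pow_mem htP n) (T.pow_mem htT n), pow_succ', show av A x = x * t by rw [ht, mul_inv_cancel_left]]
        group
    rw [key]
    have : (⟨t, htP⟩ : P) ^ p ^ k = 1 := by rw [← hk]; exact pow_card_eq_one'
    rw [show t ^ p ^ k = 1 from congrArg Subtype.val this, mul_one]
  exact ⟨⟨α, hα⟩, Fusion.le_pCore hK (show (⟨α, hα⟩ : ↥(F.autGroup P)) ∈ K from ⟨h1, h2⟩), rfl⟩

theorem not_radical_of_inter_not_centric (hS : IsPGroup p S) (hF : F.IsSaturated p) {E : FusionSystem T}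
    (hT : F.StronglyClosed T) (hsub : E.IsSubsystemOf F) {P : Subgroup Ω} (hP : F.IsCentric P)
    (hPT : ¬ E.IsCentric (P ⊓ T)) :
    (∃ φ ∈ F.Hom P, ∃ x ∈ S ⊓ Subgroup.normalizer (φ.range : Set Ω), x ∉ φ.range ∧
      ∃ α ∈ ((pCore p ↥(F.autGroup φ.range)).map (F.autGroup φ.range).subtype : Subgroup (MulAut ↥φ.range)),
        ∀ y : ↥φ.range, ((α y : ↥φ.range) : Ω) = x * (y : Ω) * x⁻¹) ∧ ¬ F.IsRadical p P := by
  have hPS := hP.1
  haveI := finite_of_le hPS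
  haveI := finite_of_le hT.1
  obtain ⟨R, hRF, hR⟩ : ∃ R, F.IsConj (P ⊓ T) R ∧ R ≤ T ∧ ¬ centralizerIn T R ≤ R := by
    by_contra hno
    refine hPT ⟨inf_le_right, fun R hR => ?_⟩
    by_contra hc
    exact hno ⟨R, isConj_of_sub hsub hR, (isConj_le hR).2, hc⟩
  obtain ⟨hRT, hRc⟩ := hR
  obtain ⟨Q, hQ, hQn⟩ := exists_fullyNormalized (F := F) (inf_le_left.trans hPS : P ⊓ T ≤ S)
  obtain ⟨f, hf, -, hfi⟩ := exists_map_normalizer_fn hS hF hQn hQ
  obtain ⟨g, hg, hgm, hgi⟩ := exists_map_normalizer_fn hS hF hQn (isConj_trans (isConj_symm hRF) hQ)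
  have hQT : Q ≤ T := by
    rw [← hfi]
    exact im_le_iff.2 fun x hx => stronglyClosed_map hT hf (le_normalizerIn (inf_le_left.trans hPS) hx) hx.2
  have hCQ : ¬ centralizerIn T Q ≤ Q := by
    intro hle
    refine hRc fun c hc => ?_
    obtain ⟨hcT, hcR⟩ := mem_centralizerIn.1 hc
    have hcN : c ∈ normalizerIn S R :=
      centralizerIn_le_normalizerIn (mem_centralizerIn.2 ⟨hT.1 hcT, hcR⟩)
    have hgc : g c ∈ centralizerIn T Q := by
      refine mem_centralizerIn.2 ⟨stronglyClosed_map hT hg hcN hcT, fun y hy => ?_⟩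
      rw [← hgi] at hy
      obtain ⟨r, hr, rfl⟩ := (hg.restrict (le_normalizerIn (hRT.trans hT.1))).mem_im.1 hy
      have hrN := le_normalizerIn (hRT.trans hT.1) hr
      rw [← hg.map_mul hrN hcN, hcR r hr, hg.map_mul hcN hrN]
    have hgQ : g c ∈ im R g := hgi.symm ▸ hle hgc
    obtain ⟨r, hr, hre⟩ := (hg.restrict (le_normalizerIn (hRT.trans hT.1))).mem_im.1 hgQ
    exact hg.injOn (le_normalizerIn (hRT.trans hT.1) hr) hcN hre ▸ hr
  have hPN : P ≤ normalizerIn S (P ⊓ T) := by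
    intro x hx
    refine mem_normalizerIn.2 ⟨hPS hx, ?_⟩
    have hconj : ∀ a ∈ P, ∀ y ∈ P ⊓ T, a * y * a⁻¹ ∈ P ⊓ T := fun a ha y hy =>
      Subgroup.mem_inf.2 ⟨P.mul_mem (P.mul_mem ha hy.1) (P.inv_mem ha),
        stronglyClosed_map hT (map_conjBy (F := F) hPS (hPS ha)) hy.1 hy.2⟩
    refine Subgroup.mem_normalizer_iff.2 fun y => ⟨hconj x hx y, fun hy => ?_⟩
    simpa [mul_assoc] using hconj x⁻¹ (P.inv_mem hx) _ hy
  have hfP := hf.restrict hPN
  obtain ⟨φ, hφ, hφe⟩ := id hfP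
  have hφr : φ.range = im P f := (hfP.im_eq_range hφe).symm
  obtain ⟨Pst, hPst⟩ : ∃ Pst, Pst = φ.range := ⟨_, rfl⟩
  have hconjP : F.IsConj P Pst := ⟨φ, hφ, hPst.symm⟩
  have hPstS : Pst ≤ S := (isConj_le hconjP).2
  have hPstT : ∀ y ∈ Pst, y ∈ T → y ∈ Q := by
    intro y hy hyT
    rw [hPst, hφr] at hy
    obtain ⟨x, hx, rfl⟩ := hfP.mem_im.1 hy
    obtain ⟨k, hk, hkf, -, -⟩ := hfP.exists_inv
    have hxT : x ∈ T := hkf x hx ▸ stronglyClosed_map hT hk (mem_im_of_mem hx) hyT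
    rw [← hfi]
    exact mem_im_of_mem ⟨hx, hxT⟩
  have hQP : Q ≤ Pst := by
    rw [hPst, hφr, ← hfi]
    exact im_mono inf_le_left
  -- an element of `C_T(Q)` normalising `Pst`
  obtain ⟨C, hC⟩ : ∃ C, C = centralizerIn T Q := ⟨_, rfl⟩
  have hnorm : Pst ≤ Subgroup.normalizer (C : Set Ω) := by
    have hQn : ∀ a ∈ Pst, ∀ y ∈ Q, a * y * a⁻¹ ∈ Q := fun a ha y hy =>
      hPstT _ (Pst.mul_mem (Pst.mul_mem ha (hQP hy)) (Pst.inv_mem ha))
        (stronglyClosed_map hT (map_conjBy (F := F) hPstS (hPstS ha)) (hQP hy) (hQT hy))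
    have hc : ∀ a ∈ Pst, ∀ c ∈ C, a * c * a⁻¹ ∈ C := fun a ha c hc => by
      rw [hC] at hc ⊢
      obtain ⟨hcT, hcQ⟩ := mem_centralizerIn.1 hc
      refine mem_centralizerIn.2 ⟨stronglyClosed_map hT (map_conjBy (F := F) (P := S) le_rfl (hPstS ha)) (hT.1 hcT) hcT,
        fun y hy => ?_⟩
      have h1 := hcQ _ (hQn a⁻¹ (Pst.inv_mem ha) y hy)
      calc y * (a * c * a⁻¹) = a * ((a⁻¹ * y * a⁻¹⁻¹) * c) * a⁻¹ := by group
        _ = a * (c * (a⁻¹ * y * a⁻¹⁻¹)) * a⁻¹ := by rw [h1]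
        _ = a * c * a⁻¹ * y := by group
    refine fun a ha => Subgroup.mem_normalizer_iff.2 fun c => ⟨hc a ha c, fun hy => ?_⟩
    simpa [mul_assoc] using hc a⁻¹ (Pst.inv_mem ha) _ hy
  have hCS : C ≤ S := hC ▸ inf_le_left.trans hT.1
  have hlt : Pst < Pst ⊔ C := by
    refine lt_of_le_of_ne le_sup_left fun he => hCQ fun c hc => ?_
    exact hPstT c (he ▸ Subgroup.mem_sup_right (hC ▸ hc)) hc.1
  obtain ⟨n, hn, hnP⟩ := SetLike.exists_of_lt (lt_inf_normalizer hS hlt (sup_le hPstS hCS))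
  obtain ⟨a, ha, c, hc, hacn⟩ : ∃ a ∈ Pst, ∃ c ∈ C, a * c = n := by
    have h1 : n ∈ ((Pst ⊔ C : Subgroup Ω) : Set Ω) := hn.1
    rw [Subgroup.coe_mul_of_left_le_normalizer_right _ _ hnorm] at h1
    exact h1
  have hcn : c ∈ Subgroup.normalizer (Pst : Set Ω) := by
    have := Subgroup.mul_mem _ (Subgroup.inv_mem _ (Subgroup.le_normalizer ha)) hn.2
    rwa [← hacn, inv_mul_cancel_left] at this
  have hcP : c ∉ Pst := fun h => hnP (hacn ▸ Pst.mul_mem ha h)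
  have hcT : c ∈ T := (hC ▸ hc).1
  have hcS : c ∈ S := hT.1 hcT
  have hfix : ∀ y ∈ Pst, y ∈ T → c * y * c⁻¹ = y := fun y hy hyT => by
    rw [← (mem_centralizerIn.1 (hC ▸ hc)).2 y (hPstT y hy hyT), mul_inv_cancel_right]
  have hmod : ∀ y ∈ Pst, y⁻¹ * (c * y * c⁻¹) ∈ T := fun y hy => by
    have h1 : y⁻¹ * c * y⁻¹⁻¹ ∈ T :=
      stronglyClosed_map hT (map_conjBy (F := F) (P := S) le_rfl (S.inv_mem (hPstS hy))) hcS hcT
    simpa [mul_assoc] using T.mul_mem h1 (T.inv_mem hcT)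
  obtain ⟨β, hβ, hβK⟩ := exists_aut_conj (P := Pst) hcn
  refine ⟨⟨φ, hφ, c, ?_⟩, fun hrad => ?_⟩
  · subst hPst
    exact ⟨⟨hcS, hcn⟩, hcP, β, stab_mem_pCore hS hT hPstS
      (autInducedBy_le_autGroup hPstS (hβK S hcS))
      (fun y hy hyT => (hβ y hy).trans (hfix y hy hyT)) (fun y hy => by rw [hβ y hy]; exact hmod y hy),
      fun y => by rw [← av_coe]; exact hβ y y.2⟩
  -- pull the automorphism back to `P`
  obtain ⟨k, hk, hkf, hfk, hki⟩ := hfP.exists_inv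
  rw [← hφr, ← hPst] at hk hfk hki
  have hfmem : ∀ x ∈ P, f x ∈ Pst := fun x hx => by rw [hPst, hφr]; exact mem_im_of_mem hx
  have hkmem : ∀ y ∈ Pst, k y ∈ P := fun y hy => hki ▸ mem_im_of_mem hy
  have hm : Map F P (fun x => k (c * f x * c⁻¹)) :=
    (hfP.comp ((map_conjBy (F := F) hPstS hcS).comp hk fun y hy => conj_mem_of_normalizer hcn hy) hfmem)
  obtain ⟨γ, hγ, hγe⟩ := exists_aut hm (hm.im_eq (fun x hx => hkmem _ (conj_mem_of_normalizer hcn (hfmem x hx)))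
    fun z hz => by
      have h1 : c⁻¹ * f z * c ∈ Pst := by
        simpa using conj_mem_of_normalizer (Subgroup.inv_mem _ hcn) (hfmem z hz)
      refine ⟨k (c⁻¹ * f z * c), hkmem _ h1, ?_⟩
      show k (c * f (k (c⁻¹ * f z * c)) * c⁻¹) = z
      rw [(hfk _ h1).1, show c * (c⁻¹ * f z * c) * c⁻¹ = f z by group, hkf z hz])
  have hcore := stab_mem_pCore hS hT hPS hγ (fun x hx hxT => by
      rw [hγe x hx, hfix _ (hfmem x hx) (stronglyClosed_map hT hfP hx hxT), hkf x hx]) (fun x hx => by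
      rw [hγe x hx]
      have hy := conj_mem_of_normalizer hcn (hfmem x hx)
      have h1 := stronglyClosed_map hT hk (Pst.mul_mem (Pst.inv_mem (hfmem x hx)) hy) (hmod _ (hfmem x hx))
      rwa [hk.map_mul (Pst.inv_mem (hfmem x hx)) hy, hk.map_inv (hfmem x hx), hkf x hx] at h1)
  rw [hrad.2] at hcore
  obtain ⟨⟨z, hz⟩, hze⟩ := hcore
  have hzc : (f z)⁻¹ * c ∈ centralizerIn S Pst := by
    refine mem_centralizerIn.2 ⟨S.mul_mem (S.inv_mem (hPstS (hfmem z hz))) hcS, fun y hy => ?_⟩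
    have hx := hkmem y hy
    have h1 : k (c * f (k y) * c⁻¹) = z * k y * z⁻¹ := by
      rw [← hγe _ hx, ← hze, av_apply _ hx]; rfl
    have h2 := congrArg f h1
    rw [(hfk y hy).1, (hfk _ (conj_mem_of_normalizer hcn hy)).1, hfP.map_conj hz hx, (hfk y hy).1] at h2
    calc y * ((f z)⁻¹ * c) = (f z)⁻¹ * (f z * y * (f z)⁻¹) * c := by group
      _ = (f z)⁻¹ * (c * y * c⁻¹) * c := by rw [h2]
      _ = (f z)⁻¹ * c * y := by group
  have := (hP.2 Pst hconjP) hzc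
  exact hcP (by simpa using Pst.mul_mem (hfmem z hz) this)

end Cfsg.Agent.Local.FS
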