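import Cfsg.Agent.Lib.Local.FS.PrimeResidual
import Cfsg.Agent.Lib.Local.FS.WeakNormal
import Cfsg.Agent.Lib.Local.FS.Sub

/-!
`O^{p'}` of a weakly normal subsystem lies in every weakly normal subsystem over the same subgroup.
-/

set_option autoImplicit false

namespace Cfsg.Agent.Local.FS

open Cfsg Cfsg.FusionSystem Cfsg.Agent.Fusion

variable {Ω : Type*} [Group Ω] {S T : Subgroup Ω} [Finite S] {F : FusionSystem S}
  {E E' : FusionSystem T} {P Q R : Subgroup Ω} {f g : Ω → Ω} {p : ℕ}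

omit [Finite S] in
theorem congr_self_eq (a x : MulAut P) : MulAut.congr a x = a * x * a⁻¹ := by
  ext y; rfl

/-- Transport by maps of `F` preserves the automisers of an invariant subsystem. -/
theorem congr_mem_sub (hE : E.IsInvariantIn F) (hg : Map F P g) (hP : P ≤ T) (hi : im P g = Q)
    {e : P ≃* Q} (he : ∀ x : P, (e x : Ω) = g x) {α : MulAut P} (hα : α ∈ E.autGroup P) :
    MulAut.congr e α ∈ E.autGroup Q := by
  haveI := finite_of_le hE.2.1.1
  obtain ⟨β, hβ, g₀, hg₀, hgg⟩ := frattini_map hE hP hg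
  obtain ⟨k, hk, hkg, hgk, -⟩ := hg₀.exists_inv
  have hm : Map E (im P g₀) (g₀ ∘ av α ∘ k) :=
    (hk.comp (map_of_mem_autGroup hP hα) fun y hy => (hgk y hy).2).comp hg₀
      fun y hy => av_mem α (hgk y hy).2
  obtain ⟨h, hh, hhe⟩ := inv_map hE hm hβ
  have hset : im (im P g₀) (av β) = Q := by
    rw [← hi, ← hg₀.im_comp]
    exact im_congr fun x hx => (hgg x hx).symm
  rw [hset] at hh
  refine mem_autGroup_of_map (hh.congr fun y hy => ?_)
  obtain ⟨x, hx, rfl⟩ := hg.mem_im.1 (hi.ge hy)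
  rw [av_congr_apply he α hx, hgg x hx, hhe _ (mem_im_of_mem hx), hgg _ (av_mem α hx)]
  show av β (g₀ (av α (k (g₀ x)))) = _
  rw [hkg x hx]

theorem conj_mem_sub (hE : E.IsInvariantIn F) (hP : P ≤ T) {a x : MulAut P} (ha : a ∈ F.autGroup P)
    (hx : x ∈ E.autGroup P) : a * x * a⁻¹ ∈ E.autGroup P := by
  rw [← congr_self_eq]
  exact congr_mem_sub hE (map_of_mem_autGroup (hP.trans hE.2.1.1) ha) hP (im_av a)
    (fun y => (av_coe a y).symm) hx

theorem autGroup_sub_le (hE : E.IsInvariantIn F) (hP : P ≤ T) : E.autGroup P ≤ F.autGroup P :=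
  fun _ hα => by
    haveI := finite_of_le hE.2.1.1
    exact mem_autGroup_of_map ((map_of_mem_autGroup hP hα).of_sub hE.1)

/-- Centricity in an invariant subsystem is preserved by the maps of `F`. -/
theorem centric_sub (hE : E.IsInvariantIn F) (hP : E.IsCentric P) (hg : Map F P g) :
    centralizerIn T (im P g) ≤ im P g := by
  haveI := finite_of_le hE.2.1.1
  obtain ⟨β, hβ, g₀, hg₀, hgg⟩ := frattini_map hE hP.1 hg
  have hm := map_of_mem_autGroup hE.2.1.1 ((F.autGroup T).inv_mem hβ)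
  intro y hy
  obtain ⟨hyT, hyc⟩ := mem_centralizerIn.1 hy
  have hz : av β⁻¹ y ∈ im P g₀ := by
    refine hP.2 _ (isConj_iff.2 ⟨g₀, hg₀, rfl⟩) (mem_centralizerIn.2 ⟨av_mem _ hyT, fun w hw => ?_⟩)
    obtain ⟨x, hx, rfl⟩ := hg₀.mem_im.1 hw
    have h1 := hyc (g x) (mem_im_of_mem hx)
    rw [hgg x hx] at h1
    have h2 := congrArg (av β⁻¹) h1
    rwa [hm.map_mul (av_mem β (hg₀.mem hx)) hyT, hm.map_mul hyT (av_mem β (hg₀.mem hx)),
      av_inv_av β (hg₀.mem hx)] at h2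
  obtain ⟨x, hx, hxy⟩ := hg₀.mem_im.1 hz
  rw [show y = g x by rw [hgg x hx, hxy, av_av_inv β hyT]]
  exact mem_im_of_mem hx

theorem centric_of_sub_map (hE : E.IsInvariantIn F) (hP : E.IsCentric P) (hg : Map F P g) :
    E.IsCentric (im P g) := by
  refine ⟨im_le_iff.2 fun x hx => stronglyClosed_map hE.2.1 hg hx (hP.1 hx), fun Q hQ => ?_⟩
  obtain ⟨h, hh, rfl⟩ := isConj_iff.1 hQ
  rw [← hg.im_comp]
  exact centric_sub hE hP (hg.comp (hh.of_sub hE.1) fun x hx => mem_im_of_mem hx)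

theorem centric_other (hE : E.IsInvariantIn F) (hE' : E'.IsSubsystemOf F) (hP : E.IsCentric P) :
    E'.IsCentric P := by
  refine ⟨hP.1, fun Q hQ => ?_⟩
  obtain ⟨h, hh, rfl⟩ := isConj_iff.1 (isConj_of_sub hE' hQ)
  exact centric_sub hE hP hh

omit [Finite S] in
theorem exists_pow_p_part {G : Type*} [Group G] [Finite G] [Fact p.Prime] (g : G) :
    ∃ m : ℕ, ¬ p ∣ m ∧ ∃ k : ℕ, orderOf (g ^ m) = p ^ k := by
  obtain ⟨k, m, hm, h⟩ := Nat.exists_eq_pow_mul_and_not_dvd (orderOf_pos g).ne' p (Fact.out : p.Prime).ne_one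
  refine ⟨m, hm, k, ?_⟩
  have hm0 : m ≠ 0 := fun h0 => hm (h0 ▸ dvd_zero p)
  rw [orderOf_pow' g hm0, h, Nat.gcd_mul_left_left, Nat.mul_div_cancel _ (Nat.pos_of_ne_zero hm0)]

omit [Finite S] in
theorem mem_of_pow_coprime {G : Type*} [Group G] [Finite G] [Fact p.Prime] {H : Subgroup G} {g : G}
    {k m : ℕ} (hk : orderOf g = p ^ k) (hm : ¬ p ∣ m) (h : g ^ m ∈ H) : g ∈ H := by
  have hc : (orderOf g).Coprime m := hk ▸ ((Fact.out : p.Prime).coprime_iff_not_dvd.2 hm).pow_left k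
  obtain ⟨n, hn⟩ := exists_pow_eq_self_of_coprime hc.symm
  rw [← hn]; exact H.pow_mem h n

variable [Fact p.Prime]

/-- The generators of `O^{p'}(E)` lie in every weakly normal subsystem over the same subgroup. -/
theorem pResAut_le_other (hS : IsPGroup p S) (hE : E.IsWeaklyNormalIn F p)
    (hE' : E'.IsWeaklyNormalIn F p) (hP : E.IsCentric P) :
    pResAut p (E.autGroup P) ≤ E'.autGroup P := by
  obtain ⟨hEs, hFs, hEi⟩ := hE
  have hT := hEi.2.1
  haveI := finite_of_le hT.1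
  refine pResAut_induction fun β hβ hk => ?_
  obtain ⟨Q, hPQ, hQn⟩ := exists_fullyNormalized (F := F) (hP.1.trans hT.1)
  obtain ⟨g, hg, hi⟩ := isConj_iff.1 hPQ
  have hQT : Q ≤ T := hi ▸ im_le_iff.2 fun x hx => stronglyClosed_map hT hg hx (hP.1 hx)
  obtain ⟨e, he⟩ := exists_equiv hg hi
  haveI := mulAut_finite_of_le hQn.1
  have hQE := fn_of_sub hS hFs hT hEi.1 hQT hQn
  have hsyl := (fa_iff.1 (fc_fa_of_fn (hS.to_le hT.1) hEs hQE).2).2
  have hpa : IsPGroup p (Subgroup.zpowers (MulAut.congr e β)) := by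
    obtain ⟨k, hk⟩ := hk
    exact IsPGroup.of_card (n := k) (by
      rw [Nat.card_zpowers]
      exact (orderOf_injective (MulAut.congr e).toMonoidHom (MulAut.congr e).injective β).trans hk)
  obtain ⟨c, hc, hle⟩ := hsyl.conj_le hpa
    (Subgroup.zpowers_le.2 (congr_mem_sub hEi hg hP.1 hi he hβ))
  have h1 : c * MulAut.congr e β * c⁻¹ ∈ E'.autGroup Q :=
    autInducedBy_le_autGroup hQT (hle (conj_mem_cj (Subgroup.mem_zpowers _)))
  have h2 := conj_mem_sub hE'.2.2 hQT ((F.autGroup Q).inv_mem (autGroup_sub_le hEi hQT hc)) h1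
  rw [show c⁻¹ * (c * MulAut.congr e β * c⁻¹) * c⁻¹⁻¹ = MulAut.congr e β by group] at h2
  obtain ⟨k, hkm, hkg, hgk, hki⟩ := hg.exists_inv
  rw [hi] at hkm hki
  have h3 := congr_mem_sub hE'.2.2 hkm hQT hki (e := e.symm) (fun y => by
    obtain ⟨x, rfl⟩ := e.surjective y
    rw [e.symm_apply_apply, he, hkg x x.2]) h2
  convert h3 using 1
  ext x
  simp [MulAut.congr]

/-- The group of automorphisms of `T` from two subsystems. -/
def autJoin (E E' : FusionSystem T) : Subgroup (MulAut T) := E.autGroup T ⊔ E'.autGroup T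

omit [Fact p.Prime] in
theorem autJoin_le (hE : E.IsInvariantIn F) (hE' : E'.IsInvariantIn F) :
    autJoin E E' ≤ F.autGroup T :=
  sup_le (autGroup_sub_le hE le_rfl) (autGroup_sub_le hE' le_rfl)

/-- A map of `E` followed by an element of `autJoin`. -/
def JMap (E E' : FusionSystem T) (R : Subgroup Ω) (f : Ω → Ω) : Prop :=
  ∃ θ ∈ autJoin E E', ∃ x, Map E R x ∧ ∀ r ∈ R, f r = av θ (x r)

omit [Fact p.Prime] in
theorem conj_mem_autJoin (hE : E.IsInvariantIn F) (hE' : E'.IsInvariantIn F) {a x : MulAut T}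
    (ha : a ∈ F.autGroup T) (hx : x ∈ autJoin E E') : a * x * a⁻¹ ∈ autJoin E E' := by
  have : autJoin E E' ≤ (autJoin E E').comap (MulAut.conj a).toMonoidHom :=
    sup_le (fun y hy => Subgroup.mem_sup_left (conj_mem_sub hE le_rfl ha hy))
      fun y hy => Subgroup.mem_sup_right (conj_mem_sub hE' le_rfl ha hy)
  exact this hx

omit [Fact p.Prime] [Finite S] in
theorem JMap.mem (h : JMap E E' R f) {r : Ω} (hr : r ∈ R) : f r ∈ T := by
  obtain ⟨θ, hθ, x, hx, he⟩ := h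
  rw [he r hr]; exact av_mem θ (hx.mem hr)

omit [Fact p.Prime] [Finite S] in
theorem jMap_of_map (h : Map E R f) : JMap E E' R f :=
  ⟨1, Subgroup.one_mem _, f, h, fun _ hr => (av_one (h.mem hr)).symm⟩

omit [Fact p.Prime] in
theorem JMap.comp (hE : E.IsInvariantIn F) (hE' : E'.IsInvariantIn F) (hf : JMap E E' R f)
    (hg : JMap E E' Q g) (hm : ∀ r ∈ R, f r ∈ Q) : JMap E E' R (g ∘ f) := by
  obtain ⟨θ, hθ, x, hx, hfe⟩ := hf
  obtain ⟨θ', hθ', y, hy, hge⟩ := hg
  obtain ⟨h, hh, hhe⟩ := inv_map hE hy ((F.autGroup T).inv_mem (autJoin_le hE hE' hθ))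
  have hmem : ∀ r ∈ R, x r ∈ im Q (av θ⁻¹) := fun r hr => by
    have h1 := mem_im_of_mem (f := av θ⁻¹) (hm r hr)
    rwa [hfe r hr, av_inv_av θ (hx.mem hr)] at h1
  refine ⟨θ' * θ, Subgroup.mul_mem _ hθ' hθ, h ∘ x, hx.comp hh hmem, fun r hr => ?_⟩
  have hxr : x r = av θ⁻¹ (f r) := by rw [hfe r hr, av_inv_av θ (hx.mem hr)]
  show g (f r) = av (θ' * θ) (h (x r))
  rw [hxr, hhe _ (hm r hr), av_mul _ _ (av_mem _ (hy.mem (hm r hr))), av_av_inv θ (hy.mem (hm r hr)),
    hge _ (hm r hr)]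

omit [Fact p.Prime] in
theorem JMap.pow (hE : E.IsInvariantIn F) (hE' : E'.IsInvariantIn F) (hR : R ≤ T) {α : MulAut R}
    (h : JMap E E' R (av α)) (n : ℕ) : JMap E E' R (av (α ^ n)) := by
  induction n with
  | zero => exact jMap_of_map ((map_id hR).congr fun x hx => by rw [pow_zero, av_one hx]; rfl)
  | succ n ih =>
    obtain ⟨θ, hθ, x, hx, he⟩ := h.comp hE hE' ih fun r hr => av_mem α hr
    exact ⟨θ, hθ, x, hx, fun r hr => by rw [pow_succ, av_mul _ _ hr]; exact he r hr⟩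

omit [Fact p.Prime] in
theorem JMap.transport (hE : E.IsInvariantIn F) (hE' : E'.IsInvariantIn F) (hR : R ≤ T)
    (hg : Map F R g) (hi : im R g = Q) {e : R ≃* Q} (he : ∀ r : R, (e r : Ω) = g r) {α : MulAut R}
    (h : JMap E E' R (av α)) : JMap E E' Q (av (MulAut.congr e α)) := by
  haveI := finite_of_le hE.2.1.1
  obtain ⟨β, hβ, g₀, hg₀, hgg⟩ := frattini_map hE hR hg
  obtain ⟨k, hk, hkg, hgk, -⟩ := hg₀.exists_inv
  obtain ⟨θ, hθ, x, hx, hex⟩ := ((jMap_of_map hk).comp hE hE' h fun y hy => (hgk y hy).2).comp hE hE'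
    (jMap_of_map hg₀) fun y hy => av_mem α (hgk y hy).2
  obtain ⟨x', hx', hxe⟩ := inv_map hE hx hβ
  have hset : im (im R g₀) (av β) = Q := by
    rw [← hi, ← hg₀.im_comp]
    exact im_congr fun r hr => (hgg r hr).symm
  rw [hset] at hx'
  refine ⟨β * θ * β⁻¹, conj_mem_autJoin hE hE' hβ hθ, x', hx', fun y hy => ?_⟩
  obtain ⟨r, hr, rfl⟩ := hg.mem_im.1 (hi.ge hy)
  have hr0 : g₀ r ∈ im R g₀ := mem_im_of_mem hr
  have h1 := hex (g₀ r) hr0
  simp only [Function.comp_apply, hkg r hr] at h1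
  rw [av_congr_apply he α hr, hgg r hr, hxe _ hr0, hgg _ (av_mem α hr), h1,
    av_mul _ _ (av_mem β (hx.mem hr0)), av_inv_av β (hx.mem hr0), av_mul _ _ (hx.mem hr0)]

omit [Fact p.Prime] in
theorem jMap_other_top (hd : P = T) {α : MulAut P} (hα : α ∈ E'.autGroup P) [Finite T] :
    JMap E E' P (av α) := by
  subst hd
  exact ⟨α, Subgroup.mem_sup_right hα, id, map_id le_rfl, fun r _ => rfl⟩

/-- Every map of `E'` is a `JMap`. -/
theorem jMap_of_other (hS : IsPGroup p S) (hE : E.IsWeaklyNormalIn F p)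
    (hE' : E'.IsWeaklyNormalIn F p) (hf : Map E' R f) : JMap E E' R f := by
  have hT := hE.2.2.2.1
  haveI := finite_of_le hT.1
  have hgen : ∀ P : Subgroup Ω, E'.IsCentric P →
      pResAut p (E'.autGroup P) ≤ (interSys E' {E}).autGroup P := fun P hP α hα =>
    mem_autGroup_of_map (map_interSys.2 ⟨map_of_mem_autGroup hP.1 (pResAut_le _ hα), by
      rintro D rfl
      exact map_of_mem_autGroup hP.1 (pResAut_le_other hS hE' hE hP hα)⟩)
  obtain ⟨β, hβ, x, hx, he⟩ := fac_of_map (hS.to_le hT.1) hE'.1 hgen hf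
  exact ⟨β, Subgroup.mem_sup_right hβ, x, (map_interSys.1 hx.map).2 E rfl, he⟩

/-- A `p`-element automorphism in the join lies in `E`. -/
theorem mem_of_jMap (hS : IsPGroup p S) (hE : E.IsWeaklyNormalIn F p)
    (hE' : E'.IsWeaklyNormalIn F p) (hR : E.IsCentric R) {δ : MulAut R} (hδ : δ ∈ F.autGroup R)
    (hk : ∃ k : ℕ, orderOf δ = p ^ k) (hJ : JMap E E' R (av δ)) : δ ∈ E.autGroup R := by
  have hT := hE.2.2.2.1
  haveI := finite_of_le hT.1
  have hTp := hS.to_le hT.1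
  have hEi := hE.2.2
  suffices ∀ n, ∀ R : Subgroup Ω, Nat.card T - Nat.card R = n → E.IsCentric R →
      ∀ δ : MulAut R, δ ∈ F.autGroup R → (∃ k : ℕ, orderOf δ = p ^ k) → JMap E E' R (av δ) →
      δ ∈ E.autGroup R from this _ R rfl hR δ hδ hk hJ
  intro n
  induction n using Nat.strong_induction_on with
  | _ n ih =>
  intro R hn hR δ hδ hk hJ
  rcases eq_or_lt_of_le hR.1 with rfl | hlt
  · obtain ⟨θ, hθ, x, hx, he⟩ := hJ
    haveI := mulAut_finite_of_le (le_refl R)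
    obtain ⟨xα, hxα, hxe⟩ := exists_aut hx (Subgroup.eq_of_le_of_card_ge hx.im_le hx.card_im.ge)
    have hδe : δ = θ * xα := aut_ext fun r hr => by rw [av_mul _ _ hr, hxe r hr, he r hr]
    have hn' : E'.autGroup R ≤ Subgroup.normalizer (E.autGroup R : Set (MulAut R)) := fun a ha =>
      Subgroup.mem_normalizer_iff.2 fun y => ⟨fun hy => conj_mem_sub hEi le_rfl
        (autGroup_sub_le hE'.2.2 le_rfl ha) hy, fun hy => by
        have := conj_mem_sub hEi le_rfl
          ((F.autGroup R).inv_mem (autGroup_sub_le hE'.2.2 le_rfl ha)) hy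
        simpa [mul_assoc] using this⟩
    have hmem : δ ∈ ((E'.autGroup R ⊔ E.autGroup R : Subgroup (MulAut R)) : Set (MulAut R)) := by
      rw [hδe]
      exact Subgroup.mul_mem _ (by rw [sup_comm]; exact hθ) (Subgroup.mem_sup_right hxα)
    rw [Subgroup.coe_mul_of_left_le_normalizer_right _ _ hn'] at hmem
    obtain ⟨d, hd, c, hc, rfl⟩ := hmem
    obtain ⟨m, hm, j, hj⟩ := exists_pow_p_part (p := p) d
    have hpow : ∀ i : ℕ, ∃ c' ∈ E.autGroup R, (d * c) ^ i = d ^ i * c' := by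
      intro i
      induction i with
      | zero => exact ⟨1, Subgroup.one_mem _, by simp⟩
      | succ i ihi =>
        obtain ⟨c', hc', he'⟩ := ihi
        refine ⟨d⁻¹ * c' * d * c, Subgroup.mul_mem _ ?_ hc, by rw [pow_succ, he', pow_succ]; group⟩
        simpa using (Subgroup.mem_normalizer_iff.1 (hn' ((E'.autGroup R).inv_mem hd)) c').1 hc'
    obtain ⟨c', hc', he'⟩ := hpow m
    obtain ⟨k, hk⟩ := hk
    refine mem_of_pow_coprime hk hm ?_
    rw [he']
    refine Subgroup.mul_mem _ (pResAut_le_other hS hE' hE ?_ (mem_pResAut (Subgroup.pow_mem _ hd m) ⟨j, hj⟩)) hc'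
    exact centric_other hEi hE'.2.2.1 hR
  obtain ⟨Q, hRQ, hQn⟩ := exists_fullyNormalized (F := F) (hR.1.trans hT.1)
  obtain ⟨g, hg, hi⟩ := isConj_iff.1 hRQ
  have hQT : Q ≤ T := hi ▸ im_le_iff.2 fun x hx => stronglyClosed_map hT hg hx (hR.1 hx)
  obtain ⟨e, he⟩ := exists_equiv hg hi
  haveI := mulAut_finite_of_le hQn.1
  haveI := mulAut_finite_of_le (hR.1.trans hT.1)
  have hpa : IsPGroup p (Subgroup.zpowers (MulAut.congr e δ)) := by
    obtain ⟨k, hk⟩ := hk
    exact IsPGroup.of_card (n := k) (by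
      rw [Nat.card_zpowers]
      exact (orderOf_injective (MulAut.congr e).toMonoidHom (MulAut.congr e).injective δ).trans hk)
  obtain ⟨c, hc, hle⟩ := (fa_iff.1 (fc_fa_of_fn hS hE.2.1 hQn).2).2.conj_le hpa
    (Subgroup.zpowers_le.2 (congr_mem_autGroup hg hi he hδ))
  set η := c * MulAut.congr e δ * c⁻¹ with hη
  have hηS : η ∈ autInducedBy S Q := hle (conj_mem_cj (Subgroup.mem_zpowers _))
  have hηJ : JMap E E' Q (av η) := by
    rw [hη, ← congr_self_eq]
    exact (hJ.transport hEi hE'.2.2 hR.1 hg hi he).transport hEi hE'.2.2 hQT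
      (map_of_mem_autGroup hQn.1 hc) (im_av c) fun y => (av_coe c y).symm
  suffices hηE : η ∈ E.autGroup Q by
    have h2 := conj_mem_sub hEi hQT ((F.autGroup Q).inv_mem hc) hηE
    rw [hη, show c⁻¹ * (c * MulAut.congr e δ * c⁻¹) * c⁻¹⁻¹ = MulAut.congr e δ by group] at h2
    obtain ⟨k, hkm, hkg, hgk, hki⟩ := hg.exists_inv
    rw [hi] at hkm hki
    have h3 := congr_mem_sub hEi hkm hQT hki (e := e.symm) (fun y => by
      obtain ⟨x, rfl⟩ := e.surjective y
      rw [e.symm_apply_apply, he, hkg x x.2]) h2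
    convert h3 using 1
    ext x
    simp [MulAut.congr]
  obtain ⟨s, hs, hsη⟩ := mem_autInducedBy.1 hηS
  obtain ⟨θ, hθ, x, hx, hex⟩ := id hηJ
  have hQc : E.IsCentric Q := hi ▸ centric_of_sub_map hEi hR hg
  have hxc : E.IsCentric (im Q x) := centric_of_sub_map hEi hQc (hx.of_sub hEi.1)
  obtain ⟨x', hx', hx'x⟩ := (receptive_iff.1
    (receptive_of_fc hTp hE.1 (fc_of_centric hxc))).2 Q x hx rfl
  set R' := normalizerIn T Q with hR'
  have hsT : ∀ w ∈ T, s * w * s⁻¹ ∈ T := fun w hw =>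
    stronglyClosed_map hT (map_conjBy (F := F) le_rfl hs) (hT.1 hw) hw
  have hsn := mem_normalizer_of_conj_aut hsη
  have hθm := map_of_mem_autGroup hT.1 ((F.autGroup T).inv_mem (autJoin_le hEi hE'.2.2 hθ))
  have hR'N : R' ≤ Nf T Q x := by
    intro w hw
    refine ⟨hw.1, hw.2, av θ⁻¹ (s * w * s⁻¹), av_mem _ (hsT w hw.1), fun q hq => ?_⟩
    have h1 := hex _ (conj_mem_of_normalizer hw.2 hq)
    have h2 := hex q hq
    rw [hsη _ hq] at h2
    rw [hsη _ (conj_mem_of_normalizer hw.2 hq)] at h1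
    have hsq : s * q * s⁻¹ ∈ T := hsT q (hQT hq)
    have h3 := congrArg (av θ⁻¹) h1
    rw [av_inv_av θ (hx.mem (conj_mem_of_normalizer hw.2 hq)),
      show s * (w * q * w⁻¹) * s⁻¹ = (s * w * s⁻¹) * (s * q * s⁻¹) * (s * w * s⁻¹)⁻¹ by group,
      hθm.map_conj (hsT w hw.1) hsq, h2, av_inv_av θ (hx.mem hq)] at h3
    exact h3.symm
  have hx'R := hx'.restrict hR'N
  have hQR' : Q ≤ R' := le_normalizerIn hQT
  have hε : Map F R' (av θ ∘ x') := (hx'R.of_sub hEi.1).comp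
    ((map_of_mem_autGroup hT.1 (autJoin_le hEi hE'.2.2 hθ))) fun r hr => hx'R.mem hr
  have hεQ : ∀ q ∈ Q, (av θ ∘ x') q = av η q := fun q hq => by
    show av θ (x' q) = _
    rw [hx'x q hq, hex q hq]
  have hεi : im R' (av θ ∘ x') = R' := by
    haveI : Finite ↥R' := finite_of_le inf_le_left
    refine Subgroup.eq_of_le_of_card_ge (im_le_iff.2 fun r hr =>
      ⟨av_mem θ (hx'R.mem hr), ?_⟩) hε.card_im.ge
    have := hε.mem_normalizer hQR' hr hr.2
    rw [show im Q (av θ ∘ x') = Q by rw [im_congr hεQ, im_av]] at this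
    exact this.2
  obtain ⟨ε, hεm, hεe⟩ := exists_aut hε hεi
  haveI := mulAut_finite_of_le (show R' ≤ T from inf_le_left)
  obtain ⟨m, hm, j, hj⟩ := exists_pow_p_part (p := p) ε
  have hεJ : JMap E E' R' (av (ε ^ m)) := by
    refine JMap.pow hEi hE'.2.2 inf_le_left ?_ m
    exact ⟨θ, hθ, x', hx'R, fun r hr => hεe r hr⟩
  have hεE := ih _ (by
      have h1 := card_lt_of_lt (lt_normalizerIn hTp (lt_of_le_of_ne hQT fun he => by
        have := card_lt_of_lt hlt le_rfl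
        rw [isConj_card hRQ, he] at this
        omega)) inf_le_left
      rw [← hR'] at h1
      have h2 := Subgroup.card_le_of_le (show R' ≤ T from inf_le_left)
      rw [isConj_card hRQ] at hn
      omega) R' rfl (centric_mono hQc hQR' inf_le_left) (ε ^ m) (Subgroup.pow_mem _ hεm m) ⟨j, hj⟩ hεJ
  have hηm : η ^ m ∈ E.autGroup Q := by
    refine mem_autGroup_of_map (((map_of_mem_autGroup inf_le_left hεE).restrict hQR').congr fun q hq => ?_)
    exact av_pow hQR' (fun q hq => (hεe q (hQR' hq)).trans (hεQ q hq)) m q hq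
  obtain ⟨k, hk⟩ := hk
  refine mem_of_pow_coprime (k := k) ?_ hm hηm
  rw [hη]
  exact ((orderOf_injective (MulAut.conj c).toMonoidHom (MulAut.conj c).injective _).trans
    (orderOf_injective (MulAut.congr e).toMonoidHom (MulAut.congr e).injective δ)).trans hk

/-- Within a weakly normal subsystem, every other one is detected on centric subgroups. -/
theorem map_other_of_centric (hS : IsPGroup p S) (hE : E.IsWeaklyNormalIn F p)
    (hE' : E'.IsWeaklyNormalIn F p) (hf : Map E P f) (hQP : Q ≤ P) (hQ : E.IsCentric Q)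
    (h : Map E' Q f) : Map E' P f := by
  have hT := hE.2.2.2.1
  haveI := finite_of_le hT.1
  have hTp := hS.to_le hT.1
  suffices ∀ n, ∀ Q : Subgroup Ω, Nat.card P - Nat.card Q = n → E.IsCentric Q → Q ≤ P → Map E' Q f →
      Map E' P f from this _ Q rfl hQ hQP h
  intro n
  induction n using Nat.strong_induction_on with
  | _ n ih =>
  intro Q hn hQ hQP h
  rcases eq_or_lt_of_le hQP with rfl | hlt
  · exact h
  set R := P ⊓ Subgroup.normalizer (Q : Set Ω)
  have hQR : Q < R := lt_inf_normalizer hTp hlt hf.le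
  have hfR : Map E R f := hf.restrict inf_le_left
  have hQ'c : E.IsCentric (im Q f) := centric_of_sub_map hE.2.2 hQ ((hf.restrict hQP).of_sub hE.2.2.1)
  obtain ⟨ψ, hψ, hψf⟩ := (receptive_iff.1 (receptive_of_fc hTp hE'.1
    (fc_of_centric (centric_other hE.2.2 hE'.2.2.1 hQ'c)))).2 Q f h rfl
  have hRN : R ≤ Nf T Q f := fun r hr =>
    ⟨hf.le hr.1, hr.2, f r, hf.mem hr.1, fun x hx => hf.map_conj hr.1 (hQP hx)⟩
  have hψR := hψ.restrict hRN
  haveI := finite_of_le hfR.le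
  haveI := mulAut_finite_of_le hfR.le
  have hdiff : ∀ r ∈ R, (f r)⁻¹ * ψ r ∈ im Q f := by
    intro r hr
    refine hQ'c.2 _ (isConj_refl hQ'c.1)
      (mem_centralizerIn.2 ⟨T.mul_mem (T.inv_mem (hfR.mem hr)) (hψR.mem hr), fun y hy => ?_⟩)
    obtain ⟨q, hq, rfl⟩ := (hf.restrict hQP).mem_im.1 hy
    have hc : r * q * r⁻¹ ∈ Q := conj_mem_of_normalizer hr.2 hq
    have h1 := hψf _ hc
    rw [hψR.map_conj hr (hQR.le hq), hfR.map_conj hr (hQR.le hq), hψf q hq] at h1
    calc f q * ((f r)⁻¹ * ψ r) = (f r)⁻¹ * (f r * f q * (f r)⁻¹) * ψ r := by group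
      _ = (f r)⁻¹ * (ψ r * f q * (ψ r)⁻¹) * ψ r := by rw [h1]
      _ = _ := by group
  obtain ⟨k, hk, hkf, hfk, -⟩ := hfR.exists_inv
  have hm : ∀ r ∈ R, ψ r ∈ im R f := fun r hr => by
    simpa using (im R f).mul_mem (mem_im_of_mem hr) (im_mono hQR.le (hdiff r hr))
  have hθ : Map F R (k ∘ ψ) := (hψR.of_sub hE'.2.2.1).comp (hk.of_sub hE.2.2.1) hm
  have hθi : im R (k ∘ ψ) = R :=
    Subgroup.eq_of_le_of_card_ge (im_le_iff.2 fun r hr => (hfk _ (hm r hr)).2) hθ.card_im.ge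
  obtain ⟨δ, hδ, hδe⟩ := exists_aut hθ hθi
  have hδQ : ∀ x ∈ Q, av δ x = x := fun x hx => by
    rw [hδe x (hQR.le hx)]
    show k (ψ x) = x
    rw [hψf x hx, hkf x (hQR.le hx)]
  have hδR : ∀ r ∈ R, r⁻¹ * av δ r ∈ Q := by
    intro r hr
    obtain ⟨u, hu, hu'⟩ := (hf.restrict hQP).mem_im.1 (hdiff r hr)
    have h1 : ψ r = f (r * u) := by rw [hfR.map_mul hr (hQR.le hu), hu', mul_inv_cancel_left]
    rw [hδe r hr]
    show r⁻¹ * k (ψ r) ∈ Q
    rw [h1, hkf _ (R.mul_mem hr (hQR.le hu))]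
    simpa using hu
  obtain ⟨j, hj⟩ := exists_pow_eq_one_of_stabilizes (hTp.to_le hfR.le) (α := δ)
    (fun i => if i = 0 then ⊥ else if i = 1 then Q else R) 2 rfl (by simp)
    (monotone_nat_of_le_succ fun i => by rcases i with _ | _ | i <;> simp [hQR.le])
    (fun i hi x hx hxC => by
      rcases i with _ | _ | i
      · simp only [zero_add, one_ne_zero, if_false, if_true] at hxC ⊢
        rw [Subgroup.mem_bot, hδQ x hxC, inv_mul_cancel]
      · simpa using hδR x hx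
      · omega)
  obtain ⟨i, -, hi⟩ := (Nat.dvd_prime_pow Fact.out).1 (orderOf_dvd_of_pow_eq_one hj)
  have hRc : E.IsCentric R := centric_mono hQ hQR.le hfR.le
  have hJ : JMap E E' R (av δ) := by
    obtain ⟨θ, hθ', x, hx, he⟩ :=
      (jMap_of_other hS hE hE' hψR).comp hE.2.2 hE'.2.2 (jMap_of_map hk) hm
    exact ⟨θ, hθ', x, hx, fun r hr => (hδe r hr).trans (he r hr)⟩
  have hδE := mem_of_jMap hS hE hE' hRc hδ ⟨i, hi⟩ hJ
  have hδE' : δ⁻¹ ∈ E'.autGroup R :=
    (E'.autGroup R).inv_mem (pResAut_le_other hS hE hE' hRc (mem_pResAut hδE ⟨i, hi⟩))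
  refine ih _ ?_ R rfl hRc inf_le_left (((map_of_mem_autGroup hfR.le hδE').comp hψR
    fun r hr => av_mem _ hr).congr fun r hr => ?_)
  · have h1 := card_lt_of_lt hQR hfR.le
    haveI := finite_of_le hf.le
    have h2 : Nat.card R ≤ Nat.card P := Subgroup.card_le_of_le inf_le_left
    omega
  · show ψ (av δ⁻¹ r) = f r
    have hr' := av_mem δ⁻¹ hr
    have h1 : k (ψ (av δ⁻¹ r)) = r := by
      have := hδe _ hr'
      rw [av_av_inv δ hr] at this
      exact this.symm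
    rw [← (hfk _ (hm _ hr')).1, h1]

/-- `O^{p'}(E)` lies in every weakly normal subsystem over the same subgroup. -/
theorem primeResidual_le_other (hS : IsPGroup p S) (hE : E.IsWeaklyNormalIn F p)
    (hE' : E'.IsWeaklyNormalIn F p) {D : FusionSystem T} (hD : E.IsPPrimeResidual p D) :
    D.IsSubsystemOf E' := by
  haveI := finite_of_le hE.2.2.2.1.1
  have hC : CentClosed E p (interSys E {E'}) := by
    refine ⟨fun P hP α hα => mem_autGroup_of_map (map_interSys.2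
      ⟨map_of_mem_autGroup hP.1 (pResAut_le _ hα), ?_⟩), fun P Q f hf hQP hQ h => map_interSys.2 ⟨hf, ?_⟩⟩
    · rintro X rfl
      exact map_of_mem_autGroup hP.1 (pResAut_le_other hS hE hE' hP hα)
    · rintro X rfl
      exact map_other_of_centric hS hE hE' hf hQP hQ ((map_interSys.1 h).2 _ rfl)
  have hres := isPPrimeResidual_primeRes (hS.to_le hE.2.2.2.1.1) hE.1
  intro P φ hφ
  have h1 : φ ∈ (primeRes E p).Hom P := hD.2.2 _ hres.1 hres.2.1 P hφ
  exact (h1.2 _ hC).2 E' rfl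

end Cfsg.Agent.Local.FS
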