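import Cfsg.Agent.Lib.Local.FS.Normal
import Cfsg.Prelude.Def_FusionComponents

set_option autoImplicit false

namespace Cfsg.Agent.Local.FS

open Cfsg Cfsg.FusionSystem

section Prod

variable {Ω₁ Ω₂ : Type*} [Group Ω₁] [Group Ω₂] {S₁ : Subgroup Ω₁} {S₂ : Subgroup Ω₂}
  (F₁ : FusionSystem S₁) (F₂ : FusionSystem S₂)

/-- The maps of a product system. -/
def ProdMap {P : Subgroup (Ω₁ × Ω₂)} (φ : P →* Ω₁ × Ω₂) : Prop :=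
  P ≤ S₁.prod S₂ ∧ ∃ f₁ f₂, Map F₁ (P.map (MonoidHom.fst Ω₁ Ω₂)) f₁ ∧
    Map F₂ (P.map (MonoidHom.snd Ω₁ Ω₂)) f₂ ∧
    ∀ x : P, φ x = (f₁ (x : Ω₁ × Ω₂).1, f₂ (x : Ω₁ × Ω₂).2)

theorem prodMap_iff {P : Subgroup (Ω₁ × Ω₂)} {φ : P →* Ω₁ × Ω₂} :
    ProdMap F₁ F₂ φ ↔ P ≤ S₁.prod S₂ ∧
      ∃ φ₁ ∈ F₁.Hom (P.map (MonoidHom.fst Ω₁ Ω₂)), ∃ φ₂ ∈ F₂.Hom (P.map (MonoidHom.snd Ω₁ Ω₂)),
        ∀ (x : P) (h₁ : (x : Ω₁ × Ω₂).1 ∈ P.map (MonoidHom.fst Ω₁ Ω₂))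
          (h₂ : (x : Ω₁ × Ω₂).2 ∈ P.map (MonoidHom.snd Ω₁ Ω₂)),
          φ x = (φ₁ ⟨(x : Ω₁ × Ω₂).1, h₁⟩, φ₂ ⟨(x : Ω₁ × Ω₂).2, h₂⟩) := by
  refine and_congr_right fun _ => ⟨?_, ?_⟩
  · rintro ⟨f₁, f₂, ⟨φ₁, h₁, e₁⟩, ⟨φ₂, h₂, e₂⟩, h⟩
    exact ⟨φ₁, h₁, φ₂, h₂, fun x _ _ => by rw [h, e₁, e₂]⟩
  · rintro ⟨φ₁, h₁, φ₂, h₂, h⟩
    refine ⟨fn φ₁, fn φ₂, map_of_mem h₁, map_of_mem h₂, fun x => ?_⟩
    have m₁ : (x : Ω₁ × Ω₂).1 ∈ P.map (MonoidHom.fst Ω₁ Ω₂) := ⟨x, x.2, rfl⟩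
    have m₂ : (x : Ω₁ × Ω₂).2 ∈ P.map (MonoidHom.snd Ω₁ Ω₂) := ⟨x, x.2, rfl⟩
    rw [h x m₁ m₂, fn_apply φ₁ m₁, fn_apply φ₂ m₂]

/-- The product system. -/
def prodSys : FusionSystem (S₁.prod S₂) where
  Hom _ := {φ | ProdMap F₁ F₂ φ}
  le_of_mem := by
    rintro P φ ⟨hP, f₁, f₂, h₁, h₂, h⟩
    refine ⟨hP, fun x => ?_⟩
    rw [h x]
    exact ⟨h₁.mem ⟨x, x.2, rfl⟩, h₂.mem ⟨x, x.2, rfl⟩⟩
  injective_of_mem := by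
    rintro P φ ⟨hP, f₁, f₂, h₁, h₂, h⟩ a b hab
    rw [h a, h b, Prod.mk.injEq] at hab
    exact Subtype.ext (Prod.ext (h₁.injOn ⟨a, a.2, rfl⟩ ⟨b, b.2, rfl⟩ hab.1)
      (h₂.injOn ⟨a, a.2, rfl⟩ ⟨b, b.2, rfl⟩ hab.2))
  conj_mem := by
    intro P g hP hg
    refine ⟨hP, fun x => g.1 * x * g.1⁻¹, fun x => g.2 * x * g.2⁻¹, map_conjBy ?_ hg.1,
      map_conjBy ?_ hg.2, fun x => rfl⟩
    · rintro _ ⟨x, hx, rfl⟩; exact (hP hx).1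
    · rintro _ ⟨x, hx, rfl⟩; exact (hP hx).2
  comp_mem := by
    rintro P R φ ψ ⟨hP, f₁, f₂, h₁, h₂, h⟩ ⟨-, g₁, g₂, k₁, k₂, k⟩ hm
    refine ⟨hP, g₁ ∘ f₁, g₂ ∘ f₂, h₁.comp k₁ ?_, h₂.comp k₂ ?_, fun x => ?_⟩
    · rintro _ ⟨x, hx, rfl⟩
      exact ⟨φ ⟨x, hx⟩, hm _, by rw [h]; rfl⟩
    · rintro _ ⟨x, hx, rfl⟩
      exact ⟨φ ⟨x, hx⟩, hm _, by rw [h]; rfl⟩
    · show ψ _ = _
      rw [k]
      show (g₁ (φ x).1, g₂ (φ x).2) = _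
      rw [h]; rfl
  inv_mem := by
    rintro P φ ⟨hP, f₁, f₂, h₁, h₂, h⟩
    have hinj : Function.Injective φ := by
      intro a b hab
      rw [h a, h b, Prod.mk.injEq] at hab
      exact Subtype.ext (Prod.ext (h₁.injOn ⟨a, a.2, rfl⟩ ⟨b, b.2, rfl⟩ hab.1)
        (h₂.injOn ⟨a, a.2, rfl⟩ ⟨b, b.2, rfl⟩ hab.2))
    let e := MonoidHom.ofInjective hinj
    have he : ∀ x : P, e.symm ⟨φ x, x, rfl⟩ = x := fun x =>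
      e.injective (by rw [e.apply_symm_apply]; rfl)
    refine ⟨P.subtype.comp e.symm.toMonoidHom, ⟨?_, ?_⟩, fun x => ?_⟩
    · rintro _ ⟨x, rfl⟩
      rw [h x]
      exact ⟨h₁.mem ⟨x, x.2, rfl⟩, h₂.mem ⟨x, x.2, rfl⟩⟩
    · obtain ⟨g₁, k₁, i₁, -, -⟩ := h₁.exists_inv
      obtain ⟨g₂, k₂, i₂, -, -⟩ := h₂.exists_inv
      refine ⟨g₁, g₂, k₁.restrict ?_, k₂.restrict ?_, ?_⟩
      · rintro _ ⟨_, ⟨x, rfl⟩, rfl⟩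
        rw [h x]; exact mem_im_of_mem ⟨x, x.2, rfl⟩
      · rintro _ ⟨_, ⟨x, rfl⟩, rfl⟩
        rw [h x]; exact mem_im_of_mem ⟨x, x.2, rfl⟩
      · rintro ⟨_, x, rfl⟩
        show ((e.symm ⟨φ x, x, rfl⟩ : P) : Ω₁ × Ω₂) = _
        rw [he x]
        show _ = (g₁ (φ x).1, g₂ (φ x).2)
        have m₁ : (x : Ω₁ × Ω₂).1 ∈ P.map (MonoidHom.fst Ω₁ Ω₂) := ⟨x, x.2, rfl⟩
        have m₂ : (x : Ω₁ × Ω₂).2 ∈ P.map (MonoidHom.snd Ω₁ Ω₂) := ⟨x, x.2, rfl⟩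
        rw [h x]
        show _ = (g₁ (f₁ (x : Ω₁ × Ω₂).1), g₂ (f₂ (x : Ω₁ × Ω₂).2))
        rw [i₁ _ m₁, i₂ _ m₂]
    · show ((e.symm ⟨φ x, x, rfl⟩ : P) : Ω₁ × Ω₂) = x
      rw [he x]

end Prod

section Factor

variable {Ω : Type*} [Group Ω] {S : Subgroup Ω} [Finite S] {F : FusionSystem S} {S₀ : Subgroup Ω}
  {Ω' : Type*} [Group Ω'] {θ : S →* Ω'}

theorem stronglyClosed_mem_iff (hS₀ : F.StronglyClosed S₀) {P : Subgroup Ω} {f : Ω → Ω}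
    (hf : Map F P f) (hP : S₀ ≤ P) {x : Ω} (hx : x ∈ P) : f x ∈ S₀ ↔ x ∈ S₀ := by
  refine ⟨fun h => ?_, fun h => stronglyClosed_map hS₀ hf hx h⟩
  obtain ⟨y, hy, he⟩ := (hf.restrict hP).surj_of_card_le hS₀.1
    (fun y hy => stronglyClosed_map hS₀ hf (hP hy) hy) le_rfl (f x) h
  exact hf.injOn (hP hy) hx he ▸ hy

theorem mem_preimageAlong {P' : Subgroup Ω'} {x : Ω} :
    x ∈ preimageAlong θ P' ↔ ∃ h : x ∈ S, θ ⟨x, h⟩ ∈ P' := by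
  constructor
  · rintro ⟨y, hy, rfl⟩; exact ⟨y.2, hy⟩
  · rintro ⟨h, hy⟩; exact ⟨⟨x, h⟩, hy, rfl⟩

theorem le_preimageAlong (hS₀S : S₀ ≤ S) (hker : ∀ s : S, θ s = 1 ↔ (s : Ω) ∈ S₀)
    (P' : Subgroup Ω') : S₀ ≤ preimageAlong θ P' := fun x hx =>
  mem_preimageAlong.2 ⟨hS₀S hx, by rw [(hker ⟨x, hS₀S hx⟩).2 hx]; exact P'.one_mem⟩

/-- `φ'` is induced on `P'` by `f`. -/
def FMap (F : FusionSystem S) (θ : S →* Ω') {P' : Subgroup Ω'} (φ' : P' →* Ω') : Prop :=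
  ∃ f : Ω → Ω, Map F (preimageAlong θ P') f ∧ ∀ (x : S) (hx : θ x ∈ P') (hfx : f x ∈ S),
    φ' ⟨θ x, hx⟩ = θ ⟨f x, hfx⟩

theorem fmap_iff {P' : Subgroup Ω'} {φ' : P' →* Ω'} :
    FMap F θ φ' ↔ ∃ φ ∈ F.Hom (preimageAlong θ P'), InducedAlong θ φ φ' := by
  constructor
  · rintro ⟨f, ⟨φ, hφ, he⟩, h⟩
    refine ⟨φ, hφ, fun x hx => (mem_preimageAlong.1 hx).1, fun x => (F.le_of_mem hφ).2 x,
      fun x => (mem_preimageAlong.1 x.2).2, fun x => ?_⟩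
    have hfx : f x ∈ S := he x ▸ (F.le_of_mem hφ).2 x
    rw [h ⟨x, _⟩ _ hfx]
    exact congrArg θ (Subtype.ext (he x).symm)
  · rintro ⟨φ, hφ, hP, hm, hm', h⟩
    refine ⟨fn φ, map_of_mem hφ, fun x hx hfx => ?_⟩
    have hx' : (x : Ω) ∈ preimageAlong θ P' := mem_preimageAlong.2 ⟨x.2, hx⟩
    refine (h ⟨x, hx'⟩).trans (congrArg θ (Subtype.ext ?_))
    exact (fn_apply φ hx').symm

theorem fmap_injective (hS₀ : F.StronglyClosed S₀) (hker : ∀ s : S, θ s = 1 ↔ (s : Ω) ∈ S₀)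
    (hsurj : Function.Surjective θ) {P' : Subgroup Ω'} {φ' : P' →* Ω'} (h : FMap F θ φ') :
    Function.Injective φ' := by
  obtain ⟨f, hf, h⟩ := h
  refine (injective_iff_map_eq_one φ').2 ?_
  rintro ⟨a, ha⟩ he
  obtain ⟨x, rfl⟩ := hsurj a
  have hx : (x : Ω) ∈ preimageAlong θ P' := mem_preimageAlong.2 ⟨x.2, ha⟩
  rw [h x ha (hf.mem hx), hker] at he
  exact Subtype.ext ((hker x).2
    ((stronglyClosed_mem_iff hS₀ hf (le_preimageAlong hS₀.1 hker P') hx).1 he))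

/-- The factor system. -/
def factorSys (hS₀ : F.StronglyClosed S₀) (θ : S →* Ω')
    (hker : ∀ s : S, θ s = 1 ↔ (s : Ω) ∈ S₀) (hsurj : Function.Surjective θ) :
    FusionSystem (⊤ : Subgroup Ω') where
  Hom _ := {φ' | FMap F θ φ'}
  le_of_mem _ := ⟨le_top, fun _ => Subgroup.mem_top _⟩
  injective_of_mem h := fmap_injective hS₀ hker hsurj h
  conj_mem := by
    intro P' g' _ _
    obtain ⟨g, rfl⟩ := hsurj g'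
    refine ⟨fun x => (g : Ω) * x * (g : Ω)⁻¹,
      map_conjBy (fun x hx => (mem_preimageAlong.1 hx).1) g.2, fun x hx hfx => ?_⟩
    show θ g * θ x * (θ g)⁻¹ = _
    rw [← map_inv, ← map_mul, ← map_mul]
    rfl
  comp_mem := by
    rintro P' R' φ' ψ' ⟨f, hf, h⟩ ⟨g, hg, k⟩ hm
    refine ⟨g ∘ f, hf.comp hg fun x hx => ?_, fun x hx hfx => ?_⟩
    · obtain ⟨hxS, hx'⟩ := mem_preimageAlong.1 hx
      refine mem_preimageAlong.2 ⟨hf.mem hx, ?_⟩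
      rw [← h ⟨x, hxS⟩ hx' (hf.mem hx)]
      exact hm _
    · have hx' : (x : Ω) ∈ preimageAlong θ P' := mem_preimageAlong.2 ⟨x.2, hx⟩
      have h1 := h x hx (hf.mem hx')
      have h2 : θ ⟨f x, hf.mem hx'⟩ ∈ R' := by rw [← h1]; exact hm _
      show ψ' ⟨φ' ⟨θ x, hx⟩, hm _⟩ = _
      refine (congrArg ψ' (Subtype.ext h1 : (⟨φ' ⟨θ x, hx⟩, hm _⟩ : R') = ⟨_, h2⟩)).trans ?_
      exact k ⟨f x, hf.mem hx'⟩ h2 hfx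
  inv_mem := by
    intro P' φ' hφ'
    have hinj := fmap_injective hS₀ hker hsurj hφ'
    obtain ⟨f, hf, h⟩ := hφ'
    let e := MonoidHom.ofInjective hinj
    have he : ∀ x : P', e.symm ⟨φ' x, x, rfl⟩ = x := fun x =>
      e.injective (by rw [e.apply_symm_apply]; rfl)
    obtain ⟨g, hg, hgf, -, -⟩ := hf.exists_inv
    have hsub := le_preimageAlong hS₀.1 hker P'
    have hle : preimageAlong θ φ'.range ≤ im (preimageAlong θ P') f := by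
      intro y hy
      obtain ⟨hyS, ⟨a, ha⟩, hay⟩ := mem_preimageAlong.1 hy
      obtain ⟨x, rfl⟩ := hsurj a
      have hx : (x : Ω) ∈ preimageAlong θ P' := mem_preimageAlong.2 ⟨x.2, ha⟩
      rw [h x ha (hf.mem hx)] at hay
      have h1 : θ (⟨f x, hf.mem hx⟩⁻¹ * ⟨y, hyS⟩) = 1 := by rw [map_mul, map_inv, hay, inv_mul_cancel]
      have h2 : (f x)⁻¹ * y ∈ S₀ := (hker _).1 h1
      obtain ⟨z, hz, hze⟩ := (hf.restrict hsub).surj_of_card_le hS₀.1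
        (fun z hz => stronglyClosed_map hS₀ hf (hsub hz) hz) le_rfl _ h2
      exact hf.mem_im.2 ⟨x * z, Subgroup.mul_mem _ hx (hsub hz),
        by rw [hf.map_mul hx (hsub hz), hze, mul_inv_cancel_left]⟩
    refine ⟨P'.subtype.comp e.symm.toMonoidHom, ⟨g, hg.restrict hle, ?_⟩, fun x => congrArg Subtype.val (he x)⟩
    intro y hy hgy
    obtain ⟨z, hz, hzy⟩ := hf.mem_im.1 (hle (mem_preimageAlong.2 ⟨y.2, hy⟩))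
    obtain ⟨hzS, hz'⟩ := mem_preimageAlong.1 hz
    have h1 := h ⟨z, hzS⟩ hz' (hf.mem hz)
    have h2 : θ ⟨f z, hf.mem hz⟩ = θ y := congrArg θ (Subtype.ext hzy)
    have h3 : (⟨θ y, hy⟩ : φ'.range) = ⟨φ' ⟨θ ⟨z, hzS⟩, hz'⟩, _, rfl⟩ :=
      Subtype.ext (h2.symm.trans h1.symm)
    show ((e.symm ⟨θ y, hy⟩ : P') : Ω') = _
    rw [h3, he]
    refine congrArg θ (Subtype.ext ?_)
    show z = g (y : Ω)
    rw [← hzy, hgf z hz]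

end Factor

end Cfsg.Agent.Local.FS
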