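import Cfsg.Agent.Lib.Local.FS.Biset
import Cfsg.Agent.Lib.Local.FS.Focal

set_option autoImplicit false

namespace Cfsg.Agent.Local.FS

open Cfsg Cfsg.FusionSystem Cfsg.Agent.Fusion
open scoped commutatorElement

universe u

variable {Ω : Type u} [Group Ω] {S : Subgroup Ω} {F : FusionSystem S} {p : ℕ}

namespace CharBiset

variable (b : CharBiset F p)

/-- Right orbits. -/
def rset : Setoid b.X where
  r x y := ∃ t, b.r x t = y
  iseqv :=
    ⟨fun x => ⟨1, b.r_one x⟩,
      fun {x y} ⟨t, h⟩ => ⟨t⁻¹, by rw [← h, ← b.r_mul, mul_inv_cancel, b.r_one]⟩,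
      fun {x y z} ⟨t, h⟩ ⟨t', h'⟩ => ⟨t * t', by rw [b.r_mul, h, h']⟩⟩

/-- The set of right orbits. -/
def Orb : Type u := Quotient b.rset

instance : Finite b.Orb := by haveI := b.fin; exact Quotient.finite b.rset

noncomputable instance : Fintype b.Orb := Fintype.ofFinite _

/-- The orbit of a point. -/
def cl (x : b.X) : b.Orb := Quotient.mk b.rset x

theorem cl_r (x : b.X) (t : S) : b.cl (b.r x t) = b.cl x := (Quotient.sound (s := b.rset) ⟨t, rfl⟩).symm

theorem exists_of_cl_eq {x y : b.X} (h : b.cl x = b.cl y) : ∃ t, b.r x t = y :=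
  Quotient.exact (s := b.rset) h

/-- The left action on orbits. -/
def act (a : S) : b.Orb → b.Orb :=
  Quotient.lift (fun x => b.cl (b.l a x)) fun x y ⟨t, h⟩ => by
    show b.cl _ = b.cl _
    rw [← h, b.l_r, b.cl_r]

theorem act_cl (a : S) (x : b.X) : b.act a (b.cl x) = b.cl (b.l a x) := rfl

theorem act_mul (a a' : S) (q : b.Orb) : b.act (a * a') q = b.act a (b.act a' q) := by
  obtain ⟨x, rfl⟩ := Quotient.exists_rep q
  show b.cl (b.l (a * a') x) = b.cl _
  rw [b.l_mul]

theorem act_one (q : b.Orb) : b.act 1 q = q := by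
  obtain ⟨x, rfl⟩ := Quotient.exists_rep q
  show b.cl (b.l 1 x) = b.cl x
  rw [b.l_one]

/-- The left action by permutations. -/
def actEquiv (a : S) : b.Orb ≃ b.Orb where
  toFun := b.act a
  invFun := b.act a⁻¹
  left_inv q := by rw [← act_mul, inv_mul_cancel, act_one]
  right_inv q := by rw [← act_mul, mul_inv_cancel, act_one]

/-- A section of the orbit map. -/
structure Sect where
  σ : b.Orb → b.X
  spec : ∀ q, b.cl (σ q) = q

instance : Nonempty b.Sect := ⟨⟨fun q => Quotient.out q, fun q => Quotient.out_eq q⟩⟩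

variable {b}

theorem Sect.exists_coc (s : b.Sect) (a : S) (q : b.Orb) :
    ∃ t, b.r (s.σ (b.act a q)) t = b.l a (s.σ q) := by
  refine b.exists_of_cl_eq ?_
  rw [s.spec]
  conv_lhs => rw [← s.spec q]
  rfl

/-- The cocycle of a section. -/
noncomputable def Sect.coc (s : b.Sect) (a : S) (q : b.Orb) : S := (s.exists_coc a q).choose

theorem Sect.coc_spec (s : b.Sect) (a : S) (q : b.Orb) :
    b.r (s.σ (b.act a q)) (s.coc a q) = b.l a (s.σ q) := (s.exists_coc a q).choose_spec

theorem r_cancel {x : b.X} {t t' : S} (h : b.r x t = b.r x t') : t = t' := by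
  have : b.r x (t * t'⁻¹) = x := by rw [b.r_mul, h, ← b.r_mul, mul_inv_cancel, b.r_one]
  exact mul_inv_eq_one.1 (b.free _ _ this)

theorem Sect.coc_unique (s : b.Sect) {a : S} {q : b.Orb} {t : S}
    (h : b.r (s.σ (b.act a q)) t = b.l a (s.σ q)) : s.coc a q = t :=
  r_cancel ((s.coc_spec a q).trans h.symm)

theorem Sect.coc_mul (s : b.Sect) (a a' : S) (q : b.Orb) :
    s.coc (a * a') q = s.coc a (b.act a' q) * s.coc a' q := by
  refine s.coc_unique ?_
  rw [act_mul, b.r_mul, s.coc_spec, ← b.l_r, s.coc_spec, b.l_mul]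

theorem Sect.coc_change (s s' : b.Sect) (c : b.Orb → S) (h : ∀ q, b.r (s.σ q) (c q) = s'.σ q)
    (a : S) (q : b.Orb) : s'.coc a q = (c (b.act a q))⁻¹ * s.coc a q * c q := by
  refine s'.coc_unique ?_
  rw [← h, ← b.r_mul, ← mul_assoc, ← mul_assoc, mul_inv_cancel, one_mul, b.r_mul, s.coc_spec, ← b.l_r, h]

theorem exists_change (s s' : b.Sect) : ∃ c : b.Orb → S, ∀ q, b.r (s.σ q) (c q) = s'.σ q := by
  choose c hc using fun q => b.exists_of_cl_eq ((s.spec q).trans (s'.spec q).symm)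
  exact ⟨c, hc⟩

/-- Stability: the cocycles of a pair of elements joined by a map agree up to a renaming. -/
theorem exists_twist (s : b.Sect) {P : Subgroup Ω} {f : Ω → Ω} (hf : Map F P f) :
    ∃ (s' : b.Sect) (ε : b.Orb ≃ b.Orb), ∀ u v : S, (u : Ω) ∈ P → (v : Ω) = f u →
      ∀ q, b.act v (ε q) = ε (b.act u q) ∧ s'.coc v (ε q) = s.coc u q := by
  obtain ⟨e, he⟩ := b.stable P f hf
  have hr : ∀ (t : S) (x : b.X), e (b.r x t) = b.r (e x) t := by
    intro t x
    have := he 1 1 P.one_mem hf.map_one.symm t x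
    rwa [b.l_one, b.l_one] at this
  have hl : ∀ u v : S, (u : Ω) ∈ P → (v : Ω) = f u → ∀ x, e (b.l u x) = b.l v (e x) := by
    intro u v hu hv x
    have := he u v hu hv 1 x
    rwa [b.r_one, b.r_one] at this
  let ε : b.Orb ≃ b.Orb :=
    { toFun := Quotient.lift (fun x => b.cl (e x)) fun x y ⟨t, h⟩ => by
        show b.cl _ = b.cl _
        rw [← h, hr, b.cl_r]
      invFun := Quotient.lift (fun x => b.cl (e.symm x)) fun x y ⟨t, h⟩ => by
        show b.cl _ = b.cl _
        have h1 : e.symm (b.r x t) = b.r (e.symm x) t :=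
          e.injective (by rw [hr, e.apply_symm_apply, e.apply_symm_apply])
        rw [← h, h1, b.cl_r]
      left_inv := fun q => by
        obtain ⟨x, rfl⟩ := Quotient.exists_rep q
        show b.cl (e.symm (e x)) = b.cl x
        rw [e.symm_apply_apply]
      right_inv := fun q => by
        obtain ⟨x, rfl⟩ := Quotient.exists_rep q
        show b.cl (e (e.symm x)) = b.cl x
        rw [e.apply_symm_apply] }
  have hεc : ∀ x, ε (b.cl x) = b.cl (e x) := fun x => rfl
  let s' : b.Sect := ⟨fun q => e (s.σ (ε.symm q)), fun q => by rw [← hεc, s.spec, ε.apply_symm_apply]⟩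
  refine ⟨s', ε, fun u v hu hv q => ?_⟩
  have hact : b.act v (ε q) = ε (b.act u q) := by
    obtain ⟨x, rfl⟩ := Quotient.exists_rep q
    show b.cl (b.l v (e x)) = b.cl (e (b.l u x))
    rw [hl u v hu hv]
  refine ⟨hact, s'.coc_unique ?_⟩
  show b.r (e (s.σ (ε.symm (b.act v (ε q))))) _ = b.l v (e (s.σ (ε.symm (ε q))))
  rw [hact, ε.symm_apply_apply, ε.symm_apply_apply, ← hr, s.coc_spec, hl u v hu hv]

variable {A : Type*} [CommGroup A]

/-- The transfer of a homomorphism along the biset. -/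
noncomputable def transfer (s : b.Sect) (χ : S →* A) : S →* A :=
  MonoidHom.mk' (fun a => ∏ q, χ (s.coc a q)) fun a a' => by
    show ∏ q, χ (s.coc (a * a') q) = (∏ q, χ (s.coc a q)) * ∏ q, χ (s.coc a' q)
    rw [← Equiv.prod_comp (b.actEquiv a') (fun q => χ (s.coc a q)), ← Finset.prod_mul_distrib]
    exact Finset.prod_congr rfl fun q _ => by rw [Sect.coc_mul, map_mul]; rfl

theorem transfer_eq (s s' : b.Sect) (χ : S →* A) : transfer s' χ = transfer s χ := by
  obtain ⟨c, hc⟩ := exists_change s s'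
  ext a
  show ∏ q, χ (s'.coc a q) = ∏ q, χ (s.coc a q)
  simp only [Sect.coc_change s s' c hc, map_mul, map_inv, Finset.prod_mul_distrib]
  rw [Finset.prod_inv_distrib, show ∏ q, χ (c (b.act a q)) = ∏ q, χ (c q) from
    Equiv.prod_comp (b.actEquiv a) (fun q => χ (c q)), mul_comm (∏ q, χ (c q))⁻¹, inv_mul_cancel_right]

/-- The transfer is stable. -/
theorem transfer_stable (s : b.Sect) (χ : S →* A) {P : Subgroup Ω} {f : Ω → Ω} (hf : Map F P f)
    {u v : S} (hu : (u : Ω) ∈ P) (hv : (v : Ω) = f u) : transfer s χ v = transfer s χ u := by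
  obtain ⟨s', ε, h⟩ := exists_twist s hf
  conv_lhs => rw [← transfer_eq s s']
  show ∏ q, χ (s'.coc v q) = ∏ q, χ (s.coc u q)
  rw [← Equiv.prod_comp ε (fun q => χ (s'.coc v q))]
  exact Finset.prod_congr rfl fun q _ => congrArg χ (h u v hu hv q).2

theorem orbits_eq (b : CharBiset F p) [Finite S] : Fintype.card b.Orb = b.orbits := by
  obtain ⟨s⟩ : Nonempty b.Sect := inferInstance
  have hb : Function.Bijective fun qt : b.Orb × S => b.r (s.σ qt.1) qt.2 := by
    refine ⟨fun qt qt' h => ?_, fun x => ?_⟩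
    · have h1 := congrArg b.cl h
      simp only [cl_r, s.spec] at h1
      refine Prod.ext h1 (r_cancel (x := s.σ qt.1) ?_)
      conv_rhs => rw [h1]
      exact h
    · obtain ⟨t, ht⟩ := b.exists_of_cl_eq (s.spec (b.cl x))
      exact ⟨(b.cl x, t), ht⟩
  have := Nat.card_congr (Equiv.ofBijective _ hb)
  rw [Nat.card_prod, b.card_eq, Nat.card_eq_fintype_card] at this
  exact Nat.eq_of_mul_eq_mul_right Nat.card_pos this

end CharBiset

theorem prod_eq_pow_card {Q A : Type*} [Fintype Q] [CommGroup A] (π : Equiv.Perm Q) (g : Q → A) (a : A)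
    (h : ∀ q n, (π ^ n) q = q → ∏ i ∈ Finset.range n, g ((π ^ i) q) = a ^ n) :
    ∏ q, g q = a ^ Fintype.card Q := by
  classical
  suffices ∀ s : Finset Q, (∀ x ∈ s, π x ∈ s) → (∀ x ∈ s, π.symm x ∈ s) → ∏ x ∈ s, g x = a ^ s.card by
    simpa using this Finset.univ (by simp) (by simp)
  intro s
  induction s using Finset.strongInduction with
  | _ s ih =>
  intro h1 h2
  rcases s.eq_empty_or_nonempty with rfl | ⟨q, hq⟩
  · simp
  set m := Function.minimalPeriod π q with hm
  have hmpos : 0 < m := Function.IsPeriodicPt.minimalPeriod_pos (orderOf_pos π) (by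
    show π^[orderOf π] q = q
    rw [← Equiv.Perm.coe_pow, pow_orderOf_eq_one]; rfl)
  have hper : (π ^ m) q = q := by rw [Equiv.Perm.coe_pow]; exact Function.iterate_minimalPeriod
  set O := (Finset.range m).image fun i => (π ^ i) q with hO
  have hinj : Set.InjOn (fun i => (π ^ i) q) (Finset.range m) := by
    intro i hi j hj hij
    simp only [Equiv.Perm.coe_pow] at hij
    exact (Function.iterate_injOn_Iio_minimalPeriod (f := π) (x := q)) (Finset.mem_range.1 hi)
      (Finset.mem_range.1 hj) hij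
  have hOs : O ⊆ s := by
    intro y hy
    obtain ⟨i, -, rfl⟩ := Finset.mem_image.1 hy
    clear hy
    induction i with
    | zero => simpa using hq
    | succ i ih' => rw [pow_succ']; exact h1 _ ih'
  have hOπ : ∀ y ∈ O, π y ∈ O := by
    intro y hy
    obtain ⟨i, hi, rfl⟩ := Finset.mem_image.1 hy
    rw [Finset.mem_range] at hi
    rcases Nat.lt_or_ge (i + 1) m with h' | h'
    · exact Finset.mem_image.2 ⟨i + 1, Finset.mem_range.2 h', by rw [pow_succ']; rfl⟩
    · refine Finset.mem_image.2 ⟨0, Finset.mem_range.2 hmpos, ?_⟩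
      rw [show π ((π ^ i) q) = (π ^ (i + 1)) q by rw [pow_succ']; rfl,
        show i + 1 = m by omega, hper, pow_zero]; rfl
  have hOπ' : ∀ y ∈ O, π.symm y ∈ O := by
    intro y hy
    have hinjO : O.image π = O := Finset.eq_of_subset_of_card_le (by
      intro z hz; obtain ⟨w, hw, rfl⟩ := Finset.mem_image.1 hz; exact hOπ w hw)
      (by rw [Finset.card_image_of_injective _ π.injective])
    obtain ⟨w, hw, rfl⟩ := Finset.mem_image.1 (hinjO.ge hy)
    rwa [π.symm_apply_apply]
  have hne : q ∈ O := Finset.mem_image.2 ⟨0, Finset.mem_range.2 hmpos, by simp⟩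
  have hrest := ih (s \ O) (Finset.sdiff_ssubset hOs ⟨q, hne⟩)
    (fun x hx => by
      rw [Finset.mem_sdiff] at hx ⊢
      exact ⟨h1 x hx.1, fun hc => hx.2 (by simpa using hOπ' _ hc)⟩)
    (fun x hx => by
      rw [Finset.mem_sdiff] at hx ⊢
      exact ⟨h2 x hx.1, fun hc => hx.2 (by simpa using hOπ _ hc)⟩)
  have hOc : O.card = m := by rw [hO, Finset.card_image_of_injOn hinj, Finset.card_range]
  have hprod : ∏ x ∈ O, g x = a ^ m := by rw [hO, Finset.prod_image hinj, h q m hper]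
  rw [← Finset.prod_sdiff hOs, hrest, hprod, ← pow_add, ← hOc, Finset.card_sdiff_add_card_eq_card hOs]

theorem center_spec (F : FusionSystem S) {z : Ω} (hz : z ∈ F.center) :
    z ∈ S ∧ ∀ (P : Subgroup Ω) (f : Ω → Ω), Map F P f →
      ∃ g, Map F (P ⊔ Subgroup.zpowers z) g ∧ (∀ x ∈ P, g x = f x) ∧ g z = z := by
  let C : Subgroup Ω :=
    { carrier := {z | z ∈ S ∧ ∀ (P : Subgroup Ω) (f : Ω → Ω), Map F P f →
        ∃ g, Map F (P ⊔ Subgroup.zpowers z) g ∧ (∀ x ∈ P, g x = f x) ∧ g z = z}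
      one_mem' := ⟨S.one_mem, fun P f hf =>
        ⟨f, by rwa [Subgroup.zpowers_one_eq_bot, sup_bot_eq], fun x _ => rfl, hf.map_one⟩⟩
      mul_mem' := by
        rintro z w ⟨hz, hz'⟩ ⟨hw, hw'⟩
        refine ⟨S.mul_mem hz hw, fun P f hf => ?_⟩
        obtain ⟨g, hg, hgf, hgz⟩ := hz' P f hf
        obtain ⟨g', hg', hgg, hgw⟩ := hw' _ g hg
        have hz1 : z ∈ P ⊔ Subgroup.zpowers z ⊔ Subgroup.zpowers w :=
          Subgroup.mem_sup_left (Subgroup.mem_sup_right (Subgroup.mem_zpowers z))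
        have hw1 : w ∈ P ⊔ Subgroup.zpowers z ⊔ Subgroup.zpowers w :=
          Subgroup.mem_sup_right (Subgroup.mem_zpowers w)
        refine ⟨g', hg'.restrict (sup_le (le_sup_left.trans le_sup_left)
          (Subgroup.zpowers_le.2 (Subgroup.mul_mem _ hz1 hw1))), fun x hx => ?_, ?_⟩
        · rw [hgg x (Subgroup.mem_sup_left hx), hgf x hx]
        · rw [hg'.map_mul hz1 hw1, hgw, hgg z (Subgroup.mem_sup_right (Subgroup.mem_zpowers z)), hgz]
      inv_mem' := by
        rintro z ⟨hz, hz'⟩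
        refine ⟨S.inv_mem hz, fun P f hf => ?_⟩
        obtain ⟨g, hg, hgf, hgz⟩ := hz' P f hf
        refine ⟨g, by rwa [Subgroup.zpowers_inv], hgf, ?_⟩
        rw [hg.map_inv (Subgroup.mem_sup_right (Subgroup.mem_zpowers z)), hgz] }
  refine (show F.center ≤ C from sSup_le fun Q hQ w hw => ⟨hQ.1 hw, fun P f hf => ?_⟩) hz
  obtain ⟨φ, hφ, he⟩ := hf
  obtain ⟨ψ, hψ, h1, h2⟩ := hQ.2 P φ hφ
  refine ⟨fn ψ, (map_of_mem hψ).restrict (sup_le_sup_left (Subgroup.zpowers_le.2 hw) P), fun x hx => ?_, ?_⟩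
  · rw [fn_apply ψ (Subgroup.mem_sup_left hx)]
    exact (h1 ⟨x, hx⟩).trans (he _)
  · rw [fn_apply ψ (Subgroup.mem_sup_right hw)]
    exact h2 ⟨w, hw⟩

theorem center_fixed (F : FusionSystem S) {z : Ω} (hz : z ∈ F.center) {P : Subgroup Ω} {f : Ω → Ω}
    (hf : Map F P f) (hzP : z ∈ P) : f z = z := by
  obtain ⟨g, -, hgf, hgz⟩ := (center_spec F hz).2 P f hf
  rw [← hgf z hzP, hgz]

namespace CharBiset

variable {b : CharBiset F p} {A : Type*} [CommGroup A]

theorem transfer_center [Finite S] (s : b.Sect) (χ : S →* A) {z : S} (hz : (z : Ω) ∈ F.center) :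
    transfer s χ z = χ z ^ b.orbits := by
  show ∏ q, χ (s.coc z q) = _
  rw [← orbits_eq b]
  refine prod_eq_pow_card (b.actEquiv z) _ _ fun q n hn => ?_
  have hact : ∀ i : ℕ, (b.actEquiv z ^ i) q = b.act (z ^ i) q := by
    intro i
    induction i with
    | zero => rw [pow_zero, pow_zero, b.act_one]; rfl
    | succ i ih =>
      rw [pow_succ', pow_succ', b.act_mul, ← ih]; rfl
  have hprod : ∀ m : ℕ, ∏ i ∈ Finset.range m, χ (s.coc z ((b.actEquiv z ^ i) q)) = χ (s.coc (z ^ m) q) := by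
    intro m
    induction m with
    | zero =>
      have : s.coc (1 : S) q = 1 := s.coc_unique (by rw [b.act_one, b.r_one, b.l_one])
      rw [Finset.prod_range_zero, pow_zero, this, map_one]
    | succ m ih =>
      rw [Finset.prod_range_succ, ih, pow_succ' z, Sect.coc_mul, map_mul, hact, mul_comm]
  rw [hprod, ← map_pow]
  congr 1
  have hfix : b.act (z ^ n) q = q := by rw [← hact, hn]
  have hspec := s.coc_spec (z ^ n) q
  rw [hfix] at hspec
  obtain ⟨P, f, hf, hst⟩ := b.stab (s.σ q)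
  obtain ⟨hm, he⟩ := (hst _ _).1 hspec.symm
  have hzn : ((z ^ n : S) : Ω) ∈ F.center := by
    rw [SubmonoidClass.coe_pow]; exact Subgroup.pow_mem _ hz n
  exact Subtype.ext (he.trans (center_fixed F hzn hf hm))

theorem transfer_focal (s : b.Sect) (χ : S →* A) {x : S} (hx : (x : Ω) ∈ F.focalSubgroup) :
    transfer s χ x = 1 := by
  have hle : F.focalSubgroup ≤ (transfer s χ).ker.map S.subtype := by
    refine (Subgroup.closure_le _).2 ?_
    rintro _ ⟨P, φ, y, hφ, rfl⟩
    have hyS := (F.le_of_mem hφ).1 y.2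
    have hφS := (F.le_of_mem hφ).2 y
    refine ⟨(⟨y, hyS⟩ : S)⁻¹ * ⟨φ y, hφS⟩, ?_, rfl⟩
    rw [SetLike.mem_coe, MonoidHom.mem_ker, map_mul, map_inv, inv_mul_eq_one]
    exact (transfer_stable s χ (map_of_mem hφ) (u := ⟨y, hyS⟩) (v := ⟨φ y, hφS⟩) y.2 (fn_coe φ y).symm).symm
  obtain ⟨w, hw, he⟩ := hle hx
  exact Subtype.ext he ▸ hw

end CharBiset

end Cfsg.Agent.Local.FS
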