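import Cfsg.Agent.Lib.Local.FS.SubnormalTransport
import Cfsg.Agent.Lib.Local.FS.Transfer
import Cfsg.Agent.Lib.Local.FS.Products
import Cfsg.Agent.Lib.Fusion.NPC

/-!
Quasisimplicity and components along isomorphisms of fusion systems.
-/

set_option autoImplicit false

namespace Cfsg.Agent.Local.FS

open Cfsg Cfsg.FusionSystem Cfsg.Agent.Fusion

universe u v

variable {Ω : Type u} [Group Ω] {Ω' : Type v} [Group Ω'] {S : Subgroup Ω} {S' : Subgroup Ω'}
  {i : S →* Ω'} {F : FusionSystem S} {F' : FusionSystem S'}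

theorem FIso.finite [Finite S] (h : FIso F F' i) : Finite S' :=
  h.range_eq ▸ Finite.of_surjective i.rangeRestrict i.rangeRestrict_surjective

theorem FIso.isPGroup {p : ℕ} (h : FIso F F' i) (hS : IsPGroup p S) : IsPGroup p S' :=
  h.range_eq ▸ hS.of_surjective i.rangeRestrict i.rangeRestrict_surjective

theorem FIso.hyperfocal_le [Finite S] {p : ℕ} [Fact p.Prime] (h : FIso F F' i) {x : Ω} (hx : x ∈ F.hyperfocalSubgroup p) :
    x ∈ S ∧ ue i x ∈ F'.hyperfocalSubgroup p := by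
  haveI := h.finite
  induction hx using Subgroup.closure_induction with
  | mem y hy =>
    obtain ⟨P, α, x, hP, hα, rfl⟩ := hy
    have hαx : (((α : MulAut P) x : P) : Ω) ∈ S := hP (SetLike.coe_mem _)
    haveI := mulAut_finite_of_le hP
    haveI := mulAut_finite_of_le (S := S') (h.up_le (P := P))
    refine ⟨S.mul_mem (S.inv_mem (hP x.2)) hαx, ?_⟩
    let e : P ≃* ↥(up i P) := (Subgroup.subgroupOfEquivOfLe hP).symm.trans
      ((P.subgroupOf S).equivMapOfInjective i h.inj)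
    have he : ∀ z : P, ((e z : ↥(up i P)) : Ω') = ue i z := fun z => (ue_apply (i := i) (hP z.2)).symm
    have hcong : ∀ β : MulAut P, β ∈ F.autGroup P → MulAut.congr e β ∈ F'.autGroup (up i P) := by
      intro β hβ
      refine (mem_autGroup_iff h.up_le).2 ((h.map_up (map_of_mem_autGroup hP hβ)).congr fun y hy => ?_)
      obtain ⟨z, hz, rfl⟩ := (mem_up hP).1 hy
      show ue i (av β (ve i (ue i z))) = _
      rw [h.ve_ue (hP hz), av_apply β hz, av_apply _ (ue_mem_up (i := i) hP hz),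
        show (⟨ue i z, ue_mem_up hP hz⟩ : ↥(up i P)) = e ⟨z, hz⟩ from Subtype.ext (he ⟨z, hz⟩).symm]
      show _ = ((e (β (e.symm (e ⟨z, hz⟩))) : ↥(up i P)) : Ω')
      rw [e.symm_apply_apply, he]
    let χ : ↥(F.autGroup P) →* ↥(F'.autGroup (up i P)) :=
      ((MulAut.congr e).toMonoidHom.comp (F.autGroup P).subtype).codRestrict _ fun β => hcong β β.2
    refine Subgroup.subset_closure ⟨up i P, χ α, e x, h.up_le, Fusion.map_pResidual_le χ ⟨α, hα, rfl⟩, ?_⟩
    show ue i _ = ((e x : ↥(up i P)) : Ω')⁻¹ * ((((MulAut.congr e) (α : MulAut P)) (e x) : ↥(up i P)) : Ω')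
    rw [show (MulAut.congr e) (α : MulAut P) (e x) = e ((α : MulAut P) x) from
      congrArg (fun t => e ((α : MulAut P) t)) (e.symm_apply_apply x), he, he,
      ue_mul (S.inv_mem (hP x.2)) hαx, ue_inv (hP x.2)]
  | one => exact ⟨S.one_mem, by rw [ue_apply S.one_mem, show (⟨1, S.one_mem⟩ : S) = 1 from rfl, map_one]; exact one_mem _⟩
  | mul a b _ _ ha hb => exact ⟨S.mul_mem ha.1 hb.1, by rw [ue_mul ha.1 hb.1]; exact mul_mem ha.2 hb.2⟩
  | inv a _ ha => exact ⟨S.inv_mem ha.1, by rw [ue_inv ha.1]; exact inv_mem ha.2⟩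

theorem hyperfocal_le_self (F : FusionSystem S) (p : ℕ) : F.hyperfocalSubgroup p ≤ S := by
  refine (Subgroup.closure_le _).2 ?_
  rintro _ ⟨P, α, x, hP, -, rfl⟩
  exact S.mul_mem (S.inv_mem (hP x.2)) (hP (SetLike.coe_mem _))

theorem FIso.central_up (h : FIso F F' i) {Q : Subgroup Ω} (hQ : F.IsCentral Q) : F'.IsCentral (up i Q) := by
  refine ⟨h.up_le, fun P' φ' hφ' => ?_⟩
  have hP' : P' ≤ S' := (F'.le_of_mem hφ').1
  have hPS : preimageAlong i P' ≤ S := preimage_le P'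
  have hd := h.map_down (g := fn φ') hPS (by rw [h.up_preimage hP']; exact map_of_mem hφ')
  obtain ⟨φ, hφ, he⟩ := hd
  obtain ⟨ψ, hψ, hψP, hψQ⟩ := hQ.2 _ φ hφ
  have hsup : up i (preimageAlong i P' ⊔ Q) = P' ⊔ up i Q := by
    conv_rhs => rw [← h.up_preimage hP']
    rw [up, up, up, imageAlong, imageAlong, imageAlong, Subgroup.subgroupOf_sup hPS hQ.1, Subgroup.map_sup]
  have hu := h.map_up (map_of_mem hψ)
  rw [hsup] at hu
  obtain ⟨χ, hχ, hχe⟩ := hu
  refine ⟨χ, hχ, fun y => ?_, fun y => ?_⟩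
  · rw [hχe, Subgroup.coe_inclusion]
    obtain ⟨x, hx, hxy⟩ := (mem_up hPS).1 ((h.up_preimage hP').ge y.2)
    rw [← hxy]
    show ue i (fn ψ (ve i (ue i x))) = φ' y
    rw [h.ve_ue (hPS hx), fn_apply ψ (Subgroup.mem_sup_left hx)]
    have h1 : ψ (Subgroup.inclusion le_sup_left ⟨x, hx⟩) = φ ⟨x, hx⟩ := hψP ⟨x, hx⟩
    rw [show (⟨x, Subgroup.mem_sup_left hx⟩ : ↥(preimageAlong i P' ⊔ Q)) = Subgroup.inclusion le_sup_left ⟨x, hx⟩
      from rfl, h1, he]
    show ue i (ve i (fn φ' (ue i x))) = φ' y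
    rw [hxy, fn_coe, h.ue_ve ((F'.le_of_mem hφ').2 y)]
  · rw [hχe, Subgroup.coe_inclusion]
    obtain ⟨x, hx, hxy⟩ := (mem_up hQ.1).1 y.2
    rw [← hxy]
    show ue i (fn ψ (ve i (ue i x))) = ue i x
    rw [h.ve_ue (hQ.1 hx), fn_apply ψ (Subgroup.mem_sup_right hx)]
    exact congrArg (ue i) (hψQ ⟨x, hx⟩)

theorem center_le_self (F : FusionSystem S) : F.center ≤ S := sSup_le fun _ hQ => hQ.1

theorem FIso.up_center (h : FIso F F' i) : up i F.center = F'.center := by
  obtain ⟨j, hj, hjv⟩ := h.exists_symm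
  refine le_antisymm ?_ ?_
  · have hle : F.center ≤ preimageAlong i F'.center := sSup_le fun Q hQ x hx => mem_pre_iff.2
      ⟨hQ.1 hx, (show up i Q ≤ F'.center from le_sSup (h.central_up hQ)) (ue_mem_up hQ.1 hx)⟩
    intro y hy
    obtain ⟨x, hx, rfl⟩ := (mem_up (center_le_self F)).1 hy
    exact (mem_pre_iff.1 (hle hx)).2
  · refine sSup_le fun Q' hQ' y hy => ?_
    have hyS : y ∈ S' := hQ'.1 hy
    refine (mem_up (center_le_self F)).2 ⟨ve i y, ?_, h.ue_ve hyS⟩
    rw [← hjv y hyS]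
    exact (show up j Q' ≤ F.center from le_sSup (hj.central_up hQ')) (ue_mem_up hQ'.1 hy)

/-- Quasisimplicity passes along isomorphisms. -/
theorem FIso.quasisimple [Finite S] {p : ℕ} [Fact p.Prime] (h : FIso F F' i) (hS : IsPGroup p S)
    (hF : F.Quasisimple p) : F'.Quasisimple p := by
  haveI := h.finite
  have hS' := h.isPGroup hS
  obtain ⟨j, hj, -⟩ := h.exists_symm
  obtain ⟨hsat, hhyp, hsim⟩ := hF
  refine ⟨hj.saturated hS' hsat, ?_, fun E' hE' => ?_⟩
  · refine le_antisymm (hyperfocal_le_self F' p) fun y hy => ?_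
    rw [← h.ue_ve hy]
    exact (h.hyperfocal_le (hhyp.symm.le ve_mem)).2
  have hZS : F.center ≤ S := center_le_self F
  have hZ : F.StronglyClosed F.center := ⟨hZS, fun R hR φ hφ x => by
    rw [← fn_coe φ x, center_fixed F (hR x.2) (map_of_mem hφ) x.2]
    exact hR x.2⟩
  have hZ' : F'.StronglyClosed F'.center := ⟨center_le_self F', fun R hR φ hφ x => by
    rw [← fn_coe φ x, center_fixed F' (hR x.2) (map_of_mem hφ) x.2]
    exact hR x.2⟩
  obtain ⟨θ, hθ⟩ : ∃ θ, θ = QuotientGroup.mk' ((F.center).subgroupOf S) := ⟨_, rfl⟩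
  obtain ⟨θ', hθ'⟩ : ∃ θ', θ' = QuotientGroup.mk' ((F'.center).subgroupOf S') := ⟨_, rfl⟩
  have hker : ∀ s : S, θ s = 1 ↔ (s : Ω) ∈ F.center := fun s => by
    rw [hθ]; exact (QuotientGroup.eq_one_iff s).trans Subgroup.mem_subgroupOf
  have hsurj : Function.Surjective θ := hθ ▸ QuotientGroup.mk'_surjective _
  have hE : F.IsFactorSystem F.center θ (factorSys hZ θ hker hsurj) := ⟨hZS, hker, MonoidHom.range_eq_top.2 hsurj,
    fun P' φ' => fmap_iff.trans (and_iff_right le_top).symm⟩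
  obtain ⟨hEsat, hne, hnorm⟩ : (factorSys hZ θ hker hsurj).IsSimple p := by
    subst hθ
    exact hsim _ hE
  rw [← hθ'] at hE'
  haveI : Finite (⊤ : Subgroup (S ⧸ (F.center).subgroupOf S)) := Finite.of_injective _ Subtype.val_injective
  -- the isomorphism of the quotients
  let e : S ≃* S' := (MonoidHom.ofInjective h.inj).trans (MulEquiv.subgroupCongr h.range_eq)
  have hee : ∀ s : S, ((e s : S') : Ω') = ue i s := fun s => (ue_coe (i := i) s).symm
  have hmap : ((F.center).subgroupOf S).map e.toMonoidHom = (F'.center).subgroupOf S' := by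
    ext z
    rw [Subgroup.mem_subgroupOf, ← h.up_center, mem_up hZS]
    constructor
    · rintro ⟨s, hs, rfl⟩; exact ⟨s, hs, (hee s).symm⟩
    · rintro ⟨x, hx, hxz⟩
      exact ⟨⟨x, hZS hx⟩, hx, Subtype.ext ((hee _).trans hxz)⟩
  obtain ⟨ι, hι⟩ : ∃ ι, ι = (QuotientGroup.congr _ _ e hmap).toMonoidHom.comp
      (⊤ : Subgroup (S ⧸ (F.center).subgroupOf S)).subtype := ⟨_, rfl⟩
  have hιθ : ∀ {x : Ω}, x ∈ S → ue ι (ue θ x) = ue θ' (ue i x) := fun {x} hx => by
    rw [ue_apply hx, ue_apply (i := ι) (Subgroup.mem_top _), ue_apply (i := θ') (h.ue_mem hx), hι, hθ', hθ]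
    exact (QuotientGroup.congr_mk _ _ e hmap _).trans (congrArg _ (Subtype.ext (hee ⟨x, hx⟩)))
  have hιinj : Function.Injective ι := hι ▸ (QuotientGroup.congr _ _ e hmap).injective.comp Subtype.val_injective
  have hve : ∀ {a : S ⧸ (F.center).subgroupOf S}, ve ι (ue ι a) = a := fun {a} => by
    rw [ue_apply (i := ι) (Subgroup.mem_top a), ve, Function.leftInverse_invFun hιinj ⟨a, Subgroup.mem_top a⟩]
  have hI : FIso (factorSys hZ θ hker hsurj) E' ι := by
    refine ⟨hιinj, ?_, fun P hP f hf => ?_⟩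
    · refine eq_top_iff.2 fun z _ => MonoidHom.mem_range.2 ⟨⟨(QuotientGroup.congr _ _ e hmap).symm z, Subgroup.mem_top _⟩, ?_⟩
      rw [hι]; exact (QuotientGroup.congr _ _ e hmap).apply_symm_apply z
    have hup : preimageAlong θ' (up ι P) = up i (preimageAlong θ P) := by
      ext y
      rw [mem_pre_iff, mem_up (preimage_le _)]
      constructor
      · rintro ⟨hy, hyP⟩
        refine ⟨ve i y, mem_pre_iff.2 ⟨ve_mem, ?_⟩, h.ue_ve hy⟩
        obtain ⟨a, ha, hay⟩ := (mem_up le_top).1 hyP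
        rw [← h.ue_ve hy, ← hιθ ve_mem] at hay
        have h1 := congrArg (ve ι) hay
        rw [hve, hve] at h1
        exact h1 ▸ ha
      · rintro ⟨x, hx, rfl⟩
        obtain ⟨hxS, hxP⟩ := mem_pre_iff.1 hx
        exact ⟨h.ue_mem hxS, hιθ hxS ▸ ue_mem_up le_top hxP⟩
    constructor
    · intro hm
      obtain ⟨-, g, hg, hge⟩ := fac_lift hE hZ hm
      refine fac_map_of hE' hZ' (fun _ _ => Subgroup.mem_top _) (hup ▸ h.map_up hg) fun y hy => ?_
      rw [hup] at hy
      obtain ⟨x, hx, rfl⟩ := (mem_up (preimage_le _)).1 hy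
      have hxS := (mem_pre_iff.1 hx).1
      show ue θ' (ue i (g (ve i (ue i x)))) = ue ι (f (ve ι (ue θ' (ue i x))))
      rw [h.ve_ue hxS, ← hιθ (hg.mem hx), hge x hx, ← hιθ hxS, hve]
    · intro hm
      obtain ⟨-, g, hg, hge⟩ := fac_lift hE' hZ' hm
      rw [hup] at hg hge
      refine fac_map_of hE hZ le_top (h.map_down (preimage_le _) hg) fun x hx => ?_
      have hxS := (mem_pre_iff.1 hx).1
      have hgS := hg.mem (ue_mem_up (preimage_le _) hx)
      show ue θ (ve i (g (ue i x))) = f (ue θ x)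
      have h1 := hge _ (ue_mem_up (preimage_le _) hx)
      rw [← h.ue_ve hgS, ← hιθ ve_mem, ← hιθ hxS, hve] at h1
      have h2 := congrArg (ve ι) h1
      rwa [hve, hve] at h2
  have hP0 : IsPGroup p (⊤ : Subgroup (S ⧸ (F.center).subgroupOf S)) := fac_isPGroup hE hS
  haveI : Finite (⊤ : Subgroup (S' ⧸ (F'.center).subgroupOf S')) := hI.finite
  obtain ⟨κ, hκ, -⟩ := hI.exists_symm
  refine ⟨hκ.saturated (hI.isPGroup hP0) hEsat, fun h0 => hne ?_,
    fun T' D hD => hI.simple hP0 ⟨hEsat, hne, hnorm⟩ T' D hD⟩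
  refine (Subgroup.eq_bot_iff_forall _).2 fun a _ => ?_
  have h1 : ι ⟨a, Subgroup.mem_top a⟩ = ι 1 := by
    rw [map_one]
    exact Subgroup.mem_bot.1 (h0 ▸ Subgroup.mem_top _)
  exact congrArg Subtype.val (hιinj h1)

end Cfsg.Agent.Local.FS

namespace Cfsg.Agent.Local.FS

open Cfsg Cfsg.FusionSystem Cfsg.Agent.Fusion

universe w

variable {Ω : Type w} [Group Ω] {S : Subgroup Ω} {F : FusionSystem S} [Finite S] {p : ℕ} [Fact p.Prime]

/-- The image of a component along a map of the system is a component. -/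
theorem component_conj (hS : IsPGroup p S) (hF : F.IsSaturated p) {T T₁ : Subgroup Ω} {C : FusionSystem T}
    (hC : C.IsComponentIn F p) {C₁ : FusionSystem T₁} {g : T →* Ω} (hg : Map F T (ue g)) (h : FIso C C₁ g) :
    C₁.IsComponentIn F p := by
  haveI := finite_of_le hg.le
  exact ⟨subnormal_conj hC.1 hS inferInstance inferInstance hF hg h, h.quasisimple (hS.to_le hg.le) hC.2⟩

/-- The preimage of a component along an automorphism is a component. -/
theorem component_pull {i : S →* Ω} (h : FIso F F i) (hS : IsPGroup p S) (hF : F.IsSaturated p)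
    {U : Subgroup Ω} {C : FusionSystem U} (hC : C.IsComponentIn F p) (hU : U ≤ S) :
    (pullSys h C hU).IsComponentIn F p := by
  obtain ⟨k, hk, hkc⟩ := h.exists_pull (E' := C) hU
  obtain ⟨k', hk', -⟩ := hk.exists_symm
  haveI := finite_of_le hU
  exact ⟨FIso.subnormal hC.1 h hS hF hk (preimage_le U) hkc, hk'.quasisimple (hS.to_le hU) hC.2⟩

/-- The layer is invariant under automorphisms of the system. -/
theorem layer_char {i : S →* Ω} (h : FIso F F i) (hS : IsPGroup p S) (hF : F.IsSaturated p)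
    {T : Subgroup Ω} {E : FusionSystem T} (hE : E.IsLayerOf F p) :
    imageAlong i T = T ∧ ∀ (P : Subgroup Ω) (φ : P →* Ω), φ ∈ E.Hom P →
      Map E (imageAlong i P) (pushFn i (fn φ)) := by
  have hT : T ≤ S := hE.1.1.2.2.2.1.1
  haveI := finite_of_le hT
  obtain ⟨j, hj, hjv⟩ := h.exists_symm
  have hsubE := hE.2.2 _ _ (pullSys_normalIn h hT hS hF hE.1) fun U C hC P φ hφ => by
    have hU : U ≤ S := (F.le_of_mem (subnormal_sub hC.1 _ (C.conj_mem le_rfl (one_mem _)))).1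
    obtain ⟨hPU, hφU⟩ := C.le_of_mem hφ
    have hPS := hPU.trans hU
    -- the image of `C` is a component
    have hC₁ := component_pull hj hS hF hC hU
    obtain ⟨k, hk, hkc⟩ := hj.exists_pull (E' := C) hU
    have hmem : ∀ x ∈ U, ue i x ∈ preimageAlong j U := fun x hx => mem_pre_iff.2
      ⟨h.ue_mem (hU hx), by rw [hjv _ (h.ue_mem (hU hx)), h.ve_ue (hU hx)]; exact hx⟩
    have hupP : up i P ≤ preimageAlong j U := fun y hy => by
      obtain ⟨x, hx, rfl⟩ := (mem_up hPS).1 hy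
      exact hmem x (hPU hx)
    have hback : ∀ x ∈ U, ue k (ue i x) = x := fun x hx => by
      rw [hkc _ (hmem x hx), hjv _ (h.ue_mem (hU hx)), h.ve_ue (hU hx)]
    have hupk : up k (up i P) = P := by
      ext z
      rw [mem_up hupP]
      constructor
      · rintro ⟨y, hy, rfl⟩
        obtain ⟨x, hx, rfl⟩ := (mem_up hPS).1 hy
        rwa [hback x (hPU hx)]
      · exact fun hz => ⟨_, ue_mem_up hPS hz, hback z (hPU hz)⟩
    have h1 : Map C (up k (up i P)) (fn φ) := by rw [hupk]; exact map_of_mem hφ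
    obtain ⟨ψ, hψ, hψe⟩ := hk.map_down hupP h1
    have h2 := hE.2.1 _ _ hC₁ _ hψ
    have hTmem : ∀ y ∈ up i P, y ∈ T ∧ ve k (fn φ (ue k y)) ∈ T := fun y hy =>
      ⟨(E.le_of_mem h2).1 hy, by
        have := (E.le_of_mem h2).2 ⟨y, hy⟩
        rwa [hψe] at this⟩
    have hpush : ∀ x ∈ P, ve k (fn φ (ue k (ue i x))) = ue i (fn φ x) := fun x hx => by
      have hy : fn φ x ∈ U := by rw [fn_apply φ hx]; exact hφU _
      rw [hback x (hPU hx)]
      conv_lhs => rw [← hback _ hy]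
      exact hk.ve_ue (hmem _ hy)
    refine ⟨fun x hx => mem_pre_iff.2 ⟨hPS hx, (hTmem _ (ue_mem_up hPS hx)).1⟩, fun x => mem_pre_iff.2 ⟨hU (hφU x), ?_⟩, ?_⟩
    · have := (hTmem _ (ue_mem_up (i := i) hPS x.2)).2
      rwa [hpush x x.2, fn_coe] at this
    · refine ((map_of_mem h2).congr fun y hy => ?_)
      obtain ⟨x, hx, rfl⟩ := (mem_up hPS).1 hy
      rw [fn_apply ψ hy, hψe, h.pushFn_ue (hPS hx)]
      exact hpush x hx
  have hle : T ≤ preimageAlong i T :=
    ((pullSys h E hT).le_of_mem (hsubE _ (E.conj_mem le_rfl (one_mem _)))).1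
  refine ⟨Subgroup.eq_of_le_of_card_ge ?_ ?_, fun P φ hφ => (hsubE P hφ).2.2⟩
  · intro y hy
    obtain ⟨x, hx, rfl⟩ := (mem_up hT).1 hy
    exact (mem_pre_iff.1 (hle hx)).2
  · exact (h.card_up hT).ge

end Cfsg.Agent.Local.FS
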