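import Cfsg.Agent.Lib.Local.FS.ComponentCore
import Cfsg.Agent.Lib.Local.FS.CentralizerSystemNormal

/-!
The centraliser system of the core is a normal subsystem; it contains all components.
-/

set_option autoImplicit false

namespace Cfsg.Agent.Local.FS

open Cfsg Cfsg.FusionSystem Cfsg.Agent.Fusion

variable {Ω : Type*} [Group Ω] {S T : Subgroup Ω} {F : FusionSystem S} {P Q : Subgroup Ω} {p : ℕ}
  [Finite S] [Fact p.Prime]

theorem centEOf_inner (hS : IsPGroup p S) (hF : F.IsSaturated p) (hQ : F.IsNormal Q) :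
    centEOf (innerFusionSystem Q) F = centralizerIn S Q := by
  refine le_antisymm centEOf_le (CentE.le_centEOf ⟨le_rfl, fun P f hf => ?_⟩)
  obtain ⟨φ, ⟨hP, u, hu, hφ⟩, he⟩ := hf
  refine ⟨_, map_conjBy (sup_le (hP.trans hQ.1) inf_le_left) (hQ.1 hu), fun x hx => ?_, fun c hc =>
    conj_centT hc hu⟩
  rw [← he ⟨x, hx⟩, hφ]

/-- `C_F(O_p(F))` is a normal subsystem. -/
theorem exists_coreCentralizer (hS : IsPGroup p S) (hF : F.IsSaturated p) :
    ∃ D : FusionSystem (centralizerIn S F.core), D.IsNormalIn F p ∧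
      ∀ P : Subgroup Ω, D.Hom P = F.centralizerHom F.core P := by
  have hQ := core_normal hS hF
  have h := centEOf_inner hS hF hQ
  obtain ⟨D, hD, hle, hge⟩ := exists_centralizer_system_full hS (inner_normal_of_normal hS hF hQ)
  have hge' := hge h.ge
  clear hge
  revert D
  rw [h]
  intro D hD hle hge
  exact ⟨D, hD, fun P => (hle P).antisymm (hge P)⟩

/-- Every component lies in `C_F(O_p(F))`. -/
theorem component_mem_centralizerHom (hS : IsPGroup p S) (hF : F.IsSaturated p) {C : FusionSystem T}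
    (hC : C.IsComponentIn F p) {φ : P →* Ω} (hφ : φ ∈ C.Hom P) : φ ∈ F.centralizerHom F.core P := by
  obtain ⟨hext, hT⟩ := component_centExt hS hF hC
  obtain ⟨g, hg, hgφ, hgQ⟩ := hext P _ (map_of_mem hφ)
  exact mem_centralizerHom.2 ⟨(C.le_of_mem hφ).1.trans hT, fun x => hT ((C.le_of_mem hφ).2 x), g, hg,
    fun x => (fn_coe φ x).symm.trans (hgφ x x.2).symm, hgQ⟩

end Cfsg.Agent.Local.FS
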