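import Cfsg.Agent.Lib.Local.FS.ModelEmbed
import Cfsg.Agent.Lib.Local.FS.Series

/-!
Inner systems and `p`-automorphism conditions at a subgroup.
-/

set_option autoImplicit false

namespace Cfsg.Agent.Local.FS

open Cfsg Cfsg.FusionSystem Cfsg.Agent.Fusion

variable {Ω : Type*} [Group Ω] {S : Subgroup Ω} {F : FusionSystem S} {p : ℕ} {U : Subgroup Ω}

/-- Every map is a conjugation by an element of `S`. -/
def IsInner (F : FusionSystem S) : Prop :=
  ∀ P f, Map F P f → ∃ s ∈ S, ∀ x ∈ P, f x = s * x * s⁻¹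

theorem isInner_iff_hom : IsInner F ↔ ∀ P : Subgroup Ω, F.Hom P = (innerFusionSystem S).Hom P := by
  constructor
  · intro h P
    refine Set.Subset.antisymm (fun φ hφ => ?_) ?_
    · obtain ⟨s, hs, he⟩ := h P _ (map_of_mem hφ)
      exact ⟨(F.le_of_mem hφ).1, s, hs, fun x => (fn_coe φ x).symm.trans (he x x.2)⟩
    · rintro φ ⟨hP, g, hg, hφ⟩
      rw [show φ = conjHom P g from MonoidHom.ext hφ]
      exact F.conj_mem hP hg
  · rintro h P f ⟨φ, hφ, he⟩
    rw [h P] at hφ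
    obtain ⟨-, s, hs, hsφ⟩ := hφ
    exact ⟨s, hs, fun x hx => (he ⟨x, hx⟩).symm.trans (hsφ ⟨x, hx⟩)⟩

theorem semiconj_pow {Ω' : Type*} [Group Ω'] {A : Subgroup Ω} {B : Subgroup Ω'} {α : MulAut A}
    {β : MulAut B} (e : Ω → Ω') (he : ∀ x ∈ A, e x ∈ B)
    (h : ∀ x ∈ A, e (av α x) = av β (e x)) (n : ℕ) :
    ∀ x ∈ A, e (av (α ^ n) x) = av (β ^ n) (e x) := by
  induction n with
  | zero => intro x hx; rw [pow_zero, pow_zero, av_one hx, av_one (he x hx)]
  | succ n ih =>
    intro x hx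
    rw [pow_succ, pow_succ, av_mul _ _ hx, av_mul _ _ (he x hx), ih _ (av_mem α hx), h x hx]

theorem pow_eq_one_of_semiconj {Ω' : Type*} [Group Ω'] {A : Subgroup Ω} {B : Subgroup Ω'} {α : MulAut A}
    {β : MulAut B} (e : Ω → Ω') (he : ∀ x ∈ A, e x ∈ B) (hinj : Set.InjOn e A)
    (h : ∀ x ∈ A, e (av α x) = av β (e x)) {n : ℕ} (hn : β ^ n = 1) : α ^ n = 1 := by
  refine aut_ext fun x hx => ?_
  rw [av_one hx]
  refine hinj (av_mem _ hx) hx ?_
  rw [semiconj_pow e he h n x hx, hn, av_one (he x hx)]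

/-- An automorphism given by conjugation by a `p`-element has `p`-power order. -/
theorem exists_pow_of_conj (hS : IsPGroup p S) {A : Subgroup Ω} {α : MulAut A} {s : Ω} (hs : s ∈ S)
    (h : ∀ x ∈ A, av α x = s * x * s⁻¹) : ∃ k, α ^ p ^ k = 1 := by
  have hiter : ∀ n : ℕ, ∀ x ∈ A, av (α ^ n) x = s ^ n * x * (s ^ n)⁻¹ := by
    intro n
    induction n with
    | zero => intro x hx; simp [av_one hx]
    | succ n ih =>
      intro x hx
      rw [pow_succ, av_mul _ _ hx, h x hx, ih _ (h x hx ▸ av_mem α hx), pow_succ]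
      group
  obtain ⟨k, hk⟩ := hS ⟨s, hs⟩
  have hk' : s ^ p ^ k = 1 := congrArg Subtype.val hk
  exact ⟨k, aut_ext fun x hx => by rw [hiter _ x hx, hk', av_one hx]; simp⟩

variable [Finite S]

theorem isPGroup_autGroup_of_inner (hS : IsPGroup p S) (h : IsInner F) {R : Subgroup Ω} (hR : R ≤ S) :
    IsPGroup p (F.autGroup R) := by
  rintro ⟨α, hα⟩
  obtain ⟨s, hs, he⟩ := h R _ (map_of_mem_autGroup hR hα)
  obtain ⟨k, hk⟩ := exists_pow_of_conj hS hs he
  exact ⟨k, Subtype.ext hk⟩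

variable [Fact p.Prime]

/-- A system whose generating automorphism groups are `p`-groups is inner. -/
theorem isInner_of_gen (hS : IsPGroup p S) (hF : F.IsSaturated p)
    (h : ∀ R : Subgroup Ω, (R = S ∨ F.IsEssential p R) → IsPGroup p (F.autGroup R)) : IsInner F := by
  intro P f hf
  have hm : Map (innerFusionSystem S) P f := by
    refine alperin hS hF (isClosedClass_map _) (fun R hR α hα => ?_) P f hf
    have hp' := h R hR
    rcases hR with rfl | hE
    · haveI := mulAut_finite_of_le (le_refl R)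
      obtain ⟨-, hsyl⟩ := fa_iff.1 (fc_fa_of_fn hS hF (fn_self (F := F))).2
      obtain ⟨s, hs, hsα⟩ := mem_autInducedBy.1 ((hsyl.eq_of_le hp' hsyl.le le_rfl).le hα)
      exact (map_conjBy le_rfl hs).congr fun x hx => (hsα x hx).symm
    · exfalso
      have hRS := hE.1.1
      haveI := mulAut_finite_of_le hRS
      have hrad := (radical_of_essential hS hF hE).2
      obtain ⟨-, -, hn, E, hdvd, -, -⟩ := hE
      have htop : pCore p ↥(F.autGroup R) = ⊤ := top_le_iff.1 (le_pCore (hp'.to_subgroup _))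
      have hin : (Inn R).subgroupOf (F.autGroup R) = ⊤ := by
        rw [Subgroup.subgroupOf_eq_top, ← hrad, htop, ← MonoidHom.range_eq_map, Subgroup.range_subtype]
      have h1 : Nat.card (↥(F.autGroup R) ⧸ (Inn R).subgroupOf (F.autGroup R)) = 1 := by
        rw [← Subgroup.index_eq_card, hin, Subgroup.index_top]
      rw [h1] at hdvd
      exact (Fact.out : p.Prime).ne_one (Nat.dvd_one.1 hdvd)
  obtain ⟨φ, ⟨-, s, hs, hsφ⟩, he⟩ := hm
  exact ⟨s, hs, fun x hx => (he ⟨x, hx⟩).symm.trans (hsφ ⟨x, hx⟩)⟩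

/-- Every automorphism in `F` normalizing `U` of a subgroup between `U` and `N_S(U)` is a `p`-element. -/
def PAt (F : FusionSystem S) (p : ℕ) (U : Subgroup Ω) : Prop :=
  ∀ A : Subgroup Ω, U ≤ A → A ≤ normalizerIn S U → ∀ α ∈ F.autGroup A, im U (av α) = U → ∃ k, α ^ p ^ k = 1

omit [Fact p.Prime] in
theorem pAt_of_isInner (hS : IsPGroup p S) {N : FusionSystem (normalizerIn S U)}
    (hN : F.IsNormalizerSystem U N) (h : IsInner N) : PAt F p U := by
  intro A hUA hA α hα hi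
  obtain ⟨s, hs, he⟩ := h A (av α) ((map_normalizerSystem_iff hN).2 ⟨hA, fun x hx => hA (av_mem α hx), av α,
    by rw [sup_eq_left.2 hUA]; exact map_of_mem_autGroup (hA.trans inf_le_left) hα, fun _ _ => rfl, hi⟩)
  exact exists_pow_of_conj hS hs.1 he

omit [Fact p.Prime] in
theorem pAt_of_inner (hS : IsPGroup p S) (h : IsInner F) : PAt F p U := fun A _ hA α hα _ => by
  obtain ⟨s, hs, he⟩ := h A _ (map_of_mem_autGroup (hA.trans inf_le_left) hα)
  exact exists_pow_of_conj hS hs he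

theorem isInner_of_pAt (hS : IsPGroup p S) (hF : F.IsSaturated p) (hU : F.IsFullyNormalized U)
    {N : FusionSystem (normalizerIn S U)} (hN : F.IsNormalizerSystem U N) (h : PAt F p U) : IsInner N := by
  have hNs := saturated_of_isNormalizerSystem hS hF hU hN
  have hVp : IsPGroup p ↥(normalizerIn S U) := hS.to_le inf_le_left
  refine isInner_of_gen hVp hNs fun R hR => ?_
  obtain ⟨hC, hr⟩ := gen_centric_radical hVp hNs hR
  have hUR := normal_le_centric_radical hVp (normal_normalizerSystem hU.1 hN) hC hr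
  rintro ⟨α, hα⟩
  obtain ⟨-, -, g, hg, hgf, hgU⟩ := (map_normalizerSystem_iff hN).1 (map_of_mem_autGroup hC.1 hα)
  rw [sup_eq_left.2 hUR] at hg
  obtain ⟨k, hk⟩ := h R hUR hC.1 α (mem_autGroup_of_map (hg.congr hgf))
    ((im_congr fun x hx => (hgf x (hUR hx)).symm).trans hgU)
  exact ⟨k, Subtype.ext hk⟩

/-- Transport of the condition along a map defined on the normalizer. -/
theorem pAt_transfer {R R' : Subgroup Ω} {ψ : Ω → Ω} (hψ : Map F (normalizerIn S R) ψ) (hRS : R ≤ S)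
    (hψR : im R ψ = R') (h : PAt F p R') : PAt F p R := by
  intro A hRA hA α hα hi
  have hψA := hψ.restrict hA
  have hαm := map_of_mem_autGroup (hA.trans inf_le_left) hα
  obtain ⟨ψ', hψ', hψψ, hψ'2, -⟩ := hψA.exists_inv
  have hh : Map F (im A ψ) (ψ ∘ av α ∘ ψ') :=
    (hψ'.comp hαm fun y hy => (hψ'2 y hy).2).comp hψA fun y hy => av_mem α (hψ'2 y hy).2
  have hval : ∀ x ∈ A, ψ (av α (ψ' (ψ x))) = ψ (av α x) := fun x hx => by rw [hψψ x hx]
  have himA : im (im A ψ) (ψ ∘ av α ∘ ψ') = im A ψ := by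
    rw [← hψA.im_comp]
    refine (im_congr (g := ψ ∘ av α) fun x hx => hval x hx).trans ?_
    rw [hαm.im_comp, im_av]
  obtain ⟨β, hβ, hβh⟩ := exists_aut hh himA
  have hR' : R' ≤ im A ψ := hψR.ge.trans (im_mono hRA)
  have hAn : im A ψ ≤ normalizerIn S R' := im_le_iff.2 fun x hx =>
    hψR ▸ hψ.mem_normalizer (le_normalizerIn hRS) (hA hx) (hA hx).2
  have hβR : im R' (av β) = R' := by
    rw [im_congr (g := ψ ∘ av α ∘ ψ') fun x hx => hβh x (hR' hx), ← hψR, ← (hψA.restrict hRA).im_comp]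
    refine (im_congr (g := ψ ∘ av α) fun x hx => hval x (hRA hx)).trans ?_
    rw [(hαm.restrict hRA).im_comp, hi]
  obtain ⟨k, hk⟩ := h _ hR' hAn β hβ hβR
  exact ⟨k, pow_eq_one_of_semiconj ψ (fun x hx => mem_im_of_mem hx) hψA.injOn
    (fun x hx => by rw [hβh _ (mem_im_of_mem hx)]; exact (hval x hx).symm) hk⟩

end Cfsg.Agent.Local.FS
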