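import Cfsg.Agent.Lib.Local.FS.Factor
import Cfsg.Agent.Lib.Local.FS.Quotient
import Cfsg.Agent.Lib.Local.FS.Focal
import Cfsg.Agent.Lib.Fusion.NPC

/-!
The hyperfocal subgroup of a factor system.
-/

set_option autoImplicit false

namespace Cfsg.Agent.Local.FS

open Cfsg Cfsg.FusionSystem Cfsg.Agent.Fusion

variable {Ω : Type*} [Group Ω] {S : Subgroup Ω} [Finite S] {F : FusionSystem S} {T : Subgroup Ω}
  {Ω' : Type*} [Group Ω'] {S' : Subgroup Ω'} {θ : S →* Ω'} {E : FusionSystem S'} {p : ℕ} [Fact p.Prime]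

theorem fac_ue_diff {x y : Ω} (hx : x ∈ S) (hy : y ∈ S) : ue θ (x⁻¹ * y) = (ue θ x)⁻¹ * ue θ y := by
  rw [ue_mul (S.inv_mem hx) hy, ue_inv hx]

theorem fac_hyperfocal (hS : IsPGroup p S) (hF : F.IsSaturated p) (hT : F.StronglyClosed T)
    (hE : F.IsFactorSystem T θ E) :
    E.hyperfocalSubgroup p = ((F.hyperfocalSubgroup p).subgroupOf S).map θ := by
  haveI := fac_finite hE
  refine le_antisymm ((Subgroup.closure_le _).2 ?_) ?_
  · rintro _ ⟨P', β, a, hP', hβ, rfl⟩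
    haveI := mulAut_finite_of_le hP'
    haveI := mulAut_finite_of_le (preimage_le (i := θ) P')
    obtain ⟨π, hπ, hr⟩ := fac_exists_hom hE hT hP'
    obtain ⟨π', hπ'⟩ : ∃ π' : ↥(F.autGroup (preimageAlong θ P')) →* ↥(E.autGroup P'),
        ∀ α, (π' α : MulAut P') = π α :=
      ⟨π.codRestrict _ fun α => hr.le ⟨α, rfl⟩, fun α => rfl⟩
    have hsur : Function.Surjective π' := fun b => by
      obtain ⟨α, hα⟩ := hr.ge b.2
      exact ⟨α, Subtype.ext ((hπ' α).trans hα)⟩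
    obtain ⟨α, hα, rfl⟩ := (map_pResidual_of_surjective (p := p) π' hsur).ge hβ
    obtain ⟨x, hx, hxa⟩ := fac_exists_pre hE hP' a.2
    have hm : x⁻¹ * av (α : MulAut ↥(preimageAlong θ P')) x ∈ F.hyperfocalSubgroup p :=
      inv_mul_mem_hyperfocal (preimage_le P') hα hx
    refine ⟨⟨_, hyperfocal_le hm⟩, hm, ?_⟩
    rw [← ue_apply (i := θ) (hyperfocal_le hm),
      fac_ue_diff (preimage_le P' hx) (preimage_le P' (av_mem _ hx)), ← hπ α x hx, ← hπ', hxa, av_coe]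
  · rw [Subgroup.map_le_iff_le_comap]
    intro y hy
    suffices h : ∀ z ∈ F.hyperfocalSubgroup p, ∃ hz : z ∈ S, θ ⟨z, hz⟩ ∈ E.hyperfocalSubgroup p by
      exact (h y hy).2
    intro z hz
    refine Subgroup.closure_induction ?_ ⟨S.one_mem, by
        rw [show (⟨1, S.one_mem⟩ : S) = 1 from rfl, map_one]; exact one_mem _⟩
      (fun a b _ _ ⟨ha, ha'⟩ ⟨hb, hb'⟩ => ⟨S.mul_mem ha hb, by
        rw [show (⟨a * b, S.mul_mem ha hb⟩ : S) = ⟨a, ha⟩ * ⟨b, hb⟩ from rfl, map_mul]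
        exact mul_mem ha' hb'⟩)
      (fun a _ ⟨ha, ha'⟩ => ⟨S.inv_mem ha, by
        rw [show (⟨a⁻¹, S.inv_mem ha⟩ : S) = ⟨a, ha⟩⁻¹ from rfl, map_inv]
        exact inv_mem ha'⟩) hz
    rintro _ ⟨P, α, x, hP, hα, rfl⟩
    haveI := mulAut_finite_of_le hP
    obtain ⟨P', hP'def⟩ : ∃ P', P' = imageAlong θ P := ⟨_, rfl⟩
    have hP' : P' ≤ S' := hP'def ▸ fac_up_le hE
    have hpre : preimageAlong θ P' = P ⊔ T := hP'def ▸ fac_pre_up hE hP
    haveI := mulAut_finite_of_le hP'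
    have hue : ∀ u ∈ P, ue θ u ∈ P' := fun u hu => by
      rw [hP'def, ue_apply (hP hu)]
      exact ⟨⟨u, hP hu⟩, hu, rfl⟩
    have hsur : ∀ b ∈ P', ∃ u ∈ P, ue θ u = b := fun b hb => by
      rw [hP'def] at hb
      obtain ⟨u, hu, rfl⟩ := hb
      exact ⟨u, hu, ue_coe u⟩
    have key : ∀ γ : F.autGroup P, ∃ β ∈ E.autGroup P', ∀ u ∈ P,
        av β (ue θ u) = ue θ (av (γ : MulAut P) u) := by
      intro γ
      obtain ⟨g, hg, hgc⟩ := quotMap_all hS hF hT P _ (map_of_mem_autGroup hP γ.2)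
      have hin := quotMap_im_mem hT hg hgc (Q := P) fun u hu => av_mem _ hu
      have hgi : im (P ⊔ T) g = P ⊔ T := hg.im_eq hin
        fun v hv => hg.surj_of_card_le (sup_le hP hT.1) hin le_rfl v hv
      obtain ⟨α', hα', hα'g⟩ := exists_aut hg hgi
      obtain ⟨π, hπ, hr⟩ : ∃ π : ↥(F.autGroup (P ⊔ T)) →* MulAut P',
          (∀ α, ∀ x ∈ P ⊔ T, av (π α) (ue θ x) = ue θ (av (α : MulAut ↥(P ⊔ T)) x)) ∧
          π.range = E.autGroup P' := by
        rw [← hpre]; exact fac_exists_hom hE hT hP'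
      refine ⟨π ⟨α', hα'⟩, hr.le ⟨_, rfl⟩, fun u hu => ?_⟩
      rw [hπ ⟨α', hα'⟩ u (Subgroup.mem_sup_left hu), hα'g u (Subgroup.mem_sup_left hu)]
      have h1 := hgc u hu
      have hgS : g u ∈ S := hg.mem (Subgroup.mem_sup_left hu)
      have hfS : av (γ : MulAut P) u ∈ S := hP (av_mem _ hu)
      have h2 := (fac_ue_eq_one hE (S.mul_mem (S.inv_mem hfS) hgS)).2 h1
      rw [fac_ue_diff hfS hgS, inv_mul_eq_one] at h2
      exact h2.symm
    choose π hπ hπs using key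
    let π' : ↥(F.autGroup P) →* ↥(E.autGroup P') := MonoidHom.mk' (fun γ => ⟨π γ, hπ γ⟩) fun γ δ =>
      Subtype.ext (aut_ext fun b hb => by
        obtain ⟨u, hu, rfl⟩ := hsur b hb
        show av (π (γ * δ)) (ue θ u) = av (π γ * π δ) (ue θ u)
        rw [hπs _ u hu, av_mul _ _ (hue u hu), hπs δ u hu, hπs γ _ (av_mem _ hu), Subgroup.coe_mul,
          av_mul _ _ hu])
    have hmem : π' α ∈ pResidual p ↥(E.autGroup P') := map_pResidual_le π' ⟨α, hα, rfl⟩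
    have hxS : (x : Ω) ∈ S := hP x.2
    have hyS : av (α : MulAut P) x ∈ S := hP (av_mem _ x.2)
    have h := inv_mul_mem_hyperfocal (F := E) hP' hmem (hue x x.2)
    rw [show ((π' α : ↥(E.autGroup P')) : MulAut P') = π α from rfl, hπs α x x.2, ← fac_ue_diff hxS hyS,
      ue_apply (S.mul_mem (S.inv_mem hxS) hyS)] at h
    simp only [av_coe] at h hyS
    exact ⟨S.mul_mem (S.inv_mem hxS) hyS, h⟩

end Cfsg.Agent.Local.FS
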