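import Cfsg.Agent.Lib.Local.FS.PullNormal
import Cfsg.Agent.Lib.Local.FS.Sub
import Cfsg.Agent.Lib.Local.FS.Factor

/-!
Composition and inversion of isomorphisms of fusion systems; subnormality along them.
-/

set_option autoImplicit false

namespace Cfsg.Agent.Local.FS

open Cfsg Cfsg.FusionSystem Cfsg.Agent.Fusion

universe u v w

theorem fsys_ext {Ω : Type u} [Group Ω] {S : Subgroup Ω} {F E : FusionSystem S}
    (h : ∀ P, F.Hom P = E.Hom P) : F = E := by
  obtain ⟨HF, _, _, _, _, _⟩ := F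
  obtain ⟨HE, _, _, _, _, _⟩ := E
  obtain rfl : HF = HE := funext h
  rfl

theorem fsys_ext_map {Ω : Type u} [Group Ω] {S : Subgroup Ω} {F E : FusionSystem S}
    (h : ∀ P f, Map F P f ↔ Map E P f) : F = E :=
  fsys_ext fun P => Set.ext fun φ => mem_iff_map.trans ((h P (fn φ)).trans mem_iff_map.symm)

variable {Ω : Type u} [Group Ω] {Ω' : Type v} [Group Ω'] {S : Subgroup Ω} {S' : Subgroup Ω'}
  {i : S →* Ω'} {F : FusionSystem S} {F' : FusionSystem S'}

theorem subnormal_sub {Ω : Type u} [Group Ω] {T S : Subgroup Ω} {E : FusionSystem T} {F : FusionSystem S} {p : ℕ}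
    (hE : E.IsSubnormalIn F p) : E.IsSubsystemOf F := by
  induction hE with
  | refl F p => exact fun P => subset_rfl
  | step hED hD ih => exact fun P => (ih P).trans (hD.1.2.2.1 P)

theorem mem_pre_iff {Ω : Type u} [Group Ω] {Ω' : Type v} [Group Ω'] {T : Subgroup Ω} {g : T →* Ω'} {P : Subgroup Ω'}
    {x : Ω} : x ∈ preimageAlong g P ↔ x ∈ T ∧ ue g x ∈ P := by
  constructor
  · rintro ⟨s, hs, rfl⟩
    exact ⟨s.2, by rw [Subgroup.coe_subtype, ue_coe]; exact hs⟩
  · rintro ⟨hx, hP⟩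
    rw [ue_apply hx] at hP
    exact ⟨⟨x, hx⟩, hP, rfl⟩

theorem FIso.up_self (h : FIso F F' i) : up i S = S' := by
  refine le_antisymm h.up_le fun y hy => ?_
  obtain ⟨x, rfl⟩ := h.range_eq.ge hy
  exact ⟨x, x.2, rfl⟩

theorem FIso.ve_up (h : FIso F F' i) {P : Subgroup Ω} (hP : P ≤ S) {y : Ω'} (hy : y ∈ up i P) : ve i y ∈ P := by
  obtain ⟨x, hx, rfl⟩ := (mem_up hP).1 hy
  rwa [h.ve_ue (hP hx)]

/-- The inverse of an isomorphism of fusion systems. -/
theorem FIso.exists_symm (h : FIso F F' i) :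
    ∃ j : S' →* Ω, FIso F' F j ∧ ∀ y ∈ S', ue j y = ve i y := by
  let e : S ≃* S' := (MonoidHom.ofInjective h.inj).trans (MulEquiv.subgroupCongr h.range_eq)
  obtain ⟨j, hjdef⟩ : ∃ j, j = S.subtype.comp e.symm.toMonoidHom := ⟨_, rfl⟩
  have hj : ∀ y ∈ S', ue j y = ve i y := by
    intro y hy
    obtain ⟨⟨x, hx⟩, rfl⟩ := h.range_eq.ge hy
    rw [ue_apply hy, hjdef]
    show ((e.symm ⟨i ⟨x, hx⟩, hy⟩ : S) : Ω) = _
    rw [show (⟨i ⟨x, hx⟩, hy⟩ : S') = e ⟨x, hx⟩ from Subtype.ext rfl, e.symm_apply_apply,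
      ← ue_apply (i := i) hx, h.ve_ue hx]
  have hinj : Function.Injective j := hjdef ▸ S.subtype_injective.comp e.symm.injective
  have hve : ∀ x ∈ S, ve j x = ue i x := by
    intro x hx
    have h1 : j ⟨ue i x, h.ue_mem hx⟩ = x := by
      rw [← ue_apply (i := j) (h.ue_mem hx), hj _ (h.ue_mem hx), h.ve_ue hx]
    have h2 := Function.leftInverse_invFun hinj ⟨ue i x, h.ue_mem hx⟩
    rw [h1] at h2
    show ((Function.invFun j x : S') : Ω') = _
    rw [h2]
  refine ⟨j, ⟨hinj, ?_, fun P hP g hg => ?_⟩, hj⟩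
  · refine SetLike.ext fun x => ⟨?_, fun hx => MonoidHom.mem_range.2 ⟨e ⟨x, hx⟩, ?_⟩⟩
    · rintro ⟨y, rfl⟩; rw [hjdef]; exact SetLike.coe_mem _
    · rw [hjdef]; exact congrArg Subtype.val (e.symm_apply_apply _)
  have hQ : up j P ≤ S := by
    rintro _ ⟨y, -, rfl⟩; rw [hjdef]; exact SetLike.coe_mem _
  have hup : up i (up j P) = P := by
    ext y
    constructor
    · intro hy
      obtain ⟨x, hx, rfl⟩ := (mem_up hQ).1 hy
      obtain ⟨z, hz, rfl⟩ := (mem_up hP).1 hx
      rwa [hj z (hP hz), h.ue_ve (hP hz)]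
    · intro hy
      have h1 := ue_mem_up (i := i) hQ (ue_mem_up (i := j) hP hy)
      rwa [hj y (hP hy), h.ue_ve (hP hy)] at h1
  have hu : ∀ x ∈ up j P, ue i x ∈ P := fun x hx => hup.le (ue_mem_up hQ hx)
  constructor
  · intro hm
    rw [← hup] at hm
    exact (h.map_down hQ hm).congr fun x hx => by
      rw [hve x (hQ hx), hj _ (hg _ (hu x hx))]
  · intro hm
    have h1 := h.map_up hm
    rw [hup] at h1
    exact h1.congr fun y hy => by
      have hv : ve i y ∈ S := ve_mem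
      rw [hve _ hv, h.ue_ve (hP hy), hj _ (hg y hy), h.ue_ve (hg y hy)]

/-- Composition of isomorphisms of fusion systems. -/
theorem FIso.exists_comp {Ω'' : Type w} [Group Ω''] {S'' : Subgroup Ω''} {k : S' →* Ω''} {F'' : FusionSystem S''}
    (h : FIso F F' i) (h' : FIso F' F'' k) :
    ∃ l : S →* Ω'', FIso F F'' l ∧ ∀ x ∈ S, ue l x = ue k (ue i x) := by
  obtain ⟨l, hldef⟩ : ∃ l, l = k.comp (i.codRestrict S' fun x => h.range_eq ▸ ⟨x, rfl⟩) := ⟨_, rfl⟩
  have hl : ∀ x ∈ S, ue l x = ue k (ue i x) := fun x hx => by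
    rw [ue_apply hx, ue_apply hx, hldef, ue_apply (i := k) (h.range_eq ▸ ⟨⟨x, hx⟩, rfl⟩)]; rfl
  have hinj : Function.Injective l := by
    intro a b hab
    rw [← ue_coe (i := l) a, ← ue_coe (i := l) b, hl _ a.2, hl _ b.2] at hab
    exact Subtype.ext (h.ue_inj a.2 b.2 (h'.ue_inj (h.ue_mem a.2) (h.ue_mem b.2) hab))
  have hv : ∀ z ∈ S'', ve l z = ve i (ve k z) := by
    intro z hz
    have hy : ve k z ∈ S' := ve_mem
    have hx : ve i (ve k z) ∈ S := ve_mem
    have h1 : l ⟨_, hx⟩ = z := by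
      rw [← ue_apply (i := l) hx, hl _ hx, h.ue_ve hy, h'.ue_ve hz]
    have h2 := Function.leftInverse_invFun hinj ⟨_, hx⟩
    rw [h1] at h2
    show ((Function.invFun l z : S) : Ω) = _
    rw [h2]
  refine ⟨l, ⟨hinj, ?_, fun P hP f hf => ?_⟩, hl⟩
  · refine SetLike.ext fun z => ⟨?_, fun hz => ?_⟩
    · rintro ⟨x, rfl⟩
      rw [← ue_coe (i := l) x, hl _ x.2]
      exact h'.ue_mem (h.ue_mem x.2)
    · refine ⟨⟨ve l z, ve_mem⟩, ?_⟩
      rw [← ue_apply (i := l) ve_mem, hl _ ve_mem, hv z hz, h.ue_ve ve_mem, h'.ue_ve hz]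
  have hup : up l P = up k (up i P) := by
    ext z
    rw [mem_up hP, mem_up h.up_le]
    constructor
    · rintro ⟨x, hx, rfl⟩; exact ⟨_, ue_mem_up hP hx, (hl x (hP hx)).symm⟩
    · rintro ⟨y, hy, rfl⟩
      obtain ⟨x, hx, rfl⟩ := (mem_up hP).1 hy
      exact ⟨x, hx, hl x (hP hx)⟩
  rw [h.map_iff P hP f hf, h'.map_iff _ h.up_le _ fun y hy => h.ue_mem (hf _ (h.ve_up hP hy)), hup]
  have he : ∀ z ∈ up k (up i P), ue k (ue i (f (ve i (ve k z)))) = ue l (f (ve l z)) := fun z hz => by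
    rw [hv z (h'.up_le hz), hl _ (hf _ (h.ve_up hP (h'.ve_up h.up_le hz)))]
  exact ⟨fun hm => hm.congr he, fun hm => hm.congr fun z hz => (he z hz).symm⟩

/-- Isomorphic images along the same map coincide. -/
theorem FIso.unique (h : FIso F F' i) {S₁ : Subgroup Ω'} {F₁ : FusionSystem S₁} {k : S →* Ω'}
    (h₁ : FIso F F₁ k) (he : ∀ x ∈ S, ue k x = ue i x) : HEq F' F₁ := by
  have hki : k = i := MonoidHom.ext fun x => by rw [← ue_coe (i := k) x, ← ue_coe (i := i) x, he _ x.2]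
  subst hki
  obtain rfl : S' = S₁ := h.range_eq.symm.trans h₁.range_eq
  refine heq_of_eq (fsys_ext_map fun P f => ?_)
  have tr : ∀ {A B : FusionSystem S'}, FIso F A k → FIso F B k → Map A P f → Map B P f := by
    intro A B hA hB hm
    have hP : preimageAlong k P ≤ S := preimage_le P
    have hupP : up k (preimageAlong k P) = P := hA.up_preimage hm.le
    have h1 := hB.map_up (hA.map_down hP (hupP.symm ▸ hm))
    rw [hupP] at h1
    refine h1.congr fun y hy => ?_
    show ue k (ve k (f (ue k (ve k y)))) = f y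
    rw [hA.ue_ve (hm.le hy), hA.ue_ve (hm.mem hy)]
  exact ⟨tr h h₁, tr h₁ h⟩

/-- A factor system modulo the trivial subgroup is an isomorphic system. -/
theorem fiso_of_factor_bot {E : FusionSystem S'} (hE : F.IsFactorSystem ⊥ i E) : FIso F E i := by
  have hinj : Function.Injective i := by
    rw [injective_iff_map_eq_one]
    intro x hx
    exact Subtype.ext (Subgroup.mem_bot.1 ((hE.2.1 x).1 hx))
  have hve : ∀ {x : Ω}, x ∈ S → ve i (ue i x) = x := fun {x} hx => by
    rw [ue_apply hx, ve, Function.leftInverse_invFun hinj ⟨x, hx⟩]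
  have hupS : ∀ P, up i P ≤ S' := fun P => by
    rintro _ ⟨x, -, rfl⟩; exact hE.2.2.1 ▸ ⟨x, rfl⟩
  refine ⟨hinj, hE.2.2.1, fun P hP f hf => ?_⟩
  have hpre : preimageAlong i (up i P) = P := by
    ext x
    rw [mem_pre_iff]
    constructor
    · rintro ⟨hx, hxi⟩
      obtain ⟨y, hy, he⟩ := (mem_up hP).1 hxi
      have h1 := congrArg (ve i) he
      rw [hve (hP hy), hve hx] at h1
      exact h1 ▸ hy
    · exact fun hx => ⟨hP hx, ue_mem_up hP hx⟩
  constructor
  · rintro ⟨φ, hφ, he⟩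
    let φ' : ↥(up i P) →* Ω' := MonoidHom.mk' (fun y => ue i (f (ve i y))) fun a b => by
      obtain ⟨x, hx, hxa⟩ := (mem_up hP).1 a.2
      obtain ⟨y, hy, hyb⟩ := (mem_up hP).1 b.2
      rw [Subgroup.coe_mul, ← hxa, ← hyb, ← ue_mul (hP hx) (hP hy), hve (hP hx), hve (hP hy),
        hve (S.mul_mem (hP hx) (hP hy)), ← ue_mul (hf x hx) (hf y hy)]
      refine congrArg (ue i) ?_
      rw [← he ⟨x, hx⟩, ← he ⟨y, hy⟩, ← map_mul]
      exact (he (⟨x, hx⟩ * ⟨y, hy⟩)).symm
    refine ⟨φ', (hE.2.2.2 _ φ').2 ⟨hupS P, ?_⟩, fun y => rfl⟩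
    rw [hpre]
    refine ⟨φ, hφ, hP, fun x => he x ▸ hf x x.2, fun x => ?_, fun x => ?_⟩
    · rw [← ue_apply (i := i) (hP x.2)]; exact ue_mem_up hP x.2
    · show ue i (f (ve i (i ⟨(x : Ω), hP x.2⟩))) = i ⟨φ x, _⟩
      rw [← ue_apply (i := i) (hP x.2), hve (hP x.2), ← ue_apply (i := i), he x]
  · rintro ⟨φ', hφ', he⟩
    obtain ⟨-, h2⟩ := (hE.2.2.2 _ φ').1 hφ'
    rw [hpre] at h2
    obtain ⟨φ, hφ, hPS, hφS, hmem, heq⟩ := h2
    refine ⟨φ, hφ, fun x => ?_⟩
    have h1 := heq x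
    rw [he] at h1
    change ue i (f (ve i (i ⟨(x : Ω), hPS x.2⟩))) = _ at h1
    rw [← ue_apply (i := i) (hP x.2), hve (hP x.2), ← ue_apply (i := i) (hφS x)] at h1
    have h2 := congrArg (ve i) h1
    rw [hve (hf x x.2), hve (hφS x)] at h2
    exact h2.symm

section Auto

variable {S : Subgroup Ω} {F : FusionSystem S} [Finite S]

theorem fiso_of_morphisms {α : ↥S ≃* ↥S} (hα : F.IsMorphism F (S.subtype.comp α.toMonoidHom))
    (hα' : F.IsMorphism F (S.subtype.comp α.symm.toMonoidHom)) : FIso F F (S.subtype.comp α.toMonoidHom) := by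
  have hve : ∀ (β : ↥S ≃* ↥S) {x : Ω}, x ∈ S →
      ve (S.subtype.comp β.toMonoidHom) x = ue (S.subtype.comp β.symm.toMonoidHom) x := by
    intro β x hx
    have h1 : (S.subtype.comp β.toMonoidHom) (β.symm ⟨x, hx⟩) = x := congrArg Subtype.val (β.apply_symm_apply _)
    have h2 := Function.leftInverse_invFun (f := S.subtype.comp β.toMonoidHom)
      (S.subtype_injective.comp β.injective) (β.symm ⟨x, hx⟩)
    rw [h1] at h2
    rw [ue_apply hx]
    show ((Function.invFun _ x : S) : Ω) = _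
    rw [h2]; rfl
  have key : ∀ (β : ↥S ≃* ↥S), F.IsMorphism F (S.subtype.comp β.toMonoidHom) → ∀ {P : Subgroup Ω} {f : Ω → Ω},
      Map F P f → Map F (up (S.subtype.comp β.toMonoidHom) P)
        (fun y => ue (S.subtype.comp β.toMonoidHom) (f (ue (S.subtype.comp β.symm.toMonoidHom) y))) := by
    intro β hβ P f hf
    obtain ⟨φ, hφ, he⟩ := id hf
    obtain ⟨φ', hφ', hPS, hφS, hmem, heq⟩ := hβ.2 P φ hφ
    refine ⟨φ', hφ', fun y => ?_⟩
    obtain ⟨x, hx, hxy⟩ := (mem_up hPS).1 y.2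
    show φ' y = _
    have hy : y = ⟨(S.subtype.comp β.toMonoidHom) ⟨x, hPS hx⟩, hmem ⟨x, hx⟩⟩ := Subtype.ext (by
      rw [← hxy, ue_apply (hPS hx)])
    rw [hy, heq ⟨x, hx⟩, ← ue_apply (i := S.subtype.comp β.toMonoidHom) (hφS ⟨x, hx⟩), he ⟨x, hx⟩]
    refine congrArg (fun t => ue (S.subtype.comp β.toMonoidHom) (f t)) ?_
    show x = ue (S.subtype.comp β.symm.toMonoidHom) ((β ⟨x, hPS hx⟩ : S) : Ω)
    rw [ue_coe]
    exact (congrArg Subtype.val (β.symm_apply_apply ⟨x, hPS hx⟩)).symm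
  refine ⟨S.subtype_injective.comp α.injective, ?_, fun P hP f hf => ⟨fun hm => ?_, fun hm => ?_⟩⟩
  · rw [MonoidHom.range_comp, MonoidHom.range_eq_top.2 α.surjective, ← MonoidHom.range_eq_map, Subgroup.range_subtype]
  · exact (key α hα hm).congr fun y hy => by
      obtain ⟨x, hx, rfl⟩ := (mem_up hP).1 hy
      rw [hve α (by rw [ue_apply (hP hx)]; exact SetLike.coe_mem _)]
  · have h1 := key α.symm hα' hm
    have hcan : ∀ x ∈ S, ue (S.subtype.comp α.symm.toMonoidHom) (ue (S.subtype.comp α.toMonoidHom) x) = x := by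
      intro x hx
      rw [ue_apply hx]
      show ue (S.subtype.comp α.symm.toMonoidHom) ((α ⟨x, hx⟩ : S) : Ω) = x
      rw [ue_coe]
      exact congrArg Subtype.val (α.symm_apply_apply ⟨x, hx⟩)
    have hupP : up (S.subtype.comp α.symm.toMonoidHom) (up (S.subtype.comp α.toMonoidHom) P) = P := by
      ext z
      constructor
      · intro hz
        obtain ⟨y, hy, rfl⟩ := (mem_up hm.le).1 hz
        obtain ⟨x, hx, rfl⟩ := (mem_up hP).1 hy
        rwa [hcan x (hP hx)]
      · intro hz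
        have := ue_mem_up (i := S.subtype.comp α.symm.toMonoidHom) hm.le
          (ue_mem_up (i := S.subtype.comp α.toMonoidHom) hP hz)
        rwa [hcan z (hP hz)] at this
    rw [hupP] at h1
    refine h1.congr fun x hx => ?_
    rw [MulEquiv.symm_symm, hve α (by rw [ue_apply (hP hx)]; exact SetLike.coe_mem _), hcan x (hP hx),
      hcan _ (hf x hx)]

/-- An automorphism in an invariant subsystem's automiser gives an automorphism of the subsystem. -/
theorem fiso_of_invariant {U : Subgroup Ω} {D : FusionSystem U} (hinv : D.IsInvariantIn F) {α : MulAut U}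
    (hα : α ∈ F.autGroup U) : FIso D D (U.subtype.comp α.toMonoidHom) := by
  have hU : U ≤ S := hinv.2.1.1
  haveI := finite_of_le hU
  have hue : ∀ {x : Ω}, x ∈ U → ue (U.subtype.comp α.toMonoidHom) x = av α x := fun {x} hx => by
    rw [ue_apply hx, av_apply α hx]; rfl
  have hinj : Function.Injective (U.subtype.comp α.toMonoidHom) := U.subtype_injective.comp α.injective
  have hve : ∀ {y : Ω}, y ∈ U → ve (U.subtype.comp α.toMonoidHom) y = av α⁻¹ y := fun {y} hy => by
    have h1 : (U.subtype.comp α.toMonoidHom) ⟨av α⁻¹ y, av_mem _ hy⟩ = y := by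
      rw [← ue_apply (i := U.subtype.comp α.toMonoidHom) (av_mem _ hy), hue (av_mem _ hy), av_av_inv α hy]
    have h2 := Function.leftInverse_invFun hinj ⟨av α⁻¹ y, av_mem _ hy⟩
    rw [h1] at h2
    show ((Function.invFun _ y : U) : Ω) = _
    rw [h2]
  refine ⟨hinj, ?_, fun P hP f hf => ?_⟩
  · rw [MonoidHom.range_comp, MonoidHom.range_eq_top.2 α.surjective, ← MonoidHom.range_eq_map, Subgroup.range_subtype]
  have hupim : up (U.subtype.comp α.toMonoidHom) P = im P (av α) :=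
    map_subgroupOf_eq_im hP fun x => (av_coe α x).symm
  rw [hupim]
  constructor
  · intro hm
    obtain ⟨g, hg, hge⟩ := inv_map hinv hm hα
    refine hg.congr fun y hy => ?_
    obtain ⟨x, hx, rfl⟩ := ((map_of_mem_autGroup hU hα).restrict hP).mem_im.1 hy
    rw [hge x hx, hve (av_mem α (hP hx)), av_inv_av α (hP hx), hue (hf x hx)]
  · intro hm
    obtain ⟨g, hg, hge⟩ := inv_map hinv hm ((F.autGroup U).inv_mem hα)
    have him : im (im P (av α)) (av α⁻¹) = P := by
      rw [← ((map_of_mem_autGroup hU hα).restrict hP).im_comp]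
      exact (im_congr (g := id) fun x hx => av_inv_av α (hP hx)).trans im_id
    rw [him] at hg
    refine hg.congr fun x hx => ?_
    have h1 := hge _ (mem_im_of_mem (f := av α) hx)
    rw [av_inv_av α (hP hx), hve (av_mem α (hP hx)), av_inv_av α (hP hx), hue (hf x hx), av_inv_av α (hf x hx)] at h1
    exact h1

end Auto

variable {T' : Subgroup Ω'} {E' : FusionSystem T'}

/-- The pulled back system is isomorphic to the system. -/
theorem FIso.exists_pull (h : FIso F F' i) (hT' : T' ≤ S') :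
    ∃ j : ↥(preimageAlong i T') →* Ω', FIso (pullSys h E' hT') E' j ∧
      ∀ x ∈ preimageAlong i T', ue j x = ue i x := by
  have hTS := preimage_le (i := i) T'
  obtain ⟨j, hj⟩ : ∃ j, j = i.comp (Subgroup.inclusion hTS) := ⟨_, rfl⟩
  have huj : ∀ {x : Ω}, x ∈ preimageAlong i T' → ue j x = ue i x := fun {x} hx => by
    rw [ue_apply hx, ue_apply (hTS hx), hj]; rfl
  have hinj : Function.Injective j := hj ▸ h.inj.comp (Subgroup.inclusion_injective hTS)
  have hupj : ∀ {P : Subgroup Ω}, P ≤ preimageAlong i T' → up j P = up i P := fun {P} hP => by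
    ext y
    rw [mem_up hP, mem_up (hP.trans hTS)]
    constructor <;> rintro ⟨x, hx, rfl⟩ <;> exact ⟨x, hx, by rw [huj (hP hx)]⟩
  refine ⟨j, ⟨hinj, ?_, fun P hP f hm => ?_⟩, fun x hx => huj hx⟩
  · refine SetLike.ext fun y => ⟨?_, fun hy => ?_⟩
    · rintro ⟨x, rfl⟩
      obtain ⟨z, hz, he⟩ := x.2
      rw [hj]
      show i ⟨(x : Ω), _⟩ ∈ T'
      exact (Subtype.ext he : z = ⟨(x : Ω), hTS x.2⟩) ▸ hz
    · obtain ⟨x, rfl⟩ := h.range_eq.ge (hT' hy)
      exact ⟨⟨x, ⟨x, hy, rfl⟩⟩, by rw [hj]; rfl⟩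
  have hvj : ∀ y ∈ up i P, ve j y = ve i y := by
    intro y hy
    obtain ⟨x, hx, rfl⟩ := (mem_up (hP.trans hTS)).1 hy
    rw [h.ve_ue (hTS (hP hx)), ← huj (hP hx), ue_apply (hP hx), ve, Function.leftInverse_invFun hinj ⟨x, hP hx⟩]
  have hcongr : ∀ y ∈ up i P, pushFn i f y = ue j (f (ve j y)) := fun y hy => by
    obtain ⟨x, hx, rfl⟩ := (mem_up (hP.trans hTS)).1 hy
    rw [h.pushFn_ue (hTS (hP hx)), hvj _ (ue_mem_up (hP.trans hTS) hx), h.ve_ue (hTS (hP hx)), huj (hm x hx)]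
  rw [hupj hP]
  refine ⟨fun hf => (pullSys_up hf).congr hcongr, fun hg => ?_⟩
  have hg' : Map E' (up i P) (pushFn i f) := hg.congr fun y hy => (hcongr y hy).symm
  let φ : P →* Ω := MonoidHom.mk' (fun x => f x) fun x y => by
    have hxy := hg'.map_mul (ue_mem_up (hP.trans hTS) x.2) (ue_mem_up (hP.trans hTS) y.2)
    rw [← ue_mul (hTS (hP x.2)) (hTS (hP y.2)), h.pushFn_ue (hTS (hP x.2)), h.pushFn_ue (hTS (hP y.2)),
      h.pushFn_ue (hTS (hP (P.mul_mem x.2 y.2))), ← ue_mul (hTS (hm x x.2)) (hTS (hm y y.2))] at hxy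
    exact h.ue_inj (hTS (hm _ (P.mul_mem x.2 y.2))) (S.mul_mem (hTS (hm x x.2)) (hTS (hm y y.2))) hxy
  exact ⟨φ, ⟨hP, fun x => hm x x.2, hg'.congr fun y hy => by
    obtain ⟨x, hx, rfl⟩ := (mem_up (hP.trans hTS)).1 hy
    rw [h.pushFn_ue (hTS (hP hx)), h.pushFn_ue (hTS (hP hx)), fn_apply _ hx]
    rfl⟩, fun x => rfl⟩

/-- Subnormal subsystems correspond along isomorphisms. -/
theorem FIso.subnormal {Ω : Type u} [Group Ω] {Ω' : Type v} [Group Ω'] {T' S' : Subgroup Ω'}
    {E' : FusionSystem T'} {F' : FusionSystem S'} {p : ℕ} (hE : E'.IsSubnormalIn F' p) :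
    ∀ {S T : Subgroup Ω} [Finite S] [Fact p.Prime] {F : FusionSystem S} {E : FusionSystem T}
      {i : S →* Ω'} {j : T →* Ω'}, FIso F F' i → IsPGroup p S → F.IsSaturated p →
      FIso E E' j → T ≤ S → (∀ x ∈ T, ue j x = ue i x) → E.IsSubnormalIn F p := by
  induction hE with
  | refl F' p =>
    intro S T _ _ F E i j h _ _ hE hTS hc
    have hTe : T = S := h.up_inj hTS le_rfl (by
      rw [h.up_self, ← hE.up_self]
      ext y
      rw [mem_up hTS, mem_up le_rfl]
      constructor <;> rintro ⟨x, hx, rfl⟩ <;> exact ⟨x, hx, by rw [hc x hx]⟩)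
    subst hTe
    obtain rfl : j = i := MonoidHom.ext fun x => by rw [← ue_coe (i := j) x, ← ue_coe (i := i) x, hc _ x.2]
    obtain rfl : E = F := fsys_ext_map fun P f => by
      constructor <;> intro hm
      · exact (h.map_iff P hm.le f fun x hx => hm.mem hx).2 (hE.map_up hm)
      · exact (hE.map_iff P hm.le f fun x hx => hm.mem hx).2 (h.map_up hm)
    exact IsSubnormalIn.refl _ _
  | @step U' S' E' D' F' p hED hD ih =>
    intro S T _ _ F E i j h hS hF hE hTS hc
    have hU' : U' ≤ S' := hD.1.2.2.2.1.1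
    have hN := pullSys_normalIn h hU' hS hF hD
    obtain ⟨k, hk, hkc⟩ := h.exists_pull (E' := D') hU'
    haveI : Finite ↥(preimageAlong i U') := finite_of_le (preimage_le U')
    have hTU : T ≤ preimageAlong i U' := fun x hx => by
      refine mem_pre_iff.2 ⟨hTS hx, ?_⟩
      rw [← hc x hx]
      exact (D'.le_of_mem (subnormal_sub hED _ (E'.conj_mem le_rfl (one_mem _)))).1 (hE.ue_mem hx)
    exact IsSubnormalIn.step (ih hk (hS.to_le (preimage_le U')) hN.1.1 hE hTU
      fun x hx => (hc x hx).trans (hkc x (hTU hx)).symm) hN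

/-- A conjugate of a subnormal subsystem by a map of the system is subnormal. -/
theorem subnormal_conj {T S : Subgroup Ω} {C : FusionSystem T} {F : FusionSystem S} {p : ℕ}
    (hC : C.IsSubnormalIn F p) :
    IsPGroup p S → Finite S → Fact p.Prime → F.IsSaturated p →
      ∀ {T₁ : Subgroup Ω} {C₁ : FusionSystem T₁} {g : T →* Ω}, Map F T (ue g) → FIso C C₁ g →
        C₁.IsSubnormalIn F p := by
  induction hC with
  | refl F p =>
    intro _ hfin _ _ T₁ C₁ g hg hC
    have hTe : T₁ = T := by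
      haveI := hfin
      refine Subgroup.eq_of_le_of_card_ge ?_ ?_
      · rw [← hC.range_eq]; rintro _ ⟨x, rfl⟩; rw [← ue_coe (i := g) x]; exact hg.mem x.2
      · rw [← hC.range_eq, Nat.card_congr (MonoidHom.ofInjective hC.inj).symm.toEquiv]
    subst hTe
    obtain rfl : C₁ = F := by
      refine fsys_ext_map fun P f => ?_
      have hgi := hg
      obtain ⟨g', hg', hgg', -⟩ := hg.exists_inv
      rw [show im T₁ (ue g) = T₁ from hg.im_eq (fun x hx => hC.ue_mem hx)
        fun y hy => ⟨ve g y, ve_mem, hC.ue_ve hy⟩] at hg'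
      have hg'v : ∀ y ∈ T₁, g' y = ve g y := fun y hy => by
        conv_lhs => rw [← hC.ue_ve hy]
        exact hgg' _ ve_mem
      constructor <;> intro hm
      · have hP : preimageAlong g P ≤ T₁ := preimage_le P
        have h1 := hC.map_down hP ((hC.up_preimage hm.le).symm ▸ hm)
        have h2 := (((hg'.restrict hm.le).congr fun y hy => hg'v y (hm.le hy)).comp (h1.comp (hgi.restrict le_rfl)
          fun x hx => h1.mem hx) fun y hy => ?_)
        · refine h2.congr fun y hy => ?_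
          show ue g (ve g (f (ue g (ve g y)))) = f y
          rw [hC.ue_ve (hm.le hy), hC.ue_ve (hm.mem hy)]
        · exact mem_pre_iff.2 ⟨ve_mem, (hC.ue_ve (hm.le hy)).symm ▸ hy⟩
      · have hP : preimageAlong g P ≤ T₁ := preimage_le P
        have hu : ∀ x ∈ preimageAlong g P, ue g x ∈ P := fun x hx =>
          (hC.up_preimage hm.le).le (ue_mem_up hP hx)
        have h1 : Map F (preimageAlong g P) (fun x => g' (f (ue g x))) :=
          ((hgi.restrict hP).comp hm hu).comp hg' fun x hx => hm.mem (hu x hx)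
        have h2 := hC.map_up h1
        rw [hC.up_preimage hm.le] at h2
        refine h2.congr fun y hy => ?_
        show ue g (g' (f (ue g (ve g y)))) = f y
        rw [hC.ue_ve (hm.le hy), hg'v _ (hm.mem hy), hC.ue_ve (hm.mem hy)]
    exact IsSubnormalIn.refl _ _
  | @step U S C D F p hCD hD ih =>
    intro hS hfin hp hF T₁ C₁ g hg hC
    haveI := hfin
    haveI := hp
    have hinv := hD.1.2.2
    have hU : U ≤ S := hinv.2.1.1
    haveI := finite_of_le hU
    have hTU : T ≤ U := le_of_sub (subnormal_sub hCD)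
    obtain ⟨α, hα, g₀, hg₀, hge⟩ := frattini_map hinv hTU hg
    have hT₁ : T₁ ≤ U := by
      intro y hy
      rw [← hC.ue_ve hy, hge _ ve_mem]
      exact av_mem α (hg₀.mem ve_mem)
    have hA := fiso_of_invariant hinv hα
    obtain ⟨k, hk, hkc⟩ := hA.exists_pull (E' := C₁) hT₁
    obtain ⟨k', hk', hk'c⟩ := hk.exists_symm
    obtain ⟨l, hl, hlc⟩ := hC.exists_comp hk'
    have hlg : ∀ x ∈ T, ue l x = g₀ x := fun x hx => by
      have hgx : g₀ x ∈ U := hg₀.mem hx
      have hpre : g₀ x ∈ preimageAlong (U.subtype.comp α.toMonoidHom) T₁ := by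
        refine mem_pre_iff.2 ⟨hgx, ?_⟩
        rw [ue_apply hgx]
        show ((α ⟨g₀ x, hgx⟩ : U) : Ω) ∈ T₁
        rw [← av_apply α hgx, ← hge x hx]
        exact hC.ue_mem hx
      rw [hlc x hx, hk'c _ (hC.ue_mem hx)]
      refine hk.ue_inj ve_mem hpre ?_
      rw [hk.ue_ve (hC.ue_mem hx), hkc _ hpre, ue_apply hgx]
      show ue g x = ((α ⟨g₀ x, hgx⟩ : U) : Ω)
      rw [← av_apply α hgx, hge x hx]
    have h0 := ih (hS.to_le hU) inferInstance hp hD.1.1 (hg₀.congr fun x hx => (hlg x hx).symm) hl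
    obtain ⟨a, ha, hac⟩ := hA.exists_symm
    refine IsSubnormalIn.step (FIso.subnormal h0 ha (hS.to_le hU) hD.1.1 hk' hT₁ fun y hy => ?_) hD
    rw [hk'c y hy, hac y (hT₁ hy)]
    refine hA.ue_inj (preimage_le T₁ ve_mem) ve_mem ?_
    rw [hA.ue_ve (hT₁ hy), ← hkc _ ve_mem, hk.ue_ve hy]

end Cfsg.Agent.Local.FS
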