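import Cfsg.Agent.Lib.Local.FS.PerfectCentralizesCore
import Cfsg.Agent.Lib.Local.FS.WeakNormal
import Cfsg.Agent.Lib.Local.FS.Abelian
import Cfsg.Agent.Lib.Local.FS.Factor
import Cfsg.Agent.Lib.Local.FS.FactorHyperfocal
import Cfsg.Agent.Lib.Local.FS.Products
import Cfsg.Agent.Lib.Local.FS.SubnormalTransport
import Cfsg.Prelude.Def_FusionComponents

/-!
Components centralise the largest normal subgroup.
-/

set_option autoImplicit false

namespace Cfsg.Agent.Local.FS

open Cfsg Cfsg.FusionSystem Cfsg.Agent.Fusion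

variable {Ω : Type*} [Group Ω] {S T : Subgroup Ω} {F : FusionSystem S} {P Q : Subgroup Ω} {p : ℕ}

theorem stronglyClosed_center (F : FusionSystem S) [Finite S] : F.StronglyClosed F.center :=
  ⟨fun z hz => (center_spec F hz).1, fun R hR φ hφ x => by
    rw [← fn_coe φ x, center_fixed F (hR x.2) (map_of_mem hφ) x.2]
    exact hR x.2⟩

variable [Finite S] [Fact p.Prime]

/-- The inner system of a normal subgroup is a normal subsystem. -/
theorem inner_normal_of_normal (hS : IsPGroup p S) (hF : F.IsSaturated p) (hQ : F.IsNormal Q) :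
    (innerFusionSystem Q).IsNormalIn F p := by
  haveI := finite_of_le hQ.1
  refine ⟨(normal_iff_inner_weaklyNormal hS hF hQ.1).1 hQ, fun α hα => ?_⟩
  obtain ⟨φ, ⟨-, u, hu, hφ⟩, he⟩ := map_of_mem_autGroup le_rfl hα
  have hW : Q ⊔ centralizerIn S Q ≤ S := sup_le hQ.1 inf_le_left
  obtain ⟨β, hβ, hβS⟩ := exists_aut_conj (P := Q ⊔ centralizerIn S Q)
    (Subgroup.le_normalizer (Subgroup.mem_sup_left hu))
  refine ⟨β, autInducedBy_le_autGroup hW (hβS S (hQ.1 hu)), fun x => ?_, fun c hc => ?_⟩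
  · rw [← av_coe β, Subgroup.coe_inclusion, hβ _ (Subgroup.mem_sup_left x.2), ← av_coe α x, ← he x, hφ x]
  · rw [← av_coe β, hβ _ c.2, conj_centT hc hu, inv_mul_cancel]
    exact Subgroup.one_mem _

/-- An inner system has trivial hyperfocal subgroup. -/
theorem hyperfocal_eq_bot_of_inner (hS : IsPGroup p S)
    (h : ∀ P : Subgroup Ω, F.Hom P = (innerFusionSystem S).Hom P) : F.hyperfocalSubgroup p = ⊥ := by
  refine eq_bot_iff.2 ((Subgroup.closure_le _).2 ?_)
  rintro _ ⟨P, α, x, hP, hα, rfl⟩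
  haveI := mulAut_finite_of_le hP
  suffices hbot : pResidual p ↥(F.autGroup P) = ⊥ by
    rw [hbot, Subgroup.mem_bot] at hα
    subst hα
    show (x : Ω)⁻¹ * x ∈ (⊥ : Subgroup Ω)
    rw [inv_mul_cancel]; exact Subgroup.one_mem _
  rw [pResidual]
  refine eq_bot_iff.2 ((Subgroup.closure_le _).2 fun δ hδ => ?_)
  obtain ⟨φ, hφ, he⟩ := map_of_mem_autGroup hP δ.2
  rw [h P] at hφ
  obtain ⟨-, s, hs, hφs⟩ := hφ
  have hmem : (δ : MulAut P) ∈ autInducedBy S P :=
    mem_autInducedBy.2 ⟨s, hs, fun y hy => by rw [← he ⟨y, hy⟩, hφs]⟩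
  obtain ⟨n, hn⟩ := IsPGroup.iff_orderOf.1 (isPGroup_autS hS) ⟨(δ : MulAut P), hmem⟩
  rw [Subgroup.orderOf_mk, Subgroup.orderOf_coe] at hn
  have h1 := Nat.eq_one_of_dvd_coprimes ((show (orderOf δ).Coprime p from hδ).pow_right n) dvd_rfl hn.dvd
  exact Subgroup.mem_bot.2 (orderOf_eq_one_iff.1 h1)

/-- The image of a normal subgroup in a factor system is normal. -/
theorem fac_normal_up {Ω' : Type*} [Group Ω'] {S' : Subgroup Ω'} {θ : S →* Ω'} {E : FusionSystem S'}
    (hS : IsPGroup p S) (hT : F.StronglyClosed T) (hE : F.IsFactorSystem T θ E) (hQ : F.IsNormal Q) :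
    E.IsNormal (imageAlong θ Q) := by
  refine normal_iff.2 ⟨fac_up_le hE, fun P' f' hf' => ?_⟩
  haveI := fac_finite hE
  obtain ⟨hP', f, hf, hff⟩ := fac_lift hE hT hf'
  obtain ⟨g, hg, hgf, hgQ⟩ := (normal_iff.1 hQ).2 _ f hf
  have hW : preimageAlong θ P' ⊔ Q ≤ S := hg.le
  have hpre : preimageAlong θ (imageAlong θ (preimageAlong θ P' ⊔ Q)) = preimageAlong θ P' ⊔ Q := by
    rw [fac_pre_up hE hW]
    exact sup_eq_left.2 ((fac_le_pre hE).trans le_sup_left)
  have hWS' : imageAlong θ (preimageAlong θ P' ⊔ Q) ≤ S' := fac_up_le hE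
  have hPW : P' ≤ imageAlong θ (preimageAlong θ P' ⊔ Q) := fun a ha => by
    obtain ⟨x, hx, rfl⟩ := fac_exists_pre hE hP' ha
    exact ue_mem_up hW (Subgroup.mem_sup_left hx)
  have hQW : imageAlong θ Q ≤ imageAlong θ (preimageAlong θ P' ⊔ Q) := fun a ha => by
    obtain ⟨x, hx, rfl⟩ := (mem_up (i := θ) hQ.1).1 ha
    exact ue_mem_up hW (Subgroup.mem_sup_right hx)
  have hgW : Map F (preimageAlong θ (imageAlong θ (preimageAlong θ P' ⊔ Q))) g := hpre.symm ▸ hg
  have hm := fac_induced hE hT hWS' hgW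
  have hcg : ∀ x ∈ preimageAlong θ P' ⊔ Q, ue θ (g (ve θ (ue θ x))) = ue θ (g x) := by
    intro x hx
    refine fac_congr hE hT hgW (fac_le_pre hE) ?_ (hpre.symm ▸ hx) (fac_ue_ve hE (fac_ue_mem hE (hW hx)))
    exact fac_mem_pre.2 ⟨ve_mem, (fac_ue_ve hE (fac_ue_mem hE (hW hx))).symm ▸ ue_mem_up hW hx⟩
  refine ⟨_, hm.restrict (sup_le hPW hQW), fun a ha => ?_, ?_⟩
  · obtain ⟨x, hx, rfl⟩ := fac_exists_pre hE hP' ha
    show ue θ (g (ve θ (ue θ x))) = f' (ue θ x)
    rw [hcg x (Subgroup.mem_sup_left hx), hgf x hx, hff x hx]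
  · haveI := finite_of_le (fac_up_le (P := Q) hE)
    refine Subgroup.eq_of_le_of_card_ge (im_le_iff.2 fun a ha => ?_) (hm.restrict hQW).card_im.ge
    obtain ⟨x, hx, rfl⟩ := (mem_up (i := θ) hQ.1).1 ha
    rw [hcg x (Subgroup.mem_sup_right hx)]
    exact ue_mem_up hQ.1 (hgQ.le (mem_im_of_mem hx))

/-- The core of a quasisimple system is central. -/
theorem quasisimple_core_le_center (hS : IsPGroup p S) (hq : F.Quasisimple p) : F.core ≤ F.center := by
  obtain ⟨hF, hhyp, hsim⟩ := hq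
  have hZ := stronglyClosed_center F
  have hZS := hZ.1
  set θ := QuotientGroup.mk' ((F.center).subgroupOf S) with hθ
  have hker : ∀ s : S, θ s = 1 ↔ (s : Ω) ∈ F.center := fun s =>
    (QuotientGroup.eq_one_iff s).trans Subgroup.mem_subgroupOf
  have hsurj : Function.Surjective θ := QuotientGroup.mk'_surjective _
  set E := factorSys hZ θ hker hsurj with hEdef
  have hE : F.IsFactorSystem F.center θ E := ⟨hZS, hker, MonoidHom.range_eq_top.2 hsurj,
    fun P' φ' => fmap_iff.trans (and_iff_right le_top).symm⟩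
  obtain ⟨hEs, hne, hnorm⟩ := hsim E hE
  haveI : Finite (⊤ : Subgroup (S ⧸ (F.center).subgroupOf S)) := Finite.of_injective _ Subtype.val_injective
  have hS' : IsPGroup p (⊤ : Subgroup (S ⧸ (F.center).subgroupOf S)) := fac_isPGroup hE hS
  have hQ := core_normal hS hF
  have hR := fac_normal_up hS hZ hE hQ
  obtain h0 | ⟨htop, hinner⟩ := hnorm _ _ (inner_normal_of_normal hS' hEs hR)
  · intro x hx
    have h1 := h0.le (ue_mem_up hQ.1 hx)
    exact (fac_ue_eq_one hE (hQ.1 hx)).1 (Subgroup.mem_bot.1 h1)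
  · exfalso
    have h1 := fac_hyperfocal hS hF hZ hE
    have h2 : E.hyperfocalSubgroup p = ⊥ := hyperfocal_eq_bot_of_inner hS' fun P => by
      rw [← hinner P, htop]
    rw [h2, hhyp, Subgroup.subgroupOf_self, ← MonoidHom.range_eq_map, hE.2.2.1] at h1
    exact hne h1.symm

/-- A component centralises the core. -/
theorem component_centExt (hS : IsPGroup p S) (hF : F.IsSaturated p) {C : FusionSystem T}
    (hC : C.IsComponentIn F p) : CentExt C F F.core ∧ T ≤ centralizerIn S F.core := by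
  obtain ⟨hsub, hq⟩ := hC
  have hCF : C.IsSubsystemOf F := subnormal_sub hsub
  have hTS := le_of_sub hCF
  haveI := finite_of_le hTS
  have h := centExt_core_of_subnormal hS hsub hF hq.2.1
    (centExt_center (quasisimple_core_le_center (hS.to_le hTS) hq))
  have hQ := core_normal hS hF
  refine ⟨h, (centExt_of_perfect hS hq.1 hCF hq.2.1 hQ.1 (normal_stronglyClosed hQ) fun P f hf => ?_).2⟩
  obtain ⟨g, hg, hgf, hgQ⟩ := h P f hf
  exact ⟨g, hg, hgf, fun q hq => by
    rw [hgQ q hq, inv_mul_cancel]; exact ⟨F.core.one_mem, hg.map_one⟩⟩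

end Cfsg.Agent.Local.FS
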