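import Cfsg.Agent.Lib.Local.FS.ModelUnique
import Cfsg.Agent.Lib.Fusion.NPC

/-!
A realization with a self-centralizing normal `p`-subgroup becomes a model modulo `O_{p'}`.
-/

set_option autoImplicit false

namespace Cfsg.Agent.Local.FS

open Cfsg Cfsg.FusionSystem Cfsg.Agent.Fusion

universe u

variable {Ω : Type*} [Group Ω] {S : Subgroup Ω} [Finite S] {F : FusionSystem S} {p : ℕ} [Fact p.Prime]

theorem realized_quotient {M : Type u} [Group M] [Finite M] {ι : S →* M} (hS : IsPGroup p S)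
    (hr : F.IsRealizedBy ι) (hsyl : ∃ T : Sylow p M, (T : Subgroup M) = ι.range) :
    F.IsRealizedBy ((QuotientGroup.mk' (pPrimeCore p M)).comp ι) ∧
      ∃ T : Sylow p (M ⧸ pPrimeCore p M),
        (T : Subgroup (M ⧸ pPrimeCore p M)) = ((QuotientGroup.mk' (pPrimeCore p M)).comp ι).range := by
  obtain ⟨T, hT⟩ := hsyl
  set W := pPrimeCore p M with hW
  have hWc := card_pPrimeCore_coprime p M
  have hTp : IsPGroup p ι.range := hT ▸ T.isPGroup'
  have hdisj : ∀ x ∈ ι.range, x ∈ W → x = 1 := fun x hx hxW => by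
    have h : x ∈ W ⊓ ι.range := ⟨hxW, hx⟩
    rwa [coprime_inf_pGroup hWc hTp, Subgroup.mem_bot] at h
  set π := QuotientGroup.mk' W
  have hπeq : ∀ {x y : M}, π x = π y ↔ x⁻¹ * y ∈ W := fun {x y} => QuotientGroup.eq
  refine ⟨⟨?_, fun P hP φ hφ => ⟨fun h => ?_, fun h => ?_⟩⟩, ?_⟩
  · refine (injective_iff_map_eq_one _).2 fun a ha => hr.1 ?_
    rw [map_one]
    exact hdisj _ ⟨a, rfl⟩ ((QuotientGroup.eq_one_iff _).1 ha)
  · obtain ⟨g, hg⟩ := (hr.2 P hP φ hφ).1 h
    exact ⟨π g, fun x => by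
      show π (ι _) = π g * π (ι _) * (π g)⁻¹
      rw [← map_inv, ← map_mul, ← map_mul, hg x]⟩
  · obtain ⟨gb, hgb⟩ := h
    obtain ⟨g, rfl⟩ := QuotientGroup.mk_surjective gb
    let A : P →* M := ι.comp ((φ.codRestrict S hφ))
    have hcongr : ∀ x : P, (A x)⁻¹ * (g * ι ⟨x, hP x.2⟩ * g⁻¹) ∈ W := fun x => by
      refine hπeq.1 ?_
      rw [map_mul, map_mul, map_inv]
      exact hgb x
    let Y : Subgroup M := ((MulAut.conj g).toMonoidHom.comp (ι.comp (Subgroup.inclusion hP))).range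
    have hYle : Y ≤ A.range ⊔ W := by
      rintro _ ⟨x, rfl⟩
      have := Subgroup.mul_mem_sup (show A x ∈ A.range from ⟨x, rfl⟩) (hcongr x)
      rwa [mul_inv_cancel_left] at this
    have hAp : IsPGroup p A.range := hTp.to_le (by rintro _ ⟨x, rfl⟩; exact ⟨_, rfl⟩)
    have hYp : IsPGroup p Y := (hS.to_le hP).of_surjective _ (MonoidHom.rangeRestrict_surjective _)
    have hsylA : SylIn p A.range (A.range ⊔ W) := by
      refine ⟨le_sup_left, hAp, fun hd => ?_⟩
      have h1 : A.range.relIndex (A.range ⊔ W) * Nat.card A.range = Nat.card ↥(A.range ⊔ W) := by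
        have := Subgroup.relIndex_mul_relIndex ⊥ A.range (A.range ⊔ W) bot_le le_sup_left
        simp only [Subgroup.relIndex_bot_left] at this
        rw [mul_comm]; exact this
      have h2 := card_sup_dvd W A.range
      rw [← h1, mul_comm (Nat.card A.range) (Nat.card W)] at h2
      have h3 := Nat.dvd_of_mul_dvd_mul_right Nat.card_pos h2
      exact ((Nat.Prime.coprime_iff_not_dvd Fact.out).1 hWc.symm) (hd.trans h3)
    obtain ⟨h0, hh0, hle⟩ := hsylA.conj_le hYp hYle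
    obtain ⟨a, ha, w, hw, rfl⟩ := Subgroup.mem_sup_of_normal_right.1 hh0
    refine (hr.2 P hP φ hφ).2 ⟨w * g, fun x => ?_⟩
    set z := w * g * ι ⟨x, hP x.2⟩ * (w * g)⁻¹ with hz
    have hzA : z ∈ A.range := by
      have h4 := hle (conj_mem_cj (g := a * w)
        (show g * ι ⟨x, hP x.2⟩ * g⁻¹ ∈ Y from ⟨x, rfl⟩))
      have h5 := A.range.mul_mem (A.range.mul_mem (A.range.inv_mem ha) h4) ha
      rw [hz]
      simpa [mul_assoc] using h5
    have hπw : π w = 1 := (QuotientGroup.eq_one_iff w).2 hw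
    have hπz : π (A x) = π z := by
      rw [hz, map_mul, map_mul, map_inv, map_mul, hπw, one_mul]
      exact hgb x
    have hAr : A.range ≤ ι.range := by rintro _ ⟨y, rfl⟩; exact ⟨_, rfl⟩
    have h6 := hdisj _ (Subgroup.mul_mem _ (Subgroup.inv_mem _ (hAr ⟨x, rfl⟩)) (hAr hzA)) (hπeq.1 hπz)
    exact inv_mul_eq_one.1 h6
  · refine ⟨T.mapSurjective (QuotientGroup.mk'_surjective W), ?_⟩
    rw [MonoidHom.range_comp, ← hT]; rfl

theorem model_quotient {M : Type u} [Group M] [Finite M] {ι : S →* M} (hS : IsPGroup p S)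
    (hr : F.IsRealizedBy ι) (hsyl : ∃ T : Sylow p M, (T : Subgroup M) = ι.range)
    (Q : Subgroup M) [Q.Normal] (hQ : Q ≤ ι.range)
    (hc : ∀ s : S, ι s ∈ Subgroup.centralizer (Q : Set M) → ι s ∈ Q) :
    F.IsModel p (M ⧸ pPrimeCore p M) ((QuotientGroup.mk' (pPrimeCore p M)).comp ι) := by
  obtain ⟨hr', hsyl'⟩ := realized_quotient hS hr hsyl
  refine ⟨inferInstance, hr', hsyl', ?_⟩
  obtain ⟨T, hT⟩ := hsyl
  set W := pPrimeCore p M with hW
  have hWc := card_pPrimeCore_coprime p M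
  have hTp : IsPGroup p ι.range := hT ▸ T.isPGroup'
  have hdisj : ∀ x ∈ ι.range, x ∈ W → x = 1 := fun x hx hxW => by
    have h : x ∈ W ⊓ ι.range := ⟨hxW, hx⟩
    rwa [coprime_inf_pGroup hWc hTp, Subgroup.mem_bot] at h
  set π := QuotientGroup.mk' W
  have hπeq : ∀ {x y : M}, π x = π y ↔ x⁻¹ * y ∈ W := fun {x y} => QuotientGroup.eq
  set C := Subgroup.centralizer (Q : Set M) with hC
  haveI : C.Normal := inferInstanceAs (Subgroup.centralizer (Q : Set M)).Normal
  have hD : SylIn p (ι.range ⊓ C) C :=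
    (hT ▸ sylIn_top T : SylIn p ι.range ⊤).inf_normal le_top (by
      rw [Subgroup.normalizer_eq_top])
  obtain ⟨P, hP⟩ := hD.exists_sylow_subgroupOf
  have hCn : HasNormalPComplement p C := by
    refine hnpc_of_normalizer_le_centralizer P fun x _ => ?_
    rw [Subgroup.mem_centralizer_iff]
    intro y hy
    have hy' : y ∈ (P : Subgroup C) := hy
    rw [hP, Subgroup.mem_subgroupOf] at hy'
    obtain ⟨⟨s, hs⟩, hyC⟩ := hy'
    refine Subtype.ext (Subgroup.mem_centralizer_iff.1 x.2 (y : M) ?_)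
    rw [← hs]
    exact hc s (hs ▸ hyC)
  let R : Subgroup M := (pResidual p C).map C.subtype
  haveI : R.Normal := by
    refine ⟨?_⟩
    rintro _ ⟨r, hr', rfl⟩ m
    refine ⟨⟨m * r * m⁻¹, (inferInstance : C.Normal).conj_mem _ r.2 m⟩, ?_, rfl⟩
    let c : C →* C := ((MulAut.conj m).toMonoidHom.comp C.subtype).codRestrict C fun z =>
      (inferInstance : C.Normal).conj_mem _ z.2 m
    exact map_pResidual_le c ⟨r, hr', rfl⟩
  have hRW : R ≤ W := le_pPrimeCore (by
    rw [Subgroup.card_map_of_injective C.subtype_injective]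
    exact hnpc_iff.1 hCn)
  haveI hCb : (C.map π).Normal := Subgroup.Normal.map inferInstance π (QuotientGroup.mk'_surjective W)
  have hCp : IsPGroup p ↥(C.map π) := by
    rintro ⟨_, x, hx, rfl⟩
    obtain ⟨k, m, hm, hkm⟩ := Nat.exists_eq_pow_mul_and_not_dvd (orderOf_pos (⟨x, hx⟩ : C)).ne' p
      (Nat.Prime.ne_one Fact.out)
    refine ⟨k, Subtype.ext ?_⟩
    show (π x) ^ p ^ k = 1
    rw [← map_pow]
    refine (QuotientGroup.eq_one_iff _).2 (hRW ⟨(⟨x, hx⟩ : C) ^ p ^ k, Subgroup.subset_closure ?_, rfl⟩)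
    show Nat.Coprime _ p
    rw [orderOf_pow' _ (pow_ne_zero _ (Nat.Prime.ne_zero Fact.out)), hkm, Nat.gcd_mul_right_left,
      Nat.mul_div_cancel_left _ (pow_pos (Nat.Prime.pos Fact.out) k)]
    exact ((Nat.Prime.coprime_iff_not_dvd Fact.out).2 hm).symm
  intro xb hxb
  obtain ⟨x, rfl⟩ := QuotientGroup.mk_surjective xb
  refine le_pCore hCp ⟨x, Subgroup.mem_centralizer_iff.2 fun q hq => ?_, rfl⟩
  haveI : (Q.map π).Normal := Subgroup.Normal.map inferInstance π (QuotientGroup.mk'_surjective W)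
  have h1 := Subgroup.mem_centralizer_iff.1 hxb (π q) (le_pCore ((hTp.to_le hQ).map π) ⟨q, hq, rfl⟩)
  have h2 : x * q * x⁻¹ * q⁻¹ ∈ W := by
    refine (QuotientGroup.eq_one_iff _).1 ?_
    show π (x * q * x⁻¹ * q⁻¹) = 1
    rw [map_mul, map_mul, map_mul, map_inv, map_inv]
    show π x * π q * (π x)⁻¹ * (π q)⁻¹ = 1
    rw [show π x * π q = π q * π x from h1.symm]; group
  have h3 : x * q * x⁻¹ * q⁻¹ ∈ Q := Q.mul_mem ((inferInstance : Q.Normal).conj_mem q hq x) (Q.inv_mem hq)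
  have h4 := hdisj _ (hQ h3) h2
  calc q * x = (x * q * x⁻¹ * q⁻¹) * (q * x) := by rw [h4, one_mul]
    _ = x * q := by group

end Cfsg.Agent.Local.FS
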