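import Mathlib

/-!
A relative form of Gaschütz's theorem: a subgroup `T` meeting an abelian normal subgroup `Z` trivially,
with `|Z|` prime to the index of `Z ⊔ T` and stable under conjugation, lies in a complement of `Z`.
-/

set_option autoImplicit false

namespace Cfsg.Agent.Local.FS

theorem exists_complement_containing {E : Type*} [Group E] [Finite E] (Z T : Subgroup E) [hZ : Z.Normal]
    (hab : ∀ a ∈ Z, ∀ b ∈ Z, a * b = b * a) (hfree : Z ⊓ T = ⊥)
    (hcop : (Nat.card Z).Coprime (Z ⊔ T).index)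
    (hst : ∀ x : E, ∃ z ∈ Z, ∀ t ∈ T, x⁻¹ * t * x ∈ Z ⊔ T → (x * z)⁻¹ * t * (x * z) ∈ T) :
    ∃ K : Subgroup E, T ≤ K ∧ Z ⊓ K = ⊥ ∧ Z ⊔ K = ⊤ := by
  classical
  letI : CommGroup Z := { (inferInstance : Group Z) with
    mul_comm := fun x y => Subtype.ext (hab _ x.2 _ y.2) }
  haveI : Fintype (E ⧸ (Z ⊔ T)) := Fintype.ofFinite _
  let π : E ⧸ T → E ⧸ (Z ⊔ T) := Subgroup.quotientMapOfLE le_sup_right
  have hπe : ∀ (e : E) (x : E ⧸ T), π (e • x) = e • π x := by
    intro e x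
    obtain ⟨x, rfl⟩ := QuotientGroup.mk_surjective x
    rfl
  have hZM : ∀ z ∈ Z, ∀ m : E ⧸ (Z ⊔ T), z • m = m := by
    intro z hz m
    obtain ⟨m, rfl⟩ := QuotientGroup.mk_surjective m
    show ((z * m : E) : E ⧸ (Z ⊔ T)) = m
    refine (QuotientGroup.eq.2 ?_).symm
    rw [← mul_assoc]
    exact Subgroup.mem_sup_left (by simpa using hZ.conj_mem z hz m⁻¹)
  have hfib : ∀ x y : E ⧸ T, π x = π y → ∃! z : Z, (z : E) • x = y := by
    intro x y h
    obtain ⟨x, rfl⟩ := QuotientGroup.mk_surjective x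
    obtain ⟨y, rfl⟩ := QuotientGroup.mk_surjective y
    obtain ⟨z, hz, t, ht, hzt⟩ := Subgroup.mem_sup_of_normal_left.1 (QuotientGroup.eq.1 h)
    refine ⟨⟨x * z * x⁻¹, hZ.conj_mem z hz x⟩, ?_, fun w hw => ?_⟩
    · show ((x * z * x⁻¹ * x : E) : E ⧸ T) = y
      refine QuotientGroup.eq.2 ?_
      rw [show y = x * (z * t) from (inv_mul_eq_iff_eq_mul.1 hzt.symm)]
      simpa [mul_assoc] using ht
    · refine Subtype.ext ?_
      have h2 : ((w : E) * x)⁻¹ * y ∈ T := QuotientGroup.eq.1 hw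
      rw [show y = x * (z * t) from (inv_mul_eq_iff_eq_mul.1 hzt.symm)] at h2
      have h3 : x⁻¹ * (w : E)⁻¹ * x * z ∈ T := by
        have := T.mul_mem h2 (T.inv_mem ht)
        simpa [mul_assoc] using this
      have h4 : x⁻¹ * (w : E)⁻¹ * x * z ∈ Z :=
        Z.mul_mem (by simpa using hZ.conj_mem _ (Z.inv_mem w.2) x⁻¹) hz
      have h5 : x⁻¹ * (w : E)⁻¹ * x * z = 1 := by
        have := Subgroup.mem_inf.2 ⟨h4, h3⟩
        rwa [hfree, Subgroup.mem_bot] at this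
      show (w : E) = x * z * x⁻¹
      calc (w : E) = x * z * (x⁻¹ * (w : E)⁻¹ * x * z)⁻¹ * x⁻¹ := by group
        _ = x * z * x⁻¹ := by rw [h5]; simp
  choose d hd hdu using fun p : {p : (E ⧸ T) × (E ⧸ T) // π p.1 = π p.2} => hfib p.1.1 p.1.2 p.2
  have hd' : ∀ {x y : E ⧸ T} (h : π x = π y) (w : Z), (w : E) • x = y → d ⟨(x, y), h⟩ = w :=
    fun h w hw => (hdu ⟨_, h⟩ w hw).symm
  -- an invariant section
  have hpick : ∀ m : E ⧸ (Z ⊔ T), ∃ x : E ⧸ T, π x = m ∧ ∀ t ∈ T, t • m = m → t • x = x := by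
    intro m
    obtain ⟨x, rfl⟩ := QuotientGroup.mk_surjective m
    obtain ⟨z, hz, h⟩ := hst x
    refine ⟨((x * z : E) : E ⧸ T), QuotientGroup.eq.2 ?_, fun t ht htm => ?_⟩
    · simpa using Subgroup.mem_sup_left (T := T) (Z.inv_mem hz)
    · show ((t * (x * z) : E) : E ⧸ T) = ((x * z : E) : E ⧸ T)
      refine (QuotientGroup.eq.2 ?_).symm
      rw [← mul_assoc]
      exact h t ht (by rw [mul_assoc]; exact QuotientGroup.eq.1 htm.symm)
  choose xs hxs hxs' using hpick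
  let orb := MulAction.orbitRel T (E ⧸ (Z ⊔ T))
  let rep : E ⧸ (Z ⊔ T) → E ⧸ (Z ⊔ T) := fun m => (Quotient.mk orb m).out
  have hrep : ∀ m, ∃ t : T, t • rep m = m := by
    intro m
    have h : orb.r m (rep m) := orb.iseqv.symm (Quotient.mk_out (s := orb) m)
    exact MulAction.orbitRel_apply.1 h
  choose tm htm using hrep
  let r : E ⧸ (Z ⊔ T) → E ⧸ T := fun m => (tm m : E) • xs (rep m)
  have hr : ∀ m, π (r m) = m := fun m => by
    show π ((tm m : E) • xs (rep m)) = m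
    rw [hπe, hxs]; exact htm m
  have hrT : ∀ t ∈ T, ∀ m, t • r m = r (t • m) := by
    intro t ht m
    have hre : rep (t • m) = rep m := congrArg Quotient.out
      (Quotient.sound (s := orb) (show orb.r (t • m) m from MulAction.orbitRel_apply.2 ⟨⟨t, ht⟩, rfl⟩))
    show t • (tm m : E) • xs (rep m) = (tm (t • m) : E) • xs (rep (t • m))
    have h2 : (tm (t • m) : E) • rep m = t • m := hre ▸ htm (t • m)
    have h1 : (tm m : E) • rep m = m := htm m
    rw [hre]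
    have hfix := hxs' (rep m) _ (T.mul_mem (T.mul_mem (T.inv_mem (tm (t • m)).2) ht) (tm m).2)
      (by rw [mul_smul, mul_smul, h1]; exact inv_smul_eq_iff.2 h2.symm)
    rw [mul_smul, mul_smul, inv_smul_eq_iff] at hfix
    exact hfix
  have hse : ∀ (e : E) m, π (r m) = π (e • r (e⁻¹ • m)) := fun e m => by
    rw [hr m, hπe e, hr (e⁻¹ • m), smul_inv_smul]
  let D : E → Z := fun e => ∏ m, d ⟨(r m, e • r (e⁻¹ • m)), hse e m⟩
  let cj : E → Z →* Z := fun e => MonoidHom.mk' (fun z => ⟨e * z * e⁻¹, hZ.conj_mem _ z.2 e⟩)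
    fun a b => Subtype.ext (by show e * ((a : E) * b) * e⁻¹ = e * a * e⁻¹ * (e * b * e⁻¹); group)
  have hD_mul : ∀ e f, D (e * f) = cj e (D f) * D e := by
    intro e f
    show D (e * f) = cj e (∏ m, d ⟨(r m, f • r (f⁻¹ • m)), hse f m⟩) * D e
    rw [map_prod, ← Equiv.prod_comp (MulAction.toPerm e⁻¹) fun m => cj e (d ⟨(r m, f • r (f⁻¹ • m)), hse f m⟩),
      ← Finset.prod_mul_distrib]
    refine Finset.prod_congr rfl fun m _ => hd' _ _ ?_
    have h1 := hd ⟨(r m, e • r (e⁻¹ • m)), hse e m⟩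
    have h2 := hd ⟨(r (e⁻¹ • m), f • r (f⁻¹ • (e⁻¹ • m))), hse f _⟩
    show (e * (d ⟨(r (e⁻¹ • m), f • r (f⁻¹ • (e⁻¹ • m))), hse f _⟩ : E) * e⁻¹ *
      (d ⟨(r m, e • r (e⁻¹ • m)), hse e m⟩ : E)) • r m = (e * f) • r ((e * f)⁻¹ • m)
    replace h1 : (d ⟨(r m, e • r (e⁻¹ • m)), hse e m⟩ : E) • r m = e • r (e⁻¹ • m) := h1
    replace h2 : (d ⟨(r (e⁻¹ • m), f • r (f⁻¹ • (e⁻¹ • m))), hse f _⟩ : E) • r (e⁻¹ • m) =
      f • r (f⁻¹ • (e⁻¹ • m)) := h2
    rw [mul_smul, h1, mul_smul, inv_smul_smul, mul_smul, h2, mul_inv_rev, mul_smul f⁻¹, mul_smul e f]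
  have hD_T : ∀ t ∈ T, D t = 1 := fun t ht => Finset.prod_eq_one fun m _ => hd' _ _ (by
    rw [hrT t ht, smul_inv_smul, Subgroup.coe_one, one_smul])
  have hD_Z : ∀ z : Z, D z = z ^ (Z ⊔ T).index := by
    intro z
    rw [Subgroup.index, Nat.card_eq_fintype_card, ← Finset.card_univ, ← Finset.prod_const]
    exact Finset.prod_congr rfl fun m _ => hd' _ _ (by rw [hZM _ (Z.inv_mem z.2)])
  have hD1 : D 1 = 1 := hD_T 1 T.one_mem
  let K : Subgroup E :=
    { carrier := {e | D e = 1}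
      one_mem' := hD1
      mul_mem' := fun {a b} ha hb => by
        show D (a * b) = 1
        rw [hD_mul, show D b = 1 from hb, show D a = 1 from ha, map_one, mul_one]
      inv_mem' := fun {a} ha => by
        have h := hD_mul a⁻¹ a
        rw [inv_mul_cancel, hD1, show D a = 1 from ha, map_one, one_mul] at h
        exact h.symm }
  refine ⟨K, fun t ht => hD_T t ht, ?_, ?_⟩
  · rw [eq_bot_iff]
    rintro z ⟨hz, hzK⟩
    have h := hD_Z ⟨z, hz⟩
    rw [show D z = 1 from hzK] at h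
    have := (powCoprime hcop).injective (show powCoprime hcop ⟨z, hz⟩ = powCoprime hcop 1 by
      rw [powCoprime_apply, powCoprime_apply, one_pow, h])
    exact Subgroup.mem_bot.2 (congrArg Subtype.val this)
  · rw [eq_top_iff]
    intro x _
    obtain ⟨z, hz⟩ := (powCoprime hcop).surjective (D x)⁻¹
    rw [powCoprime_apply] at hz
    have hK : (z : E) * x ∈ K := by
      show D ((z : E) * x) = 1
      have hc : cj z (D x) = D x := Subtype.ext (by
        show (z : E) * D x * (z : E)⁻¹ = D x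
        rw [hab _ z.2 _ (D x).2, mul_inv_cancel_right])
      rw [hD_mul, hc, hD_Z, hz, mul_inv_cancel]
    have := Subgroup.mul_mem_sup (Z.inv_mem z.2) hK
    rwa [inv_mul_cancel_left] at this

end Cfsg.Agent.Local.FS
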