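import Cfsg.Agent.Lib.Local.FS.Model
import Cfsg.Agent.Lib.Local.FS.Complement

/-!
Models: images of normal subgroups are normal, and models are unique relative to the Sylow subgroup.
-/

set_option autoImplicit false

namespace Cfsg.Agent.Local.FS

open Cfsg Cfsg.FusionSystem Cfsg.Agent.Fusion

variable {Ω : Type*} [Group Ω] {S : Subgroup Ω} {F : FusionSystem S} {p : ℕ}
variable {G : Type*} [Group G] {ι : S →* G}

theorem exists_conj_of_map (hr : F.IsRealizedBy ι) {P : Subgroup Ω} {f : Ω → Ω} (hf : Map F P f) :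
    ∃ g : G, ∀ x : S, (x : Ω) ∈ P → ∀ y : S, (y : Ω) = f x → ι y = g * ι x * g⁻¹ := by
  obtain ⟨φ, hφ, he⟩ := hf
  obtain ⟨g, hg⟩ := (hr.2 P (F.le_of_mem hφ).1 φ (F.le_of_mem hφ).2).1 hφ
  refine ⟨g, fun x hx y hy => ?_⟩
  rw [show y = ⟨φ ⟨x, hx⟩, (F.le_of_mem hφ).2 _⟩ from Subtype.ext (hy.trans (he ⟨x, hx⟩).symm)]
  exact hg ⟨x, hx⟩

theorem exists_map_of_conj (hr : F.IsRealizedBy ι) {P : Subgroup Ω} (hP : P ≤ S) (g : G)
    (hg : ∀ x : S, (x : Ω) ∈ P → g * ι x * g⁻¹ ∈ ι.range) :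
    ∃ f, Map F P f ∧ ∀ x : S, (x : Ω) ∈ P → ∀ y : S, ι y = g * ι x * g⁻¹ → f x = y := by
  let c : P →* ι.range := ((MulAut.conj g).toMonoidHom.comp (ι.comp (Subgroup.inclusion hP))).codRestrict _
    fun x => hg _ x.2
  let φ : P →* Ω := S.subtype.comp ((MonoidHom.ofInjective hr.1).symm.toMonoidHom.comp c)
  have hφS : ∀ x, φ x ∈ S := fun x => ((MonoidHom.ofInjective hr.1).symm (c x)).2
  have hφ : ∀ x : P, ι ⟨φ x, hφS x⟩ = g * ι ⟨x, hP x.2⟩ * g⁻¹ := fun x => by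
    have h := congrArg Subtype.val ((MonoidHom.ofInjective hr.1).apply_symm_apply (c x))
    rw [MonoidHom.ofInjective_apply] at h
    exact h
  refine ⟨fn φ, map_of_mem ((hr.2 P hP φ hφS).2 ⟨g, hφ⟩), fun x hx y hy => ?_⟩
  rw [fn_apply φ hx]
  exact congrArg Subtype.val (hr.1 ((hφ ⟨x, hx⟩).trans hy.symm) : (⟨_, hφS ⟨x, hx⟩⟩ : S) = y)

variable [Finite S]

theorem pCore_le_range [Finite G] [Fact p.Prime] (hm : F.IsModel p G ι) : pCore p G ≤ ι.range := by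
  obtain ⟨T, hT⟩ := hm.2.2.1
  exact hT ▸ pCore_le_sylow T

/-- The image of a subgroup normal in the system is normal in a model. -/
theorem normal_image [Fact p.Prime] (hm : F.IsModel p G ι) {Q : Subgroup Ω} (hQ : F.IsNormal Q) :
    ((Q.subgroupOf S).map ι).Normal := by
  haveI := hm.1
  refine ⟨?_⟩
  rintro _ ⟨u, hu, rfl⟩ g
  let R : Subgroup Ω := ((pCore p G).comap ι).map S.subtype
  have hRS : R ≤ S := Subgroup.map_subtype_le _
  have hR : ∀ x : S, (x : Ω) ∈ R ↔ ι x ∈ pCore p G := fun x =>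
    Subgroup.mem_map_iff_mem S.subtype_injective
  obtain ⟨f, hf, hfg⟩ := exists_map_of_conj hm.2.1 hRS g fun x hx =>
    pCore_le_range hm (Subgroup.Normal.conj_mem inferInstance _ ((hR x).1 hx) g)
  obtain ⟨f', hf', he, hQf⟩ := (normal_iff.1 hQ).2 R f hf
  obtain ⟨h, hh⟩ := exists_conj_of_map hm.2.1 hf'
  have hc : h⁻¹ * g ∈ Subgroup.centralizer ((pCore p G : Subgroup G) : Set G) := by
    refine Subgroup.mem_centralizer_iff.2 fun w hw => ?_
    obtain ⟨x, rfl⟩ := pCore_le_range hm hw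
    obtain ⟨y, hy⟩ := pCore_le_range hm (Subgroup.Normal.conj_mem inferInstance _ hw g)
    have h1 := hh x (Subgroup.mem_sup_left ((hR x).2 hw)) y
      (by rw [he _ ((hR x).2 hw), hfg x ((hR x).2 hw) y hy])
    rw [hy] at h1
    calc ι x * (h⁻¹ * g) = h⁻¹ * (h * ι x * h⁻¹) * g := by group
      _ = h⁻¹ * (g * ι x * g⁻¹) * g := by rw [h1]
      _ = h⁻¹ * g * ι x := by group
  obtain ⟨s, hs⟩ := pCore_le_range hm (hm.2.2.2 hc)
  have hu' : ((s * u * s⁻¹ : S) : Ω) ∈ Q :=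
    stronglyClosed_conj_mem (normal_stronglyClosed hQ) s.2 hu
  have hfu : f' ((s * u * s⁻¹ : S) : Ω) ∈ Q := hQf ▸ mem_im_of_mem hu'
  refine ⟨⟨_, hQ.1 hfu⟩, hfu, ?_⟩
  rw [hh _ (Subgroup.mem_sup_right hu') ⟨_, hQ.1 hfu⟩ rfl, map_mul, map_mul, map_inv, hs]
  group

/-- The preimage of `O_p` of a model is normal in the system. -/
theorem normal_pCore_preimage [Fact p.Prime] (hm : F.IsModel p G ι) :
    F.IsNormal (((pCore p G).comap ι).map S.subtype) := by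
  haveI := hm.1
  set R : Subgroup Ω := ((pCore p G).comap ι).map S.subtype
  have hRS : R ≤ S := Subgroup.map_subtype_le _
  haveI := finite_of_le hRS
  have hR : ∀ x : S, (x : Ω) ∈ R ↔ ι x ∈ pCore p G := fun x =>
    Subgroup.mem_map_iff_mem S.subtype_injective
  refine normal_iff.2 ⟨hRS, fun P f hf => ?_⟩
  obtain ⟨g, hg⟩ := exists_conj_of_map hm.2.1 hf
  have hle : P ⊔ R ≤ ((ι.range).comap ((MulAut.conj g).toMonoidHom.comp ι)).map S.subtype := by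
    refine sup_le (fun x hx => ⟨⟨x, hf.le hx⟩, ?_, rfl⟩) (fun x hx => ⟨⟨x, hRS hx⟩, ?_, rfl⟩)
    · exact ⟨⟨f x, hf.mem hx⟩, hg ⟨x, hf.le hx⟩ hx _ rfl⟩
    · exact pCore_le_range hm (Subgroup.Normal.conj_mem inferInstance _ ((hR ⟨x, hRS hx⟩).1 hx) g)
  obtain ⟨f', hf', hfg⟩ := exists_map_of_conj hm.2.1 (sup_le hf.le hRS) g fun x hx =>
    (Subgroup.mem_map_iff_mem S.subtype_injective).1 (hle hx)
  refine ⟨f', hf', fun x hx =>
    hfg ⟨x, hf.le hx⟩ (Subgroup.mem_sup_left hx) ⟨f x, hf.mem hx⟩ (hg ⟨x, hf.le hx⟩ hx _ rfl), ?_⟩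
  refine Subgroup.eq_of_le_of_card_ge (im_le_iff.2 fun x hx => ?_) (hf'.restrict le_sup_right).card_im.ge
  have hmem := Subgroup.Normal.conj_mem (inferInstance : (pCore p G).Normal) _ ((hR ⟨x, hRS hx⟩).1 hx) g
  obtain ⟨y, hy⟩ := pCore_le_range hm hmem
  rw [hfg ⟨x, hRS hx⟩ (Subgroup.mem_sup_right hx) y hy]
  exact (hR y).2 (by rw [hy]; exact hmem)

variable {H : Type*} [Group H] {κ : S →* H}

theorem transfer_conj (hι : F.IsRealizedBy ι) (hκ : F.IsRealizedBy κ) (P : Subgroup S) (g : G)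
    (hg : ∀ x ∈ P, g * ι x * g⁻¹ ∈ ι.range) :
    ∃ h : H, ∀ x ∈ P, ∀ y : S, g * ι x * g⁻¹ = ι y ↔ h * κ x * h⁻¹ = κ y := by
  obtain ⟨f, hf, hfg⟩ := exists_map_of_conj hι (Subgroup.map_subtype_le P) g fun x hx =>
    hg x ((Subgroup.mem_map_iff_mem S.subtype_injective).1 hx)
  obtain ⟨h, hh⟩ := exists_conj_of_map hκ hf
  refine ⟨h, fun x hx y => ?_⟩
  obtain ⟨z, hz⟩ := hg x hx
  have hx' : (x : Ω) ∈ P.map S.subtype := Subgroup.mem_map_of_mem _ hx
  have h2 := hh x hx' z (hfg x hx' z hz).symm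
  rw [← hz, ← h2, hι.1.eq_iff, hκ.1.eq_iff]

theorem modelCore_le [Fact p.Prime] (hι : F.IsModel p G ι) (hκ : F.IsModel p H κ) :
    (pCore p G).comap ι ≤ (pCore p H).comap κ := by
  haveI := hι.1
  have hn := normal_image hκ (normal_pCore_preimage hι)
  rw [Subgroup.subgroupOf, Subgroup.comap_map_eq_self_of_injective S.subtype_injective] at hn
  haveI := hn
  exact Subgroup.map_le_iff_le_comap.1
    (le_pCore (((isPGroup_pCore p G).comap_of_injective ι hι.2.1.1).map κ))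

theorem model_core_eq [Fact p.Prime] (hι : F.IsModel p G ι) (hκ : F.IsModel p H κ) :
    (pCore p G).comap ι = (pCore p H).comap κ :=
  le_antisymm (modelCore_le hι hκ) (modelCore_le hκ hι)

/-- **Uniqueness of models.** -/
theorem model_unique [Fact p.Prime] (hS : IsPGroup p S) (hι : F.IsModel p G ι) (hκ : F.IsModel p H κ) :
    ∃ φ : G ≃* H, ∀ x : S, φ (ι x) = κ x := by
  classical
  haveI := hι.1
  haveI := hκ.1
  set R : Subgroup S := (pCore p G).comap ι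
  have hRG : R.map ι = pCore p G := Subgroup.map_comap_eq_self (pCore_le_range hι)
  have hRH : R.map κ = pCore p H := by
    rw [show R = _ from model_core_eq hι hκ]; exact Subgroup.map_comap_eq_self (pCore_le_range hκ)
  have hnG : ∀ (g : G) (q : S), q ∈ R → ∃ q' ∈ R, ι q' = g * ι q * g⁻¹ := fun g q hq => by
    have := (inferInstance : (pCore p G).Normal).conj_mem _ (show ι q ∈ pCore p G from hq) g
    rw [← hRG] at this
    exact this
  have hnH : ∀ (h : H) (q : S), q ∈ R → ∃ q' ∈ R, κ q' = h * κ q * h⁻¹ := fun h q hq => by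
    have := (inferInstance : (pCore p H).Normal).conj_mem _ (hRH ▸ Subgroup.mem_map_of_mem κ hq) h
    rw [← hRH] at this
    exact this
  have hcG : ∀ g : G, (∀ q ∈ R, g * ι q * g⁻¹ = ι q) → g ∈ R.map ι := fun g hg => by
    rw [hRG]
    refine hι.2.2.2 (Subgroup.mem_centralizer_iff.2 fun w hw => ?_)
    obtain ⟨q, hq, rfl⟩ := hRG.symm ▸ (hw : w ∈ pCore p G)
    exact (mul_inv_eq_iff_eq_mul.1 (hg q hq)).symm
  have hcH : ∀ h : H, (∀ q ∈ R, h * κ q * h⁻¹ = κ q) → h ∈ R.map κ := fun h hh => by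
    rw [hRH]
    refine hκ.2.2.2 (Subgroup.mem_centralizer_iff.2 fun w hw => ?_)
    obtain ⟨q, hq, rfl⟩ := hRH.symm ▸ (hw : w ∈ pCore p H)
    exact (mul_inv_eq_iff_eq_mul.1 (hh q hq)).symm
  let E : Subgroup (G × H) :=
    { carrier := {w | ∀ q ∈ R, ∀ q' ∈ R, w.1 * ι q * w.1⁻¹ = ι q' ↔ w.2 * κ q * w.2⁻¹ = κ q'}
      one_mem' := fun q _ q' _ => by simp [hι.2.1.1.eq_iff, hκ.2.1.1.eq_iff]
      mul_mem' := fun {a b} ha hb q hq q' hq' => by
        obtain ⟨r, hr, hr1⟩ := hnG b.1 q hq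
        have hr2 := (hb q hq r hr).1 hr1.symm
        simp only [Prod.fst_mul, Prod.snd_mul, mul_inv_rev]
        rw [show a.1 * b.1 * ι q * (b.1⁻¹ * a.1⁻¹) = a.1 * (b.1 * ι q * b.1⁻¹) * a.1⁻¹ by group,
          show a.2 * b.2 * κ q * (b.2⁻¹ * a.2⁻¹) = a.2 * (b.2 * κ q * b.2⁻¹) * a.2⁻¹ by group, ← hr1, hr2]
        exact ha r hr q' hq'
      inv_mem' := fun {a} ha q hq q' hq' => by
        have h := ha q' hq' q hq
        simp only [Prod.fst_inv, Prod.snd_inv, inv_inv]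
        constructor
        · intro h1
          rw [← h.1 (by rw [← h1]; group)]; group
        · intro h1
          rw [← h.2 (by rw [← h1]; group)]; group }
  let fst : E →* G := (MonoidHom.fst G H).comp E.subtype
  let snd : E →* H := (MonoidHom.snd G H).comp E.subtype
  have hdiag : ∀ x : S, (ι x, κ x) ∈ E := fun x q _ q' _ => by
    simp only [← map_inv, ← map_mul, hι.2.1.1.eq_iff, hκ.2.1.1.eq_iff]
  let Δ : S →* E := (ι.prod κ).codRestrict E hdiag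
  let Z : Subgroup E := fst.ker
  let T : Subgroup E := Δ.range
  have hfst : ∀ g : G, ∃ w : E, (w : G × H).1 = g := fun g => by
    obtain ⟨h, hh⟩ := transfer_conj hι.2.1 hκ.2.1 R g fun x hx => by
      obtain ⟨y, -, hy⟩ := hnG g x hx; exact ⟨y, hy⟩
    exact ⟨⟨(g, h), fun q hq q' _ => hh q hq q'⟩, rfl⟩
  have hsnd : ∀ h : H, ∃ w : E, (w : G × H).2 = h := fun h => by
    obtain ⟨g, hg⟩ := transfer_conj hκ.2.1 hι.2.1 R h fun x hx => by
      obtain ⟨y, -, hy⟩ := hnH h x hx; exact ⟨y, hy⟩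
    exact ⟨⟨(g, h), fun q hq q' _ => (hg q hq q').symm⟩, rfl⟩
  have hZmem : ∀ w ∈ Z, ∀ q ∈ R, (w : G × H).2 * κ q * ((w : G × H).2)⁻¹ = κ q := fun w hw q hq =>
    (w.2 q hq q hq).1 (by rw [show (w : G × H).1 = 1 from hw]; simp)
  have hab : ∀ a ∈ Z, ∀ b ∈ Z, a * b = b * a := fun a ha b hb => by
    refine Subtype.ext (Prod.ext ?_ ?_)
    · show (a : G × H).1 * (b : G × H).1 = (b : G × H).1 * (a : G × H).1
      rw [show (a : G × H).1 = 1 from ha, show (b : G × H).1 = 1 from hb]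
    · obtain ⟨q, hq, hq'⟩ := hcH _ (hZmem b hb)
      show (a : G × H).2 * (b : G × H).2 = (b : G × H).2 * (a : G × H).2
      rw [← hq']
      exact mul_inv_eq_iff_eq_mul.1 (hZmem a ha q hq)
  have hfree : Z ⊓ T = ⊥ := by
    rw [eq_bot_iff]
    rintro _ ⟨h1, x, rfl⟩
    have hx : x = 1 := hι.2.1.1 ((h1 : ι x = 1).trans (map_one ι).symm)
    simp [hx]
  have hZp : IsPGroup p Z := fun z => by
    obtain ⟨q, -, hq⟩ := hcH _ (hZmem z z.2)
    obtain ⟨k, hk⟩ := hS q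
    refine ⟨k, Subtype.ext (Subtype.ext (Prod.ext ?_ ?_))⟩
    · show ((z : E) : G × H).1 ^ p ^ k = 1
      rw [show ((z : E) : G × H).1 = 1 from z.2, one_pow]
    · show ((z : E) : G × H).2 ^ p ^ k = 1
      rw [← hq, ← map_pow, hk, map_one]
  have hcop : (Nat.card Z).Coprime (Z ⊔ T).index := by
    have hsurj : Function.Surjective fst := hfst
    have he : Z ⊔ T = (T.map fst).comap fst := by rw [Subgroup.comap_map_eq, sup_comm]
    rw [he, Subgroup.index_comap_of_surjective _ hsurj,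
      show T.map fst = ι.range from (MonoidHom.map_range fst Δ).trans rfl]
    obtain ⟨P, hP⟩ := hι.2.2.1
    obtain ⟨k, hk⟩ := IsPGroup.iff_card.1 hZp
    rw [hk, ← hP]
    exact Nat.Coprime.pow_left _ ((Nat.Prime.coprime_iff_not_dvd Fact.out).2 P.not_dvd_index)
  have hst : ∀ w : E, ∃ z ∈ Z, ∀ t ∈ T, w⁻¹ * t * w ∈ Z ⊔ T → (w * z)⁻¹ * t * (w * z) ∈ T := by
    rintro ⟨⟨g₁, g₂⟩, hw⟩
    let P : Subgroup S := ι.range.comap ((MulAut.conj g₁⁻¹).toMonoidHom.comp ι)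
    obtain ⟨h, hh⟩ := transfer_conj hι.2.1 hκ.2.1 P g₁⁻¹ fun x hx => hx
    have hz : ((1 : G), g₂⁻¹ * h⁻¹) ∈ E := by
      have key : ∀ q ∈ R, g₂⁻¹ * h⁻¹ * κ q * (g₂⁻¹ * h⁻¹)⁻¹ = κ q := by
        intro q hq
        obtain ⟨r, hr, hr1⟩ := hnG g₁ q hq
        have h2 : g₂ * κ q * g₂⁻¹ = κ r := (hw q hq r hr).1 hr1.symm
        have h1 : g₁⁻¹ * ι r * g₁⁻¹⁻¹ = ι q := by rw [hr1]; group
        have h3 : h * κ r * h⁻¹ = κ q := (hh r ⟨q, h1.symm⟩ q).1 h1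
        rw [← h3]
        calc g₂⁻¹ * h⁻¹ * (h * κ r * h⁻¹) * (g₂⁻¹ * h⁻¹)⁻¹ = g₂⁻¹ * κ r * g₂ := by group
          _ = κ q := by rw [← h2]; group
          _ = h * κ r * h⁻¹ := h3.symm
      intro q hq q' _
      simp only [one_mul, inv_one, mul_one]
      rw [key q hq, hι.2.1.1.eq_iff, hκ.2.1.1.eq_iff]
    refine ⟨⟨_, hz⟩, rfl, ?_⟩
    rintro _ ⟨x, rfl⟩ hmem
    have hx : x ∈ P := by
      obtain ⟨a, ha, b, ⟨y, rfl⟩, he⟩ := Subgroup.mem_sup_of_normal_left.1 hmem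
      have h1 := congrArg fst he
      rw [map_mul, show fst a = 1 from ha, one_mul] at h1
      refine ⟨y, ?_⟩
      show ι y = g₁⁻¹ * ι x * g₁⁻¹⁻¹
      rw [inv_inv]
      exact h1
    obtain ⟨y, hy⟩ := hx
    refine ⟨y, Subtype.ext (Prod.ext ?_ ?_)⟩
    · show ι y = (g₁ * 1)⁻¹ * ι x * (g₁ * 1)
      rw [hy]
      show g₁⁻¹ * ι x * g₁⁻¹⁻¹ = _
      simp
    · show κ y = (g₂ * (g₂⁻¹ * h⁻¹))⁻¹ * κ x * (g₂ * (g₂⁻¹ * h⁻¹))
      rw [← (hh x ⟨y, hy⟩ y).1 hy.symm]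
      group
  obtain ⟨K, hTK, hZK, hsup⟩ := exists_complement_containing Z T hab hfree hcop hst
  have hdec : ∀ w : E, ∃ z ∈ Z, ∃ k ∈ K, z * k = w := fun w =>
    Subgroup.mem_sup_of_normal_left.1 (hsup ▸ Subgroup.mem_top w)
  have hb1 : Function.Bijective (fst.comp K.subtype) := by
    refine ⟨(injective_iff_map_eq_one _).2 fun k hk => ?_, fun g => ?_⟩
    · have h : (k : E) ∈ Z ⊓ K := ⟨hk, k.2⟩
      rw [hZK, Subgroup.mem_bot] at h
      exact Subtype.ext h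
    · obtain ⟨w, rfl⟩ := hfst g
      obtain ⟨z, hz, k, hk, rfl⟩ := hdec w
      refine ⟨⟨k, hk⟩, ?_⟩
      show fst k = fst (z * k)
      rw [map_mul, show fst z = 1 from hz, one_mul]
  have hb2 : Function.Bijective (snd.comp K.subtype) := by
    refine ⟨(injective_iff_map_eq_one _).2 fun k hk => ?_, fun h => ?_⟩
    · have hk' : ((k : E) : G × H).2 = 1 := hk
      obtain ⟨q, hq, hq'⟩ := hcG ((k : E) : G × H).1 fun q hq =>
        ((k : E).2 q hq q hq).2 (by rw [hk']; simp)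
      have hmem : Δ q * (k : E)⁻¹ ∈ Z ⊓ K :=
        ⟨by show ι q * (((k : E) : G × H).1)⁻¹ = 1; rw [hq', mul_inv_cancel],
          K.mul_mem (hTK ⟨q, rfl⟩) (K.inv_mem k.2)⟩
      rw [hZK, Subgroup.mem_bot] at hmem
      have h2 : κ q * (((k : E) : G × H).2)⁻¹ = 1 := congrArg (fun w : E => (w : G × H).2) hmem
      rw [hk', inv_one, mul_one] at h2
      have hq1 : q = 1 := hκ.2.1.1 (h2.trans (map_one κ).symm)
      refine Subtype.ext (Subtype.ext (Prod.ext ?_ hk'))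
      rw [← hq', hq1, map_one]; rfl
    · obtain ⟨w, rfl⟩ := hsnd h
      obtain ⟨z, hz, k, hk, rfl⟩ := hdec w
      obtain ⟨q, -, hq⟩ := hcH _ (hZmem z hz)
      refine ⟨⟨Δ q * k, K.mul_mem (hTK ⟨q, rfl⟩) hk⟩, ?_⟩
      show snd (Δ q * k) = snd (z * k)
      rw [map_mul, map_mul]
      exact congrArg (· * snd k) hq
  refine ⟨(MulEquiv.ofBijective _ hb1).symm.trans (MulEquiv.ofBijective _ hb2), fun x => ?_⟩
  rw [MulEquiv.trans_apply,
    (MulEquiv.symm_apply_eq _).2 (show ι x = MulEquiv.ofBijective _ hb1 ⟨Δ x, hTK ⟨x, rfl⟩⟩ from rfl)]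
  rfl

end Cfsg.Agent.Local.FS
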