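import Cfsg.Agent.Lib.Local.FS.Model
import Cfsg.Agent.Lib.Local.FS.ModelUnique
import Cfsg.Agent.Lib.Local.FS.ModelQuotient
import Cfsg.Agent.Lib.Local.FS.Normal
import Cfsg.Agent.Lib.Local.FS.Transport
import Cfsg.Agent.Lib.Solv.PSolvHall
import Cfsg.Agent.Lib.Char.OneBlock

/-!
A model acts on the core of its system through the automiser, with a `p`-group as kernel.
-/

set_option autoImplicit false

namespace Cfsg.Agent.Local.FS

open Cfsg Cfsg.FusionSystem Cfsg.Agent.Fusion

universe u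

/-- An extension of a `p`-solvable group by a normal `p`-subgroup is `p`-solvable. -/
theorem isPSolvable_of_pgroup_quotient {G : Type*} [Group G] [Finite G] {p : ℕ} [Fact p.Prime] (N : Subgroup G)
    [N.Normal] (hN : IsPGroup p N) (h : IsPSolvable p (G ⧸ N)) : IsPSolvable p G := by
  obtain ⟨n, H, h0, hl, hm, hn, hstep⟩ := h
  obtain ⟨π, hπ⟩ : ∃ π, π = QuotientGroup.mk' N := ⟨_, rfl⟩
  have hπs : Function.Surjective π := hπ ▸ QuotientGroup.mk'_surjective N
  refine ⟨n + 1, Fin.cons ⊥ fun i => (H i).comap π, rfl, ?_, ?_, ?_, ?_⟩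
  · rw [← Fin.succ_last, Fin.cons_succ, hl, Subgroup.comap_top]
  · intro i j hij
    induction i using Fin.cases with
    | zero => exact bot_le
    | succ i =>
      induction j using Fin.cases with
      | zero => exact absurd hij (by simp [Fin.le_def])
      | succ j =>
        simp only [Fin.cons_succ]
        exact Subgroup.comap_mono (hm (Fin.succ_le_succ_iff.1 hij))
  · intro i
    induction i using Fin.cases with
    | zero => exact Subgroup.normal_bot
    | succ i => simp only [Fin.cons_succ]; exact (hn i).comap π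
  · intro i
    induction i using Fin.cases with
    | zero =>
      left
      obtain ⟨m, hm'⟩ := IsPGroup.iff_card.1 hN
      refine ⟨m, ?_⟩
      simp only [Fin.castSucc_zero, Fin.cons_zero, Fin.cons_succ]
      rw [Subgroup.relIndex_bot_left, h0, MonoidHom.comap_bot, hπ, QuotientGroup.ker_mk', hm']
    | succ i =>
      rw [← Fin.succ_castSucc]
      simp only [Fin.cons_succ]
      have he : ((H i.castSucc).comap π).relIndex ((H i.succ).comap π) = (H i.castSucc).relIndex (H i.succ) := by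
        rw [Subgroup.relIndex_comap, Subgroup.map_comap_eq_self_of_surjective hπs]
      rw [he]
      exact hstep i

theorem isPSolvable_of_equiv {G H : Type*} [Group G] [Group H] [Finite G] {p : ℕ} [Fact p.Prime] (e : G ≃* H)
    (h : IsPSolvable p G) : IsPSolvable p H :=
  Solv.isPSolvable_map Fact.out h e.toMonoidHom e.surjective

variable {Ω : Type u} [Group Ω] {S : Subgroup Ω} [Finite S] {F : FusionSystem S} {p : ℕ} [Fact p.Prime]

/-- A model maps onto the automiser of the core, with kernel a `p`-group. -/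
theorem exists_model_action (hS : IsPGroup p S) (hF : F.IsSaturated p) {G : Type*} [Group G] {ι : S →* G}
    (hm : F.IsModel p G ι) :
    ∃ θ : G →* MulAut F.core, θ.range = F.autGroup F.core ∧ IsPGroup p θ.ker := by
  haveI := hm.1
  have hQ := core_normal hS hF (F := F)
  have hR := normal_pCore_preimage hm
  generalize hQd : F.core = Q at hQ
  have hRQ : ((pCore p G).comap ι).map S.subtype ≤ Q := by rw [← hQd]; exact le_sSup hR
  haveI hNn := normal_image hm hQ
  obtain ⟨N, hN⟩ : ∃ N : Subgroup G, N = (Q.subgroupOf S).map ι := ⟨_, rfl⟩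
  haveI : N.Normal := hN ▸ hNn
  let j : Q →* N := (ι.comp (Subgroup.inclusion hQ.1)).codRestrict N fun x => hN ▸ ⟨_, x.2, rfl⟩
  have hj : Function.Bijective j := by
    refine ⟨fun x y h => Subtype.ext (congrArg (fun s : S => (s : Ω)) (hm.2.1.1 (congrArg Subtype.val h) :
      (⟨x, hQ.1 x.2⟩ : S) = ⟨y, hQ.1 y.2⟩)), ?_⟩
    rintro ⟨y, hy⟩
    obtain ⟨x, hx, rfl⟩ := hN ▸ hy
    exact ⟨⟨x, hx⟩, rfl⟩
  let e : Q ≃* N := MulEquiv.ofBijective j hj
  obtain ⟨θ, hθ⟩ : ∃ θ : G →* MulAut Q, ∀ g : G, ∀ x : Q,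
      ι ⟨θ g x, hQ.1 (θ g x).2⟩ = g * ι ⟨x, hQ.1 x.2⟩ * g⁻¹ := by
    refine ⟨(MulAut.congr e.symm).toMonoidHom.comp (MulAut.conjNormal : G →* MulAut N), fun g x => ?_⟩
    have h1 : e ((MulAut.congr e.symm (MulAut.conjNormal g)) x) = MulAut.conjNormal g (e x) := by
      show e (e.symm (MulAut.conjNormal g (e.symm.symm x))) = _
      rw [MulEquiv.apply_symm_apply, MulEquiv.symm_symm]
    have h2 := congrArg Subtype.val h1
    rw [MulAut.conjNormal_apply] at h2
    exact h2
  refine ⟨θ, le_antisymm ?_ ?_, ?_⟩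
  · rintro _ ⟨g, rfl⟩
    obtain ⟨f, hf, hfg⟩ := exists_map_of_conj hm.2.1 hQ.1 g fun x hx => ⟨_, hθ g ⟨x, hx⟩⟩
    refine mem_autGroup_of_map (hf.congr fun x hx => ?_)
    rw [hfg ⟨x, hQ.1 hx⟩ hx _ (hθ g ⟨x, hx⟩), av_apply _ hx]
  · intro α hα
    obtain ⟨g, hg⟩ := exists_conj_of_map hm.2.1 (map_of_mem_autGroup hQ.1 hα)
    refine ⟨g, MulEquiv.ext fun x => Subtype.ext (congrArg (fun s : S => (s : Ω)) (hm.2.1.1 (a₁ := (⟨θ g x, hQ.1 (θ g x).2⟩ : S))
      (a₂ := ⟨α x, hQ.1 (α x).2⟩) ?_))⟩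
    rw [hθ, hg ⟨x, hQ.1 x.2⟩ x.2 ⟨α x, hQ.1 (α x).2⟩ (av_coe α x).symm]
  · refine (isPGroup_pCore p G).to_le fun g hg => hm.2.2.2 (Subgroup.mem_centralizer_iff.2 fun w hw => ?_)
    obtain ⟨s, rfl⟩ := pCore_le_range hm hw
    have hs : (s : Ω) ∈ Q := hRQ ((Subgroup.mem_map_iff_mem S.subtype_injective).2 hw)
    have h1 := hθ g ⟨s, hs⟩
    simp only [MonoidHom.mem_ker.1 hg, MulAut.one_apply] at h1
    exact eq_mul_inv_iff_mul_eq.1 h1

/-- The systems realized by `p`-solvable groups. -/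
theorem psolvable_realized_iff (hS : IsPGroup p S) (hF : F.IsSaturated p) :
    (∃ (G : Type u) (_ : Group G) (_ : Finite G) (ι : S →* G), IsPSolvable p G ∧ F.IsRealizedBy ι ∧
        ∃ T : Sylow p G, (T : Subgroup G) = ι.range) ↔
      (F.IsConstrained p ∧ IsPSolvable p ↥(F.autGroup F.core)) := by
  constructor
  · rintro ⟨G, _, _, ι, hG, hr, hsyl⟩
    obtain ⟨hr', hsyl'⟩ := realized_quotient hS hr hsyl
    have hG' := Solv.isPSolvable_map (p := p) Fact.out hG (QuotientGroup.mk' (pPrimeCore p G))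
      (QuotientGroup.mk'_surjective _)
    have hm : F.IsModel p (G ⧸ pPrimeCore p G) ((QuotientGroup.mk' (pPrimeCore p G)).comp ι) :=
      ⟨inferInstance, hr', hsyl', Cfsg.Agent.Char.centralizer_pCore_le_of_pSolvable hG' pPrimeCore_quotient_eq_bot⟩
    refine ⟨⟨hF, _, model_normal_centric hm⟩, ?_⟩
    obtain ⟨θ, hθ, -⟩ := exists_model_action hS hF hm
    rw [← hθ]
    exact Solv.isPSolvable_map Fact.out hG' θ.rangeRestrict θ.rangeRestrict_surjective
  · rintro ⟨⟨-, Q, hQn, hQc⟩, hA⟩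
    obtain ⟨G, _, ι, hm⟩ := exists_model hS hF hQn hQc
    haveI := hm.1
    obtain ⟨θ, hθ, hker⟩ := exists_model_action hS hF hm
    rw [← hθ] at hA
    haveI : Finite θ.range := Finite.of_surjective θ.rangeRestrict θ.rangeRestrict_surjective
    exact ⟨G, inferInstance, hm.1, ι, isPSolvable_of_pgroup_quotient θ.ker hker
      (isPSolvable_of_equiv (QuotientGroup.quotientKerEquivRange θ).symm hA), hm.2.1, hm.2.2.1⟩

end Cfsg.Agent.Local.FS
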