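import Cfsg.Agent.Lib.Local.FS.LimitPrime
import Cfsg.Agent.Lib.Local.FS.ComponentCore
import Cfsg.Agent.Lib.Local.FS.CentralizerSystemNormal
import Cfsg.Agent.Lib.Local.FS.ModelSolvable
import Cfsg.Agent.Lib.Local.FS.Constrained
import Cfsg.Agent.Lib.Solv.PSolvExtension

/-!
Terminating alternating residual series: constrainedness and `p`-solvability of the automiser of the core.
-/

set_option autoImplicit false

namespace Cfsg.Agent.Local.FS.Terminating

open Cfsg Cfsg.FusionSystem Cfsg.Agent.Fusion Cfsg.Agent.Local.FS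

universe u

variable {Ω : Type u} [Group Ω] {S T : Subgroup Ω} [Finite S] {F : FusionSystem S} {D : FusionSystem T}
  {Q R : Subgroup Ω} {f : Ω → Ω} {p : ℕ} [Fact p.Prime]

theorem psolv_of_hom {A B : Type*} [Group A] [Finite A] [Group B] [Finite B] (ρ : A →* B)
    (hker : IsPGroup p ρ.ker) (hB : IsPSolvable p B) : IsPSolvable p A :=
  isPSolvable_of_pgroup_quotient ρ.ker hker (isPSolvable_of_equiv (QuotientGroup.quotientKerEquivRange ρ).symm
    (Char.isPSolvable_subgroup Fact.out hB ρ.range))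

omit [Fact p.Prime] in
theorem centralizer_le_of_centric (h : F.IsCentric Q) : centralizerIn S Q ≤ Q :=
  h.2 Q (isConj_refl h.1)

theorem centric_of_normal (hQ : F.IsNormal Q) (h : centralizerIn S Q ≤ Q) : F.IsCentric Q :=
  ⟨hQ.1, fun R hR => by rw [eq_of_isConj_stronglyClosed (normal_stronglyClosed hQ) hR]; exact h⟩

theorem centralizer_core_le (h : F.IsConstrained p) : centralizerIn S F.core ≤ F.core := by
  obtain ⟨-, Q, hQ, hc⟩ := h
  have hle : Q ≤ F.core := le_sSup hQ
  exact fun x hx => hle (centralizer_le_of_centric hc ⟨hx.1, Subgroup.centralizer_le hle hx.2⟩)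

/-- The core of a weakly normal subsystem is normal. -/
theorem core_normal_up (hS : IsPGroup p S) (hD : D.IsWeaklyNormalIn F p) : F.IsNormal D.core := by
  obtain ⟨hDs, -, hDi⟩ := id hD
  have hT := hDi.2.1
  haveI := finite_of_le hT.1
  have hR := core_normal (hS.to_le hT.1) hDs
  have h := normal_closure_of_weaklyNormal hS hD hR
  convert h using 1
  refine le_antisymm (fun x hx => Subgroup.subset_closure ?_) ((Subgroup.closure_le _).2 ?_)
  · exact ⟨_, F.conj_mem (g := 1) (hR.1.trans hT.1) S.one_mem, ⟨x, hx⟩, by simp [conjHom]⟩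
  rintro _ ⟨φ, hφ, r, rfl⟩
  obtain ⟨α, hα, g, hg, hge⟩ := frattini_map hDi hR.1 (map_of_mem hφ)
  rw [← fn_coe φ r, hge r r.2]
  exact (le_sSup (normal_transport hDi hR hα) : _ ≤ D.core)
    (mem_im_of_mem (stronglyClosed_map (normal_stronglyClosed hR) hg r.2 r.2))

/-- A saturated system with central hyperfocal subgroup has trivial residual automisers. -/
theorem pResidual_eq_bot_of_fixed (hS : IsPGroup p S) (hfix : ∀ (P : Subgroup Ω) (f : Ω → Ω) (z : Ω), Map F P f → z ∈ P →
      z ∈ F.hyperfocalSubgroup p → f z = z) {P : Subgroup Ω} (hP : P ≤ S) :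
    pResidual p ↥(F.autGroup P) = ⊥ := by
  haveI := mulAut_finite_of_le hP
  haveI := finite_of_le hP
  refine eq_bot_iff.2 ((Subgroup.closure_le _).2 fun δ hδ => ?_)
  refine Subgroup.mem_bot.2 (Subtype.ext (aut_ext fun x hx => ?_))
  rw [OneMemClass.coe_one, av_one hx]
  have hm := map_of_mem_autGroup hP δ.2
  obtain ⟨h, hh⟩ : ∃ h, h = x⁻¹ * av (δ : MulAut P) x := ⟨_, rfl⟩
  have hhP : h ∈ P := hh ▸ P.mul_mem (P.inv_mem hx) (av_mem _ hx)
  have hhH : h ∈ F.hyperfocalSubgroup p := hh ▸ inv_mul_mem_hyperfocal hP (Subgroup.subset_closure hδ) hx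
  have hfh := hfix P _ h hm hhP hhH
  have hiter : ∀ n : ℕ, av ((δ : MulAut P) ^ n) x = x * h ^ n := by
    intro n
    induction n with
    | zero => rw [pow_zero, pow_zero, av_one hx, mul_one]
    | succ n ih =>
      rw [pow_succ' (δ : MulAut P), av_mul _ _ hx, ih, hm.map_mul hx (P.pow_mem hhP n),
        hfix P _ _ hm (P.pow_mem hhP n) (Subgroup.pow_mem _ hhH n), pow_succ' h, ← mul_assoc,
        show x * h = av (δ : MulAut P) x by rw [hh, mul_inv_cancel_left]]
  have h1 := hiter (orderOf δ)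
  rw [← SubmonoidClass.coe_pow, pow_orderOf_eq_one, OneMemClass.coe_one, av_one hx, left_eq_mul] at h1
  have h2 : h = 1 := by
    obtain ⟨k, hk⟩ := IsPGroup.iff_orderOf.1 hS ⟨h, hP hhP⟩
    rw [Subgroup.orderOf_mk] at hk
    have hd : orderOf h ∣ orderOf δ := orderOf_dvd_of_pow_eq_one h1
    exact orderOf_eq_one_iff.1 (Nat.eq_one_of_dvd_coprimes
      (hk ▸ Nat.Coprime.pow_right k hδ) hd (dvd_refl _))
  rw [hh, inv_mul_eq_one] at h2
  exact h2.symm

/-- Constrainedness passes up from a subsystem of `p`-power index. -/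
theorem constrained_of_pPower (hS : IsPGroup p S) (hF : F.IsSaturated p)
    {D : FusionSystem (F.hyperfocalSubgroup p)} (hD : F.IsPResidual p D) (hc : D.IsConstrained p) :
    F.IsConstrained p := by
  have hTS : F.hyperfocalSubgroup p ≤ S := hyperfocal_le
  haveI := finite_of_le hTS
  have hn := pPower_normal hS hF ⟨fun n hn g => hyperfocal_conj_mem g.2 hn⟩ hD.1 hD.2
  have hR := core_normal_up hS hn.1
  have hRT := (core_normal (hS.to_le hTS) hD.1).1
  obtain ⟨K, hK, hKR⟩ := exists_centralizer_system hS (inner_normal_of_normal hS hF hR)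
  have hCS : (centEOf (innerFusionSystem D.core) F) ≤ S := hK.1.2.2.2.1.1
  haveI := finite_of_le hCS
  have hCge : centralizerIn S D.core ≤ (centEOf (innerFusionSystem D.core) F) := by
    intro y hy
    refine (?_ : CentE (innerFusionSystem D.core) F (Subgroup.zpowers y)).le_centEOf (Subgroup.mem_zpowers y)
    refine ⟨Subgroup.zpowers_le.2 hy, ?_⟩
    rintro P f ⟨φ, ⟨hP, r, hr, hφ⟩, he⟩
    refine ⟨fun x => r * x * r⁻¹, map_conjBy (sup_le (hP.trans hR.1) (Subgroup.zpowers_le.2 hy.1)) (hR.1 hr),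
      fun x hx => (hφ ⟨x, hx⟩).symm.trans (he ⟨x, hx⟩), fun w hw => ?_⟩
    exact conj_centT (Subgroup.zpowers_le.2 hy hw) hr
  have hCle : (centEOf (innerFusionSystem D.core) F) ≤ centralizerIn S D.core := centEOf_le
  have hH : K.hyperfocalSubgroup p ≤ D.core := fun z hz => centralizer_core_le hc
    ⟨hyperfocal_mono hK.1.2.2.1 hz, (hCle (hyperfocal_le hz)).2⟩
  have hfix : ∀ (P : Subgroup Ω) (f : Ω → Ω) (z : Ω), Map K P f → z ∈ P →
      z ∈ K.hyperfocalSubgroup p → f z = z := by
    rintro P f z ⟨φ, hφ, he⟩ hzP hz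
    obtain ⟨-, -, -, ψ, -, hψP, hψR⟩ := hKR P hφ
    rw [← he ⟨z, hzP⟩, ← hψP ⟨z, hzP⟩]
    exact hψR ⟨z, hH hz⟩
  have hCp := hS.to_le hCS
  have hbot := fun (P : Subgroup Ω) (hP : P ≤ (centEOf (innerFusionSystem D.core) F)) => pResidual_eq_bot_of_fixed hCp hfix hP
  have hKC : K.hyperfocalSubgroup p = ⊥ := by
    refine eq_bot_iff.2 ((Subgroup.closure_le _).2 ?_)
    rintro _ ⟨P, α, x, hP, hα, rfl⟩
    rw [hbot P hP, Subgroup.mem_bot] at hα
    subst hα
    show (x : Ω)⁻¹ * x ∈ (⊥ : Subgroup Ω)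
    rw [inv_mul_cancel]; exact Subgroup.one_mem _
  have hKi : innerFusionSystem (centEOf (innerFusionSystem D.core) F) = K := by
    refine pPower_unique hCp (inner_isSaturated hCp) ⟨?_, hKC ▸ bot_le, fun P hP => ?_⟩ hK.1.1
      ⟨fun _ _ h => h, hyperfocal_le, fun P _ => Subgroup.map_subtype_le _⟩
    · rintro P φ ⟨hP, g, hg, hφ⟩
      have := (map_conjBy (F := K) hP hg)
      exact this.mem_hom hφ
    · rw [hbot P hP, Subgroup.map_bot]; exact bot_le
  have hCn : F.IsNormal (centEOf (innerFusionSystem D.core) F) := (normal_iff_inner_weaklyNormal hS hF hCS).2 (hKi ▸ hK.1)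
  have hcore := core_normal hS hF (F := F)
  have hle : D.core ≤ F.core := le_sSup hR
  have hCcore : (centEOf (innerFusionSystem D.core) F) ≤ F.core := le_sSup hCn
  refine ⟨hF, _, hcore, centric_of_normal hcore fun x hx => hCcore (hCge ⟨hx.1, ?_⟩)⟩
  exact Subgroup.centralizer_le hle hx.2

/-- Automisers restricted to a centric normal subgroup have `p`-groups as kernels. -/
theorem psolv_restrict (hS : IsPGroup p S) (hR : F.IsNormal R) (hRQ : R ≤ Q) (hQ : Q ≤ S)
    (hC : centralizerIn S R ≤ R) (h : IsPSolvable p ↥(F.autGroup R)) : IsPSolvable p ↥(F.autGroup Q) := by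
  haveI := finite_of_le hQ
  haveI := mulAut_finite_of_le hQ
  haveI := mulAut_finite_of_le hR.1
  choose r hr hre using fun a : ↥(F.autGroup Q) => exists_aut ((map_of_mem_autGroup hQ a.2).restrict hRQ)
    (by
      haveI := finite_of_le hR.1
      exact Subgroup.eq_of_le_of_card_ge (im_le_iff.2 fun x hx => stronglyClosed_map (normal_stronglyClosed hR)
        ((map_of_mem_autGroup hQ a.2).restrict hRQ) hx hx)
        ((map_of_mem_autGroup hQ a.2).restrict hRQ).card_im.ge)
  let ρ : ↥(F.autGroup Q) →* ↥(F.autGroup R) := MonoidHom.mk' (fun a => ⟨r a, hr a⟩) fun a b =>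
    Subtype.ext (aut_ext fun x hx => by
      show av (r (a * b)) x = av (r a * r b) x
      rw [hre _ x hx, Subgroup.coe_mul, av_mul _ _ (hRQ hx), av_mul _ _ hx,
        hre b x hx, hre a _ (by rw [← hre b x hx]; exact av_mem _ hx)])
  refine psolv_of_hom ρ (fun a => ?_) h
  obtain ⟨a, ha⟩ := a
  have hfix : ∀ x ∈ R, av (a : MulAut Q) x = x := fun x hx => by
    rw [← hre a x hx, show r a = 1 from congrArg Subtype.val (MonoidHom.mem_ker.1 ha), av_one hx]
  have hm := map_of_mem_autGroup hQ a.2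
  have hshift : ∀ x ∈ Q, x⁻¹ * av (a : MulAut Q) x ∈ R := fun x hx => by
    refine hC (mem_centralizerIn.2 ⟨S.mul_mem (S.inv_mem (hQ hx)) (hm.mem hx), fun y hy => ?_⟩)
    have hy' : x * y * x⁻¹ ∈ R := stronglyClosed_conj_mem (normal_stronglyClosed hR) (hQ hx) hy
    have h1 := hfix _ hy'
    rw [hm.map_conj hx (hRQ hy), hfix y hy] at h1
    calc y * (x⁻¹ * av (a : MulAut Q) x) = x⁻¹ * (x * y * x⁻¹) * av (a : MulAut Q) x := by group
      _ = x⁻¹ * (av (a : MulAut Q) x * y * (av (a : MulAut Q) x)⁻¹) * av (a : MulAut Q) x := by rw [h1]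
      _ = _ := by group
  obtain ⟨k, hk⟩ := exists_pow_eq_one_of_stabilizes (hS.to_le hQ) (α := (a : MulAut Q))
    (fun i => if i = 0 then ⊥ else if i = 1 then R else Q) 2 rfl (by simp)
    (monotone_nat_of_le_succ fun i => by rcases i with _ | _ | i <;> simp [hRQ])
    (fun i hi x hx hxC => by
      rcases i with _ | _ | i
      · simp only [zero_add, one_ne_zero, ↓reduceIte] at hxC ⊢
        rw [hfix x hxC, inv_mul_cancel]; exact Subgroup.one_mem _
      · simpa using hshift x hx
      · omega)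
  exact ⟨k, Subtype.ext (Subtype.ext (by rw [SubmonoidClass.coe_pow, SubmonoidClass.coe_pow, hk]; rfl))⟩

/-- `p`-solvability of the core automiser passes up from a subsystem of `p`-power index. -/
theorem psolv_of_pPower (hS : IsPGroup p S) (hF : F.IsSaturated p)
    {D : FusionSystem (F.hyperfocalSubgroup p)} (hD : F.IsPResidual p D) (hc : D.IsConstrained p)
    (h : IsPSolvable p ↥(D.autGroup D.core)) : IsPSolvable p ↥(F.autGroup F.core) := by
  have hTS : F.hyperfocalSubgroup p ≤ S := hyperfocal_le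
  haveI := finite_of_le hTS
  have hTn : ((F.hyperfocalSubgroup p).subgroupOf S).Normal := ⟨fun n hn g => hyperfocal_conj_mem g.2 hn⟩
  have hn := pPower_normal hS hF hTn hD.1 hD.2
  have hR := core_normal_up hS hn.1
  have hRT := (core_normal (hS.to_le hTS) hD.1).1
  have hsc := pPower_stronglyClosed hS hF hTS hTn le_rfl
  set Q := F.core
  have hQ : Q ≤ S := (core_normal hS hF).1
  have hRQ : D.core ≤ Q := le_sSup hR
  haveI := finite_of_le hQ
  haveI := mulAut_finite_of_le hQ
  haveI := mulAut_finite_of_le hR.1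
  set A := F.autGroup Q with hA
  haveI : (pResidual p ↥A).Normal := Subgroup.normal_of_characteristic _
  refine Solv.isPSolvable_of_extension (pResidual p ↥A) ?_
    (Solv.isPSolvable_top_step (Or.inl isPGroup_quotient_pResidual))
  have hm : ∀ a : ↥(pResidual p ↥A), Map D D.core (av ((a : ↥A) : MulAut Q)) := fun a =>
    (pPower_restrict hD.2 hsc hQ a.2).restrict (le_inf hRQ hRT)
  choose r hr hre using fun a : ↥(pResidual p ↥A) => exists_aut (hm a) (by
    haveI := finite_of_le hR.1
    exact Subgroup.eq_of_le_of_card_ge (im_le_iff.2 fun x hx => stronglyClosed_map (normal_stronglyClosed hR)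
      ((hm a).of_sub hD.2.1) hx hx) (hm a).card_im.ge)
  let ρ : ↥(pResidual p ↥A) →* ↥(D.autGroup D.core) := MonoidHom.mk' (fun a => ⟨r a, hr a⟩) fun a b =>
    Subtype.ext (aut_ext fun x hx => by
      show av (r (a * b)) x = av (r a * r b) x
      rw [hre _ x hx, Subgroup.coe_mul, Subgroup.coe_mul, av_mul _ _ (hRQ hx), av_mul _ _ hx,
        hre b x hx, hre a _ (by rw [← hre b x hx]; exact av_mem _ hx)])
  refine psolv_of_hom ρ (fun a => ?_) h
  obtain ⟨a, ha⟩ := a
  obtain ⟨α, hαd⟩ : ∃ α, α = ((a : ↥A) : MulAut Q) := ⟨_, rfl⟩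
  have hfix : ∀ x ∈ D.core, av α x = x := fun x hx => by
    rw [hαd, ← hre a x hx, show r a = 1 from congrArg Subtype.val (MonoidHom.mem_ker.1 ha), av_one hx]
  have hαm : Map F Q (av α) := hαd ▸ map_of_mem_autGroup hQ (a : ↥A).2
  have hshift : ∀ x ∈ Q, x⁻¹ * av α x ∈ Q ⊓ F.hyperfocalSubgroup p := fun x hx =>
    ⟨Q.mul_mem (Q.inv_mem hx) (av_mem α hx), hαd ▸ inv_mul_mem_hyperfocal hQ a.2 hx⟩
  have hstab : ∀ x ∈ Q, x ∈ F.hyperfocalSubgroup p → x⁻¹ * av α x ∈ D.core := fun x hx hxT => by
    refine centralizer_core_le hc (mem_centralizerIn.2 ⟨(hshift x hx).2, fun y hy => ?_⟩)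
    have hy' : x * y * x⁻¹ ∈ D.core := stronglyClosed_conj_mem (normal_stronglyClosed hR) (hQ hx) hy
    have h1 := hfix _ hy'
    rw [hαm.map_conj hx (hRQ hy), hfix y hy] at h1
    calc y * (x⁻¹ * av α x) = x⁻¹ * (x * y * x⁻¹) * av α x := by group
      _ = x⁻¹ * (av α x * y * (av α x)⁻¹) * av α x := by rw [h1]
      _ = _ := by group
  obtain ⟨k, hk⟩ := exists_pow_eq_one_of_stabilizes (hS.to_le hQ) (α := α)
    (fun i => if i = 0 then ⊥ else if i = 1 then D.core else if i = 2 then Q ⊓ F.hyperfocalSubgroup p else Q)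
    3 rfl (by simp)
    (monotone_nat_of_le_succ fun i => by rcases i with _ | _ | _ | i <;> simp [hRQ, hRT])
    (fun i hi x hx hxC => by
      rcases i with _ | _ | _ | i
      · simp only [zero_add, one_ne_zero, ↓reduceIte] at hxC ⊢
        rw [hfix x hxC, inv_mul_cancel]; exact Subgroup.one_mem _
      · simp at hxC ⊢
        exact hstab x hx hxC.2
      · simpa using hshift x hx
      · omega)
  subst hαd
  exact ⟨k, Subtype.ext (Subtype.ext (Subtype.ext (by
    rw [SubmonoidClass.coe_pow, SubmonoidClass.coe_pow, SubmonoidClass.coe_pow, hk]; rfl)))⟩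

/-- `p`-solvability of the core automiser passes up from the subsystem of index prime to `p`. -/
theorem psolv_of_prime (hS : IsPGroup p S) (hF : F.IsSaturated p) {E : FusionSystem S}
    (hE : F.IsPPrimeResidual p E) (hc : E.IsConstrained p) (h : IsPSolvable p ↥(E.autGroup E.core)) :
    F.IsConstrained p ∧ IsPSolvable p ↥(F.autGroup F.core) := by
  have hn := primeResidual_isNormalIn hS (weaklyNormal_self hS hF) hE
  have hR := core_normal_up hS hn.1
  have hC := centralizer_core_le hc
  have hRF : E.core ≤ F.core := le_sSup hR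
  refine ⟨⟨hF, _, hR, centric_of_normal hR hC⟩, psolv_restrict hS hR hRF (core_normal hS hF).1 hC ?_⟩
  haveI := finite_of_le hR.1
  haveI := mulAut_finite_of_le hR.1
  have hle : E.autGroup E.core ≤ F.autGroup E.core := autGroup_le_of_sub hE.2.1.1 hR.1
  haveI hN : ((E.autGroup E.core).subgroupOf (F.autGroup E.core)).Normal :=
    ⟨fun x hx g => conj_mem_sub hn.1.2.2 hR.1 g.2 hx⟩
  refine Solv.isPSolvable_of_extension _
    (isPSolvable_of_equiv (Subgroup.subgroupOfEquivOfLe hle).symm h) (Solv.isPSolvable_top_step (Or.inr ?_))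
  refine ((Nat.Prime.coprime_iff_not_dvd Fact.out).2 fun hdvd => ?_).symm
  obtain ⟨q, hq⟩ := exists_prime_orderOf_dvd_card' p hdvd
  obtain ⟨g, rfl⟩ := QuotientGroup.mk_surjective q
  obtain ⟨m, hm, k, hk⟩ := exists_pow_p_part (p := p) g
  have hmem : g ^ m ∈ (E.autGroup E.core).subgroupOf (F.autGroup E.core) :=
    hE.2.1.2 _ hR.1 ⟨g ^ m, Subgroup.subset_closure ⟨k, hk⟩, rfl⟩
  have h1 : (QuotientGroup.mk g : _ ⧸ (E.autGroup E.core).subgroupOf (F.autGroup E.core)) ^ m = 1 := by
    rw [← QuotientGroup.mk_pow, QuotientGroup.eq_one_iff]; exact hmem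
  exact hm (hq ▸ orderOf_dvd_of_pow_eq_one h1)

/-- Systems with terminating series are constrained with `p`-solvable core automiser. -/
theorem of_terminating : ∀ {S : Subgroup Ω} {F : FusionSystem S} {p : ℕ}, F.HasTerminatingResidualSeries p →
    ∀ [Fact p.Prime] [Finite S], IsPGroup p S → F.IsSaturated p →
      F.IsConstrained p ∧ IsPSolvable p ↥(F.autGroup F.core) := by
  intro S F p h
  induction h with
  | trivial F p hS0 =>
    intro _ _ hS hF
    subst hS0
    have hn : F.core = ⊥ := le_bot_iff.1 (core_normal hS hF).1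
    refine ⟨⟨hF, _, core_normal hS hF, centric_of_normal (core_normal hS hF) ?_⟩, ?_⟩
    · exact inf_le_left.trans bot_le
    · haveI := mulAut_finite_of_le (core_normal hS hF).1
      haveI : Subsingleton ↥(F.core) := by rw [hn]; infer_instance
      haveI : Subsingleton (MulAut ↥(F.core)) := ⟨fun a b => MulEquiv.ext fun x => Subsingleton.elim _ _⟩
      exact Solv.isPSolvable_top_step (Or.inr (by rw [Nat.card_unique]; exact Nat.coprime_one_left p))
  | step F E p D h1 h2 _ ih =>
    intro _ _ hS hF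
    have hle : E.hyperfocalSubgroup p ≤ _ := hyperfocal_le
    haveI := finite_of_le hle
    obtain ⟨hc, hA⟩ := ih (hS.to_le hle) h2.1
    exact psolv_of_prime hS hF h1 (constrained_of_pPower hS h1.1 h2 hc) (psolv_of_pPower hS h1.1 h2 hc hA)

/-- Systems with residual limit over the trivial subgroup have terminating series. -/
theorem terminating_of_limit (hS : IsPGroup p S) (hF : F.IsSaturated p) {V : Subgroup Ω} {L : FusionSystem V}
    (hL : L.IsResidualLimitOf F p) (hV : V = ⊥) : F.HasTerminatingResidualSeries p := by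
  suffices h : ∀ (n : ℕ) (S : Subgroup Ω) [Finite S] (F : FusionSystem S), Nat.card S = n → IsPGroup p S →
      F.IsSaturated p → ∀ {V : Subgroup Ω} {L : FusionSystem V}, L.IsResidualLimitOf F p → V = ⊥ →
      F.HasTerminatingResidualSeries p from h _ S F rfl hS hF hL hV
  intro n
  induction n using Nat.strong_induction_on with
  | _ n ih =>
  intro S _ F hn hS hF V L hL hV
  rcases eq_or_ne S ⊥ with hS0 | hS0
  · exact HasTerminatingResidualSeries.trivial F p hS0
  have hR := isPPrimeResidual_primeRes hS hF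
  have hle : (primeRes F p).hyperfocalSubgroup p ≤ S := hyperfocal_le
  haveI := finite_of_le hle
  obtain ⟨D, hD⟩ := exists_pPower hS hR.1 hle le_rfl
  obtain ⟨W, N, hN⟩ := exists_limit hS hR.1
  have hs := limit_primeRes hS hF hL hN
  have hne : (primeRes F p).hyperfocalSubgroup p ≠ S := fun h => hS0 (by
    have := (limit_stable hN hS hR.1 h (primeResidual_idem hR)).base
    rw [← this, ← hs.base, hV])
  obtain ⟨W', N', hN'⟩ := exists_limit (hS.to_le hle) hD.1
  refine HasTerminatingResidualSeries.step F _ p D hR hD (ih _ (hn ▸ card_lt_of_lt (lt_of_le_of_ne hle hne)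
    le_rfl) _ D rfl (hS.to_le hle) hD.1 hN' ?_)
  rw [← (limit_pPower hS hR.1 hD.1 hD.2 hN hN').base, ← hs.base, hV]

end Cfsg.Agent.Local.FS.Terminating
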