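import Cfsg.Agent.Lib.Local.FS.CentralizerRigid

/-!
A criterion for centralising a normal subsystem; the focal subgroup of the centralizer system of `T` and the
commutator subgroup of `C_S(T)` centralise it.
-/

set_option autoImplicit false

namespace Cfsg.Agent.Local.FS

open Cfsg Cfsg.FusionSystem Cfsg.Agent.Fusion
open scoped commutatorElement

variable {Ω : Type*} [Group Ω] {S T : Subgroup Ω} [Finite S] {F : FusionSystem S} {E : FusionSystem T}
  {C D P Q R W : Subgroup Ω} {f g : Ω → Ω} {p : ℕ} [Fact p.Prime]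

omit [Fact p.Prime] in
/-- Conjugation by the normaliser in `T` shifts `C_S(Q)` inside `Q`. -/
theorem conj_shift_mem (hE : E.IsInvariantIn F) (hQ : E.IsCentric Q) {t w : Ω}
    (ht : t ∈ normalizerIn T Q) (hw : w ∈ centralizerIn S Q) :
    w⁻¹ * (t * w * t⁻¹) ∈ Q ∧ ∀ r ∈ Q, r * (w⁻¹ * (t * w * t⁻¹)) = (w⁻¹ * (t * w * t⁻¹)) * r := by
  have hcent : ∀ r ∈ Q, r * (w⁻¹ * (t * w * t⁻¹)) = (w⁻¹ * (t * w * t⁻¹)) * r := by
    intro r hr
    have hr' : t⁻¹ * r * t ∈ Q := by simpa using conj_mem_of_normalizer (Subgroup.inv_mem _ ht.2) hr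
    have h3 := (mem_centralizerIn.1 hw).2 _ hr'
    have h4 := (mem_centralizerIn.1 hw).2 r hr
    have h5 : r * (t * w * t⁻¹) = t * w * t⁻¹ * r := by
      calc r * (t * w * t⁻¹) = t * (t⁻¹ * r * t * w) * t⁻¹ := by group
        _ = _ := by rw [h3]; group
    have h6 : r * w⁻¹ = w⁻¹ * r := by
      calc r * w⁻¹ = w⁻¹ * (w * r) * w⁻¹ := by group
        _ = _ := by rw [← h4]; group
    rw [← mul_assoc, h6, mul_assoc, h5, ← mul_assoc]
  refine ⟨hQ.2 Q (isConj_refl hQ.1) (mem_centralizerIn.2 ⟨?_, hcent⟩), hcent⟩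
  have h2 := stronglyClosed_conj_mem hE.2.1 (S.inv_mem (mem_centralizerIn.1 hw).1) ht.1
  have := T.mul_mem h2 (T.inv_mem ht.1)
  simpa [mul_assoc] using this

/-- `C ≤ C_S(T)` centralises `E` once the images of `C` are fixed by the normalisers in `T` of centric
subgroups of `E` and `C` is fixed by the `p'`-extensions. -/
theorem centE_of_generators (hS : IsPGroup p S) (hE : E.IsNormalIn F p) (hC : C ≤ centralizerIn S T)
    (ha : ∀ (P : Subgroup Ω) (h : Ω → Ω), E.IsCentric P → Map F (P ⊔ centralizerIn S T) h →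
      ∀ t ∈ normalizerIn T (im P h), ∀ c ∈ C, t * h c * t⁻¹ = h c)
    (hb : ∀ δ ∈ E.autGroup T, (orderOf δ).Coprime p → ∀ β ∈ F.autGroup (T ⊔ centralizerIn S T),
      (orderOf β).Coprime p → (∀ x ∈ T, av β x = av δ x) →
      (∀ c ∈ centralizerIn S T, c⁻¹ * av β c ∈ T) → ∀ c ∈ C, av β c = c) :
    CentE E F C := by
  obtain ⟨⟨hEs, hF, hEi⟩, -⟩ := id hE
  have hT := hEi.2.1
  haveI := finite_of_le hT.1
  have hgen : ∀ P : Subgroup Ω, E.IsCentric P →
      pResAut p (E.autGroup P) ≤ (fixSys F E C hC hT.1).autGroup P := by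
    intro P hP
    refine pResAut_induction fun a ha' hk => mem_autGroup_of_map (map_fixSys.2
      ⟨map_of_mem_autGroup hP.1 ha', ?_⟩)
    obtain ⟨Q, hPQ, hQn⟩ := exists_fullyNormalized (F := F) (hP.1.trans hT.1)
    obtain ⟨u, hu, hum, hi⟩ := exists_map_normalizer_fn hS hF hQn hPQ
    have hPN : P ≤ normalizerIn S P := le_normalizerIn (hP.1.trans hT.1)
    have huP := hu.restrict hPN
    have hQT : Q ≤ T := hi ▸ im_le_iff.2 fun x hx => stronglyClosed_map hT huP hx (hP.1 hx)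
    obtain ⟨e, he⟩ := exists_equiv huP hi
    haveI := mulAut_finite_of_le hQn.1
    have hpa : IsPGroup p (Subgroup.zpowers (MulAut.congr e a)) := by
      obtain ⟨k, hk⟩ := hk
      exact IsPGroup.of_card (n := k) (by
        rw [Nat.card_zpowers]
        exact (orderOf_injective (MulAut.congr e).toMonoidHom (MulAut.congr e).injective a).trans hk)
    obtain ⟨c, hc, hle⟩ := (fa_iff.1 (fc_fa_of_fn (hS.to_le hT.1) hEs
      (fn_of_sub hS hF hT hEi.1 hQT hQn)).2).2.conj_le hpa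
      (Subgroup.zpowers_le.2 (congr_mem_sub hEi huP hP.1 hi he ha'))
    obtain ⟨t, ht, htc⟩ := mem_autInducedBy.1 (hle (conj_mem_cj (g := c) (Subgroup.mem_zpowers _)))
    have htn := mem_normalizer_of_conj_aut htc
    have hcm := map_of_mem_autGroup hQn.1 (autGroup_sub_le hEi hQT hc)
    obtain ⟨w, hw, hwc⟩ := (receptive_iff.1 (receptive_of_fc hS hF (fc_fa_of_fn hS hF hQn).1)).2 Q _ hcm
      (im_av c)
    set Z := Q ⊔ centralizerIn S Q with hZ
    have hwY := hw.restrict (sup_le (le_Nf hcm) centralizerIn_le_Nf : Z ≤ Nf S Q (av c))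
    have hwi : im Q w = Q := by rw [im_congr hwc, im_av]
    have hwm : ∀ y ∈ Z, w y ∈ Z := fun y hy => by
      refine (show im Q w ⊔ im (centralizerIn S Q) w ≤ Z from sup_le_sup hwi.le ?_)
        (hwY.im_sup_le (mem_im_of_mem hy))
      refine im_le_iff.2 fun d hd => ?_
      have h1 := hwY.mem_centralizer le_sup_left (Subgroup.mem_sup_right hd) (mem_centralizerIn.1 hd).2
      rwa [hwi] at h1
    have hdom : P ⊔ centralizerIn S T ≤ normalizerIn S P :=
      sup_le hPN ((centT_le_centralizerIn hP.1).trans centralizerIn_le_normalizerIn)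
    have hCP : P ⊔ C ≤ P ⊔ centralizerIn S T := sup_le_sup_left hC P
    have huZ : ∀ x ∈ P ⊔ centralizerIn S T, u x ∈ Z := by
      intro x hx
      refine (show im P u ⊔ im (centralizerIn S T) u ≤ Z from sup_le (hi.le.trans le_sup_left) ?_)
        ((hu.restrict hdom).im_sup_le (mem_im_of_mem hx))
      refine im_le_iff.2 fun z hz => ?_
      have h1 := hu.mem_centralizer hPN (hdom (Subgroup.mem_sup_right hz))
        (mem_centralizerIn.1 (centT_le_centralizerIn hP.1 hz)).2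
      rw [hi] at h1
      exact Subgroup.mem_sup_right h1
    have hh : Map F (P ⊔ centralizerIn S T) (w ∘ u) := (hu.restrict hdom).comp hwY huZ
    have hhi : im P (w ∘ u) = Q := by rw [huP.im_comp, hi, hwi]
    have hCim : ∀ x ∈ C, t * w (u x) * t⁻¹ = w (u x) := fun x hx =>
      ha P _ hP hh t ⟨ht, hhi.symm ▸ htn⟩ x hx
    have hm : Map F (P ⊔ C) ((fun y => t * y * t⁻¹) ∘ (w ∘ u)) :=
      (hh.restrict hCP).comp (map_conjBy (sup_le hQn.1 inf_le_left : Z ≤ S) (hT.1 ht))
        fun x hx => hwm _ (huZ x (hCP hx))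
    obtain ⟨k, hk', hkw, -, -⟩ := (hh.restrict hCP).exists_inv
    have hPim : ∀ x ∈ P, t * w (u x) * t⁻¹ = w (u (av a x)) := by
      intro x hx
      have hux : u x ∈ Q := hi.le (mem_im_of_mem hx)
      rw [hwc _ hux, ← htc _ (av_mem c hux), av_mul _ _ (av_mem c hux), av_inv_av c hux,
        av_mul _ _ hux, av_congr_apply he a hx, hwc _ (hi.le (mem_im_of_mem (av_mem a hx)))]
    have hmem : ∀ x ∈ P ⊔ C, ((fun y => t * y * t⁻¹) ∘ (w ∘ u)) x ∈ im (P ⊔ C) (w ∘ u) := by
      intro x hx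
      refine (show im P _ ⊔ im C _ ≤ im (P ⊔ C) (w ∘ u) from sup_le ?_ ?_) (hm.im_sup_le (mem_im_of_mem hx))
      · refine im_le_iff.2 fun r hr => ?_
        show t * w (u r) * t⁻¹ ∈ _
        rw [hPim r hr]
        exact mem_im_of_mem (f := w ∘ u) (Subgroup.mem_sup_left (av_mem a hr))
      · refine im_le_iff.2 fun r hr => ?_
        show t * w (u r) * t⁻¹ ∈ _
        rw [hCim r hr]
        exact mem_im_of_mem (f := w ∘ u) (Subgroup.mem_sup_right hr)
    refine ⟨k ∘ ((fun y => t * y * t⁻¹) ∘ (w ∘ u)), hm.comp hk' hmem, fun x hx => ?_, fun z hz => ?_⟩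
    · show k (t * w (u x) * t⁻¹) = _
      rw [hPim x hx]
      exact hkw _ (Subgroup.mem_sup_left (av_mem a hx))
    · show k (t * w (u z) * t⁻¹) = z
      rw [hCim z hz]
      exact hkw _ (Subgroup.mem_sup_right hz)
  have hautT : ∀ α ∈ E.autGroup T, α ∈ (fixSys F E C hC hT.1).autGroup T := by
    intro α hα
    haveI := mulAut_finite_of_le hT.1
    obtain ⟨β, hβ, γ, hγ, rfl⟩ := exists_autS_mul_residual (hS.to_le hT.1) hEs fn_self hα
    refine mul_mem (autInducedBy_le_autGroup le_rfl hβ) ?_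
    suffices h : pResidual p ↥(E.autGroup T) ≤
        ((fixSys F E C hC hT.1).autGroup T).subgroupOf (E.autGroup T) from h hγ
    rw [pResidual]
    refine (Subgroup.closure_le _).2 fun δ hδ => ?_
    have ho : (orderOf (δ : MulAut T)).Coprime p := by rw [Subgroup.orderOf_coe]; exact hδ
    obtain ⟨β', hβ', hβo, hβT, hβs⟩ := exists_pPrime_ext hE δ.2 ho
    have hL : T ⊔ centralizerIn S T ≤ S := sup_le hT.1 inf_le_left
    exact mem_autGroup_of_map (map_fixSys.2 ⟨map_of_mem_autGroup le_rfl δ.2, av β',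
      (map_of_mem_autGroup hL hβ').restrict (sup_le_sup_left hC T), hβT,
      hb δ δ.2 ho β' hβ' hβo hβT hβs⟩)
  refine ⟨hC, fun P f hf => ?_⟩
  obtain ⟨α, hα, x, hx, hfx⟩ := fac_of_map (hS.to_le hT.1) hEs hgen (E := fixSys F E C hC hT.1) hf
  obtain ⟨-, g, hg, hgx, hgC⟩ := map_fixSys.1 hx.map
  obtain ⟨-, h, hh, hhα, hhC⟩ := map_fixSys.1 (map_of_mem_autGroup le_rfl (hautT α hα))
  refine ⟨h ∘ g, hg.comp hh fun z hz => ?_, fun r hr => ?_, fun z hz => ?_⟩
  · refine (show im P g ⊔ im C g ≤ T ⊔ C from sup_le_sup ?_ ?_) (hg.im_sup_le (mem_im_of_mem hz))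
    · exact im_le_iff.2 fun r hr => by rw [hgx r hr]; exact hx.map.mem hr
    · exact im_le_iff.2 fun r hr => by rw [hgC r hr]; exact hr
  · show h (g r) = _
    rw [hgx r hr, hhα _ (hx.map.mem hr), hfx r hr]
  · show h (g z) = z
    rw [hgC z hz, hhC z hz]

/-- The `p'`-extensions commute with the maps fixing `T`. -/
theorem pPrime_ext_comm (hS : IsPGroup p S) (hE : E.IsNormalIn F p) {δ : MulAut T}
    (hδ : δ ∈ E.autGroup T) (ho : (orderOf δ).Coprime p)
    {β : MulAut ↥(T ⊔ centralizerIn S T)} (hβ : β ∈ F.autGroup (T ⊔ centralizerIn S T))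
    (hβo : (orderOf β).Coprime p) (hβT : ∀ x ∈ T, av β x = av δ x)
    (hβs : ∀ c ∈ centralizerIn S T, c⁻¹ * av β c ∈ T) {x : Ω} (hx : x ∈ centralizerIn S T)
    {φ : Ω → Ω} (hφ : Map F (T ⊔ Subgroup.zpowers x) φ) (hφT : ∀ r ∈ T, φ r = r) :
    φ (av β x) = av β (φ x) := by
  obtain ⟨⟨hEs, hF, hEi⟩, -⟩ := id hE
  have hT := hEi.2.1
  haveI := finite_of_le hT.1
  have hL : T ⊔ centralizerIn S T ≤ S := sup_le hT.1 inf_le_left
  obtain ⟨y, hydef⟩ : ∃ y, y = φ x := ⟨_, rfl⟩
  have hy : y ∈ centralizerIn S T := by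
    have h1 := hφ.mem_centralizer le_sup_left (Subgroup.mem_sup_right (Subgroup.mem_zpowers x))
      (mem_centralizerIn.1 hx).2
    rw [im_congr (g := id) hφT, im_id] at h1
    exact hydef ▸ h1
  have hxW : x ∈ T ⊔ Subgroup.zpowers x := Subgroup.mem_sup_right (Subgroup.mem_zpowers x)
  have hφi : im (T ⊔ Subgroup.zpowers x) φ = T ⊔ Subgroup.zpowers y := by
    refine le_antisymm (hφ.im_sup_le.trans (sup_le_sup ?_ ?_)) (sup_le ?_ ?_)
    · rw [im_congr (g := id) hφT, im_id]
    · refine im_le_iff.2 fun w hw => ?_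
      obtain ⟨i, rfl⟩ := Subgroup.mem_zpowers_iff.1 hw
      obtain ⟨ψ, hψ, he⟩ := id hφ
      have h1 := _root_.map_zpow ψ ⟨x, hxW⟩ i
      rw [he, he] at h1
      simp only [SubgroupClass.coe_zpow] at h1
      rw [h1, hydef]
      exact Subgroup.zpow_mem_zpowers _ _
    · intro r hr
      rw [← hφT r hr]; exact mem_im_of_mem (Subgroup.mem_sup_left hr)
    · exact Subgroup.zpowers_le.2 (hydef ▸ mem_im_of_mem hxW)
  have hW₂S : T ⊔ Subgroup.zpowers y ≤ S := sup_le hT.1 (Subgroup.zpowers_le.2 (mem_centralizerIn.1 hy).1)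
  haveI := finite_of_le hW₂S
  obtain ⟨q, hq, hW⟩ := exists_push (n := 0) hS (fun U hU _ => hF U hU) hW₂S Nat.card_pos
    (le_sup_left : T ≤ T ⊔ Subgroup.zpowers y)
  have hyW : y ∈ T ⊔ Subgroup.zpowers y := Subgroup.mem_sup_right (Subgroup.mem_zpowers y)
  have hqT : im T q = T := Subgroup.eq_of_le_of_card_ge
    (im_le_iff.2 fun x hx => stronglyClosed_map hT hq (Subgroup.mem_sup_left hx) hx)
    (hq.restrict le_sup_left).card_im.ge
  rw [hqT] at hW
  obtain ⟨a, ha, haq⟩ := exists_aut (hq.restrict le_sup_left) hqT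
  have hqy : q y ∈ centralizerIn S T := by
    have h1 := hq.mem_centralizer le_sup_left hyW (mem_centralizerIn.1 hy).2
    rwa [hqT] at h1
  have hW₃ : im (T ⊔ Subgroup.zpowers y) q = T ⊔ Subgroup.zpowers (q y) := by
    refine le_antisymm (hq.im_sup_le.trans (sup_le_sup hqT.le ?_)) (sup_le (hqT.ge.trans (im_mono le_sup_left))
      (Subgroup.zpowers_le.2 (mem_im_of_mem hyW)))
    refine im_le_iff.2 fun w hw => ?_
    obtain ⟨i, rfl⟩ := Subgroup.mem_zpowers_iff.1 hw
    obtain ⟨ψ, hψ, he⟩ := id hq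
    have h1 := _root_.map_zpow ψ ⟨y, hyW⟩ i
    rw [he, he] at h1
    simp only [SubgroupClass.coe_zpow] at h1
    rw [h1]
    exact Subgroup.zpow_mem_zpowers _ _
  have hδ₂ : a * δ * a⁻¹ ∈ E.autGroup T := conj_mem_sub hEi le_rfl ha hδ
  have ho₂ : (orderOf (a * δ * a⁻¹)).Coprime p := by
    rw [show orderOf (a * δ * a⁻¹) = orderOf δ from
      orderOf_injective (MulAut.conj a).toMonoidHom (MulAut.conj a).injective δ]
    exact ho
  obtain ⟨β₂, hβ₂, hβ₂o, hβ₂T, hβ₂s⟩ := exists_pPrime_ext hE hδ₂ ho₂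
  have key : ∀ (z : Ω) (h : Ω → Ω), z ∈ centralizerIn S T → Map F (T ⊔ Subgroup.zpowers z) h →
      im (T ⊔ Subgroup.zpowers z) h = im (T ⊔ Subgroup.zpowers y) q → (∀ t ∈ T, h t = q t) →
      h z = q y → h (av β z) = av β₂ (q y) := by
    intro z h hz hh hhi hhT hhz
    have hzW : z ∈ T ⊔ Subgroup.zpowers z := Subgroup.mem_sup_right (Subgroup.mem_zpowers z)
    have hWL : T ⊔ Subgroup.zpowers z ≤ T ⊔ centralizerIn S T := sup_le_sup_left (Subgroup.zpowers_le.2 hz) T
    haveI := finite_of_le hh.le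
    haveI := mulAut_finite_of_le hh.le
    have hmβ := (map_of_mem_autGroup hL hβ).restrict hWL
    have hsh := shift_of_gen hmβ rfl (fun t ht => comm_of_centT hz ht)
      (fun t ht => hβT t ht ▸ av_mem δ ht) (hβs z hz)
    have hi : im (T ⊔ Subgroup.zpowers z) (av β) = T ⊔ Subgroup.zpowers z := by
      refine Subgroup.eq_of_le_of_card_ge (im_le_iff.2 fun w hw => ?_) hmβ.card_im.ge
      rw [show av β w = w * (w⁻¹ * av β w) by group]
      exact Subgroup.mul_mem _ hw (Subgroup.mem_sup_left (hsh w hw))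
    obtain ⟨b, hb, hbβ⟩ := exists_aut hmβ hi
    have hbo : (orderOf b).Coprime p := by
      refine Nat.Coprime.coprime_dvd_left (orderOf_dvd_of_pow_eq_one (aut_ext fun w hw => ?_)) hβo
      have := av_pow hWL (α := b) (β := β) (fun x hx => (hbβ x hx).symm) (orderOf β) w hw
      rw [pow_orderOf_eq_one, av_one (hWL hw)] at this
      rw [av_one hw]; exact this.symm
    obtain ⟨e, he⟩ := exists_equiv hh hhi
    rw [← hbβ z hzW, ← av_congr_apply he b hzW, hhz]
    refine eq_pPrime_ext hS hE hW hW₃ hqy hβ₂ hβ₂o (fun x hx => hβ₂T x hx ▸ av_mem _ hx) hβ₂s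
      (congr_mem_autGroup hh hhi he hb)
      (by exact (orderOf_injective (MulAut.congr e).toMonoidHom (MulAut.congr e).injective b).symm ▸ hbo)
      (fun x hx => ?_) ?_ _ (mem_im_of_mem hyW)
    · obtain ⟨t, ht, rfl⟩ := (hq.restrict le_sup_left).mem_im.1 (hqT.ge hx)
      rw [hβ₂T _ hx, ← hhT t ht, av_congr_apply he b (Subgroup.mem_sup_left ht),
        hbβ t (Subgroup.mem_sup_left ht), hβT t ht, hhT t ht, hhT _ (av_mem δ ht), ← haq t ht,
        av_mul _ _ (av_mem a ht), av_mul _ _ (av_mem a⁻¹ (av_mem a ht)), av_inv_av a ht,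
        haq _ (av_mem δ ht)]
    · rw [← hhz, av_congr_apply he b hzW, hbβ z hzW, ← hh.map_inv hzW,
        ← hh.map_mul (Subgroup.inv_mem _ hzW) (hi.le (mem_im_of_mem hzW)), hhT _ (hβs z hz)]
      exact hqT.le (mem_im_of_mem (hβs z hz))
  have hβy : av β (φ x) ∈ T ⊔ Subgroup.zpowers y := by
    rw [← hydef, show av β y = y * (y⁻¹ * av β y) by group]
    exact Subgroup.mul_mem _ hyW (Subgroup.mem_sup_left (hβs y hy))
  have hβx : av β x ∈ T ⊔ Subgroup.zpowers x := by
    rw [show av β x = x * (x⁻¹ * av β x) by group]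
    exact Subgroup.mul_mem _ hxW (Subgroup.mem_sup_left (hβs x hx))
  have h1 := key x (q ∘ φ) hx (hφ.comp hq fun z hz => hφi.le (mem_im_of_mem hz))
    (by rw [hφ.im_comp, hφi]) (fun t ht => by show q (φ t) = q t; rw [hφT t ht])
    (by show q (φ x) = q y; rw [hydef])
  have h2 := key y q hy hq rfl (fun _ _ => rfl) rfl
  rw [← hydef] at hβy ⊢
  exact hq.injOn (hφi.le (mem_im_of_mem hβx)) hβy (h1.trans h2.symm)

/-- The focal subgroup of the centralizer system of `T` centralises `E`. -/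
theorem focal_centE (hS : IsPGroup p S) (hE : E.IsNormalIn F p) {V : Set Ω}
    (hV : ∀ v ∈ V, ∃ x φ, x ∈ centralizerIn S T ∧ Map F (T ⊔ Subgroup.zpowers x) φ ∧
      (∀ r ∈ T, φ r = r) ∧ v = x⁻¹ * φ x) :
    CentE E F (Subgroup.closure V) := by
  obtain ⟨hW, -⟩ := id hE
  obtain ⟨hEs, hF, hEi⟩ := id hW
  have hT := hEi.2.1
  have hVC : ∀ v ∈ V, v ∈ centralizerIn S T := by
    intro v hv
    obtain ⟨x, φ, hx, hφ, hφT, rfl⟩ := hV v hv
    have h1 := hφ.mem_centralizer le_sup_left (Subgroup.mem_sup_right (Subgroup.mem_zpowers x))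
      (mem_centralizerIn.1 hx).2
    rw [im_congr (g := id) hφT, im_id] at h1
    exact Subgroup.mul_mem _ (Subgroup.inv_mem _ hx) h1
  refine centE_of_generators hS hE ((Subgroup.closure_le _).2 hVC) (fun P h hP hh t ht c hc => ?_)
    fun δ hδ ho β hβ hβo hβT hβs c hc => ?_
  · have hQT : im P h ≤ T := im_le_iff.2 fun r hr =>
      stronglyClosed_map hT (hh.restrict le_sup_left) hr (hP.1 hr)
    have hQc : E.IsCentric (im P h) := centric_of_sub_map hEi hP (hh.restrict le_sup_left)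
    have hcen : ∀ c ∈ centralizerIn S T, h c ∈ centralizerIn S (im P h) := fun c hc =>
      hh.mem_centralizer le_sup_left (Subgroup.mem_sup_right hc)
        (mem_centralizerIn.1 (centT_le_centralizerIn hP.1 hc)).2
    suffices hv : ∀ v ∈ V, t * h v * t⁻¹ = h v by
      suffices ∀ z ∈ Subgroup.closure V, z ∈ centralizerIn S T ∧ t * h z * t⁻¹ = h z from (this c hc).2
      intro z hz
      induction hz using Subgroup.closure_induction with
      | mem v hv' => exact ⟨hVC v hv', hv v hv'⟩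
      | one => exact ⟨Subgroup.one_mem _, by rw [hh.map_one]; group⟩
      | mul a b _ _ iha ihb =>
        refine ⟨Subgroup.mul_mem _ iha.1 ihb.1, ?_⟩
        rw [hh.map_mul (Subgroup.mem_sup_right iha.1) (Subgroup.mem_sup_right ihb.1)]
        calc t * (h a * h b) * t⁻¹ = (t * h a * t⁻¹) * (t * h b * t⁻¹) := by group
          _ = _ := by rw [iha.2, ihb.2]
      | inv a _ iha =>
        refine ⟨Subgroup.inv_mem _ iha.1, ?_⟩
        rw [hh.map_inv (Subgroup.mem_sup_right iha.1)]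
        calc t * (h a)⁻¹ * t⁻¹ = (t * h a * t⁻¹)⁻¹ := by group
          _ = _ := by rw [iha.2]
    intro v hv
    obtain ⟨x, φ, hx, hφ, hφT, rfl⟩ := hV v hv
    have hxD : x ∈ P ⊔ Subgroup.zpowers x := Subgroup.mem_sup_right (Subgroup.mem_zpowers x)
    have hDh : P ⊔ Subgroup.zpowers x ≤ P ⊔ centralizerIn S T :=
      sup_le_sup_left (Subgroup.zpowers_le.2 hx) P
    have hφx : φ x ∈ centralizerIn S T := by
      have h1 := hφ.mem_centralizer le_sup_left (Subgroup.mem_sup_right (Subgroup.mem_zpowers x))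
        (mem_centralizerIn.1 hx).2
      rwa [im_congr (g := id) hφT, im_id] at h1
    obtain ⟨k, hk, hkh, hhk, -⟩ := (hh.restrict hDh).exists_inv
    have hφD : Map F (P ⊔ Subgroup.zpowers x) φ := hφ.restrict (sup_le_sup_right hP.1 _)
    have hψD : im P h ⊔ Subgroup.zpowers (h x) ≤ im (P ⊔ Subgroup.zpowers x) h :=
      sup_le (im_mono le_sup_left) (Subgroup.zpowers_le.2 (mem_im_of_mem hxD))
    have hφP : ∀ z ∈ P ⊔ Subgroup.zpowers x, φ z ∈ P ⊔ centralizerIn S T := by
      intro z hz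
      refine (show im P φ ⊔ im (Subgroup.zpowers x) φ ≤ P ⊔ centralizerIn S T from sup_le_sup ?_ ?_)
        (hφD.im_sup_le (mem_im_of_mem hz))
      · rw [im_congr (g := id) fun r hr => hφT r (hP.1 hr), im_id]
      · refine im_le_iff.2 fun w hw => ?_
        have h1 := hφ.mem_centralizer le_sup_left (Subgroup.mem_sup_right hw)
          (mem_centralizerIn.1 (Subgroup.zpowers_le.2 hx hw)).2
        rwa [im_congr (g := id) hφT, im_id] at h1
    have hψ : Map F (im P h ⊔ Subgroup.zpowers (h x)) (h ∘ φ ∘ k) :=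
      (((hk.comp hφD fun z hz => (hhk z hz).2).comp hh fun z hz => hφP _ (hhk z hz).2)).restrict hψD
    have hψQ : ∀ r ∈ im P h, (h ∘ φ ∘ k) r = r := by
      intro r hr
      obtain ⟨z, hz, rfl⟩ := (hh.restrict le_sup_left).mem_im.1 hr
      show h (φ (k (h z))) = h z
      rw [hkh z (Subgroup.mem_sup_left hz), hφT z (hP.1 hz)]
    have h1 := comm_of_centric hS hW hQc ht (hcen x hx) hψ hψQ
    obtain ⟨hz, hzc⟩ := conj_shift_mem hEi hQc ht (hcen x hx)
    have hψx : (h ∘ φ ∘ k) (h x) = h (φ x) := by show h (φ (k (h x))) = _; rw [hkh x hxD]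
    rw [show t * h x * t⁻¹ = h x * ((h x)⁻¹ * (t * h x * t⁻¹)) by group,
      hψ.map_mul (Subgroup.mem_sup_right (Subgroup.mem_zpowers _)) (Subgroup.mem_sup_left hz),
      hψQ _ hz, hψx] at h1
    have hy' : (h x)⁻¹ * h (φ x) ∈ centralizerIn S (im P h) :=
      Subgroup.mul_mem _ (Subgroup.inv_mem _ (hcen x hx)) (hcen _ hφx)
    have h2 := (mem_centralizerIn.1 hy').2 _ hz
    rw [hh.map_mul (Subgroup.inv_mem _ (Subgroup.mem_sup_right hx)) (Subgroup.mem_sup_right hφx),
      hh.map_inv (Subgroup.mem_sup_right hx)]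
    obtain ⟨z, hzdef⟩ : ∃ z, z = (h x)⁻¹ * (t * h x * t⁻¹) := ⟨_, rfl⟩
    rw [← hzdef] at h1 h2
    calc t * ((h x)⁻¹ * h (φ x)) * t⁻¹ = (t * h x * t⁻¹)⁻¹ * (t * h (φ x) * t⁻¹) := by group
      _ = (h x * z)⁻¹ * (h (φ x) * z) := by rw [← h1, hzdef]; group
      _ = z⁻¹ * (((h x)⁻¹ * h (φ x)) * z) := by group
      _ = _ := by rw [← h2]; group
  · have hL : T ⊔ centralizerIn S T ≤ S := sup_le hT.1 inf_le_left
    have hm := map_of_mem_autGroup hL hβ
    refine hm.fix_closure (fun v hv => ⟨Subgroup.mem_sup_right (hVC v hv), ?_⟩) c hc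
    obtain ⟨x, φ, hx, hφ, hφT, rfl⟩ := hV v hv
    have hφx : φ x ∈ centralizerIn S T := by
      have h1 := hφ.mem_centralizer le_sup_left (Subgroup.mem_sup_right (Subgroup.mem_zpowers x))
        (mem_centralizerIn.1 hx).2
      rwa [im_congr (g := id) hφT, im_id] at h1
    have h1 := pPrime_ext_comm hS hE hδ ho hβ hβo hβT hβs hx hφ hφT
    obtain ⟨z, hz⟩ : ∃ z, z = x⁻¹ * av β x := ⟨_, rfl⟩
    have hzT : z ∈ T := hz ▸ hβs x hx
    have hx' : av β x = x * z := by rw [hz, mul_inv_cancel_left]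
    rw [hx', hφ.map_mul (Subgroup.mem_sup_right (Subgroup.mem_zpowers x)) (Subgroup.mem_sup_left hzT),
      hφT z hzT] at h1
    rw [hm.map_mul (Subgroup.inv_mem _ (Subgroup.mem_sup_right hx)) (Subgroup.mem_sup_right hφx),
      hm.map_inv (Subgroup.mem_sup_right hx), hx', ← h1]
    have h2 := comm_of_centT (Subgroup.mul_mem _ (Subgroup.inv_mem _ hx) hφx) hzT
    calc (x * z)⁻¹ * (φ x * z) = z⁻¹ * ((x⁻¹ * φ x) * z) := by group
      _ = _ := by rw [← h2]; group

/-- The commutator subgroup of `C_S(T)` centralises `E`. -/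
theorem commutator_centE (hS : IsPGroup p S) (hE : E.IsNormalIn F p) :
    CentE E F ⁅centralizerIn S T, centralizerIn S T⁆ := by
  obtain ⟨hW, -⟩ := id hE
  obtain ⟨hEs, hF, hEi⟩ := id hW
  have hT := hEi.2.1
  have hVC : ⁅centralizerIn S T, centralizerIn S T⁆ ≤ centralizerIn S T :=
    Subgroup.commutator_le.2 fun a ha b hb => by
      rw [commutatorElement_def]
      exact Subgroup.mul_mem _ (Subgroup.mul_mem _ (Subgroup.mul_mem _ ha hb) (Subgroup.inv_mem _ ha))
        (Subgroup.inv_mem _ hb)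
  refine centE_of_generators hS hE hVC (fun P h hP hh t ht c hc => ?_)
    fun δ hδ ho β hβ hβo hβT hβs c hc => ?_
  · have hQc : E.IsCentric (im P h) := centric_of_sub_map hEi hP (hh.restrict le_sup_left)
    have hcen : ∀ c ∈ centralizerIn S T, h c ∈ centralizerIn S (im P h) := fun c hc =>
      hh.mem_centralizer le_sup_left (Subgroup.mem_sup_right hc)
        (mem_centralizerIn.1 (centT_le_centralizerIn hP.1 hc)).2
    suffices hv : ∀ a ∈ centralizerIn S T, ∀ b ∈ centralizerIn S T, t * h ⁅a, b⁆ * t⁻¹ = h ⁅a, b⁆ by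
      rw [Subgroup.commutator_def] at hc
      suffices ∀ z ∈ Subgroup.closure {g | ∃ a ∈ centralizerIn S T, ∃ b ∈ centralizerIn S T, ⁅a, b⁆ = g},
          z ∈ centralizerIn S T ∧ t * h z * t⁻¹ = h z from (this c hc).2
      intro z hz
      induction hz using Subgroup.closure_induction with
      | mem v hv' =>
        obtain ⟨a, ha, b, hb, rfl⟩ := hv'
        exact ⟨hVC (Subgroup.commutator_mem_commutator ha hb), hv a ha b hb⟩
      | one => exact ⟨Subgroup.one_mem _, by rw [hh.map_one]; group⟩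
      | mul a b _ _ iha ihb =>
        refine ⟨Subgroup.mul_mem _ iha.1 ihb.1, ?_⟩
        rw [hh.map_mul (Subgroup.mem_sup_right iha.1) (Subgroup.mem_sup_right ihb.1)]
        calc t * (h a * h b) * t⁻¹ = (t * h a * t⁻¹) * (t * h b * t⁻¹) := by group
          _ = _ := by rw [iha.2, ihb.2]
      | inv a _ iha =>
        refine ⟨Subgroup.inv_mem _ iha.1, ?_⟩
        rw [hh.map_inv (Subgroup.mem_sup_right iha.1)]
        calc t * (h a)⁻¹ * t⁻¹ = (t * h a * t⁻¹)⁻¹ := by group
          _ = _ := by rw [iha.2]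
    intro a ha b hb
    have hm : ∀ {u : Ω}, u ∈ centralizerIn S T → u ∈ P ⊔ centralizerIn S T :=
      fun hu => Subgroup.mem_sup_right hu
    rw [commutatorElement_def, hh.map_mul (Subgroup.mul_mem _ (Subgroup.mul_mem _ (hm ha) (hm hb))
        (Subgroup.inv_mem _ (hm ha))) (Subgroup.inv_mem _ (hm hb)),
      hh.map_mul (Subgroup.mul_mem _ (hm ha) (hm hb)) (Subgroup.inv_mem _ (hm ha)),
      hh.map_mul (hm ha) (hm hb), hh.map_inv (hm ha), hh.map_inv (hm hb)]
    obtain ⟨hza, hzac⟩ := conj_shift_mem hEi hQc ht (hcen a ha)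
    obtain ⟨hzb, hzbc⟩ := conj_shift_mem hEi hQc ht (hcen b hb)
    obtain ⟨za, hza'⟩ : ∃ z, z = (h a)⁻¹ * (t * h a * t⁻¹) := ⟨_, rfl⟩
    obtain ⟨zb, hzb'⟩ : ∃ z, z = (h b)⁻¹ * (t * h b * t⁻¹) := ⟨_, rfl⟩
    rw [← hza'] at hza hzac
    rw [← hzb'] at hzb hzbc
    have c1 : Commute za zb := (hzac zb hzb).symm
    have c2 : Commute za (h b) := (mem_centralizerIn.1 (hcen b hb)).2 za hza
    have c3 : Commute zb (h a) := (mem_centralizerIn.1 (hcen a ha)).2 zb hzb
    have c4 : Commute za (h a) := (mem_centralizerIn.1 (hcen a ha)).2 za hza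
    have c5 : Commute zb (h b) := (mem_centralizerIn.1 (hcen b hb)).2 zb hzb
    calc t * (h a * h b * (h a)⁻¹ * (h b)⁻¹) * t⁻¹
        = (h a * za) * (h b * zb) * (h a * za)⁻¹ * (h b * zb)⁻¹ := by rw [hza', hzb']; group
      _ = ((h a * za) * (h b * zb)) * ((h b * zb) * (h a * za))⁻¹ := by group
      _ = (h a * h b * (za * zb)) * (h b * h a * (za * zb))⁻¹ := by
        rw [show (h a * za) * (h b * zb) = h a * (za * h b) * zb by group, c2.eq,
          show (h b * zb) * (h a * za) = h b * (zb * h a) * za by group, c3.eq,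
          show h b * (h a * zb) * za = h b * h a * (zb * za) by group, ← c1.eq]
        group
      _ = _ := by group
  · have hL : T ⊔ centralizerIn S T ≤ S := sup_le hT.1 inf_le_left
    have hm := map_of_mem_autGroup hL hβ
    rw [Subgroup.commutator_def] at hc
    refine hm.fix_closure (fun v hv => ?_) c hc
    obtain ⟨a, ha, b, hb, rfl⟩ := hv
    refine ⟨Subgroup.mem_sup_right (hVC (Subgroup.commutator_mem_commutator ha hb)), ?_⟩
    have hz : ∀ u ∈ centralizerIn S T, u⁻¹ * av β u ∈ T ∧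
        ∀ w ∈ centralizerIn S T, Commute (u⁻¹ * av β u) w := fun u hu =>
      ⟨hβs u hu, fun w hw => comm_of_centT hw (hβs u hu)⟩
    obtain ⟨za, hza'⟩ : ∃ z, z = a⁻¹ * av β a := ⟨_, rfl⟩
    obtain ⟨zb, hzb'⟩ : ∃ z, z = b⁻¹ * av β b := ⟨_, rfl⟩
    have hβu : ∀ u ∈ centralizerIn S T, av β u ∈ centralizerIn S T := fun u hu => by
      have hi : im T (av β) = T := by rw [im_congr hβT, im_av]
      have h1 := hm.mem_centralizer le_sup_left (Subgroup.mem_sup_right hu) (mem_centralizerIn.1 hu).2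
      rwa [hi] at h1
    have hzac : ∀ w ∈ centralizerIn S T, Commute za w := fun w hw => hza' ▸ (hz a ha).2 w hw
    have hzbc : ∀ w ∈ centralizerIn S T, Commute zb w := fun w hw => hzb' ▸ (hz b hb).2 w hw
    have c1 : Commute za zb := hzac zb (hzb' ▸ Subgroup.mul_mem _ (Subgroup.inv_mem _ hb) (hβu b hb))
    have c2 : Commute za b := hzac b hb
    have c3 : Commute zb a := hzbc a ha
    have hu : ∀ {u : Ω}, u ∈ centralizerIn S T → u ∈ T ⊔ centralizerIn S T :=
      fun h => Subgroup.mem_sup_right h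
    rw [commutatorElement_def, hm.map_mul (Subgroup.mul_mem _ (Subgroup.mul_mem _ (hu ha) (hu hb))
        (Subgroup.inv_mem _ (hu ha))) (Subgroup.inv_mem _ (hu hb)),
      hm.map_mul (Subgroup.mul_mem _ (hu ha) (hu hb)) (Subgroup.inv_mem _ (hu ha)),
      hm.map_mul (hu ha) (hu hb), hm.map_inv (hu ha), hm.map_inv (hu hb),
      show av β a = a * za by rw [hza', mul_inv_cancel_left],
      show av β b = b * zb by rw [hzb', mul_inv_cancel_left]]
    calc a * za * (b * zb) * (a * za)⁻¹ * (b * zb)⁻¹ = ((a * za) * (b * zb)) * ((b * zb) * (a * za))⁻¹ := by group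
      _ = (a * b * (za * zb)) * (b * a * (za * zb))⁻¹ := by
        rw [show (a * za) * (b * zb) = a * (za * b) * zb by group, c2.eq,
          show (b * zb) * (a * za) = b * (zb * a) * za by group, c3.eq,
          show b * (a * zb) * za = b * a * (zb * za) by group, ← c1.eq]
        group
      _ = _ := by group

end Cfsg.Agent.Local.FS
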