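import Cfsg.Agent.Lib.Local.FS.Products

set_option autoImplicit false

namespace Cfsg.Agent.Local.FS

open Cfsg Cfsg.FusionSystem Cfsg.Agent.Fusion

variable {Ω₁ Ω₂ : Type*} [Group Ω₁] [Group Ω₂] {S₁ : Subgroup Ω₁} {S₂ : Subgroup Ω₂}
  {F₁ : FusionSystem S₁} {F₂ : FusionSystem S₂} {E : FusionSystem (S₁.prod S₂)}
  {P : Subgroup (Ω₁ × Ω₂)} {f : Ω₁ × Ω₂ → Ω₁ × Ω₂}

/-- The first projection. -/
abbrev pr₁ (P : Subgroup (Ω₁ × Ω₂)) : Subgroup Ω₁ := P.map (MonoidHom.fst Ω₁ Ω₂)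

/-- The second projection. -/
abbrev pr₂ (P : Subgroup (Ω₁ × Ω₂)) : Subgroup Ω₂ := P.map (MonoidHom.snd Ω₁ Ω₂)

theorem mem_pr₁ {x : Ω₁ × Ω₂} (hx : x ∈ P) : x.1 ∈ pr₁ P := ⟨x, hx, rfl⟩

theorem mem_pr₂ {x : Ω₁ × Ω₂} (hx : x ∈ P) : x.2 ∈ pr₂ P := ⟨x, hx, rfl⟩

theorem prod_map_iff (hE : IsProductSystem F₁ F₂ E) :
    Map E P f ↔ P ≤ S₁.prod S₂ ∧ ∃ f₁ f₂, Map F₁ (pr₁ P) f₁ ∧ Map F₂ (pr₂ P) f₂ ∧
      ∀ x ∈ P, f x = (f₁ x.1, f₂ x.2) := by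
  constructor
  · rintro ⟨φ, hφ, he⟩
    obtain ⟨hP, f₁, f₂, h₁, h₂, h⟩ := (prodMap_iff F₁ F₂).2 ((hE P φ).1 hφ)
    exact ⟨hP, f₁, f₂, h₁, h₂, fun x hx => by rw [← he ⟨x, hx⟩, h]⟩
  · rintro ⟨hP, f₁, f₂, h₁, h₂, h⟩
    let φ : P →* Ω₁ × Ω₂ := MonoidHom.mk' (fun x => f x) fun x y => by
      rw [h _ (x * y).2, h _ x.2, h _ y.2]
      exact Prod.ext (h₁.map_mul (mem_pr₁ x.2) (mem_pr₁ y.2)) (h₂.map_mul (mem_pr₂ x.2) (mem_pr₂ y.2))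
    exact ⟨φ, (hE P φ).2 ((prodMap_iff F₁ F₂).1 ⟨hP, f₁, f₂, h₁, h₂, fun x => h x x.2⟩), fun x => rfl⟩

theorem pr_le (hP : P ≤ S₁.prod S₂) : pr₁ P ≤ S₁ ∧ pr₂ P ≤ S₂ := by
  constructor <;> rintro _ ⟨x, hx, rfl⟩
  · exact (hP hx).1
  · exact (hP hx).2

theorem pr_im (hf : Map E P f) {f₁ : Ω₁ → Ω₁} {f₂ : Ω₂ → Ω₂} (h₁ : Map F₁ (pr₁ P) f₁)
    (h₂ : Map F₂ (pr₂ P) f₂) (h : ∀ x ∈ P, f x = (f₁ x.1, f₂ x.2)) :
    pr₁ (im P f) = im (pr₁ P) f₁ ∧ pr₂ (im P f) = im (pr₂ P) f₂ := by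
  constructor
  · refine (h₁.im_eq ?_ ?_).symm
    · rintro _ ⟨x, hx, rfl⟩
      exact ⟨f x, mem_im_of_mem hx, congrArg Prod.fst (h x hx)⟩
    · rintro _ ⟨y, hy, rfl⟩
      obtain ⟨x, hx, rfl⟩ := hf.mem_im.1 hy
      exact ⟨x.1, mem_pr₁ hx, (congrArg Prod.fst (h x hx)).symm⟩
  · refine (h₂.im_eq ?_ ?_).symm
    · rintro _ ⟨x, hx, rfl⟩
      exact ⟨f x, mem_im_of_mem hx, congrArg Prod.snd (h x hx)⟩
    · rintro _ ⟨y, hy, rfl⟩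
      obtain ⟨x, hx, rfl⟩ := hf.mem_im.1 hy
      exact ⟨x.2, mem_pr₂ hx, (congrArg Prod.snd (h x hx)).symm⟩

theorem centralizerIn_prod (hP : P ≤ S₁.prod S₂) :
    centralizerIn (S₁.prod S₂) P = (centralizerIn S₁ (pr₁ P)).prod (centralizerIn S₂ (pr₂ P)) := by
  ext x
  rw [Subgroup.mem_prod, mem_centralizerIn, mem_centralizerIn, mem_centralizerIn]
  constructor
  · rintro ⟨hx, hc⟩
    refine ⟨⟨hx.1, ?_⟩, hx.2, ?_⟩ <;> rintro _ ⟨y, hy, rfl⟩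
    · exact congrArg Prod.fst (hc y hy)
    · exact congrArg Prod.snd (hc y hy)
  · rintro ⟨⟨h1, c1⟩, h2, c2⟩
    exact ⟨⟨h1, h2⟩, fun y hy => Prod.ext (c1 _ (mem_pr₁ hy)) (c2 _ (mem_pr₂ hy))⟩

theorem card_centralizerIn_prod (hP : P ≤ S₁.prod S₂) :
    Nat.card ↥(centralizerIn (S₁.prod S₂) P) =
      Nat.card ↥(centralizerIn S₁ (pr₁ P)) * Nat.card ↥(centralizerIn S₂ (pr₂ P)) := by
  rw [centralizerIn_prod hP, ← Nat.card_prod]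
  exact Nat.card_congr (Subgroup.prodEquiv _ _).toEquiv

theorem normalizer_pr {x : Ω₁ × Ω₂} (hx : x ∈ Subgroup.normalizer (P : Set (Ω₁ × Ω₂))) :
    x.1 ∈ Subgroup.normalizer ((pr₁ P : Subgroup Ω₁) : Set Ω₁) ∧
      x.2 ∈ Subgroup.normalizer ((pr₂ P : Subgroup Ω₂) : Set Ω₂) := by
  constructor <;> refine Subgroup.mem_normalizer_iff.2 fun y => ⟨?_, ?_⟩
  · rintro ⟨z, hz, rfl⟩
    exact ⟨_, conj_mem_of_normalizer hx hz, rfl⟩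
  · rintro ⟨z, hz, he⟩
    refine ⟨x⁻¹ * z * x, by simpa using conj_mem_of_normalizer (Subgroup.inv_mem _ hx) hz, ?_⟩
    show x.1⁻¹ * z.1 * x.1 = y
    rw [show z.1 = x.1 * y * x.1⁻¹ from he]; group
  · rintro ⟨z, hz, rfl⟩
    exact ⟨_, conj_mem_of_normalizer hx hz, rfl⟩
  · rintro ⟨z, hz, he⟩
    refine ⟨x⁻¹ * z * x, by simpa using conj_mem_of_normalizer (Subgroup.inv_mem _ hx) hz, ?_⟩
    show x.2⁻¹ * z.2 * x.2 = y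
    rw [show z.2 = x.2 * y * x.2⁻¹ from he]; group

section
variable [Finite S₁] [Finite S₂] {p : ℕ} [Fact p.Prime]

theorem prod_receptive_of_fn (h₁ : IsPGroup p S₁) (h₂ : IsPGroup p S₂) (hF₁ : F₁.IsSaturated p)
    (hF₂ : F₂.IsSaturated p) (hE : IsProductSystem F₁ F₂ E) (hP : E.IsFullyNormalized P) :
    E.IsReceptive P := by
  haveI : Finite ↥(S₁.prod S₂) := Finite.of_equiv _ (Subgroup.prodEquiv S₁ S₂).toEquiv.symm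
  obtain ⟨hp₁, hp₂⟩ := pr_le hP.1
  obtain ⟨P₁', hc₁, hn₁⟩ := exists_fullyNormalized (F := F₁) hp₁
  obtain ⟨P₂', hc₂, hn₂⟩ := exists_fullyNormalized (F := F₂) hp₂
  obtain ⟨u₁, hu₁, hm₁, hi₁⟩ := exists_map_normalizer_fn h₁ hF₁ hn₁ hc₁
  obtain ⟨u₂, hu₂, hm₂, hi₂⟩ := exists_map_normalizer_fn h₂ hF₂ hn₂ hc₂
  set u : Ω₁ × Ω₂ → Ω₁ × Ω₂ := fun x => (u₁ x.1, u₂ x.2)
  have hN₁ : pr₁ (normalizerIn (S₁.prod S₂) P) ≤ normalizerIn S₁ (pr₁ P) := by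
    rintro _ ⟨x, hx, rfl⟩; exact ⟨hx.1.1, (normalizer_pr hx.2).1⟩
  have hN₂ : pr₂ (normalizerIn (S₁.prod S₂) P) ≤ normalizerIn S₂ (pr₂ P) := by
    rintro _ ⟨x, hx, rfl⟩; exact ⟨hx.1.2, (normalizer_pr hx.2).2⟩
  have hu : Map E (normalizerIn (S₁.prod S₂) P) u :=
    (prod_map_iff hE).2 ⟨inf_le_left, u₁, u₂, hu₁.restrict hN₁, hu₂.restrict hN₂, fun _ _ => rfl⟩
  have hleP := le_normalizerIn hP.1
  have hQ : E.IsConj P (im P u) := isConj_iff.2 ⟨u, hu.restrict hleP, rfl⟩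
  obtain ⟨q₁, q₂⟩ := pr_im (hu.restrict hleP) (hu₁.restrict (le_normalizerIn hp₁))
    (hu₂.restrict (le_normalizerIn hp₂)) fun x _ => rfl
  rw [hi₁] at q₁
  rw [hi₂] at q₂
  have hsurj := hu.surj_of_card_le (T := normalizerIn (S₁.prod S₂) (im P u)) inf_le_left
    (fun x hx => hu.mem_normalizer hleP hx hx.2) (hP.2 _ hQ)
  have hfc : ∀ y ∈ centralizerIn (S₁.prod S₂) (im P u), ∃ x ∈ centralizerIn (S₁.prod S₂) P, u x = y := by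
    intro y hy
    obtain ⟨hyS, hyc⟩ := mem_centralizerIn.1 hy
    obtain ⟨x, hx, rfl⟩ := hsurj y (centralizerIn_le_normalizerIn hy)
    refine ⟨x, mem_centralizerIn.2 ⟨hx.1, fun z hz => ?_⟩, rfl⟩
    refine hu.injOn (Subgroup.mul_mem _ (hleP hz) hx) (Subgroup.mul_mem _ hx (hleP hz)) ?_
    rw [hu.map_mul (hleP hz) hx, hu.map_mul hx (hleP hz)]
    exact hyc _ (mem_im_of_mem hz)
  have hcard : Nat.card ↥(centralizerIn (S₁.prod S₂) (im P u)) ≤ Nat.card ↥(centralizerIn (S₁.prod S₂) P) := by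
    choose x hx hxu using hfc
    refine Nat.card_le_card_of_injective (fun y => (⟨x y y.2, hx y y.2⟩ : ↥(centralizerIn (S₁.prod S₂) P)))
      fun a b hab => Subtype.ext ?_
    rw [← hxu a a.2, ← hxu b b.2]
    exact congrArg u (congrArg Subtype.val hab)
  rw [card_centralizerIn_prod (isConj_le hQ).2, card_centralizerIn_prod hP.1, q₁, q₂] at hcard
  have hfc₁' := (fc_fa_of_fn h₁ hF₁ hn₁).1
  have hfc₂' := (fc_fa_of_fn h₂ hF₂ hn₂).1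
  have le₁ := hfc₁'.2 _ (isConj_symm hc₁)
  have le₂ := hfc₂'.2 _ (isConj_symm hc₂)
  have e₁ : Nat.card ↥(centralizerIn S₁ P₁') ≤ Nat.card ↥(centralizerIn S₁ (pr₁ P)) := by
    have h0 : 0 < Nat.card ↥(centralizerIn S₂ P₂') := Nat.card_pos
    nlinarith
  have e₂ : Nat.card ↥(centralizerIn S₂ P₂') ≤ Nat.card ↥(centralizerIn S₂ (pr₂ P)) := by
    have h0 : 0 < Nat.card ↥(centralizerIn S₁ P₁') := Nat.card_pos
    nlinarith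
  have hr₁ := receptive_of_fc h₁ hF₁ (R := pr₁ P)
    ⟨hp₁, fun R hR => (hfc₁'.2 R (isConj_trans (isConj_symm hc₁) hR)).trans e₁⟩
  have hr₂ := receptive_of_fc h₂ hF₂ (R := pr₂ P)
    ⟨hp₂, fun R hR => (hfc₂'.2 R (isConj_trans (isConj_symm hc₂) hR)).trans e₂⟩
  refine receptive_iff.2 ⟨hP.1, fun X f hf hi => ?_⟩
  obtain ⟨hX, f₁, f₂, hf₁, hf₂, hfe⟩ := (prod_map_iff hE).1 hf
  obtain ⟨r₁, r₂⟩ := pr_im hf hf₁ hf₂ hfe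
  rw [hi] at r₁ r₂
  obtain ⟨g₁, hg₁, hgf₁⟩ := (receptive_iff.1 hr₁).2 _ f₁ hf₁ r₁.symm
  obtain ⟨g₂, hg₂, hgf₂⟩ := (receptive_iff.1 hr₂).2 _ f₂ hf₂ r₂.symm
  have hle : pr₁ (Nf (S₁.prod S₂) X f) ≤ Nf S₁ (pr₁ X) f₁ ∧
      pr₂ (Nf (S₁.prod S₂) X f) ≤ Nf S₂ (pr₂ X) f₂ := by
    constructor <;> rintro _ ⟨a, ⟨haS, han, c, hc, hac⟩, rfl⟩
    · refine ⟨haS.1, (normalizer_pr han).1, c.1, hc.1, ?_⟩
      rintro _ ⟨z, hz, rfl⟩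
      have h1 := hac z hz
      rw [hfe _ (conj_mem_of_normalizer han hz), hfe _ hz] at h1
      exact congrArg Prod.fst h1
    · refine ⟨haS.2, (normalizer_pr han).2, c.2, hc.2, ?_⟩
      rintro _ ⟨z, hz, rfl⟩
      have h1 := hac z hz
      rw [hfe _ (conj_mem_of_normalizer han hz), hfe _ hz] at h1
      exact congrArg Prod.snd h1
  refine ⟨fun x => (g₁ x.1, g₂ x.2), (prod_map_iff hE).2 ⟨Nf_le.trans inf_le_left, g₁, g₂,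
    hg₁.restrict hle.1, hg₂.restrict hle.2, fun _ _ => rfl⟩, fun x hx => ?_⟩
  show (g₁ x.1, g₂ x.2) = f x
  rw [hfe x hx, hgf₁ _ (mem_pr₁ hx), hgf₂ _ (mem_pr₂ hx)]

theorem prod_fa_self (h₁ : IsPGroup p S₁) (h₂ : IsPGroup p S₂) (hF₁ : F₁.IsSaturated p)
    (hF₂ : F₂.IsSaturated p) (hE : IsProductSystem F₁ F₂ E) :
    E.IsFullyAutomized p (S₁.prod S₂) := by
  haveI : Finite ↥(S₁.prod S₂) := Finite.of_equiv _ (Subgroup.prodEquiv S₁ S₂).toEquiv.symm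
  have hS : IsPGroup p ↥(S₁.prod S₂) := by
    obtain ⟨a, ha⟩ := IsPGroup.iff_card.1 h₁
    obtain ⟨b, hb⟩ := IsPGroup.iff_card.1 h₂
    refine IsPGroup.of_card (n := a + b) ?_
    rw [Nat.card_congr (Subgroup.prodEquiv S₁ S₂).toEquiv, Nat.card_prod, ha, hb, pow_add]
  haveI := mulAut_finite_of_le (le_refl (S₁.prod S₂))
  haveI := mulAut_finite_of_le (le_refl S₁)
  haveI := mulAut_finite_of_le (le_refl S₂)
  have s₁ : pr₁ (S₁.prod S₂) = S₁ :=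
    le_antisymm (pr_le le_rfl).1 fun x hx => ⟨(x, 1), ⟨hx, S₂.one_mem⟩, rfl⟩
  have s₂ : pr₂ (S₁.prod S₂) = S₂ :=
    le_antisymm (pr_le le_rfl).2 fun x hx => ⟨(1, x), ⟨S₁.one_mem, hx⟩, rfl⟩
  have hex : ∀ α : ↥(E.autGroup (S₁.prod S₂)), ∃ c : ↥(F₁.autGroup S₁) × ↥(F₂.autGroup S₂),
      ∀ x ∈ S₁.prod S₂, av (α : MulAut ↥(S₁.prod S₂)) x =
        (av (c.1 : MulAut S₁) x.1, av (c.2 : MulAut S₂) x.2) := by
    intro α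
    obtain ⟨-, f₁, f₂, hf₁, hf₂, hfe⟩ := (prod_map_iff hE).1 (map_of_mem_autGroup le_rfl α.2)
    rw [s₁] at hf₁
    rw [s₂] at hf₂
    obtain ⟨α₁, hα₁, e₁⟩ := exists_aut hf₁ (Subgroup.eq_of_le_of_card_ge hf₁.im_le hf₁.card_im.ge)
    obtain ⟨α₂, hα₂, e₂⟩ := exists_aut hf₂ (Subgroup.eq_of_le_of_card_ge hf₂.im_le hf₂.card_im.ge)
    exact ⟨(⟨α₁, hα₁⟩, ⟨α₂, hα₂⟩), fun x hx => by rw [hfe x hx, e₁ _ hx.1, e₂ _ hx.2]⟩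
  choose c hc using hex
  let π₁ : ↥(E.autGroup (S₁.prod S₂)) →* MulAut S₁ := MonoidHom.mk' (fun α => ((c α).1 : MulAut S₁))
    fun α β => aut_ext fun x hx => by
      have hm : ((x, 1) : Ω₁ × Ω₂) ∈ S₁.prod S₂ := ⟨hx, S₂.one_mem⟩
      have h1 := hc (α * β) _ hm
      rw [Subgroup.coe_mul, av_mul _ _ hm, hc β _ hm] at h1
      rw [hc α _ ⟨av_mem _ hx, av_mem _ S₂.one_mem⟩] at h1
      rw [av_mul _ _ hx]
      exact (congrArg Prod.fst h1).symm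
  let π₂ : ↥(E.autGroup (S₁.prod S₂)) →* MulAut S₂ := MonoidHom.mk' (fun α => ((c α).2 : MulAut S₂))
    fun α β => aut_ext fun x hx => by
      have hm : ((1, x) : Ω₁ × Ω₂) ∈ S₁.prod S₂ := ⟨S₁.one_mem, hx⟩
      have h1 := hc (α * β) _ hm
      rw [Subgroup.coe_mul, av_mul _ _ hm, hc β _ hm] at h1
      rw [hc α _ ⟨av_mem _ S₁.one_mem, av_mem _ hx⟩] at h1
      rw [av_mul _ _ hx]
      exact (congrArg Prod.snd h1).symm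
  refine fa_iff.2 ⟨le_rfl, ?_⟩
  obtain ⟨U, hU, hUge⟩ := exists_sylIn_ge (isPGroup_autS (P := S₁.prod S₂) hS)
    (autInducedBy_le_autGroup (F := E) le_rfl)
  suffices U ≤ autInducedBy (S₁.prod S₂) (S₁.prod S₂) from le_antisymm this hUge ▸ hU
  intro α hα
  have hαE := hU.le hα
  have hUp : IsPGroup p ↥(U.subgroupOf (E.autGroup (S₁.prod S₂))) := hU.isPGroup.comap_subtype
  have hj₁ := (fa_iff.1 (fc_fa_of_fn h₁ hF₁ (fn_self (F := F₁))).2).2.eq_of_le (hUp.map π₁)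
    (fun β hβ => by
      obtain ⟨g, hg, hgβ⟩ := mem_autInducedBy.1 hβ
      have hgm : ((g, 1) : Ω₁ × Ω₂) ∈ S₁.prod S₂ := ⟨hg, S₂.one_mem⟩
      obtain ⟨γ, hγ, hγS⟩ := exists_aut_conj
        (Subgroup.le_normalizer (H := S₁.prod S₂) hgm)
      refine ⟨⟨γ, hU.le (hUge (hγS _ hgm))⟩, hUge (hγS _ hgm), aut_ext fun x hx => ?_⟩
      have hm : ((x, 1) : Ω₁ × Ω₂) ∈ S₁.prod S₂ := ⟨hx, S₂.one_mem⟩
      have h1 := hc ⟨γ, hU.le (hUge (hγS _ hgm))⟩ _ hm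
      rw [hγ _ hm] at h1
      show av ((c _).1 : MulAut S₁) x = _
      rw [hgβ x hx]
      exact (congrArg Prod.fst h1).symm)
    (by rintro _ ⟨β, -, rfl⟩; exact SetLike.coe_mem _)
  have hj₂ := (fa_iff.1 (fc_fa_of_fn h₂ hF₂ (fn_self (F := F₂))).2).2.eq_of_le (hUp.map π₂)
    (fun β hβ => by
      obtain ⟨g, hg, hgβ⟩ := mem_autInducedBy.1 hβ
      have hgm : ((1, g) : Ω₁ × Ω₂) ∈ S₁.prod S₂ := ⟨S₁.one_mem, hg⟩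
      obtain ⟨γ, hγ, hγS⟩ := exists_aut_conj
        (Subgroup.le_normalizer (H := S₁.prod S₂) hgm)
      refine ⟨⟨γ, hU.le (hUge (hγS _ hgm))⟩, hUge (hγS _ hgm), aut_ext fun x hx => ?_⟩
      have hm : ((1, x) : Ω₁ × Ω₂) ∈ S₁.prod S₂ := ⟨S₁.one_mem, hx⟩
      have h1 := hc ⟨γ, hU.le (hUge (hγS _ hgm))⟩ _ hm
      rw [hγ _ hm] at h1
      show av ((c _).2 : MulAut S₂) x = _
      rw [hgβ x hx]
      exact (congrArg Prod.snd h1).symm)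
    (by rintro _ ⟨β, -, rfl⟩; exact SetLike.coe_mem _)
  obtain ⟨g₁, hg₁, e₁⟩ := mem_autInducedBy.1 (hj₁.le ⟨⟨α, hαE⟩, hα, rfl⟩)
  obtain ⟨g₂, hg₂, e₂⟩ := mem_autInducedBy.1 (hj₂.le ⟨⟨α, hαE⟩, hα, rfl⟩)
  refine mem_autInducedBy.2 ⟨(g₁, g₂), ⟨hg₁, hg₂⟩, fun x hx => ?_⟩
  rw [hc ⟨α, hαE⟩ x hx]
  exact Prod.ext (e₁ _ hx.1) (e₂ _ hx.2)

theorem prod_saturated (h₁ : IsPGroup p S₁) (h₂ : IsPGroup p S₂) (hF₁ : F₁.IsSaturated p)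
    (hF₂ : F₂.IsSaturated p) (hE : IsProductSystem F₁ F₂ E) : E.IsSaturated p := by
  haveI : Finite ↥(S₁.prod S₂) := Finite.of_equiv _ (Subgroup.prodEquiv S₁ S₂).toEquiv.symm
  have hS : IsPGroup p ↥(S₁.prod S₂) := by
    obtain ⟨a, ha⟩ := IsPGroup.iff_card.1 h₁
    obtain ⟨b, hb⟩ := IsPGroup.iff_card.1 h₂
    refine IsPGroup.of_card (n := a + b) ?_
    rw [Nat.card_congr (Subgroup.prodEquiv S₁ S₂).toEquiv, Nat.card_prod, ha, hb, pow_add]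
  exact saturated_of_fn hS (prod_fa_self h₁ h₂ hF₁ hF₂ hE)
    fun _ hP => prod_receptive_of_fn h₁ h₂ hF₁ hF₂ hE hP

end

end Cfsg.Agent.Local.FS
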