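import Cfsg.Agent.Lib.Local.FS.Stable
import Cfsg.Agent.Lib.Local.FS.ProdSat
import Cfsg.Agent.Lib.Local.FS.WeakNormal

set_option autoImplicit false

namespace Cfsg.Agent.Local.FS

open Cfsg Cfsg.FusionSystem Cfsg.Agent.Fusion Cfsg.Agent.Local.FS.Marks

universe u

variable {Ω : Type u} [Group Ω] {S : Subgroup Ω}

/-- A characteristic biset of `F`: free on the right, with stabilisers graphs of maps of `F`, stable on the
left, and with a number of right orbits prime to `p`. -/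
structure CharBiset (F : FusionSystem S) (p : ℕ) where
  X : Type u
  fin : Finite X
  l : S → X → X
  r : X → S → X
  l_one : ∀ x, l 1 x = x
  l_mul : ∀ a b x, l (a * b) x = l a (l b x)
  r_one : ∀ x, r x 1 = x
  r_mul : ∀ x a b, r x (a * b) = r (r x a) b
  l_r : ∀ a x b, l a (r x b) = r (l a x) b
  free : ∀ x t, r x t = x → t = 1
  stab : ∀ x, ∃ (P : Subgroup Ω) (f : Ω → Ω), Map F P f ∧
    ∀ u t : S, l u x = r x t ↔ (u : Ω) ∈ P ∧ (t : Ω) = f u
  stable : ∀ (P : Subgroup Ω) (f : Ω → Ω), Map F P f → ∃ e : X ≃ X, ∀ u v : S, (u : Ω) ∈ P → (v : Ω) = f u →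
    ∀ (t : S) (x : X), e (r (l u x) t) = r (l v (e x)) t
  orbits : ℕ
  card_eq : Nat.card X = orbits * Nat.card S
  not_dvd : ¬ p ∣ orbits

variable {F : FusionSystem S} {p : ℕ}

/-- The graphs of the maps of `F`. -/
def IsGraph (F : FusionSystem S) (D : Subgroup (Ω × Ω)) : Prop :=
  D ≤ S.prod S ∧ ∃ f, Map F (pr₁ D) f ∧ ∀ x ∈ D, x.2 = f x.1

theorem IsGraph.mono {D E : Subgroup (Ω × Ω)} (h : E ≤ D) (hD : IsGraph F D) : IsGraph F E := by
  obtain ⟨hle, f, hf, he⟩ := hD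
  exact ⟨h.trans hle, f, hf.restrict (Subgroup.map_mono h), fun x hx => he x (h hx)⟩

theorem IsGraph.card_eq {D : Subgroup (Ω × Ω)} (hD : IsGraph F D) : Nat.card ↥(pr₁ D) = Nat.card D := by
  obtain ⟨hle, f, hf, he⟩ := hD
  refine (Nat.card_congr (Equiv.ofBijective (fun x : D => (⟨x.1.1, mem_pr₁ x.2⟩ : pr₁ D)) ⟨?_, ?_⟩)).symm
  · intro x y hxy
    have h1 : x.1.1 = y.1.1 := congrArg Subtype.val hxy
    exact Subtype.ext (Prod.ext h1 (by rw [he _ x.2, he _ y.2, h1]))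
  · rintro ⟨_, x, hx, rfl⟩
    exact ⟨⟨x, hx⟩, rfl⟩

theorem IsGraph.card_le [Finite S] {D : Subgroup (Ω × Ω)} (hD : IsGraph F D) : Nat.card D ≤ Nat.card S := by
  rw [← hD.card_eq]
  exact Subgroup.card_le_of_le (pr_le hD.1).1

/-- The graph of a map on `S`. -/
def graphTop (α : MulAut S) : Subgroup (Ω × Ω) :=
  ((MonoidHom.id S).prod α.toMonoidHom).range.map (S.subtype.prodMap S.subtype)

theorem mem_graphTop {α : MulAut S} {x : Ω × Ω} :
    x ∈ graphTop α ↔ ∃ u : S, ((u : Ω), (α u : Ω)) = x := by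
  constructor
  · rintro ⟨_, ⟨u, rfl⟩, rfl⟩; exact ⟨u, rfl⟩
  · rintro ⟨u, rfl⟩; exact ⟨_, ⟨u, rfl⟩, rfl⟩

variable [Finite S]

theorem isGraph_graphTop {α : MulAut S} (hα : α ∈ F.autGroup S) :
    IsGraph F (graphTop α) ∧ Nat.card ↥(graphTop α) = Nat.card S := by
  have hpr : pr₁ (graphTop α) = S := by
    ext x
    constructor
    · rintro ⟨y, hy, rfl⟩
      obtain ⟨u, rfl⟩ := mem_graphTop.1 hy
      exact u.2
    · exact fun hx => ⟨_, mem_graphTop.2 ⟨⟨x, hx⟩, rfl⟩, rfl⟩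
  have hg : IsGraph F (graphTop α) := by
    refine ⟨fun x hx => ?_, av α, hpr.symm ▸ map_of_mem_autGroup le_rfl hα, fun x hx => ?_⟩
    · obtain ⟨u, rfl⟩ := mem_graphTop.1 hx
      exact ⟨u.2, (α u).2⟩
    · obtain ⟨u, rfl⟩ := mem_graphTop.1 hx
      exact (av_coe α u).symm
  exact ⟨hg, by rw [← hg.card_eq, hpr]⟩

theorem IsGraph.exists_top {D : Subgroup (Ω × Ω)} (hD : IsGraph F D) (hc : Nat.card D = Nat.card S) :
    ∃ α ∈ F.autGroup S, D = graphTop α := by
  obtain ⟨hle, f, hf, he⟩ := id hD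
  have hpr : pr₁ D = S := Subgroup.eq_of_le_of_card_ge (pr_le hle).1 (by rw [hD.card_eq, hc])
  rw [hpr] at hf
  obtain ⟨α, hα, hαf⟩ := exists_aut hf (Subgroup.eq_of_le_of_card_ge hf.im_le hf.card_im.ge)
  refine ⟨α, hα, ?_⟩
  haveI : Finite ↥(S.prod S) := Finite.of_equiv _ (Subgroup.prodEquiv S S).toEquiv.symm
  haveI := finite_of_le (S := S.prod S) hle
  haveI := finite_of_le (S := S.prod S) (isGraph_graphTop hα).1.1
  refine Subgroup.eq_of_le_of_card_ge (fun x hx => mem_graphTop.2 ⟨⟨x.1, (hle hx).1⟩, ?_⟩)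
    (by rw [(isGraph_graphTop hα).2, hc])
  exact Prod.ext rfl ((av_coe α ⟨x.1, (hle hx).1⟩).symm.trans ((hαf _ (hle hx).1).trans (he x hx).symm))

theorem isProd_prodSys : IsProductSystem F (innerFusionSystem S) (prodSys F (innerFusionSystem S)) :=
  fun _ _ => prodMap_iff F (innerFusionSystem S)

theorem isConj_prod_iff {D D' : Subgroup (Ω × Ω)} :
    (prodSys F (innerFusionSystem S)).IsConj D D' → IsGraph F D → IsGraph F D' := by
  intro h hD
  obtain ⟨g, hg, rfl⟩ := isConj_iff.1 h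
  obtain ⟨hle, f, hf, he⟩ := hD
  obtain ⟨-, f₁, f₂, h₁, h₂, hgf⟩ := (prod_map_iff isProd_prodSys).1 hg
  have h₂F : Map F (pr₂ D) f₂ := by
    obtain ⟨φ, ⟨hP, s, hs, hφ⟩, hφe⟩ := h₂
    exact (map_conjBy hP hs).congr fun x hx => (hφ ⟨x, hx⟩).symm.trans (hφe _)
  obtain ⟨g₁, hg₁, i₁, -, -⟩ := h₁.exists_inv
  have hle' : pr₁ (im D g) ≤ im (pr₁ D) f₁ := by
    rintro _ ⟨y, hy, rfl⟩
    obtain ⟨x, hx, rfl⟩ := hg.mem_im.1 hy
    rw [hgf x hx]; exact mem_im_of_mem (mem_pr₁ hx)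
  refine ⟨hg.im_le, f₂ ∘ f ∘ g₁, ((hg₁.restrict hle').comp hf ?_).comp h₂F ?_, fun y hy => ?_⟩
  · rintro _ ⟨y, hy, rfl⟩
    obtain ⟨x, hx, rfl⟩ := hg.mem_im.1 hy
    show g₁ (g x).1 ∈ pr₁ D
    rw [hgf x hx, i₁ _ (mem_pr₁ hx)]; exact mem_pr₁ hx
  · rintro _ ⟨y, hy, rfl⟩
    obtain ⟨x, hx, rfl⟩ := hg.mem_im.1 hy
    show f (g₁ (g x).1) ∈ pr₂ D
    rw [hgf x hx, i₁ _ (mem_pr₁ hx), ← he x hx]; exact mem_pr₂ hx
  · obtain ⟨x, hx, rfl⟩ := hg.mem_im.1 hy
    show (g x).2 = f₂ (f (g₁ (g x).1))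
    rw [hgf x hx, i₁ _ (mem_pr₁ hx), ← he x hx]

theorem card_normalizer_graphTop {α : MulAut S} :
    Nat.card ↥(normalizerIn (S.prod S) (graphTop α)) = Nat.card S * Nat.card ↥(centralizerIn S S) := by
  haveI : Finite ↥(S.prod S) := Finite.of_equiv _ (Subgroup.prodEquiv S S).toEquiv.symm
  have hle : graphTop α ≤ S.prod S := fun x hx => by
    obtain ⟨u, rfl⟩ := mem_graphTop.1 hx; exact ⟨u.2, (α u).2⟩
  rw [← Nat.card_prod]
  refine (Nat.card_congr (Equiv.ofBijective (fun az : S × ↥(centralizerIn S S) =>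
    (⟨((az.1 : Ω), (α az.1 : Ω) * az.2), ⟨⟨az.1.2, S.mul_mem (α az.1).2 az.2.2.1⟩, ?_⟩⟩ :
      normalizerIn (S.prod S) (graphTop α))) ⟨?_, ?_⟩)).symm
  · refine mem_normalizer_of_conj_mem (S := S.prod S) hle fun y hy => ?_
    obtain ⟨u, rfl⟩ := mem_graphTop.1 hy
    refine mem_graphTop.2 ⟨az.1 * u * az.1⁻¹, Prod.ext rfl ?_⟩
    show ((α (az.1 * u * az.1⁻¹) : S) : Ω) = (α az.1 : Ω) * az.2 * (α u : Ω) * ((α az.1 : Ω) * az.2)⁻¹
    have hz := (mem_centralizerIn.1 az.2.2).2 _ (α u).2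
    rw [map_mul, map_mul, map_inv, mul_assoc (α az.1 : Ω) (az.2 : Ω), ← hz]
    simp [mul_assoc]
  · rintro ⟨a, z⟩ ⟨a', z'⟩ h
    have h1 := congrArg Subtype.val h
    simp only [Prod.mk.injEq] at h1
    obtain rfl := Subtype.ext h1.1
    exact Prod.ext rfl (Subtype.ext (mul_left_cancel h1.2))
  · rintro ⟨⟨a, b⟩, ⟨ha, hb⟩, hn⟩
    refine ⟨(⟨a, ha⟩, ⟨(α ⟨a, ha⟩ : Ω)⁻¹ * b, mem_centralizerIn.2
      ⟨S.mul_mem (S.inv_mem (α ⟨a, ha⟩).2) hb, fun y hy => ?_⟩⟩), Subtype.ext (Prod.ext rfl (by simp))⟩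
    obtain ⟨u, hu⟩ := α.surjective ⟨y, hy⟩
    obtain ⟨w, hw⟩ := mem_graphTop.1
      (conj_mem_of_normalizer hn (mem_graphTop.2 ⟨u, rfl⟩ : ((u : Ω), (α u : Ω)) ∈ graphTop α))
    obtain ⟨hw1, hw2⟩ := Prod.ext_iff.1 hw
    have : w = ⟨a, ha⟩ * u * (⟨a, ha⟩ : S)⁻¹ := Subtype.ext hw1
    rw [this, hu, map_mul, map_mul, map_inv, hu] at hw2
    change (α ⟨a, ha⟩ : Ω) * y * (α ⟨a, ha⟩ : Ω)⁻¹ = b * y * b⁻¹ at hw2
    calc y * ((α ⟨a, ha⟩ : Ω)⁻¹ * b) = (α ⟨a, ha⟩ : Ω)⁻¹ * ((α ⟨a, ha⟩ : Ω) * y * (α ⟨a, ha⟩ : Ω)⁻¹) * b := by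
          group
      _ = _ := by rw [hw2]; group

variable [Fact p.Prime]

theorem exists_charBiset (hS : IsPGroup p S) (hF : F.IsSaturated p) : Nonempty (CharBiset F p) := by
  classical
  haveI : Finite ↥(S.prod S) := Finite.of_equiv _ (Subgroup.prodEquiv S S).toEquiv.symm
  obtain ⟨a, ha⟩ := IsPGroup.iff_card.1 hS
  have hTc : Nat.card ↥(S.prod S) = Nat.card S * Nat.card S := by
    rw [Nat.card_congr (Subgroup.prodEquiv S S).toEquiv, Nat.card_prod]
  have hT : IsPGroup p ↥(S.prod S) := IsPGroup.of_card (n := a + a) (by rw [hTc, ha, pow_add])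
  have hE : IsProductSystem F (innerFusionSystem S) (prodSys F (innerFusionSystem S)) :=
    fun P φ => prodMap_iff F (innerFusionSystem S)
  have hEs := prod_saturated hS hS hF (inner_isSaturated hS) hE
  have hKsub : ∀ {D E : Subgroup (Ω × Ω)}, E ≤ D → IsGraph F D → IsGraph F E := fun h hD => hD.mono h
  have hKconj : ∀ {D D' : Subgroup (Ω × Ω)}, (prodSys F (innerFusionSystem S)).IsConj D D' →
      IsGraph F D → IsGraph F D' := fun h => isConj_prod_iff h
  set T := S.prod S with hTdef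
  let c := Nat.card ↥(centralizerIn S S)
  let K₀ : Subgroup T → Prop := fun E => IsGraph F (E.map T.subtype) ∧ Nat.card E = Nat.card S
  have hW : ∀ E : Subgroup T, K₀ E → fixCount (T ⧸ E) E = c := by
    intro E ⟨hE1, hE2⟩
    have hc : Nat.card ↥(E.map T.subtype) = Nat.card S :=
      (Subgroup.card_map_of_injective T.subtype_injective).trans hE2
    obtain ⟨α, hα, he⟩ := hE1.exists_top hc
    have h1 := fixCount_quotient_self E
    have h2 : Subgroup.normalizer (E : Set T) = (normalizerIn T (graphTop α)).subgroupOf T := by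
      ext g
      rw [Subgroup.mem_subgroupOf, Subgroup.mem_normalizer_iff, ← he]
      constructor
      · intro h
        refine ⟨g.2, mem_normalizer_of_conj_mem (Subgroup.map_subtype_le E) ?_⟩
        rintro _ ⟨y, hy, rfl⟩
        exact ⟨_, (h y).1 hy, rfl⟩
      · intro h x
        have := Subgroup.mem_normalizer_iff.1 h.2 x.1
        have hmem : ∀ z : T, (z : Ω × Ω) ∈ E.map T.subtype ↔ z ∈ E := fun z =>
          ⟨fun ⟨y, hy, hz⟩ => Subtype.ext hz ▸ hy, fun hz => ⟨z, hz, rfl⟩⟩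
        rw [← hmem, ← hmem]; exact this
    rw [h2, card_subgroupOf_eq (show normalizerIn T (graphTop α) ≤ T from inf_le_left), hE2,
      card_normalizer_graphTop, mul_comm] at h1
    exact Nat.eq_of_mul_eq_mul_left Nat.card_pos h1
  letI : MulAction T PEmpty.{u + 1} :=
    { smul := fun _ x => x.elim, one_smul := fun x => x.elim, mul_smul := fun _ _ x => x.elim }
  obtain ⟨Y, iY, fY, hY, -, heq, -⟩ := exists_add_orbits (G := T) K₀
    (fun g E ⟨h1, h2⟩ => ⟨by
      rw [map_subtype_conj]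
      exact hKconj (isConj_iff.2 ⟨_, map_conjBy (Subgroup.map_subtype_le E) g.2, rfl⟩) h1,
      (Subgroup.card_map_of_injective (MulAut.conj g).injective).trans h2⟩)
    PEmpty.{u + 1} (fun x => x.elim) (Nat.card S) (fun _ => c) (fun _ _ _ _ => rfl)
    (fun E hE _ => by
      have h0 : fixCount PEmpty.{u + 1} E = 0 := Nat.card_of_isEmpty
      rw [h0, Nat.sub_zero, hW E hE]
      exact ⟨Nat.zero_le _, dvd_rfl⟩)
    1 (fun _ _ _ => one_dvd _)
  have hYK : ∀ y : Y, IsGraph F ((MulAction.stabilizer T y).map T.subtype) := fun y => (hY y).1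
  have htop : ∀ D : Subgroup (Ω × Ω), IsGraph F D → Nat.card D = Nat.card S →
      fixCount Y (D.subgroupOf T) = c := by
    intro D hD hc
    have hm : (D.subgroupOf T).map T.subtype = D := Subgroup.map_subgroupOf_eq_of_le hD.1
    exact heq _ ⟨hm.symm ▸ hD, (card_subgroupOf_eq hD.1).trans hc⟩ ((card_subgroupOf_eq hD.1).trans hc)
  have h₀ : StableFrom (prodSys F (innerFusionSystem S)) (IsGraph F) Y (Nat.card S) := by
    intro D D' hD hconj hn
    have hc : Nat.card D = Nat.card S := le_antisymm hD.card_le hn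
    rw [htop D hD hc, htop D' (hKconj hconj hD) ((isConj_card hconj).symm.trans hc)]
  have hcardY : Nat.card Y = Nat.card ↥(F.autGroup S) * c := by
    haveI := mulAut_finite_of_le (le_refl S)
    haveI := Fintype.ofFinite ↥(F.autGroup S)
    have hst : ∀ y : Y, ∃ α : F.autGroup S, MulAction.stabilizer T y = (graphTop (α : MulAut S)).subgroupOf T := by
      intro y
      obtain ⟨α, hα, he⟩ := (hY y).1.exists_top
        ((Subgroup.card_map_of_injective T.subtype_injective).trans (hY y).2)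
      exact ⟨⟨α, hα⟩, by rw [← he]; exact (Subgroup.comap_map_eq_self_of_injective T.subtype_injective _).symm⟩
    choose g hg using hst
    have hfib : ∀ α : F.autGroup S, Nat.card {y : Y // g y = α} = c := by
      intro α
      obtain ⟨hgr, hgc⟩ := isGraph_graphTop α.2
      rw [← htop _ hgr hgc]
      refine Nat.card_congr (Equiv.subtypeEquivRight fun y => ?_)
      refine ⟨fun h => h ▸ (hg y).ge, fun h => ?_⟩
      have h' : (graphTop (α : MulAut S)).subgroupOf T = MulAction.stabilizer T y :=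
        Subgroup.eq_of_le_of_card_ge h (by rw [card_subgroupOf_eq hgr.1, hgc, (hY y).2])
      rw [hg y] at h'
      refine Subtype.ext (MulEquiv.ext fun u => Subtype.ext ?_)
      have hm : (⟨((u : Ω), ((α : MulAut S) u : Ω)), ⟨u.2, ((α : MulAut S) u).2⟩⟩ : T) ∈
          (graphTop (α : MulAut S)).subgroupOf T := mem_graphTop.2 ⟨u, rfl⟩
      rw [h'] at hm
      obtain ⟨v, hv⟩ := mem_graphTop.1 hm
      obtain ⟨hv1, hv2⟩ := Prod.ext_iff.1 hv
      obtain rfl : v = u := Subtype.ext hv1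
      exact hv2
    rw [← Nat.card_congr (Equiv.sigmaFiberEquiv g), Nat.card_sigma]
    simp only [hfib, Finset.sum_const, Finset.card_univ, smul_eq_mul, Nat.card_eq_fintype_card]
  obtain ⟨hsyl⟩ : Nonempty (SylIn p (autInducedBy S S) (F.autGroup S)) :=
    ⟨(fa_iff.1 (fc_fa_of_fn hS hF (fn_self (F := F))).2).2⟩
  have hN : normalizerIn S S = S := inf_eq_left.2 Subgroup.le_normalizer
  set m₀ := (autInducedBy S S).relIndex (F.autGroup S) with hm₀
  have hY' : Nat.card Y = m₀ * Nat.card S := by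
    have h1 := Subgroup.relIndex_mul_relIndex ⊥ (autInducedBy S S) (F.autGroup S) bot_le hsyl.le
    simp only [Subgroup.relIndex_bot_left] at h1
    have h2 : Nat.card ↥(autInducedBy S S) * Nat.card ↥(centralizerIn S S) = Nat.card S :=
      card_autS_mul.trans (by rw [hN])
    rw [hcardY, ← h1, ← h2, hm₀]
    ring
  obtain ⟨Z, iZ, fZ, hZ, hZs, hZc⟩ := exists_stable hT hEs hKconj hKsub Y hYK (Nat.card S) h₀
    (p * Nat.card S) (fun D hDT hD hlt => by
      haveI := finite_of_le (S := T) hDT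
      obtain ⟨j, hj⟩ := IsPGroup.iff_card.1 (hT.to_le hDT)
      have hja : j < a := by
        rw [hj, ha] at hlt
        exact (Nat.pow_lt_pow_iff_right (Nat.Prime.one_lt Fact.out)).1 hlt
      have h1 := Subgroup.index_mul_card (D.subgroupOf T)
      rw [card_subgroupOf_eq hDT, hj, hTc, ha] at h1
      have h2 : (D.subgroupOf T).index = p ^ (a + a - j) := by
        refine Nat.eq_of_mul_eq_mul_right (pow_pos (Nat.Prime.pos Fact.out) j) (h1.trans ?_)
        rw [← pow_add, ← pow_add, Nat.sub_add_cancel (by omega)]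
      rw [h2, ha, ← pow_succ']
      exact pow_dvd_pow p (by omega))
  have hk : ∃ k, Nat.card Z = k * Nat.card S ∧ ¬ p ∣ k := by
    have h1 : Nat.card S ∣ Nat.card Z :=
      (hZc.of_dvd (dvd_mul_left _ p)).symm.dvd_iff dvd_rfl |>.1 (hY' ▸ dvd_mul_left _ _)
    obtain ⟨k, hk⟩ := h1
    refine ⟨k, hk.trans (mul_comm _ _), fun hp => hsyl.not_dvd ?_⟩
    have : p * Nat.card S ∣ Nat.card Y := (hZc.dvd_iff dvd_rfl).1 (by
      rw [hk, mul_comm p]; exact Nat.mul_dvd_mul_left _ hp)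
    rw [hY'] at this
    exact Nat.dvd_of_mul_dvd_mul_right Nat.card_pos this
  obtain ⟨k, hk, hkp⟩ := hk
  let pl : S → T := fun u => ⟨((u : Ω), 1), u.2, S.one_mem⟩
  let pr : S → T := fun t => ⟨(1, (t : Ω)⁻¹), S.one_mem, S.inv_mem t.2⟩
  have hfree : ∀ (x : Z) (t : S), pr t • x = x → t = 1 := by
    intro x t h
    obtain ⟨-, f, hf, he⟩ := hZ x
    have := he _ ⟨pr t, h, rfl⟩
    change (t : Ω)⁻¹ = f 1 at this
    rw [hf.map_one] at this
    exact Subtype.ext (inv_eq_one.1 this)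
  refine ⟨{ X := Z, fin := fZ, l := fun u x => pl u • x, r := fun x t => pr t • x,
            l_one := ?_, l_mul := ?_, r_one := ?_, r_mul := ?_, l_r := ?_, free := hfree, stab := ?_,
            stable := ?_, orbits := k, card_eq := hk, not_dvd := hkp }⟩
  · intro x
    rw [show pl 1 = 1 from rfl, one_smul]
  · intro u v x
    rw [← mul_smul]
    congr 1
    exact Subtype.ext (Prod.ext rfl (one_mul 1).symm)
  · intro x
    rw [show pr 1 = 1 from Subtype.ext (Prod.ext rfl inv_one), one_smul]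
  · intro x u v
    rw [← mul_smul]
    congr 1
    exact Subtype.ext (Prod.ext (one_mul 1).symm (mul_inv_rev _ _))
  · intro u x v
    rw [← mul_smul, ← mul_smul]
    congr 1
    exact Subtype.ext (Prod.ext (by simp [pl, pr]) (by simp [pl, pr]))
  · intro x
    obtain ⟨hle, f, hf, he⟩ := hZ x
    refine ⟨_, f, hf, fun u t => ?_⟩
    have key : pl u • x = pr t • x ↔ ((u : Ω), (t : Ω)) ∈ (MulAction.stabilizer T x).map T.subtype := by
      rw [← inv_smul_eq_iff, ← mul_smul, ← MulAction.mem_stabilizer_iff]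
      have h1 : ((((pr t)⁻¹ * pl u : T) : Ω × Ω)) = ((u : Ω), (t : Ω)) := by simp [pl, pr]
      refine ⟨fun h => ⟨_, h, h1⟩, ?_⟩
      rintro ⟨y, hy, hye⟩
      rwa [show (pr t)⁻¹ * pl u = y from Subtype.ext (h1.trans hye.symm)]
    refine key.trans ⟨fun h => ⟨mem_pr₁ h, he _ h⟩, ?_⟩
    rintro ⟨hu, ht⟩
    obtain ⟨⟨y₁, y₂⟩, hy, rfl⟩ := hu
    rwa [show ((u : Ω), (t : Ω)) = ((u : Ω), y₂) from Prod.ext rfl (ht.trans (he _ hy).symm)]
  · intro P f hf
    haveI := finite_of_le hf.le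
    have hPS : P.prod S ≤ T := fun x hx => ⟨hf.le hx.1, hx.2⟩
    haveI := finite_of_le (S := T) hPS
    let ρ₁ : ↥(P.prod S) →* T := Subgroup.inclusion hPS
    let ρ₂ : ↥(P.prod S) →* T :=
      MonoidHom.mk' (fun x => ⟨(f (x : Ω × Ω).1, (x : Ω × Ω).2), hf.mem x.2.1, x.2.2⟩)
        fun x y => Subtype.ext (Prod.ext (hf.map_mul x.2.1 y.2.1) rfl)
    have hcnt : ∀ E : Subgroup ↥(P.prod S), fixCount Z (E.map ρ₁) = fixCount Z (E.map ρ₂) := by
      intro E
      set A := E.map (P.prod S).subtype with hA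
      have hAP : A ≤ P.prod S := Subgroup.map_subtype_le E
      have hg : Map (prodSys F (innerFusionSystem S)) A (fun x => (f x.1, x.2)) := by
        refine (prod_map_iff hE).2 ⟨hAP.trans hPS, f, id, hf.restrict ?_, map_id ?_, fun x _ => rfl⟩
        · rintro _ ⟨x, hx, rfl⟩; exact (hAP hx).1
        · rintro _ ⟨x, hx, rfl⟩; exact (hAP hx).2
      have e1 : E.map ρ₁ = A.subgroupOf T := by
        ext ⟨x, hx⟩
        constructor
        · rintro ⟨y, hy, he⟩; exact ⟨y, hy, congrArg Subtype.val he⟩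
        · rintro ⟨y, hy, he⟩; exact ⟨y, hy, Subtype.ext he⟩
      have e2 : E.map ρ₂ = (im A (fun x => (f x.1, x.2))).subgroupOf T := by
        ext ⟨x, hx⟩
        constructor
        · rintro ⟨y, hy, he⟩
          rw [Subgroup.mem_subgroupOf]
          exact congrArg Subtype.val he ▸ mem_im_of_mem (f := fun x : Ω × Ω => (f x.1, x.2)) ⟨y, hy, rfl⟩
        · intro hm
          obtain ⟨_, ⟨y, hy, rfl⟩, he⟩ := hg.mem_im.1 (Subgroup.mem_subgroupOf.1 hm)
          exact ⟨y, hy, Subtype.ext he⟩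
      rw [e1, e2]
      have hconj : (prodSys F (innerFusionSystem S)).IsConj A (im A fun x => (f x.1, x.2)) :=
        isConj_iff.2 ⟨_, hg, rfl⟩
      by_cases hK : IsGraph F A
      · exact hZs A _ hK hconj (Nat.zero_le _)
      · rw [eq_zero_of_not hKsub hZ (hAP.trans hPS) hK,
          eq_zero_of_not hKsub hZ (isConj_le hconj).2 fun h => hK (hKconj (isConj_symm hconj) h)]
    obtain ⟨e, he⟩ := @exists_equiv_of_fixCount ↥(P.prod S) _ _ Z Z (MulAction.compHom Z ρ₁)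
      (MulAction.compHom Z ρ₂) _ _ fun E => by rw [fixCount_comp, fixCount_comp]; exact hcnt E
    refine ⟨e, fun u v hu huv t x => ?_⟩
    have h := he ⟨((u : Ω), (t : Ω)⁻¹), hu, S.inv_mem t.2⟩ x
    change e ((⟨((u : Ω), (t : Ω)⁻¹), hPS ⟨hu, S.inv_mem t.2⟩⟩ : T) • x) =
      (⟨(f u, (t : Ω)⁻¹), hf.mem hu, S.inv_mem t.2⟩ : T) • e x at h
    show e (pr t • pl u • x) = pr t • pl v • e x
    rw [← mul_smul, ← mul_smul]
    convert h using 3
    · exact Subtype.ext (Prod.ext (one_mul _) (mul_one _))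
    · exact Subtype.ext (Prod.ext ((one_mul _).trans huv) (mul_one _))

end Cfsg.Agent.Local.FS
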