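import Mathlib

set_option autoImplicit false

/-! Finite sets with an action: fixed point counts. -/

namespace Cfsg.Agent.Local.FS.Marks

universe u v w

variable {N : Type u} [Group N]

/-- The number of points fixed by `E`. -/
noncomputable def fixCount (A : Type v) [MulAction N A] (E : Subgroup N) : ℕ :=
  Nat.card {a : A // E ≤ MulAction.stabilizer N a}

/-- The number of points with stabiliser exactly `E`. -/
noncomputable def exactCount (A : Type v) [MulAction N A] (E : Subgroup N) : ℕ :=
  Nat.card {a : A // MulAction.stabilizer N a = E}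

variable [Finite N] {A : Type v} {B : Type w} [MulAction N A] [MulAction N B]

theorem fixCount_eq_sum [Fintype (Subgroup N)] [DecidableEq (Subgroup N)]
    [Finite A] (E : Subgroup N)
    [DecidablePred fun E' : Subgroup N => E < E'] :
    fixCount A E = exactCount A E + ∑ E' ∈ Finset.univ.filter (fun E' => E < E'), exactCount A E' := by
  classical
  haveI := Fintype.ofFinite A
  simp only [fixCount, exactCount, Nat.card_eq_fintype_card, Fintype.card_subtype]
  rw [Finset.card_eq_sum_card_fiberwise (f := fun a : A => MulAction.stabilizer N a)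
    (t := insert E (Finset.univ.filter (fun E' => E < E')))
    (fun a ha => by
      simp only [Finset.coe_filter, Finset.mem_univ, true_and, Set.mem_setOf_eq] at ha
      simp only [Finset.coe_insert, Finset.coe_filter, Finset.mem_univ, true_and, Set.mem_insert_iff,
        Set.mem_setOf_eq]
      exact (eq_or_lt_of_le ha).imp Eq.symm id),
    Finset.sum_insert (by simp)]
  congr 1
  · congr 1; ext a; simp only [Finset.mem_filter, Finset.mem_univ, true_and]
    exact ⟨fun h => h.2, fun h => ⟨h.ge, h⟩⟩
  · refine Finset.sum_congr rfl fun E' hE' => ?_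
    congr 1; ext a; simp only [Finset.mem_filter, Finset.mem_univ, true_and] at hE' ⊢
    exact ⟨fun h => h.2, fun h => ⟨h ▸ hE'.le, h⟩⟩

theorem exactCount_eq [Finite A] [Finite B] {D : Subgroup N}
    (h : ∀ E : Subgroup N, D < E → fixCount A E = fixCount B E) :
    ∀ E : Subgroup N, D < E → exactCount A E = exactCount B E := by
  classical
  haveI := Fintype.ofFinite (Subgroup N)
  intro E
  induction E using WellFoundedGT.induction with
  | _ E ih =>
    intro hE
    have hs : ∑ E' ∈ Finset.univ.filter (fun E' => E < E'), exactCount A E' =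
        ∑ E' ∈ Finset.univ.filter (fun E' => E < E'), exactCount B E' :=
      Finset.sum_congr rfl fun E' hE' => by
        simp only [Finset.mem_filter, Finset.mem_univ, true_and] at hE'
        exact ih E' hE' (hE.trans hE')
    have h1 := h E hE
    rw [fixCount_eq_sum, fixCount_eq_sum, hs] at h1
    omega

/-- The points with stabiliser exactly a normal subgroup fall into orbits of the same size. -/
theorem index_dvd_exactCount [Finite A] (D : Subgroup N) [D.Normal] : D.index ∣ exactCount A D := by
  classical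
  let Y : Type v := {a : A // MulAction.stabilizer N a = D}
  letI : MulAction N Y :=
    { smul := fun n a => ⟨n • a.1, by
        ext x
        have key : x • n • a.1 = n • a.1 ↔ (n⁻¹ * x * n) • a.1 = a.1 := by
          rw [mul_smul, mul_smul, inv_smul_eq_iff]
        rw [MulAction.mem_stabilizer_iff, key, ← MulAction.mem_stabilizer_iff, a.2]
        exact ⟨fun h => by simpa [mul_assoc] using Subgroup.Normal.conj_mem (H := D) inferInstance _ h n,
          fun h => by simpa [mul_assoc] using Subgroup.Normal.conj_mem (H := D) inferInstance _ h n⁻¹⟩⟩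
      one_smul := fun a => Subtype.ext (one_smul N a.1)
      mul_smul := fun x y a => Subtype.ext (mul_smul x y a.1) }
  have hstab : ∀ y : Y, MulAction.stabilizer N y = D := fun y => by
    conv_rhs => rw [← y.2]
    ext x
    exact Subtype.ext_iff
  haveI := Fintype.ofFinite (Quotient (MulAction.orbitRel N Y))
  show D.index ∣ Nat.card Y
  rw [Nat.card_congr (MulAction.selfEquivSigmaOrbits N Y), Nat.card_sigma]
  refine Finset.dvd_sum fun q _ => ?_
  rw [Nat.card_congr (MulAction.orbitEquivQuotientStabilizer N (Quotient.out q)), hstab,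
    ← Subgroup.index_eq_card]

/-- If the fixed point counts agree strictly above a normal subgroup `D`, those at `D` agree modulo its index. -/
theorem fixCount_modEq [Finite A] [Finite B] (D : Subgroup N) [D.Normal]
    (h : ∀ E : Subgroup N, D < E → fixCount A E = fixCount B E) :
    fixCount A D ≡ fixCount B D [MOD D.index] := by
  classical
  haveI := Fintype.ofFinite (Subgroup N)
  rw [fixCount_eq_sum, fixCount_eq_sum,
    Finset.sum_congr rfl fun E' hE' => exactCount_eq h E' (Finset.mem_filter.1 hE').2]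
  exact Nat.ModEq.add_right _ ((Nat.modEq_zero_iff_dvd.2 (index_dvd_exactCount D)).trans
    (Nat.modEq_zero_iff_dvd.2 (index_dvd_exactCount D)).symm)

theorem fixCount_congr {A' : Type v} {B' : Type w} [MulAction N A'] [MulAction N B'] (e : A' ≃ B')
    (he : ∀ (n : N) (a : A'), e (n • a) = n • e a) (E : Subgroup N) : fixCount A' E = fixCount B' E := by
  refine Nat.card_congr (e.subtypeEquiv fun a => ?_)
  have : MulAction.stabilizer N (e a) = MulAction.stabilizer N a := by
    ext n; rw [MulAction.mem_stabilizer_iff, MulAction.mem_stabilizer_iff, ← he, e.injective.eq_iff]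
  rw [this]

/-- Sets with the same fixed point counts are isomorphic. -/
theorem exists_equiv_of_fixCount [Finite A] [Finite B]
    (h : ∀ E : Subgroup N, fixCount A E = fixCount B E) :
    ∃ e : A ≃ B, ∀ (n : N) (a : A), e (n • a) = n • e a := by
  suffices ∀ (k : ℕ) (A : Type v) (B : Type w) [MulAction N A] [MulAction N B] [Finite A] [Finite B],
      Nat.card A = k → (∀ E : Subgroup N, fixCount A E = fixCount B E) →
      ∃ e : A ≃ B, ∀ (n : N) (a : A), e (n • a) = n • e a from this _ A B rfl h
  intro k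
  induction k using Nat.strong_induction_on with
  | _ k ih =>
  intro A B _ _ _ _ hk h
  classical
  have hcard : Nat.card A = Nat.card B := by
    have h0 : ∀ (C : Type v) [MulAction N C], fixCount C (⊥ : Subgroup N) = Nat.card C := fun C _ =>
      Nat.card_congr (Equiv.subtypeUnivEquiv fun c => bot_le)
    have h1 : fixCount B (⊥ : Subgroup N) = Nat.card B :=
      Nat.card_congr (Equiv.subtypeUnivEquiv fun c => bot_le)
    rw [← h0 A, h, h1]
  rcases isEmpty_or_nonempty A with hA | hA
  · haveI : IsEmpty B := Finite.card_eq_zero_iff.1 (hcard ▸ Nat.card_of_isEmpty)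
    exact ⟨Equiv.equivOfIsEmpty A B, fun _ a => hA.elim a⟩
  obtain ⟨x, hx⟩ := Finite.exists_max (fun a : A => Nat.card ↥(MulAction.stabilizer N a))
  set E := MulAction.stabilizer N x with hE
  have hBne : 0 < fixCount B E := by
    rw [← h E]
    haveI : Nonempty {a : A // E ≤ MulAction.stabilizer N a} := ⟨⟨x, le_rfl⟩⟩
    exact Nat.card_pos
  obtain ⟨⟨y, hy⟩⟩ := (Nat.card_pos_iff.1 hBne).1
  have hyE : MulAction.stabilizer N y = E := by
    refine (Subgroup.eq_of_le_of_card_ge hy ?_).symm
    have h2 : 0 < fixCount A (MulAction.stabilizer N y) := by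
      rw [h]
      haveI : Nonempty {b : B // MulAction.stabilizer N y ≤ MulAction.stabilizer N b} := ⟨⟨y, le_rfl⟩⟩
      exact Nat.card_pos
    obtain ⟨⟨a, ha⟩⟩ := (Nat.card_pos_iff.1 h2).1
    exact (Subgroup.card_le_of_le ha).trans (hx a)
  let A₁ : Type v := {a : A // a ∈ MulAction.orbit N x}
  let A₂ : Type v := {a : A // a ∉ MulAction.orbit N x}
  let B₁ : Type w := {b : B // b ∈ MulAction.orbit N y}
  let B₂ : Type w := {b : B // b ∉ MulAction.orbit N y}
  letI : MulAction N A₂ :=
    { smul := fun n a => ⟨n • a.1, fun hm => a.2 (by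
        obtain ⟨m, hm⟩ := hm
        exact ⟨n⁻¹ * m, by show (n⁻¹ * m) • x = a.1; rw [mul_smul, show m • x = n • a.1 from hm, inv_smul_smul]⟩)⟩
      one_smul := fun a => Subtype.ext (one_smul N a.1)
      mul_smul := fun p q a => Subtype.ext (mul_smul p q a.1) }
  letI : MulAction N B₂ :=
    { smul := fun n a => ⟨n • a.1, fun hm => a.2 (by
        obtain ⟨m, hm⟩ := hm
        exact ⟨n⁻¹ * m, by show (n⁻¹ * m) • y = a.1; rw [mul_smul, show m • y = n • a.1 from hm, inv_smul_smul]⟩)⟩
      one_smul := fun a => Subtype.ext (one_smul N a.1)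
      mul_smul := fun p q a => Subtype.ext (mul_smul p q a.1) }
  have heq : ∀ m m' : N, m • x = m' • x ↔ m • y = m' • y := by
    intro m m'
    rw [smul_eq_iff_eq_inv_smul, smul_eq_iff_eq_inv_smul m, ← mul_smul, ← mul_smul, eq_comm,
      eq_comm (a := y), ← MulAction.mem_stabilizer_iff, ← MulAction.mem_stabilizer_iff, hyE]
  let f : A₁ → B₁ := fun a => ⟨a.2.choose • y, ⟨_, rfl⟩⟩
  have hf : ∀ (m : N) (a : A₁), m • x = a.1 → (f a).1 = m • y := fun m a hm =>
    (heq _ _).1 (a.2.choose_spec.trans hm.symm)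
  have hfb : Function.Bijective f := by
    refine ⟨fun a a' he => Subtype.ext ?_, fun b => ?_⟩
    · obtain ⟨m, hm⟩ := a.2
      obtain ⟨m', hm'⟩ := a'.2
      have := congrArg Subtype.val he
      rw [hf m a hm, hf m' a' hm', ← heq] at this
      rw [← show m • x = a.1 from hm, this]
      exact hm'
    · obtain ⟨m, hm⟩ := b.2
      exact ⟨⟨m • x, ⟨m, rfl⟩⟩, Subtype.ext ((hf m _ rfl).trans hm)⟩
  let e₁ : A₁ ≃ B₁ := Equiv.ofBijective f hfb
  have hsplit : ∀ E' : Subgroup N, fixCount A₂ E' = fixCount B₂ E' := by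
    intro E'
    have hA' : fixCount A E' = Nat.card {a : A₁ // E' ≤ MulAction.stabilizer N a.1} + fixCount A₂ E' := by
      rw [fixCount, fixCount, ← Nat.card_sum]
      refine Nat.card_congr (((Equiv.sumCompl (fun a : A => a ∈ MulAction.orbit N x)).subtypeEquivOfSubtype).symm.trans
        ((Equiv.subtypeSum).trans (Equiv.sumCongr (Equiv.refl _) (Equiv.subtypeEquivRight fun a => ?_))))
      have : MulAction.stabilizer N a = MulAction.stabilizer N (a : A) := by ext n; exact Subtype.ext_iff
      rw [this]; rfl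
    have hB' : fixCount B E' = Nat.card {a : B₁ // E' ≤ MulAction.stabilizer N a.1} + fixCount B₂ E' := by
      rw [fixCount, fixCount, ← Nat.card_sum]
      refine Nat.card_congr (((Equiv.sumCompl (fun b : B => b ∈ MulAction.orbit N y)).subtypeEquivOfSubtype).symm.trans
        ((Equiv.subtypeSum).trans (Equiv.sumCongr (Equiv.refl _) (Equiv.subtypeEquivRight fun a => ?_))))
      have : MulAction.stabilizer N a = MulAction.stabilizer N (a : B) := by ext n; exact Subtype.ext_iff
      rw [this]; rfl
    have horb : Nat.card {a : A₁ // E' ≤ MulAction.stabilizer N a.1} =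
        Nat.card {a : B₁ // E' ≤ MulAction.stabilizer N a.1} := by
      refine Nat.card_congr (e₁.subtypeEquiv fun a => ?_)
      obtain ⟨m, hm⟩ := a.2
      show _ ↔ E' ≤ MulAction.stabilizer N (f a).1
      rw [hf m a hm, ← show m • x = a.1 from hm, MulAction.stabilizer_smul_eq_stabilizer_map_conj,
        MulAction.stabilizer_smul_eq_stabilizer_map_conj, hyE]
    have := h E'
    omega
  have hlt : Nat.card A₂ < k := by
    rw [← hk]
    exact Finite.card_subtype_lt (x := x) (fun h => h (MulAction.mem_orbit_self x))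
  obtain ⟨e₂, he₂⟩ := ih _ hlt A₂ B₂ rfl hsplit
  refine ⟨((Equiv.sumCompl _).symm.trans (Equiv.sumCongr e₁ e₂)).trans
    (Equiv.sumCompl (fun b : B => b ∈ MulAction.orbit N y)), fun n a => ?_⟩
  by_cases ha : a ∈ MulAction.orbit N x
  · obtain ⟨m, hm⟩ := id ha
    have hna : n • a ∈ MulAction.orbit N x := ⟨n * m, by
      show (n * m) • x = n • a
      rw [mul_smul, show m • x = a from hm]⟩
    simp only [Equiv.trans_apply, Equiv.sumCompl_symm_apply_of_pos ha,
      Equiv.sumCompl_symm_apply_of_pos hna, Equiv.sumCongr_apply, Sum.map_inl, Equiv.sumCompl_apply_inl]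
    show (f _).1 = n • (f _).1
    rw [hf (n * m) _ (by show (n * m) • x = n • a; rw [mul_smul, show m • x = a from hm]), hf m _ hm, mul_smul]
  · have hna : n • a ∉ MulAction.orbit N x := ((⟨n • a, (n • (⟨a, ha⟩ : A₂)).2⟩ : A₂)).2
    simp only [Equiv.trans_apply, Equiv.sumCompl_symm_apply_of_neg ha,
      Equiv.sumCompl_symm_apply_of_neg hna, Equiv.sumCongr_apply, Sum.map_inr, Equiv.sumCompl_apply_inr]
    exact congrArg Subtype.val (he₂ n ⟨a, ha⟩)

/-- Fixed point counts for an action pulled back along a homomorphism. -/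
theorem fixCount_comp {M : Type*} [Group M] {C : Type v} [MulAction N C] (ρ : M →* N) (E : Subgroup M) :
    @fixCount M _ C (MulAction.compHom C ρ) E = fixCount C (E.map ρ) := by
  letI := MulAction.compHom C ρ
  refine Nat.card_congr (Equiv.subtypeEquivRight fun c => ?_)
  rw [Subgroup.map_le_iff_le_comap]
  rfl

omit [Finite N] in
theorem fixCount_conj (g : N) (E : Subgroup N) :
    fixCount A (E.map (MulAut.conj g).toMonoidHom) = fixCount A E := by
  refine (Nat.card_congr ((MulAction.toPerm g).subtypeEquiv fun a => ?_)).symm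
  rw [MulAction.toPerm_apply, MulAction.stabilizer_smul_eq_stabilizer_map_conj]
  exact (Subgroup.map_le_map_iff_of_injective (MulAut.conj g).injective).symm

omit [Finite N] in
theorem exists_le_stabilizer_of_fixCount_ne {E : Subgroup N} (h : fixCount A E ≠ 0) :
    ∃ a : A, E ≤ MulAction.stabilizer N a := by
  by_contra hne
  haveI : IsEmpty {a : A // E ≤ MulAction.stabilizer N a} := ⟨fun a => hne ⟨a.1, a.2⟩⟩
  exact h Nat.card_of_isEmpty

/-- The fixed point count of `H` on `N ⧸ H`. -/
theorem fixCount_quotient_self (H : Subgroup N) :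
    fixCount (N ⧸ H) H * Nat.card H = Nat.card ↥(Subgroup.normalizer (H : Set N)) := by
  have h1 := Nat.card_congr (QuotientGroup.preimageMkEquivSubgroupProdSet H
    {q : N ⧸ H | H ≤ MulAction.stabilizer N q})
  rw [Nat.card_prod] at h1
  show Nat.card ↥{q : N ⧸ H | H ≤ MulAction.stabilizer N q} * Nat.card H = _
  rw [mul_comm, ← h1]
  refine Nat.card_congr (Equiv.subtypeEquivRight fun g => ?_)
  show H ≤ MulAction.stabilizer N (g : N ⧸ H) ↔ g ∈ Subgroup.normalizer (H : Set N)
  rw [show (g : N ⧸ H) = g • ((1 : N) : N ⧸ H) from congrArg QuotientGroup.mk (mul_one g).symm,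
    MulAction.stabilizer_smul_eq_stabilizer_map_conj, MulAction.stabilizer_quotient]
  refine ⟨fun h => Subgroup.mem_normalizer_iff_map_conj_eq.2 (Subgroup.eq_of_le_of_card_ge h ?_).symm,
    fun h => (Subgroup.mem_normalizer_iff_map_conj_eq.1 h).ge⟩
  exact (Subgroup.card_map_of_injective (MulAut.conj g).injective).le

/-- A subgroup at least as large fixing a point of `N ⧸ H` is a conjugate of `H`. -/
theorem exists_conj_of_fixCount_quotient {E H : Subgroup N} (hc : Nat.card H ≤ Nat.card E)
    (h : fixCount (N ⧸ H) E ≠ 0) : ∃ g : N, E = H.map (MulAut.conj g).toMonoidHom := by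
  obtain ⟨q, hq⟩ := exists_le_stabilizer_of_fixCount_ne h
  obtain ⟨g, rfl⟩ := QuotientGroup.mk_surjective q
  refine ⟨g, ?_⟩
  rw [show (g : N ⧸ H) = g • ((1 : N) : N ⧸ H) from congrArg QuotientGroup.mk (mul_one g).symm,
    MulAction.stabilizer_smul_eq_stabilizer_map_conj, MulAction.stabilizer_quotient] at hq
  exact Subgroup.eq_of_le_of_card_ge hq
    ((Subgroup.card_map_of_injective (MulAut.conj g).injective).le.trans hc)

theorem fixCount_sum {A' : Type v} {B' : Type w} [MulAction N A'] [MulAction N B'] [Finite A'] [Finite B']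
    (E : Subgroup N) : fixCount (A' ⊕ B') E = fixCount A' E + fixCount B' E := by
  rw [fixCount, fixCount, fixCount, ← Nat.card_sum]
  refine Nat.card_congr (Equiv.subtypeSum.trans (Equiv.sumCongr
    (Equiv.subtypeEquivRight fun a => ?_) (Equiv.subtypeEquivRight fun a => ?_)))
  · exact iff_of_eq (congrArg (E ≤ ·) (by ext n; exact Sum.inl_injective.eq_iff (a := n • a) (b := a)))
  · exact iff_of_eq (congrArg (E ≤ ·) (by ext n; exact Sum.inr_injective.eq_iff (a := n • a) (b := a)))

theorem fixCount_sigma {ι : Type*} [Fintype ι] {C : ι → Type v} [∀ i, MulAction N (C i)]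
    [∀ i, Finite (C i)] (E : Subgroup N) : fixCount (Σ i, C i) E = ∑ i, fixCount (C i) E := by
  simp only [fixCount]
  rw [← Nat.card_sigma]
  refine Nat.card_congr
    { toFun := fun a => ⟨a.1.1, a.1.2, ?_⟩
      invFun := fun a => ⟨⟨a.1, a.2.1⟩, ?_⟩
      left_inv := fun a => rfl
      right_inv := fun a => rfl }
  · intro n hn
    have := a.2 hn
    rw [MulAction.mem_stabilizer_iff] at this ⊢
    exact eq_of_heq (Sigma.mk.inj_iff.1 this).2
  · intro n hn
    have := a.2.2 hn
    rw [MulAction.mem_stabilizer_iff] at this ⊢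
    exact Sigma.ext rfl (heq_of_eq this)

/-- Orbits can be added to reach prescribed counts at the subgroups of a given order. -/
theorem exists_add_orbits {G : Type u} [Group G] [Finite G] (K : Subgroup G → Prop)
    (hK : ∀ (g : G) (E : Subgroup G), K E → K (E.map (MulAut.conj g).toMonoidHom))
    (X : Type u) [MulAction G X] [Finite X] (hX : ∀ x : X, K (MulAction.stabilizer G x))
    (n : ℕ) (tgt : Subgroup G → ℕ)
    (htc : ∀ (g : G) (E : Subgroup G), K E → Nat.card E = n → tgt (E.map (MulAut.conj g).toMonoidHom) = tgt E)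
    (hle : ∀ E : Subgroup G, K E → Nat.card E = n → fixCount X E ≤ tgt E ∧
      fixCount (G ⧸ E) E ∣ tgt E - fixCount X E) (d : ℕ) (hd : ∀ E : Subgroup G, K E → Nat.card E = n → d ∣ E.index) :
    ∃ (Y : Type u) (_ : MulAction G Y) (_ : Finite Y), (∀ y : Y, K (MulAction.stabilizer G y)) ∧
      (∀ E : Subgroup G, n < Nat.card E → fixCount Y E = fixCount X E) ∧
      (∀ E : Subgroup G, K E → Nat.card E = n → fixCount Y E = tgt E) ∧
      Nat.card Y ≡ Nat.card X [MOD d] := by
  classical
  let sc : Subgroup G → Subgroup G → Prop := fun E E' => ∃ g : G, E' = E.map (MulAut.conj g).toMonoidHom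
  have sc_refl : ∀ E, sc E E := fun E => ⟨1, by rw [map_one]; exact (Subgroup.map_id E).symm⟩
  have sc_trans : ∀ {A B C}, sc A B → sc B C → sc A C := by
    rintro A B C ⟨g, rfl⟩ ⟨h, rfl⟩
    exact ⟨h * g, by rw [map_mul, Subgroup.map_map]; rfl⟩
  have sc_symm : ∀ {A B}, sc A B → sc B A := by
    rintro A B ⟨g, rfl⟩
    exact ⟨g⁻¹, by rw [Subgroup.map_map]; ext x; simp [Subgroup.mem_map, mul_assoc]⟩
  let r : Subgroup G → Subgroup G := fun E => Classical.epsilon (sc E)
  have hr : ∀ E, sc E (r E) := fun E => Classical.epsilon_spec ⟨E, sc_refl E⟩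
  have hr_eq : ∀ {A B}, sc A B → r A = r B := fun {A B} h => congrArg Classical.epsilon
    (funext fun C => propext ⟨fun hC => sc_trans (sc_symm h) hC, fun hC => sc_trans h hC⟩)
  have hr_K : ∀ E, K E → Nat.card E = n → K (r E) ∧ Nat.card (r E) = n ∧ tgt (r E) = tgt E := by
    intro E hE hn
    obtain ⟨g, hg⟩ := hr E
    rw [hg]
    exact ⟨hK g E hE, (Subgroup.card_map_of_injective (MulAut.conj g).injective).trans hn, htc g E hE hn⟩
  let reps : Type u := {R : Subgroup G // ∃ E, K E ∧ Nat.card E = n ∧ r E = R}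
  haveI : Fintype reps := Fintype.ofFinite _
  let k : reps → ℕ := fun R => (tgt R.1 - fixCount X R.1) / fixCount (G ⧸ R.1) R.1
  let Z : Type u := Σ i : (Σ R : reps, Fin (k R)), G ⧸ i.1.1
  haveI : Finite Z := inferInstance
  refine ⟨X ⊕ Z, inferInstance, inferInstance, ?_, fun E hE => ?_, fun E hE hn => ?_, ?_⟩
  · rintro (x | ⟨i, q⟩)
    · rw [show MulAction.stabilizer G (Sum.inl x : X ⊕ Z) = MulAction.stabilizer G x by
        ext g; exact Sum.inl_injective.eq_iff (a := g • x) (b := x)]
      exact hX x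
    · obtain ⟨g, rfl⟩ := QuotientGroup.mk_surjective q
      rw [show MulAction.stabilizer G (Sum.inr ⟨i, (g : G ⧸ i.1.1)⟩ : X ⊕ Z) =
          MulAction.stabilizer G (g : G ⧸ i.1.1) by
        ext h
        rw [MulAction.mem_stabilizer_iff, MulAction.mem_stabilizer_iff, Sum.smul_inr, Sum.inr_injective.eq_iff,
          Sigma.smul_mk, Sigma.mk.inj_iff]
        exact ⟨fun h => eq_of_heq h.2, fun h => ⟨rfl, heq_of_eq h⟩⟩,
        show (g : G ⧸ i.1.1) = g • ((1 : G) : G ⧸ i.1.1) from congrArg QuotientGroup.mk (mul_one g).symm,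
        MulAction.stabilizer_smul_eq_stabilizer_map_conj, MulAction.stabilizer_quotient]
      obtain ⟨E, hE, hn, he⟩ := i.1.2
      exact hK g _ (he ▸ (hr_K E hE hn).1)
  · rw [fixCount_sum, fixCount_sigma, add_eq_left]
    refine Finset.sum_eq_zero fun i _ => ?_
    by_contra h
    obtain ⟨E₀, hE₀, hn₀, he₀⟩ := i.1.2
    have hc : Nat.card i.1.1 = n := he₀ ▸ (hr_K E₀ hE₀ hn₀).2.1
    obtain ⟨g, hg⟩ := exists_conj_of_fixCount_quotient (hc.le.trans hE.le) h
    have := (hg ▸ Subgroup.card_map_of_injective (K := i.1.1) (MulAut.conj g).injective : Nat.card E = _)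
    omega
  · obtain ⟨hKr, hnr, htr⟩ := hr_K E hE hn
    let R₀ : reps := ⟨r E, E, hE, hn, rfl⟩
    have hEr : ∀ C : Type u, ∀ [MulAction G C], fixCount C E = fixCount C (r E) := fun C _ => by
      obtain ⟨g, hg⟩ := hr E
      rw [hg, fixCount_conj]
    rw [fixCount_sum, fixCount_sigma, ← Finset.univ_sigma_univ, Finset.sum_sigma]
    rw [Finset.sum_eq_single R₀ ?_ (by simp)]
    · show fixCount X E + ∑ _s : Fin (k R₀), fixCount (G ⧸ r E) E = tgt E
      rw [Finset.sum_const, Finset.card_univ, Fintype.card_fin, smul_eq_mul, hEr, hEr]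
      show _ + (tgt (r E) - fixCount X (r E)) / fixCount (G ⧸ r E) (r E) * _ = _
      obtain ⟨hle', hdvd⟩ := hle (r E) hKr hnr
      rw [Nat.div_mul_cancel hdvd, ← htr]
      omega
    · intro R _ hR
      refine Finset.sum_eq_zero fun j _ => ?_
      by_contra h
      obtain ⟨E₀, hE₀, hn₀, he₀⟩ := R.2
      have hc : Nat.card R.1 = n := he₀ ▸ (hr_K E₀ hE₀ hn₀).2.1
      obtain ⟨g, hg⟩ := exists_conj_of_fixCount_quotient (hc.le.trans hn.ge) h
      refine hR (Subtype.ext ?_)
      show R.1 = r E
      rw [← he₀]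
      exact hr_eq (sc_trans (hr E₀) (he₀ ▸ ⟨g, hg⟩))
  · rw [Nat.card_sum, Nat.card_sigma]
    conv_rhs => rw [← add_zero (Nat.card X)]
    refine Nat.ModEq.add_left _ (Nat.modEq_zero_iff_dvd.2 (Finset.dvd_sum fun i _ => ?_))
    obtain ⟨E, hE, hn, he⟩ := i.1.2
    rw [← Subgroup.index_eq_card]
    obtain ⟨h1, h2, -⟩ := hr_K E hE hn
    exact hd _ (he ▸ h1) (he ▸ h2)

end Cfsg.Agent.Local.FS.Marks
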