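import Cfsg.Agent.Lib.Local.FS.LocalCenterSystem
import Cfsg.Agent.Lib.Fusion.WeakClosedElements
import Cfsg.Agent.Lib.Local.FS.GroupFree

/-!
Glauberman's theorem on weakly closed elements for fusion systems and groups.
-/

set_option autoImplicit false

namespace Cfsg.Agent.Local.FS

open Cfsg Cfsg.FusionSystem Cfsg.Agent.Fusion

universe u

theorem center_le_wJA {p : ℕ} (Q : Type u) [Group Q] [Finite Q] (_ : IsPGroup p Q) :
    Subgroup.center Q ≤ wJA Q := by
  intro x hx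
  have hok := replFamily_comm (G := Q)
  obtain ⟨A, hA⟩ := hok.maxIn_nonempty (⊤ : Subgroup Q)
  refine le_sSup (show A ∈ maxAbelianSubgroups Q from ⟨hA.2.1, fun B hB => hA.2.2 B le_top hB⟩) ?_
  exact mem_of_maxIn hA (Subgroup.mem_top x) (isMulCommutative_closure_insert hA.2.1
    fun a _ => (Subgroup.mem_center_iff.1 hx a).symm)

variable {Ω : Type u} [Group Ω] {S : Subgroup Ω} [Finite S] {F : FusionSystem S} {p : ℕ} [Fact p.Prime]

theorem normalizerIn_thompson (hS : IsPGroup p S) : normalizerIn S (thompsonSubgroupAOf S) = S := by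
  rw [← inducedFunctor_wJA]
  exact normalizerIn_functor hS (isCharPFunctor_wJA (p := p)).2

/-- The condition of Glauberman's theorem for an element. -/
def GlaubCaseSys (F : FusionSystem S) (p : ℕ) (x : Ω) : Prop :=
  p ≠ 2 ∨ (∃ z ∈ S, (∀ s ∈ S, s * z = z * s) ∧ z ^ p = x) ∨ F.IsSectionFree p (Equiv.Perm (Fin 4))

/-- **Glauberman's theorem for fusion systems**. -/
theorem mem_center_of_glauberman (hS : IsPGroup p S) (hF : F.IsSaturated p)
    {N : FusionSystem (normalizerIn S (thompsonSubgroupAOf S))}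
    (hN : F.IsNormalizerSystem (thompsonSubgroupAOf S) N) {x : Ω} (hx : x ∈ N.center)
    (hcase : GlaubCaseSys F p x) : x ∈ F.center := by
  have hJ : inducedFunctor wJA S = thompsonSubgroupAOf S := inducedFunctor_wJA S
  have hJS : thompsonSubgroupAOf S ≤ S := Subgroup.map_subtype_le _
  obtain ⟨hxS, hxc, hfix⟩ := center_normalizer_props hJS (normalizerIn_thompson hS) hN hx
  refine mem_center_of_local hS hF (isCharPFunctor_wJA (p := p)).2 (fun Q _ _ h => center_le_wJA Q h) hxS hxc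
    (fun f hf hi => hfix f (hJ ▸ hf) (hJ ▸ hi) ?_) ?_
  · exact ⟨⟨x, hxS⟩, center_le_wJA ↥S hS (Subgroup.mem_center_iff.2 fun s => Subtype.ext (hxc s s.2)), rfl⟩
  intro R hR hRc L _ ι hm T hT hxV hloc g
  haveI := hm.1
  refine mul_inv_eq_iff_eq_mul.2 (glauberman_fixed (Nat.card L) L T (ι ⟨x, hxV⟩) le_rfl hm.2.2.2 (hT ▸ ⟨_, rfl⟩)
    (fun h hh => mul_inv_eq_iff_eq_mul.1 (hloc h (by rwa [inducedFunctor_wJA]))) ?_ g)
  rcases hcase with h | ⟨z, hzS, hzc, rfl⟩ | h
  · exact Or.inl h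
  · have hzV : z ∈ normalizerIn S R := le_normalizerIn hR.1
      (centric_inv_mem hRc hzS fun y hy => hzc y (hR.1 hy))
    refine Or.inr (Or.inl ⟨ι ⟨z, hzV⟩, hT ▸ ⟨_, rfl⟩, fun t ht => ?_, ?_⟩)
    · rw [hT] at ht
      obtain ⟨s, rfl⟩ := ht
      rw [← map_mul, ← map_mul]
      exact congrArg ι (Subtype.ext (hzc s s.2.1))
    · rw [← map_pow]; rfl
  · exact Or.inr (Or.inr (h R hR hRc _ (fun _ => rfl) L ι hm))

theorem exists_pow_of_mem_closure {x : Ω}
    (hx : x ∈ Subgroup.closure ((fun z : Ω => z ^ p) '' ((S ⊓ Subgroup.centralizer (S : Set Ω) : Subgroup Ω) : Set Ω))) :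
    ∃ z ∈ S, (∀ s ∈ S, s * z = z * s) ∧ z ^ p = x := by
  induction hx using Subgroup.closure_induction with
  | mem y hy =>
    obtain ⟨z, hz, rfl⟩ := hy
    exact ⟨z, hz.1, fun s hs => Subgroup.mem_centralizer_iff.1 hz.2 s hs, rfl⟩
  | one => exact ⟨1, one_mem _, fun s _ => by simp, one_pow _⟩
  | mul y y' _ _ h h' =>
    obtain ⟨z, hz, hzc, rfl⟩ := h
    obtain ⟨z', hz', hzc', rfl⟩ := h'
    exact ⟨z * z', S.mul_mem hz hz', fun s hs =>
      ((show Commute s z from hzc s hs).mul_right (hzc' s hs)).eq, (show Commute z z' from hzc' z hz).mul_pow p⟩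
  | inv y _ h =>
    obtain ⟨z, hz, hzc, rfl⟩ := h
    exact ⟨z⁻¹, S.inv_mem hz, fun s hs => ((show Commute s z from hzc s hs).inv_right).eq, inv_pow z p⟩

section Group

variable {G : Type u} [Group G] [Finite G]

theorem weaklyClosed_of_glauberman {P : Subgroup G} (hP : SylIn p P ⊤) {x : G} (hxP : x ∈ P)
    (hxc : ∀ g ∈ Subgroup.normalizer (thompsonSubgroupAOf P : Set G), g * x = x * g)
    (hcase : p ≠ 2 ∨ (∃ z ∈ P, (∀ s ∈ P, s * z = z * s) ∧ z ^ p = x) ∨ ¬ Involves (Equiv.Perm (Fin 4)) G) :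
    ∀ g : G, g * x * g⁻¹ ∈ P → g * x * g⁻¹ = x := by
  have hJS : thompsonSubgroupAOf P ≤ P := Subgroup.map_subtype_le _
  have hV := normalizerIn_thompson hP.isPGroup
  set N := normSys (groupFusionSystem P) hJS
  have hx : x ∈ N.center := mem_center_of_fixClass (hV.ge hxP) fun A f hf => by
    obtain ⟨hA, hm, g', hg', hgf, hgJ⟩ := (map_normalizerSystem_iff fun _ => rfl).1 hf
    obtain ⟨-, hg'P, g, hg⟩ := map_group_iff.1 hg'
    have hgJ' : g ∈ Subgroup.normalizer (thompsonSubgroupAOf P : Set G) := by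
      refine mem_normalizer_iff_cj.2 ?_
      rw [← im_conj, ← im_congr fun y hy => hg y (Subgroup.mem_sup_right hy), hgJ]
    have hgx : g * x * g⁻¹ = x := mul_inv_eq_iff_eq_mul.2 (hxc g hgJ')
    have hle : A ⊔ Subgroup.zpowers x ⊔ thompsonSubgroupAOf P ≤ P.comap (MulAut.conj g).toMonoidHom :=
      sup_le (sup_le (fun y hy => by
        show g * y * g⁻¹ ∈ P
        rw [← hg y (Subgroup.mem_sup_left hy)]
        exact hg'P y (Subgroup.mem_sup_left hy)) (Subgroup.zpowers_le.2 (by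
        show g * x * g⁻¹ ∈ P
        rw [hgx]; exact hxP))) fun y hy => hJS (conj_mem_of_normalizer hgJ' hy)
    have hxle : A ⊔ Subgroup.zpowers x ≤ normalizerIn P (thompsonSubgroupAOf P) :=
      sup_le hA (Subgroup.zpowers_le.2 (hV.ge hxP))
    refine ⟨fun y => g * y * g⁻¹, (map_normalizerSystem_iff fun _ => rfl).2
      ⟨hxle, fun y hy => hV.ge (hle (Subgroup.mem_sup_left hy)), fun y => g * y * g⁻¹,
        map_group_iff.2 ⟨sup_le (hxle.trans inf_le_left) hJS, fun y hy => hle hy, g, fun _ _ => rfl⟩,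
        fun _ _ => rfl, im_conj.trans (cj_eq_self hgJ')⟩,
      fun y hy => (hg y (Subgroup.mem_sup_left hy)).symm.trans (hgf y hy), hgx⟩
  intro g hg
  have hc := mem_center_of_glauberman hP.isPGroup (group_saturated hP) (fun _ => rfl) hx (by
    rcases hcase with h | h | h
    · exact Or.inl h
    · exact Or.inr (Or.inl h)
    · exact Or.inr (Or.inr (group_sectionFree hP h)))
  refine center_fixed _ hc (f := fun y => g * y * g⁻¹) (P := Subgroup.zpowers x)
    (map_group_iff.2 ⟨Subgroup.zpowers_le.2 hxP, fun y hy => ?_, g, fun _ _ => rfl⟩) (Subgroup.mem_zpowers x)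
  have h0 : Subgroup.zpowers x ≤ P.comap (MulAut.conj g).toMonoidHom := Subgroup.zpowers_le.2 hg
  exact h0 hy

end Group

end Cfsg.Agent.Local.FS
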