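import Cfsg.Agent.Lib.Local.FS.PowerCenter
import Cfsg.Agent.Lib.Local.FS.GlaubermanCenter

/-!
The centre of a system splits off the centre of the Sylow subgroup.
-/

set_option autoImplicit false

namespace Cfsg.Agent.Local.FS

open Cfsg Cfsg.FusionSystem Cfsg.Agent.Fusion

universe u

variable {Ω : Type u} [Group Ω] {S : Subgroup Ω} [Finite S] {F : FusionSystem S} {p : ℕ} [Fact p.Prime]

/-- A normal subgroup containing `Z(S)` gives a complement to the centre of the system in `Z(S)`. -/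
theorem exists_center_complement (hS : IsPGroup p S) (hF : F.IsSaturated p) {Q : Subgroup Ω} (hQn : F.IsNormal Q)
    (hZQ : S ⊓ Subgroup.centralizer (S : Set Ω) ≤ Q) :
    ∃ K : Subgroup Ω, K ≤ S ⊓ Subgroup.centralizer (S : Set Ω) ∧ F.center ⊓ K = ⊥ ∧
      F.center ⊔ K = S ⊓ Subgroup.centralizer (S : Set Ω) := by
  set Z := S ⊓ Subgroup.centralizer (S : Set Ω) with hZ
  have hsc := normal_stronglyClosed hQn
  have hQS := hQn.1
  haveI := finite_of_le hQS
  haveI := mulAut_finite_of_le hQS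
  have hSQ := stronglyClosed_le_normalizer hsc
  have hV : normalizerIn S Q = S := inf_eq_left.2 hSQ
  have hfn : F.IsFullyNormalized Q := ⟨hQS, fun R _ => by rw [hV]; exact Subgroup.card_le_of_le inf_le_left⟩
  set A := F.autGroup Q
  obtain ⟨-, T, hT⟩ := (fc_fa_of_fn hS hF hfn).2
  let φ := centerAct A
  letI : CommGroup ↥(Subgroup.center ↥Q) :=
    { (inferInstance : Group ↥(Subgroup.center ↥Q)) with
      mul_comm := fun a b => Subtype.ext (Subgroup.mem_center_iff.1 b.2 a) }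
  haveI : Fintype (↥A ⧸ (T : Subgroup ↥A)) := Fintype.ofFinite _
  let τ : ↥(Subgroup.center ↥Q) →* ↥(Subgroup.center ↥Q) :=
    ∏ q : ↥A ⧸ (T : Subgroup ↥A), (φ q.out).toMonoidHom
  have hτ : ∀ x, τ x = ∏ q : ↥A ⧸ (T : Subgroup ↥A), φ q.out x := fun x => by
    simp [τ, MonoidHom.finsetProd_apply]
  set n := Fintype.card (↥A ⧸ (T : Subgroup ↥A))
  have hn : Nat.Coprime p n := by
    refine (Nat.Prime.coprime_iff_not_dvd Fact.out).2 ?_
    have hc : n = (T : Subgroup ↥A).index := by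
      rw [Subgroup.index_eq_card, Nat.card_eq_fintype_card]
    rw [hc]
    exact T.not_dvd_index
  -- elements of `Z(S)` in the centre of `Q`
  let toM : Z →* ↥(Subgroup.center ↥Q) :=
    { toFun := fun z => ⟨⟨z, hZQ z.2⟩, Subgroup.mem_center_iff.2 fun y =>
        Subtype.ext (Subgroup.mem_centralizer_iff.1 z.2.2 (y : Ω) (hQS y.2))⟩
      map_one' := rfl
      map_mul' := fun _ _ => rfl }
  have hTfix : ∀ (z : Z) (t : ↥A), t ∈ (T : Subgroup ↥A) → φ t (toM z) = toM z := by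
    intro z t ht
    rw [hT, Subgroup.mem_subgroupOf] at ht
    obtain ⟨s, hs, hst⟩ := mem_autInducedBy.1 ht
    refine Subtype.ext (Subtype.ext ?_)
    rw [av_centerAct]
    show av (t : MulAut Q) (z : Ω) = z
    rw [hst _ (hZQ z.2), mul_inv_eq_iff_eq_mul]
    exact Subgroup.mem_centralizer_iff.1 z.2.2 s hs
  have hinv : ∀ (z : Z) (a : ↥A), φ a (τ (toM z)) = τ (toM z) := by
    intro z a
    rw [hτ, map_prod]
    refine Fintype.prod_equiv (MulAction.toPerm a) _ _ fun q => ?_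
    rw [← MulAut.mul_apply, ← map_mul]
    obtain ⟨t, ht⟩ := QuotientGroup.mk_out_eq_mul (T : Subgroup ↥A) (a * q.out)
    have he : QuotientGroup.mk (a * q.out) = (MulAction.toPerm a) q := by
      conv_rhs => rw [← QuotientGroup.out_eq' q]
      rfl
    rw [← he, ht, map_mul _ (a * q.out), MulAut.mul_apply, hTfix z t t.2]
  have hcen : ∀ z : Z, (((τ (toM z) : ↥(Subgroup.center ↥Q)) : ↥Q) : Ω) ∈ F.center := by
    intro z
    set w : Ω := (((τ (toM z) : ↥(Subgroup.center ↥Q)) : ↥Q) : Ω) with hw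
    have hwQ : w ∈ Q := SetLike.coe_mem _
    refine mem_center_of_fixClass (hQS hwQ) fun P f hf => ?_
    obtain ⟨g, hg, hgf, hgQ⟩ := (normal_iff.1 hQn).2 P f hf
    obtain ⟨α, hα, hαg⟩ := exists_aut (hg.restrict le_sup_right) hgQ
    refine ⟨g, hg.restrict (sup_le_sup_left (Subgroup.zpowers_le.2 hwQ) P), hgf, ?_⟩
    rw [← hαg w hwQ, hw, ← av_centerAct (⟨α, hα⟩ : ↥A), hinv]
  have hfixC : ∀ c : Z, (c : Ω) ∈ F.center → τ (toM c) = toM c ^ n := by
    intro c hc
    rw [hτ]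
    refine (Finset.prod_congr rfl fun q _ => ?_).trans (Finset.prod_const _)
    refine Subtype.ext (Subtype.ext ?_)
    rw [av_centerAct]
    exact center_fixed F hc (map_of_mem_autGroup hQS (q.out : ↥A).2) (hZQ c.2)
  have hCZ : F.center ≤ Z := fun z hz => by
    obtain ⟨hzS, hsp⟩ := center_spec F hz
    refine ⟨hzS, Subgroup.mem_centralizer_iff.2 fun s hs => ?_⟩
    exact mul_inv_eq_iff_eq_mul.1
      (center_fixed F hz (map_conjBy (F := F) (Subgroup.zpowers_le.2 hzS) hs) (Subgroup.mem_zpowers z))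
  set K := (τ.comp toM).ker.map Z.subtype with hK
  have hord : ∀ z : Z, ∃ j : ℕ, (z ^ n) ^ j = z := by
    intro z
    obtain ⟨k, hk⟩ := IsPGroup.iff_orderOf.1 (hS.to_le (inf_le_left : Z ≤ S)) z
    exact exists_pow_eq_self_of_coprime (hk ▸ (hn.symm.pow_right k))
  refine ⟨K, Subgroup.map_subtype_le _, ?_, le_antisymm (sup_le hCZ (Subgroup.map_subtype_le _)) fun x hx => ?_⟩
  · rw [eq_bot_iff]
    rintro _ ⟨hc, z, hz, rfl⟩
    have h1 : toM z ^ n = 1 := by
      rw [← hfixC z hc]; exact hz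
    obtain ⟨j, hj⟩ := hord z
    have h2 : toM z = 1 := by rw [← hj, map_pow, map_pow, h1, one_pow]
    exact congrArg (fun m : ↥(Subgroup.center ↥Q) => ((m : ↥Q) : Ω)) h2
  · obtain ⟨j, hj⟩ := hord ⟨x, hx⟩
    have hc := hcen ⟨x, hx⟩
    let c : Z := ⟨_, hCZ hc⟩
    have hτc : toM c = τ (toM ⟨x, hx⟩) := rfl
    have hk : (⟨x, hx⟩ : Z) ^ n * c⁻¹ ∈ (τ.comp toM).ker := by
      rw [MonoidHom.mem_ker, map_mul, map_pow, map_inv, MonoidHom.comp_apply, MonoidHom.comp_apply, hfixC c hc,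
        hτc, mul_inv_cancel]
    have h3 : (((⟨x, hx⟩ : Z) ^ n : Z) : Ω) ∈ F.center ⊔ K := by
      have := Subgroup.mul_mem _ (Subgroup.mem_sup_right (S := F.center) (Subgroup.mem_map_of_mem Z.subtype hk))
        (Subgroup.mem_sup_left (T := K) hc)
      rwa [show Z.subtype ((⟨x, hx⟩ : Z) ^ n * c⁻¹) * _ = (((⟨x, hx⟩ : Z) ^ n : Z) : Ω) by
        simp [c]] at this
    have h4 := Subgroup.pow_mem _ h3 j
    rwa [← SubmonoidClass.coe_pow, hj] at h4

end Cfsg.Agent.Local.FS
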