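import Cfsg.Agent.Lib.Local.FS.CentralLiftGroup
import Cfsg.Agent.Lib.Local.FS.ComponentCore
import Cfsg.Agent.Lib.Local.FS.InvariantCriterion
import Cfsg.Agent.Lib.Local.FS.PrimeResidualNormal
import Cfsg.Agent.Lib.Local.FS.Focal

/-!
Lifting a normal subsystem through a central extension: the ingredients.
-/

set_option autoImplicit false

namespace Cfsg.Agent.Local.FS.CLift

open Cfsg Cfsg.FusionSystem Cfsg.Agent.Fusion Cfsg.Agent.Local.FS

/-! ### Group preliminaries -/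

section Group

variable {A B : Type*} [Group A] [Group B] {p : ℕ}

theorem sylIn_map_equiv {U H : Subgroup A} (e : A ≃* B) (h : SylIn p U H) :
    SylIn p (U.map e.toMonoidHom) (H.map e.toMonoidHom) := by
  refine ⟨Subgroup.map_mono h.le, h.isPGroup.map _, ?_⟩
  rw [Subgroup.relIndex_map_map_of_injective _ _ e.injective]
  exact h.not_dvd

variable [Finite A] [Fact p.Prime]

theorem normal_le_sylIn {U H N : Subgroup A} (h : SylIn p U H) (hN : IsPGroup p N) (hNH : N ≤ H)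
    (hn : H ≤ Subgroup.normalizer (N : Set A)) : N ≤ U := by
  obtain ⟨x, hx, hle⟩ := h.conj_le hN hNH
  rwa [cj_eq_self (hn hx)] at hle

/-- A power of coprime exponent is a `p`-element. -/
theorem exists_pow_pElement (a : A) :
    ∃ m : ℕ, m.Coprime p ∧ ∃ k : ℕ, orderOf (a ^ m) = p ^ k := by
  obtain ⟨i, r, hr, hord⟩ := Nat.exists_eq_pow_mul_and_not_dvd (orderOf_pos a).ne' p
    (Fact.out : p.Prime).ne_one
  have hr0 : r ≠ 0 := fun h => hr (h ▸ dvd_zero p)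
  refine ⟨r, ((Nat.Prime.coprime_iff_not_dvd Fact.out).2 hr).symm, i, ?_⟩
  rw [orderOf_pow, hord, Nat.gcd_eq_right (dvd_mul_left r _), Nat.mul_div_cancel _ (Nat.pos_of_ne_zero hr0)]

/-- An element of coprime order of the image is the image of one. -/
theorem exists_pow_coprime (π : A →* B) (a : A) (h : (orderOf (π a)).Coprime p) :
    ∃ m : ℕ, (orderOf (a ^ m)).Coprime p ∧ π (a ^ m) = π a := by
  obtain ⟨i, r, hr, hord⟩ := Nat.exists_eq_pow_mul_and_not_dvd (orderOf_pos a).ne' p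
    (Fact.out : p.Prime).ne_one
  have hro : r.Coprime p := ((Nat.Prime.coprime_iff_not_dvd Fact.out).2 hr).symm
  rcases Nat.lt_or_ge 1 (orderOf (π a)) with h1 | h1
  swap
  · refine ⟨0, ?_, ?_⟩
    · simp
    · rw [pow_zero, map_one, eq_comm, ← orderOf_eq_one_iff]
      exact le_antisymm h1 (Nat.pos_of_dvd_of_pos (orderOf_map_dvd π a) (orderOf_pos a))
  obtain ⟨k, -, hk⟩ := Nat.exists_mul_mod_eq_one_of_coprime (h.symm.pow_left i) h1
  refine ⟨p ^ i * k, hro.coprime_dvd_left ?_, ?_⟩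
  · refine orderOf_dvd_of_pow_eq_one ?_
    rw [← pow_mul, show p ^ i * k * r = orderOf a * k by rw [hord]; ring, pow_mul, pow_orderOf_eq_one, one_pow]
  · rw [map_pow, ← pow_mod_orderOf, hk, pow_one]

end Group

theorem congr_self {Ω : Type*} [Group Ω] {P : Subgroup Ω} (α β : MulAut P) :
    MulAut.congr α β = α * β * α⁻¹ := MulEquiv.ext fun _ => rfl

/-! ### The setting -/

universe u v

variable {Ω : Type u} [Group Ω] {S : Subgroup Ω} {F : FusionSystem S} {Z : Subgroup Ω}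
  {Ω' : Type v} [Group Ω'] {S' : Subgroup Ω'} {θ : S →* Ω'} {F' : FusionSystem S'} {T' : Subgroup Ω'}
  {E' : FusionSystem T'} {p : ℕ} {P Q R : Subgroup Ω} {P' : Subgroup Ω'} {f g : Ω → Ω}

/-- A normal subsystem of a central factor system. -/
structure Ctx (F : FusionSystem S) (Z : Subgroup Ω) (θ : S →* Ω') (F' : FusionSystem S')
    (E' : FusionSystem T') (p : ℕ) : Prop where
  pS : IsPGroup p S
  sat : F.IsSaturated p
  central : Z ≤ F.center
  fac : F.IsFactorSystem Z θ F'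
  normal : E'.IsNormalIn F' p

/-- The preimage of the base. -/
abbrev Ctx.T (_c : Ctx F Z θ F' E' p) : Subgroup Ω := preimageAlong θ T'

variable (c : Ctx F Z θ F' E' p)
include c

theorem Ctx.inv : E'.IsInvariantIn F' := c.normal.1.2.2

theorem Ctx.sub : E'.IsSubsystemOf F' := c.inv.1

theorem Ctx.tClosed' : F'.StronglyClosed T' := c.inv.2.1

theorem Ctx.t'_le : T' ≤ S' := c.tClosed'.1

theorem Ctx.tS : c.T ≤ S := preimage_le T'

theorem Ctx.zS : Z ≤ S := c.fac.1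

theorem Ctx.satE' : E'.IsSaturated p := c.normal.1.1

theorem Ctx.z_comm {z s : Ω} (hz : z ∈ Z) (hs : s ∈ S) : s * z = z * s :=
  F.center_le_centralizer (c.central hz) s hs

variable [Finite S]

theorem Ctx.zfix (hf : Map F P f) {z : Ω} (hz : z ∈ Z) (hzP : z ∈ P) : f z = z :=
  center_fixed F (c.central hz) hf hzP

theorem Ctx.zClosed : F.StronglyClosed Z :=
  stronglyClosed_iff.2 ⟨c.zS, fun P f hP hf x hx => by rw [c.zfix hf (hP hx) hx]; exact hP hx⟩

theorem Ctx.zT : Z ≤ c.T := fac_le_pre c.fac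

theorem Ctx.finS' : Finite S' := fac_finite c.fac

theorem Ctx.finT' : Finite T' := haveI := c.finS'; finite_of_le c.t'_le

theorem Ctx.finT : Finite c.T := finite_of_le c.tS

theorem Ctx.pS' : IsPGroup p S' := fac_isPGroup c.fac c.pS

theorem Ctx.pT : IsPGroup p c.T := c.pS.to_le c.tS

theorem Ctx.pT' : IsPGroup p T' := c.pS'.to_le c.t'_le

theorem Ctx.up_le (hP : P ≤ c.T) : up θ P ≤ T' := fun a ha => by
  obtain ⟨x, hx, rfl⟩ := (mem_up (hP.trans c.tS)).1 ha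
  exact (fac_mem_pre.1 (hP hx)).2

theorem Ctx.pre_up (hZ : Z ≤ P) (hP : P ≤ S) : preimageAlong θ (up θ P) = P := by
  rw [fac_pre_up c.fac hP, sup_eq_left.2 hZ]

theorem Ctx.up_pre (hP' : P' ≤ S') : up θ (preimageAlong θ P') = P' :=
  fac_pre_inj c.fac (fac_up_le c.fac) hP' (by rw [c.pre_up (fac_le_pre c.fac) (preimage_le P')])

theorem Ctx.up_T : up θ c.T = T' := c.up_pre c.t'_le

theorem Ctx.le_T_iff (hP : P ≤ S) : P ≤ c.T ↔ up θ P ≤ T' :=
  ⟨c.up_le, fun h _ hx => fac_mem_pre.2 ⟨hP hx, h (ue_mem_up hP hx)⟩⟩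

theorem Ctx.le_im (hf : Map F P f) (hZ : Z ≤ P) : Z ≤ im P f := fun z hz => by
  rw [← c.zfix hf hz (hZ hz)]; exact mem_im_of_mem (hZ hz)

omit c [Finite S] in
theorem bar_im {U : Subgroup Ω'} {G : FusionSystem U} (hP : P ≤ S) (hf : Map F P f) {f' : Ω' → Ω'}
    (hf' : Map G (up θ P) f') (h : ∀ x ∈ P, ue θ (f x) = f' (ue θ x)) :
    im (up θ P) f' = up θ (im P f) := by
  refine hf'.im_eq (fun a ha => ?_) fun a ha => ?_
  · obtain ⟨x, hx, rfl⟩ := (mem_up hP).1 ha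
    rw [← h x hx]
    exact ue_mem_up hf.im_le (mem_im_of_mem hx)
  · obtain ⟨y, hy, rfl⟩ := (mem_up hf.im_le).1 ha
    obtain ⟨x, hx, rfl⟩ := hf.mem_im.1 hy
    exact ⟨ue θ x, ue_mem_up hP hx, (h x hx).symm⟩

/-- Every map induces a map of the factor. -/
theorem Ctx.exists_bar (hf : Map F P f) :
    ∃ f', Map F' (up θ P) f' ∧ (∀ x ∈ P, ue θ (f x) = f' (ue θ x)) ∧
      im (up θ P) f' = up θ (im P f) := by
  obtain ⟨g, hg, hgf, -⟩ := centExt_center c.central P f hf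
  have hpre : preimageAlong θ (up θ P) = P ⊔ Z := fac_pre_up c.fac hf.le
  rw [← hpre] at hg
  have hf' := fac_induced c.fac c.zClosed (fac_up_le c.fac) hg
  have hcomm : ∀ x ∈ P, ue θ (f x) = ue θ (g (ve θ (ue θ x))) := by
    intro x hx
    rw [← hgf x hx]
    refine fac_congr c.fac c.zClosed hg (fac_le_pre c.fac) (fac_mem_pre.2 ⟨hf.le hx, ue_mem_up hf.le hx⟩)
      (fac_mem_pre.2 ⟨ve_mem, ?_⟩) (fac_ue_ve c.fac (fac_ue_mem c.fac (hf.le hx))).symm
    rw [fac_ue_ve c.fac (fac_ue_mem c.fac (hf.le hx))]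
    exact ue_mem_up hf.le hx
  exact ⟨_, hf', hcomm, bar_im hf.le hf hf' hcomm⟩

theorem Ctx.tClosed : F.StronglyClosed c.T := by
  refine stronglyClosed_iff.2 ⟨c.tS, fun P f hP hf x hx => fac_mem_pre.2 ⟨hf.mem hx, ?_⟩⟩
  obtain ⟨f', hf', he, -⟩ := c.exists_bar hf
  rw [he x hx]
  exact stronglyClosed_map c.tClosed' hf' (ue_mem_up hf.le hx) (c.up_le hP (ue_mem_up hf.le hx))

/-! ### Maps inducing maps of the subsystem -/

/-- A map of `F` on a subgroup of `T` inducing a map of `E'`. -/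
def Ctx.Lift (P : Subgroup Ω) (f : Ω → Ω) : Prop :=
  Map F P f ∧ P ≤ c.T ∧ ∃ f', Map E' (up θ P) f' ∧ ∀ x ∈ P, ue θ (f x) = f' (ue θ x)

theorem Ctx.lift_mem (h : c.Lift P f) {x : Ω} (hx : x ∈ P) : f x ∈ c.T :=
  stronglyClosed_map c.tClosed h.1 hx (h.2.1 hx)

theorem Ctx.lift_closed : IsClosedClass F c.Lift where
  congr := fun ⟨hm, hP, f', hf', h⟩ he => ⟨hm.congr he, hP, f', hf', fun x hx => he x hx ▸ h x hx⟩
  restrict := fun _ ⟨hm, hP, f', hf', h⟩ hR => ⟨hm.restrict hR, hR.trans hP, f',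
    hf'.restrict (fun a ha => by
      obtain ⟨x, hx, rfl⟩ := (mem_up (hR.trans hm.le)).1 ha
      exact ue_mem_up hm.le (hR hx)), fun x hx => h x (hR hx)⟩
  comp := by
    rintro P Q f g - - ⟨hm, hP, f', hf', h⟩ ⟨hn, hQ, g', hg', k⟩ hmem
    refine ⟨hm.comp hn hmem, hP, g' ∘ f', hf'.comp hg' fun a ha => ?_, fun x hx => ?_⟩
    · obtain ⟨x, hx, rfl⟩ := (mem_up hm.le).1 ha
      rw [← h x hx]
      exact ue_mem_up hn.le (hmem x hx)
    · show ue θ (g (f x)) = g' (f' (ue θ x))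
      rw [k _ (hmem x hx), h x hx]
  inv := by
    rintro P f g - ⟨hm, hP, f', hf', h⟩ hg
    obtain ⟨k', hk', hkf, -, -⟩ := hf'.exists_inv
    obtain ⟨k, hk, hkk, -, -⟩ := hm.exists_inv
    rw [bar_im hm.le hm hf' h] at hk'
    refine ⟨hk.congr fun y hy => ?_, im_le_iff.2 fun x hx => stronglyClosed_map c.tClosed hm hx (hP hx),
      k', hk', fun y hy => ?_⟩
    · obtain ⟨x, hx, rfl⟩ := hm.mem_im.1 hy
      rw [hkk x hx, hg x hx]
    · obtain ⟨x, hx, rfl⟩ := hm.mem_im.1 hy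
      rw [hg x hx, h x hx, hkf _ (ue_mem_up hm.le hx)]

theorem Ctx.lift_conjBy (hP : P ≤ c.T) {t : Ω} (ht : t ∈ c.T) : c.Lift P (fun x => t * x * t⁻¹) :=
  ⟨map_conjBy (hP.trans c.tS) (c.tS ht), hP, _, map_conjBy (c.up_le hP) (fac_mem_pre.1 ht).2,
    fun _ hx => ue_conj (c.tS ht) (c.tS (hP hx))⟩

variable [Fact p.Prime]

theorem Ctx.sat' : F'.IsSaturated p := fac_saturated c.pS c.sat c.zClosed c.fac

/-- Lifts are carried to lifts by the maps of `F`. -/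
theorem Ctx.lift_conj (hPQ : P ≤ Q) (hQ : Q ≤ c.T) (hf : c.Lift P f) (hfQ : ∀ x ∈ P, f x ∈ Q)
    {g : Ω → Ω} (hg : Map F Q g) {h : Ω → Ω} (hh : Map F (im P g) h)
    (hhg : ∀ x ∈ P, h (g x) = g (f x)) : c.Lift (im P g) h := by
  haveI := c.finS'
  obtain ⟨hm, hP, f', hf', hcf⟩ := hf
  obtain ⟨g', hg', hcg, -⟩ := c.exists_bar hg
  have hQS := hQ.trans c.tS
  have hup : up θ P ≤ up θ Q := fun a ha => by
    obtain ⟨x, hx, rfl⟩ := (mem_up hm.le).1 ha
    exact ue_mem_up hQS (hPQ hx)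
  obtain ⟨k, hk, hkg⟩ := (isInvariantIn_iff c.pS' c.sat' c.sub c.tClosed').1 c.inv (up θ P) (up θ Q) f' g'
    hup (c.up_le hQ) hf' (fun a ha => by
      obtain ⟨x, hx, rfl⟩ := (mem_up hm.le).1 ha
      rw [← hcf x hx]
      exact ue_mem_up hQS (hfQ x hx)) hg'
  rw [bar_im hm.le (hg.restrict hPQ) (hg'.restrict hup) fun x hx => hcg x (hPQ hx)] at hk
  refine ⟨hh, im_le_iff.2 fun x hx => stronglyClosed_map c.tClosed hg (hPQ hx) (hP hx), k, hk,
    fun y hy => ?_⟩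
  obtain ⟨x, hx, rfl⟩ := (hg.restrict hPQ).mem_im.1 hy
  rw [hhg x hx, hcg x (hPQ hx), hkg _ (ue_mem_up hm.le hx), ← hcf x hx, hcg _ (hfQ x hx)]

omit [Fact p.Prime]

/-! ### Centric and good subgroups -/

/-- Subgroups between `Z` and `T` with centric image. -/
def Ctx.Cent (P : Subgroup Ω) : Prop := Z ≤ P ∧ P ≤ c.T ∧ E'.IsCentric (up θ P)

/-- Centric subgroups with fully normalised image. -/
def Ctx.Good (P : Subgroup Ω) : Prop := c.Cent P ∧ E'.IsFullyNormalized (up θ P)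

theorem Ctx.cent_mono (hP : c.Cent P) (hPR : P ≤ R) (hR : R ≤ c.T) : c.Cent R :=
  ⟨hP.1.trans hPR, hR, centric_mono hP.2.2 (fun a ha => by
    obtain ⟨x, hx, rfl⟩ := (mem_up (hPR.trans (hR.trans c.tS))).1 ha
    exact ue_mem_up (hR.trans c.tS) (hPR hx)) (c.up_le hR)⟩

theorem Ctx.cent_pre (hP' : E'.IsCentric P') : c.Cent (preimageAlong θ P') :=
  ⟨fac_le_pre c.fac, (fac_pre_le_iff c.fac (hP'.1.trans c.t'_le)).2 hP'.1,
    by rw [c.up_pre (hP'.1.trans c.t'_le)]; exact hP'⟩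

theorem Ctx.good_T : c.Good c.T := by
  haveI := c.finT'
  refine ⟨⟨c.zT, le_rfl, ?_⟩, by rw [c.up_T]; exact fn_self⟩
  rw [c.up_T]
  exact ⟨le_rfl, fun Q hQ => by
    rw [Subgroup.eq_of_le_of_card_ge (isConj_le hQ).2 (isConj_card hQ).le]; exact inf_le_left⟩

theorem Ctx.cent_im (hP : c.Cent P) (hf : Map F P f) : c.Cent (im P f) := by
  haveI := c.finS'
  obtain ⟨f', hf', -, hi⟩ := c.exists_bar hf
  exact ⟨c.le_im hf hP.1, im_le_iff.2 fun x hx => stronglyClosed_map c.tClosed hf hx (hP.2.1 hx),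
    hi ▸ centric_of_sub_map c.inv hP.2.2 hf'⟩

theorem Ctx.cent_self (hP : c.Cent P) : centralizerIn c.T P ≤ P := by
  intro x hx
  haveI := c.finT'
  obtain ⟨hxT, hxc⟩ := mem_centralizerIn.1 hx
  obtain ⟨hZ, hPT, hC⟩ := hP
  have hPS := hPT.trans c.tS
  have h1 : ue θ x ∈ up θ P := centric_inv_mem hC (fac_mem_pre.1 hxT).2 fun a ha => by
    obtain ⟨y, hy, rfl⟩ := (mem_up hPS).1 ha
    rw [← ue_mul (hPS hy) (c.tS hxT), hxc y hy, ue_mul (c.tS hxT) (hPS hy)]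
  exact (c.pre_up hZ hPS).le (fac_mem_pre.2 ⟨c.tS hxT, h1⟩)

theorem Ctx.pre_norm (hZ : Z ≤ P) (hP : P ≤ c.T) :
    preimageAlong θ (normalizerIn T' (up θ P)) = normalizerIn c.T P := by
  have hPS := hP.trans c.tS
  ext x
  rw [fac_mem_pre, mem_normalizerIn, mem_normalizerIn]
  constructor
  · rintro ⟨hx, hxT, hn⟩
    have h1 := (fac_mem_normalizer c.fac (fac_up_le c.fac) hx).1 hn
    rw [c.pre_up hZ hPS] at h1
    exact ⟨fac_mem_pre.2 ⟨hx, hxT⟩, h1⟩
  · rintro ⟨hx, hn⟩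
    obtain ⟨hxS, hxT⟩ := fac_mem_pre.1 hx
    refine ⟨hxS, hxT, (fac_mem_normalizer c.fac (fac_up_le c.fac) hxS).2 ?_⟩
    rwa [c.pre_up hZ hPS]

theorem Ctx.up_norm (hZ : Z ≤ P) (hP : P ≤ c.T) :
    up θ (normalizerIn c.T P) = normalizerIn T' (up θ P) := by
  rw [← c.pre_norm hZ hP, c.up_pre (show normalizerIn T' (up θ P) ≤ S' from inf_le_left.trans c.t'_le)]

theorem Ctx.card_norm (hZ : Z ≤ P) (hP : P ≤ c.T) :
    Nat.card ↥(normalizerIn c.T P) = Nat.card Z * Nat.card ↥(normalizerIn T' (up θ P)) := by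
  rw [← c.pre_norm hZ hP, fac_card c.fac (show normalizerIn T' (up θ P) ≤ S' from inf_le_left.trans c.t'_le)]

/-- Good subgroups have the largest normalisers in `T` among all their conjugates. -/
theorem Ctx.good_bound (hQ : c.Good Q) (hR : F.IsConj Q R) :
    Nat.card ↥(normalizerIn c.T R) ≤ Nat.card ↥(normalizerIn c.T Q) := by
  haveI := c.finS'
  haveI := c.finT'
  obtain ⟨f, hf, rfl⟩ := isConj_iff.1 hR
  obtain ⟨hZ, hQT, hC⟩ := hQ.1
  have hRc := c.cent_im hQ.1 hf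
  obtain ⟨f', hf', -, hi⟩ := c.exists_bar hf
  rw [c.card_norm hZ hQT, c.card_norm hRc.1 hRc.2.1, ← hi]
  refine Nat.mul_le_mul_left _ ?_
  obtain ⟨α, hα, e, he, hfe⟩ := frattini_map c.inv (c.up_le hQT) hf'
  refine le_trans ?_ (hQ.2.2 _ (isConj_iff.2 ⟨e, he, rfl⟩))
  have hαi := map_of_mem_autGroup c.t'_le (inv_mem hα)
  have hle : normalizerIn T' (im (up θ Q) f') ≤ T' := inf_le_left
  have himα : im (im (up θ Q) f') (av α⁻¹) = im (up θ Q) e := by
    rw [← hf'.im_comp]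
    exact im_congr fun a ha => by rw [Function.comp_apply, hfe a ha, av_inv_av α (he.mem ha)]
  have hRT' : im (up θ Q) f' ≤ T' := hi.le.trans (c.up_le hRc.2.1)
  refine (hαi.restrict hle).card_le fun x hx => ⟨av_mem _ (hle hx), ?_⟩
  have h := (hαi.restrict hle).mem_normalizer (le_inf hRT' Subgroup.le_normalizer) hx hx.2
  rw [himα] at h
  exact h.2

/-! ### The kernel of the action on the factor, and the lifts among automorphisms -/

omit c [Finite S] in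
/-- Automorphisms trivial modulo `Z`. -/
def kerZ (F : FusionSystem S) (Z P : Subgroup Ω) : Subgroup (MulAut P) where
  carrier := {β | β ∈ F.autGroup P ∧ ∀ x ∈ P, x⁻¹ * av β x ∈ Z}
  one_mem' := ⟨Subgroup.one_mem _, fun x hx => by rw [av_one hx, inv_mul_cancel]; exact Z.one_mem⟩
  mul_mem' := by
    rintro β γ ⟨hβ, hβ'⟩ ⟨hγ, hγ'⟩
    refine ⟨Subgroup.mul_mem _ hβ hγ, fun x hx => ?_⟩
    have h1 := Z.mul_mem (hγ' x hx) (hβ' _ (av_mem γ hx))
    rw [av_mul _ _ hx]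
    simpa [mul_assoc] using h1
  inv_mem' := by
    rintro β ⟨hβ, hβ'⟩
    refine ⟨Subgroup.inv_mem _ hβ, fun x hx => ?_⟩
    have h1 := hβ' _ (av_mem β⁻¹ hx)
    rw [av_av_inv β hx] at h1
    simpa using Z.inv_mem h1

theorem Ctx.ker_eq (hP : P ≤ S) {k : MulAut P} (hk : k ∈ kerZ F Z P) {x : Ω} (hx : x ∈ P) :
    av k x = x * (x⁻¹ * av k x) ∧ av k (x⁻¹ * av k x) = x⁻¹ * av k x :=
  ⟨by group, c.zfix (map_of_mem_autGroup hP hk.1) (hk.2 x hx) (P.mul_mem (P.inv_mem hx) (av_mem k hx))⟩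

theorem Ctx.ker_isPGroup [Fact p.Prime] (hP : P ≤ S) : IsPGroup p ↥(kerZ F Z P) := by
  rintro ⟨k, hk⟩
  have hm := map_of_mem_autGroup hP hk.1
  have hpow : ∀ n : ℕ, ∀ x ∈ P, av (k ^ n) x = x * (x⁻¹ * av k x) ^ n := by
    intro n
    induction n with
    | zero => intro x hx; rw [pow_zero, pow_zero, av_one hx, mul_one]
    | succ n ih =>
      intro x hx
      have hd : x⁻¹ * av k x ∈ P := P.mul_mem (P.inv_mem hx) (av_mem k hx)
      rw [pow_succ' k, av_mul _ _ hx, ih x hx, hm.map_mul hx (P.pow_mem hd n),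
        c.zfix hm (Z.pow_mem (hk.2 x hx) n) (P.pow_mem hd n), pow_succ' (x⁻¹ * av k x), ← mul_assoc]
      group
  haveI := finite_of_le c.zS
  obtain ⟨e, he⟩ := IsPGroup.iff_card.1 (c.pS.to_le c.zS)
  refine ⟨e, Subtype.ext (aut_ext fun x hx => ?_)⟩
  show av (k ^ p ^ e) x = av (1 : MulAut P) x
  rw [hpow _ x hx, av_one hx]
  have h1 := congrArg Subtype.val (pow_card_eq_one' (x := (⟨_, hk.2 x hx⟩ : Z)))
  rw [← he]
  show x * (x⁻¹ * av k x) ^ Nat.card Z = x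
  rw [show (x⁻¹ * av k x) ^ Nat.card Z = 1 from h1, mul_one]

theorem Ctx.ker_comm (hP : P ≤ S) {a b : MulAut P} (ha : a ∈ kerZ F Z P) (hb : b ∈ kerZ F Z P) :
    a * b = b * a := by
  refine aut_ext fun x hx => ?_
  have hma := map_of_mem_autGroup hP ha.1
  have hmb := map_of_mem_autGroup hP hb.1
  have hda : x⁻¹ * av a x ∈ P := P.mul_mem (P.inv_mem hx) (av_mem a hx)
  have hdb : x⁻¹ * av b x ∈ P := P.mul_mem (P.inv_mem hx) (av_mem b hx)
  have e1 : av a (av b x) = x * ((x⁻¹ * av a x) * (x⁻¹ * av b x)) := by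
    rw [(c.ker_eq hP hb hx).1, hma.map_mul hx hdb, c.zfix hma (hb.2 x hx) hdb]
    group
  have e2 : av b (av a x) = x * ((x⁻¹ * av b x) * (x⁻¹ * av a x)) := by
    rw [(c.ker_eq hP ha hx).1, hmb.map_mul hx hda, c.zfix hmb (ha.2 x hx) hda]
    group
  rw [av_mul _ _ hx, av_mul _ _ hx, e1, e2, c.z_comm (hb.2 x hx) (c.zS (ha.2 x hx))]

theorem Ctx.congr_ker (hf : Map F P f) (hi : im P f = Q) {e : P ≃* Q} (he : ∀ x : P, (e x : Ω) = f x)
    {k : MulAut P} (hk : k ∈ kerZ F Z P) : MulAut.congr e k ∈ kerZ F Z Q := by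
  refine ⟨congr_mem_autGroup hf hi he hk.1, fun y hy => ?_⟩
  obtain ⟨x, hx, rfl⟩ := hf.mem_im.1 (hi.ge hy)
  rw [av_congr_apply he k hx, ← hf.map_inv hx, ← hf.map_mul (P.inv_mem hx) (av_mem k hx),
    c.zfix hf (hk.2 x hx) (P.mul_mem (P.inv_mem hx) (av_mem k hx))]
  exact hk.2 x hx

theorem Ctx.ker_conj (hP : P ≤ S) {α k : MulAut P} (hα : α ∈ F.autGroup P) (hk : k ∈ kerZ F Z P) :
    α * k * α⁻¹ ∈ kerZ F Z P := by
  have := c.congr_ker (map_of_mem_autGroup hP hα) (im_av α) (e := α) (fun x => (av_coe α x).symm) hk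
  rwa [congr_self] at this

/-- The automorphisms inducing automorphisms of `E'`. -/
def Ctx.preAut (P : Subgroup Ω) : Subgroup (MulAut P) := Subgroup.closure {a | c.Lift P (av a)}

theorem Ctx.mem_preAut (hP : P ≤ c.T) {a : MulAut P} : a ∈ c.preAut P ↔ c.Lift P (av a) := by
  refine ⟨fun h => ?_, fun h => Subgroup.subset_closure h⟩
  have := mulAut_finite_of_le (hP.trans c.tS)
  rw [Ctx.preAut, ← Subgroup.mem_toSubmonoid, Subgroup.closure_toSubmonoid_of_finite] at h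
  induction h using Submonoid.closure_induction with
  | mem α hα => exact hα
  | one => exact c.lift_closed.congr (c.lift_conjBy hP c.T.one_mem) fun x hx => by rw [av_one hx]; simp
  | mul α β _ _ iha ihb =>
    exact c.lift_closed.congr (c.lift_closed.comp ihb.1 iha.1 ihb iha fun x hx => av_mem β hx)
      fun x hx => (av_mul α β hx).symm

theorem Ctx.preAut_le (hP : P ≤ c.T) : c.preAut P ≤ F.autGroup P := fun _ ha =>
  mem_autGroup_of_map ((c.mem_preAut hP).1 ha).1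

theorem Ctx.congr_preAut [Fact p.Prime] (hP : P ≤ c.T) (hf : Map F P f) (hi : im P f = Q) {e : P ≃* Q}
    (he : ∀ x : P, (e x : Ω) = f x) {a : MulAut P} (ha : a ∈ c.preAut P) :
    MulAut.congr e a ∈ c.preAut Q := by
  subst hi
  have hm := map_of_mem_autGroup hf.im_le (congr_mem_autGroup hf rfl he (c.preAut_le hP ha))
  exact Subgroup.subset_closure (c.lift_conj le_rfl hP ((c.mem_preAut hP).1 ha) (fun x hx => av_mem a hx)
    hf hm fun x hx => av_congr_apply he a hx)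

theorem Ctx.preAut_conj [Fact p.Prime] (hP : P ≤ c.T) {α a : MulAut P} (hα : α ∈ F.autGroup P)
    (ha : a ∈ c.preAut P) : α * a * α⁻¹ ∈ c.preAut P := by
  have := c.congr_preAut hP (map_of_mem_autGroup (hP.trans c.tS) hα) (im_av α) (e := α)
    (fun x => (av_coe α x).symm) ha
  rwa [congr_self] at this

end Cfsg.Agent.Local.FS.CLift
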