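import Cfsg.Agent.Lib.Fusion.Basic
import Cfsg.Agent.Lib.Fusion.Cores
import Cfsg.Prelude.Def_Transfer

/-!
A transfer: a Sylow subgroup `P = U K` with `K` normal, abelian, central modulo `U`, and `U` closed under
fusion in `P`, gives a normal subgroup with Sylow subgroup `U`.
-/

set_option autoImplicit false

namespace Cfsg.Agent.Local.FS.CLift

open Cfsg Cfsg.Agent.Fusion

variable {G : Type*} [Group G] [Finite G] {p : ℕ} [Fact p.Prime]

theorem exists_complement_top {P U K : Subgroup G} (hP : SylIn p P ⊤) (hUP : U ≤ P) (hKP : K ≤ P)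
    (hPUK : P ≤ U ⊔ K) (hKab : ∀ a ∈ K, ∀ b ∈ K, a * b = b * a)
    (hUn : ∀ x ∈ P, ∀ u ∈ U, x * u * x⁻¹ ∈ U) (hc : ∀ g : G, ∀ k ∈ K, g * k * g⁻¹ * k⁻¹ ∈ U)
    (hconj : ∀ g : G, ∀ u ∈ U, g * u * g⁻¹ ∈ P → g * u * g⁻¹ ∈ U) :
    ∃ Y : Subgroup G, Y.Normal ∧ SylIn p U Y ∧ ∀ x : G, (orderOf x).Coprime p → x ∈ Y := by
  classical
  haveI hn : (U.subgroupOf P).Normal :=
    ⟨fun u hu x => hUn x x.2 u hu⟩
  have htop : U.subgroupOf P ⊔ K.subgroupOf P = ⊤ := by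
    rw [← Subgroup.subgroupOf_sup hUP hKP]
    exact Subgroup.subgroupOf_eq_top.2 hPUK
  have hKc : IsMulCommutative (K.subgroupOf P) :=
    ⟨⟨fun a b => Subtype.ext (Subtype.ext (hKab _ a.2 _ b.2))⟩⟩
  have hcomm : IsMulCommutative (P ⧸ U.subgroupOf P) :=
    Subgroup.Normal.quotient_commutative_iff_commutator_le.2
      (Subgroup.Normal.commutator_le_of_self_sup_commutative_eq_top htop hKc)
  letI : CommGroup (P ⧸ U.subgroupOf P) :=
    { (inferInstance : Group (P ⧸ U.subgroupOf P)) with mul_comm := hcomm.1.1 }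
  let π : P →* P ⧸ U.subgroupOf P := QuotientGroup.mk' _
  have hπ : ∀ x : P, π x = 1 ↔ (x : G) ∈ U := fun x =>
    (QuotientGroup.eq_one_iff x).trans Subgroup.mem_subgroupOf
  let V : G →* P ⧸ U.subgroupOf P := MonoidHom.transfer π
  have hVU : ∀ u ∈ U, V u = 1 := by
    intro u hu
    letI : Fintype (Quotient (MulAction.orbitRel (Subgroup.zpowers u) (G ⧸ P))) := Fintype.ofFinite _
    rw [MonoidHom.transfer_eq_prod_quotient_orbitRel_zpowers_quot]
    refine Finset.prod_eq_one fun q _ => (hπ _).2 ?_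
    have hm := QuotientGroup.out_conj_pow_minimalPeriod_mem P u q.out
    have h1 := hconj q.out.out⁻¹ _ (U.pow_mem hu (Function.minimalPeriod (u • ·) q.out))
      (by rw [inv_inv]; exact hm)
    rwa [inv_inv] at h1
  have hVK : ∀ k : G, ∀ hk : k ∈ K, V k = π ⟨k, hKP hk⟩ ^ P.index := by
    intro k hk
    letI : Fintype (Quotient (MulAction.orbitRel (Subgroup.zpowers k) (G ⧸ P))) := Fintype.ofFinite _
    rw [MonoidHom.transfer_eq_prod_quotient_orbitRel_zpowers_quot,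
      Subgroup.index_eq_sum_minimalPeriod P k, ← Finset.prod_pow_eq_pow_sum]
    refine Finset.prod_congr rfl fun q _ => ?_
    rw [← map_pow, ← inv_inv (π (⟨k, hKP hk⟩ ^ _)), eq_inv_iff_mul_eq_one, ← map_inv, ← map_mul, hπ]
    have h1 := hc q.out.out⁻¹ _ (K.pow_mem hk (Function.minimalPeriod (k • ·) q.out))
    rw [inv_inv] at h1
    exact h1
  have hidx : P.index.Coprime p :=
    ((Nat.Prime.coprime_iff_not_dvd Fact.out).2 (Subgroup.relIndex_top_right P ▸ hP.not_dvd)).symm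
  have hker : P ⊓ V.ker = U := by
    refine le_antisymm ?_ (le_inf hUP fun u hu => MonoidHom.mem_ker.2 (hVU u hu))
    rintro x ⟨hxP, hx⟩
    obtain ⟨u, hu, k, hk, huk⟩ : ∃ u ∈ U.subgroupOf P, ∃ k ∈ K.subgroupOf P,
        u * k = (⟨x, hxP⟩ : P) :=
      Subgroup.mem_sup_of_normal_left.1 (htop.ge (Subgroup.mem_top _))
    have huk' : (u : G) * k = x := congrArg Subtype.val huk
    have h1 : V x = 1 := hx
    rw [← huk', map_mul, hVU (u : G) hu, one_mul, hVK (k : G) hk] at h1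
    have h2 : π ⟨k, hKP hk⟩ = 1 := by
      obtain ⟨e, he⟩ := hP.isPGroup.to_quotient (U.subgroupOf P) (π ⟨k, hKP hk⟩)
      refine orderOf_eq_one_iff.1 (Nat.eq_one_of_dvd_coprimes (hidx.pow_right e)
        (orderOf_dvd_of_pow_eq_one h1) (orderOf_dvd_of_pow_eq_one he))
    rw [← huk']
    exact U.mul_mem hu ((hπ _).1 h2)
  refine ⟨V.ker, inferInstance, ?_, fun x hx => ?_⟩
  · exact Eq.mp (congrArg (fun A => SylIn p A V.ker) hker)
      (hP.inf_normal le_top (by rw [Subgroup.normalizer_eq_top]))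
  · obtain ⟨e, he⟩ := hP.isPGroup.to_quotient (U.subgroupOf P) (V x)
    refine MonoidHom.mem_ker.2 (orderOf_eq_one_iff.1 (Nat.eq_one_of_dvd_coprimes (hx.pow_right e)
      (orderOf_map_dvd V x) (orderOf_dvd_of_pow_eq_one he)))

/-- The same inside a subgroup `H` of an ambient group. -/
theorem exists_complement {H P U K : Subgroup G} (hP : SylIn p P H) (hUP : U ≤ P) (hKP : K ≤ P)
    (hPUK : P ≤ U ⊔ K) (hKab : ∀ a ∈ K, ∀ b ∈ K, a * b = b * a)
    (hUn : ∀ x ∈ P, ∀ u ∈ U, x * u * x⁻¹ ∈ U) (hc : ∀ g ∈ H, ∀ k ∈ K, g * k * g⁻¹ * k⁻¹ ∈ U)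
    (hconj : ∀ g ∈ H, ∀ u ∈ U, g * u * g⁻¹ ∈ P → g * u * g⁻¹ ∈ U) :
    ∃ Y : Subgroup G, Y ≤ H ∧ SylIn p U Y ∧ (∀ h ∈ H, ∀ y ∈ Y, h * y * h⁻¹ ∈ Y) ∧
      ∀ x ∈ H, (orderOf x).Coprime p → x ∈ Y := by
  have hUH := hUP.trans hP.le
  have hKH := hKP.trans hP.le
  have hPt : SylIn p (P.subgroupOf H) ⊤ := by
    obtain ⟨R, hR⟩ := hP.exists_sylow_subgroupOf
    exact hR ▸ sylIn_top R
  obtain ⟨Y, hYn, hY, hYc⟩ := exists_complement_top (P := P.subgroupOf H) (U := U.subgroupOf H)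
    (K := K.subgroupOf H) hPt (fun _ hx => hUP hx) (fun _ hx => hKP hx)
    (by rw [← Subgroup.subgroupOf_sup hUH hKH]; exact fun _ hx => hPUK hx)
    (fun a ha b hb => Subtype.ext (hKab _ ha _ hb)) (fun x hx u hu => hUn _ hx _ hu)
    (fun g k hk => hc g g.2 _ hk) (fun g u hu hg => hconj g g.2 _ hu hg)
  refine ⟨Y.map H.subtype, Subgroup.map_subtype_le _, ?_, ?_, fun x hx hxc => ?_⟩
  · have hmap : (U.subgroupOf H).map H.subtype = U := Subgroup.map_subgroupOf_eq_of_le hUH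
    refine ⟨hmap ▸ Subgroup.map_mono hY.le, hP.isPGroup.to_le hUP, ?_⟩
    conv => arg 1; arg 2; arg 1; rw [← hmap]
    rw [Subgroup.relIndex_map_map_of_injective _ _ H.subtype_injective]
    exact hY.not_dvd
  · rintro h hh _ ⟨y, hy, rfl⟩
    exact ⟨⟨h, hh⟩ * y * ⟨h, hh⟩⁻¹, hYn.conj_mem y hy _, rfl⟩
  · refine ⟨⟨x, hx⟩, hYc _ ?_, rfl⟩
    rwa [Subgroup.orderOf_mk]

end Cfsg.Agent.Local.FS.CLift
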