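import Cfsg.Agent.Lib.Local.FS.Essential
import Cfsg.Agent.Lib.Local.FS.Systems

/-!
A saturated subsystem is the whole system if it has the same centralizer systems on subgroups of order `p`.
-/

set_option autoImplicit false

namespace Cfsg.Agent.Local.FS

open Cfsg Cfsg.FusionSystem Cfsg.Agent.Fusion

variable {Ω : Type*} [Group Ω] {S : Subgroup Ω} [Finite S] {F F' : FusionSystem S} {p : ℕ} [Fact p.Prime]

theorem eq_of_centralizers (hS : IsPGroup p S) (hF : F.IsSaturated p) (hF' : F'.IsSaturated p) (hle : F' ≤ F)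
    (hZ : ∀ Z : Subgroup Ω, Z ≤ S → Nat.card Z = p → F'.IsFullyCentralized Z → F.Hom Z = F'.Hom Z ∧
      ∀ (C C' : FusionSystem (centralizerIn S Z)), F.IsCentralizerSystem Z C → F'.IsCentralizerSystem Z C' →
        ∀ P : Subgroup Ω, C.Hom P = C'.Hom P)
    (P : Subgroup Ω) : F.Hom P = F'.Hom P := by
  refine Set.Subset.antisymm (fun φ hφ => ?_) (hle P)
  suffices h : ∀ (P : Subgroup Ω) (f : Ω → Ω), Map F P f → Map F' P f from mem_iff_map.2 (h P _ (map_of_mem hφ))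
  refine alperin hS hF (isClosedClass_map F') fun R hR α hα => ?_
  have hRS : R ≤ S := hR.elim (fun h => h.le) fun h => h.1.1
  have hcR : ∀ z ∈ S, (∀ s ∈ S, s * z = z * s) → z ∈ R := by
    intro z hz hc
    rcases hR with rfl | hE
    · exact hz
    · exact hE.1.2 R (isConj_refl hRS) (mem_centralizerIn.2 ⟨hz, fun y hy => hc y (hRS hy)⟩)
  rcases eq_or_ne S ⊥ with hS1 | hS1
  · refine (map_id hRS).congr fun x hx => ?_
    have h1 : ∀ y ∈ R, y = 1 := fun y hy => by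
      have h := hRS hy
      rwa [hS1, Subgroup.mem_bot] at h
    rw [id_eq, h1 x hx, h1 _ (av_mem α (R.one_mem))]
  haveI : Nontrivial S := (Subgroup.nontrivial_iff_ne_bot S).2 hS1
  haveI := hS.center_nontrivial
  obtain ⟨c, hc⟩ : ∃ c : Subgroup.center S, orderOf c = p := by
    refine exists_prime_orderOf_dvd_card' p ?_
    obtain ⟨n, hn⟩ := IsPGroup.iff_card.1 (hS.to_subgroup (Subgroup.center S))
    rw [hn]
    refine dvd_pow_self p ?_
    rintro rfl
    exact (Subgroup.nontrivial_iff_ne_bot _).1 inferInstance (Subgroup.card_eq_one.1 (by simpa using hn))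
  obtain ⟨z, hz⟩ : ∃ z, z = ((c : S) : Ω) := ⟨_, rfl⟩
  have hzo : orderOf z = p := by rw [hz, Subgroup.orderOf_coe, Subgroup.orderOf_coe, hc]
  have hzS : z ∈ S := hz ▸ (c : S).2
  have hzc : ∀ s ∈ S, s * z = z * s := fun s hs => by
    rw [hz]; exact congrArg Subtype.val (Subgroup.mem_center_iff.1 c.2 ⟨s, hs⟩)
  have hzR := hcR z hzS hzc
  obtain ⟨Z, hZd⟩ : ∃ Z, Z = Subgroup.zpowers z := ⟨_, rfl⟩
  have hZS : Z ≤ S := hZd ▸ Subgroup.zpowers_le.2 hzS
  have hZR : Z ≤ R := hZd ▸ Subgroup.zpowers_le.2 hzR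
  have hSZ : centralizerIn S Z = S := le_antisymm inf_le_left fun s hs =>
    mem_centralizerIn.2 ⟨hs, fun y hy => by
      rw [hZd] at hy
      obtain ⟨i, rfl⟩ := Subgroup.mem_zpowers_iff.1 hy
      exact ((show Commute s z from hzc s hs).zpow_right i).symm.eq⟩
  have hfc : F'.IsFullyCentralized Z := ⟨hZS, fun Q hQ => by
    rw [hSZ]; exact Subgroup.card_le_of_le inf_le_left⟩
  obtain ⟨hHom, hCs⟩ := hZ Z hZS (by rw [hZd, Nat.card_zpowers, hzo]) hfc
  have hm := map_of_mem_autGroup hRS hα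
  have hrZ : Map F' Z (av α) := by
    obtain ⟨ψ, hψ, hψe⟩ := hm.restrict hZR
    exact ⟨ψ, hHom ▸ hψ, hψe⟩
  obtain ⟨b, hb, hbα, -, hbi⟩ := hrZ.exists_inv
  obtain ⟨g, hg, hgb⟩ := (receptive_iff.1 (receptive_of_fc hS hF' hfc)).2 _ b hb hbi
  have hRN : R ≤ Nf S (im Z (av α)) b := fun r hr => centralizerIn_le_Nf (mem_centralizerIn.2 ⟨hRS hr, fun y hy => by
    obtain ⟨x, hx, rfl⟩ := hrZ.mem_im.1 hy
    have hr' : r = av α (av α⁻¹ r) := (av_av_inv α hr).symm
    rw [hr', ← hm.map_mul (hZR hx) (av_mem _ hr), ← hm.map_mul (av_mem _ hr) (hZR hx),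
      (mem_centralizerIn.1 (hSZ.ge (hRS (av_mem α⁻¹ hr)))).2 x hx]⟩)
  have hgR := hg.restrict hRN
  have hgF : Map F R g := by
    obtain ⟨ψ, hψ, hψe⟩ := hgR
    exact ⟨ψ, hle R hψ, hψe⟩
  have hh : Map F R (g ∘ av α) := hm.comp hgF fun x hx => av_mem α hx
  have hfix : ∀ x ∈ Z, (g ∘ av α) x = x := fun x hx =>
    (hgb _ (mem_im_of_mem hx)).trans (hbα x hx)
  -- the composite lies in the centralizer system
  obtain ⟨χ, hχ, hχe⟩ := id hh
  have hCeq := hCs (centSys F hZS) (centSys F' hZS) (fun _ => rfl) (fun _ => rfl) R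
  have hmem : χ ∈ (centSys F hZS).Hom R := mem_centralizerHom.2
    ⟨hRS.trans hSZ.ge, fun x => hSZ.ge (by rw [hχe]; exact hh.mem x.2), g ∘ av α,
      by rw [sup_eq_left.2 hZR]; exact hh, hχe, hfix⟩
  rw [hCeq] at hmem
  obtain ⟨-, -, k, hk, hχk, -⟩ := mem_centralizerHom.1 hmem
  have hh' : Map F' R (g ∘ av α) := (hk.restrict le_sup_left).congr fun x hx =>
    (hχk ⟨x, hx⟩).symm.trans (hχe ⟨x, hx⟩)
  obtain ⟨g', hg', hg'g, -, -⟩ := hgR.exists_inv
  refine (hh'.comp hg' fun x hx => mem_im_of_mem (av_mem α hx)).congr fun x hx => ?_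
  exact hg'g _ (av_mem α hx)

end Cfsg.Agent.Local.FS
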