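import Cfsg.Agent.Lib.Local.FS.LocalNormalModel
import Cfsg.Agent.Lib.Local.FS.GlaubermanCenter

/-!
For odd `p` a normal subsystem over `T` whose centralizer lies in `T` has `C_S(T) ≤ T`.
-/

set_option autoImplicit false

namespace Cfsg.Agent.Local.FS.CentralizerOdd

open Cfsg Cfsg.FusionSystem Cfsg.Agent.Fusion Cfsg.Agent.Local.FS
open scoped IsMulCommutative

universe u v

variable {Ω : Type u} [Group Ω] {S T : Subgroup Ω} {F : FusionSystem S} {E : FusionSystem T}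
  {A P Q R U X : Subgroup Ω} {f g : Ω → Ω} {p : ℕ}

/-- `f` extends fixing `A`. -/
def Good (F : FusionSystem S) (A P : Subgroup Ω) (f : Ω → Ω) : Prop :=
  ∃ g, Map F (P ⊔ A) g ∧ (∀ x ∈ P, g x = f x) ∧ ∀ a ∈ A, g a = a

theorem Good.congr (h : Good F A P f) (he : ∀ x ∈ P, f x = g x) : Good F A P g :=
  let ⟨k, hk, hkf, hkA⟩ := h; ⟨k, hk, fun x hx => (hkf x hx).trans (he x hx), hkA⟩

theorem Good.restrict (h : Good F A P f) (hR : R ≤ P) : Good F A R f :=
  let ⟨k, hk, hkf, hkA⟩ := h; ⟨k, hk.restrict (sup_le_sup_right hR A), fun x hx => hkf x (hR hx), hkA⟩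

theorem Good.comp (hf : Good F A P f) (hg : Good F A Q g) (hm : ∀ x ∈ P, f x ∈ Q) :
    Good F A P (g ∘ f) := by
  obtain ⟨k, hk, hkf, hkA⟩ := hf
  obtain ⟨l, hl, hlg, hlA⟩ := hg
  refine ⟨l ∘ k, hk.comp hl fun x hx => ?_, fun x hx => ?_, fun a ha => ?_⟩
  · refine (show im P k ⊔ im A k ≤ Q ⊔ A from sup_le_sup ?_ ?_) (hk.im_sup_le (mem_im_of_mem hx))
    · exact im_le_iff.2 fun y hy => by rw [hkf y hy]; exact hm y hy
    · exact im_le_iff.2 fun y hy => by rw [hkA y hy]; exact hy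
  · show l (k x) = g (f x)
    rw [hkf x hx, hlg _ (hm x hx)]
  · show l (k a) = a
    rw [hkA a ha, hlA a ha]

theorem Good.inv (hf : Good F A P f) (hi : ∀ x ∈ P, g (f x) = x) : Good F A (im P f) g := by
  obtain ⟨k, hk, hkf, hkA⟩ := hf
  obtain ⟨l, hl, hlk, -, -⟩ := hk.exists_inv
  refine ⟨l, hl.restrict (sup_le ((im_congr hkf).ge.trans (im_mono le_sup_left)) fun a ha => ?_),
    fun y hy => ?_, fun a ha => ?_⟩
  · rw [← hkA a ha]; exact mem_im_of_mem (Subgroup.mem_sup_right ha)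
  · rw [← im_congr hkf] at hy
    obtain ⟨x, hx, rfl⟩ := (hk.restrict le_sup_left).mem_im.1 hy
    rw [hlk x (Subgroup.mem_sup_left hx), hkf x hx, hi x hx]
  · conv_lhs => rw [← hkA a ha]
    exact hlk a (Subgroup.mem_sup_right ha)

theorem isClosedClass_good : IsClosedClass E (Good F A) :=
  ⟨fun h he => h.congr he, fun _ h hR => h.restrict hR, fun _ _ h h' hm => h.comp h' hm,
    fun _ h hi => h.inv hi⟩

theorem centralizer_thompsonA_le {Q : Type v} [Group Q] [Finite Q] :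
    Subgroup.centralizer (thompsonSubgroupA Q : Set Q) ≤ thompsonSubgroupA Q := by
  intro x hx
  obtain ⟨B, hB⟩ := (replFamily_comm (G := Q)).maxIn_nonempty (⊤ : Subgroup Q)
  have hB' : B ∈ maxAbelianSubgroups Q := ⟨hB.2.1, fun C hC => hB.2.2 C le_top hC⟩
  refine le_sSup hB' (mem_of_maxIn hB (Subgroup.mem_top x) (isMulCommutative_closure_insert hB.2.1 fun a ha => ?_))
  exact (Subgroup.mem_centralizer_iff.1 hx a (le_sSup hB' ha)).symm

theorem mem_thompsonAOf {H : Subgroup Ω} [Finite H] {x : Ω} (hx : x ∈ H)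
    (h : ∀ u ∈ thompsonSubgroupAOf H, u * x = x * u) : x ∈ thompsonSubgroupAOf H :=
  ⟨⟨x, hx⟩, centralizer_thompsonA_le (Subgroup.mem_centralizer_iff.2 fun u hu =>
    Subtype.ext (h u ⟨u, hu, rfl⟩)), rfl⟩

theorem thompsonAOf_map {A B : Type u} [Group A] [Group B] (f : A →* B) (hf : Function.Injective f)
    (K : Subgroup A) : thompsonSubgroupAOf (K.map f) = (thompsonSubgroupAOf K).map f := by
  let e := K.equivMapOfInjective f hf
  show (thompsonSubgroupA _).map _ = ((thompsonSubgroupA K).map K.subtype).map f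
  rw [← map_thompsonSubgroupA e, Subgroup.map_map, Subgroup.map_map]
  rfl

theorem thompsonAOf_subgroupOf {A : Type u} [Group A] (K N : Subgroup A) (h : K ≤ N) :
    thompsonSubgroupAOf (K.subgroupOf N) = (thompsonSubgroupAOf K).subgroupOf N := by
  have hle : thompsonSubgroupAOf K ≤ N := (Subgroup.map_subtype_le _).trans h
  refine Subgroup.map_injective N.subtype_injective ?_
  rw [← thompsonAOf_map N.subtype N.subtype_injective, Subgroup.map_subgroupOf_eq_of_le h,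
    Subgroup.map_subgroupOf_eq_of_le hle]

/-- An element moved by `H` inside an abelian group, and centralising a Sylow subgroup, has a fixed translate. -/
theorem exists_fixed_shift {G : Type v} [Group G] [Finite G] [Fact p.Prime] {H V Z : Subgroup G}
    (hV : SylIn p V H) (hZ : ∀ x ∈ Z, ∀ y ∈ Z, x * y = y * x)
    (hHZ : H ≤ Subgroup.normalizer (Z : Set G)) {a : G} (haZ : ∀ z ∈ Z, z * a = a * z)
    (haV : ∀ v ∈ V, v * a = a * v) (hap : ∃ k, a ^ p ^ k = 1)
    (hah : ∀ h ∈ H, a⁻¹ * (h * a * h⁻¹) ∈ Z) : ∃ z ∈ Z, ∀ h ∈ H, h * (a * z) = a * z * h := by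
  classical
  obtain ⟨M, hM⟩ : ∃ M, M = Z ⊔ Subgroup.zpowers a := ⟨_, rfl⟩
  haveI : IsMulCommutative M := by
    rw [hM]
    refine comm_sup hZ (fun x hx y hy => ?_) fun x hx y hy => ?_
    · obtain ⟨i, rfl⟩ := hx
      obtain ⟨j, rfl⟩ := hy
      exact ((Commute.refl a).zpow_zpow i j).eq
    · obtain ⟨j, rfl⟩ := hy
      exact ((show Commute x a from haZ x hx).zpow_right j).eq
  have haM : a ∈ M := hM ▸ Subgroup.mem_sup_right (Subgroup.mem_zpowers a)
  have hZM : Z ≤ M := hM ▸ le_sup_left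
  haveI : Fintype (↥H ⧸ V.subgroupOf H) := Fintype.ofFinite _
  let m : ↥H ⧸ V.subgroupOf H → M := fun q => ⟨(q.out : G) * a * (q.out : G)⁻¹, by
    have := M.mul_mem haM (hZM (hah _ q.out.2))
    rwa [mul_inv_cancel_left] at this⟩
  have hm : ∀ x : H, (m x : G) = (x : G) * a * (x : G)⁻¹ := by
    intro x
    obtain ⟨w, hw⟩ := QuotientGroup.mk_out_eq_mul (V.subgroupOf H) x
    show ((Quotient.out (QuotientGroup.mk x : ↥H ⧸ V.subgroupOf H) : H) : G) * a * _ = _
    rw [hw, Subgroup.coe_mul]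
    have h1 : ((w : H) : G) * a * ((w : H) : G)⁻¹ = a := by rw [haV ((w : H) : G) w.2, mul_inv_cancel_right]
    calc (x : G) * ((w : H) : G) * a * ((x : G) * ((w : H) : G))⁻¹
        = (x : G) * (((w : H) : G) * a * ((w : H) : G)⁻¹) * (x : G)⁻¹ := by group
      _ = _ := by rw [h1]
  let z₀ : ↥H ⧸ V.subgroupOf H → M := fun q => ⟨a⁻¹ * (m q : G), M.mul_mem (M.inv_mem haM) (m q).2⟩
  have hz₀ : (∏ q, z₀ q : M) ∈ Z.subgroupOf M := Subgroup.prod_mem _ fun q _ => by
    show a⁻¹ * (m q : G) ∈ Z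
    exact hah _ q.out.2
  obtain ⟨k, hk⟩ : ∃ k, k = Fintype.card (↥H ⧸ V.subgroupOf H) := ⟨_, rfl⟩
  have he : ((∏ q, m q : M) : G) = a ^ k * ((∏ q, z₀ q : M) : G) := by
    have h1 : (∏ q, m q : M) = (⟨a, haM⟩ : M) ^ k * ∏ q, z₀ q := by
      rw [hk, ← Finset.card_univ, ← Finset.prod_const, ← Finset.prod_mul_distrib]
      exact Finset.prod_congr rfl fun q _ => Subtype.ext (mul_inv_cancel_left a (m q : G)).symm
    rw [h1, Subgroup.coe_mul, SubgroupClass.coe_pow]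
  have hfix : ∀ h ∈ H, h * ((∏ q, m q : M) : G) * h⁻¹ = ((∏ q, m q : M) : G) := by
    intro h hh
    have hMM : ∀ x : M, h * (x : G) * h⁻¹ ∈ M := fun x => by
      have hle : M ≤ M.comap (MulAut.conj h).toMonoidHom := by
        conv_lhs => rw [hM]
        refine sup_le (fun z hz => hZM (conj_mem_of_normalizer (hHZ hh) hz)) (Subgroup.zpowers_le.2 ?_)
        show h * a * h⁻¹ ∈ M
        have := M.mul_mem haM (hZM (hah h hh))
        rwa [mul_inv_cancel_left] at this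
      exact hle x.2
    let φ : M →* M := MonoidHom.mk' (fun x => ⟨h * (x : G) * h⁻¹, hMM x⟩) fun x y => Subtype.ext (by
      push_cast; group)
    have h2 : φ (∏ q, m q) = ∏ q, m q := by
      rw [map_prod]
      refine Fintype.prod_equiv (MulAction.toPerm (⟨h, hh⟩ : H)) _ _ fun q => ?_
      induction q using QuotientGroup.induction_on with
      | H x =>
        refine Subtype.ext ?_
        show h * (m x : G) * h⁻¹ = (m (((⟨h, hh⟩ : H) * x : H) : ↥H ⧸ V.subgroupOf H) : G)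
        rw [hm, hm, Subgroup.coe_mul]
        group
    exact congrArg Subtype.val h2
  have hkp : k.Coprime (orderOf a) := by
    obtain ⟨j, hj⟩ := hap
    refine Nat.Coprime.coprime_dvd_right (orderOf_dvd_of_pow_eq_one hj) (Nat.Coprime.pow_right j ?_)
    refine ((Nat.Prime.coprime_iff_not_dvd Fact.out).2 fun hd => hV.not_dvd ?_).symm
    rwa [hk, ← Nat.card_eq_fintype_card] at hd
  obtain ⟨j, hj⟩ := exists_pow_eq_self_of_coprime hkp
  refine ⟨((∏ q, z₀ q : M) : G) ^ j, Z.pow_mem hz₀ j, fun h hh => ?_⟩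
  have hc : Commute h (a ^ k * ((∏ q, z₀ q : M) : G)) := by
    have h3 := hfix h hh
    rw [he] at h3
    exact mul_inv_eq_iff_eq_mul.1 h3
  have h4 := hc.pow_right j
  rwa [(show Commute (a ^ k) ((∏ q, z₀ q : M) : G) from
    (show Commute a ((∏ q, z₀ q : M) : G) from (haZ _ hz₀).symm).pow_left k).mul_pow, hj] at h4

/-- The subgroup on whose elements two homomorphisms agree. -/
theorem _root_.Cfsg.Agent.Local.FS.Conjs.val {G : Type v} [Group G] {N : Subgroup Ω} {ι : N →* G} {h : G} (hc : Conjs ι P f h)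
    {x : Ω} (hx : x ∈ P) (hxN : x ∈ N) (hfx : f x ∈ N) :
    ι ⟨f x, hfx⟩ = h * ι ⟨x, hxN⟩ * h⁻¹ := hc ⟨x, hxN⟩ hx ⟨f x, hfx⟩ rfl

variable [Finite S] [Fact p.Prime]

section Model

variable {G : Type v} [Group G] {ι : ↥(normalizerIn S R) →* G} {H : Subgroup G}

omit [Finite S] [Fact p.Prime] in
theorem mem_centralizer_R (hA : A ≤ centralizerIn S T) (hRT : R ≤ T) {a : Ω} (ha : a ∈ A)
    (haN : a ∈ normalizerIn S R) : ι ⟨a, haN⟩ ∈ Subgroup.centralizer (imG ι R : Set G) := by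
  refine Subgroup.mem_centralizer_iff.2 ?_
  rintro _ ⟨r, hr, rfl⟩
  rw [← map_mul, ← map_mul]
  exact congrArg ι (Subtype.ext ((mem_centralizerIn.1 (hA ha)).2 r (hRT hr)))

/-- A conjugation from `H` commuting with `A` is good. -/
theorem good_of_conjs (hL : LocalModel F E p R G ι H) (hA : A ≤ centralizerIn S T) (hRT : R ≤ T)
    (hP : P ≤ normalizerIn T R) (hTS : T ≤ S) {h : G}
    (hcA : ∀ x : ↥(normalizerIn S R), (x : Ω) ∈ A → h * ι x = ι x * h)
    (hfP : ∀ x ∈ P, f x ∈ normalizerIn S R) (hc : Conjs ι P f h) : Good F A P f := by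
  have hPN : P ≤ normalizerIn S R := hP.trans (inf_le_inf_right _ hTS)
  have hAN : A ≤ normalizerIn S R := fun a ha => centralizerIn_le_normalizerIn
    (mem_centralizerIn.2 ⟨(hA ha).1, fun r hr => (mem_centralizerIn.1 (hA ha)).2 r (hRT hr)⟩)
  have hPA : P ⊔ A ≤ normalizerIn S R := sup_le hPN hAN
  have hfix : ∀ x : ↥(normalizerIn S R), (x : Ω) ∈ A → h * ι x * h⁻¹ = ι x := fun x hx =>
    mul_inv_eq_iff_eq_mul.2 (hcA x hx)
  have hrange : (P ⊔ A).subgroupOf (normalizerIn S R) ≤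
      (ι.range.comap (MulAut.conj h).toMonoidHom).comap ι := by
    rw [Subgroup.subgroupOf_sup hPN hAN]
    refine sup_le (fun x hx => ?_) fun x hx => ?_
    · exact ⟨⟨_, hfP x hx⟩, hc x hx ⟨_, hfP x hx⟩ rfl⟩
    · exact ⟨x, (hfix x hx).symm⟩
  obtain ⟨k, hk, hkR, hkc⟩ := hL.mapG (P ⊔ A) hPA h fun x hx => hrange hx
  have hkN : ∀ x ∈ P ⊔ A, k x ∈ normalizerIn S R := fun x hx => by
    have := hk.mem_normalizer le_sup_right (Subgroup.mem_sup_left hx) (hPA hx).2
    rwa [hkR] at this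
  refine ⟨k, hk.restrict le_sup_left, fun x hx => ?_, fun a ha => ?_⟩
  · have h1 := hkc.val (Subgroup.mem_sup_left hx) (hPN hx) (hkN x (Subgroup.mem_sup_left hx))
    rw [← hc.val hx (hPN hx) (hfP x hx)] at h1
    exact congrArg Subtype.val (hL.inj h1)
  · have h1 := hkc.val (Subgroup.mem_sup_right ha) (hAN ha) (hkN a (Subgroup.mem_sup_right ha))
    rw [hfix ⟨a, hAN ha⟩ ha] at h1
    exact congrArg Subtype.val (hL.inj h1)

/-- Elements of `C_S(T)` have translates by `Z(R)` centralised by `H`. -/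
theorem exists_shift_central (hS : IsPGroup p S) (hL : LocalModel F E p R G ι H) (hTS : T ≤ S)
    (hRT : R ≤ T) {a : Ω} (ha : a ∈ centralizerIn S T) (haN : a ∈ normalizerIn S R) :
    ∃ z : ↥(normalizerIn S R), (z : Ω) ∈ R ∧ (∀ t ∈ normalizerIn T R, t * (z : Ω) = (z : Ω) * t) ∧
      ∀ h ∈ H, h * (ι ⟨a, haN⟩ * ι z) = ι ⟨a, haN⟩ * ι z * h := by
  haveI := hL.finite
  haveI := hL.normal
  haveI := hL.normalR
  set Z := imG ι R ⊓ Subgroup.centralizer (imG ι R : Set G)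
  haveI : Z.Normal := Subgroup.normal_inf_normal (imG ι R) (Subgroup.centralizer (imG ι R : Set G))
  have hVN : normalizerIn T R ≤ normalizerIn S R := inf_le_inf_right _ hTS
  have hcR : ι ⟨a, haN⟩ ∈ Subgroup.centralizer (imG ι R : Set G) :=
    mem_centralizer_R (T := T) (A := centralizerIn S T) le_rfl hRT ha haN
  have haV : ∀ v ∈ imG ι (normalizerIn T R), v * ι ⟨a, haN⟩ = ι ⟨a, haN⟩ * v := by
    rintro _ ⟨v, hv, rfl⟩
    rw [← map_mul, ← map_mul]
    exact congrArg ι (Subtype.ext ((mem_centralizerIn.1 ha).2 v hv.1))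
  haveI : Finite ↥(normalizerIn S R) := finite_normalizerIn
  obtain ⟨k, hk⟩ := (show IsPGroup p ↥(normalizerIn S R) from hS.to_le inf_le_left) ⟨a, haN⟩
  obtain ⟨z, hz, hzc⟩ := exists_fixed_shift (Z := Z) hL.syl
    (fun x hx y hy => Subgroup.mem_centralizer_iff.1 hy.2 x hx.1)
    (le_top.trans (Subgroup.normalizer_eq_top (H := Z)).ge)
    (fun z hz => (Subgroup.mem_centralizer_iff.1 hcR z hz.1)) haV
    ⟨k, by rw [← map_pow, hk, map_one]⟩ fun h hh => by
      have hH : (ι ⟨a, haN⟩)⁻¹ * (h * ι ⟨a, haN⟩ * h⁻¹) ∈ H ⊓ Subgroup.centralizer (imG ι R : Set G) := by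
        refine ⟨?_, Subgroup.mul_mem _ (Subgroup.inv_mem _ hcR) (Subgroup.Normal.conj_mem inferInstance _ hcR h)⟩
        rw [show (ι ⟨a, haN⟩)⁻¹ * (h * ι ⟨a, haN⟩ * h⁻¹) = ((ι ⟨a, haN⟩)⁻¹ * h * ι ⟨a, haN⟩) * h⁻¹ by group]
        exact H.mul_mem (by simpa using Subgroup.Normal.conj_mem inferInstance h hh (ι ⟨a, haN⟩)⁻¹) (H.inv_mem hh)
      exact ⟨hL.centH hH, hH.2⟩
  obtain ⟨z', hz', rfl⟩ := hz.1
  refine ⟨z', hz', fun t ht => ?_, hzc⟩
  have h1 : ι ⟨t, hVN ht⟩ * (ι ⟨a, haN⟩ * ι z') = ι ⟨a, haN⟩ * ι z' * ι ⟨t, hVN ht⟩ :=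
    hzc _ (hL.syl.le ⟨⟨t, hVN ht⟩, ht, rfl⟩)
  rw [← mul_assoc, haV _ ⟨⟨t, hVN ht⟩, ht, rfl⟩, mul_assoc, mul_assoc, mul_right_inj, ← map_mul, ← map_mul] at h1
  exact congrArg Subtype.val (hL.inj h1)

end Model

variable (F E A) in
/-- What is used of the base step. -/
structure Hyp : Prop where
  le : A ≤ centralizerIn S T
  inT : centralizerIn S T ≤ T ⊔ A
  conj : ∀ s ∈ S, ∀ a ∈ A, s * a * s⁻¹ ∈ A
  aut : ∀ α ∈ F.autGroup T, ∃ β, Map F (T ⊔ A) β ∧ (∀ x ∈ T, β x = av α x) ∧ ∀ a ∈ A, β a ∈ A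
  base : ∀ P f, thompsonSubgroupAOf T ≤ P → P ≤ T → Map E P f →
    im (thompsonSubgroupAOf T) f = thompsonSubgroupAOf T → Good F A P f
  central : A ⊓ T ≤ E.center

variable (F E A) in
/-- All maps of `E` stabilising `X` are good. -/
def Stab (X : Subgroup Ω) : Prop :=
  ∀ P f, X ≤ P → P ≤ normalizerIn T X → Map E P f → im X f = X → Good F A P f

omit [Fact p.Prime] in
theorem Hyp.autT (hH : Hyp F E A) (hS : IsPGroup p S) (hTS : T ≤ S) [Fact p.Prime] {α : MulAut T}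
    (hα : α ∈ E.autGroup T) : Good F A T (av α) := by
  haveI := finite_of_le hTS
  refine hH.base T _ (Subgroup.map_subtype_le _) le_rfl (map_of_mem_autGroup le_rfl hα) ?_
  exact im_functor (W := wJA) (F := E) (hS.to_le hTS) (isCharPFunctor_wJA (p := p)).2
    (map_of_mem_autGroup le_rfl hα) (im_av α)

/-- Maps with large domains are good. -/
theorem good_of_big (hS : IsPGroup p S) (hE : E.IsWeaklyNormalIn F p) (hH : Hyp F E A) {c : ℕ}
    (ih : ∀ X, E.IsFullyNormalized X → E.IsCentric X → c < Nat.card ↥(normalizerIn T X) → Stab F E A X)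
    (hf : Map E P f) (hc : c ≤ Nat.card P) : Good F A P f := by
  obtain ⟨hEs, hF, hEi⟩ := id hE
  have hTS := hEi.2.1.1
  haveI := finite_of_le hTS
  refine alperin (hS.to_le hTS) hEs (K := fun P f => c ≤ Nat.card P → Good F A P f) ?_ ?_ P f hf hc
  · refine ⟨fun h he hc => (h hc).congr he, ?_, ?_, ?_⟩
    · intro X X' f hf h hX hc
      haveI := finite_of_le hf.le
      exact (h (hc.trans (Subgroup.card_le_of_le hX))).restrict hX
    · intro X X' f g hf hg h h' hm hc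
      haveI := finite_of_le hg.le
      exact (h hc).comp (h' (hc.trans (hf.card_le hm))) hm
    · intro X f g hf h hg hc
      exact (h (hf.card_im ▸ hc)).inv hg
  · intro X hX α hα hc
    by_cases hXT : X = T
    · subst hXT
      exact hH.autT hS hTS hα
    obtain ⟨hXc, hXn, -⟩ := hX.resolve_left hXT
    haveI := finite_of_le hXc.1
    have hlt : c < Nat.card ↥(normalizerIn T X) := hc.trans_lt (card_lt_of_lt
      (lt_normalizerIn (hS.to_le hTS) (lt_of_le_of_ne hXc.1 hXT)) inf_le_left)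
    exact ih X hXn hXc hlt X _ le_rfl (le_normalizerIn hXc.1) (map_of_mem_autGroup hXc.1 hα) (im_av α)

/-- Automorphisms in `E` of subgroups with large normalizer are good. -/
theorem good_of_normalizer (hS : IsPGroup p S) (hE : E.IsWeaklyNormalIn F p) (hH : Hyp F E A) {c : ℕ}
    (ih : ∀ X, E.IsFullyNormalized X → E.IsCentric X → c < Nat.card ↥(normalizerIn T X) → Stab F E A X)
    (hU : U ≤ T) (hc : c < Nat.card ↥(normalizerIn T U)) (hf : Map E U f) (hfU : im U f = U) :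
    Good F A U f := by
  obtain ⟨hEs, hF, hEi⟩ := id hE
  have hTS := hEi.2.1.1
  haveI := finite_of_le hTS
  have hT := hS.to_le hTS
  have hbig : ∀ {P f}, Map E P f → c ≤ Nat.card P → Good F A P f := fun h h' => good_of_big hS hE hH ih h h'
  obtain ⟨U', hconj, hU'⟩ := exists_fullyNormalized (F := E) hU
  obtain ⟨ψ, hψ, -, hψU⟩ := exists_map_normalizer_fn hT hEs hU' hconj
  have hψg := hbig hψ hc.le
  have hψU' := hψ.restrict (le_normalizerIn hU)
  obtain ⟨ψi, hψi, hψψ, hψi2, hψii⟩ := hψU'.exists_inv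
  have hψig : Good F A (im U ψ) ψi := (hψg.restrict (le_normalizerIn hU)).inv hψψ
  rw [hψU] at hψi hψi2 hψii hψig
  have h1 : ∀ y ∈ U', f (ψi y) ∈ U := fun y hy => hfU.le (mem_im_of_mem (hψi2 y hy).2)
  have hβ : Map E U' (ψ ∘ f ∘ ψi) := (hψi.comp hf fun y hy => (hψi2 y hy).2).comp hψU' h1
  have hβi : im U' (ψ ∘ f ∘ ψi) = U' := by
    haveI := finite_of_le hU'.1
    exact Subgroup.eq_of_le_of_card_ge (im_le_iff.2 fun y hy => hψU.le (mem_im_of_mem (h1 y hy))) hβ.card_im.ge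
  have hU'fc := (fc_fa_of_fn hT hEs hU').1
  obtain ⟨γ, hγ, hγβ⟩ := (receptive_iff.1 (receptive_of_fc hT hEs hU'fc)).2 U' _ hβ hβi
  have hγ' := hγ.restrict (sup_le (le_Nf hβ) centralizerIn_le_Nf)
  have hU₂T : U' ⊔ centralizerIn T U' ≤ T := sup_le hU'.1 inf_le_left
  haveI := finite_of_le hU₂T
  have hγU₂ : im (U' ⊔ centralizerIn T U') γ = U' ⊔ centralizerIn T U' :=
    Subgroup.eq_of_le_of_card_ge (hγ'.im_sup_le.trans (sup_le
      (((im_congr hγβ).trans hβi).le.trans le_sup_left) ((im_le_iff.2 fun y hy => by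
        have h1 := hγ'.mem_centralizer (le_sup_left : U' ≤ _) (Subgroup.mem_sup_right hy) (mem_centralizerIn.1 hy).2
        rwa [(im_congr hγβ).trans hβi] at h1).trans le_sup_right))) hγ'.card_im.ge
  have hU₂c : E.IsCentric (U' ⊔ centralizerIn T U') := isCentric_sup_centralizer hU'fc
  have hN : normalizerIn T U' ≤ normalizerIn T (U' ⊔ centralizerIn T U') := by
    intro s hs
    have h2 := normalizerIn_hat T hU'.1
    exact ⟨hs.1, ((h2.ge hs).2)⟩
  obtain ⟨U₃, hconj₃, hU₃⟩ := exists_fullyNormalized (F := E) hU₂T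
  obtain ⟨ψ₂, hψ₂, -, hψ₂U⟩ := exists_map_normalizer_fn hT hEs hU₃ hconj₃
  have hcard : c < Nat.card ↥(normalizerIn T (U' ⊔ centralizerIn T U')) :=
    hc.trans_le ((hU'.2 _ (isConj_symm hconj)).trans (Subgroup.card_le_of_le hN))
  have hψ₂g := (hbig hψ₂ hcard.le).restrict (le_normalizerIn hU₂T)
  have hψ₂' := hψ₂.restrict (le_normalizerIn hU₂T)
  obtain ⟨χ, hχ, hχψ, hχ2, hχi⟩ := hψ₂'.exists_inv
  have hχg : Good F A (im (U' ⊔ centralizerIn T U') ψ₂) χ := hψ₂g.inv hχψ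
  rw [hψ₂U] at hχ hχ2 hχi hχg
  have h2 : ∀ y ∈ U₃, γ (χ y) ∈ U' ⊔ centralizerIn T U' := fun y hy => hγU₂.le (mem_im_of_mem (hχ2 y hy).2)
  have hδ : Map E U₃ (ψ₂ ∘ γ ∘ χ) := (hχ.comp hγ' fun y hy => (hχ2 y hy).2).comp hψ₂' h2
  have hδi : im U₃ (ψ₂ ∘ γ ∘ χ) = U₃ := by
    haveI := finite_of_le hU₃.1
    exact Subgroup.eq_of_le_of_card_ge (im_le_iff.2 fun y hy => hψ₂U.le (mem_im_of_mem (h2 y hy))) hδ.card_im.ge
  have hU₃c : E.IsCentric U₃ := ⟨hU₃.1, fun Q hQ => hU₂c.2 Q (isConj_trans hconj₃ hQ)⟩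
  have hδg : Good F A U₃ (ψ₂ ∘ γ ∘ χ) := ih U₃ hU₃ hU₃c
    (hcard.trans_le (hU₃.2 _ (isConj_symm hconj₃))) U₃ _ le_rfl (le_normalizerIn hU₃.1) hδ hδi
  have hγg : Good F A (U' ⊔ centralizerIn T U') γ := by
    refine (((hψ₂g.comp hδg fun y hy => hψ₂U.le (mem_im_of_mem hy)).comp hχg fun y hy =>
      hδi.le (mem_im_of_mem (hψ₂U.le (mem_im_of_mem hy))))).congr fun y hy => ?_
    show χ (ψ₂ (γ (χ (ψ₂ y)))) = γ y
    rw [hχψ y hy, hχψ _ (hγU₂.le (mem_im_of_mem hy))]
  have hβg : Good F A U' (ψ ∘ f ∘ ψi) := (hγg.restrict le_sup_left).congr hγβ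
  refine (((hψg.restrict (le_normalizerIn hU)).comp hβg fun y hy => hψU.le (mem_im_of_mem hy)).comp hψig
    fun y hy => hβi.le (mem_im_of_mem (hψU.le (mem_im_of_mem hy)))).congr fun y hy => ?_
  show ψi (ψ (f (ψi (ψ y)))) = f y
  rw [hψψ y hy, hψψ _ (hfU.le (mem_im_of_mem hy))]

/-- A map on `N_T(X)` to the normalizer of a fully normalized conjugate in `F`. -/
theorem exists_to_fn (hS : IsPGroup p S) (hE : E.IsWeaklyNormalIn F p) (hX : X ≤ T) :
    ∃ R, F.IsFullyNormalized R ∧ ∃ α ∈ F.autGroup T, ∃ g, Map E (normalizerIn T X) g ∧ R ≤ T ∧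
      im (im X g) (av α) = R := by
  obtain ⟨-, hF, hEi⟩ := id hE
  obtain ⟨R, hconj, hR⟩ := exists_fullyNormalized (F := F) (hX.trans hEi.2.1.1)
  obtain ⟨u, hu, -, huX⟩ := exists_map_normalizer_fn hS hF hR hconj
  have hle : normalizerIn T X ≤ normalizerIn S X := inf_le_inf_right _ hEi.2.1.1
  obtain ⟨α, hα, g, hg, he⟩ := frattini_map hEi inf_le_left (hu.restrict hle)
  have hgX := hg.restrict (le_normalizerIn hX)
  have hRe : im (im X g) (av α) = R := by
    rw [← hgX.im_comp, ← huX]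
    exact im_congr fun x hx => (he x (le_normalizerIn hX hx)).symm
  refine ⟨R, hR, α, hα, g, hg, hRe ▸ im_le_iff.2 fun x hx => av_mem α ?_, hRe⟩
  exact hgX.im_le hx

/-- Inside the local model: `N_H(J(N_T(R)))` moves `A` inside the centre of `E`. -/
theorem shift_mem_center (hS : IsPGroup p S) (hE : E.IsWeaklyNormalIn F p) (hH : Hyp F E A)
    (hU : U ≤ T) {a y : Ω} (ha : a ∈ A) (hy : y ∈ U) {k f : Ω → Ω}
    (hk : Map F (U ⊔ A) k) (hku : ∀ u ∈ U, k u = f u) (hkA : ∀ b ∈ A, b⁻¹ * k b ∈ U)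
    (hka : k a = a * y) (hf : Map E U f) (hfU : im U f = U) (hfg : Good F A U f)
    (hbigU : ∀ g, Map E (normalizerIn T U) g → Good F A (normalizerIn T U) g) :
    y ∈ E.center := by
  obtain ⟨-, hF, hEi⟩ := id hE
  have hT := hEi.2.1
  haveI := finite_of_le hT.1
  obtain ⟨γ, hγ, hγf, hγA⟩ := hfg
  have hAS : A ≤ S := hH.le.trans inf_le_left
  have hUA : U ⊔ A ≤ S := sup_le (hU.trans hT.1) hAS
  haveI := finite_of_le hUA
  have hγY : im (U ⊔ A) γ = U ⊔ A := by
    refine Subgroup.eq_of_le_of_card_ge (hγ.im_sup_le.trans (sup_le_sup ((im_congr hγf).trans hfU).le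
      (im_le_iff.2 fun b hb => by rw [hγA b hb]; exact hb))) hγ.card_im.ge
  have hkY : ∀ z ∈ U ⊔ A, k z ∈ U ⊔ A := fun z hz => by
    refine (hk.im_sup_le.trans (sup_le ?_ (im_le_iff.2 fun b hb => ?_))) (mem_im_of_mem hz)
    · exact ((im_congr hku).trans hfU).le.trans le_sup_left
    · rw [show k b = b * (b⁻¹ * k b) by group]
      exact Subgroup.mul_mem _ (Subgroup.mem_sup_right hb) (Subgroup.mem_sup_left (hkA b hb))
  obtain ⟨γi, hγi, hγγ, hγ2, hγii⟩ := hγ.exists_inv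
  rw [hγY] at hγi hγ2 hγii
  have hκm : Map F (U ⊔ A) (γi ∘ k) := hk.comp hγi hkY
  have hκi : im (U ⊔ A) (γi ∘ k) = U ⊔ A := Subgroup.eq_of_le_of_card_ge
    (im_le_iff.2 fun z hz => (hγ2 _ (hkY z hz)).2) hκm.card_im.ge
  have hκU : ∀ u ∈ U, γi (k u) = u := fun u hu => by
    rw [hku u hu, ← hγf u hu, hγγ u (Subgroup.mem_sup_left hu)]
  have hγiU : ∀ u ∈ U, γi u ∈ U := fun u hu => by
    obtain ⟨w, hw, rfl⟩ := hf.mem_im.1 (hfU.ge hu)
    rw [← hγf w hw, hγγ w (Subgroup.mem_sup_left hw)]; exact hw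
  have hκA : ∀ b ∈ A, γi (k b) = b * γi (b⁻¹ * k b) := fun b hb => by
    conv_lhs => rw [show k b = b * (b⁻¹ * k b) by group]
    rw [hγi.map_mul (Subgroup.mem_sup_right hb) (Subgroup.mem_sup_left (hkA b hb))]
    congr 1
    conv_lhs => rw [← hγA b hb]
    exact hγγ b (Subgroup.mem_sup_right hb)
  -- transport to a fully normalized conjugate
  obtain ⟨U', hU', α, hα, g, hg, hU'T, hU'e⟩ := exists_to_fn hS hE hU
  obtain ⟨β, hβ, hβT, hβA⟩ := hH.aut α hα
  obtain ⟨G', hG', hG'g, hG'A⟩ := hbigU g hg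
  have hUN : U ≤ normalizerIn T U := le_normalizerIn hU
  have hdom : U ⊔ A ≤ normalizerIn T U ⊔ A := sup_le_sup_right hUN A
  have hG'T : ∀ z ∈ normalizerIn T U ⊔ A, G' z ∈ T ⊔ A := fun z hz => by
    refine (hG'.im_sup_le.trans (sup_le_sup (im_le_iff.2 fun x hx => ?_) (im_le_iff.2 fun b hb => ?_)))
      (mem_im_of_mem hz)
    · rw [hG'g x hx]; exact hg.mem hx
    · rw [hG'A b hb]; exact hb
  have hΦ : Map F (U ⊔ A) (β ∘ G') := (hG'.restrict hdom).comp hβ fun z hz => hG'T z (hdom hz)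
  have hΦU : ∀ u ∈ U, (β ∘ G') u = av α (g u) := fun u hu => by
    show β (G' u) = _
    rw [hG'g u (hUN hu), hβT _ (hg.mem (hUN hu))]
  have hΦU' : im U (β ∘ G') = U' := by
    rw [im_congr hΦU, ← hU'e, ← (hg.restrict hUN).im_comp]
    rfl
  have hΦA : ∀ b ∈ A, (β ∘ G') b ∈ A := fun b hb => by
    show β (G' b) ∈ A
    rw [hG'A b hb]; exact hβA b hb
  set Y' := im (U ⊔ A) (β ∘ G') with hY'
  have hY'eq : Y' = U' ⊔ A := by
    have hβA' : im A β = A := by
      haveI := finite_of_le hAS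
      exact Subgroup.eq_of_le_of_card_ge (im_le_iff.2 hβA) (hβ.restrict le_sup_right).card_im.ge
    refine le_antisymm (hΦ.im_sup_le.trans (sup_le_sup hΦU'.le (im_le_iff.2 hΦA))) (sup_le
      (hΦU'.ge.trans (im_mono le_sup_left)) ?_)
    have : im A (β ∘ G') = A := (im_congr fun b hb => congrArg β (hG'A b hb)).trans hβA'
    exact this.ge.trans (im_mono le_sup_right)
  obtain ⟨e, he⟩ := exists_equiv hΦ rfl
  obtain ⟨κ, hκ, hκe⟩ := exists_aut hκm hκi
  have hκ' := congr_mem_autGroup hΦ rfl he hκ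
  have h1 : ∀ r ∈ U', av (MulAut.congr e κ) r = r := fun r hr => by
    obtain ⟨u, hu, rfl⟩ := (hΦ.restrict le_sup_left).mem_im.1 (hΦU'.ge hr)
    rw [av_congr_apply he κ (Subgroup.mem_sup_left hu), hκe u (Subgroup.mem_sup_left hu),
      show (γi ∘ k) u = u from hκU u hu]
  have hAnorm : A ≤ Subgroup.normalizer (U : Set Ω) := fun b hb =>
    Subgroup.centralizer_le_normalizer _ (Subgroup.mem_centralizer_iff.2 fun u hu =>
      (mem_centralizerIn.1 (hH.le hb)).2 u (hU hu))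
  have h2 : ∀ z ∈ Y', z⁻¹ * av (MulAut.congr e κ) z ∈ U' := fun z hz => by
    obtain ⟨w, hw, rfl⟩ := hΦ.mem_im.1 hz
    rw [av_congr_apply he κ hw, hκe w hw, ← hΦ.map_inv hw,
      ← hΦ.map_mul ((U ⊔ A).inv_mem hw) (hκi.le (mem_im_of_mem hw))]
    refine hΦU'.le (mem_im_of_mem ?_)
    have hw' := hw
    rw [← SetLike.mem_coe, Subgroup.coe_mul_of_right_le_normalizer_left U A hAnorm] at hw'
    obtain ⟨u, hu, b, hb, rfl⟩ := hw'
    show (u * b)⁻¹ * (γi (k (u * b))) ∈ U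
    rw [hk.map_mul (Subgroup.mem_sup_left hu) (Subgroup.mem_sup_right hb),
      hγi.map_mul (hkY u (Subgroup.mem_sup_left hu)) (hkY b (Subgroup.mem_sup_right hb)), hκU u hu,
      hκA b hb, show (u * b)⁻¹ * (u * (b * γi (b⁻¹ * k b))) = γi (b⁻¹ * k b) by group]
    exact hγiU _ (hkA b hb)
  have hU'S : U' ≤ S := hU'.1
  have hY'N : Y' ≤ normalizerIn S U' := hY'eq.le.trans (sup_le (le_normalizerIn hU'S) fun b hb =>
    centralizerIn_le_normalizerIn (mem_centralizerIn.2 ⟨hAS hb, fun u hu =>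
      (mem_centralizerIn.1 (hH.le hb)).2 u (hU'T hu)⟩))
  have hC : ∀ s ∈ centralizerIn S U', s ∈ Subgroup.normalizer (Y' : Set Ω) := fun s hs => by
    refine mem_normalizer_of_conj_mem (hY'N.trans inf_le_left) fun z hz => ?_
    have hle : U' ⊔ A ≤ (U' ⊔ A).comap (MulAut.conj s).toMonoidHom := sup_le
      (fun u hu => Subgroup.mem_sup_left (conj_mem_of_normalizer (centralizerIn_le_normalizerIn hs).2 hu))
      fun b hb => Subgroup.mem_sup_right (hH.conj s hs.1 b hb)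
    rw [hY'eq] at hz ⊢
    exact hle hz
  obtain ⟨s, hs, hse⟩ := stab_eq_autS hS hF hU' (hY'eq.ge.trans' le_sup_left) hY'N hC hκ' h1 h2
  have hwU : γi y ∈ U := hγiU y hy
  obtain ⟨w, hw⟩ : ∃ w, w = γi y := ⟨_, rfl⟩
  rw [← hw] at hwU
  have haY : a ∈ U ⊔ A := Subgroup.mem_sup_right ha
  have h3 := hse _ (mem_im_of_mem (f := β ∘ G') haY)
  rw [av_congr_apply he κ haY, hκe a haY] at h3
  have h4 : γi (k a) = a * w := by
    rw [hκA a ha, hka, inv_mul_cancel_left, hw]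
  rw [show (γi ∘ k) a = a * w from h4, hΦ.map_mul haY (Subgroup.mem_sup_left hwU)] at h3
  have he1 : (β ∘ G') w ∈ A := by
    rw [show (β ∘ G') w = ((β ∘ G') a)⁻¹ * (s * (β ∘ G') a * s⁻¹) by rw [← h3, inv_mul_cancel_left]]
    exact A.mul_mem (A.inv_mem (hΦA a ha)) (hH.conj s hs.1 _ (hΦA a ha))
  -- pull back into `A`
  have hgwT : g w ∈ T := hg.mem (hUN hwU)
  have hgwA : g w ∈ A := by
    have hβA' : im A β = A := by
      haveI := finite_of_le hAS
      exact Subgroup.eq_of_le_of_card_ge (im_le_iff.2 hβA) (hβ.restrict le_sup_right).card_im.ge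
    obtain ⟨b, hb, hbe⟩ := (hβ.restrict le_sup_right).mem_im.1 (hβA'.ge he1)
    have : b = g w := hβ.injOn (Subgroup.mem_sup_right hb) (Subgroup.mem_sup_left hgwT)
      (hbe.trans (by show β (G' w) = β (g w); rw [hG'g w (hUN hwU)]))
    exact this ▸ hb
  have hgwZ : g w ∈ E.center := hH.central ⟨hgwA, hgwT⟩
  obtain ⟨gi, hgi, hgg, -, -⟩ := hg.exists_inv
  have hwz : g w = w := by
    have h5 := center_fixed E hgwZ hgi (mem_im_of_mem (hUN hwU))
    rw [hgg w (hUN hwU)] at h5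
    exact h5.symm
  rw [hwz] at hgwZ
  have h6 : f w = y := by
    rw [← hγf w hwU, hw]
    exact (hγ2 y (Subgroup.mem_sup_left hy)).1
  rw [center_fixed E hgwZ hf hwU] at h6
  exact h6 ▸ hgwZ

/-- Every map of `E` stabilising a fully normalized centric `R` in `F` is good, given this above. -/
theorem stab_of_fn (hS : IsPGroup p S) (hp2 : p ≠ 2) (hE : E.IsWeaklyNormalIn F p) (hH : Hyp F E A)
    (hR : F.IsFullyNormalized R) (hRc : E.IsCentric R)
    (ih : ∀ X, E.IsFullyNormalized X → E.IsCentric X →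
      Nat.card ↥(normalizerIn T R) < Nat.card ↥(normalizerIn T X) → Stab F E A X) :
    Stab F E A R := by
  obtain ⟨hEs, hF, hEi⟩ := id hE
  have hT := hEi.2.1
  have hTS := hT.1
  haveI := finite_of_le hTS
  have hTp := hS.to_le hTS
  have hRT := hRc.1
  haveI : Finite ↥(normalizerIn T R) := finite_normalizerIn
  haveI : Finite ↥(normalizerIn S R) := finite_normalizerIn
  obtain ⟨G, _, ι, H, hL, hfac⟩ := exists_localModel_step hS hE hR hRc
  haveI := hL.finite
  haveI := hL.normal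
  haveI := hL.normalR
  have hbig : ∀ {P f}, Map E P f → Nat.card ↥(normalizerIn T R) ≤ Nat.card P → Good F A P f :=
    fun h h' => good_of_big hS hE hH ih h h'
  have hVN : normalizerIn T R ≤ normalizerIn S R := inf_le_inf_right _ hTS
  have hAN : A ≤ normalizerIn S R := fun a ha => centralizerIn_le_normalizerIn
    (mem_centralizerIn.2 ⟨(hH.le ha).1, fun r hr => (mem_centralizerIn.1 (hH.le ha)).2 r (hRT hr)⟩)
  set U := thompsonSubgroupAOf (normalizerIn T R) with hUdef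
  have hUV : U ≤ normalizerIn T R := Subgroup.map_subtype_le _
  have hUT : U ≤ T := hUV.trans inf_le_left
  have hUN : U ≤ normalizerIn S R := hUV.trans hVN
  haveI := finite_of_le (hUT.trans hTS)
  have hVNU : normalizerIn T R ≤ normalizerIn T U := fun x hx =>
    normalizer_le_functor hTp (isCharPFunctor_wJA (p := p)).2 (inf_le_left : normalizerIn T R ≤ T)
      ⟨hx.1, Subgroup.le_normalizer hx⟩
  have hbigU : ∀ g, Map E (normalizerIn T U) g → Good F A (normalizerIn T U) g := fun g hg =>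
    hbig hg (by haveI := finite_of_le (inf_le_left.trans hTS : normalizerIn T U ≤ S)
                exact Subgroup.card_le_of_le hVNU)
  have hautU : ∀ f, Map E U f → im U f = U → Good F A U f := by
    intro f hf hfU
    rcases eq_or_lt_of_le (inf_le_left : normalizerIn T R ≤ T) with hVT | hVT
    · have hUJ : U = thompsonSubgroupAOf T := by rw [hUdef, show normalizerIn T R = T from hVT]
      exact hH.base U f hUJ.ge hUT hf (hUJ ▸ hfU)
    · exact good_of_normalizer hS hE hH ih hUT (card_lt_of_lt ((lt_normalizerIn hTp hVT).trans_le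
        (normalizer_le_functor hTp (isCharPFunctor_wJA (p := p)).2 hVT.le)) inf_le_left) hf hfU
  obtain ⟨V', hV'⟩ : ∃ V', V' = imG ι (normalizerIn T R) := ⟨_, rfl⟩
  obtain ⟨N, hN⟩ : ∃ N, N = H ⊓ Subgroup.normalizer (imG ι U : Set G) := ⟨_, rfl⟩
  have hUT' : thompsonSubgroupAOf V' = imG ι U := by
    rw [hV', imG, thompsonAOf_map ι hL.inj, thompsonAOf_subgroupOf _ _ hVN]
  have hcen : ∀ a : ↥(normalizerIn S R), (a : Ω) ∈ A → ∀ h ∈ H, h * ι a = ι a * h := by
    intro a ha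
    obtain ⟨z, hzR, hzV, hzc⟩ := exists_shift_central hS hL hTS hRT (hH.le ha) a.2
    have haV : ∀ v ∈ imG ι (normalizerIn T R), v * ι a = ι a * v := by
      rintro _ ⟨v, hv, rfl⟩
      rw [← map_mul, ← map_mul]
      exact congrArg ι (Subtype.ext ((mem_centralizerIn.1 (hH.le ha)).2 v hv.1))
    -- the shifts of `N_H(U)`
    have hshift : ∀ n ∈ N, ∀ b : ↥(normalizerIn S R), (b : Ω) ∈ A →
        ∃ y : ↥(normalizerIn S R), n * ι b * n⁻¹ = ι b * ι y ∧ (y : Ω) ∈ U ∧ (y : Ω) ∈ R := by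
      intro n hn b hb
      rw [hN] at hn
      obtain ⟨z', hz'R, -, hz'c⟩ := exists_shift_central hS hL hTS hRT (hH.le hb) b.2
      have hbR : ∀ r ∈ imG ι U, r * ι b = ι b * r := by
        rintro _ ⟨r, hr, rfl⟩
        rw [← map_mul, ← map_mul]
        exact congrArg ι (Subtype.ext ((mem_centralizerIn.1 (hH.le hb)).2 r (hUT hr)))
      have h1 : n * ι b * n⁻¹ = ι b * (ι z' * (n * (ι z')⁻¹ * n⁻¹)) := by
        calc n * ι b * n⁻¹ = n * (ι b * ι z') * (ι z')⁻¹ * n⁻¹ := by group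
          _ = ι b * ι z' * n * (ι z')⁻¹ * n⁻¹ := by rw [hz'c n hn.1]
          _ = _ := by group
      obtain ⟨y, hy, hye⟩ : ι z' * (n * (ι z')⁻¹ * n⁻¹) ∈ imG ι R :=
        (imG ι R).mul_mem ⟨z', hz'R, rfl⟩ (Subgroup.Normal.conj_mem inferInstance _
          ((imG ι R).inv_mem ⟨z', hz'R, rfl⟩) n)
      rw [← hye] at h1
      refine ⟨y, h1, ?_, hy⟩
      refine mem_thompsonAOf (H := normalizerIn T R) (le_normalizerIn hRT hy) fun u hu => ?_
      have huι : ι ⟨u, hUN hu⟩ ∈ imG ι U := ⟨_, hu, rfl⟩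
      have h2 : n⁻¹ * ι ⟨u, hUN hu⟩ * n ∈ imG ι U := by
        simpa using conj_mem_of_normalizer (Subgroup.inv_mem _ hn.2) huι
      have h3 : ι ⟨u, hUN hu⟩ * (n * ι b * n⁻¹) = n * ι b * n⁻¹ * ι ⟨u, hUN hu⟩ := by
        calc ι ⟨u, hUN hu⟩ * (n * ι b * n⁻¹) = n * ((n⁻¹ * ι ⟨u, hUN hu⟩ * n) * ι b) * n⁻¹ := by group
          _ = n * (ι b * (n⁻¹ * ι ⟨u, hUN hu⟩ * n)) * n⁻¹ := by rw [hbR _ h2]
          _ = _ := by group
      rw [h1, ← mul_assoc, hbR _ huι, mul_assoc, mul_assoc, mul_right_inj, ← map_mul, ← map_mul] at h3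
      exact congrArg Subtype.val (hL.inj h3)
    -- they are central in `E`
    have hy : ∀ n ∈ N, ∀ y : ↥(normalizerIn S R), n * ι a * n⁻¹ = ι a * ι y → (y : Ω) ∈ U →
        (y : Ω) ∈ E.center := by
      intro n hn y hye hyU
      have hnN := hN ▸ hn
      have hrange : (U ⊔ A).subgroupOf (normalizerIn S R) ≤
          (ι.range.comap (MulAut.conj n).toMonoidHom).comap ι := by
        rw [Subgroup.subgroupOf_sup hUN hAN]
        refine sup_le (fun x hx => ?_) fun x hx => ?_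
        · exact Subgroup.map_le_range ι _ (conj_mem_of_normalizer hnN.2 ⟨x, hx, rfl⟩)
        · obtain ⟨y', hy', -⟩ := hshift n hn x hx
          exact ⟨x * y', by rw [map_mul]; exact hy'.symm⟩
      obtain ⟨k, hk, hkR, hkc⟩ := hL.mapG (U ⊔ A) (sup_le hUN hAN) n fun x hx => hrange hx
      obtain ⟨f, hf, hfR, hfc⟩ := hL.mapH U hUV n hnN.1 fun x hx =>
        Subgroup.map_mono (Subgroup.comap_mono hUV) (conj_mem_of_normalizer hnN.2 ⟨x, hx, rfl⟩)
      have hkN : ∀ x ∈ U ⊔ A, k x ∈ normalizerIn S R := fun x hx => by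
        have := hk.mem_normalizer le_sup_right (Subgroup.mem_sup_left hx) ((sup_le hUN hAN) hx).2
        rwa [hkR] at this
      have hfN : ∀ x ∈ U, f x ∈ normalizerIn S R := fun x hx => by
        have := (hf.of_sub hEi.1).mem_normalizer le_sup_right (Subgroup.mem_sup_left hx) (hUN hx).2
        rwa [hfR] at this
      have hkf : ∀ u ∈ U, k u = f u := fun u hu => by
        have h1 := hkc.val (Subgroup.mem_sup_left hu) (hUN hu) (hkN u (Subgroup.mem_sup_left hu))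
        rw [← hfc.val hu (hUN hu) (hfN u hu)] at h1
        exact congrArg Subtype.val (hL.inj h1)
      have hfU' : ∀ u ∈ U, f u ∈ U := fun u hu => by
        obtain ⟨w, hw, hwe⟩ := conj_mem_of_normalizer hnN.2
          (show ι ⟨u, hUN hu⟩ ∈ imG ι U from ⟨_, hu, rfl⟩)
        rw [← hfc.val hu (hUN hu) (hfN u hu)] at hwe
        rw [show f u = (w : Ω) from (congrArg Subtype.val (hL.inj hwe) :).symm]
        exact hw
      have hfm : Map E U f := hf.restrict le_sup_left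
      have hfU : im U f = U := Subgroup.eq_of_le_of_card_ge (im_le_iff.2 hfU') hfm.card_im.ge
      have hkA : ∀ (b : Ω) (hb : b ∈ A) (y' : ↥(normalizerIn S R)),
          n * ι ⟨b, hAN hb⟩ * n⁻¹ = ι ⟨b, hAN hb⟩ * ι y' → k b = b * y' := fun b hb y' he => by
        have h1 := hkc.val (Subgroup.mem_sup_right hb) (hAN hb) (hkN b (Subgroup.mem_sup_right hb))
        rw [he, ← map_mul] at h1
        exact congrArg Subtype.val (hL.inj h1)
      refine shift_mem_center hS hE hH hUT ha hyU (hk.restrict le_sup_left) hkf (fun b hb => ?_)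
        (hkA a ha y hye) hfm hfU (hautU f hfm hfU) hbigU
      obtain ⟨y', hy', hy'U, -⟩ := hshift n hn ⟨b, hAN hb⟩ hb
      rw [hkA b hb y' hy', inv_mul_cancel_left]
      exact hy'U
    -- the shift map is a homomorphism to a centre
    have hycen : ∀ y : ↥(normalizerIn S R), (y : Ω) ∈ R → (y : Ω) ∈ E.center → ∀ h ∈ H, h * ι y * h⁻¹ = ι y := by
      intro y hyR hyZ h hh
      obtain ⟨f, hf, hfR, hfc⟩ := hL.mapH R (le_normalizerIn hRT) h hh fun x hx =>
        Subgroup.map_mono (Subgroup.comap_mono (le_normalizerIn hRT))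
          (Subgroup.Normal.conj_mem hL.normalR _ ⟨x, hx, rfl⟩ h)
      have hfy : f y = y := center_fixed E hyZ hf (Subgroup.mem_sup_left hyR)
      exact (hfc y hyR y hfy.symm).symm
    have hδ : ∀ n ∈ N, n * ι a = ι a * n := by
      have hsyl : SylIn p (imG ι (normalizerIn T R)) N := by
        refine hL.syl.mono (hN ▸ le_inf hL.syl.le ?_) (hN ▸ inf_le_left)
        rintro _ ⟨x, hx, rfl⟩
        refine Subgroup.le_normalizer_map ι ⟨x, ?_, rfl⟩
        exact Subgroup.le_normalizer_comap _ ((hVNU hx).2)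
      obtain ⟨δ, hδdef⟩ : ∃ δ : G → G, δ = fun n => (ι a)⁻¹ * (n * ι a * n⁻¹) := ⟨_, rfl⟩
      have hδc : ∀ n ∈ N, ∀ h ∈ H, h * δ n * h⁻¹ = δ n := by
        intro n hn h hh
        obtain ⟨y, hye, hyU, hyR⟩ := hshift n hn a ha
        rw [show δ n = ι y by rw [hδdef]; show (ι a)⁻¹ * _ = _; rw [hye, inv_mul_cancel_left]]
        exact hycen y hyR (hy n hn y hye hyU) h hh
      have hδmul : ∀ m ∈ N, ∀ n ∈ N, δ (m * n) = δ m * δ n := by
        intro m hm n hn
        have h1 := hδc n hn m (hN ▸ hm).1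
        rw [hδdef] at h1 ⊢
        show (ι a)⁻¹ * (m * n * ι a * (m * n)⁻¹) = _
        calc (ι a)⁻¹ * (m * n * ι a * (m * n)⁻¹) =
            (ι a)⁻¹ * (m * ι a * m⁻¹) * (m * ((ι a)⁻¹ * (n * ι a * n⁻¹)) * m⁻¹) := by group
          _ = _ := by rw [h1]
      have hδone : δ 1 = 1 := by rw [hδdef]; simp
      have hδpow : ∀ n ∈ N, ∀ i : ℕ, δ (n ^ i) = δ n ^ i := fun n hn i => by
        induction i with
        | zero => rw [pow_zero, pow_zero, hδone]
        | succ i ih => rw [pow_succ, hδmul _ (N.pow_mem hn i) n hn, ih, pow_succ]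
      have hδV : ∀ v ∈ imG ι (normalizerIn T R), δ v = 1 := fun v hv => by
        rw [hδdef]
        show (ι a)⁻¹ * (v * ι a * v⁻¹) = 1
        rw [haV v hv, mul_inv_cancel_right, inv_mul_cancel]
      intro n hn
      obtain ⟨k, m, hm, hkm⟩ := Nat.exists_eq_pow_mul_and_not_dvd (orderOf_pos n).ne' p
        (Fact.out : p.Prime).ne_one
      have hpg : IsPGroup p (Subgroup.zpowers (n ^ m)) := IsPGroup.of_card (n := k) (by
        rw [Nat.card_zpowers, orderOf_pow, hkm, Nat.gcd_mul_left_left,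
          Nat.mul_div_cancel _ (Nat.pos_of_ne_zero fun h => hm (by rw [h]; exact dvd_zero p))])
      obtain ⟨g, hg, hle⟩ := hsyl.conj_le hpg (Subgroup.zpowers_le.2 (N.pow_mem hn m))
      have h1 : δ (g * n ^ m * g⁻¹) = 1 := hδV _ (hle (conj_mem_cj (Subgroup.mem_zpowers _)))
      rw [hδmul _ (N.mul_mem hg (N.pow_mem hn m)) _ (N.inv_mem hg), hδmul _ hg _ (N.pow_mem hn m)] at h1
      have h2 : δ g * δ g⁻¹ = 1 := by
        rw [← hδmul _ hg _ (N.inv_mem hg), mul_inv_cancel, hδone]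
      have h3 : δ (n ^ m) = 1 := by
        have h4 : δ g⁻¹ = (δ g)⁻¹ := eq_inv_of_mul_eq_one_right h2
        rw [h4, mul_inv_eq_one, mul_eq_left] at h1
        exact h1
      rw [hδpow n hn] at h3
      obtain ⟨y, hye, -, -⟩ := hshift n hn a ha
      have hdy : δ n = ι y := by rw [hδdef]; show (ι a)⁻¹ * _ = _; rw [hye, inv_mul_cancel_left]
      obtain ⟨j, hj⟩ := (show IsPGroup p ↥(normalizerIn S R) from hS.to_le inf_le_left) y
      have h5 : δ n ^ p ^ j = 1 := by rw [hdy, ← map_pow, hj, map_one]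
      have h6 : δ n = 1 := orderOf_eq_one_iff.1 (Nat.eq_one_of_dvd_coprimes
        (((Nat.Prime.coprime_iff_not_dvd Fact.out).2 hm).symm.pow_right j)
        (orderOf_dvd_of_pow_eq_one h3) (orderOf_dvd_of_pow_eq_one h5))
      rw [hδdef] at h6
      exact mul_inv_eq_iff_eq_mul.1 (inv_mul_eq_one.1 h6).symm
    -- Glauberman
    have hzN : ∀ n ∈ N, n * ι z = ι z * n := fun n hn => by
      have h1 := hzc n (hN ▸ hn).1
      rw [← mul_assoc, hδ n hn, mul_assoc, mul_assoc, mul_right_inj] at h1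
      exact h1
    have hzH : ∀ h ∈ H, h * ι z = ι z * h := by
      obtain ⟨P₀, hP₀⟩ := hL.syl.exists_sylow_subgroupOf
      have hVH := hL.syl.le
      have hRV : imG ι R ≤ imG ι (normalizerIn T R) := Subgroup.map_mono (Subgroup.comap_mono (le_normalizerIn hRT))
      have hRH : imG ι R ≤ H := hRV.trans hVH
      have hRcore : (imG ι R).subgroupOf H ≤ pCore p H :=
        le_sSup ⟨inferInstance, (hL.syl.isPGroup.to_le hRV).comap_subtype⟩
      have hzV : ι z ∈ H := hRH ⟨z, hzR, rfl⟩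
      intro h hh
      have key := glauberman_fixed (Nat.card H) H P₀ ⟨ι z, hzV⟩ le_rfl (fun c hc => hRcore
        (hL.centH ⟨c.2, Subgroup.mem_centralizer_iff.2 fun r hr => congrArg Subtype.val
          (Subgroup.mem_centralizer_iff.1 hc ⟨r, hRH hr⟩ (hRcore hr))⟩)) ?_ ?_ (Or.inl hp2) ⟨h, hh⟩
      · exact congrArg Subtype.val key
      · rw [hP₀]; exact hRV ⟨z, hzR, rfl⟩
      · intro g hg
        refine Subtype.ext (hzN g (hN ▸ ⟨g.2, ?_⟩))
        rw [hP₀, ← hV', thompsonAOf_subgroupOf V' H (hV' ▸ hVH), hUT'] at hg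
        have hUH : imG ι U ≤ H := (Subgroup.map_mono (Subgroup.comap_mono hUV)).trans hVH
        refine Subgroup.mem_normalizer_iff.2 fun x => ⟨fun hx => ?_, fun hx => ?_⟩
        · exact (Subgroup.mem_normalizer_iff.1 hg ⟨x, hUH hx⟩).1 hx
        · have hxH : x ∈ H := by
            simpa [mul_assoc] using H.mul_mem (H.mul_mem (H.inv_mem g.2) (hUH hx)) g.2
          exact (Subgroup.mem_normalizer_iff.1 hg ⟨x, hxH⟩).2 hx
    intro h hh
    have h1 := hzc h hh
    rw [mul_assoc (ι a) (ι z) h, ← hzH h hh, ← mul_assoc, ← mul_assoc, mul_left_inj] at h1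
    exact h1
  intro P f hRP hP hf hfR
  obtain ⟨α, f₁, hα, hf₁, he, h, hh, hc⟩ := hfac P f hP hRP hf hfR
  have hα' := hbig hα le_rfl
  exact ((good_of_conjs hL hH.le hRT hP hTS (fun x hx => hcen x hx h hh) (fun x hx => hVN (he x hx).1) hc).comp
    hα' fun x hx => (he x hx).1).congr fun x hx => (he x hx).2.symm

/-- Every map of `E` stabilising a fully normalized centric subgroup is good. -/
theorem stab_of_centric (hS : IsPGroup p S) (hp2 : p ≠ 2) (hE : E.IsWeaklyNormalIn F p) (hH : Hyp F E A) :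
    ∀ n X, E.IsFullyNormalized X → E.IsCentric X → Nat.card T - Nat.card ↥(normalizerIn T X) = n →
      Stab F E A X := by
  obtain ⟨hEs, hF, hEi⟩ := id hE
  have hTS := hEi.2.1.1
  haveI := finite_of_le hTS
  intro n
  induction n using Nat.strong_induction_on with
  | _ n ih =>
  intro X hX hXc hn
  have hXT := hXc.1
  have ih' : ∀ Y, E.IsFullyNormalized Y → E.IsCentric Y →
      Nat.card ↥(normalizerIn T X) < Nat.card ↥(normalizerIn T Y) → Stab F E A Y := fun Y hY hYc hlt => by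
    have h2 : Nat.card ↥(normalizerIn T Y) ≤ Nat.card T := Subgroup.card_le_of_le inf_le_left
    exact ih _ (by omega) Y hY hYc rfl
  obtain ⟨R, hR, α, hα, g, hg, hRT, hRe⟩ := exists_to_fn hS hE hXT
  have hgg := good_of_big hS hE hH ih' hg le_rfl
  have hαm := map_of_mem_autGroup hTS hα
  have hgX := hg.restrict (le_normalizerIn hXT)
  have hXg : E.IsConj X (im X g) := isConj_iff.2 ⟨g, hgX, rfl⟩
  have hgXc : E.IsCentric (im X g) := ⟨hgX.im_le, fun Q hQ => hXc.2 Q (isConj_trans hXg hQ)⟩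
  have hRc : E.IsCentric R := hRe ▸ centric_of_sub_map hEi hgXc (hαm.restrict hgX.im_le)
  have hle : Nat.card ↥(normalizerIn T R) ≤ Nat.card ↥(normalizerIn T X) := by
    refine le_trans ?_ (hX.2 _ hXg)
    haveI : Finite ↥(normalizerIn T (im X g)) := finite_normalizerIn
    have hm := map_of_mem_autGroup hTS ((F.autGroup T).inv_mem hα)
    refine (hm.restrict inf_le_left).card_le fun x hx => ⟨av_mem _ hx.1, ?_⟩
    have h1 := hm.mem_normalizer hRT hx.1 hx.2
    have hRi : im R (av α⁻¹) = im X g := by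
      rw [← hRe, ← (hαm.restrict hgX.im_le).im_comp,
        im_congr (f := av α⁻¹ ∘ av α) (g := id) fun y hy => av_inv_av α (hgX.im_le hy), im_id]
    rw [hRi] at h1
    exact h1.2
  have hge : Nat.card ↥(normalizerIn T X) ≤ Nat.card ↥(normalizerIn T R) := by
    haveI : Finite ↥(normalizerIn T R) := finite_normalizerIn
    refine (hg.of_sub hEi.1 |>.comp hαm fun x hx => hg.mem hx).card_le fun x hx => ⟨av_mem α (hg.mem hx), ?_⟩
    have h1 := ((hg.of_sub hEi.1).comp hαm fun x hx => hg.mem hx).mem_normalizer (le_normalizerIn hXT) hx hx.2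
    rw [(hgX.of_sub hEi.1).im_comp, hRe] at h1
    exact h1.2
  have hRstab : Stab F E A R := stab_of_fn hS hp2 hE hH hR hRc fun Y hY hYc hlt => ih' Y hY hYc (by omega)
  obtain ⟨β, hβ, hβT, hβA⟩ := hH.aut α hα
  intro P f hXP hP hf hfX
  obtain ⟨gi, hgi, hgig, hgi2, hgii⟩ := hg.exists_inv
  have hgPim : im P g ≤ im (normalizerIn T X) g := im_mono hP
  have hfP : ∀ x ∈ P, f x ∈ normalizerIn T X := fun x hx => by
    have h1 := hf.mem_normalizer hXP hx (hP hx).2
    rwa [hfX] at h1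
  have hgiP : ∀ y ∈ im P g, gi y ∈ P := fun y hy => by
    obtain ⟨x, hx, rfl⟩ := (hg.restrict hP).mem_im.1 hy
    rw [hgig x (hP hx)]; exact hx
  have hf₁ : Map E (im P g) (g ∘ f ∘ gi) :=
    ((hgi.restrict hgPim).comp hf hgiP).comp hg fun y hy => hfP _ (hgiP y hy)
  obtain ⟨h, hh, hhe⟩ := inv_map hEi hf₁ hα
  have hPT : im P g ≤ T := im_le_iff.2 fun x hx => hg.mem (hP hx)
  have hαP := hαm.restrict hPT
  have hgXP : im X g ≤ im P g := im_mono hXP
  have hgfX : ∀ x ∈ X, g (f x) ∈ im X g := fun x hx => mem_im_of_mem (hfX.le (mem_im_of_mem hx))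
  have hhR : im R h = R := by
    have hRle : R ≤ im (im P g) (av α) := hRe ▸ im_mono hgXP
    haveI := finite_of_le (hRT.trans hTS)
    refine Subgroup.eq_of_le_of_card_ge (im_le_iff.2 fun y hy => ?_) (hh.restrict hRle).card_im.ge
    obtain ⟨w, hw, rfl⟩ := (hαm.restrict hgX.im_le).mem_im.1 (hRe.ge hy)
    rw [hhe w (hgXP hw)]
    refine hRe.le (mem_im_of_mem ?_)
    obtain ⟨x, hx, rfl⟩ := hgX.mem_im.1 hw
    show g (f (gi (g x))) ∈ im X g
    rw [hgig x (le_normalizerIn hXT hx)]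
    exact hgfX x hx
  have hdom : im (im P g) (av α) ≤ normalizerIn T R := im_le_iff.2 fun y hy => by
    obtain ⟨x, hx, rfl⟩ := (hg.restrict hP).mem_im.1 hy
    refine ⟨av_mem α (hPT hy), ?_⟩
    have h1 := ((hg.of_sub hEi.1).comp hαm fun x hx => hg.mem hx).mem_normalizer (le_normalizerIn hXT) (hP hx) (hP hx).2
    rw [(hgX.of_sub hEi.1).im_comp, hRe] at h1
    exact h1.2
  obtain ⟨K, hK, hKh, hKA⟩ := hRstab _ h (hRe ▸ im_mono hgXP) hdom hh hhR
  -- pull back by `β`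
  obtain ⟨βi, hβi, hββ, hβ2, hβii⟩ := hβ.exists_inv
  have hAS : A ≤ S := hH.le.trans inf_le_left
  have hβA' : im A β = A := by
    haveI := finite_of_le hAS
    exact Subgroup.eq_of_le_of_card_ge (im_le_iff.2 hβA) (hβ.restrict le_sup_right).card_im.ge
  have hTA : im P g ⊔ A ≤ T ⊔ A := sup_le_sup_right hPT A
  have hβP : ∀ z ∈ im P g ⊔ A, β z ∈ im (im P g) (av α) ⊔ A := fun z hz => by
    refine ((hβ.restrict hTA).im_sup_le.trans (sup_le_sup ?_ hβA'.le)) (mem_im_of_mem hz)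
    exact (im_congr fun x hx => hβT x (hPT hx)).le
  have hKim : ∀ z ∈ im (im P g) (av α) ⊔ A, K z ∈ im (T ⊔ A) β := fun z hz => by
    refine (hK.im_sup_le.trans (sup_le ?_ ?_)) (mem_im_of_mem hz)
    · refine im_le_iff.2 fun x hx => ?_
      rw [hKh x hx, ← av_av_inv α (hh.mem hx), ← hβT _ (av_mem _ (hh.mem hx))]
      exact mem_im_of_mem (Subgroup.mem_sup_left (av_mem _ (hh.mem hx)))
    · exact (im_le_iff.2 fun b hb => by rw [hKA b hb]; exact hb).trans (hβA'.ge.trans (im_mono le_sup_right))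
  have hf₁g : Good F A (im P g) (g ∘ f ∘ gi) := by
    refine ⟨βi ∘ K ∘ β, ((hβ.restrict hTA).comp hK hβP).comp hβi fun z hz => hKim _ (hβP z hz),
      fun x hx => ?_, fun b hb => ?_⟩
    · show βi (K (β x)) = _
      rw [hβT x (hPT hx), hKh _ (mem_im_of_mem hx), hhe x hx, ← hβT _ (hf₁.mem hx)]
      exact hββ _ (Subgroup.mem_sup_left (hf₁.mem hx))
    · show βi (K (β b)) = b
      rw [hKA _ (hβA b hb)]
      exact hββ b (Subgroup.mem_sup_right hb)
  have hgig' : Good F A (im (normalizerIn T X) g) gi := hgg.inv hgig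
  refine (((hgg.restrict hP).comp hf₁g fun x hx => mem_im_of_mem hx).comp hgig' fun x hx =>
    (mem_im_of_mem (hfP x hx) : g (f x) ∈ _) |> fun h' => by
      show g (f (gi (g x))) ∈ _
      rw [hgig x (hP hx)]; exact h').congr fun x hx => ?_
  show gi (g (f (gi (g x)))) = f x
  rw [hgig x (hP hx), hgig _ (hfP x hx)]

/-- The base step. -/
theorem exists_hyp (hS : IsPGroup p S) (hp2 : p ≠ 2) (hE : E.IsNormalIn F p) (hC : centEOf E F ≤ T) :
    ∃ A, Hyp F E A := by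
  obtain ⟨⟨hEs, hF, hEi⟩, -⟩ := id hE
  have hT := hEi.2.1
  have hTS := hT.1
  haveI := finite_of_le hTS
  have hTp := hS.to_le hTS
  set J := thompsonSubgroupAOf T with hJdef
  have hJT : J ≤ T := Subgroup.map_subtype_le _
  have hnT : normalizerIn T J = T := normalizerIn_thompson hTp
  have hnS : normalizerIn S J = S := by
    refine le_antisymm inf_le_left fun s hs => ?_
    exact normalizer_le_functor (W := wJA) hS (isCharPFunctor_wJA (p := p)).2 hTS
      ⟨hs, stronglyClosed_le_normalizer hT hs⟩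
  have hJF : F.IsFullyNormalized J := ⟨hJT.trans hTS, fun Q _ => by
    rw [hnS]; exact Subgroup.card_le_of_le inf_le_left⟩
  have hJE : E.IsFullyNormalized J := ⟨hJT, fun Q _ => by
    rw [hnT]; exact Subgroup.card_le_of_le inf_le_left⟩
  have hJc : E.IsCentric J := by
    refine ⟨hJT, fun Q hQ x hx => ?_⟩
    obtain ⟨ψ, hψ, -, hψQ⟩ := exists_map_normalizer_fn hTp hEs hJE (isConj_symm hQ)
    have hQT := (isConj_le hQ).2
    have hxN := centralizerIn_le_normalizerIn hx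
    have h1 := hψ.mem_centralizer (le_normalizerIn hQT) hxN (mem_centralizerIn.1 hx).2
    rw [hψQ] at h1
    obtain ⟨w, hw, hwe⟩ := (hψ.restrict (le_normalizerIn hQT)).mem_im.1
      (hψQ.ge (mem_thompsonAOf h1.1 (mem_centralizerIn.1 h1).2))
    exact hψ.injOn (le_normalizerIn hQT hw) hxN hwe ▸ hw
  obtain ⟨G, _, ι, H, hL, hEH⟩ := exists_localModel_base hS hE hJF hJc hnT hC
  haveI := hL.finite
  haveI := hL.normal
  have hCN : centralizerIn S T ≤ normalizerIn S J := fun x hx => hnS.ge hx.1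
  let A : Subgroup Ω := centralizerIn S T ⊓
    ((Subgroup.centralizer (H : Set G)).comap ι).map (normalizerIn S J).subtype
  have hmemA : ∀ {x : Ω} (hxN : x ∈ normalizerIn S J),
      x ∈ A ↔ x ∈ centralizerIn S T ∧ ∀ h ∈ H, h * ι ⟨x, hxN⟩ = ι ⟨x, hxN⟩ * h := by
    intro x hxN
    refine and_congr_right fun _ => ⟨?_, fun h => ⟨⟨x, hxN⟩, Subgroup.mem_centralizer_iff.2 h, rfl⟩⟩
    rintro ⟨⟨y, hy⟩, hyc, rfl⟩
    exact fun h hh => Subgroup.mem_centralizer_iff.1 hyc h hh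
  have hAle : A ≤ centralizerIn S T := inf_le_left
  have hbase : ∀ P f, J ≤ P → P ≤ T → Map E P f → im J f = J → Good F A P f := by
    intro P f hJP hPT hf hfJ
    have hPV : P ≤ normalizerIn T J := hPT.trans hnT.ge
    obtain ⟨h, hh, hc⟩ := hEH P f hPV hJP hf hfJ
    exact good_of_conjs hL hAle hJT hPV hTS
      (fun x hx => ((hmemA x.2).1 hx).2 h hh)
      (fun x hx => hnS.ge (hTS (hf.mem hx))) hc
  refine ⟨A, hAle, fun a ha => ?_, fun s hs a ha => ?_, fun α hα => ?_, hbase, ?_⟩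
  · obtain ⟨z, hzJ, hzT, hzc⟩ := exists_shift_central hS hL hTS hJT ha (hCN ha)
    have hzC : (z : Ω) ∈ centralizerIn S T :=
      mem_centralizerIn.2 ⟨z.2.1, fun t ht => hzT t (hnT.ge ht)⟩
    have hazA : a * z ∈ A := (hmemA ((normalizerIn S J).mul_mem (hCN ha) z.2)).2
      ⟨Subgroup.mul_mem _ ha hzC, fun h hh => by
        rw [show (⟨a * z, _⟩ : ↥(normalizerIn S J)) = ⟨a, hCN ha⟩ * z from rfl, map_mul]
        exact hzc h hh⟩
    rw [show a = a * z * (z : Ω)⁻¹ by group]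
    exact Subgroup.mul_mem _ (Subgroup.mem_sup_right hazA)
      (Subgroup.mem_sup_left (T.inv_mem (hJT hzJ)))
  · have haN := hCN (hAle ha)
    have hsN : s ∈ normalizerIn S J := hnS.ge hs
    refine (hmemA ((normalizerIn S J).mul_mem ((normalizerIn S J).mul_mem hsN haN)
      ((normalizerIn S J).inv_mem hsN))).2 ⟨mem_centralizerIn.2 ⟨S.mul_mem (S.mul_mem hs haN.1) (S.inv_mem hs),
        fun t ht => ?_⟩, fun h hh => ?_⟩
    · have h1 : s⁻¹ * t * s ∈ T := by
        simpa using stronglyClosed_conj_mem hT (S.inv_mem hs) ht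
      calc t * (s * a * s⁻¹) = s * ((s⁻¹ * t * s) * a) * s⁻¹ := by group
        _ = s * (a * (s⁻¹ * t * s)) * s⁻¹ := by rw [(mem_centralizerIn.1 (hAle ha)).2 _ h1]
        _ = _ := by group
    · rw [show (⟨s * a * s⁻¹, _⟩ : ↥(normalizerIn S J)) = ⟨s, hsN⟩ * ⟨a, haN⟩ * ⟨s, hsN⟩⁻¹ from rfl,
        map_mul, map_mul, map_inv]
      have h1 : (ι ⟨s, hsN⟩)⁻¹ * h * ι ⟨s, hsN⟩ ∈ H := by
        simpa using Subgroup.Normal.conj_mem hL.normal h hh (ι ⟨s, hsN⟩)⁻¹
      have h2 := ((hmemA haN).1 ha).2 _ h1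
      calc h * (ι ⟨s, hsN⟩ * ι ⟨a, haN⟩ * (ι ⟨s, hsN⟩)⁻¹)
          = ι ⟨s, hsN⟩ * (((ι ⟨s, hsN⟩)⁻¹ * h * ι ⟨s, hsN⟩) * ι ⟨a, haN⟩) * (ι ⟨s, hsN⟩)⁻¹ := by group
        _ = ι ⟨s, hsN⟩ * (ι ⟨a, haN⟩ * ((ι ⟨s, hsN⟩)⁻¹ * h * ι ⟨s, hsN⟩)) * (ι ⟨s, hsN⟩)⁻¹ := by rw [h2]
        _ = _ := by group
  · have hαm := map_of_mem_autGroup hTS hα
    have hαJ : im J (av α) = J :=
      im_functor (W := wJA) (F := F) hS (isCharPFunctor_wJA (p := p)).2 hαm (im_av α)
    have hαV : Map F (normalizerIn T J) (av α) := hαm.restrict inf_le_left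
    obtain ⟨g, β, hβ, hβα, hc⟩ := hL.ofMapF (normalizerIn T J) (av α) (le_normalizerIn hJT) le_rfl hαV hαJ
    have hle : T ⊔ A ≤ normalizerIn T J ⊔ centralizerIn S J := sup_le_sup hnT.ge fun a ha =>
      mem_centralizerIn.2 ⟨(hAle ha).1, fun r hr => (mem_centralizerIn.1 (hAle ha)).2 r (hJT hr)⟩
    have hT' : ∀ x ∈ T, β x = av α x := fun x hx => hβα x (hnT.ge hx)
    refine ⟨β, hβ.restrict hle, hT', fun a ha => ?_⟩
    have haD := hle (Subgroup.mem_sup_right ha)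
    have hβC : β a ∈ centralizerIn S T := by
      have h1 := (hβ.restrict hle).mem_centralizer le_sup_left (Subgroup.mem_sup_right ha)
        (mem_centralizerIn.1 (hAle ha)).2
      rwa [im_congr hT', im_av] at h1
    refine (hmemA (hCN hβC)).2 ⟨hβC, fun h hh => ?_⟩
    rw [hc.val haD (hCN (hAle ha)) (hCN hβC)]
    have h1 : g⁻¹ * h * g ∈ H := by simpa using Subgroup.Normal.conj_mem hL.normal h hh g⁻¹
    have h2 := ((hmemA (hCN (hAle ha))).1 ha).2 _ h1
    calc h * (g * ι ⟨a, _⟩ * g⁻¹) = g * ((g⁻¹ * h * g) * ι ⟨a, hCN (hAle ha)⟩) * g⁻¹ := by group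
      _ = g * (ι ⟨a, hCN (hAle ha)⟩ * (g⁻¹ * h * g)) * g⁻¹ := by rw [h2]
      _ = _ := by group
  · rintro x ⟨hxA, hxT⟩
    have hxC : ∀ t ∈ T, t * x = x * t := (mem_centralizerIn.1 (hAle hxA)).2
    have hxJ : x ∈ J := mem_thompsonAOf hxT fun u hu => hxC u (hJT hu)
    refine mem_center_of_glauberman hTp hEs (N := normSys E hJT) (fun _ => rfl)
      (mem_center_of_fixClass (hnT.ge hxT) fun P f hf => ?_) (Or.inl hp2)
    obtain ⟨hP, hm, g, hg, hgf, hgJ⟩ := (map_normalizerSystem_iff fun _ => rfl).1 hf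
    have hxP : Subgroup.zpowers x ≤ J := Subgroup.zpowers_le.2 hxJ
    have hle : P ⊔ Subgroup.zpowers x ≤ P ⊔ J := sup_le_sup_left hxP P
    obtain ⟨k, -, hkg, hkA⟩ := hbase (P ⊔ J) g le_sup_right (sup_le (hP.trans inf_le_left) hJT) hg hgJ
    refine ⟨g, (map_normalizerSystem_iff fun _ => rfl).2 ⟨hle.trans (sup_le hP (le_normalizerIn hJT)),
      fun y hy => hnT.ge (hg.mem (hle hy)), g, hg.restrict (sup_le hle le_sup_right), fun _ _ => rfl, hgJ⟩,
      hgf, ?_⟩
    rw [← hkg x (Subgroup.mem_sup_right hxJ), hkA x hxA]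

/-- **For odd `p`, `C_S(T) ≤ T` as soon as `C_S(E) ≤ T`**. -/
theorem centralizer_le (hS : IsPGroup p S) (hp2 : p ≠ 2) (hE : E.IsNormalIn F p) (hC : centEOf E F ≤ T) :
    centralizerIn S T ≤ T := by
  obtain ⟨A, hH⟩ := exists_hyp hS hp2 hE hC
  obtain ⟨⟨hEs, -, hEi⟩, -⟩ := id hE
  have hTS := hEi.2.1.1
  haveI := finite_of_le hTS
  have hA : CentE E F A := ⟨hH.le, alperin (hS.to_le hTS) hEs (isClosedClass_good (E := E)) fun X hX α hα => by
    by_cases hXT : X = T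
    · subst hXT
      exact hH.autT hS hTS hα
    obtain ⟨hXc, hXn, -⟩ := hX.resolve_left hXT
    exact stab_of_centric hS hp2 hE.1 hH _ X hXn hXc rfl X _ le_rfl (le_normalizerIn hXc.1)
      (map_of_mem_autGroup hXc.1 hα) (im_av α)⟩
  exact hH.inT.trans (sup_le le_rfl (hA.le_centEOf.trans hC))

end Cfsg.Agent.Local.FS.CentralizerOdd
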