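import Cfsg.Agent.Lib.Local.FS.CentralizerValid
import Cfsg.Agent.Lib.Local.FS.NormalSubCentric
import Cfsg.Agent.Lib.Local.FS.Normal
import Cfsg.Agent.Lib.Local.FS.Focal

/-!
The centralizer in `S` of a normal subsystem: existence and strong closure.
-/

set_option autoImplicit false

namespace Cfsg.Agent.Local.FS

open Cfsg Cfsg.FusionSystem Cfsg.Agent.Fusion

variable {Ω : Type*} [Group Ω] {S T : Subgroup Ω} {F : FusionSystem S} {E : FusionSystem T}
  {D P Q R U W X Y : Subgroup Ω} {f g : Ω → Ω} {p : ℕ}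

theorem Map.fix_closure (hg : Map F D g) {V : Set Ω} (hV : ∀ v ∈ V, v ∈ D ∧ g v = v) :
    ∀ z ∈ Subgroup.closure V, g z = z := by
  suffices ∀ z ∈ Subgroup.closure V, z ∈ D ∧ g z = z from fun z hz => (this z hz).2
  intro z hz
  induction hz using Subgroup.closure_induction with
  | mem v hv => exact hV v hv
  | one => exact ⟨D.one_mem, hg.map_one⟩
  | mul a b _ _ ha hb => exact ⟨D.mul_mem ha.1 hb.1, by rw [hg.map_mul ha.1 hb.1, ha.2, hb.2]⟩
  | inv a _ ha => exact ⟨D.inv_mem ha.1, by rw [hg.map_inv ha.1, ha.2]⟩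

/-- `C_S(E)`: generated by the elements centralising `E`. -/
def centEOf (E : FusionSystem T) (F : FusionSystem S) : Subgroup Ω := Subgroup.closure {x | CentE E F (Subgroup.zpowers x)}

theorem CentE.le_centEOf (h : CentE E F Y) : Y ≤ centEOf E F := fun _ hy =>
  Subgroup.subset_closure (h.mono (Subgroup.zpowers_le.2 hy))

theorem centEOf_le : centEOf E F ≤ centralizerIn S T :=
  (Subgroup.closure_le _).2 fun x hx => hx.1 (Subgroup.mem_zpowers x)

/-- An element shifted inside `T` by a map is shifted on all of `T⟨y⟩`. -/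
theorem shift_of_gen (hg : Map F W g) {y : Ω} (hW : W = T ⊔ Subgroup.zpowers y)
    (hyT : ∀ t ∈ T, t * y = y * t) (hgT : ∀ t ∈ T, g t ∈ T) (hy : y⁻¹ * g y ∈ T) :
    ∀ w ∈ W, w⁻¹ * g w ∈ T := by
  intro w hw
  have hw' := hw
  rw [hW, ← SetLike.mem_coe, Subgroup.coe_mul_of_left_le_normalizer_right T _ (sup_zpowers_comm hyT)] at hw'
  obtain ⟨t, ht, z, hz, rfl⟩ := hw'
  obtain ⟨i, rfl⟩ := Subgroup.mem_zpowers_iff.1 hz
  have hyW : y ∈ W := hW ▸ Subgroup.mem_sup_right (Subgroup.mem_zpowers y)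
  have htW : t ∈ W := hW ▸ Subgroup.mem_sup_left ht
  have hgi : g (y ^ i) = y ^ i * (y⁻¹ * g y) ^ i := by
    obtain ⟨φ, hφ, he⟩ := id hg
    have h1 := _root_.map_zpow φ ⟨y, hyW⟩ i
    rw [he, he] at h1
    simp only [SubgroupClass.coe_zpow] at h1
    rw [h1]
    have hc : Commute y (y⁻¹ * g y) := (hyT _ hy).symm
    rw [← hc.mul_zpow, mul_inv_cancel_left]
  rw [hg.map_mul htW (W.zpow_mem hyW i), hgi]
  have hc : Commute (y ^ i)⁻¹ (t⁻¹ * g t) :=
    ((show Commute (t⁻¹ * g t) y from hyT _ (T.mul_mem (T.inv_mem ht) (hgT t ht))).zpow_right i).symm.inv_left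
  rw [show (t * y ^ i)⁻¹ * (g t * (y ^ i * (y⁻¹ * g y) ^ i)) =
    ((y ^ i)⁻¹ * (t⁻¹ * g t)) * y ^ i * (y⁻¹ * g y) ^ i by group, hc.eq]
  rw [inv_mul_cancel_right]
  exact T.mul_mem (T.mul_mem (T.inv_mem ht) (hgT t ht)) (T.zpow_mem hy i)

variable [Finite S] [Fact p.Prime]

/-- `p'`-extensions to `T C_S(T)` of the `p'`-automorphisms in `E`. -/
theorem exists_pPrime_ext (hE : E.IsNormalIn F p) {δ : MulAut T} (hδ : δ ∈ E.autGroup T)
    (ho : (orderOf δ).Coprime p) :
    ∃ β ∈ F.autGroup (T ⊔ centralizerIn S T), (orderOf β).Coprime p ∧ (∀ x ∈ T, av β x = av δ x) ∧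
      ∀ c ∈ centralizerIn S T, c⁻¹ * av β c ∈ T := by
  have hTS := hE.1.2.2.2.1.1
  have hL : T ⊔ centralizerIn S T ≤ S := sup_le hTS inf_le_left
  haveI := mulAut_finite_of_le hL
  haveI := mulAut_finite_of_le hTS
  obtain ⟨β₀, hβ₀, h1, h2⟩ := hE.2 δ hδ
  rcases Nat.lt_or_ge 1 (orderOf δ) with hm | hm
  swap
  · refine ⟨1, one_mem _, by simp, fun x hx => ?_, fun c hc => ?_⟩
    · rw [orderOf_eq_one_iff.1 (le_antisymm hm (orderOf_pos δ)), av_one (Subgroup.mem_sup_left hx), av_one hx]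
    · rw [av_one (Subgroup.mem_sup_right hc), inv_mul_cancel]; exact T.one_mem
  have h1' : ∀ x ∈ T, av β₀ x = av δ x := fun x hx => by
    rw [av_apply β₀ (Subgroup.mem_sup_left hx), av_apply δ hx]; exact h1 ⟨x, hx⟩
  have h2' : ∀ c ∈ centralizerIn S T, c⁻¹ * av β₀ c ∈ T := fun c hc => by
    rw [av_apply β₀ (Subgroup.mem_sup_right hc)]; exact (h2 ⟨c, Subgroup.mem_sup_right hc⟩ hc).1
  obtain ⟨a, r, hr, hord⟩ := Nat.exists_eq_pow_mul_and_not_dvd (orderOf_pos β₀).ne' p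
    (Fact.out : p.Prime).ne_one
  obtain ⟨k, -, hk⟩ := Nat.exists_mul_mod_eq_one_of_coprime (ho.symm.pow_left a) hm
  refine ⟨β₀ ^ (p ^ a * k), pow_mem hβ₀ _, ?_, fun x hx => ?_, fun c hc => ?_⟩
  · refine Nat.Coprime.coprime_dvd_left (orderOf_dvd_of_pow_eq_one (n := r) ?_)
      ((Nat.Prime.coprime_iff_not_dvd Fact.out).2 hr).symm
    rw [← pow_mul, mul_right_comm, ← hord, pow_mul, pow_orderOf_eq_one, one_pow]
  · rw [av_pow le_sup_left h1' _ x hx, ← pow_mod_orderOf, hk, pow_one]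
  · have hm' := map_of_mem_autGroup hL hβ₀
    suffices ∀ n, c⁻¹ * av (β₀ ^ n) c ∈ T from this _
    intro n
    induction n with
    | zero => rw [pow_zero, av_one (Subgroup.mem_sup_right hc), inv_mul_cancel]; exact T.one_mem
    | succ n ih =>
      rw [pow_succ', av_mul _ _ (Subgroup.mem_sup_right hc),
        show av (β₀ ^ n) c = c * (c⁻¹ * av (β₀ ^ n) c) by group,
        hm'.map_mul (Subgroup.mem_sup_right hc) (Subgroup.mem_sup_left ih), ← mul_assoc, h1' _ ih]
      exact T.mul_mem (h2' c hc) (av_mem δ ih)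

/-- The `p'`-extension is unique on a well placed group. -/
theorem eq_pPrime_ext (hS : IsPGroup p S) (hE : E.IsNormalIn F p) {y : Ω} (hW : WellPlaced F p W T)
    (hWy : W = T ⊔ Subgroup.zpowers y) (hy : y ∈ centralizerIn S T)
    {β : MulAut ↥(T ⊔ centralizerIn S T)} (hβ : β ∈ F.autGroup (T ⊔ centralizerIn S T))
    (hβo : (orderOf β).Coprime p) (hβT : ∀ x ∈ T, av β x ∈ T)
    (hβs : ∀ c ∈ centralizerIn S T, c⁻¹ * av β c ∈ T)
    {b : MulAut W} (hb : b ∈ F.autGroup W) (hbo : (orderOf b).Coprime p)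
    (hbT : ∀ x ∈ T, av b x = av β x) (hbs : y⁻¹ * av b y ∈ T) :
    ∀ w ∈ W, av b w = av β w := by
  have hTS := hE.1.2.2.2.1.1
  have hWS := hW.2.1.1
  have hL : T ⊔ centralizerIn S T ≤ S := sup_le hTS inf_le_left
  have hWL : W ≤ T ⊔ centralizerIn S T := hWy.le.trans (sup_le_sup_left (Subgroup.zpowers_le.2 hy) T)
  haveI := finite_of_le hWS
  haveI := mulAut_finite_of_le hWS
  have hyT : ∀ t ∈ T, t * y = y * t := fun t ht => comm_of_centT hy ht
  have hyW : y ∈ W := hWy ▸ Subgroup.mem_sup_right (Subgroup.mem_zpowers y)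
  have hmβ := map_of_mem_autGroup hL hβ
  have hmW := hmβ.restrict hWL
  have hrs := shift_of_gen hmW hWy hyT hβT (hβs y hy)
  have hbs' := shift_of_gen (map_of_mem_autGroup hWS hb) hWy hyT
    (fun t ht => hbT t ht ▸ hβT t ht) hbs
  have hi : im W (av β) = W := by
    refine Subgroup.eq_of_le_of_card_ge (im_le_iff.2 fun w hw => ?_) hmW.card_im.ge
    rw [show av β w = w * (w⁻¹ * av β w) by group]
    exact W.mul_mem hw (hW.1 (hrs w hw))
  obtain ⟨r, hr, hrβ⟩ := exists_aut hmW hi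
  have hro : (orderOf r).Coprime p := by
    refine Nat.Coprime.coprime_dvd_left (orderOf_dvd_of_pow_eq_one (aut_ext fun w hw => ?_)) hβo
    have := av_pow hWL (α := r) (β := β) (fun x hx => (hrβ x hx).symm) (orderOf β) w hw
    rw [pow_orderOf_eq_one, av_one (hWL hw)] at this
    rw [av_one hw]; exact this.symm
  obtain ⟨k, hkdef⟩ : ∃ k, k = r⁻¹ * b := ⟨_, rfl⟩
  have hkF : k ∈ F.autGroup W := hkdef ▸ mul_mem (inv_mem hr) hb
  have hkT : ∀ x ∈ T, av k x = x := fun x hx => by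
    rw [hkdef, av_mul _ _ (hW.1 hx), hbT x hx, ← hrβ x (hW.1 hx), av_inv_av r (hW.1 hx)]
  have hks : ∀ w ∈ W, w⁻¹ * av k w ∈ T := by
    intro w hw
    rw [hkdef, av_mul _ _ hw]
    have hbw := av_mem b hw
    have h1 := hrs _ (av_mem r⁻¹ hbw)
    rw [← hrβ _ (av_mem r⁻¹ hbw), av_av_inv r hbw] at h1
    have h2 := T.mul_mem (hbs' w hw) (T.inv_mem h1)
    rwa [mul_inv_rev, inv_inv, mul_assoc, ← mul_assoc (av b w), mul_inv_cancel, one_mul] at h2
  have hkS := shift_le_autS hS hW hkF hkT hks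
  obtain ⟨s, hs, hsk⟩ := mem_autInducedBy.1 hkS
  have hsT : s ∈ centralizerIn S T := mem_centralizerIn.2 ⟨hs, fun t ht => by
    have := (hsk t (hW.1 ht)).symm.trans (hkT t ht)
    calc t * s = (s * t * s⁻¹) * s := by rw [this]
      _ = s * t := by group⟩
  have hcomm : Commute r k := by
    refine aut_ext fun w hw => ?_
    have hkw := av_mem k hw
    have hrw := av_mem r hw
    rw [av_mul _ _ hw, av_mul _ _ hw, hrβ _ hkw, hsk w hw, hsk _ hrw,
      hmβ.map_conj (Subgroup.mem_sup_right hsT) (hWL hw), hrβ w hw]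
    obtain ⟨z, hz⟩ : ∃ z, z = s⁻¹ * av β s := ⟨_, rfl⟩
    have hzT : z ∈ T := hz ▸ hβs s hsT
    have hzC : ∀ t ∈ T, t * z = z * t := by
      have h1 := hmβ.mem_centralizer le_sup_left (Subgroup.mem_sup_right hsT) (mem_centralizerIn.1 hsT).2
      have hiT : im T (av β) = T := by
        haveI := finite_of_le hTS
        exact Subgroup.eq_of_le_of_card_ge (im_le_iff.2 hβT) (hmβ.restrict le_sup_left).card_im.ge
      rw [hiT] at h1
      intro t ht
      rw [hz]
      exact (((show Commute t s from comm_of_centT hsT ht).inv_right).mul_right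
        (show Commute t (av β s) from (mem_centralizerIn.1 h1).2 t ht)).eq
    have hzw : Commute z (av β w) := by
      have hle : W ≤ Subgroup.centralizer ({z} : Set Ω) := hWy.le.trans (sup_le
        (fun t ht => Subgroup.mem_centralizer_iff.2 fun u hu => by
          rw [Set.mem_singleton_iff.1 hu]; exact (hzC t ht).symm)
        (Subgroup.zpowers_le.2 (Subgroup.mem_centralizer_iff.2 fun u hu => by
          rw [Set.mem_singleton_iff.1 hu]; exact hyT z hzT)))
      exact Subgroup.mem_centralizer_iff.1 (hle (hi.le (mem_im_of_mem hw))) z rfl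
    rw [show av β s = s * z by rw [hz, mul_inv_cancel_left]]
    rw [show s * z * av β w * (s * z)⁻¹ = s * (z * av β w * z⁻¹) * s⁻¹ by group, hzw.eq,
      mul_inv_cancel_right]
  have hk1 : k = 1 := by
    have hcop : (orderOf b * orderOf r).Coprime p := hbo.mul_left hro
    have hdvd : k ^ (orderOf b * orderOf r) = 1 := by
      have hb' : b = r * k := by rw [hkdef, mul_inv_cancel_left]
      have h1 : b ^ (orderOf b * orderOf r) = 1 := by rw [pow_mul, pow_orderOf_eq_one, one_pow]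
      rw [hb', hcomm.mul_pow, ← hb', mul_comm (orderOf b) (orderOf r), pow_mul r, pow_orderOf_eq_one,
        one_pow, one_mul, mul_comm] at h1
      exact h1
    obtain ⟨n, hn⟩ := IsPGroup.iff_orderOf.1 (isPGroup_autS hS) ⟨k, hkS⟩
    rw [Subgroup.orderOf_mk] at hn
    have := Nat.eq_one_of_dvd_coprimes (hcop.pow_right n) (orderOf_dvd_of_pow_eq_one hdvd) hn.dvd
    exact orderOf_eq_one_iff.1 this
  intro w hw
  have hb' : b = r := by
    have : r⁻¹ * b = 1 := hkdef ▸ hk1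
    exact (inv_mul_eq_one.1 this).symm
  rw [hb', hrβ w hw]

/-- The `p'`-extension fixes the elements centralising `E`. -/
theorem pPrime_ext_fix (hS : IsPGroup p S) (hE : E.IsNormalIn F p) {δ : MulAut T}
    (hδ : δ ∈ E.autGroup T) (ho : (orderOf δ).Coprime p)
    {β : MulAut ↥(T ⊔ centralizerIn S T)} (hβ : β ∈ F.autGroup (T ⊔ centralizerIn S T))
    (hβo : (orderOf β).Coprime p) (hβT : ∀ x ∈ T, av β x = av δ x)
    (hβs : ∀ c ∈ centralizerIn S T, c⁻¹ * av β c ∈ T) {y : Ω} (hy : CentE E F (Subgroup.zpowers y)) :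
    av β y = y := by
  obtain ⟨⟨hEs, hF, hEi⟩, -⟩ := id hE
  have hT := hEi.2.1
  haveI := finite_of_le hT.1
  have hyC : y ∈ centralizerIn S T := hy.1 (Subgroup.mem_zpowers y)
  have hyT : ∀ t ∈ T, t * y = y * t := fun t ht => comm_of_centT hyC ht
  have hL : T ⊔ centralizerIn S T ≤ S := sup_le hT.1 inf_le_left
  obtain ⟨W, hWdef⟩ : ∃ W, W = T ⊔ Subgroup.zpowers y := ⟨_, rfl⟩
  have hWL : W ≤ T ⊔ centralizerIn S T := hWdef.le.trans (sup_le_sup_left hy.1 T)
  have hWS : W ≤ S := hWL.trans hL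
  haveI := finite_of_le hWS
  haveI := mulAut_finite_of_le hWS
  have hyW : y ∈ W := hWdef ▸ Subgroup.mem_sup_right (Subgroup.mem_zpowers y)
  have hTW : T ≤ W := hWdef ▸ le_sup_left
  obtain ⟨g, hg, hgδ, hgy⟩ := hy.2 T _ (map_of_mem_autGroup le_rfl hδ)
  rw [← hWdef] at hg
  have hgy' : g y = y := hgy y (Subgroup.mem_zpowers y)
  have himW : ∀ {h : Ω → Ω}, Map F W h → (∀ t ∈ T, h t ∈ T) → y⁻¹ * h y ∈ T → im W h = W := by
    intro h hh hhT hhy
    refine Subgroup.eq_of_le_of_card_ge (im_le_iff.2 fun w hw => ?_) hh.card_im.ge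
    rw [show h w = w * (w⁻¹ * h w) by group]
    exact W.mul_mem hw (hTW (shift_of_gen hh hWdef hyT hhT hhy w hw))
  obtain ⟨d, hd, hdg⟩ := exists_aut hg (himW hg (fun t ht => by rw [hgδ t ht]; exact av_mem δ ht)
    (by rw [hgy', inv_mul_cancel]; exact T.one_mem))
  have hmβ := (map_of_mem_autGroup hL hβ).restrict hWL
  obtain ⟨b, hb, hbβ⟩ := exists_aut hmβ (himW hmβ (fun t ht => by rw [hβT t ht]; exact av_mem δ ht)
    (hβs y hyC))
  have hdo : (orderOf d).Coprime p := by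
    refine Nat.Coprime.coprime_dvd_left (orderOf_dvd_of_pow_eq_one (aut_ext fun w hw => ?_)) ho
    rw [av_one hw]
    have hm := map_of_mem_autGroup hWS (pow_mem hd (orderOf δ))
    refine hm.fix_closure (V := ((T : Set Ω) ∪ {y})) ?_ w ?_
    · rintro v (hv | hv)
      · refine ⟨hTW hv, ?_⟩
        rw [av_pow hTW (fun x hx => (hdg x (hTW hx)).trans (hgδ x hx)) _ v hv, pow_orderOf_eq_one,
          av_one hv]
      · obtain rfl := Set.mem_singleton_iff.1 hv
        refine ⟨hyW, ?_⟩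
        have hdy : av d v = v := (hdg v hyW).trans hgy'
        induction (orderOf δ) with
        | zero => rw [pow_zero, av_one hyW]
        | succ n ih => rw [pow_succ, av_mul _ _ hyW, hdy, ih]
    · have hle : T ⊔ Subgroup.zpowers y ≤ Subgroup.closure ((T : Set Ω) ∪ {y}) :=
        sup_le (fun t ht => Subgroup.subset_closure (Set.mem_union_left _ ht))
          (Subgroup.zpowers_le.2 (Subgroup.subset_closure (Set.mem_union_right _ rfl)))
      exact hle (hWdef ▸ hw)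
  have hbo : (orderOf b).Coprime p := by
    refine Nat.Coprime.coprime_dvd_left (orderOf_dvd_of_pow_eq_one (aut_ext fun w hw => ?_)) hβo
    have := av_pow hWL (α := b) (β := β) (fun x hx => (hbβ x hx).symm) (orderOf β) w hw
    rw [pow_orderOf_eq_one, av_one (hWL hw)] at this
    rw [av_one hw]; exact this.symm
  -- move to a well placed group
  obtain ⟨q, hq, hW⟩ := exists_push (n := 0) hS (fun U hU _ => hF U hU) hWS Nat.card_pos hTW
  have hqT : im T q = T := Subgroup.eq_of_le_of_card_ge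
    (im_le_iff.2 fun x hx => stronglyClosed_map hT hq (hTW hx) hx) (hq.restrict hTW).card_im.ge
  rw [hqT] at hW
  obtain ⟨a, ha, haq⟩ := exists_aut (hq.restrict hTW) hqT
  obtain ⟨e, he⟩ := exists_equiv hq rfl
  have hqy : q y ∈ centralizerIn S T := by
    have h1 := hq.mem_centralizer hTW hyW (mem_centralizerIn.1 hyC).2
    rwa [hqT] at h1
  have hW₂ : im W q = T ⊔ Subgroup.zpowers (q y) := by
    refine le_antisymm (im_le_iff.2 fun w hw => ?_) (sup_le (hqT.ge.trans (im_mono hTW))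
      (Subgroup.zpowers_le.2 (mem_im_of_mem hyW)))
    have hle : W ≤ Subgroup.closure ((T : Set Ω) ∪ {y}) := hWdef.le.trans
      (sup_le (fun t ht => Subgroup.subset_closure (Or.inl ht))
        (Subgroup.zpowers_le.2 (Subgroup.subset_closure (Or.inr rfl))))
    suffices ∀ z ∈ Subgroup.closure ((T : Set Ω) ∪ {y}), z ∈ W ∧ q z ∈ T ⊔ Subgroup.zpowers (q y) from
      (this w (hle hw)).2
    intro z hz
    induction hz using Subgroup.closure_induction with
    | mem v hv =>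
      rcases hv with hv | hv
      · exact ⟨hTW hv, Subgroup.mem_sup_left (hqT.le (mem_im_of_mem hv))⟩
      · obtain rfl := Set.mem_singleton_iff.1 hv
        exact ⟨hyW, Subgroup.mem_sup_right (Subgroup.mem_zpowers _)⟩
    | one => exact ⟨W.one_mem, by rw [hq.map_one]; exact Subgroup.one_mem _⟩
    | mul u v _ _ hu hv => exact ⟨W.mul_mem hu.1 hv.1, by
        rw [hq.map_mul hu.1 hv.1]; exact Subgroup.mul_mem _ hu.2 hv.2⟩
    | inv u _ hu => exact ⟨W.inv_mem hu.1, by rw [hq.map_inv hu.1]; exact Subgroup.inv_mem _ hu.2⟩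
  have hδ₂ : a * δ * a⁻¹ ∈ E.autGroup T := conj_mem_sub hEi le_rfl ha hδ
  have ho₂ : (orderOf (a * δ * a⁻¹)).Coprime p := by
    rw [show orderOf (a * δ * a⁻¹) = orderOf δ from
      orderOf_injective (MulAut.conj a).toMonoidHom (MulAut.conj a).injective δ]
    exact ho
  obtain ⟨β₂, hβ₂, hβ₂o, hβ₂T, hβ₂s⟩ := exists_pPrime_ext hE hδ₂ ho₂
  have key : ∀ (c : MulAut W), c ∈ F.autGroup W → (orderOf c).Coprime p → (∀ t ∈ T, av c t = av δ t) →
      y⁻¹ * av c y ∈ T → av (MulAut.congr e c) (q y) = av β₂ (q y) := by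
    intro c hc hco hcT hcs
    refine eq_pPrime_ext hS hE hW hW₂ hqy hβ₂ hβ₂o (fun x hx => hβ₂T x hx ▸ av_mem _ hx) hβ₂s
      (congr_mem_autGroup hq rfl he hc)
      (by exact (orderOf_injective (MulAut.congr e).toMonoidHom (MulAut.congr e).injective c).symm ▸ hco)
      (fun x hx => ?_) ?_ _ (mem_im_of_mem hyW)
    · obtain ⟨t, ht, rfl⟩ := (hq.restrict hTW).mem_im.1 (hqT.ge hx)
      rw [av_congr_apply he c (hTW ht), hcT t ht, hβ₂T _ hx, ← haq t ht,
        av_mul _ _ (av_mem a ht), av_mul _ _ (av_mem a⁻¹ (av_mem a ht)), av_inv_av a ht,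
        haq _ (av_mem δ ht)]
    · rw [av_congr_apply he c hyW, ← hq.map_inv hyW, ← hq.map_mul (W.inv_mem hyW) (av_mem c hyW)]
      exact hqT.le (mem_im_of_mem hcs)
  have h1 := key d hd hdo (fun t ht => (hdg t (hTW ht)).trans (hgδ t ht))
    (by rw [hdg y hyW, hgy', inv_mul_cancel]; exact T.one_mem)
  have h2 := key b hb hbo (fun t ht => (hbβ t (hTW ht)).trans (hβT t ht))
    (by rw [hbβ y hyW]; exact hβs y hyC)
  rw [← h1, av_congr_apply he d hyW, av_congr_apply he b hyW, hdg y hyW, hgy'] at h2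
  exact (hbβ y hyW).symm.trans (hq.injOn (av_mem b hyW) hyW h2)

variable (F) in
/-- The maps of `E` fixing `C`. -/
def fixSys (E : FusionSystem T) (C : Subgroup Ω) (hC : C ≤ centralizerIn S T) (hT : T ≤ S) :
    FusionSystem T where
  Hom P := {φ | φ ∈ E.Hom P ∧ ∃ g, Map F (P ⊔ C) g ∧ (∀ x ∈ P, g x = fn φ x) ∧ ∀ c ∈ C, g c = c}
  le_of_mem h := E.le_of_mem h.1
  injective_of_mem h := E.injective_of_mem h.1
  conj_mem {P t} hP ht := ⟨E.conj_mem hP ht, fun x => t * x * t⁻¹,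
    map_conjBy (sup_le (hP.trans hT) (hC.trans inf_le_left)) (hT ht),
    fun x hx => (fn_apply (conjHom P t) hx).symm, fun c hc => conj_centT (hC hc) ht⟩
  comp_mem {P Q φ ψ} hφ hψ h := ⟨E.comp_mem hφ.1 hψ.1 h, by
    obtain ⟨g, hg, hgf, hgC⟩ := hφ.2
    obtain ⟨g', hg', hgf', hgC'⟩ := hψ.2
    refine ⟨g' ∘ g, hg.comp hg' fun x hx => ?_, fun x hx => ?_, fun c hc => ?_⟩
    · refine (show im P g ⊔ im C g ≤ Q ⊔ C from sup_le_sup ?_ ?_) (hg.im_sup_le (mem_im_of_mem hx))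
      · exact im_le_iff.2 fun y hy => by rw [hgf y hy, fn_apply φ hy]; exact h _
      · exact im_le_iff.2 fun c hc => by rw [hgC c hc]; exact hc
    · show g' (g x) = _
      rw [hgf x hx, fn_apply φ hx, hgf' _ (h _), fn_apply ψ (h _), fn_apply _ hx]; rfl
    · show g' (g c) = c
      rw [hgC c hc, hgC' c hc]⟩
  inv_mem {P φ} hφ := by
    obtain ⟨ψ, hψ, hψφ⟩ := E.inv_mem hφ.1
    obtain ⟨g, hg, hgf, hgC⟩ := hφ.2
    obtain ⟨k, hk, hkg, -, -⟩ := hg.exists_inv
    refine ⟨ψ, ⟨hψ, k, hk.restrict (sup_le ?_ ?_), ?_, ?_⟩, hψφ⟩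
    · rintro _ ⟨x, rfl⟩
      rw [← fn_coe φ x, ← hgf x x.2]
      exact mem_im_of_mem (Subgroup.mem_sup_left x.2)
    · intro c hc
      rw [← hgC c hc]
      exact mem_im_of_mem (Subgroup.mem_sup_right hc)
    · rintro _ ⟨x, rfl⟩
      rw [fn_apply ψ ⟨x, rfl⟩, hψφ x, ← fn_coe φ x, ← hgf x x.2, hkg _ (Subgroup.mem_sup_left x.2)]
    · intro c hc
      conv_lhs => rw [← hgC c hc]
      exact hkg c (Subgroup.mem_sup_right hc)

omit [Finite S] [Fact p.Prime] in
theorem map_fixSys {C : Subgroup Ω} {hC : C ≤ centralizerIn S T} {hT : T ≤ S} :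
    Map (fixSys F E C hC hT) P f ↔
      Map E P f ∧ ∃ g, Map F (P ⊔ C) g ∧ (∀ x ∈ P, g x = f x) ∧ ∀ c ∈ C, g c = c := by
  constructor
  · rintro ⟨φ, ⟨hφ, g, hg, hgf, hgC⟩, h⟩
    exact ⟨⟨φ, hφ, h⟩, g, hg, fun x hx => by rw [hgf x hx, fn_apply φ hx]; exact h ⟨x, hx⟩, hgC⟩
  · rintro ⟨⟨φ, hφ, h⟩, g, hg, hgf, hgC⟩
    exact ⟨φ, ⟨hφ, g, hg, fun x hx => by rw [hgf x hx, fn_apply φ hx]; exact (h ⟨x, hx⟩).symm, hgC⟩, h⟩

/-- The generators fix `C_S(E)`. -/
theorem pResAut_le_fixSys (hS : IsPGroup p S) (hE : E.IsWeaklyNormalIn F p) (hP : E.IsCentric P) :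
    pResAut p (E.autGroup P) ≤ (fixSys F E (centEOf E F) centEOf_le hE.2.2.2.1.1).autGroup P := by
  obtain ⟨hEs, hF, hEi⟩ := id hE
  have hT := hEi.2.1
  haveI := finite_of_le hT.1
  refine pResAut_induction fun a ha hk => mem_autGroup_of_map (map_fixSys.2
    ⟨map_of_mem_autGroup hP.1 ha, ?_⟩)
  obtain ⟨Q, hPQ, hQn⟩ := exists_fullyNormalized (F := F) (hP.1.trans hT.1)
  obtain ⟨u, hu, hum, hi⟩ := exists_map_normalizer_fn hS hF hQn hPQ
  have hPN : P ≤ normalizerIn S P := le_normalizerIn (hP.1.trans hT.1)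
  have huP := hu.restrict hPN
  have hQT : Q ≤ T := hi ▸ im_le_iff.2 fun x hx => stronglyClosed_map hT huP hx (hP.1 hx)
  have hQc : E.IsCentric Q := hi ▸ centric_of_sub_map hEi hP huP
  obtain ⟨e, he⟩ := exists_equiv huP hi
  haveI := mulAut_finite_of_le hQn.1
  have hpa : IsPGroup p (Subgroup.zpowers (MulAut.congr e a)) := by
    obtain ⟨k, hk⟩ := hk
    exact IsPGroup.of_card (n := k) (by
      rw [Nat.card_zpowers]
      exact (orderOf_injective (MulAut.congr e).toMonoidHom (MulAut.congr e).injective a).trans hk)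
  obtain ⟨c, hc, hle⟩ := (fa_iff.1 (fc_fa_of_fn (hS.to_le hT.1) hEs
    (fn_of_sub hS hF hT hEi.1 hQT hQn)).2).2.conj_le hpa
    (Subgroup.zpowers_le.2 (congr_mem_sub hEi huP hP.1 hi he ha))
  obtain ⟨t, ht, htc⟩ := mem_autInducedBy.1 (hle (conj_mem_cj (g := c) (Subgroup.mem_zpowers _)))
  have hcm := map_of_mem_autGroup hQn.1 (autGroup_sub_le hEi hQT hc)
  obtain ⟨w, hw, hwc⟩ := (receptive_iff.1 (receptive_of_fc hS hF (fc_fa_of_fn hS hF hQn).1)).2 Q _ hcm
    (im_av c)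
  set Z := Q ⊔ centralizerIn S Q with hZ
  have hwY := hw.restrict (sup_le (le_Nf hcm) centralizerIn_le_Nf : Z ≤ Nf S Q (av c))
  have hwi : im Q w = Q := by rw [im_congr hwc, im_av]
  have hwm : ∀ y ∈ Z, w y ∈ Z := fun y hy => by
    refine (show im Q w ⊔ im (centralizerIn S Q) w ≤ Z from sup_le_sup hwi.le ?_)
      (hwY.im_sup_le (mem_im_of_mem hy))
    refine im_le_iff.2 fun d hd => ?_
    have h1 := hwY.mem_centralizer le_sup_left (Subgroup.mem_sup_right hd) (mem_centralizerIn.1 hd).2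
    rwa [hwi] at h1
  set C := centEOf E F
  have hCP : P ⊔ C ≤ normalizerIn S P :=
    sup_le hPN (centEOf_le.trans ((centT_le_centralizerIn hP.1).trans centralizerIn_le_normalizerIn))
  have hZS : Z ≤ S := sup_le hQn.1 inf_le_left
  -- the valid elements
  have hval : ∀ x, CentE E F (Subgroup.zpowers x) →
      x ∈ normalizerIn S P ∧ u x ∈ centralizerIn S Q ∧ CentE E F (Subgroup.zpowers (u x)) ∧
        t * w (u x) * t⁻¹ = w (u x) := by
    intro x hx
    have hxP := centT_le_centralizerIn hP.1 (hx.1 (Subgroup.mem_zpowers x))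
    have hxN := centralizerIn_le_normalizerIn hxP
    have h1 := hx.image hS hE P x u hP (hu.restrict (sup_le hPN (Subgroup.zpowers_le.2 hxN)))
    have h2 := centT_le_centralizerIn hQT (h1.1 (Subgroup.mem_zpowers _))
    have h3 := h1.image hS hE Q (u x) w hQc
      (hwY.restrict (sup_le le_sup_left (Subgroup.zpowers_le.2 (Subgroup.mem_sup_right h2))))
    exact ⟨hxN, h2, h1, conj_centT (h3.1 (Subgroup.mem_zpowers _)) ht⟩
  have huY : ∀ x ∈ P ⊔ C, u x ∈ Z := by
    intro x hx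
    refine (show im P u ⊔ im C u ≤ Z from sup_le (hi.le.trans le_sup_left) ?_)
      ((hu.restrict hCP).im_sup_le (mem_im_of_mem hx))
    refine im_le_iff.2 fun z hz => ?_
    have h1 := hu.mem_centralizer hPN (hCP (Subgroup.mem_sup_right hz))
      (mem_centralizerIn.1 (centT_le_centralizerIn hP.1 (centEOf_le hz))).2
    rw [hi] at h1
    exact Subgroup.mem_sup_right h1
  have hh : Map F (P ⊔ C) (w ∘ u) := (hu.restrict hCP).comp hwY huY
  have hhZ : ∀ x ∈ P ⊔ C, w (u x) ∈ Z := fun x hx => hwm _ (huY x hx)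
  have hm : Map F (P ⊔ C) ((fun y => t * y * t⁻¹) ∘ (w ∘ u)) :=
    hh.comp (map_conjBy (hZS) (hT.1 ht)) hhZ
  obtain ⟨k, hk', hkw, -, -⟩ := hh.exists_inv
  have hPim : ∀ x ∈ P, t * w (u x) * t⁻¹ = w (u (av a x)) := by
    intro x hx
    have hux : u x ∈ Q := hi.le (mem_im_of_mem hx)
    rw [hwc _ hux, ← htc _ (av_mem c hux), av_mul _ _ (av_mem c hux), av_inv_av c hux,
      av_mul _ _ hux, av_congr_apply he a hx, hwc _ (hi.le (mem_im_of_mem (av_mem a hx)))]
  have hCim : ∀ x ∈ C, t * w (u x) * t⁻¹ = w (u x) := by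
    have hsub : ∀ z ∈ C, z ∈ P ⊔ C ∧ t * w (u z) * t⁻¹ = w (u z) := by
      intro z hz
      induction hz using Subgroup.closure_induction with
      | mem v hv => exact ⟨Subgroup.mem_sup_right (Subgroup.subset_closure hv), (hval v hv).2.2.2⟩
      | one => exact ⟨Subgroup.one_mem _, by rw [hu.map_one, hwY.map_one]; group⟩
      | mul v v' _ _ hv hv' =>
        refine ⟨Subgroup.mul_mem _ hv.1 hv'.1, ?_⟩
        have h1 := hm.map_mul hv.1 hv'.1
        have h2 := hh.map_mul hv.1 hv'.1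
        simp only [Function.comp] at h1 h2
        rw [h1, hv.2, hv'.2, h2]
      | inv v _ hv =>
        refine ⟨Subgroup.inv_mem _ hv.1, ?_⟩
        have h1 := hm.map_inv hv.1
        have h2 := hh.map_inv hv.1
        simp only [Function.comp] at h1 h2
        rw [h1, hv.2, h2]
    exact fun x hx => (hsub x hx).2
  have hmem : ∀ x ∈ P ⊔ C, ((fun y => t * y * t⁻¹) ∘ (w ∘ u)) x ∈ im (P ⊔ C) (w ∘ u) := by
    intro x hx
    refine (show im P _ ⊔ im C _ ≤ im (P ⊔ C) (w ∘ u) from sup_le ?_ ?_) (hm.im_sup_le (mem_im_of_mem hx))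
    · refine im_le_iff.2 fun r hr => ?_
      show t * w (u r) * t⁻¹ ∈ _
      rw [hPim r hr]
      exact mem_im_of_mem (f := w ∘ u) (Subgroup.mem_sup_left (av_mem a hr))
    · refine im_le_iff.2 fun r hr => ?_
      show t * w (u r) * t⁻¹ ∈ _
      rw [hCim r hr]
      exact mem_im_of_mem (f := w ∘ u) (Subgroup.mem_sup_right hr)
  refine ⟨k ∘ ((fun y => t * y * t⁻¹) ∘ (w ∘ u)), hm.comp hk' hmem, fun x hx => ?_, fun z hz => ?_⟩
  · show k (t * w (u x) * t⁻¹) = _
    rw [hPim x hx]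
    exact hkw _ (Subgroup.mem_sup_left (av_mem a hx))
  · show k (t * w (u z) * t⁻¹) = z
    rw [hCim z hz]
    exact hkw _ (Subgroup.mem_sup_right hz)

/-- The automorphisms of `T` in `E` fix `C_S(E)`. -/
theorem autT_le_fixSys (hS : IsPGroup p S) (hE : E.IsNormalIn F p) {α : MulAut T}
    (hα : α ∈ E.autGroup T) :
    α ∈ (fixSys F E (centEOf E F) centEOf_le hE.1.2.2.2.1.1).autGroup T := by
  obtain ⟨⟨hEs, hF, hEi⟩, -⟩ := id hE
  have hTS := hEi.2.1.1
  haveI := finite_of_le hTS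
  haveI := mulAut_finite_of_le hTS
  set C := centEOf E F
  set D := fixSys F E C centEOf_le hE.1.2.2.2.1.1
  obtain ⟨β, hβ, γ, hγ, rfl⟩ := exists_autS_mul_residual (hS.to_le hTS) hEs fn_self hα
  refine mul_mem (autInducedBy_le_autGroup le_rfl hβ) ?_
  suffices h : pResidual p ↥(E.autGroup T) ≤ (D.autGroup T).subgroupOf (E.autGroup T) from h hγ
  rw [pResidual]
  refine (Subgroup.closure_le _).2 fun δ hδ => ?_
  have ho : (orderOf (δ : MulAut T)).Coprime p := by rw [Subgroup.orderOf_coe]; exact hδ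
  obtain ⟨β', hβ', hβo, hβT, hβs⟩ := exists_pPrime_ext hE δ.2 ho
  have hL : T ⊔ centralizerIn S T ≤ S := sup_le hTS inf_le_left
  have hm := map_of_mem_autGroup hL hβ'
  refine mem_autGroup_of_map (map_fixSys.2 ⟨map_of_mem_autGroup le_rfl δ.2, av β',
    hm.restrict (sup_le_sup_left centEOf_le T), hβT, fun z hz => ?_⟩)
  exact hm.fix_closure (fun v hv => ⟨Subgroup.mem_sup_right (hv.1 (Subgroup.mem_zpowers v)),
    pPrime_ext_fix hS hE δ.2 ho hβ' hβo hβT hβs hv⟩) z hz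

/-- `C_S(E)` centralises `E`. -/
theorem centE_centEOf (hS : IsPGroup p S) (hE : E.IsNormalIn F p) : CentE E F (centEOf E F) := by
  obtain ⟨⟨hEs, hF, hEi⟩, -⟩ := id hE
  have hTS := hEi.2.1.1
  haveI := finite_of_le hTS
  refine ⟨centEOf_le, fun P f hf => ?_⟩
  set C := centEOf E F
  set D := fixSys F E C centEOf_le hE.1.2.2.2.1.1
  obtain ⟨α, hα, x, hx, hfx⟩ := fac_of_map (hS.to_le hTS) hEs
    (fun R hR => pResAut_le_fixSys hS hE.1 hR) (E := D) hf
  obtain ⟨-, g, hg, hgx, hgC⟩ := map_fixSys.1 hx.map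
  obtain ⟨-, h, hh, hhα, hhC⟩ := map_fixSys.1 (map_of_mem_autGroup le_rfl (autT_le_fixSys hS hE hα))
  refine ⟨h ∘ g, hg.comp hh fun z hz => ?_, fun r hr => ?_, fun z hz => ?_⟩
  · refine (show im P g ⊔ im C g ≤ T ⊔ C from sup_le_sup ?_ ?_) (hg.im_sup_le (mem_im_of_mem hz))
    · exact im_le_iff.2 fun r hr => by rw [hgx r hr]; exact hx.map.mem hr
    · exact im_le_iff.2 fun r hr => by rw [hgC r hr]; exact hr
  · show h (g r) = _
    rw [hgx r hr, hhα _ (hx.map.mem hr), hfx r hr]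
  · show h (g z) = z
    rw [hgC z hz, hhC z hz]

/-- `C_S(E)` is strongly closed. -/
theorem stronglyClosed_centEOf (hS : IsPGroup p S) (hE : E.IsNormalIn F p) :
    F.StronglyClosed (centEOf E F) := by
  obtain ⟨⟨hEs, hF, hEi⟩, -⟩ := id hE
  have hT := hEi.2.1
  haveI := finite_of_le hT.1
  set C := centEOf E F with hC
  have hCval : ∀ x ∈ C, CentE E F (Subgroup.zpowers x) := fun x hx =>
    (centE_centEOf hS hE).mono (Subgroup.zpowers_le.2 hx)
  have hin : ∀ x, CentE E F (Subgroup.zpowers x) → x ∈ C := fun x hx =>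
    hx.le_centEOf (Subgroup.mem_zpowers x)
  have hK : IsClosedClass F fun P f => ∀ x ∈ P, (x ∈ C ↔ f x ∈ C) :=
    { congr := fun h he x hx => by rw [← he x hx]; exact h x hx
      restrict := fun _ h hR x hx => h x (hR hx)
      comp := fun _ _ h h' hm x hx => (h x hx).trans (h' _ (hm x hx))
      inv := fun hf h hg y hy => by
        obtain ⟨x, hx, rfl⟩ := hf.mem_im.1 hy
        rw [hg x hx]; exact (h x hx).symm }
  have hgen : ∀ U : Subgroup Ω, (U = S ∨ F.IsEssential p U) → ∀ α ∈ F.autGroup U, ∀ x ∈ U,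
      x ∈ C → av α x ∈ C := by
    intro U hU α hα x hxU hx
    obtain ⟨hUc, hUr⟩ := gen_centric_radical hS hF hU
    have hR : E.IsCentric (U ⊓ T) := by
      by_contra hno
      exact (not_radical_of_inter_not_centric hS hF hT hEi.1 hUc hno).2 hUr
    exact hin _ ((hCval x hx).image hS hE.1 (U ⊓ T) x (av α) hR
      ((map_of_mem_autGroup hUc.1 hα).restrict (sup_le inf_le_left (Subgroup.zpowers_le.2 hxU))))
  have halp := alperin hS hF hK fun U hU α hα x hx => ⟨hgen U hU α hα x hx, fun h => by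
    have hUS : U ≤ S := (gen_centric_radical hS hF hU).1.1
    have := hgen U hU α⁻¹ ((F.autGroup U).inv_mem hα) _ (av_mem α hx) h
    rwa [av_inv_av α hx] at this⟩
  refine ⟨centEOf_le.trans inf_le_left, fun R hR φ hφ x => ?_⟩
  rw [← fn_coe φ x]
  exact (halp R _ (map_of_mem hφ) x x.2).1 (hR x.2)

end Cfsg.Agent.Local.FS
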