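import Cfsg.Agent.Lib.Local.FS.CentralizerOfNormal

/-!
Maps centralising a centric subgroup of a normal subsystem commute with the normaliser in its Sylow group.
-/

set_option autoImplicit false

namespace Cfsg.Agent.Local.FS

open Cfsg Cfsg.FusionSystem Cfsg.Agent.Fusion

variable {Ω : Type*} [Group Ω] {S T : Subgroup Ω} [Finite S] {F : FusionSystem S} {E : FusionSystem T}
  {D P Q R W : Subgroup Ω} {f g : Ω → Ω} {p : ℕ} [Fact p.Prime]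

/-- A map fixing a centric subgroup `Q` of `E` commutes with the normaliser of `Q` in `T` on `C_S(Q)`. -/
theorem comm_of_centric (hS : IsPGroup p S) (hE : E.IsWeaklyNormalIn F p) (hQ : E.IsCentric Q) {t x : Ω}
    (ht : t ∈ normalizerIn T Q) (hx : x ∈ centralizerIn S Q) {φ : Ω → Ω}
    (hφ : Map F (Q ⊔ Subgroup.zpowers x) φ) (hφQ : ∀ r ∈ Q, φ r = r) :
    φ (t * x * t⁻¹) = t * φ x * t⁻¹ := by
  obtain ⟨hEs, hF, hEi⟩ := id hE
  have hT := hEi.2.1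
  have hQS : Q ≤ S := hQ.1.trans hT.1
  obtain ⟨y, hydef⟩ : ∃ y, y = φ x := ⟨_, rfl⟩
  have hy : y ∈ centralizerIn S Q := by
    have h1 := hφ.mem_centralizer le_sup_left (Subgroup.mem_sup_right (Subgroup.mem_zpowers x))
      (mem_centralizerIn.1 hx).2
    rw [im_congr (g := id) hφQ, im_id] at h1
    exact hydef ▸ h1
  have hnorm : ∀ w, w ∈ centralizerIn S Q → t ∈ Subgroup.normalizer
      ((Q ⊔ Subgroup.zpowers w : Subgroup Ω) : Set Ω) := by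
    intro w hw
    have hd : t * w * t⁻¹ * w⁻¹ ∈ Q := by
      refine hQ.2 Q (isConj_refl hQ.1) (mem_centralizerIn.2 ⟨?_, fun r hr => ?_⟩)
      · have h1 := stronglyClosed_conj_mem hT (mem_centralizerIn.1 hw).1 (T.inv_mem ht.1)
        have := T.mul_mem ht.1 h1
        simpa [mul_assoc] using this
      · have hr' : t⁻¹ * r * t ∈ Q := by simpa using conj_mem_of_normalizer (Subgroup.inv_mem _ ht.2) hr
        have h1 := (mem_centralizerIn.1 hw).2 _ hr'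
        have h2 := (mem_centralizerIn.1 hw).2 r hr
        have h3 : r * (t * w * t⁻¹) = t * w * t⁻¹ * r := by
          calc r * (t * w * t⁻¹) = t * (t⁻¹ * r * t * w) * t⁻¹ := by group
            _ = _ := by rw [h1]; group
        have h4 : w⁻¹ * r = r * w⁻¹ := by
          calc w⁻¹ * r = w⁻¹ * (r * w) * w⁻¹ := by group
            _ = _ := by rw [h2]; group
        rw [← mul_assoc, h3, mul_assoc, ← h4, ← mul_assoc]
    have hle : Q ⊔ Subgroup.zpowers w ≤ (Q ⊔ Subgroup.zpowers w).comap (MulAut.conj t).toMonoidHom := by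
      refine sup_le (fun z hz => Subgroup.mem_sup_left (conj_mem_of_normalizer ht.2 hz))
        (Subgroup.zpowers_le.2 ?_)
      show t * w * t⁻¹ ∈ Q ⊔ Subgroup.zpowers w
      rw [show t * w * t⁻¹ = (t * w * t⁻¹ * w⁻¹) * w by group]
      exact Subgroup.mul_mem_sup hd (Subgroup.mem_zpowers w)
    exact mem_normalizer_of_conj_mem (sup_le hQS (Subgroup.zpowers_le.2 (mem_centralizerIn.1 hw).1))
      fun z hz => hle hz
  have hshift : ∀ w, w ∈ centralizerIn S Q → ∀ z ∈ Q ⊔ Subgroup.zpowers w, ∀ u ∈ centralizerIn T Q,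
      u * z = z * u := by
    intro w hw z hz u hu
    have hle : Q ⊔ Subgroup.zpowers w ≤ Subgroup.centralizer ({u} : Set Ω) := by
      refine sup_le (fun r hr => Subgroup.mem_centralizer_singleton_iff.2 ((mem_centralizerIn.1 hu).2 r hr))
        (Subgroup.zpowers_le.2 (Subgroup.mem_centralizer_singleton_iff.2 ?_))
      exact ((mem_centralizerIn.1 hw).2 u (hQ.2 Q (isConj_refl hQ.1) hu)).symm
    exact (Subgroup.mem_centralizer_singleton_iff.1 (hle hz)).symm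
  obtain ⟨W₁, hW₁⟩ : ∃ W, W = Q ⊔ Subgroup.zpowers x := ⟨_, rfl⟩
  obtain ⟨W₂, hW₂⟩ : ∃ W, W = Q ⊔ Subgroup.zpowers y := ⟨_, rfl⟩
  have ht₁ : t ∈ Subgroup.normalizer (W₁ : Set Ω) := hW₁ ▸ hnorm x hx
  have ht₂ : t ∈ Subgroup.normalizer (W₂ : Set Ω) := hW₂ ▸ hnorm y hy
  rw [← hW₁] at hφ
  have hxW : x ∈ W₁ := hW₁ ▸ Subgroup.mem_sup_right (Subgroup.mem_zpowers x)
  have hQW₁ : Q ≤ W₁ := hW₁ ▸ le_sup_left
  have hQW₂ : Q ≤ W₂ := hW₂ ▸ le_sup_left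
  have hyW : y ∈ W₂ := hW₂ ▸ Subgroup.mem_sup_right (Subgroup.mem_zpowers y)
  have hW₂S : W₂ ≤ S := hW₂.le.trans (sup_le hQS (Subgroup.zpowers_le.2 (mem_centralizerIn.1 hy).1))
  have hφi : im W₁ φ = W₂ := by
    refine le_antisymm (im_le_iff.2 fun z hz => ?_) ?_
    · have hle := hW₁.le hz
      rw [← SetLike.mem_coe, Subgroup.coe_mul_of_left_le_normalizer_right Q _
        (sup_zpowers_comm fun r hr => (mem_centralizerIn.1 hx).2 r hr)] at hle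
      obtain ⟨r, hr, w, hw, rfl⟩ := hle
      obtain ⟨i, rfl⟩ := Subgroup.mem_zpowers_iff.1 hw
      have hxi : φ (x ^ i) = y ^ i := by
        obtain ⟨ψ, hψ, he⟩ := id hφ
        have h1 := _root_.map_zpow ψ ⟨x, hxW⟩ i
        rw [he, he] at h1
        simp only [SubgroupClass.coe_zpow] at h1
        rw [h1, hydef]
      rw [hφ.map_mul (hQW₁ hr) (W₁.zpow_mem hxW i), hφQ r hr, hxi]
      exact W₂.mul_mem (hQW₂ hr) (W₂.zpow_mem hyW i)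
    · rw [hW₂]
      refine sup_le (fun r hr => ?_) (Subgroup.zpowers_le.2 (hydef ▸ mem_im_of_mem hxW))
      rw [← hφQ r hr]; exact mem_im_of_mem (hQW₁ hr)
  haveI := finite_of_le hW₂S
  haveI := finite_of_le hφ.le
  obtain ⟨q, hq, hW⟩ := exists_push (n := 0) hS (fun U hU _ => hF U hU) hW₂S Nat.card_pos hQW₂
  set W₃ := im W₂ q
  set Q₃ := im Q q
  have hW₃S : W₃ ≤ S := hW.2.1.1
  haveI := mulAut_finite_of_le hW₃S
  have hq₁ : Map F W₁ (q ∘ φ) := hφ.comp hq fun z hz => hφi.le (mem_im_of_mem hz)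
  have hq₁i : im W₁ (q ∘ φ) = W₃ := by rw [hφ.im_comp, hφi]
  obtain ⟨e₁, he₁⟩ := exists_equiv hq₁ hq₁i
  obtain ⟨e₂, he₂⟩ := exists_equiv hq rfl
  obtain ⟨a₁, ha₁, ha₁S⟩ := exists_aut_conj ht₁
  obtain ⟨a₂, ha₂, ha₂S⟩ := exists_aut_conj ht₂
  have htS : t ∈ S := hT.1 ht.1
  obtain ⟨k₁, hk₁⟩ : ∃ k, k = MulAut.congr e₁ a₁ := ⟨_, rfl⟩
  obtain ⟨k₂, hk₂⟩ : ∃ k, k = MulAut.congr e₂ a₂ := ⟨_, rfl⟩
  have hk₁F : k₁ ∈ F.autGroup W₃ :=
    hk₁ ▸ congr_mem_autGroup hq₁ hq₁i he₁ (autInducedBy_le_autGroup hφ.le (ha₁S S htS))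
  have hk₂F : k₂ ∈ F.autGroup W₃ :=
    hk₂ ▸ congr_mem_autGroup hq rfl he₂ (autInducedBy_le_autGroup hW₂S (ha₂S S htS))
  have hk₁e : ∀ z ∈ W₁, av k₁ (q (φ z)) = q (φ (t * z * t⁻¹)) := fun z hz => by
    rw [hk₁, show q (φ z) = (q ∘ φ) z from rfl, av_congr_apply he₁ a₁ hz, ha₁ z hz]; rfl
  have hk₂e : ∀ z ∈ W₂, av k₂ (q z) = q (t * z * t⁻¹) := fun z hz => by
    rw [hk₂, av_congr_apply he₂ a₂ hz, ha₂ z hz]
  have hstab : ∀ k : MulAut W₃, k ∈ F.autGroup W₃ → (∀ r ∈ Q, av k (q r) = q (t * r * t⁻¹)) →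
      k ∈ stab F W₃ Q₃ Q₃ := by
    intro k hk hke
    refine ⟨hk, fun z hz => ?_⟩
    obtain ⟨w, hw, rfl⟩ := hq.mem_im.1 hz
    have h : av k (q w) ∈ Q₃ ↔ q w ∈ Q₃ := by
      refine ⟨fun h => ?_, fun h => ?_⟩
      · obtain ⟨r, hr, hre⟩ := (hq.restrict hQW₂).mem_im.1 h
        have hr' : t⁻¹ * r * t ∈ Q := by simpa using conj_mem_of_normalizer (Subgroup.inv_mem _ ht.2) hr
        have h2 : av k (q (t⁻¹ * r * t)) = av k (q w) := by rw [hke _ hr', ← hre]; group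
        have h3 := (map_of_mem_autGroup hW₃S hk).injOn (mem_im_of_mem (hQW₂ hr')) (mem_im_of_mem hw) h2
        exact h3 ▸ mem_im_of_mem hr'
      · obtain ⟨r, hr, hre⟩ := (hq.restrict hQW₂).mem_im.1 h
        rw [← hre, hke r hr]
        exact mem_im_of_mem (conj_mem_of_normalizer ht.2 hr)
    exact ⟨h, h⟩
  have hk₁Q : ∀ r ∈ Q, av k₁ (q r) = q (t * r * t⁻¹) := fun r hr => by
    have := hk₁e r (hQW₁ hr)
    rwa [hφQ r hr, hφQ _ (conj_mem_of_normalizer ht.2 hr)] at this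
  have hk₂Q : ∀ r ∈ Q, av k₂ (q r) = q (t * r * t⁻¹) := fun r hr => hk₂e r (hQW₂ hr)
  have hk₁st := hstab k₁ hk₁F hk₁Q
  have hk₂st := hstab k₂ hk₂F hk₂Q
  -- move both into `Aut_S`
  have hk₁p : IsPGroup p ↥(Subgroup.zpowers k₁) := by
    have := ((isPGroup_autS (P := W₁) hS).map (MulAut.congr e₁).toMonoidHom)
    exact this.to_le (Subgroup.zpowers_le.2 ⟨a₁, ha₁S S htS, hk₁.symm⟩)
  obtain ⟨χ, hχ, hle⟩ := hW.2.2.conj_le hk₁p (Subgroup.zpowers_le.2 hk₁st)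
  have hc₁ : χ * k₁ * χ⁻¹ ∈ autInducedBy S W₃ := (hle (conj_mem_cj (g := χ) (Subgroup.mem_zpowers k₁))).1
  obtain ⟨d, hd⟩ : ∃ d, d = χ * (k₁⁻¹ * k₂) * χ⁻¹ := ⟨_, rfl⟩
  have hdst : d ∈ stab F W₃ Q₃ Q₃ := hd ▸ mul_mem (mul_mem hχ (mul_mem (inv_mem hk₁st) hk₂st)) (inv_mem hχ)
  have hk12 : ∀ r ∈ Q, av (k₁⁻¹ * k₂) (q r) = q r := fun r hr => by
    rw [av_mul _ _ (mem_im_of_mem (hQW₂ hr)), hk₂Q r hr, ← hk₁Q r hr, av_inv_av k₁ (mem_im_of_mem (hQW₂ hr))]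
  have hχm := map_of_mem_autGroup hW₃S hχ.1
  have hQconj : ∀ w ∈ centralizerIn S Q, w⁻¹ * (t * w * t⁻¹) ∈ Q := by
    intro w hw
    refine hQ.2 Q (isConj_refl hQ.1) (mem_centralizerIn.2 ⟨?_, fun r hr => ?_⟩)
    · have h2 := stronglyClosed_conj_mem hT (S.inv_mem (mem_centralizerIn.1 hw).1) ht.1
      have := T.mul_mem h2 (T.inv_mem ht.1)
      simpa [mul_assoc] using this
    · have hr' : t⁻¹ * r * t ∈ Q := by simpa using conj_mem_of_normalizer (Subgroup.inv_mem _ ht.2) hr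
      have h3 := (mem_centralizerIn.1 hw).2 _ hr'
      have h4 := (mem_centralizerIn.1 hw).2 r hr
      have h5 : r * (t * w * t⁻¹) = t * w * t⁻¹ * r := by
        calc r * (t * w * t⁻¹) = t * (t⁻¹ * r * t * w) * t⁻¹ := by group
          _ = _ := by rw [h3]; group
      have h6 : r * w⁻¹ = w⁻¹ * r := by
        calc r * w⁻¹ = w⁻¹ * (w * r) * w⁻¹ := by group
          _ = _ := by rw [← h4]; group
      rw [← mul_assoc, h6, mul_assoc, h5, ← mul_assoc]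
  have hqy : q y ∈ W₃ := mem_im_of_mem hyW
  have hy2 : (q y)⁻¹ * av k₂ (q y) ∈ Q₃ := by
    rw [hk₂e y hyW, ← hq.map_inv hyW, ← hq.map_mul (W₂.inv_mem hyW) (conj_mem_of_normalizer ht₂ hyW)]
    exact mem_im_of_mem (hQconj y hy)
  have hy1 : (q y)⁻¹ * av k₁ (q y) ∈ Q₃ := by
    have h1 : t * x * t⁻¹ ∈ W₁ := conj_mem_of_normalizer ht₁ hxW
    have h3 := hk₁e x hxW
    rw [hydef, h3]
    show ((q ∘ φ) x)⁻¹ * (q ∘ φ) (t * x * t⁻¹) ∈ Q₃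
    rw [← hq₁.map_inv hxW, ← hq₁.map_mul (W₁.inv_mem hxW) h1]
    show q (φ _) ∈ Q₃
    rw [hφQ _ (hQconj x hx)]
    exact mem_im_of_mem (hQconj x hx)
  have hm12 := map_of_mem_autGroup hW₃S (mul_mem (inv_mem hk₁F) hk₂F)
  have hW₃eq : W₃ = Q₃ ⊔ Subgroup.zpowers (q y) := by
    refine le_antisymm (im_le_iff.2 fun z hz => ?_) (sup_le (im_mono hQW₂) (Subgroup.zpowers_le.2 hqy))
    have hle := hW₂.le hz
    rw [← SetLike.mem_coe, Subgroup.coe_mul_of_left_le_normalizer_right Q _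
      (sup_zpowers_comm fun r hr => (mem_centralizerIn.1 hy).2 r hr)] at hle
    obtain ⟨r, hr, v, hv, rfl⟩ := hle
    obtain ⟨i, rfl⟩ := Subgroup.mem_zpowers_iff.1 hv
    have hyi : q (y ^ i) = (q y) ^ i := by
      obtain ⟨ψ, hψ, he⟩ := id hq
      have h1 := _root_.map_zpow ψ ⟨y, hyW⟩ i
      rw [he, he] at h1
      simp only [SubgroupClass.coe_zpow] at h1
      exact h1
    rw [hq.map_mul (hQW₂ hr) (W₂.zpow_mem hyW i), hyi]
    exact Subgroup.mul_mem_sup (mem_im_of_mem hr) (Subgroup.zpow_mem_zpowers _ _)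
  have hcommQ₃ : ∀ z ∈ Q₃, z * q y = q y * z := by
    intro z hz
    obtain ⟨r, hr, rfl⟩ := (hq.restrict hQW₂).mem_im.1 hz
    rw [← hq.map_mul (hQW₂ hr) hyW, ← hq.map_mul hyW (hQW₂ hr), (mem_centralizerIn.1 hy).2 r hr]
  have h12Q : ∀ z ∈ Q₃, av (k₁⁻¹ * k₂) z ∈ Q₃ := by
    intro z hz
    obtain ⟨r, hr, rfl⟩ := (hq.restrict hQW₂).mem_im.1 hz
    rw [hk12 r hr]; exact hz
  have h12 : (q y)⁻¹ * av (k₁⁻¹ * k₂) (q y) ∈ Q₃ := by
    have hst := (stab F W₃ Q₃ Q₃).inv_mem hk₁st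
    have hm := map_of_mem_autGroup hW₃S ((F.autGroup W₃).inv_mem hk₁F)
    have h1 := (hst.2 _ (hW.1 hy1)).1.2 hy1
    rw [hm.map_mul (W₃.inv_mem hqy) (av_mem k₁ hqy), hm.map_inv hqy, av_inv_av k₁ hqy] at h1
    have h1' := Q₃.inv_mem h1
    rw [mul_inv_rev, inv_inv] at h1'
    have h2 := (hst.2 _ (hW.1 hy2)).1.2 hy2
    rw [hm.map_mul (W₃.inv_mem hqy) (av_mem k₂ hqy), hm.map_inv hqy] at h2
    rw [av_mul _ _ hqy]
    have := Q₃.mul_mem h1' h2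
    rwa [mul_assoc, mul_inv_cancel_left] at this
  have h12s := shift_of_gen hm12 hW₃eq hcommQ₃ h12Q h12
  have hdQ : ∀ z ∈ Q₃, av d z = z := by
    intro z hz
    have hz' := hW.1 hz
    have h1 : av χ⁻¹ z ∈ Q₃ := (((stab F W₃ Q₃ Q₃).inv_mem hχ).2 z hz').1.2 hz
    obtain ⟨r, hr, hre⟩ := (hq.restrict hQW₂).mem_im.1 h1
    rw [hd, av_mul _ _ hz', av_mul _ _ (av_mem _ hz'), ← hre, hk12 r hr, hre, av_av_inv χ hz']
  have hds : ∀ z ∈ W₃, z⁻¹ * av d z ∈ Q₃ := by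
    intro z hz
    have hu := av_mem χ⁻¹ hz
    obtain ⟨w, hw, hwe⟩ := hq.mem_im.1 hu
    have h : (q w)⁻¹ * av (k₁⁻¹ * k₂) (q w) ∈ Q₃ := h12s _ (mem_im_of_mem hw)
    have h1 := (hχ.2 _ (hW.1 h)).1.2 h
    rw [hχm.map_mul (W₃.inv_mem (mem_im_of_mem hw)) (av_mem _ (mem_im_of_mem hw)),
      hχm.map_inv (mem_im_of_mem hw), hwe, av_av_inv χ hz] at h1
    rwa [hd, av_mul _ _ hz, av_mul _ _ (av_mem _ hz)]
  have hc₂ : χ * k₂ * χ⁻¹ ∈ autInducedBy S W₃ := by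
    have h1 := mul_mem hc₁ (shift_le_autS hS hW hdst.1 hdQ hds)
    rwa [hd, show χ * k₁ * χ⁻¹ * (χ * (k₁⁻¹ * k₂) * χ⁻¹) = χ * k₂ * χ⁻¹ by group] at h1
  -- extend both to `t`
  have hext : ∀ (W' : Subgroup Ω) (h : Ω → Ω) (k : MulAut W₃), t ∈ Subgroup.normalizer (W' : Set Ω) →
      Map F W' h → im W' h = W₃ → (∀ z ∈ W', av k (h z) = h (t * z * t⁻¹)) → χ * k * χ⁻¹ ∈ autInducedBy S W₃ →
      ∃ t' ∈ T, ∀ z ∈ W', av χ (h (t * z * t⁻¹)) = t' * av χ (h z) * t'⁻¹ := by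
    intro W' h k htW hh hhi hhk hc
    obtain ⟨s, hs, hse⟩ := mem_autInducedBy.1 hc
    have hmem : ∀ z ∈ W', h z ∈ W₃ := fun z hz => hhi.le (mem_im_of_mem hz)
    have hhχ : Map F W' (av χ ∘ h) := hh.comp hχm hmem
    have hhχi : im W' (av χ ∘ h) = W₃ := by rw [hh.im_comp, hhi, im_av]
    obtain ⟨g, hg, hge⟩ := (receptive_iff.1 hW.2.1).2 W' _ hhχ hhχi
    have htN : t ∈ Nf S W' (av χ ∘ h) := by
      refine ⟨htS, htW, s, hs, fun z hz => ?_⟩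
      show av χ (h (t * z * t⁻¹)) = s * av χ (h z) * s⁻¹
      rw [← hse _ (av_mem χ (hmem z hz)), av_mul _ _ (av_mem χ (hmem z hz)), av_inv_av χ (hmem z hz),
        av_mul _ _ (hmem z hz), hhk z hz]
    refine ⟨g t, stronglyClosed_map hT hg htN ht.1, fun z hz => ?_⟩
    have := hg.map_conj htN (le_Nf hhχ hz)
    rw [hge z hz, hge _ (conj_mem_of_normalizer htW hz)] at this
    exact this
  obtain ⟨t₁, ht₁T, ht₁e⟩ := hext W₁ _ k₁ ht₁ hq₁ hq₁i hk₁e hc₁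
  obtain ⟨t₂, ht₂T, ht₂e⟩ := hext W₂ q k₂ ht₂ hq rfl hk₂e hc₂
  have hqχ : Map F W₂ (av χ ∘ q) := hq.comp hχm fun z hz => mem_im_of_mem hz
  have hQc := centric_of_sub_map hEi hQ (hqχ.restrict hQW₂)
  obtain ⟨w, hw⟩ : ∃ w, w = av χ (q y) := ⟨_, rfl⟩
  have hwC : w ∈ centralizerIn S (im Q (av χ ∘ q)) :=
    hw ▸ hqχ.mem_centralizer hQW₂ hyW (mem_centralizerIn.1 hy).2
  have hu : t₂⁻¹ * t₁ ∈ centralizerIn T (im Q (av χ ∘ q)) := by
    refine mem_centralizerIn.2 ⟨T.mul_mem (T.inv_mem ht₂T) ht₁T, fun z hz => ?_⟩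
    obtain ⟨r, hr, rfl⟩ := (hqχ.restrict hQW₂).mem_im.1 hz
    have h1 := ht₁e r (hQW₁ hr)
    have h2 := ht₂e r (hQW₂ hr)
    simp only [Function.comp] at h1 h2 ⊢
    rw [hφQ r hr, hφQ _ (conj_mem_of_normalizer ht.2 hr), h2] at h1
    calc av χ (q r) * (t₂⁻¹ * t₁) = t₂⁻¹ * (t₂ * av χ (q r) * t₂⁻¹) * t₁ := by group
      _ = t₂⁻¹ * (t₁ * av χ (q r) * t₁⁻¹) * t₁ := by rw [h1]
      _ = _ := by group
  have huw : (t₂⁻¹ * t₁) * w = w * (t₂⁻¹ * t₁) :=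
    (mem_centralizerIn.1 hwC).2 _ (hQc.2 _ (isConj_refl hQc.1) hu)
  have hcx : t * x * t⁻¹ ∈ W₁ := conj_mem_of_normalizer ht₁ hxW
  have h1 := ht₁e x hxW
  have h2 := ht₂e y hyW
  simp only [Function.comp] at h1 h2
  rw [← hydef, ← hw] at h1
  rw [← hw] at h2
  have h3 : av χ (q (φ (t * x * t⁻¹))) = av χ (q (t * y * t⁻¹)) := by
    rw [h1, h2]
    calc t₁ * w * t₁⁻¹ = t₂ * ((t₂⁻¹ * t₁) * w) * t₁⁻¹ := by group
      _ = _ := by rw [huw]; group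
  rw [← hydef]
  exact hqχ.injOn (hφi.le (mem_im_of_mem hcx)) (conj_mem_of_normalizer ht₂ hyW) h3

end Cfsg.Agent.Local.FS
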