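import Cfsg.Agent.Lib.Local.FS.PrimeResidualIsNormal

/-!
Elements centralising a normal subsystem, and their images under maps defined on centric subgroups.
-/

set_option autoImplicit false

namespace Cfsg.Agent.Local.FS

open Cfsg Cfsg.FusionSystem Cfsg.Agent.Fusion

variable {Ω : Type*} [Group Ω] {S T : Subgroup Ω} {F : FusionSystem S} {E : FusionSystem T}
  {P Q R X Y : Subgroup Ω} {f g : Ω → Ω} {p : ℕ}

/-- Every map of `E` extends by the identity on `Y`. -/
def CentE (E : FusionSystem T) (F : FusionSystem S) (Y : Subgroup Ω) : Prop :=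
  Y ≤ centralizerIn S T ∧ ∀ (P : Subgroup Ω) (f : Ω → Ω), Map E P f →
    ∃ g, Map F (P ⊔ Y) g ∧ (∀ x ∈ P, g x = f x) ∧ ∀ y ∈ Y, g y = y

theorem CentE.mono (h : CentE E F Y) (hX : X ≤ Y) : CentE E F X := by
  refine ⟨hX.trans h.1, fun P f hf => ?_⟩
  obtain ⟨g, hg, hgf, hgY⟩ := h.2 P f hf
  exact ⟨g, hg.restrict (sup_le_sup_left hX P), hgf, fun y hy => hgY y (hX hy)⟩

theorem sup_zpowers_comm {x : Ω} (hx : ∀ r ∈ R, r * x = x * r) :
    R ≤ Subgroup.normalizer (Subgroup.zpowers x : Set Ω) := fun r hr => by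
  refine Subgroup.mem_normalizer_iff.2 fun w => ?_
  constructor
  · intro hw
    obtain ⟨i, rfl⟩ := Subgroup.mem_zpowers_iff.1 hw
    rw [((show Commute r x from hx r hr).zpow_right i).eq, mul_inv_cancel_right]
    exact Subgroup.zpow_mem_zpowers _ _
  · intro hw
    obtain ⟨i, hi⟩ := Subgroup.mem_zpowers_iff.1 hw
    have : w = x ^ i := by
      have h2 := ((show Commute r x from hx r hr).zpow_right i).eq
      calc w = r⁻¹ * (r * w * r⁻¹) * r := by group
        _ = r⁻¹ * (x ^ i * r) := by rw [← hi, mul_assoc]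
        _ = x ^ i := by rw [← h2]; group
    rw [this]
    exact Subgroup.zpow_mem_zpowers _ _

variable [Finite S]

/-- Maps defined on `T` transport centralising subgroups. -/
theorem CentE.transport (hE : E.IsInvariantIn F) (hY : CentE E F Y) (hg : Map F (T ⊔ Y) g) :
    CentE E F (im Y g) := by
  haveI := finite_of_le hE.2.1.1
  have hgT := hg.restrict le_sup_left
  have hi : im T g = T :=
    Subgroup.eq_of_le_of_card_ge (im_le_iff.2 fun x hx => stronglyClosed_map hE.2.1 hgT hx hx)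
      hgT.card_im.ge
  obtain ⟨a, ha, hag⟩ := exists_aut hgT hi
  refine ⟨im_le_iff.2 fun y hy => ?_, fun P f hf => ?_⟩
  · have h1 := hg.mem_centralizer le_sup_left (Subgroup.mem_sup_right hy)
      (mem_centralizerIn.1 (hY.1 hy)).2
    rwa [hi] at h1
  obtain ⟨h, hh, hhe⟩ := inv_map hE hf ((F.autGroup T).inv_mem ha)
  obtain ⟨h', hh', hh'P, hh'Y⟩ := hY.2 _ h hh
  obtain ⟨k, hk, hkg, hgk, hki⟩ := hg.exists_inv
  have hP' : im P (av a⁻¹) ≤ T := hh.le
  have hPimg : P ≤ im (T ⊔ Y) g := hf.le.trans (hi.ge.trans (im_mono le_sup_left))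
  have hdom : P ⊔ im Y g ≤ im (T ⊔ Y) g := sup_le hPimg (im_mono le_sup_right)
  have hkP : ∀ x ∈ P, k x = av a⁻¹ x := fun x hx => by
    obtain ⟨t, ht, rfl⟩ := hgT.mem_im.1 (hi.ge (hf.le hx))
    rw [hkg t (Subgroup.mem_sup_left ht), ← hag t ht, av_inv_av a ht]
  have hkm := hk.restrict hdom
  have hk1 : ∀ z ∈ P ⊔ im Y g, k z ∈ im P (av a⁻¹) ⊔ Y := by
    intro z hz
    refine (show im P k ⊔ im (im Y g) k ≤ im P (av a⁻¹) ⊔ Y from sup_le_sup (im_congr hkP).le ?_)
      (hkm.im_sup_le (mem_im_of_mem hz))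
    refine im_le_iff.2 fun w hw => ?_
    obtain ⟨y, hy, rfl⟩ := (hg.restrict le_sup_right).mem_im.1 hw
    rw [hkg y (Subgroup.mem_sup_right hy)]; exact hy
  have hh1 : ∀ z ∈ im P (av a⁻¹) ⊔ Y, h' z ∈ T ⊔ Y := by
    intro z hz
    refine (show im (im P (av a⁻¹)) h' ⊔ im Y h' ≤ T ⊔ Y from sup_le_sup ?_ ?_)
      (hh'.im_sup_le (mem_im_of_mem hz))
    · exact im_le_iff.2 fun w hw => by rw [hh'P w hw]; exact hh.mem hw
    · exact im_le_iff.2 fun w hw => by rw [hh'Y w hw]; exact hw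
  refine ⟨g ∘ h' ∘ k, (hkm.comp hh' hk1).comp hg fun z hz => hh1 _ (hk1 z hz), fun x hx => ?_, fun y hy => ?_⟩
  · show g (h' (k x)) = f x
    rw [hkP x hx, hh'P _ (mem_im_of_mem hx), hhe x hx, ← hag _ (av_mem _ (hf.mem hx)),
      av_av_inv a (hf.mem hx)]
  · obtain ⟨w, hw, rfl⟩ := (hg.restrict le_sup_right).mem_im.1 hy
    show g (h' (k (g w))) = g w
    rw [hkg w (Subgroup.mem_sup_right hw), hh'Y w hw]

variable [Fact p.Prime]

/-- The automorphisms of `W` fixing `X` pointwise and moving elements only inside `X`, for a well placed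
pair, are induced from `S`. -/
theorem shift_le_autS {W : Subgroup Ω} (hS : IsPGroup p S) (hW : WellPlaced F p W X) {b : MulAut W}
    (hb : b ∈ F.autGroup W) (hbX : ∀ y ∈ X, av b y = y) (hbs : ∀ y ∈ W, y⁻¹ * av b y ∈ X) :
    b ∈ autInducedBy S W := by
  have hWS := hW.2.1.1
  haveI := mulAut_finite_of_le hWS
  haveI := finite_of_le hWS
  let K : Subgroup (MulAut W) :=
    { carrier := {b | b ∈ F.autGroup W ∧ (∀ y ∈ X, av b y = y) ∧ ∀ y ∈ W, y⁻¹ * av b y ∈ X}
      one_mem' := ⟨one_mem _, fun y hy => av_one (hW.1 hy), fun y hy => by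
        rw [av_one hy, inv_mul_cancel]; exact X.one_mem⟩
      mul_mem' := by
        rintro a c ⟨ha, ha1, ha2⟩ ⟨hc, hc1, hc2⟩
        refine ⟨mul_mem ha hc, fun y hy => by rw [av_mul _ _ (hW.1 hy), hc1 y hy, ha1 y hy], fun y hy => ?_⟩
        rw [av_mul _ _ hy, show y⁻¹ * av a (av c y) = (y⁻¹ * av c y) * ((av c y)⁻¹ * av a (av c y)) by group]
        exact X.mul_mem (hc2 y hy) (ha2 _ (av_mem c hy))
      inv_mem' := by
        rintro a ⟨ha, ha1, ha2⟩
        refine ⟨inv_mem ha, fun y hy => ?_, fun y hy => ?_⟩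
        · conv_lhs => rw [← ha1 y hy]
          exact av_inv_av a (hW.1 hy)
        · have := X.inv_mem (ha2 _ (av_mem a⁻¹ hy))
          rwa [av_av_inv _ hy, mul_inv_rev, inv_inv] at this }
  have hKst : K ≤ stab F W X X := by
    rintro c ⟨hc, hc1, hc2⟩
    have h : ∀ x ∈ W, (av c x ∈ X ↔ x ∈ X) := fun x hx => by
      refine ⟨fun h => ?_, fun h => by rw [hc1 x h]; exact h⟩
      have := X.mul_mem h (X.inv_mem (hc2 x hx))
      simpa [mul_assoc] using this
    exact ⟨hc, fun x hx => ⟨h x hx, h x hx⟩⟩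
  have hKp : IsPGroup p K := fun c => by
    obtain ⟨k, hk⟩ := exists_pow_eq_one_of_stabilizes (hS.to_le hWS) (α := (c : MulAut W))
      (fun i => if i = 0 then ⊥ else if i = 1 then X else W) 2 rfl (by simp)
      (monotone_nat_of_le_succ fun i => by rcases i with _ | _ | i <;> simp [hW.1])
      (fun i hi y hy hyC => by
        rcases i with _ | _ | i
        · simp only [zero_add, one_ne_zero, if_false, if_true] at hyC ⊢
          rw [Subgroup.mem_bot, c.2.2.1 y hyC, inv_mul_cancel]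
        · simpa using c.2.2.2 y hy
        · omega)
    exact ⟨k, Subtype.ext (by rw [SubmonoidClass.coe_pow, hk, OneMemClass.coe_one])⟩
  obtain ⟨χ, hχ, hle⟩ := hW.2.2.conj_le hKp hKst
  obtain ⟨a, ha⟩ : ∃ a, a = χ⁻¹ * b * χ := ⟨_, rfl⟩
  have hχF : χ ∈ F.autGroup W := hχ.1
  have haK : a ∈ K := by
    refine ⟨ha ▸ mul_mem (mul_mem (inv_mem hχF) hb) hχF, fun y hy => ?_, fun y hy => ?_⟩
    · have hy' := hW.1 hy
      rw [ha, av_mul _ _ hy', av_mul _ _ (av_mem χ hy'), hbX _ ((hχ.2 y hy').1.2 hy), av_inv_av χ hy']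
    · rw [ha, av_mul _ _ hy, av_mul _ _ (av_mem χ hy)]
      have h1 := hbs _ (av_mem χ hy)
      have hm := map_of_mem_autGroup hWS (inv_mem hχF)
      have h2 : av χ⁻¹ ((av χ y)⁻¹ * av b (av χ y)) ∈ X := by
        have h3 := ((stab F W X X).inv_mem hχ).2 _ (hW.1 h1)
        exact h3.1.2 h1
      rwa [hm.map_mul (W.inv_mem (av_mem χ hy)) (av_mem b (av_mem χ hy)), hm.map_inv (av_mem χ hy),
        av_inv_av χ hy] at h2
  have := (hle (conj_mem_cj (g := χ) haK)).1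
  rwa [ha, show χ * (χ⁻¹ * b * χ) * χ⁻¹ = b by group] at this

/-- Maps defined on a centric subgroup of `E` and an element centralising `E` send it to such an element. -/
theorem CentE.image (hS : IsPGroup p S) (hE : E.IsWeaklyNormalIn F p) :
    ∀ (R : Subgroup Ω) (x : Ω) (g : Ω → Ω), E.IsCentric R → CentE E F (Subgroup.zpowers x) →
      Map F (R ⊔ Subgroup.zpowers x) g → CentE E F (Subgroup.zpowers (g x)) := by
  obtain ⟨hEs, hF, hEi⟩ := id hE
  have hT := hEi.2.1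
  haveI := finite_of_le hT.1
  suffices ∀ n, ∀ (R : Subgroup Ω) (x : Ω) (g : Ω → Ω), Nat.card T - Nat.card R = n → E.IsCentric R →
      CentE E F (Subgroup.zpowers x) → Map F (R ⊔ Subgroup.zpowers x) g →
      CentE E F (Subgroup.zpowers (g x)) from fun R x g => this _ R x g rfl
  intro n
  induction n using Nat.strong_induction_on with
  | _ n ih =>
  intro R x g hn hR hx hg
  have him : ∀ {D : Subgroup Ω} {u : Ω → Ω} {z : Ω}, Map F D u → z ∈ D →
      im (Subgroup.zpowers z) u = Subgroup.zpowers (u z) := by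
    intro D u z hu hz
    have hu' := hu.restrict (Subgroup.zpowers_le.2 hz)
    refine le_antisymm (im_le_iff.2 fun w hw => ?_)
      (Subgroup.zpowers_le.2 (mem_im_of_mem (Subgroup.mem_zpowers z)))
    obtain ⟨φ, hφ, he⟩ := hu'
    obtain ⟨i, rfl⟩ := Subgroup.mem_zpowers_iff.1 hw
    have := map_zpow φ ⟨z, Subgroup.mem_zpowers z⟩ i
    rw [he, he] at this
    simp only [SubgroupClass.coe_zpow] at this
    rw [this]
    exact Subgroup.zpow_mem_zpowers _ _
  rcases eq_or_lt_of_le hR.1 with rfl | hlt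
  · have := hx.transport hEi hg
    rwa [him hg (Subgroup.mem_sup_right (Subgroup.mem_zpowers x))] at this
  -- climbing
  have hbig : ∀ (D : Subgroup Ω) (u : Ω → Ω) (z : Ω) (R' : Subgroup Ω), E.IsCentric R' →
      Nat.card R < Nat.card R' → CentE E F (Subgroup.zpowers z) → Map F D u → R' ≤ D → z ∈ D →
      CentE E F (Subgroup.zpowers (u z)) := by
    intro D u z R' hR' hlt' hz hu h1 h2
    refine ih _ ?_ R' z u rfl hR' hz (hu.restrict (sup_le h1 (Subgroup.zpowers_le.2 h2)))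
    have := Subgroup.card_le_of_le hR'.1
    omega
  set W := R ⊔ Subgroup.zpowers x with hWdef
  have hxW : x ∈ W := Subgroup.mem_sup_right (Subgroup.mem_zpowers x)
  have hxC : x ∈ centralizerIn S T := hx.1 (Subgroup.mem_zpowers x)
  have hgR : Map F R g := hg.restrict le_sup_left
  set R₁ := im R g with hR₁
  have hR₁c : E.IsCentric R₁ := centric_of_sub_map hEi hR hgR
  set y := g x
  have hy : y ∈ centralizerIn S R₁ := hg.mem_centralizer le_sup_left hxW
    fun r hr => (mem_centralizerIn.1 hxC).2 r (hR.1 hr)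
  set W₁ := im W g with hW₁
  have hW₁eq : W₁ = R₁ ⊔ Subgroup.zpowers y := by
    refine le_antisymm (hg.im_sup_le.trans (sup_le_sup_left ?_ _)) (sup_le (im_mono le_sup_left)
      (Subgroup.zpowers_le.2 (mem_im_of_mem hxW)))
    exact (him hg hxW).le
  haveI := finite_of_le hg.le
  obtain ⟨q, hq, hW⟩ := exists_push (n := 0) hS (fun U hU _ => hF U hU) hg.le Nat.card_pos
    (le_sup_left : R ≤ W)
  set W₂ := im W q
  set X₂ := im R q
  obtain ⟨k, hk, hkg, hgk, hki⟩ := hg.exists_inv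
  -- the extensions over both normalisers
  have hWN : W ≤ normalizerIn S R := sup_le (le_normalizerIn (hR.1.trans hT.1))
    (Subgroup.zpowers_le.2 (centralizerIn_le_normalizerIn (centT_le_centralizerIn hR.1 hxC)))
  obtain ⟨v, hv, hvX, hvW⟩ := exists_extend_norm hS hW hq rfl le_sup_left rfl hWN
  have hq₁ : Map F W₁ (q ∘ k) := hk.comp hq fun z hz => (hgk z hz).2
  have hq₁i : im W₁ (q ∘ k) = W₂ := by rw [hk.im_comp, hki]
  have hkR₁ : im R₁ k = R := by
    rw [hR₁, ← hgR.im_comp, im_congr (f := k ∘ g) (g := id) fun r hr => hkg r (Subgroup.mem_sup_left hr), im_id]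
  have hR₁W₁ : R₁ ≤ W₁ := im_mono le_sup_left
  have hq₁X : im R₁ (q ∘ k) = X₂ := by rw [(hk.restrict hR₁W₁).im_comp, hkR₁]
  have hW₁N : W₁ ≤ normalizerIn S R₁ := hW₁eq.le.trans (sup_le (le_normalizerIn (hR₁c.1.trans hT.1))
    (Subgroup.zpowers_le.2 (centralizerIn_le_normalizerIn hy)))
  obtain ⟨v₁, hv₁, hv₁X, hv₁W⟩ := exists_extend_norm hS hW hq₁ hq₁i hR₁W₁ hq₁X hW₁N
  set M := normalizerIn S R ⊓ Subgroup.normalizer (W : Set Ω)
  set M₁ := normalizerIn S R₁ ⊓ Subgroup.normalizer (W₁ : Set Ω)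
  have hWM : W ≤ M := le_inf hWN Subgroup.le_normalizer
  have hW₁M : W₁ ≤ M₁ := le_inf hW₁N Subgroup.le_normalizer
  set R2 := normalizerIn T R
  have hR2 : R < R2 := lt_normalizerIn (hS.to_le hT.1) hlt
  have hR2M : R2 ≤ M := fun t ht => by
    refine ⟨⟨hT.1 ht.1, ht.2⟩, mem_normalizer_of_conj_mem hg.le fun z hz => ?_⟩
    have hle : W ≤ W.comap (MulAut.conj t).toMonoidHom := by
      refine sup_le (fun z hz => Subgroup.mem_sup_left (conj_mem_of_normalizer ht.2 hz))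
        (Subgroup.zpowers_le.2 ?_)
      show t * x * t⁻¹ ∈ W
      rw [conj_centT hxC ht.1]; exact hxW
    exact hle hz
  set R12 := normalizerIn T R₁
  have hR₁lt : R₁ < T := lt_of_le_of_ne hR₁c.1 fun he => by
    have h1 := card_lt_of_lt hlt hT.1
    rw [← hgR.card_im, ← hR₁, he] at h1
    omega
  have hR12 : R₁ < R12 := lt_normalizerIn (hS.to_le hT.1) hR₁lt
  have hR12M : R12 ≤ M₁ := fun t ht => by
    refine ⟨⟨hT.1 ht.1, ht.2⟩, mem_normalizer_of_conj_mem (hW₁N.trans inf_le_left) fun z hz => ?_⟩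
    have hle : W₁ ≤ W₁.comap (MulAut.conj t).toMonoidHom := by
      rw [hW₁eq]
      refine sup_le (fun z hz => Subgroup.mem_sup_left (conj_mem_of_normalizer ht.2 hz))
        (Subgroup.zpowers_le.2 ?_)
      show t * y * t⁻¹ ∈ R₁ ⊔ Subgroup.zpowers y
      have hyS := (mem_centralizerIn.1 hy).1
      have hd : t * y * t⁻¹ * y⁻¹ ∈ R₁ := by
        refine hR₁c.2 R₁ (isConj_refl hR₁c.1) (mem_centralizerIn.2 ⟨?_, fun w hw => ?_⟩)
        · have h1 := stronglyClosed_conj_mem hT hyS (T.inv_mem ht.1)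
          have := T.mul_mem ht.1 h1
          simpa [mul_assoc] using this
        · have hw' : t⁻¹ * w * t ∈ R₁ := by
            simpa using conj_mem_of_normalizer (Subgroup.inv_mem _ ht.2) hw
          have h1 := (mem_centralizerIn.1 hy).2 _ hw'
          have h2 := (mem_centralizerIn.1 hy).2 w hw
          have h3 : w * (t * y * t⁻¹) = t * y * t⁻¹ * w := by
            calc w * (t * y * t⁻¹) = t * (t⁻¹ * w * t * y) * t⁻¹ := by group
              _ = _ := by rw [h1]; group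
          have h4 : y⁻¹ * w = w * y⁻¹ := by
            calc y⁻¹ * w = y⁻¹ * (w * y) * y⁻¹ := by group
              _ = _ := by rw [h2]; group
          rw [← mul_assoc, h3, mul_assoc, ← h4, ← mul_assoc]
      rw [show t * y * t⁻¹ = (t * y * t⁻¹ * y⁻¹) * y by group]
      exact Subgroup.mul_mem_sup hd (Subgroup.mem_zpowers y)
    exact hle hz
  -- both ends
  have hx₂ : CentE E F (Subgroup.zpowers (v x)) :=
    hbig M v x R2 (centric_mono hR hR2.le inf_le_left) (card_lt_of_lt hR2 (inf_le_left.trans hT.1)) hx hv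
      hR2M (hWM hxW)
  have hyW : y ∈ W₁ := mem_im_of_mem hxW
  suffices hkey : CentE E F (Subgroup.zpowers (v₁ y)) by
    obtain ⟨l, hl, hlv, -, -⟩ := hv₁.exists_inv
    have h1 := hbig _ l (v₁ y) (im R12 v₁) (centric_of_sub_map hEi (centric_mono hR₁c hR12.le inf_le_left)
        ((hv₁.restrict hR12M))) (by
      rw [(hv₁.restrict hR12M).card_im]
      exact (hgR.card_im ▸ card_lt_of_lt hR12 (inf_le_left.trans hT.1) :)) hkey hl
      (im_mono hR12M) (mem_im_of_mem (hW₁M hyW))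
    rwa [hlv y (hW₁M hyW)] at h1
  set x₂ := v x with hx₂def
  have hW₂eq : W₂ = X₂ ⊔ Subgroup.zpowers x₂ := by
    rw [← hvW, ← hvX]
    refine le_antisymm ((hv.restrict hWM).im_sup_le.trans (sup_le_sup_left ?_ _))
      (sup_le (im_mono le_sup_left) (Subgroup.zpowers_le.2 (mem_im_of_mem hxW)))
    exact (him hv (hWM hxW)).le
  obtain ⟨l, hl, hlv, hvl, hli⟩ := (hv.restrict hWM).exists_inv
  rw [hvW] at hl hvl
  set m := v₁ ∘ g ∘ l with hmdef
  have hm : Map F W₂ m :=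
    (hl.comp hg fun z hz => (hvl z hz).2).comp (hv₁.restrict hW₁M) fun z hz => mem_im_of_mem (hvl z hz).2
  have hmx : m x₂ = v₁ y := by show v₁ (g (l (v x))) = _; rw [hlv x hxW]
  have hmX : im X₂ m = X₂ := by
    refine Eq.trans ?_ hv₁X
    conv_lhs => rw [← hvX, ← ((hv.restrict hWM).restrict le_sup_left).im_comp]
    rw [hR₁, ← hgR.im_comp]
    exact im_congr fun r hr => by
      show v₁ (g (l (v r))) = _
      rw [hlv r (Subgroup.mem_sup_left hr)]; rfl
  have hX₂c : E.IsCentric X₂ := centric_of_sub_map hEi hR (hq.restrict le_sup_left)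
  have hX₂W : X₂ ≤ W₂ := hW.1
  -- decompose on `X₂`
  obtain ⟨a, ha, e, he, hme⟩ := frattini_map hEi hX₂c.1 (hm.restrict hX₂W)
  obtain ⟨ê, hê, hêe, hêx⟩ := hx₂.2 X₂ e he
  have hTfn : F.IsFullyNormalized T := by
    refine ⟨hT.1, fun U hU => ?_⟩
    obtain ⟨u, hu, hi⟩ := isConj_iff.1 hU
    rw [Subgroup.eq_of_le_of_card_ge (hi ▸ im_le_iff.2 fun z hz => stronglyClosed_map hT hu hz hz)
      (isConj_card hU).le]
  obtain ⟨A, hA, hAa⟩ := (receptive_iff.1 (receptive_of_fc hS hF (fc_fa_of_fn hS hF hTfn).1)).2 T _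
    (map_of_mem_autGroup hT.1 ha) (im_av a)
  have hAY : Map F (T ⊔ Subgroup.zpowers x₂) A := hA.restrict
    (sup_le (le_Nf (map_of_mem_autGroup hT.1 ha)) (hx₂.1.trans centralizerIn_le_Nf))
  have hx₃ : CentE E F (Subgroup.zpowers (A x₂)) := by
    have := hx₂.transport hEi hAY
    rwa [him hAY (Subgroup.mem_sup_right (Subgroup.mem_zpowers x₂))] at this
  set x₃ := A x₂
  have hx₃C : x₃ ∈ centralizerIn S T := hx₃.1 (Subgroup.mem_zpowers x₃)
  have hê1 : ∀ z ∈ X₂ ⊔ Subgroup.zpowers x₂, ê z ∈ T ⊔ Subgroup.zpowers x₂ := by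
    intro z hz
    refine (show im X₂ ê ⊔ im (Subgroup.zpowers x₂) ê ≤ _ from sup_le_sup ?_ ?_)
      (hê.im_sup_le (mem_im_of_mem hz))
    · exact im_le_iff.2 fun w hw => by rw [hêe w hw]; exact he.mem hw
    · exact im_le_iff.2 fun w hw => by rw [hêx w hw]; exact hw
  set η := A ∘ ê with hηdef
  have hη : Map F W₂ η := (hW₂eq.symm ▸ hê : Map F W₂ ê).comp hAY fun z hz => hê1 z (hW₂eq ▸ hz)
  have hηX : ∀ z ∈ X₂, η z = m z := fun z hz => by
    show A (ê z) = _
    rw [hêe z hz, hAa _ (he.mem hz), hme z hz]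
  have hηx : η x₂ = x₃ := by show A (ê x₂) = _; rw [hêx x₂ (Subgroup.mem_zpowers x₂)]
  obtain ⟨η', hη', hη'η, hηη', hη'i⟩ := hη.exists_inv
  set W₃ := im W₂ η
  have hW₃eq : W₃ = X₂ ⊔ Subgroup.zpowers x₃ := by
    show im W₂ η = _
    rw [hW₂eq]
    rw [hW₂eq] at hη
    refine le_antisymm (hη.im_sup_le.trans (sup_le_sup ((im_congr hηX).trans hmX).le ?_)) (sup_le ?_ ?_)
    · rw [← hηx]; exact (him hη (Subgroup.mem_sup_right (Subgroup.mem_zpowers x₂))).le
    · exact hmX.ge.trans ((im_congr hηX).ge.trans (im_mono le_sup_left))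
    · rw [← hηx]
      exact Subgroup.zpowers_le.2 (mem_im_of_mem (Subgroup.mem_sup_right (Subgroup.mem_zpowers x₂)))
  have hX₂W₃ : X₂ ≤ W₃ := hW₃eq.ge.trans' le_sup_left
  have hx₃W : x₃ ∈ W₃ := hW₃eq.ge (Subgroup.mem_sup_right (Subgroup.mem_zpowers x₃))
  set f := m ∘ η' with hfdef
  have hf : Map F W₃ f := hη'.comp hm fun z hz => (hηη' z hz).2
  have hfi : im W₃ f = W₂ := by
    rw [hη'.im_comp, hη'i]
    haveI := finite_of_le hm.le
    refine Subgroup.eq_of_le_of_card_ge ?_ hm.card_im.ge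
    refine im_le_iff.2 fun z hz => ?_
    show v₁ (g (l z)) ∈ W₂
    exact hv₁W.le (mem_im_of_mem (mem_im_of_mem (hvl z hz).2))
  have hfX : ∀ z ∈ X₂, f z = z := fun z hz => by
    obtain ⟨w, hw, hwz⟩ := (hm.restrict hX₂W).mem_im.1 (hmX.ge hz)
    show m (η' z) = z
    rw [← hwz, ← hηX w hw, hη'η w (hX₂W hw), hηX w hw]
  have hfiX : im X₂ f = X₂ := by rw [im_congr (g := id) hfX, im_id]
  -- extend over the normaliser in `T`
  haveI := mulAut_finite_of_le hW.2.1.1
  set B := stab F W₂ X₂ X₂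
  let M0 : Subgroup ↥B :=
    { carrier := {b | ∀ y ∈ W₂, y⁻¹ * av (b : MulAut W₂) y ∈ X₂}
      one_mem' := fun y hy => by
        show y⁻¹ * av (1 : MulAut W₂) y ∈ X₂
        rw [av_one hy, inv_mul_cancel]; exact X₂.one_mem
      mul_mem' := by
        intro a b ha hb y hy
        show y⁻¹ * av ((a : MulAut W₂) * (b : MulAut W₂)) y ∈ X₂
        rw [av_mul _ _ hy, show y⁻¹ * av (a : MulAut W₂) (av (b : MulAut W₂) y) =
          (y⁻¹ * av (b : MulAut W₂) y) * ((av (b : MulAut W₂) y)⁻¹ * av (a : MulAut W₂) (av (b : MulAut W₂) y)) by group]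
        exact X₂.mul_mem (hb y hy) (ha _ (av_mem _ hy))
      inv_mem' := by
        intro a ha y hy
        show y⁻¹ * av (a : MulAut W₂)⁻¹ y ∈ X₂
        have := X₂.inv_mem (ha _ (av_mem (a : MulAut W₂)⁻¹ hy))
        rwa [av_av_inv _ hy, mul_inv_rev, inv_inv] at this }
  have hM0n : M0.Normal := by
    refine ⟨fun b hb a y hy => ?_⟩
    show y⁻¹ * av ((a : MulAut W₂) * (b : MulAut W₂) * (a : MulAut W₂)⁻¹) y ∈ X₂
    have hy' := av_mem (a : MulAut W₂)⁻¹ hy
    have hb' := hb _ hy'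
    rw [av_mul _ _ hy, av_mul _ _ hy']
    have h1 := (a.2.2 _ (hW.1 hb')).1.2 hb'
    rwa [(map_of_mem_autGroup hW.2.1.1 a.2.1).map_mul (W₂.inv_mem hy') (av_mem _ hy'),
      (map_of_mem_autGroup hW.2.1.1 a.2.1).map_inv hy', av_av_inv _ hy] at h1
  set L := (autInducedBy S X₂).comap (resX hW.1) ⊓ M0
  set U := (autInducedBy S W₂ ⊓ B).subgroupOf B ⊓ M0
  have hUL : U ≤ L := by
    rintro b ⟨hb, hb0⟩
    obtain ⟨s, hs, hsb⟩ := mem_autInducedBy.1 hb.1
    exact ⟨mem_autInducedBy.2 ⟨s, hs, fun z hz => by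
      rw [resX_apply hW.1 b hz]; exact hsb z (hW.1 hz)⟩, hb0⟩
  have hUsyl : SylIn p U L :=
    ((sylIn_stab hW).inf_normal le_top (Subgroup.normalizer_eq_top M0).ge).mono hUL inf_le_right
  set R3 := normalizerIn T X₂
  have hR3X : R3 ≤ normalizerIn S X₂ := inf_le_inf_right _ hT.1
  have hXn : X₂ ≤ Subgroup.normalizer (Subgroup.zpowers x₃ : Set Ω) :=
    sup_zpowers_comm fun r hr => (mem_centralizerIn.1 hx₃C).2 r (hX₂c.1 hr)
  have hfc : ∀ z ∈ W₃, ∀ r ∈ R3, z⁻¹ * (r * z * r⁻¹) ∈ X₂ := by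
    intro z hz r hr
    rw [hW₃eq, ← SetLike.mem_coe, Subgroup.coe_mul_of_left_le_normalizer_right X₂ _ hXn] at hz
    obtain ⟨b, hb, w, hw, rfl⟩ := hz
    have hwC := hx₃.1 hw
    have hd : b⁻¹ * (r * b * r⁻¹) ∈ X₂ := X₂.mul_mem (X₂.inv_mem hb) (conj_mem_of_normalizer hr.2 hb)
    rw [show (b * w)⁻¹ * (r * (b * w) * r⁻¹) = w⁻¹ * (b⁻¹ * (r * b * r⁻¹)) * (r * w * r⁻¹) by group,
      conj_centT hwC hr.1, mul_assoc, comm_of_centT hwC (hX₂c.1 hd), inv_mul_cancel_left]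
    exact hd
  have hR3W : R3 ≤ normalizerIn S W₃ := fun r hr =>
    ⟨hT.1 hr.1, mem_normalizer_of_conj_mem hf.le fun z hz => by
      rw [show r * z * r⁻¹ = z * (z⁻¹ * (r * z * r⁻¹)) by group]
      exact W₃.mul_mem hz (hX₂W₃ (hfc z hz r hr))⟩
  obtain ⟨ψ, hψ, hψX, γ, hγ, hψγ⟩ := exists_extend_fix_mem hS hW (W := R3) hf hfi hX₂W₃ hfiX
    hR3W hR3X hUsyl (fun t ht => ht.1.1)
    ((isPGroup_autS hS).to_le ((Subgroup.map_mono inf_le_left).trans (Subgroup.map_comap_le _ _))) (by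
      intro w hw b hb
      refine ⟨mem_autInducedBy.2 ⟨w, hT.1 hw.1, fun z hz => ?_⟩, fun z hz => ?_⟩
      · have hz' : w * z * w⁻¹ ∈ X₂ := conj_mem_of_normalizer hw.2 hz
        have h1 := hb z (hX₂W₃ hz)
        rw [hfX z hz, hfX _ hz'] at h1
        rw [resX_apply hW.1 b hz, h1]
      · obtain ⟨u, hu, rfl⟩ := hf.mem_im.1 (hfi.ge hz)
        have hwu : w * u * w⁻¹ ∈ W₃ := conj_mem_of_normalizer (hR3W hw).2 hu
        rw [hb u hu, ← hf.map_inv hu, ← hf.map_mul (W₃.inv_mem hu) hwu, hfX _ (hfc u hu w hw)]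
        exact hfc u hu w hw)
  have hX₂lt : X₂ < T := lt_of_le_of_ne hX₂c.1 fun he' => by
    have h1 := card_lt_of_lt hlt hT.1
    rw [← (hq.restrict (le_sup_left (b := Subgroup.zpowers x))).card_im] at h1
    rw [show im R q = T from he'] at h1
    omega
  have hR3lt : X₂ < R3 := lt_normalizerIn (hS.to_le hT.1) hX₂lt
  have hψx : CentE E F (Subgroup.zpowers (ψ x₃)) :=
    hbig _ ψ x₃ R3 (centric_mono hX₂c hR3lt.le inf_le_left)
      ((hq.restrict (le_sup_left (b := Subgroup.zpowers x))).card_im ▸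
        card_lt_of_lt hR3lt (inf_le_left.trans hT.1)) hx₃ hψ le_sup_right (Subgroup.mem_sup_left hx₃W)
  -- the correction comes from `S`
  have hγX : ∀ z ∈ X₂, av (γ : MulAut W₂) z = z := fun z hz => by
    have := (hψγ z (hX₂W₃ hz)).symm.trans (hψX z hz)
    rwa [hfX z hz] at this
  have hγS : (γ : MulAut W₂)⁻¹ ∈ autInducedBy S W₂ := by
    refine shift_le_autS hS hW (inv_mem γ.2.1) (fun z hz => ?_) fun z hz => ?_
    · conv_lhs => rw [← hγX z hz]
      exact av_inv_av _ (hX₂W hz)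
    · have := X₂.inv_mem (hγ.2 _ (av_mem (γ : MulAut W₂)⁻¹ hz))
      rwa [av_av_inv _ hz, mul_inv_rev, inv_inv] at this
  obtain ⟨s, hs, hsγ⟩ := mem_autInducedBy.1 hγS
  have hfx₃ : f x₃ = v₁ y := by
    show m (η' x₃) = _
    rw [← hηx, hη'η x₂ (hW₂eq.ge (Subgroup.mem_sup_right (Subgroup.mem_zpowers x₂))), hmx]
  have hval : v₁ y = s * ψ x₃ * s⁻¹ := by
    have h1 : f x₃ ∈ W₂ := hfi.le (mem_im_of_mem hx₃W)
    rw [hψγ x₃ hx₃W, ← hsγ _ (av_mem _ h1), av_inv_av _ h1, hfx₃]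
  have hmap : Map F (T ⊔ Subgroup.zpowers (ψ x₃)) fun z => s * z * s⁻¹ :=
    map_conjBy (sup_le hT.1 (hψx.1.trans inf_le_left)) hs
  have := hψx.transport hEi hmap
  rw [him hmap (Subgroup.mem_sup_right (Subgroup.mem_zpowers _))] at this
  rw [hval]; exact this

end Cfsg.Agent.Local.FS
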