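import Cfsg.Agent.Lib.Local.FS.ThompsonInner

/-!
The inner property from the automizers of the characteristic subgroups.
-/

set_option autoImplicit false

namespace Cfsg.Agent.Local.FS

open Cfsg Cfsg.FusionSystem Cfsg.Agent.Fusion

universe u

set_option maxHeartbeats 800000 in
/-- If the automizers of the nontrivial characteristic subgroups are `p`-groups the system is inner. -/
theorem isInner_of_char {p : ℕ} [Fact p.Prime] (k : ℕ) : ∀ {Ω : Type u} [Group Ω] {S : Subgroup Ω} [Finite S]
    (F : FusionSystem S), Nat.card S = k → IsPGroup p S → F.IsSaturated p →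
    (p ≠ 2 ∨ F.IsSectionFree p (Equiv.Perm (Fin 4))) →
    (∀ Q : Subgroup Ω, Q ≤ S → Q ≠ ⊥ → (Q.subgroupOf S).Characteristic → IsPGroup p (F.autGroup Q)) →
    IsInner F := by
  induction k using Nat.strong_induction_on with
  | _ k ih =>
  intro Ω _ S _ F hk hS hF hp h
  by_cases hS1 : S = ⊥
  · intro P f hf
    refine ⟨1, S.one_mem, fun x hx => ?_⟩
    have h1 : x = 1 := Subgroup.mem_bot.1 (hS1 ▸ hf.le hx)
    subst h1
    rw [hf.map_one]; simp
  have hW : ∀ W : ∀ (Q : Type u) [Group Q], Subgroup Q, IsCharPFunctor.{u} p W →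
      PAt F p (inducedFunctor W S) := by
    intro W hW
    set U := inducedFunctor W S
    have hUS : U ≤ S := Subgroup.map_subtype_le _
    have hVS : normalizerIn S U = S := le_antisymm inf_le_left
      ((le_normalizerIn le_rfl).trans (normalizer_le_functor hS hW.2 le_rfl))
    have hU : F.IsFullyNormalized U := ⟨hUS, fun R _ => by rw [hVS]; exact Subgroup.card_le_of_le inf_le_left⟩
    have hU1 : U ≠ ⊥ := fun h0 => hW.1 S hS ((Subgroup.nontrivial_iff_ne_bot S).2 hS1)
      ((Subgroup.map_eq_bot_iff_of_injective _ S.subtype_injective).1 h0)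
    have hUchar : (U.subgroupOf S).Characteristic := by
      have e : U.subgroupOf S = W S := Subgroup.comap_map_eq_self_of_injective S.subtype_injective _
      rw [e]
      exact Subgroup.characteristic_iff_map_eq.2 fun φ => hW.2 S S hS φ
    set V := normalizerIn S U with hV
    have hVp : IsPGroup p V := hS.to_le inf_le_left
    set N := normSys F hUS
    have hNs : N.IsSaturated p := normSys_saturated hS hF hU
    have hn : N.IsNormal U := normal_normalizerSystem hUS fun _ => rfl
    have hNF : ∀ R : Subgroup Ω, N.autGroup R ≤ F.autGroup R := fun R =>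
      (Subgroup.closure_le _).2 fun α hα => Subgroup.subset_closure hα.1
    refine pAt_of_isInner hS (N := N) (fun _ => rfl) ?_
    have hQsc := normal_stronglyClosed hn
    haveI hnor : (U.subgroupOf V).Normal :=
      Subgroup.normal_subgroupOf_of_le_normalizer inf_le_right
    have hker : ∀ s : V, QuotientGroup.mk' (U.subgroupOf V) s = 1 ↔ (s : Ω) ∈ U := fun s =>
      (QuotientGroup.eq_one_iff s).trans Subgroup.mem_subgroupOf
    have hsurj := QuotientGroup.mk'_surjective (U.subgroupOf V)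
    set θ := QuotientGroup.mk' (U.subgroupOf V) with hθ
    set T' : Subgroup (V ⧸ U.subgroupOf V) := ⊤
    set E := factorSys hQsc θ hker hsurj
    have hE : N.IsFactorSystem U θ E :=
      ⟨hn.1, hker, MonoidHom.range_eq_top.2 hsurj, fun P' φ' => fmap_iff.trans (and_iff_right le_top).symm⟩
    haveI := fac_finite hE
    refine isInner_of_factor hVp hNs hn (fun γ hγ => ?_) hE (ih _ ?_ E rfl (fac_isPGroup hE hVp)
      (fac_saturated hVp hNs hQsc hE)
      (hp.imp id fun hX => fac_sectionFree hVp hNs hn hE (sectionFree_normalizerSystem hS hF hX hU fun _ => rfl))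
      fun Q' hQ' hQ'1 hchar => ?_)
    · obtain ⟨j, hj⟩ := h U hUS hU1 hUchar ⟨γ, hNF U hγ⟩
      exact ⟨j, congrArg Subtype.val hj⟩
    · have hc := fac_card hE (le_refl _)
      rw [fac_pre_top hE] at hc
      haveI : Finite ↥U := finite_of_le hUS
      rw [← hk, ← hVS, hc]
      exact lt_mul_of_one_lt_left Nat.card_pos ((Subgroup.one_lt_card_iff_ne_bot _).2 hU1)
    set P := preimageAlong θ Q'
    have hPS : P ≤ S := (preimage_le Q').trans inf_le_left
    have hP1 : P ≠ ⊥ := fun h0 => hU1 (le_bot_iff.1 (h0 ▸ fac_le_pre hE))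
    have hPchar : (P.subgroupOf S).Characteristic := by
      refine Subgroup.characteristic_iff_map_le.2 fun φ => ?_
      have hUV : ∀ x : V, (φ ⟨x, x.2.1⟩ : Ω) ∈ V := fun x => hVS.ge (φ _).2
      let φ' : V ≃* V := (MulEquiv.subgroupCongr hVS).trans (φ.trans (MulEquiv.subgroupCongr hVS).symm)
      have hUm : (U.subgroupOf V).map φ'.toMonoidHom = U.subgroupOf V := by
        have h0 := Subgroup.characteristic_iff_map_eq.1 hUchar φ
        ext x
        constructor
        · rintro ⟨y, hy, rfl⟩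
          exact (h0.le ⟨⟨y, y.2.1⟩, hy, rfl⟩ : φ ⟨y, y.2.1⟩ ∈ U.subgroupOf S)
        · intro hx
          obtain ⟨y, hy, hyx⟩ := h0.ge (show (⟨x, x.2.1⟩ : S) ∈ U.subgroupOf S from hx)
          exact ⟨⟨y, hVS.ge y.2⟩, hy, Subtype.ext (congrArg (fun z : S => (z : Ω)) hyx)⟩
      let ψ := QuotientGroup.congr (U.subgroupOf V) (U.subgroupOf V) φ' hUm
      have hψmem : ∀ q ∈ Q', ψ q ∈ Q' := by
        intro q hq
        let e : T' ≃* T' := (Subgroup.topEquiv.trans ψ).trans Subgroup.topEquiv.symm
        exact ((Subgroup.characteristic_iff_map_le.1 hchar) e ⟨⟨q, trivial⟩, hq, rfl⟩ :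
          e ⟨q, trivial⟩ ∈ Q'.subgroupOf T')
      rintro _ ⟨y, hy, rfl⟩
      obtain ⟨hyV, hy'⟩ := fac_mem_pre.1 (show (y : Ω) ∈ P from hy)
      refine fac_mem_pre.2 ⟨hVS.ge (φ y).2, ?_⟩
      rw [ue_apply (i := θ) hyV] at hy'
      show ue θ ((φ y : S) : Ω) ∈ Q'
      rw [ue_apply (i := θ) (hVS.ge (φ y).2)]
      have h1 := hψmem _ hy'
      exact h1
    obtain ⟨ρ, -, hρr⟩ := fac_exists_hom hE hQsc hQ'
    rw [← hρr]
    rintro ⟨_, β, rfl⟩
    obtain ⟨j, hj⟩ := h P hPS hP1 hPchar ⟨β, hNF P β.2⟩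
    refine ⟨j, Subtype.ext ?_⟩
    show ρ β ^ p ^ j = 1
    rw [← map_pow, show β ^ p ^ j = 1 from Subtype.ext (congrArg Subtype.val hj :), map_one]
  refine isInner_thompson hS hF hp ?_ (hW wJA isCharPFunctor_wJA)
  rw [← inducedFunctor_wCen]
  exact cAt_of_pAt ((le_normalizerIn (le_refl S)).trans (normalizer_le_functor hS (isCharPFunctor_wCen (p := p)).2 le_rfl)
    |>.trans inf_le_right) (hW wCen isCharPFunctor_wCen)

end Cfsg.Agent.Local.FS
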