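import Cfsg.Agent.Lib.Local.FS.ClassExtend
import Cfsg.Agent.Lib.Local.FS.PrimeResidual

/-!
The subsystem of index prime to `p` cut out by a class of maps, and its properties.
-/

set_option autoImplicit false

namespace Cfsg.Agent.Local.FS

open Cfsg Cfsg.FusionSystem Cfsg.Agent.Fusion

variable {Ω : Type*} [Group Ω] {S T : Subgroup Ω} [Finite S] {F : FusionSystem S} {E : FusionSystem T}
  {P Q R : Subgroup Ω} {f g : Ω → Ω} {p : ℕ} [Fact p.Prime] {Δ : Type*} [Group Δ] [Finite Δ]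
  {c : Subgroup Ω → (Ω → Ω) → Δ}

omit [Fact p.Prime] in
theorem centric_self : F.IsCentric S := by
  refine ⟨le_rfl, fun Q hQ => ?_⟩
  haveI := finite_of_le (isConj_le hQ).2
  rw [Subgroup.eq_of_le_of_card_ge (isConj_le hQ).2 (isConj_card hQ).le]
  exact inf_le_left

theorem cls_conjBy (hS : IsPGroup p S) (hc : IsCls F (fun P => F.IsCentric P) c)
    (hΔ : (Nat.card Δ).Coprime p) (hP : F.IsCentric P) {s : Ω} (hs : s ∈ S) :
    c P (fun x => s * x * s⁻¹) = 1 := by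
  rw [hc.restrict hP (map_conjBy (P := S) le_rfl hs) hP.1]
  obtain ⟨β, hβ, hβS⟩ := exists_aut_conj (P := S) (Subgroup.le_normalizer hs)
  have hm : β ∈ F.autGroup S := autInducedBy_le_autGroup le_rfl (hβS S hs)
  obtain ⟨k, hk⟩ := IsPGroup.iff_orderOf.1 (isPGroup_autS (P := S) hS) ⟨β, hβS S hs⟩
  rw [← hc.congr centric_self (map_of_mem_autGroup le_rfl hm) hβ]
  exact hc.p_elt hΔ centric_self le_rfl hm ⟨k, by rw [← hk, ← Subgroup.orderOf_coe]⟩

/-- The maps of class one on centric sources. -/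
noncomputable def clsSys (hS : IsPGroup p S) (hc : IsCls F (fun P => F.IsCentric P) c)
    (hΔ : (Nat.card Δ).Coprime p) : FusionSystem S where
  Hom P := {φ | φ ∈ F.Hom P ∧ (F.IsCentric P → c P (fn φ) = 1)}
  le_of_mem h := F.le_of_mem h.1
  injective_of_mem h := F.injective_of_mem h.1
  conj_mem {P g} hP hg := ⟨F.conj_mem hP hg, fun hc' => by
    rw [hc.congr hc' (map_of_mem (F.conj_mem hP hg)) (g := fun x => g * x * g⁻¹)
      fun x hx => fn_apply (conjHom P g) hx]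
    exact cls_conjBy hS hc hΔ hc' hg⟩
  comp_mem {P Q φ ψ} hφ hψ h := ⟨F.comp_mem hφ.1 hψ.1 h, fun hP => by
    have hf := map_of_mem hφ.1
    have hm : ∀ x ∈ P, fn φ x ∈ Q := fun x hx => by rw [fn_apply φ hx]; exact h _
    have hQ : F.IsCentric Q := centric_mono (centric_conj hP hf) (im_le_iff.2 hm) (F.le_of_mem hψ.1).1
    rw [← hc.congr hP (hf.comp (map_of_mem hψ.1) hm) (fun x hx => by
      rw [Function.comp_apply, fn_apply φ hx, fn_apply ψ (h ⟨x, hx⟩), fn_apply _ hx]; rfl),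
      hc.comp hP hf (map_of_mem hψ.1) hm, hψ.2 hQ, hφ.2 hP, mul_one]⟩
  inv_mem {P φ} hφ := by
    obtain ⟨ψ, hψ, hψφ⟩ := F.inv_mem hφ.1
    refine ⟨ψ, ⟨hψ, fun hR => ?_⟩, hψφ⟩
    have hf := map_of_mem hφ.1
    have hg := map_of_mem hψ
    have hm : ∀ x ∈ P, fn φ x ∈ φ.range := fun x hx => by rw [fn_apply φ hx]; exact ⟨_, rfl⟩
    have hP : F.IsCentric P := by
      have h1 : im φ.range (fn ψ) = P := hg.im_eq (fun y hy => by
          obtain ⟨x, rfl⟩ := hy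
          rw [fn_apply ψ ⟨x, rfl⟩, hψφ x]; exact x.2)
        fun x hx => ⟨φ ⟨x, hx⟩, ⟨_, rfl⟩, by rw [fn_apply ψ ⟨_, rfl⟩]; exact hψφ ⟨x, hx⟩⟩
      exact h1 ▸ centric_conj hR hg
    have h1 := hc.comp hP hf hg hm
    rw [hc.congr hP (hf.comp hg hm) (g := id) fun x hx => by
      rw [Function.comp_apply, fn_apply φ hx, fn_apply ψ ⟨_, rfl⟩]; exact hψφ ⟨x, hx⟩,
      hc.id_eq hP hf.le, hφ.2 hP, mul_one] at h1
    exact h1.symm

variable (hS : IsPGroup p S) (hc : IsCls F (fun P => F.IsCentric P) c) (hΔ : (Nat.card Δ).Coprime p)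

theorem map_clsSys : Map (clsSys hS hc hΔ) P f ↔ Map F P f ∧ (F.IsCentric P → c P f = 1) := by
  constructor
  · rintro ⟨φ, hφ, h⟩
    refine ⟨⟨φ, hφ.1, h⟩, fun hP => ?_⟩
    rw [← hc.congr hP (map_of_mem hφ.1) fun x hx => by rw [fn_apply φ hx]; exact h ⟨x, hx⟩]
    exact hφ.2 hP
  · rintro ⟨⟨φ, hφ, h⟩, h1⟩
    refine ⟨φ, ⟨hφ, fun hP => ?_⟩, h⟩
    rw [hc.congr hP (map_of_mem hφ) fun x hx => by rw [fn_apply φ hx]; exact h ⟨x, hx⟩]
    exact h1 hP

theorem centClosed_clsSys : CentClosed F p (clsSys hS hc hΔ) := by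
  refine ⟨fun P hP => pResAut_induction fun α hα hk => mem_autGroup_of_map
    ((map_clsSys hS hc hΔ).2 ⟨map_of_mem_autGroup hP.1 hα, fun _ => hc.p_elt hΔ hP hP.1 hα hk⟩),
    fun P Q f hf hQP hQ h => (map_clsSys hS hc hΔ).2 ⟨hf, fun _ => ?_⟩⟩
  rw [← hc.restrict hQ hf hQP]
  exact ((map_clsSys hS hc hΔ).1 h).2 hQ

theorem mem_autGroup_clsSys {α : MulAut S} :
    α ∈ (clsSys hS hc hΔ).autGroup S ↔ α ∈ F.autGroup S ∧ c S (av α) = 1 := by
  rw [mem_autGroup_iff le_rfl, map_clsSys hS hc hΔ, mem_autGroup_iff le_rfl]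
  exact and_congr_right fun _ => ⟨fun h => h centric_self, fun h _ => h⟩

/-- The least centrically closed subsystem containing the automorphisms of `S` of class one. -/
noncomputable def charSys : FusionSystem S :=
  interSys F {D | CentClosed F p D ∧ (clsSys hS hc hΔ).autGroup S ≤ D.autGroup S}

theorem charSys_le : charSys hS hc hΔ ≤ F := fun _ _ h => h.1

theorem centClosed_charSys : CentClosed F p (charSys hS hc hΔ) :=
  centClosed_interSys fun _ h => h.1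

theorem mem_autGroup_charSys {α : MulAut S} :
    α ∈ (charSys hS hc hΔ).autGroup S ↔ α ∈ F.autGroup S ∧ c S (av α) = 1 := by
  rw [← mem_autGroup_clsSys hS hc hΔ, mem_autGroup_iff le_rfl, charSys, map_interSys]
  refine ⟨fun h => mem_autGroup_of_map (h.2 _ ⟨centClosed_clsSys hS hc hΔ, le_rfl⟩),
    fun h => ⟨map_of_mem_autGroup le_rfl ((mem_autGroup_clsSys hS hc hΔ).1 h).1,
      fun D hD => map_of_mem_autGroup le_rfl (hD.2 h)⟩⟩

/-- The maps whose transports by `Aut_F(S)` are in the subsystem. -/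
noncomputable def invCharSys : FusionSystem S where
  Hom P := {φ | φ ∈ F.Hom P ∧ InvMap F (charSys hS hc hΔ) P (fn φ)}
  le_of_mem h := F.le_of_mem h.1
  injective_of_mem h := F.injective_of_mem h.1
  conj_mem {P g} hP hg := ⟨F.conj_mem hP hg,
    (invMap_conjBy hP hg).congr fun _ hx => (fn_apply (conjHom P g) hx).symm⟩
  comp_mem {P Q φ ψ} hφ hψ h := ⟨F.comp_mem hφ.1 hψ.1 h,
    (hφ.2.comp hψ.2 fun x hx => by rw [fn_apply φ hx]; exact h _).congr fun x hx => by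
      rw [Function.comp_apply, fn_apply φ hx, fn_apply ψ (h ⟨x, hx⟩), fn_apply _ hx]; rfl⟩
  inv_mem {P φ} hφ := by
    obtain ⟨ψ, hψ, hψφ⟩ := F.inv_mem hφ.1
    have h := hφ.2.inv (g := fn ψ) fun x hx => by
      rw [fn_apply φ hx, fn_apply ψ ⟨_, rfl⟩]; exact hψφ ⟨x, hx⟩
    rw [(map_of_mem hφ.1).im_eq_range fun x => (fn_coe φ x).symm] at h
    exact ⟨ψ, ⟨hψ, h⟩, hψφ⟩

theorem map_invCharSys : Map (invCharSys hS hc hΔ) P f ↔ InvMap F (charSys hS hc hΔ) P f := by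
  constructor
  · rintro ⟨φ, hφ, h⟩
    exact hφ.2.congr fun x hx => by rw [fn_apply φ hx]; exact h ⟨x, hx⟩
  · rintro hI
    obtain ⟨φ, hφ, h⟩ := hI.1
    exact ⟨φ, ⟨hφ, hI.congr fun x hx => by rw [fn_apply φ hx]; exact (h ⟨x, hx⟩).symm⟩, h⟩

theorem invMap_charSys (h : Map (charSys hS hc hΔ) P f) : InvMap F (charSys hS hc hΔ) P f := by
  refine (map_invCharSys hS hc hΔ).1 ((map_interSys.1 h).2 _ ⟨⟨fun P hP α hα => ?_, ?_⟩, fun γ hγ => ?_⟩)
  · exact mem_autGroup_of_map ((map_invCharSys hS hc hΔ).2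
      (invMap_pResAut (centClosed_charSys hS hc hΔ).1 hP hα))
  · refine fun P Q f hf hQP hQ h => (map_invCharSys hS hc hΔ).2 ⟨hf, fun α hα => ?_⟩
    have hI := (map_invCharSys hS hc hΔ).1 h
    refine (centClosed_charSys hS hc hΔ).2 _ _ _ ?_ (im_mono hQP) ?_ (hI.2 α hα)
    · exact ((map_autS ((F.autGroup S).inv_mem hα) (map_autS hα hf.le).im_le).comp
        (hf.comp (map_autS hα le_rfl) fun x hx => hf.mem hx) fun y hy => (mem_im_av hf.le hα hy).2).congr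
          fun y _ => rfl
    · exact centric_conj hQ (map_autS hα hQ.1)
  · obtain ⟨hγF, hγc⟩ := (mem_autGroup_clsSys hS hc hΔ).1 hγ
    refine mem_autGroup_of_map ((map_invCharSys hS hc hΔ).2 ⟨map_of_mem_autGroup le_rfl hγF, fun α hα => ?_⟩)
    rw [im_av]
    have hconj : α * γ * α⁻¹ ∈ (charSys hS hc hΔ).autGroup S := by
      refine (mem_autGroup_charSys hS hc hΔ).2 ⟨mul_mem (mul_mem hα hγF) (inv_mem hα), ?_⟩
      have hm : ∀ {a b : MulAut S}, a ∈ F.autGroup S → b ∈ F.autGroup S →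
          c S (av (a * b)) = c S (av a) * c S (av b) := fun {a b} ha hb => by
        rw [← hc.comp centric_self (map_of_mem_autGroup le_rfl hb) (map_of_mem_autGroup le_rfl ha)
          fun x hx => av_mem b hx]
        exact hc.congr centric_self (map_of_mem_autGroup le_rfl (mul_mem ha hb)) fun x hx => av_mul a b hx
      rw [hm (mul_mem hα hγF) (inv_mem hα), hm hα hγF, hγc, mul_one, ← hm hα (inv_mem hα), mul_inv_cancel,
        hc.congr centric_self (map_of_mem_autGroup le_rfl (one_mem _)) (g := id) fun x hx => av_one hx,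
        hc.id_eq centric_self le_rfl]
    exact (map_of_mem_autGroup le_rfl hconj).congr fun y hy => by
      rw [av_mul _ _ hy, av_mul _ _ (av_mem _ hy)]

theorem charSys_saturated (hF : F.IsSaturated p) : (charSys hS hc hΔ).IsSaturated p := by
  have hle := charSys_le hS hc hΔ
  have hCC := centClosed_charSys hS hc hΔ
  have hcen : ∀ P : Subgroup Ω, (charSys hS hc hΔ).IsCentric P ↔ F.IsCentric P := fun P =>
    centric_iff_of_fac hS hF hle hCC.1
  have hconjF : ∀ {A B : Subgroup Ω}, (charSys hS hc hΔ).IsConj A B → F.IsConj A B :=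
    fun ⟨φ, hφ, hr⟩ => ⟨φ, hle _ hφ, hr⟩
  refine saturated_of_family hS {P | F.IsCentric P} (fun P hP Q hQ => ?_) (fun P hP => ?_)
    (fun D hD => ?_) fun P hP hP' => absurd ((hcen P).1 hP) hP'
  · exact ⟨(isConj_le hQ).2, fun R hR => hP.2 R (isConj_trans (hconjF hQ) hR)⟩
  · obtain ⟨Q, hQ, hfn⟩ := exists_fullyNormalized (F := F) hP.1
    obtain ⟨f, hf, hi⟩ := isConj_iff.1 hQ
    obtain ⟨α, hα, f₀, h₀, hfe⟩ := fac_of_map hS hF hCC.1 hf
    set Q₀ := im P f₀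
    have hQ₀S : Q₀ ≤ S := h₀.1.im_le
    have hQeq : im Q₀ (av α) = Q := by
      rw [← hi, ← h₀.1.im_comp]
      exact im_congr fun x hx => (hfe x hx).symm
    have hfn₀ : F.IsFullyNormalized Q₀ := by
      refine ⟨hQ₀S, fun R hR => (hfn.2 R (isConj_trans (isConj_symm
        (isConj_iff.2 ⟨_, map_autS hα hQ₀S, hQeq⟩)) hR)).trans ?_⟩
      have hm := map_autS (F := F) ((F.autGroup S).inv_mem hα) (inf_le_left : normalizerIn S Q ≤ S)
      have hi' : im Q (av α⁻¹) = Q₀ := by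
        rw [← hQeq, ← (map_autS hα hQ₀S).im_comp,
          im_congr (f := av α⁻¹ ∘ av α) (g := id) fun x hx => av_inv_av α (hQ₀S hx), im_id]
      exact hm.card_le fun x hx => hi' ▸ hm.mem_normalizer (le_normalizerIn hfn.1) hx hx.2
    obtain ⟨hfc, hfa⟩ := fc_fa_of_fn hS hF hfn₀
    refine ⟨Q₀, isConj_iff.2 ⟨f₀, h₀.map, rfl⟩, ?_, ?_⟩
    · haveI := mulAut_finite_of_le hQ₀S
      exact fa_iff.2 ⟨hQ₀S, (fa_iff.1 hfa).2.mono (autInducedBy_le_autGroup hQ₀S)
        (autGroup_le_of_le hle hQ₀S)⟩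
    · refine receptive_iff.2 ⟨hQ₀S, fun X g hg hgi => ?_⟩
      have hgF : Map F X g := let ⟨φ, hφ, he⟩ := hg; ⟨φ, hle _ hφ, he⟩
      have hXc : F.IsCentric X := ⟨hg.le, fun R hR => hP.2 R (isConj_trans
        (isConj_trans (isConj_iff.2 ⟨f₀, h₀.1, rfl⟩) (isConj_symm (isConj_iff.2 ⟨g, hgF, hgi⟩))) hR)⟩
      obtain ⟨ψ, hψ, hψg⟩ := (receptive_iff.1 (receptive_of_fc hS hF hfc)).2 X g hgF hgi
      exact ⟨ψ, hCC.2 _ X ψ hψ (le_Nf hgF) hXc (hg.congr fun x hx => (hψg x hx).symm), hψg⟩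
  · have hD' : ∀ {P : Subgroup Ω} {f : Ω → Ω}, F.IsCentric P → Map (charSys hS hc hΔ) P f → Map D P f :=
      fun hP ⟨φ, hφ, he⟩ => ⟨φ, hD _ hP hφ, he⟩
    let C := interSys F {charSys hS hc hΔ, D}
    have hC1 : CentClosed F p C := by
      refine ⟨fun P hP α hα => mem_autGroup_of_map ?_, fun P Q f hf hQP hQ h => ?_⟩
      · have hM := map_of_mem_autGroup hP.1 (hCC.1 P hP hα)
        refine map_interSys.2 ⟨map_of_mem_autGroup hP.1 (pResAut_le _ hα), ?_⟩
        rintro X (rfl | rfl)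
        · exact hM
        · exact hD' hP hM
      · have hM := hCC.2 P Q f hf hQP hQ ((map_interSys.1 h).2 _ (Or.inl rfl))
        refine map_interSys.2 ⟨hf, ?_⟩
        rintro X (rfl | rfl)
        · exact hM
        · exact hD' (centric_mono hQ hQP hf.le) hM
    have hC2 : (clsSys hS hc hΔ).autGroup S ≤ C.autGroup S := fun γ hγ => by
      obtain ⟨hγF, hγc⟩ := (mem_autGroup_clsSys hS hc hΔ).1 hγ
      have hM := map_of_mem_autGroup le_rfl ((mem_autGroup_charSys hS hc hΔ).2 ⟨hγF, hγc⟩)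
      refine mem_autGroup_of_map (map_interSys.2 ⟨map_of_mem_autGroup le_rfl hγF, ?_⟩)
      rintro X (rfl | rfl)
      · exact hM
      · exact hD' centric_self hM
    intro P φ hφ
    exact (hφ.2 C ⟨hC1, hC2⟩).2 D (Or.inr rfl)

theorem charSys_normalIn (hF : F.IsSaturated p) : (charSys hS hc hΔ).IsNormalIn F p := by
  refine ⟨⟨charSys_saturated hS hc hΔ hF, hF, charSys_le hS hc hΔ,
    stronglyClosed_iff.2 ⟨le_rfl, fun P f _ hf x hx => hf.mem hx⟩, ?_, ?_⟩, ?_⟩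
  · intro P hP φ hφ α hα
    have hI := invMap_charSys hS hc hΔ (map_of_mem hφ)
    obtain ⟨χ', hχ', hχe⟩ := hI.2 α hα
    have hset : (P.subgroupOf S).map (S.subtype.comp α.toMonoidHom) = im P (av α) :=
      map_subgroupOf_eq_im hP fun x => (av_coe α x).symm
    rw [hset]
    refine ⟨χ', hχ', fun x hφx hαx => (hχe _).trans ?_⟩
    show av α (fn φ (av α⁻¹ ((α ⟨x, hP x.2⟩ : S) : Ω))) = _
    rw [← av_apply α (hP x.2), av_inv_av α (hP x.2), fn_coe, av_apply α hφx]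
  · intro P _ φ hφ
    obtain ⟨α, hα, f₀, h₀, hfe⟩ := fac_of_map hS hF (centClosed_charSys hS hc hΔ).1 (map_of_mem hφ)
    obtain ⟨φ₀, hφ₀, he⟩ := h₀.map
    refine ⟨α, hα, φ₀, hφ₀, fun x hx => ?_⟩
    rw [← fn_coe φ x, hfe x x.2, ← he x, av_apply α hx]
  · intro α hα
    have hαF := ((mem_autGroup_charSys hS hc hΔ).1 hα).1
    have hsup : S ⊔ centralizerIn S S = S := sup_eq_left.2 inf_le_left
    have hm := map_of_mem_autGroup (F := F) le_rfl hαF
    obtain ⟨β, hβ, hβe⟩ := exists_aut (F := F) (P := S ⊔ centralizerIn S S) (f := av α)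
      (by rw [hsup]; exact hm) (by rw [hsup, im_av])
    refine ⟨β, hβ, fun x => ?_, fun d hd => ?_⟩
    · rw [← av_coe β, Subgroup.coe_inclusion, hβe _ (Subgroup.mem_sup_left x.2), av_coe]
    · obtain ⟨hdS, hdc⟩ := mem_centralizerIn.1 hd
      rw [← av_coe β, hβe _ d.2]
      refine Subgroup.mem_inf.2 ⟨mul_mem (inv_mem hdS) (hm.mem hdS), ?_⟩
      refine mul_mem (inv_mem (Subgroup.mem_centralizer_iff.2 hdc)) (Subgroup.mem_centralizer_iff.2 fun y hy => ?_)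
      have hy' := av_mem α⁻¹ hy
      rw [← av_av_inv α hy, ← hm.map_mul hy' hdS, hdc _ hy', hm.map_mul hdS hy', av_av_inv α hy]

/-- The maps of `E` lying in a system over the larger group. -/
def meetSys {T : Subgroup Ω} (E : FusionSystem T) (D : FusionSystem S) (hT : T ≤ S) : FusionSystem T where
  Hom P := {φ | φ ∈ E.Hom P ∧ φ ∈ D.Hom P}
  le_of_mem h := E.le_of_mem h.1
  injective_of_mem h := E.injective_of_mem h.1
  conj_mem hP hg := ⟨E.conj_mem hP hg, D.conj_mem (hP.trans hT) (hT hg)⟩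
  comp_mem hφ hψ h := ⟨E.comp_mem hφ.1 hψ.1 h, D.comp_mem hφ.2 hψ.2 h⟩
  inv_mem {P φ} hφ := by
    obtain ⟨ψ, hψ, hψφ⟩ := E.inv_mem hφ.1
    obtain ⟨ψ', hψ', hψ'φ⟩ := D.inv_mem hφ.2
    refine ⟨ψ, ⟨hψ, ?_⟩, hψφ⟩
    rwa [show ψ = ψ' from MonoidHom.ext fun y => by
      obtain ⟨y, x, rfl⟩ := y
      rw [hψφ x, hψ'φ x]]

omit [Finite S] [Fact p.Prime] in
theorem map_meetSys {T : Subgroup Ω} {E : FusionSystem T} {D : FusionSystem S} {hT : T ≤ S} :
    Map (meetSys E D hT) P f ↔ Map E P f ∧ Map D P f :=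
  ⟨fun ⟨φ, hφ, h⟩ => ⟨⟨φ, hφ.1, h⟩, ⟨φ, hφ.2, h⟩⟩,
    fun ⟨⟨φ, hφ, h⟩, hD⟩ => ⟨φ, ⟨hφ, hD.mem_hom h⟩, h⟩⟩

section Over

variable (hE : E.IsWeaklyNormalIn F p) (χ : ↥(F.autGroup T) →* Δ)
  (hker : (E.autGroup T).subgroupOf (F.autGroup T) ≤ χ.ker)
  (hb : ∀ P f, BaseFam F E P → Map F P f → BaseRel E χ P f (c P f))
include hS hΔ hE hker hb

theorem cls_aut_top {γ : MulAut S} (hγ : γ ∈ F.autGroup S) {β : MulAut T} (hβ : β ∈ F.autGroup T)
    (hag : ∀ x ∈ T, av γ x = av β x) : c S (av γ) = chVal χ β := by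
  have hT := hE.2.2.2.1.1
  haveI := finite_of_le hT
  have hST : S ⊓ T = T := inf_eq_right.2 hT
  have hTc : E.IsCentric (S ⊓ T) := by rw [hST]; exact centric_self
  refine baseRel_unique hS hE hΔ hker hTc (hb S _ ⟨centric_self, hTc⟩ (map_of_mem_autGroup le_rfl hγ))
    ⟨β, hβ, id, ?_, fun r hr => hag r hr.2, rfl⟩
  exact map_id inf_le_right

omit hb in
theorem chVal_pResAut {u : MulAut T} (hu : u ∈ pResAut p (F.autGroup T)) : chVal χ u = 1 := by
  have hsub : pResAut p (F.autGroup T) ≤ χ.ker.map (F.autGroup T).subtype := by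
    refine pResAut_induction fun α hα ⟨k, hk⟩ => ⟨⟨α, hα⟩, ?_, rfl⟩
    refine MonoidHom.mem_ker.2 (eq_one_of_pow_prime_pow (p := p) hΔ (k := k) ?_)
    rw [← map_pow, show (⟨α, hα⟩ : ↥(F.autGroup T)) ^ p ^ k = 1 from
      Subtype.ext (by rw [← hk]; exact pow_orderOf_eq_one α), map_one]
  obtain ⟨v, hv, rfl⟩ := hsub hu
  rw [show ((F.autGroup T).subtype v) = (v : MulAut T) from rfl, chVal_mem v.2]
  exact MonoidHom.mem_ker.1 hv

/-- Every automorphism of `T` is, modulo `O^{p'}`, the restriction of one of `S` with the same class. -/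
theorem exists_lift {a : MulAut T} (ha : a ∈ F.autGroup T) :
    ∃ u ∈ pResAut p (F.autGroup T), ∃ γ ∈ F.autGroup S,
      (∀ x ∈ T, av γ x = av (u * a) x) ∧ c S (av γ) = chVal χ a := by
  obtain ⟨-, hF, hEi⟩ := id hE
  have hT := hEi.2.1
  haveI := finite_of_le hT.1
  haveI := mulAut_finite_of_le hT.1
  have hTn : F.IsFullyNormalized T := by
    refine ⟨hT.1, fun Q hQ => ?_⟩
    obtain ⟨f, hf, rfl⟩ := isConj_iff.1 hQ
    rw [Subgroup.eq_of_le_of_card_ge (im_le_iff.2 fun x hx => stronglyClosed_map hT hf hx hx) hf.card_im.ge]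
  have hsyl := (fa_iff.1 (fc_fa_of_fn hS hF hTn).2).2
  have hTN : autInducedBy S T ≤ pResAut p (F.autGroup T) := fun β hβ => by
    refine mem_pResAut (hsyl.le hβ) ?_
    obtain ⟨k, hk⟩ := IsPGroup.iff_orderOf.1 hsyl.isPGroup ⟨β, hβ⟩
    exact ⟨k, by rw [← hk, ← Subgroup.orderOf_coe]⟩
  obtain ⟨u, hu, hua⟩ := frattini_conj (hsyl.mono hTN (pResAut_le _)) (le_normalizer_pResAut _) ha
  have hb' : u * a ∈ F.autGroup T := mul_mem (pResAut_le _ hu) ha
  obtain ⟨g, hg, hgb⟩ := (receptive_iff.1 (receptive_of_fc hS hF (fc_fa_of_fn hS hF hTn).1)).2 T _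
    (map_of_mem_autGroup hT.1 hb') (im_av _)
  have hN : S ≤ Nf S T (av (u * a)) := by
    intro s hs
    have hsn := stronglyClosed_le_normalizer hT hs
    obtain ⟨β, hβ, hβS⟩ := exists_aut_conj hsn
    obtain ⟨t, htS, ht⟩ := mem_autInducedBy.1 ((Subgroup.mem_normalizer_iff.1 hua _).1 (hβS S hs))
    refine ⟨hs, hsn, t, htS, fun x hx => ?_⟩
    have h1 := ht _ (av_mem (u * a) hx)
    rw [av_mul _ _ (av_mem (u * a) hx), av_inv_av (u * a) hx, av_mul _ _ hx, hβ x hx] at h1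
    exact h1
  have hgS := hg.restrict hN
  obtain ⟨γ, hγ, hγg⟩ := exists_aut hgS (Subgroup.eq_of_le_of_card_ge hgS.im_le hgS.card_im.ge)
  have hag : ∀ x ∈ T, av γ x = av (u * a) x := fun x hx => by rw [hγg x (hT.1 hx), hgb x hx]
  refine ⟨u, hu, γ, hγ, hag, ?_⟩
  rw [cls_aut_top hS hΔ hE χ hker hb hγ hb' hag, chVal_mul (pResAut_le _ hu) ha,
    chVal_pResAut hS hΔ hE χ hker hu, one_mul]

theorem sub_charSys : E.IsSubsystemOf (charSys hS hc hΔ) := by
  obtain ⟨hEs, hF, hEi⟩ := id hE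
  have hT := hEi.2.1
  haveI := finite_of_le hT.1
  have hTp := hS.to_le hT.1
  have hall : ∀ P : Subgroup Ω, P ≤ S → pResAut p (F.autGroup P) ≤ (charSys hS hc hΔ).autGroup P :=
    fun P hP => pResAut_le_of_centric hS hF (centClosed_charSys hS hc hΔ).1 hP
  have hgen : ∀ P : Subgroup Ω, E.IsCentric P →
      pResAut p (E.autGroup P) ≤ (meetSys E (charSys hS hc hΔ) hT.1).autGroup P := fun P hP =>
    pResAut_induction fun α hα hk => mem_autGroup_of_map (map_meetSys.2 ⟨map_of_mem_autGroup hP.1 hα,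
      map_of_mem_autGroup (hP.1.trans hT.1)
        (hall P (hP.1.trans hT.1) (mem_pResAut (autGroup_sub_le hEi hP.1 hα) hk))⟩)
  have htop : ∀ a ∈ E.autGroup T, Map (charSys hS hc hΔ) T (av a) := by
    intro a ha
    have haF := autGroup_sub_le hEi le_rfl ha
    obtain ⟨u, hu, γ, hγ, hag, hcls⟩ := exists_lift hS hΔ hE χ hker hb haF
    rw [chVal_mem haF, MonoidHom.mem_ker.1 (hker (Subgroup.mem_subgroupOf.2 ha))] at hcls
    have hm : Map (charSys hS hc hΔ) T (av (u * a)) :=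
      ((map_of_mem_autGroup le_rfl ((mem_autGroup_charSys hS hc hΔ).2 ⟨hγ, hcls⟩)).restrict hT.1).congr hag
    have h2 := mul_mem (inv_mem (hall T hT.1 hu)) (mem_autGroup_of_map hm)
    rw [inv_mul_cancel_left] at h2
    exact map_of_mem_autGroup hT.1 h2
  intro P φ hφ
  obtain ⟨α, hα, f₀, h₀, hfe⟩ := fac_of_map hTp hEs hgen (map_of_mem hφ)
  exact (((map_meetSys.1 h₀.map).2.comp (htop α hα) fun x hx => h₀.1.mem hx).congr
    fun x hx => (hfe x hx).symm).mem_hom fun x => (fn_coe φ x).symm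

end Over

end Cfsg.Agent.Local.FS
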