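import Cfsg.Agent.Lib.Local.FS.ConstrainedComponent
import Cfsg.Agent.Lib.Local.FS.CentSat
import Cfsg.Agent.Lib.Local.FS.NormSat
import Cfsg.Agent.Lib.Lead.SupersolubleCore

/-!
If the centralizer systems of the fully normalized subgroups of order `p` are constrained, then so are all
local subsystems.
-/

set_option autoImplicit false

namespace Cfsg.Agent.Local.FS.CharType

open Cfsg Cfsg.FusionSystem Cfsg.Agent.Fusion Cfsg.Agent.Local.FS

universe u

variable {Ω : Type u} [Group Ω] {S A B Q R : Subgroup Ω} {F : FusionSystem S} {p : ℕ} {f : Ω → Ω}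

/-- The fixed points of an automorphism of a subgroup. -/
def fixIn (β : MulAut B) : Subgroup Ω where
  carrier := {x | x ∈ B ∧ av β x = x}
  one_mem' := ⟨B.one_mem, by rw [av_apply β B.one_mem]; exact congrArg Subtype.val (map_one β)⟩
  mul_mem' := by
    rintro x y ⟨hx, hx'⟩ ⟨hy, hy'⟩
    refine ⟨B.mul_mem hx hy, ?_⟩
    rw [av_apply β (B.mul_mem hx hy), show (⟨x * y, B.mul_mem hx hy⟩ : B) = ⟨x, hx⟩ * ⟨y, hy⟩ from rfl,
      _root_.map_mul, Subgroup.coe_mul, ← av_apply β hx, ← av_apply β hy, hx', hy']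
  inv_mem' := by
    rintro x ⟨hx, hx'⟩
    refine ⟨B.inv_mem hx, ?_⟩
    rw [av_apply β (B.inv_mem hx), show (⟨x⁻¹, B.inv_mem hx⟩ : B) = (⟨x, hx⟩ : B)⁻¹ from rfl,
      _root_.map_inv, Subgroup.coe_inv, ← av_apply β hx, hx']

theorem mem_fixIn {β : MulAut B} {x : Ω} : x ∈ fixIn β ↔ x ∈ B ∧ av β x = x := Iff.rfl

theorem av_mul_pt (β : MulAut B) {x y : Ω} (hx : x ∈ B) (hy : y ∈ B) :
    av β (x * y) = av β x * av β y := by
  rw [av_apply β (B.mul_mem hx hy), show (⟨x * y, B.mul_mem hx hy⟩ : B) = ⟨x, hx⟩ * ⟨y, hy⟩ from rfl,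
    _root_.map_mul, Subgroup.coe_mul, ← av_apply β hx, ← av_apply β hy]

theorem av_pow_fixed (β : MulAut B) {x : Ω} (hx : x ∈ fixIn β) (n : ℕ) : av (β ^ n) x = x := by
  induction n with
  | zero => rw [pow_zero, av_one hx.1]
  | succ n ih => rw [pow_succ, av_mul _ _ hx.1, hx.2, ih]

/-- Thompson's `A × B` argument. -/
theorem fixes_of_fixes_cent [Fact p.Prime] [Finite S] (hS : IsPGroup p S) (hB : B ≤ S) (hQB : Q ≤ B)
    (hRB : R ≤ B) (hn : R ≤ Subgroup.normalizer (Q : Set Ω)) (β : MulAut B)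
    (hβ : (orderOf β).Coprime p) (hQ : ∀ x ∈ Q, av β x ∈ Q) (hR : ∀ r ∈ R, av β r = r)
    (hC : ∀ x ∈ Q, (∀ r ∈ R, r * x = x * r) → av β x = x) : ∀ x ∈ Q, av β x = x := by
  by_contra hne
  push Not at hne
  obtain ⟨x₀, hx₀, hx₀'⟩ := hne
  have hRF : R ≤ fixIn β := fun r hr => ⟨hRB hr, hR r hr⟩
  have hlt : (R ⊔ Q) ⊓ fixIn β < R ⊔ Q :=
    lt_of_le_not_ge inf_le_left fun h => hx₀' (h (Subgroup.mem_sup_right hx₀)).2.2
  obtain ⟨y, ⟨hy, hyn⟩, hyH⟩ :=
    SetLike.exists_of_lt (lt_inf_normalizer hS hlt (sup_le (hRB.trans hB) (hQB.trans hB)))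
  obtain ⟨a, ha, x, hx, rfl⟩ := mem_sup_of_normalized hn le_rfl hy
  have haH : a ∈ (R ⊔ Q) ⊓ fixIn β := ⟨Subgroup.mem_sup_left ha, hRF ha⟩
  have hxn : x ∈ Subgroup.normalizer (((R ⊔ Q) ⊓ fixIn β : Subgroup Ω) : Set Ω) := by
    have := Subgroup.mul_mem _ (Subgroup.inv_mem _ (Subgroup.le_normalizer haH)) hyn
    rwa [inv_mul_cancel_left] at this
  have hxfix : av β x ≠ x := fun h =>
    hyH (Subgroup.mul_mem _ haH ⟨Subgroup.mem_sup_right hx, hQB hx, h⟩)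
  have hxB := hQB hx
  refine hxfix ?_
  obtain ⟨u, hu⟩ : ∃ u, u = av β x * x⁻¹ := ⟨_, rfl⟩
  have huQ : u ∈ Q := hu ▸ Q.mul_mem (hQ x hx) (Q.inv_mem hx)
  have huC : ∀ r ∈ R, r * u = u * r := by
    intro r hr
    have hc : x⁻¹ * r * x * r⁻¹ ∈ (R ⊔ Q) ⊓ fixIn β := by
      have hrH : r ∈ (R ⊔ Q) ⊓ fixIn β := ⟨Subgroup.mem_sup_left hr, hRF hr⟩
      refine Subgroup.mul_mem _ ?_ (Subgroup.inv_mem _ hrH)
      simpa using conj_mem_of_normalizer (Subgroup.inv_mem _ hxn) hrH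
    have hrB := hRB hr
    obtain ⟨c, hcdef⟩ : ∃ c, c = x⁻¹ * r * x * r⁻¹ := ⟨_, rfl⟩
    rw [← hcdef] at hc
    have h1 : r * x = x * c * r := by rw [hcdef]; group
    have h2 := congrArg (av β) h1
    rw [av_mul_pt β hrB hxB, av_mul_pt β (B.mul_mem hxB hc.2.1) hrB, av_mul_pt β hxB hc.2.1, hR r hr,
      hc.2.2] at h2
    calc r * u = r * av β x * x⁻¹ := by rw [hu]; group
      _ = av β x * (c * r * x⁻¹) := by rw [h2]; group
      _ = u * r := by rw [hu, show c * r = x⁻¹ * (x * c * r) by group, ← h1]; group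
  have huB := hQB huQ
  have hufix : u ∈ fixIn β := ⟨huB, hC u huQ huC⟩
  have hit : ∀ n : ℕ, av (β ^ n) x = u ^ n * x := by
    intro n
    induction n with
    | zero => rw [pow_zero, av_one hxB, pow_zero, one_mul]
    | succ n ih =>
      rw [pow_succ', av_mul _ _ hxB, ih, av_mul_pt β (B.pow_mem huB n) hxB,
        ((fixIn β).pow_mem hufix n).2, pow_succ, mul_assoc, show u * x = av β x by rw [hu]; group]
  have h1 := hit (orderOf β)
  rw [pow_orderOf_eq_one, av_one hxB] at h1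
  have hu1 : u ^ orderOf β = 1 := right_eq_mul.1 h1
  obtain ⟨k, hk⟩ := hS ⟨u, hB huB⟩
  have hk' : u ^ p ^ k = 1 := congrArg Subtype.val hk
  have hu' : u = 1 := orderOf_eq_one_iff.1 (Nat.eq_one_of_dvd_coprimes (hβ.pow_right k)
    (orderOf_dvd_of_pow_eq_one hu1) (orderOf_dvd_of_pow_eq_one hk'))
  rw [hu'] at hu
  exact mul_inv_eq_one.1 hu.symm

variable [Finite S] [Fact p.Prime]

/-- In a constrained system a coprime automorphism fixing `R` and `C_Q(R)`, `Q` the core, is trivial. -/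
theorem aut_eq_one (hS : IsPGroup p S) (hc : F.IsConstrained p) (hA : A ≤ S) (hRA : R ≤ A)
    {α : MulAut A} (hα : α ∈ F.autGroup A) (hord : (orderOf α).Coprime p) (hR : ∀ r ∈ R, av α r = r)
    (hC : ∀ x ∈ F.core, (∀ r ∈ R, r * x = x * r) → x ∈ A ∧ av α x = x) : α = 1 := by
  have hQn := core_normal hS hc.1 (F := F)
  have hQc : F.IsCentric F.core :=
    Terminating.centric_of_normal hQn (Terminating.centralizer_core_le hc)
  have hQs := normal_stronglyClosed hQn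
  obtain ⟨g, hg, hgα, hgQ⟩ := (normal_iff.1 hQn).2 A _ (map_of_mem_autGroup hA hα)
  have hB : A ⊔ F.core ≤ S := hg.le
  haveI := finite_of_le hB
  haveI := mulAut_finite_of_le hB
  have hgi : im (A ⊔ F.core) g = A ⊔ F.core := by
    refine Subgroup.eq_of_le_of_card_ge (hg.im_sup_le.trans (sup_le_sup ?_ hgQ.le)) hg.card_im.ge
    exact ((im_congr hgα).trans (im_av α)).le
  obtain ⟨κ, hκ, hκg⟩ := exists_aut hg hgi
  obtain ⟨i, m, hm, hord'⟩ := Nat.exists_eq_pow_mul_and_not_dvd (orderOf_pos κ).ne' p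
    (Fact.out : p.Prime).ne_one
  have hβord : (orderOf (κ ^ p ^ i)).Coprime p := by
    rw [orderOf_pow' κ (pow_ne_zero i (Fact.out : p.Prime).ne_zero), hord', Nat.gcd_mul_right_left,
      Nat.mul_div_cancel_left _ (pow_pos (Fact.out : p.Prime).pos i)]
    exact ((Nat.Prime.coprime_iff_not_dvd Fact.out).2 hm).symm
  have hagree := av_pow (le_sup_left : A ≤ A ⊔ F.core) (fun x hx => (hκg x (Subgroup.mem_sup_left hx)).trans
    (hgα x hx)) (p ^ i) (α := α)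
  have hfixA : ∀ x ∈ A, av α x = x → av (κ ^ p ^ i) x = x := fun x hx h => by
    rw [hagree x hx, av_pow_fixed α ⟨hx, h⟩]
  have hβmap := map_of_mem_autGroup hB (Subgroup.pow_mem _ hκ (p ^ i))
  have hQfix := fixes_of_fixes_cent hS hB le_sup_right (hRA.trans le_sup_left)
    ((hRA.trans hA).trans (stronglyClosed_le_normalizer hQs)) _ hβord
    (fun x hx => stronglyClosed_map hQs hβmap (Subgroup.mem_sup_right hx) hx)
    (fun r hr => hfixA r (hRA hr) (hR r hr))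
    (fun x hx hcx => hfixA x (hC x hx hcx).1 (hC x hx hcx).2)
  obtain ⟨z, hz, -, hzr⟩ := centric_agree hS hc.1 hQc le_sup_right (map_id hB) hβmap
    (fun q hq => (hQfix q hq).symm)
  have hzB : z ∈ A ⊔ F.core := Subgroup.mem_sup_right hz
  have hit : ∀ n : ℕ, ∀ r ∈ A ⊔ F.core, av ((κ ^ p ^ i) ^ n) r = z ^ n * r * (z ^ n)⁻¹ := by
    intro n
    induction n with
    | zero => intro r hr; simp [av_one hr]
    | succ n ih =>
      intro r hr
      rw [pow_succ', av_mul _ _ hr, hzr _ (av_mem _ hr), ih r hr]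
      simp only [id, pow_succ', mul_inv_rev, mul_assoc]
  obtain ⟨k, hk⟩ := hS ⟨z, hQn.1 hz⟩
  have hk' : z ^ p ^ k = 1 := congrArg Subtype.val hk
  have hβ1 : κ ^ p ^ i = 1 := by
    refine orderOf_eq_one_iff.1 (Nat.eq_one_of_dvd_coprimes (hβord.pow_right k) dvd_rfl
      (orderOf_dvd_of_pow_eq_one (aut_ext fun r hr => ?_)))
    rw [hit _ r hr, hk', av_one hr]
    simp
  have hα1 : α ^ p ^ i = 1 := aut_ext fun x hx => by
    rw [← hagree x hx, hβ1, av_one (Subgroup.mem_sup_left hx), av_one hx]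
  exact orderOf_eq_one_iff.1 (Nat.eq_one_of_dvd_coprimes (hord.pow_right i) dvd_rfl
    (orderOf_dvd_of_pow_eq_one hα1))

/-- The elements of `A` sent by a map into `K`. -/
def comapIn (hf : Map F A f) (K : Subgroup Ω) : Subgroup Ω where
  carrier := {x | x ∈ A ∧ f x ∈ K}
  one_mem' := ⟨A.one_mem, hf.map_one.symm ▸ K.one_mem⟩
  mul_mem' := fun {x y} hx hy => ⟨A.mul_mem hx.1 hy.1, hf.map_mul hx.1 hy.1 ▸ K.mul_mem hx.2 hy.2⟩
  inv_mem' := fun {x} hx => ⟨A.inv_mem hx.1, hf.map_inv hx.1 ▸ K.inv_mem hx.2⟩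

/-- A normalizing map is a map of the normalizer system. -/
theorem map_normalizer {N : FusionSystem (normalizerIn S Q)} (hN : F.IsNormalizerSystem Q N)
    (hf : Map F A f) (hA : A ≤ normalizerIn S Q) (hm : ∀ x ∈ A, f x ∈ normalizerIn S Q) (hQA : Q ≤ A)
    (hQ : im Q f = Q) : Map N A f := by
  obtain ⟨φ, hφ, he⟩ := hf
  refine ⟨φ, (hN A).ge (mem_normalizerHom.2 ⟨hA, fun x => (he x).symm ▸ hm x x.2, f, ?_, he, hQ⟩), he⟩
  rw [sup_eq_left.2 hQA]
  exact ⟨φ, hφ, he⟩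

/-- A centralizing map is a map of the centralizer system. -/
theorem map_centSys_of (hQS : Q ≤ S) (hf : Map F A f) (hA : A ≤ centralizerIn S Q)
    (hm : ∀ x ∈ A, f x ∈ centralizerIn S Q) (hQA : Q ≤ A) (hQ : ∀ x ∈ Q, f x = x) :
    Map (centSys F hQS) A f := by
  obtain ⟨φ, hφ, he⟩ := hf
  refine ⟨φ, mem_centralizerHom.2 ⟨hA, fun x => (he x).symm ▸ hm x x.2, f, ?_, he, hQ⟩, he⟩
  rw [sup_eq_left.2 hQA]
  exact ⟨φ, hφ, he⟩

/-- A nontrivial normalized subgroup contains an element of order `p` central in the normalizer. -/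
theorem exists_central (hS : IsPGroup p S) {T U : Subgroup Ω} (hT : T ≤ S) (hU : U ≤ T)
    (hn : T ≤ Subgroup.normalizer (U : Set Ω)) (hne : U ≠ ⊥) :
    ∃ x ∈ U, orderOf x = p ∧ ∀ t ∈ T, x * t = t * x := by
  haveI := finite_of_le hT
  haveI := Subgroup.normal_subgroupOf_iff_le_normalizer hU |>.2 hn
  obtain ⟨z, hzU, hzc, hz1⟩ := Lead.SupCore.inf_center_ne_bot' (hS.to_le hT) (U.subgroupOf T) (by
    intro h
    refine hne (le_bot_iff.1 fun x hx => ?_)
    have : (⟨x, hU hx⟩ : T) ∈ U.subgroupOf T := hx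
    rw [h, Subgroup.mem_bot] at this
    exact Subgroup.mem_bot.2 (congrArg Subtype.val this))
  obtain ⟨m, hm⟩ := IsPGroup.iff_orderOf.1 (hS.to_le hT) z
  rcases m with _ | m
  · exact absurd (orderOf_eq_one_iff.1 (by simpa using hm)) hz1
  refine ⟨((z ^ p ^ m : T) : Ω), (U.subgroupOf T).pow_mem hzU _, ?_, fun t ht => ?_⟩
  · rw [Subgroup.orderOf_coe, orderOf_pow' z (pow_ne_zero m (Fact.out : p.Prime).ne_zero), hm,
      Nat.gcd_eq_right (pow_dvd_pow p m.le_succ), Nat.pow_div m.le_succ (Fact.out : p.Prime).pos]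
    simp
  · exact congrArg Subtype.val (Subgroup.mem_center_iff.1 ((Subgroup.center T).pow_mem hzc (p ^ m)) ⟨t, ht⟩).symm

/-- The normalizer systems are constrained if the centralizer systems of the subgroups of order `p` are. -/
theorem normalizer_constrained (hS : IsPGroup p S) (hF : F.IsSaturated p)
    (hall : ∀ X : Subgroup Ω, Nat.card X = p → ∀ hX : F.IsFullyNormalized X,
      (centSys F hX.1).IsConstrained p)
    {U : Subgroup Ω} (hU0 : U ≠ ⊥) (hU : F.IsFullyNormalized U)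
    {N : FusionSystem (normalizerIn S U)} (hN : F.IsNormalizerSystem U N) : N.IsConstrained p := by
  have hNs := saturated_of_isNormalizerSystem hS hF hU hN
  have hN0 : normalizerIn S U ≤ S := inf_le_left
  have hSN := hS.to_le hN0
  have hUN : U ≤ normalizerIn S U := le_normalizerIn hU.1
  -- maps of `N` are maps of `F`
  have hNF : N.IsSubsystemOf F := fun P φ hφ => ((hN P).le hφ).1
  have hUn : N.IsNormal U := by
    refine normal_iff.2 ⟨hUN, fun P f hf => ?_⟩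
    obtain ⟨φ, hφ, he⟩ := hf
    obtain ⟨hP, hm, g, hg, hφg, hgU⟩ := mem_normalizerHom.1 ((hN P).le hφ)
    refine ⟨g, map_normalizer hN hg (sup_le hP hUN) (fun y hy => ?_) le_sup_right hgU,
      fun x hx => (hφg ⟨x, hx⟩).symm.trans (he ⟨x, hx⟩), hgU⟩
    exact hg.im_sup_le.trans (sup_le (im_le_iff.2 fun x hx => (hφg ⟨x, hx⟩) ▸ hm ⟨x, hx⟩)
      (hgU.le.trans hUN)) (mem_im_of_mem hy)
  obtain ⟨D, hD, hDhom⟩ := exists_coreCentralizer hSN hNs
  have hUR : U ≤ N.core := le_sSup (α := Subgroup Ω) hUn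
  have hRn := core_normal hSN hNs (F := N)
  obtain ⟨R, hRdef⟩ : ∃ R, R = N.core := ⟨_, rfl⟩
  rw [← hRdef] at hUR hRn
  have hRN : R ≤ normalizerIn S U := hRn.1
  -- the element of order `p`
  obtain ⟨x₀, hx₀U, hx₀p, hx₀c⟩ := exists_central hS hN0 hUN inf_le_right hU0
  obtain ⟨X, hXdef⟩ : ∃ X, X = Subgroup.zpowers x₀ := ⟨_, rfl⟩
  have hXU : X ≤ U := hXdef ▸ Subgroup.zpowers_le.2 hx₀U
  have hcomm : ∀ t ∈ normalizerIn S U, ∀ x ∈ X, x * t = t * x := fun t ht x hx => by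
    obtain ⟨n, rfl⟩ := Subgroup.mem_zpowers_iff.1 (hXdef ▸ hx)
    exact (Commute.zpow_left (hx₀c t ht) n).eq
  have hNX : normalizerIn S U ≤ normalizerIn S X := fun t ht =>
    centralizerIn_le_normalizerIn (mem_centralizerIn.2 ⟨ht.1, hcomm t ht⟩)
  obtain ⟨X', hXX', hX'⟩ := exists_fullyNormalized (F := F) (hXU.trans hU.1)
  obtain ⟨ψ₀, hψ₀, -, hψX⟩ := exists_map_normalizer_fn hS hF hX' hXX'
  have hψ := hψ₀.restrict hNX
  have hXp : Nat.card X' = p := by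
    rw [← isConj_card hXX', hXdef, Nat.card_zpowers, hx₀p]
  have hC' := hall X' hXp hX'
  have hψC : ∀ y ∈ normalizerIn S U, ψ₀ y ∈ centralizerIn S X' := fun y hy =>
    hψX ▸ hψ.mem_centralizer (hXU.trans hUN) hy (hcomm y hy)
  -- the image of `N_S(U)` is the normalizer of the image of `U`
  have hsurj : ∀ y ∈ normalizerIn S (im U ψ₀), ∃ x ∈ normalizerIn S U, ψ₀ x = y :=
    hψ.surj_of_card_le inf_le_left (fun x hx => hψ.mem_normalizer hUN hx hx.2)
      (hU.2 _ (isConj_iff.2 ⟨ψ₀, hψ.restrict hUN, rfl⟩))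
  have hcent : ∀ v ∈ S, (∀ r ∈ R, ψ₀ r * v = v * ψ₀ r) → ∃ y ∈ centralizerIn (normalizerIn S U) R,
      ψ₀ y = v := by
    intro v hv hcv
    obtain ⟨y, hy, rfl⟩ := hsurj v (centralizerIn_le_normalizerIn (mem_centralizerIn.2 ⟨hv, fun a ha => by
      obtain ⟨r, hr, rfl⟩ := (hψ.restrict hUN).mem_im.1 ha
      exact hcv r (hUR hr)⟩))
    refine ⟨y, mem_centralizerIn.2 ⟨hy, fun r hr => hψ.injOn (Subgroup.mul_mem _ (hRN hr) hy)
      (Subgroup.mul_mem _ hy (hRN hr)) ?_⟩, rfl⟩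
    rw [hψ.map_mul (hRN hr) hy, hψ.map_mul hy (hRN hr), hcv r hr]
  obtain ⟨k, hk, hkψ, hψk, -⟩ := hψ.exists_inv
  set C' := centSys F hX'.1 with hC'def
  have hX'C : centralizerIn S X' ≤ S := inf_le_left
  obtain ⟨W, hWdef⟩ : ∃ W, W = centralizerIn (normalizerIn S U) R ⊓ comapIn hψ C'.core := ⟨_, rfl⟩
  have hWN : W ≤ normalizerIn S U := hWdef ▸ inf_le_right.trans fun y hy => hy.1
  have hCC : C'.IsSubsystemOf F := fun P φ hφ => hφ.1
  -- maps of `D` read in the centralizer system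
  have hconj : ∀ (P : Subgroup Ω) (g : Ω → Ω), Map N P g → R ≤ P → (∀ r ∈ R, g r = r) →
      Map C' (im P ψ₀) (ψ₀ ∘ g ∘ k) := by
    intro P g hg hRP hfix
    have hle : im P ψ₀ ≤ im (normalizerIn S U) ψ₀ := im_mono hg.le
    have hback : ∀ z ∈ im P ψ₀, k z ∈ P := fun z hz => by
      obtain ⟨y, hy, rfl⟩ := (hψ.restrict hg.le).mem_im.1 hz
      rw [hkψ y (hg.le hy)]
      exact hy
    refine map_centSys_of hX'.1 (((hk.restrict hle).comp (hg.of_sub hNF) hback).comp hψ fun z hz =>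
      hg.mem (hback z hz)) (im_le_iff.2 fun y hy => hψC y (hg.le hy))
      (fun z hz => hψC _ (hg.mem (hback z hz))) (hψX ▸ im_mono ((hXU.trans hUR).trans hRP)) fun z hz => ?_
    obtain ⟨y, hy, rfl⟩ := (hψ.restrict (hXU.trans hUN)).mem_im.1 (hψX.ge hz)
    show ψ₀ (g (k (ψ₀ y))) = ψ₀ y
    rw [hkψ y (hUN (hXU hy)), hfix y (hUR (hXU hy))]
  have hDext : ∀ (P : Subgroup Ω) (f : Ω → Ω), Map D P f → P ≤ centralizerIn (normalizerIn S U) R ∧
      (∀ x ∈ P, f x ∈ centralizerIn (normalizerIn S U) R) ∧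
      ∃ g, Map N (P ⊔ R) g ∧ (∀ x ∈ P, g x = f x) ∧ ∀ r ∈ R, g r = r := by
    rintro P f ⟨φ, hφ, he⟩
    rw [hDhom P, ← hRdef] at hφ
    obtain ⟨hP, hm, g, hg, hφg, hgR⟩ := mem_centralizerHom.1 hφ
    exact ⟨hP, fun x hx => he ⟨x, hx⟩ ▸ hm ⟨x, hx⟩, g, hg,
      fun x hx => (hφg ⟨x, hx⟩).symm.trans (he ⟨x, hx⟩), hgR⟩
  have hWn : D.IsNormal W := by
    refine normal_iff.2 ⟨hRdef ▸ hWdef ▸ inf_le_left, fun P f hf => ?_⟩
    obtain ⟨hP, hfm, g, hg, hgf, hgR⟩ := hDext P f hf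
    have hh := hconj _ g hg le_sup_right hgR
    obtain ⟨k', hk', hk'h, hk'Q⟩ :=
      (normal_iff.1 (core_normal (hS.to_le hX'C) hC'.1 (F := C'))).2 _ _ hh
    have hQk : ∀ y ∈ C'.core, k' y ∈ C'.core := fun y hy => hk'Q.le (mem_im_of_mem hy)
    have hk'g : ∀ y ∈ P ⊔ R, k' (ψ₀ y) = ψ₀ (g y) := fun y hy => by
      rw [hk'h _ (mem_im_of_mem hy)]
      show ψ₀ (g (k (ψ₀ y))) = _
      rw [hkψ y (hg.le hy)]
    -- on `P ⊔ W ⊔ R`
    have hk'F := hk'.of_sub hCC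
    have hA₁ : P ⊔ W ⊔ R ≤ comapIn hψ (im (P ⊔ R) ψ₀ ⊔ C'.core) :=
      sup_le (sup_le (fun y hy => ⟨(hP hy).1, Subgroup.mem_sup_left (mem_im_of_mem (Subgroup.mem_sup_left hy))⟩)
        (fun y hy => ⟨hWN hy, Subgroup.mem_sup_right (hWdef.le hy).2.2⟩))
        fun y hy => ⟨hRN hy, Subgroup.mem_sup_left (mem_im_of_mem (Subgroup.mem_sup_right hy))⟩
    have hW' : ∀ w ∈ W, ∃ v ∈ W, ψ₀ v = k' (ψ₀ w) := fun w hw => by
      obtain ⟨hwB, hwN, hwQ⟩ := hWdef.le hw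
      have hwM : ψ₀ w ∈ im (P ⊔ R) ψ₀ ⊔ C'.core := Subgroup.mem_sup_right hwQ
      obtain ⟨v, hv, hve⟩ := hcent (k' (ψ₀ w)) (hk'F.mem hwM) fun r hr => by
        have hrM : ψ₀ r ∈ im (P ⊔ R) ψ₀ ⊔ C'.core :=
          Subgroup.mem_sup_left (mem_im_of_mem (Subgroup.mem_sup_right hr))
        have hkr : k' (ψ₀ r) = ψ₀ r := by rw [hk'g r (Subgroup.mem_sup_right hr), hgR r hr]
        rw [← hkr, ← hk'F.map_mul hrM hwM, ← hk'F.map_mul hwM hrM, ← hψ.map_mul (hRN hr) hwN,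
          (mem_centralizerIn.1 hwB).2 r hr, hψ.map_mul hwN (hRN hr)]
      exact ⟨v, hWdef.ge ⟨hv, hv.1, hve.symm ▸ hQk _ hwQ⟩, hve⟩
    have hA₂ : P ⊔ W ⊔ R ≤ comapIn hψ (comapIn hk'F (im (normalizerIn S U) ψ₀)) := by
      refine sup_le (sup_le (fun y hy => ⟨(hP hy).1, (hA₁ (Subgroup.mem_sup_left
        (Subgroup.mem_sup_left hy))).2, ?_⟩) fun y hy => ⟨hWN hy, Subgroup.mem_sup_right (hWdef.le hy).2.2, ?_⟩)
        fun y hy => ⟨hRN hy, (hA₁ (Subgroup.mem_sup_right hy)).2, ?_⟩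
      · rw [hk'g y (Subgroup.mem_sup_left hy)]
        exact mem_im_of_mem (hg.mem (Subgroup.mem_sup_left hy))
      · obtain ⟨v, hv, hve⟩ := hW' y hy
        exact hve ▸ mem_im_of_mem (hWN hv)
      · rw [hk'g y (Subgroup.mem_sup_right hy)]
        exact mem_im_of_mem (hg.mem (Subgroup.mem_sup_right hy))
    have hA₃ : P ⊔ W ⊔ R ≤ normalizerIn S U := fun y hy => (hA₁ hy).1
    have hl : Map F (P ⊔ W ⊔ R) (k ∘ k' ∘ ψ₀) :=
      ((hψ.restrict hA₃).comp hk'F fun y hy => (hA₁ hy).2).comp hk fun y hy => (hA₂ hy).2.2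
    have hlP : ∀ y ∈ P ⊔ R, k (k' (ψ₀ y)) = g y := fun y hy => by rw [hk'g y hy, hkψ _ (hg.mem hy)]
    have hlR : ∀ r ∈ R, k (k' (ψ₀ r)) = r := fun r hr => by rw [hlP r (Subgroup.mem_sup_right hr), hgR r hr]
    have hlW : ∀ w ∈ W, k (k' (ψ₀ w)) ∈ W := fun w hw => by
      obtain ⟨v, hv, hve⟩ := hW' w hw
      rw [← hve, hkψ v (hWN hv)]
      exact hv
    have hlU : im U (k ∘ k' ∘ ψ₀) = U := (im_congr fun y hy => hlR y (hUR hy)).trans im_id
    have hlN := map_normalizer hN hl hA₃ (fun y hy => (hψk _ (hA₂ hy).2.2).2)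
      (hUR.trans le_sup_right) hlU
    have hPB : P ⊔ W ≤ centralizerIn (normalizerIn S U) R := sup_le hP (hWdef ▸ inf_le_left)
    have hlm : P ⊔ W ≤ comapIn hl (centralizerIn (normalizerIn S U) R) :=
      sup_le (fun y hy => ⟨Subgroup.mem_sup_left (Subgroup.mem_sup_left hy),
        show k (k' (ψ₀ y)) ∈ centralizerIn (normalizerIn S U) R by
          rw [hlP y (Subgroup.mem_sup_left hy), hgf y hy]; exact hfm y hy⟩)
        fun y hy => ⟨Subgroup.mem_sup_left (Subgroup.mem_sup_right hy), (hWdef.le (hlW y hy)).1⟩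
    obtain ⟨φ, hφ, he⟩ := hlN.restrict (le_sup_left : P ⊔ W ≤ P ⊔ W ⊔ R)
    have hlD : Map D (P ⊔ W) (k ∘ k' ∘ ψ₀) := by
      refine ⟨φ, ?_, he⟩
      rw [hDhom, ← hRdef]
      exact mem_centralizerHom.2 ⟨hPB, fun x => (he x).symm ▸ (hlm x.2).2, _, hlN, he, hlR⟩
    refine ⟨_, hlD, fun x hx => (hlP x (Subgroup.mem_sup_left hx)).trans (hgf x hx), ?_⟩
    haveI := finite_of_le (hWN.trans hN0)
    exact Subgroup.eq_of_le_of_card_ge (im_le_iff.2 fun w hw => hlW w hw)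
      (hlD.restrict le_sup_right).card_im.ge
  have hBS : centralizerIn (normalizerIn S U) N.core ≤ S := inf_le_left.trans hN0
  haveI := finite_of_le hBS
  refine (ConComp.constrained_iff_core hSN hNs).2 ?_
  by_contra hnc
  have hDnc : ¬ D.IsConstrained p := fun h => hnc fun y hy => ConComp.inf_cent_le hSN hD.1 h ⟨hy, hy⟩
  obtain ⟨V, L, hL⟩ := ConComp.exists_component (centralizerIn (normalizerIn S U) N.core) D
    (hS.to_le hBS) hD.1.1 hDnc
  obtain ⟨hext, hV⟩ := component_centExt (hS.to_le hBS) hD.1.1 hL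
  have hVS : V ≤ S := (hV.trans inf_le_left).trans hBS
  haveI := finite_of_le hVS
  have hWcore : W ≤ D.core := le_sSup (α := Subgroup Ω) hWn
  have hbot : L.hyperfocalSubgroup p = ⊥ := by
    refine eq_bot_iff.2 ((Subgroup.closure_le _).2 ?_)
    rintro _ ⟨P, α, x, hP, hα, rfl⟩
    haveI := mulAut_finite_of_le hP
    suffices hb : pResidual p ↥(L.autGroup P) = ⊥ by
      rw [hb, Subgroup.mem_bot] at hα
      subst hα
      show (x : Ω)⁻¹ * x ∈ (⊥ : Subgroup Ω)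
      rw [inv_mul_cancel]; exact Subgroup.one_mem _
    rw [pResidual]
    refine eq_bot_iff.2 ((Subgroup.closure_le _).2 fun δ hδ => Subgroup.mem_bot.2 (Subtype.ext ?_))
    have hδord : (orderOf (δ : MulAut P)).Coprime p := (Subgroup.orderOf_coe δ).symm ▸ hδ
    obtain ⟨g₀, hg₀, hg₀δ, hg₀Q⟩ := hext P _ (map_of_mem_autGroup hP δ.2)
    have hD₁ := hg₀.restrict (sup_le le_sup_left (hWcore.trans le_sup_right) : P ⊔ W ≤ P ⊔ D.core)
    obtain ⟨hPW, -, g, hg, hgg₀, hgR⟩ := hDext _ _ hD₁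
    obtain ⟨A, hAdef⟩ : ∃ A, A = P ⊔ W ⊔ R := ⟨_, rfl⟩
    rw [← hAdef] at hg
    have hPA : P ≤ A := hAdef ▸ le_sup_left.trans le_sup_left
    have hRA : R ≤ A := hAdef ▸ le_sup_right
    have hWA : W ≤ A := hAdef ▸ le_sup_right.trans le_sup_left
    have hgP : ∀ y ∈ P, g y = av (δ : MulAut P) y := fun y hy =>
      (hgg₀ y (Subgroup.mem_sup_left hy)).trans (hg₀δ y hy)
    have hgW : ∀ w ∈ W, g w = w := fun w hw =>
      (hgg₀ w (Subgroup.mem_sup_right hw)).trans (hg₀Q w (hWcore hw))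
    haveI : Finite A := finite_of_le (hg.le.trans hN0)
    have hgi : im A g = A := by
      refine Subgroup.eq_of_le_of_card_ge (im_le_iff.2 ?_) hg.card_im.ge
      refine fun y hy => ((?_ : A ≤ comapIn hg A) hy).2
      conv_lhs => rw [hAdef]
      exact sup_le (sup_le (fun y hy => ⟨hPA hy, hgP y hy ▸ hPA (av_mem _ hy)⟩)
        fun y hy => ⟨hWA hy, (hgW y hy).symm ▸ hWA hy⟩) fun y hy => ⟨hRA hy, (hgR y hy).symm ▸ hRA hy⟩
    obtain ⟨α', hα', hα'g⟩ := exists_aut hg hgi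
    have hα'n : α' ^ orderOf (δ : MulAut P) = 1 := by
      refine aut_ext fun y hy => ?_
      rw [av_one hy]
      refine ((?_ : A ≤ fixIn (α' ^ orderOf (δ : MulAut P))) hy).2
      conv_lhs => rw [hAdef]
      refine sup_le (sup_le (fun y hy => ⟨hPA hy, ?_⟩)
        fun y hy => ⟨hWA hy, av_pow_fixed α' ⟨hWA hy, by rw [hα'g y (hWA hy), hgW y hy]⟩ _⟩)
        fun y hy => ⟨hRA hy, av_pow_fixed α' ⟨hRA hy, by rw [hα'g y (hRA hy), hgR y hy]⟩ _⟩
      rw [av_pow hPA (fun z hz => (hα'g z (hPA hz)).trans (hgP z hz)) _ y hy, pow_orderOf_eq_one, av_one hy]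
    have hAN := hg.le
    have hψA := hψ.restrict hAN
    obtain ⟨e, he⟩ := exists_equiv hψA rfl
    have hM := hconj A g hg hRA hgR
    have hcongr : MulAut.congr e α' ∈ C'.autGroup (im A ψ₀) := by
      refine mem_autGroup_of_map (hM.congr fun z hz => ?_)
      obtain ⟨y, hy, rfl⟩ := hψA.mem_im.1 hz
      rw [av_congr_apply he α' hy, hα'g y hy]
      show ψ₀ (g (k (ψ₀ y))) = _
      rw [hkψ y (hAN hy)]
    have hfix : ∀ y ∈ A, g y = y → av (MulAut.congr e α') (ψ₀ y) = ψ₀ y := fun y hy h => by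
      rw [av_congr_apply he α' hy, hα'g y hy, h]
    have h1 : MulAut.congr e α' = 1 := by
      refine aut_eq_one (hS.to_le hX'C) hC' hM.le (im_mono hRA) hcongr
        (Nat.Coprime.coprime_dvd_left ?_ hδord) (fun z hz => ?_) fun z hz hzR => ?_
      · rw [MulEquiv.orderOf_eq]
        exact orderOf_dvd_of_pow_eq_one hα'n
      · obtain ⟨y, hy, rfl⟩ := (hψ.restrict hRN).mem_im.1 hz
        exact hfix y (hRA hy) (hgR y hy)
      · obtain ⟨v, hv, rfl⟩ := hcent z ((core_normal (hS.to_le hX'C) hC'.1 (F := C')).1 hz).1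
          fun r hr => hzR _ (mem_im_of_mem hr)
        have hvW : v ∈ W := hWdef.ge ⟨hv, hv.1, hz⟩
        exact ⟨mem_im_of_mem (hWA hvW), hfix v (hWA hvW) (hgW v hvW)⟩
    have hα'1 : α' = 1 := (MulAut.congr e).injective (h1.trans (map_one _).symm)
    refine aut_ext fun y hy => ?_
    rw [← hgP y hy, ← hα'g y (hPA hy), hα'1, av_one (hPA hy)]
    exact (av_one hy).symm
  exact ConComp.not_le_center hL.2 ((hL.2.2.1.symm.trans hbot).le.trans bot_le)

/-- A saturated system is of characteristic `p`-type or of component type. -/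
theorem dichotomy (hS : IsPGroup p S) (hF : F.IsSaturated p) :
    F.IsOfCharacteristicPType p ∨ F.IsOfComponentType p := by
  refine or_iff_not_imp_right.2 fun hno U hU0 hU N hN => normalizer_constrained hS hF (fun X hX hXn => ?_) hU0 hU hN
  have hXc := (fc_fa_of_fn hS hF hXn).1
  have hCs := centSys_saturated hS hF hXc
  by_contra hc
  exact hno ⟨X, hX, hXn, centSys F hXn.1, fun _ => rfl,
    ConComp.exists_component _ _ (hS.to_le inf_le_left) hCs hc⟩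

end Cfsg.Agent.Local.FS.CharType
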