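import Cfsg.Agent.Lib.Local.FS.ClassOnT
import Cfsg.Agent.Lib.Local.FS.CentricCriterion

/-!
Extension of a class of maps from the centric subgroups meeting `T` centrically to all centric
subgroups: the others are not radical, so their automorphisms extend.
-/

set_option autoImplicit false

namespace Cfsg.Agent.Local.FS

open Cfsg Cfsg.FusionSystem Cfsg.Agent.Fusion

variable {Ω : Type*} [Group Ω] {S T : Subgroup Ω} [Finite S] {F : FusionSystem S} {E : FusionSystem T}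
  {P Q R X : Subgroup Ω} {f g : Ω → Ω} {p : ℕ} [Fact p.Prime] {Δ : Type*} [Group Δ] [Finite Δ]

/-- Centric subgroups that are basic or of order at least `n`. -/
def LevelFam (F : FusionSystem S) (E : FusionSystem T) (n : ℕ) (P : Subgroup Ω) : Prop :=
  F.IsCentric P ∧ (E.IsCentric (P ⊓ T) ∨ n ≤ Nat.card P)

omit [Fact p.Prime] in
theorem levelFam_mono {n : ℕ} (hP : LevelFam F E n P) (hPQ : P ≤ Q) (hQ : Q ≤ S) : LevelFam F E n Q := by
  refine ⟨centric_mono hP.1 hPQ hQ, hP.2.imp (fun h => (baseFam_mono ⟨hP.1, h⟩ hPQ hQ).2) fun h => ?_⟩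
  haveI := finite_of_le hQ
  exact h.trans (Subgroup.card_le_of_le hPQ)

omit [Fact p.Prime] in
theorem levelFam_conj (hE : E.IsInvariantIn F) {n : ℕ} (hP : LevelFam F E n P) (hf : Map F P f) :
    LevelFam F E n (im P f) :=
  ⟨centric_conj hP.1 hf, hP.2.imp (fun h => (baseFam_conj hE ⟨hP.1, h⟩ hf).2) fun h => h.trans hf.card_im.ge⟩

/-- Centric subgroups of order `n` outside the basic family. -/
def NewFam (F : FusionSystem S) (E : FusionSystem T) (n : ℕ) (P : Subgroup Ω) : Prop :=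
  F.IsCentric P ∧ ¬ E.IsCentric (P ⊓ T) ∧ Nat.card P = n

omit [Fact p.Prime] in
theorem newFam_conj (hE : E.IsInvariantIn F) {n : ℕ} (hP : NewFam F E n P) (hf : Map F P f) :
    NewFam F E n (im P f) := by
  refine ⟨centric_conj hP.1 hf, fun h => hP.2.1 ?_, hf.card_im.trans hP.2.2⟩
  obtain ⟨k, hk, -, -, hki⟩ := hf.exists_inv
  exact hki ▸ (baseFam_conj hE ⟨centric_conj hP.1 hf, h⟩ hk).2

omit [Fact p.Prime] in
theorem levelFam_split {n : ℕ} (hP : LevelFam F E n P) :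
    LevelFam F E (n + 1) P ∨ NewFam F E n P := by
  obtain ⟨hc, h⟩ := hP
  by_cases hb : E.IsCentric (P ⊓ T)
  · exact Or.inl ⟨hc, Or.inl hb⟩
  rcases h with h | h
  · exact absurd h hb
  rcases h.eq_or_lt with he | hl
  · exact Or.inr ⟨hc, hb, he.symm⟩
  · exact Or.inl ⟨hc, Or.inr hl⟩

omit [Fact p.Prime] in
theorem levelFam_of_lt {n : ℕ} (hX : NewFam F E n X) (hXR : X < R) (hR : R ≤ S) :
    LevelFam F E (n + 1) R :=
  ⟨centric_mono hX.1 hXR.le hR, Or.inr (hX.2.2 ▸ card_lt_of_lt hXR hR)⟩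

variable {n : ℕ} {c : Subgroup Ω → (Ω → Ω) → Δ}

/-- Maps agreeing on a centric subgroup have the same class above it. -/
theorem cls_eq_of_agree (hS : IsPGroup p S) (hΔ : (Nat.card Δ).Coprime p)
    (hc : IsCls F (LevelFam F E (n + 1)) c) (hX : NewFam F E n X) (hXR : X < R) (hf : Map F R f)
    (hg : Map F R g) (h : ∀ x ∈ X, f x = g x) : c R f = c R g := by
  obtain ⟨R', hR'⟩ : ∃ R', R' = R ⊓ Subgroup.normalizer (X : Set Ω) := ⟨_, rfl⟩
  have hXR' : X < R' := hR' ▸ lt_inf_normalizer hS hXR hf.le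
  have hR'R : R' ≤ R := hR' ▸ inf_le_left
  have hn : R' ≤ Subgroup.normalizer (X : Set Ω) := hR' ▸ inf_le_right
  have hfam := levelFam_of_lt hX hXR' (hR'R.trans hf.le)
  rw [← hc.restrict hfam hf hR'R, ← hc.restrict hfam hg hR'R]
  have hf' := hf.restrict hR'R
  have hg' := hg.restrict hR'R
  obtain ⟨δ, hδ, hk, hδe⟩ := exists_stab_aut hS hf' hg' hXR'.le h fun r hr =>
    centric_mem hX.1 hf' hXR'.le (S.mul_mem (S.inv_mem (hf'.mem hr)) (hg'.mem hr)) fun y hy =>
      agree_centralizes hf' hg' hXR'.le hn h hr (f y) (mem_im_of_mem hy)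
  have hδm := map_of_mem_autGroup hf'.le hδ
  rw [hc.congr hfam hg' (g := f ∘ av δ) hδe, hc.comp hfam hδm hf' fun r hr => av_mem δ hr,
    hc.p_elt hΔ hfam hf'.le hδ hk, mul_one]

omit [Finite Δ] in
/-- `O_p(Aut_F(Q))` is induced from `S` when `Q` is fully normalised. -/
theorem coreAut_le_autS (hS : IsPGroup p S) (hF : F.IsSaturated p) (hQ : F.IsFullyNormalized Q) :
    coreAut F p Q ≤ autInducedBy S Q := by
  haveI := mulAut_finite_of_le hQ.1
  have hsyl := (fa_iff.1 (fc_fa_of_fn hS hF hQ).2).2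
  have hn : autInducedBy S Q ≤ Subgroup.normalizer (coreAut F p Q : Set (MulAut Q)) := fun a ha =>
    Subgroup.mem_normalizer_iff.2 fun b => ⟨coreAut_conj (hsyl.le ha), fun hb => by
      simpa [mul_assoc] using coreAut_conj (inv_mem (hsyl.le ha)) hb⟩
  exact le_sup_right.trans (hsyl.eq_of_le (IsPGroup.to_sup_of_normal_right' hsyl.isPGroup isPGroup_coreAut hn)
    le_sup_left (sup_le hsyl.le coreAut_le)).le

omit [Finite Δ] in
/-- The automorphisms of a fully normalised `Q` extend to the subgroup inducing the core. -/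
theorem tk_le_Nf (hS : IsPGroup p S) (hF : F.IsSaturated p) (hQ : F.IsFullyNormalized Q) {a : Ω → Ω}
    (ha : Map F Q a) (hi : im Q a = Q) : Tk F p Q ≤ Nf S Q a := by
  intro s hs
  obtain ⟨hsN, β, hβ, h⟩ := mem_Tk.1 hs
  obtain ⟨α, hα, hαa⟩ := exists_aut ha hi
  obtain ⟨h', hh', he⟩ := mem_autInducedBy.1 (coreAut_le_autS hS hF hQ (coreAut_conj hα hβ))
  refine ⟨hsN.1, hsN.2, h', hh', fun x hx => ?_⟩
  have h1 := he _ (av_mem α hx)
  rw [av_mul _ _ (av_mem α hx), av_inv_av α hx, av_mul _ _ hx, h x hx, hαa x hx,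
    hαa _ (conj_mem_of_normalizer hsN.2 hx)] at h1
  exact h1

omit [Finite Δ] in
/-- A fully normalised centric subgroup outside the basic family is smaller than its `Tk`. -/
theorem lt_tk (hS : IsPGroup p S) (hF : F.IsSaturated p) (hE : E.IsInvariantIn F)
    (hX : NewFam F E n Q) (hQ : F.IsFullyNormalized Q) : Q < Tk F p Q := by
  have hnr := (not_radical_of_inter_not_centric hS hF hE.2.1 hE.1 hX.1 hX.2.1).2
  refine lt_of_le_of_ne (le_Tk hS hQ.1) fun he => hnr ⟨hQ.1, ?_⟩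
  refine le_antisymm (fun β hβ => ?_) (inn_le_coreAut hS hQ.1)
  obtain ⟨s, hs, hsβ⟩ := mem_autInducedBy.1 (coreAut_le_autS hS hF hQ hβ)
  have hsn := mem_normalizer_of_conj_aut hsβ
  exact mem_Inn.2 ⟨s, he.ge (mem_Tk.2 ⟨⟨hs, hsn⟩, β, hβ, hsβ⟩), hsβ⟩

/-- The chosen fully normalised conjugate. -/
noncomputable def rep (F : FusionSystem S) (P : Subgroup Ω) : Subgroup Ω :=
  Classical.epsilon fun Q => F.IsConj P Q ∧ F.IsFullyNormalized Q

/-- The chosen map from the normaliser to that of the representative. -/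
noncomputable def toRep (F : FusionSystem S) (P : Subgroup Ω) : Ω → Ω :=
  Classical.epsilon fun u => Map F (normalizerIn S P) u ∧
    (∀ x ∈ normalizerIn S P, u x ∈ normalizerIn S (rep F P)) ∧ im P u = rep F P

/-- An inverse of it on the representative. -/
noncomputable def ofRep (F : FusionSystem S) (P : Subgroup Ω) : Ω → Ω :=
  Classical.epsilon fun v => Map F (rep F P) v ∧
    (∀ x ∈ P, v (toRep F P x) = x) ∧ ∀ y ∈ rep F P, v y ∈ P ∧ toRep F P (v y) = y

/-- An extension of `a` to `Tk`. -/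
noncomputable def extTk (F : FusionSystem S) (p : ℕ) (Q : Subgroup Ω) (a : Ω → Ω) : Ω → Ω :=
  Classical.epsilon fun g => Map F (Tk F p Q) g ∧ ∀ x ∈ Q, g x = a x

omit [Fact p.Prime] [Finite Δ] in
theorem rep_spec (hP : P ≤ S) : F.IsConj P (rep F P) ∧ F.IsFullyNormalized (rep F P) :=
  Classical.epsilon_spec (exists_fullyNormalized hP)

omit [Fact p.Prime] [Finite Δ] in
theorem rep_im (hf : Map F P f) : rep F (im P f) = rep F P := by
  have h : F.IsConj P (im P f) := isConj_iff.2 ⟨f, hf, rfl⟩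
  have : (fun Q => F.IsConj (im P f) Q ∧ F.IsFullyNormalized Q) =
      fun Q => F.IsConj P Q ∧ F.IsFullyNormalized Q := funext fun Q => propext
    ⟨fun hQ => ⟨isConj_trans h hQ.1, hQ.2⟩, fun hQ => ⟨isConj_trans (isConj_symm h) hQ.1, hQ.2⟩⟩
  exact congrArg Classical.epsilon this

omit [Finite Δ] in
theorem toRep_spec (hS : IsPGroup p S) (hF : F.IsSaturated p) (hP : P ≤ S) :
    Map F (normalizerIn S P) (toRep F P) ∧
      (∀ x ∈ normalizerIn S P, toRep F P x ∈ normalizerIn S (rep F P)) ∧ im P (toRep F P) = rep F P :=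
  Classical.epsilon_spec (exists_map_normalizer_fn hS hF (rep_spec hP).2 (rep_spec hP).1)

omit [Finite Δ] in
theorem ofRep_spec (hS : IsPGroup p S) (hF : F.IsSaturated p) (hP : P ≤ S) :
    Map F (rep F P) (ofRep F P) ∧
      (∀ x ∈ P, ofRep F P (toRep F P x) = x) ∧
        ∀ y ∈ rep F P, ofRep F P y ∈ P ∧ toRep F P (ofRep F P y) = y := by
  obtain ⟨hu, -, hi⟩ := toRep_spec hS hF hP
  obtain ⟨v, hv, hvu, huv, -⟩ := (hu.restrict (le_normalizerIn hP)).exists_inv
  rw [hi] at hv huv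
  exact Classical.epsilon_spec
    (p := fun v => Map F (rep F P) v ∧ (∀ x ∈ P, v (toRep F P x) = x) ∧
      ∀ y ∈ rep F P, v y ∈ P ∧ toRep F P (v y) = y) ⟨v, hv, hvu, fun y hy => ⟨(huv y hy).2, (huv y hy).1⟩⟩

omit [Finite Δ] in
theorem extTk_spec (hS : IsPGroup p S) (hF : F.IsSaturated p) (hQ : F.IsFullyNormalized Q) {a : Ω → Ω}
    (ha : Map F Q a) (hi : im Q a = Q) :
    Map F (Tk F p Q) (extTk F p Q a) ∧ ∀ x ∈ Q, extTk F p Q a x = a x := by
  obtain ⟨g, hg, hga⟩ := (receptive_iff.1 (receptive_of_fc hS hF (fc_fa_of_fn hS hF hQ).1)).2 Q a ha hi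
  exact Classical.epsilon_spec (p := fun g => Map F (Tk F p Q) g ∧ ∀ x ∈ Q, g x = a x)
    ⟨g, hg.restrict (tk_le_Nf hS hF hQ ha hi), hga⟩

/-- The map on the representative attached to `f`. -/
noncomputable def repMap (F : FusionSystem S) (P : Subgroup Ω) (f : Ω → Ω) : Ω → Ω :=
  toRep F (im P f) ∘ f ∘ ofRep F P

/-- The class one level down. -/
noncomputable def stepCls (F : FusionSystem S) (p : ℕ) (c : Subgroup Ω → (Ω → Ω) → Δ) (P : Subgroup Ω)
    (f : Ω → Ω) : Δ :=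
  (c (normalizerIn S (im P f)) (toRep F (im P f)))⁻¹ * c (Tk F p (rep F P)) (extTk F p (rep F P) (repMap F P f)) *
    c (normalizerIn S P) (toRep F P)

omit [Finite Δ] in
theorem repMap_spec (hS : IsPGroup p S) (hF : F.IsSaturated p) (hf : Map F P f) :
    Map F (rep F P) (repMap F P f) ∧ im (rep F P) (repMap F P f) = rep F P ∧
      ∀ x ∈ P, repMap F P f (toRep F P x) = toRep F (im P f) (f x) := by
  obtain ⟨hv, hvu, huv⟩ := ofRep_spec hS hF hf.le
  obtain ⟨hu, -, hi⟩ := toRep_spec hS hF hf.im_le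
  have hm : Map F (rep F P) (repMap F P f) :=
    (hv.comp hf fun y hy => (huv y hy).1).comp (hu.restrict (le_normalizerIn hf.im_le))
      fun y hy => mem_im_of_mem (huv y hy).1
  refine ⟨hm, ?_, fun x hx => congrArg (toRep F (im P f) ∘ f) (hvu x hx)⟩
  haveI := finite_of_le (rep_spec (F := F) hf.le).2.1
  refine Subgroup.eq_of_le_of_card_ge (im_le_iff.2 fun y hy => ?_) hm.card_im.ge
  have h1 : toRep F (im P f) (f (ofRep F P y)) ∈ rep F (im P f) :=
    hi.le (mem_im_of_mem (mem_im_of_mem (huv y hy).1))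
  rwa [rep_im hf] at h1

section Step

variable (hS : IsPGroup p S) (hF : F.IsSaturated p) (hE : E.IsInvariantIn F) (hΔ : (Nat.card Δ).Coprime p)
  (hc : IsCls F (LevelFam F E (n + 1)) c)
include hS hF hE hΔ hc

theorem extTk_congr (hQn : F.IsFullyNormalized Q) (hX : NewFam F E n Q) {a b : Ω → Ω} (ha : Map F Q a)
    (hi : im Q a = Q) (he : ∀ x ∈ Q, a x = b x) :
    c (Tk F p Q) (extTk F p Q a) = c (Tk F p Q) (extTk F p Q b) := by
  obtain ⟨h1, h2⟩ := extTk_spec hS hF hQn ha hi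
  obtain ⟨h3, h4⟩ := extTk_spec hS hF hQn (ha.congr he) ((im_congr he).symm.trans hi)
  exact cls_eq_of_agree hS hΔ hc hX (lt_tk hS hF hE hX hQn) h1 h3 fun x hx => by rw [h2 x hx, h4 x hx, he x hx]

theorem extTk_mul (hQn : F.IsFullyNormalized Q) (hX : NewFam F E n Q) {a b : Ω → Ω} (ha : Map F Q a)
    (hai : im Q a = Q) (hb : Map F Q b) (hbi : im Q b = Q) :
    c (Tk F p Q) (extTk F p Q (a ∘ b)) = c (Tk F p Q) (extTk F p Q a) * c (Tk F p Q) (extTk F p Q b) := by
  have hlt := lt_tk hS hF hE hX hQn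
  obtain ⟨hA, hAe⟩ := extTk_spec hS hF hQn ha hai
  obtain ⟨hB, hBe⟩ := extTk_spec hS hF hQn hb hbi
  have hbm : ∀ x ∈ Q, b x ∈ Q := fun x hx => hbi.le (mem_im_of_mem hx)
  have hab : Map F Q (a ∘ b) := hb.comp ha hbm
  have habi : im Q (a ∘ b) = Q := by rw [hb.im_comp, hbi, hai]
  obtain ⟨hC, hCe⟩ := extTk_spec hS hF hQn hab habi
  have hBT : im (Tk F p Q) (extTk F p Q b) = Tk F p Q :=
    im_Tk_eq hQn.1 (le_Tk hS hQn.1) hB ((im_congr hBe).trans hbi)
  have hBm : ∀ x ∈ Tk F p Q, extTk F p Q b x ∈ Tk F p Q := fun x hx => hBT.le (mem_im_of_mem hx)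
  have hT := levelFam_of_lt hX hlt (Tk_le.trans inf_le_left)
  rw [cls_eq_of_agree hS hΔ hc hX hlt hC (hB.comp hA hBm) fun x hx => by
    rw [Function.comp_apply, hCe x hx, hBe x hx, hAe _ (hbm x hx)]; rfl]
  exact hc.comp hT hB hA hBm

theorem stepCls_congr (hP : NewFam F E n P) (hf : Map F P f) (he : ∀ x ∈ P, f x = g x) :
    stepCls F p c P f = stepCls F p c P g := by
  obtain ⟨hr, hfn⟩ := rep_spec (F := F) hP.1.1
  obtain ⟨u, hu, hui⟩ := isConj_iff.1 hr
  obtain ⟨-, -, huv⟩ := ofRep_spec hS hF hP.1.1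
  obtain ⟨h1, h2, -⟩ := repMap_spec hS hF hf
  unfold stepCls
  rw [extTk_congr hS hF hE hΔ hc hfn (hui ▸ newFam_conj hE hP hu) h1 h2 (b := repMap F P g) fun y hy => by
    show toRep F (im P f) (f (ofRep F P y)) = toRep F (im P g) (g (ofRep F P y))
    rw [im_congr he, he _ (huv y hy).1], im_congr he]

theorem stepCls_mul (hP : NewFam F E n P) (hf : Map F P f) (hg : Map F (im P f) g) :
    stepCls F p c P (g ∘ f) = stepCls F p c (im P f) g * stepCls F p c P f := by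
  obtain ⟨hr, hfn⟩ := rep_spec (F := F) hP.1.1
  obtain ⟨u, hu, hui⟩ := isConj_iff.1 hr
  obtain ⟨ha, hai, -⟩ := repMap_spec hS hF hg
  obtain ⟨hb, hbi, -⟩ := repMap_spec hS hF hf
  rw [rep_im hf] at ha hai
  obtain ⟨-, hvu, -⟩ := ofRep_spec hS hF hf.im_le
  obtain ⟨-, -, huv⟩ := ofRep_spec hS hF hP.1.1
  have hQ : NewFam F E n (rep F P) := hui ▸ newFam_conj hE hP hu
  have hbm : ∀ x ∈ rep F P, repMap F P f x ∈ rep F P := fun x hx => hbi.le (mem_im_of_mem hx)
  have hagree : ∀ y ∈ rep F P, (repMap F (im P f) g ∘ repMap F P f) y = repMap F P (g ∘ f) y := by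
    intro y hy
    show toRep F (im (im P f) g) (g (ofRep F (im P f) (toRep F (im P f) (f (ofRep F P y))))) =
      toRep F (im P (g ∘ f)) (g (f (ofRep F P y)))
    rw [hvu _ (mem_im_of_mem (huv y hy).1), hf.im_comp]
  have hk := extTk_congr hS hF hE hΔ hc hfn hQ (hb.comp ha hbm)
    (by rw [hb.im_comp, hbi, hai]) hagree
  rw [extTk_mul hS hF hE hΔ hc hfn hQ ha hai hb hbi] at hk
  unfold stepCls
  rw [← hk, rep_im hf, hf.im_comp]
  group

theorem stepCls_eq_of_lt (hP : NewFam F E n P) (hg : Map F R g) (hPR : P < R) :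
    c R g = stepCls F p c P g := by
  obtain ⟨R', hR'⟩ : ∃ R', R' = R ⊓ Subgroup.normalizer (P : Set Ω) := ⟨_, rfl⟩
  have hPR' : P < R' := hR' ▸ lt_inf_normalizer hS hPR hg.le
  have hR'R : R' ≤ R := hR' ▸ inf_le_left
  have hR'N : R' ≤ normalizerIn S P := hR' ▸ le_inf (inf_le_left.trans hg.le) inf_le_right
  have hfam := levelFam_of_lt hP hPR' (hR'R.trans hg.le)
  rw [← hc.restrict hfam hg hR'R]
  have hg' := hg.restrict hR'R
  have hgP := hg.restrict hPR.le
  obtain ⟨hr, hfn⟩ := rep_spec (F := F) hP.1.1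
  obtain ⟨v, hv, hvi⟩ := isConj_iff.1 hr
  have hQ : NewFam F E n (rep F P) := hvi ▸ newFam_conj hE hP hv
  obtain ⟨hu, -, hui⟩ := toRep_spec hS hF hP.1.1
  obtain ⟨hu', -, -⟩ := toRep_spec hS hF hgP.im_le
  have hgN : ∀ r ∈ R', g r ∈ normalizerIn S (im P g) :=
    fun r hr => hg'.mem_normalizer hPR'.le hr (hR'N hr).2
  obtain ⟨ha, hai, hae⟩ := repMap_spec hS hF hgP
  obtain ⟨G, hG, hGe⟩ := (receptive_iff.1 (receptive_of_fc hS hF (fc_fa_of_fn hS hF hfn).1)).2 _ _ ha hai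
  have huR := hu.restrict hR'N
  obtain ⟨k, hk, hku, huk, -⟩ := huR.exists_inv
  -- the map on the image of `R'`
  have hA : Map F (im R' (toRep F P)) (toRep F (im P g) ∘ g ∘ k) :=
    (hk.comp hg' fun y hy => (huk y hy).2).comp hu' fun y hy => hgN _ (huk y hy).2
  have hQA : rep F P < im R' (toRep F P) := by
    refine lt_of_le_of_ne (hui ▸ im_mono hPR'.le) fun he => ?_
    have h1 := card_lt_of_lt hPR' (hR'R.trans hg.le)
    rw [← huR.card_im, ← he, ← isConj_card hr] at h1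
    exact lt_irrefl _ h1
  have hAQ : ∀ x ∈ rep F P, (toRep F (im P g) ∘ g ∘ k) x = repMap F P g x := by
    intro y hy
    obtain ⟨x, hx, rfl⟩ := (hu.restrict (le_normalizerIn hP.1.1)).mem_im.1 (hui.ge hy)
    rw [hae x hx]
    show toRep F (im P g) (g (k (toRep F P x))) = _
    rw [hku x (hPR'.le hx)]
  have hAle : im R' (toRep F P) ≤ Nf S (rep F P) (repMap F P g) := by
    intro y hy
    have hyn : y ∈ Subgroup.normalizer (rep F P : Set Ω) := by
      obtain ⟨r, hr', rfl⟩ := huR.mem_im.1 hy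
      exact hui ▸ (hu.mem_normalizer (le_normalizerIn hP.1.1) (hR'N hr') (hR'N hr').2).2
    refine ⟨hA.le hy, hyn, _, hA.mem hy, fun x hx => ?_⟩
    rw [← hAQ x hx, ← hAQ _ (conj_mem_of_normalizer hyn hx)]
    exact hA.map_conj hy (hQA.le hx)
  obtain ⟨hX, hXe⟩ := extTk_spec hS hF hfn ha hai
  have hTk : Tk F p (rep F P) ≤ Nf S (rep F P) (repMap F P g) := tk_le_Nf hS hF hfn ha hai
  have hfamA := levelFam_of_lt hQ hQA hA.le
  have hfamT := levelFam_of_lt hQ (lt_tk hS hF hE hQ hfn) hX.le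
  have key : c (im R' (toRep F P)) (toRep F (im P g) ∘ g ∘ k) =
      c (Tk F p (rep F P)) (extTk F p (rep F P) (repMap F P g)) := by
    rw [cls_eq_of_agree hS hΔ hc hQ hQA hA (hG.restrict hAle) (fun x hx => by rw [hAQ x hx, hGe x hx]),
      cls_eq_of_agree hS hΔ hc hQ (lt_tk hS hF hE hQ hfn) hX (hG.restrict hTk)
        (fun x hx => by rw [hXe x hx, hGe x hx]),
      hc.restrict hfamA hG hAle, hc.restrict hfamT hG hTk]
  have h1 := hc.comp hfam huR hA fun x hx => mem_im_of_mem hx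
  have h2 := hc.comp hfam hg' hu' hgN
  have h3 : c R' ((toRep F (im P g) ∘ g ∘ k) ∘ toRep F P) = c R' (toRep F (im P g) ∘ g) :=
    hc.congr hfam (huR.comp hA fun x hx => mem_im_of_mem hx) fun x hx => by
      show toRep F (im P g) (g (k (toRep F P x))) = _
      rw [hku x hx]; rfl
  rw [h1, h2, key, hc.restrict hfam hu hR'N] at h3
  unfold stepCls
  rw [mul_assoc, h3]
  group

end Step

/-- The class on one more level. -/
theorem exists_step (hS : IsPGroup p S) (hF : F.IsSaturated p) (hE : E.IsInvariantIn F)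
    (hΔ : (Nat.card Δ).Coprime p) (hc : IsCls F (LevelFam F E (n + 1)) c) :
    ∃ c' : Subgroup Ω → (Ω → Ω) → Δ, IsCls F (LevelFam F E n) c' ∧
      ∀ P f, LevelFam F E (n + 1) P → c' P f = c P f := by
  classical
  let c' : Subgroup Ω → (Ω → Ω) → Δ := fun P f =>
    if LevelFam F E (n + 1) P then c P f else stepCls F p c P f
  have hbig : ∀ P f, LevelFam F E (n + 1) P → c' P f = c P f := fun P f h => if_pos h
  have hnew : ∀ P f, ¬ LevelFam F E (n + 1) P → c' P f = stepCls F p c P f := fun P f h => if_neg h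
  refine ⟨c', ⟨fun {P f g} hP hf he => ?_, fun {P Q f g} hP hf hg hm => ?_⟩, hbig⟩
  · by_cases h : LevelFam F E (n + 1) P
    · rw [hbig _ _ h, hbig _ _ h]; exact hc.congr h hf he
    · rw [hnew _ _ h, hnew _ _ h]
      exact stepCls_congr hS hF hE hΔ hc ((levelFam_split hP).resolve_left h) hf he
  by_cases h : LevelFam F E (n + 1) P
  · have hQ : LevelFam F E (n + 1) Q := levelFam_mono (levelFam_conj hE h hf) (im_le_iff.2 hm) hg.le
    rw [hbig _ _ h, hbig _ _ h, hbig _ _ hQ]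
    exact hc.comp h hf hg hm
  have hPn := (levelFam_split hP).resolve_left h
  have hYn := newFam_conj hE hPn hf
  have hY : ¬ LevelFam F E (n + 1) (im P f) := fun hh => by
    rcases hh.2 with hb | hb
    · exact hYn.2.1 hb
    · rw [hYn.2.2] at hb; omega
  rw [hnew _ _ h, hnew _ _ h]
  have hgY := hg.restrict (im_le_iff.2 hm)
  rw [stepCls_mul hS hF hE hΔ hc hPn hf hgY]
  congr 1
  rcases eq_or_lt_of_le (im_le_iff.2 hm : im P f ≤ Q) with he | hl
  · subst he
    exact (hnew _ _ hY).symm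
  · rw [hbig _ _ (levelFam_of_lt hYn hl hg.le)]
    exact (stepCls_eq_of_lt hS hF hE hΔ hc hYn hg hl).symm

/-- The class on all centric subgroups. -/
theorem exists_cls (hS : IsPGroup p S) (hE : E.IsWeaklyNormalIn F p) (χ : ↥(F.autGroup T) →* Δ)
    (hΔ : (Nat.card Δ).Coprime p) (hker : (E.autGroup T).subgroupOf (F.autGroup T) ≤ χ.ker) :
    ∃ c : Subgroup Ω → (Ω → Ω) → Δ, IsCls F (fun P => F.IsCentric P) c ∧
      ∀ P f, BaseFam F E P → Map F P f → BaseRel E χ P f (c P f) := by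
  have hF := hE.2.1
  suffices ∀ d, ∃ c : Subgroup Ω → (Ω → Ω) → Δ, IsCls F (LevelFam F E (Nat.card S + 1 - d)) c ∧
      ∀ P f, BaseFam F E P → Map F P f → BaseRel E χ P f (c P f) by
    obtain ⟨c, hc, hb⟩ := this (Nat.card S + 1)
    rw [Nat.sub_self] at hc
    exact ⟨c, ⟨fun hP => hc.congr ⟨hP, Or.inr (Nat.zero_le _)⟩, fun hP => hc.comp ⟨hP, Or.inr (Nat.zero_le _)⟩⟩, hb⟩
  intro d
  induction d with
  | zero =>
    obtain ⟨c, hc, hb⟩ := exists_baseCls hS hE χ hΔ hker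
    have hsub : ∀ P, LevelFam F E (Nat.card S + 1 - 0) P → BaseFam F E P := fun P hP =>
      ⟨hP.1, hP.2.resolve_right fun h => by
        have := Subgroup.card_le_of_le hP.1.1; omega⟩
    exact ⟨c, ⟨fun hP => hc.congr (hsub _ hP), fun hP => hc.comp (hsub _ hP)⟩, hb⟩
  | succ d ih =>
    obtain ⟨c, hc, hb⟩ := ih
    by_cases hd : Nat.card S + 1 - d = 0
    · rw [show Nat.card S + 1 - (d + 1) = Nat.card S + 1 - d by omega]
      exact ⟨c, hc, hb⟩
    · rw [show Nat.card S + 1 - d = (Nat.card S + 1 - (d + 1)) + 1 by omega] at hc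
      obtain ⟨c', hc', heq⟩ := exists_step hS hF hE.2.2 hΔ hc
      exact ⟨c', hc', fun P f hP hf => by rw [heq P f ⟨hP.1, Or.inl hP.2⟩]; exact hb P f hP hf⟩

end Cfsg.Agent.Local.FS
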