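import Cfsg.Agent.Lib.Local.FS.PrimeResidualNormal
import Cfsg.Agent.Lib.Local.FS.NormalSubCentric

/-!
A character of `Aut_F(T)` killing `Aut_E(T)`, for a weakly normal subsystem `E` over `T`, gives a
multiplicative class of the maps of `F` on the subgroups meeting `T` centrically.
-/

set_option autoImplicit false

namespace Cfsg.Agent.Local.FS

open Cfsg Cfsg.FusionSystem Cfsg.Agent.Fusion

variable {Ω : Type*} [Group Ω] {S T : Subgroup Ω} {F : FusionSystem S} {E : FusionSystem T}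
  {P Q R X : Subgroup Ω} {f g : Ω → Ω} {p : ℕ} {Δ : Type*} [Group Δ]

/-- The character, as a total function. -/
noncomputable def chVal (χ : ↥(F.autGroup T) →* Δ) (β : MulAut T) : Δ :=
  open Classical in if h : β ∈ F.autGroup T then χ ⟨β, h⟩ else 1

theorem chVal_mem {χ : ↥(F.autGroup T) →* Δ} {β : MulAut T} (h : β ∈ F.autGroup T) :
    chVal χ β = χ ⟨β, h⟩ := dif_pos h

theorem chVal_mul {χ : ↥(F.autGroup T) →* Δ} {α β : MulAut T} (hα : α ∈ F.autGroup T) (hβ : β ∈ F.autGroup T) :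
    chVal χ (α * β) = chVal χ α * chVal χ β := by
  rw [chVal_mem hα, chVal_mem hβ, chVal_mem (mul_mem hα hβ), ← map_mul]; rfl

theorem chVal_inv {χ : ↥(F.autGroup T) →* Δ} {α : MulAut T} (hα : α ∈ F.autGroup T) :
    chVal χ α⁻¹ = (chVal χ α)⁻¹ := by
  rw [chVal_mem hα, chVal_mem (inv_mem hα), ← map_inv]; rfl

theorem eq_one_of_pow_prime_pow [Fact p.Prime] [Finite Δ] (hΔ : (Nat.card Δ).Coprime p) {d : Δ} {k : ℕ}
    (h : d ^ p ^ k = 1) : d = 1 := by
  have h1 : orderOf d ∣ p ^ k := orderOf_dvd_of_pow_eq_one h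
  have h2 : orderOf d ∣ Nat.card Δ := orderOf_dvd_natCard d
  exact orderOf_eq_one_iff.1 (Nat.eq_one_of_dvd_coprimes (hΔ.pow_right k) h2 h1)

variable [Finite S] [Fact p.Prime]

/-- Two maps agreeing on `X` and differing inside its image differ by a `p`-automorphism. -/
theorem exists_stab_aut (hS : IsPGroup p S) (hf : Map F R f) (hg : Map F R g) (hXR : X ≤ R)
    (h : ∀ x ∈ X, f x = g x) (hd : ∀ r ∈ R, (f r)⁻¹ * g r ∈ im X f) :
    ∃ δ ∈ F.autGroup R, (∃ k : ℕ, orderOf δ = p ^ k) ∧ ∀ r ∈ R, g r = f (av δ r) := by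
  haveI := finite_of_le hf.le
  haveI := mulAut_finite_of_le hf.le
  obtain ⟨k, hk, hkf, hfk, -⟩ := hf.exists_inv
  have hm : ∀ r ∈ R, g r ∈ im R f := fun r hr => by
    simpa using (im R f).mul_mem (mem_im_of_mem hr) (im_mono hXR (hd r hr))
  have hθ : Map F R (k ∘ g) := hg.comp hk hm
  obtain ⟨δ, hδ, hδe⟩ := exists_aut hθ (Subgroup.eq_of_le_of_card_ge
    (im_le_iff.2 fun r hr => (hfk _ (hm r hr)).2) hθ.card_im.ge)
  have hδX : ∀ x ∈ X, av δ x = x := fun x hx => by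
    rw [hδe x (hXR hx)]; show k (g x) = x; rw [← h x hx, hkf x (hXR hx)]
  have hδR : ∀ r ∈ R, r⁻¹ * av δ r ∈ X := fun r hr => by
    obtain ⟨u, hu, hu'⟩ := (hf.restrict hXR).mem_im.1 (hd r hr)
    have h1 : g r = f (r * u) := by rw [hf.map_mul hr (hXR hu), hu', mul_inv_cancel_left]
    rw [hδe r hr]
    show r⁻¹ * k (g r) ∈ X
    rw [h1, hkf _ (R.mul_mem hr (hXR hu))]
    simpa using hu
  obtain ⟨j, hj⟩ := exists_pow_eq_one_of_stabilizes (hS.to_le hf.le) (α := δ)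
    (fun i => if i = 0 then ⊥ else if i = 1 then X else R) 2 rfl (by simp)
    (monotone_nat_of_le_succ fun i => by rcases i with _ | _ | i <;> simp [hXR])
    (fun i hi x hx hxC => by
      rcases i with _ | _ | i
      · simp only [zero_add, one_ne_zero, if_false, if_true] at hxC ⊢
        rw [Subgroup.mem_bot, hδX x hxC, inv_mul_cancel]
      · simpa using hδR x hx
      · omega)
  obtain ⟨i, -, hi⟩ := (Nat.dvd_prime_pow Fact.out).1 (orderOf_dvd_of_pow_eq_one hj)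
  exact ⟨δ, hδ, ⟨i, hi⟩, fun r hr => by rw [hδe r hr]; exact (hfk _ (hm r hr)).1.symm⟩

/-- Agreement on `X` pushes the quotient of the values into the centraliser of the image. -/
theorem agree_centralizes (hf : Map F R f) (hg : Map F R g) (hXR : X ≤ R)
    (hn : R ≤ Subgroup.normalizer (X : Set Ω)) (h : ∀ x ∈ X, f x = g x) {r : Ω} (hr : r ∈ R) :
    ∀ y ∈ im X f, y * ((f r)⁻¹ * g r) = (f r)⁻¹ * g r * y := by
  intro y hy
  obtain ⟨x, hx, rfl⟩ := (hf.restrict hXR).mem_im.1 hy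
  have hc : r * x * r⁻¹ ∈ X := conj_mem_of_normalizer (hn hr) hx
  have h1 := h _ hc
  rw [hf.map_conj hr (hXR hx), hg.map_conj hr (hXR hx), ← h x hx] at h1
  calc f x * ((f r)⁻¹ * g r) = (f r)⁻¹ * (f r * f x * (f r)⁻¹) * g r := by group
    _ = (f r)⁻¹ * (g r * f x * (g r)⁻¹) * g r := by rw [h1]
    _ = _ := by group

variable [Finite Δ]

/-- An automorphism of `T` inducing a map of `E` on a centric subgroup is in the kernel. -/
theorem chVal_eq_one_of_map (hS : IsPGroup p S) (hE : E.IsWeaklyNormalIn F p) (χ : ↥(F.autGroup T) →* Δ)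
    (hΔ : (Nat.card Δ).Coprime p) (hker : (E.autGroup T).subgroupOf (F.autGroup T) ≤ χ.ker)
    (hR : E.IsCentric R) {θ : MulAut T} (hθ : θ ∈ F.autGroup T) (hm : Map E R (av θ)) :
    chVal χ θ = 1 := by
  obtain ⟨hEs, hF, hEi⟩ := id hE
  have hT := hEi.2.1
  haveI := finite_of_le hT.1
  haveI := mulAut_finite_of_le hT.1
  have hTp := hS.to_le hT.1
  suffices ∀ n, ∀ R : Subgroup Ω, Nat.card T - Nat.card R = n → E.IsCentric R → ∀ θ : MulAut T,
      θ ∈ F.autGroup T → Map E R (av θ) → chVal χ θ = 1 from this _ R rfl hR θ hθ hm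
  intro n
  induction n using Nat.strong_induction_on with
  | _ n ih =>
  intro R hn hR θ hθ hm
  rcases eq_or_lt_of_le hR.1 with rfl | hlt
  · rw [chVal_mem hθ]
    exact hker (Subgroup.mem_subgroupOf.2 (mem_autGroup_of_map hm))
  have hθm := map_of_mem_autGroup hT.1 hθ
  have hc : E.IsCentric (im R (av θ)) := centric_of_sub_map hEi hR (hm.of_sub hEi.1)
  obtain ⟨x', hx', hx'θ⟩ := (receptive_iff.1
    (receptive_of_fc hTp hEs (fc_of_centric hc))).2 R _ hm rfl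
  obtain ⟨R', hR'⟩ : ∃ R', R' = normalizerIn T R := ⟨_, rfl⟩
  have hRR' : R < R' := hR' ▸ lt_normalizerIn hTp hlt
  have hR'T : R' ≤ T := hR' ▸ inf_le_left
  have hR'n : R' ≤ Subgroup.normalizer (R : Set Ω) := hR' ▸ inf_le_right
  have hN : R' ≤ Nf T R (av θ) := fun w hw =>
    ⟨hR'T hw, hR'n hw, av θ w, av_mem θ (hR'T hw), fun q hq => hθm.map_conj (hR'T hw) (hR.1 hq)⟩
  have hx := hx'.restrict hN
  have hθR := hθm.restrict hR'T
  have hag : ∀ q ∈ R, av θ q = x' q := fun q hq => (hx'θ q hq).symm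
  obtain ⟨δ, hδ, ⟨k, hk⟩, hδe⟩ := exists_stab_aut hS hθR (hx.of_sub hEi.1) hRR'.le hag fun r hr =>
    hc.2 _ (isConj_refl hc.1) (mem_centralizerIn.2
      ⟨T.mul_mem (T.inv_mem (av_mem θ (hR'T hr))) (hx.mem hr),
        agree_centralizes hθR (hx.of_sub hEi.1) hRR'.le hR'n hag hr⟩)
  -- move `δ` into `Aut_S` of a fully normalised conjugate
  have hR'S : R' ≤ S := hR'T.trans hT.1
  obtain ⟨Q, hRQ, hQn⟩ := exists_fullyNormalized (F := F) hR'S
  obtain ⟨u, hu, hui⟩ := isConj_iff.1 hRQ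
  obtain ⟨e, he⟩ := exists_equiv hu hui
  haveI := mulAut_finite_of_le hQn.1
  haveI := mulAut_finite_of_le hR'S
  have hpa : IsPGroup p (Subgroup.zpowers (MulAut.congr e δ)) :=
    IsPGroup.of_card (n := k) (by
      rw [Nat.card_zpowers]
      exact (orderOf_injective (MulAut.congr e).toMonoidHom (MulAut.congr e).injective δ).trans hk)
  obtain ⟨c, hc', hle⟩ := (fa_iff.1 (fc_fa_of_fn hS hF hQn).2).2.conj_le hpa
    (Subgroup.zpowers_le.2 (congr_mem_autGroup hu hui he hδ))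
  obtain ⟨s, hs, hsc⟩ := mem_autInducedBy.1 (hle (conj_mem_cj (g := c) (Subgroup.mem_zpowers _)))
  have huQ : ∀ r ∈ R', u r ∈ Q := fun r hr => hui.le (mem_im_of_mem hr)
  have hG : Map F R' (av c ∘ u) := hu.comp (map_of_mem_autGroup hQn.1 hc') huQ
  have hGs : ∀ r ∈ R', av c (u (av δ r)) = s * av c (u r) * s⁻¹ := by
    intro r hr
    have h1 := hsc _ (av_mem c (huQ r hr))
    rw [av_mul _ _ (av_mem c (huQ r hr)), av_inv_av c (huQ r hr), av_mul _ _ (huQ r hr),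
      av_congr_apply he δ hr] at h1
    exact h1
  obtain ⟨β, hβ, g₀, hg₀, hgg⟩ := frattini_map hEi hR'T hG
  obtain ⟨γ, hγ, hγS⟩ := exists_aut_conj (P := T) (stronglyClosed_le_normalizer hT hs)
  have hγF : γ ∈ F.autGroup T := autInducedBy_le_autGroup hT.1 (hγS S hs)
  set κ := β⁻¹ * γ * β with hκdef
  have hκ : κ ∈ F.autGroup T := mul_mem (mul_mem (inv_mem hβ) hγF) hβ
  have hg0 : ∀ r ∈ R', g₀ (av δ r) = av κ (g₀ r) := by
    intro r hr
    have h0 := hg₀.mem hr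
    have h1 := hGs r hr
    have e1 := hgg (av δ r) (av_mem δ hr)
    have e2 := hgg r hr
    simp only [Function.comp_apply] at e1 e2
    rw [e1, e2, ← hγ _ (av_mem β h0)] at h1
    have h2 := congrArg (av β⁻¹) h1
    rw [av_inv_av β (hg₀.mem (av_mem δ hr))] at h2
    rw [h2, hκdef, av_mul _ _ h0, av_mul _ _ (av_mem β h0)]
  have hχκ : chVal χ κ = 1 := by
    have hp : ∃ j : ℕ, orderOf γ = p ^ j := by
      obtain ⟨j, hj⟩ := IsPGroup.iff_orderOf.1 (isPGroup_autS (P := T) hS) ⟨γ, hγS S hs⟩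
      exact ⟨j, by rw [← hj, ← Subgroup.orderOf_coe]⟩
    obtain ⟨j, hj⟩ := hp
    have hγ1 : chVal χ γ = 1 := by
      refine eq_one_of_pow_prime_pow (p := p) hΔ (k := j) ?_
      rw [chVal_mem hγF, ← map_pow, show (⟨γ, hγF⟩ : ↥(F.autGroup T)) ^ p ^ j = 1 from
        Subtype.ext (by rw [← hj]; exact pow_orderOf_eq_one γ), map_one]
    rw [hκdef, chVal_mul (mul_mem (inv_mem hβ) hγF) hβ, chVal_mul (inv_mem hβ) hγF, hγ1, mul_one,
      chVal_inv hβ, inv_mul_cancel]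
  -- `δ` is `κ` following a map of `E`
  obtain ⟨l, hl, hlg, hgl, -⟩ := hg₀.exists_inv
  obtain ⟨h, hh, hhe⟩ := inv_map hEi hl (inv_mem hκ)
  have hmem : ∀ r ∈ R', g₀ r ∈ im (im R' g₀) (av κ⁻¹) := fun r hr => by
    have h1 := mem_im_of_mem (f := av κ⁻¹) (mem_im_of_mem (f := g₀) (av_mem δ hr))
    rwa [hg0 r hr, av_inv_av κ (hg₀.mem hr)] at h1
  have he' : Map E R' (h ∘ g₀) := hg₀.comp hh hmem
  have hee : ∀ r ∈ R', (h ∘ g₀) r = av κ⁻¹ (av δ r) := by
    intro r hr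
    show h (g₀ r) = _
    have h1 := hhe _ (mem_im_of_mem (f := g₀) (av_mem δ hr))
    rwa [hlg _ (av_mem δ hr), hg0 r hr, av_inv_av κ (hg₀.mem hr)] at h1
  obtain ⟨m, hm', hme, hem, -⟩ := he'.exists_inv
  have hbig : Map E (im R' (h ∘ g₀)) (av (θ * κ)) := by
    refine (hm'.comp hx fun y hy => (hem y hy).2).congr fun y hy => ?_
    obtain ⟨r, hr, rfl⟩ := he'.mem_im.1 hy
    show x' (m ((h ∘ g₀) r)) = _
    rw [hme r hr, hδe r hr, hee r hr, av_mul _ _ (av_mem _ (hR'T (av_mem δ hr))),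
      av_av_inv κ (hR'T (av_mem δ hr))]
  have hR'c : E.IsCentric R' := centric_mono hR hRR'.le hR'T
  have hlt' : Nat.card T - Nat.card ↥(im R' (h ∘ g₀)) < n := by
    have h1 := card_lt_of_lt hRR' hR'T
    have h2 := Subgroup.card_le_of_le hR'T
    rw [he'.card_im]; omega
  have := ih _ hlt' _ rfl (centric_of_sub_map hEi hR'c (he'.of_sub hEi.1)) _ (mul_mem hθ hκ) hbig
  rwa [chVal_mul hθ hκ, hχκ, mul_one] at this

/-- A class of maps on a family of subgroups, multiplicative for composition. -/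
structure IsCls (F : FusionSystem S) (𝒳 : Subgroup Ω → Prop) (c : Subgroup Ω → (Ω → Ω) → Δ) : Prop where
  congr : ∀ {P : Subgroup Ω} {f g : Ω → Ω}, 𝒳 P → Map F P f → (∀ x ∈ P, f x = g x) → c P f = c P g
  comp : ∀ {P Q : Subgroup Ω} {f g : Ω → Ω}, 𝒳 P → Map F P f → Map F Q g → (∀ x ∈ P, f x ∈ Q) →
    c P (g ∘ f) = c Q g * c P f

variable {𝒳 : Subgroup Ω → Prop} {c : Subgroup Ω → (Ω → Ω) → Δ}

omit [Fact p.Prime] [Finite Δ] in
theorem IsCls.id_eq (h : IsCls F 𝒳 c) (hP : 𝒳 P) (hPS : P ≤ S) : c P id = 1 := by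
  have h1 := h.comp hP (map_id hPS) (map_id hPS) fun _ hx => hx
  rw [Function.id_comp] at h1
  exact right_eq_mul.1 h1

omit [Fact p.Prime] [Finite Δ] in
theorem IsCls.restrict (h : IsCls F 𝒳 c) (hP : 𝒳 P) (hg : Map F Q g) (hPQ : P ≤ Q) : c P g = c Q g := by
  have h1 := h.comp hP (map_id (hPQ.trans hg.le)) hg fun _ hx => hPQ hx
  rwa [Function.comp_id, h.id_eq hP (hPQ.trans hg.le), mul_one] at h1

theorem IsCls.p_elt (h : IsCls F 𝒳 c) (hΔ : (Nat.card Δ).Coprime p) (hP : 𝒳 P) (hPS : P ≤ S)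
    {δ : MulAut P} (hδ : δ ∈ F.autGroup P) (hk : ∃ k : ℕ, orderOf δ = p ^ k) : c P (av δ) = 1 := by
  have hpow : ∀ n : ℕ, c P (av (δ ^ n)) = c P (av δ) ^ n := by
    intro n
    induction n with
    | zero =>
      rw [pow_zero, pow_zero, h.congr hP (map_of_mem_autGroup hPS (one_mem _)) (g := id)
        fun x hx => av_one hx, h.id_eq hP hPS]
    | succ n ih =>
      have hn := map_of_mem_autGroup hPS (pow_mem hδ n)
      rw [pow_succ', pow_succ', ← ih, ← h.comp hP hn (map_of_mem_autGroup hPS hδ) fun x hx => av_mem _ hx]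
      exact h.congr hP (map_of_mem_autGroup hPS (mul_mem hδ (pow_mem hδ n))) fun x hx => av_mul _ _ hx
  obtain ⟨k, hk⟩ := hk
  refine eq_one_of_pow_prime_pow (p := p) hΔ (k := k) ?_
  rw [← hpow, ← hk, pow_orderOf_eq_one, h.congr hP (map_of_mem_autGroup hPS (one_mem _)) (g := id)
    fun x hx => av_one hx, h.id_eq hP hPS]

/-- The subgroups on which the class is first defined. -/
def BaseFam (F : FusionSystem S) (E : FusionSystem T) (P : Subgroup Ω) : Prop :=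
  F.IsCentric P ∧ E.IsCentric (P ⊓ T)

/-- The class attached to a decomposition of `f` on `P ⊓ T`. -/
def BaseRel (E : FusionSystem T) (χ : ↥(F.autGroup T) →* Δ) (P : Subgroup Ω) (f : Ω → Ω) (d : Δ) : Prop :=
  ∃ β ∈ F.autGroup T, ∃ g, Map E (P ⊓ T) g ∧ (∀ r ∈ P ⊓ T, f r = av β (g r)) ∧ d = chVal χ β

omit [Fact p.Prime] [Finite Δ] [Finite S] in
theorem baseFam_mono (hP : BaseFam F E P) (hPQ : P ≤ Q) (hQ : Q ≤ S) : BaseFam F E Q :=
  ⟨centric_mono hP.1 hPQ hQ, centric_mono hP.2 (inf_le_inf_right _ hPQ) inf_le_right⟩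

omit [Fact p.Prime] [Finite Δ] [Finite S] in
theorem centric_conj (hP : F.IsCentric P) (hf : Map F P f) : F.IsCentric (im P f) :=
  ⟨hf.im_le, fun Q hQ => hP.2 Q (isConj_trans (isConj_iff.2 ⟨f, hf, rfl⟩) hQ)⟩

omit [Fact p.Prime] [Finite Δ] in
theorem baseFam_conj (hE : E.IsInvariantIn F) (hP : BaseFam F E P) (hf : Map F P f) :
    BaseFam F E (im P f) := by
  have hf' : Map F (P ⊓ T) f := hf.restrict inf_le_left
  refine ⟨centric_conj hP.1 hf, centric_mono (centric_of_sub_map hE hP.2 hf') (le_inf (im_mono inf_le_left) ?_) inf_le_right⟩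
  exact im_le_iff.2 fun x hx => stronglyClosed_map hE.2.1 hf hx.1 hx.2

omit [Fact p.Prime] [Finite Δ] in
theorem baseRel_exists (hE : E.IsInvariantIn F) (χ : ↥(F.autGroup T) →* Δ) (hf : Map F P f) :
    ∃ d, BaseRel E χ P f d := by
  obtain ⟨β, hβ, g, hg, hgg⟩ := frattini_map hE inf_le_right (hf.restrict (inf_le_left : P ⊓ T ≤ P))
  exact ⟨_, β, hβ, g, hg, hgg, rfl⟩

theorem baseRel_unique (hS : IsPGroup p S) (hE : E.IsWeaklyNormalIn F p) {χ : ↥(F.autGroup T) →* Δ}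
    (hΔ : (Nat.card Δ).Coprime p) (hker : (E.autGroup T).subgroupOf (F.autGroup T) ≤ χ.ker)
    (hP : E.IsCentric (P ⊓ T)) {d d' : Δ} (h : BaseRel E χ P f d) (h' : BaseRel E χ P f d') : d = d' := by
  obtain ⟨β, hβ, g, hg, hgg, rfl⟩ := h
  obtain ⟨β', hβ', g', hg', hgg', rfl⟩ := h'
  haveI := finite_of_le hE.2.2.2.1.1
  obtain ⟨k, hk, hkg, hgk, -⟩ := hg.exists_inv
  have hm : Map E (im (P ⊓ T) g) (av (β'⁻¹ * β)) := by
    refine (hk.comp hg' fun y hy => (hgk y hy).2).congr fun y hy => ?_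
    obtain ⟨r, hr, rfl⟩ := hg.mem_im.1 hy
    show g' (k (g r)) = _
    rw [hkg r hr, av_mul _ _ (hg.mem hr), ← hgg r hr, hgg' r hr, av_inv_av β' (hg'.mem hr)]
  have h1 := chVal_eq_one_of_map hS hE χ hΔ hker
    (centric_of_sub_map hE.2.2 hP (hg.of_sub hE.2.2.1)) (mul_mem (inv_mem hβ') hβ) hm
  rw [chVal_mul (inv_mem hβ') hβ, chVal_inv hβ', inv_mul_eq_one] at h1
  exact h1.symm

omit [Fact p.Prime] [Finite Δ] in
theorem baseRel_comp (hE : E.IsInvariantIn F) {χ : ↥(F.autGroup T) →* Δ} (hf : Map F P f)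
    {d d' : Δ} (h : BaseRel E χ P f d) (h' : BaseRel E χ Q g d')
    (hm : ∀ x ∈ P, f x ∈ Q) : BaseRel E χ P (g ∘ f) (d' * d) := by
  obtain ⟨β, hβ, x, hx, hxe, rfl⟩ := h
  obtain ⟨β', hβ', y, hy, hye, rfl⟩ := h'
  obtain ⟨k, hk, hke⟩ := inv_map hE hy (inv_mem hβ)
  have hfT : ∀ r ∈ P ⊓ T, f r ∈ Q ⊓ T := fun r hr =>
    ⟨hm r hr.1, stronglyClosed_map hE.2.1 hf hr.1 hr.2⟩
  have hmem : ∀ r ∈ P ⊓ T, x r = av β⁻¹ (f r) := fun r hr => by rw [hxe r hr, av_inv_av β (hx.mem hr)]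
  refine ⟨β' * β, mul_mem hβ' hβ, k ∘ x, hx.comp hk fun r hr => ?_, fun r hr => ?_, (chVal_mul hβ' hβ).symm⟩
  · rw [hmem r hr]; exact mem_im_of_mem (hfT r hr)
  · show g (f r) = av (β' * β) (k (x r))
    rw [hye _ (hfT r hr), hmem r hr, hke _ (hfT r hr), av_mul _ _ (av_mem _ (hy.mem (hfT r hr))),
      av_av_inv β (hy.mem (hfT r hr))]

theorem exists_baseCls (hS : IsPGroup p S) (hE : E.IsWeaklyNormalIn F p) (χ : ↥(F.autGroup T) →* Δ)
    (hΔ : (Nat.card Δ).Coprime p) (hker : (E.autGroup T).subgroupOf (F.autGroup T) ≤ χ.ker) :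
    ∃ c : Subgroup Ω → (Ω → Ω) → Δ, IsCls F (BaseFam F E) c ∧
      ∀ P f, BaseFam F E P → Map F P f → BaseRel E χ P f (c P f) := by
  classical
  let c : Subgroup Ω → (Ω → Ω) → Δ := fun P f =>
    if h : ∃ d, BaseRel E χ P f d then h.choose else 1
  have hc : ∀ P f, Map F P f → BaseRel E χ P f (c P f) := fun P f hf => by
    show BaseRel E χ P f (dite _ _ _)
    rw [dif_pos (baseRel_exists hE.2.2 χ hf)]
    exact (baseRel_exists hE.2.2 χ hf).choose_spec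
  refine ⟨c, ⟨fun {P f g} hP hf he => ?_, fun {P Q f g} hP hf hg hm => ?_⟩, fun P f _ hf => hc P f hf⟩
  · refine baseRel_unique hS hE hΔ hker hP.2 ?_ (hc P g (hf.congr he))
    obtain ⟨β, hβ, x, hx, hxe, hd⟩ := hc P f hf
    exact ⟨β, hβ, x, hx, fun r hr => by rw [← he r hr.1, hxe r hr], hd⟩
  · exact baseRel_unique hS hE hΔ hker hP.2 (hc P _ (hf.comp hg hm))
      (baseRel_comp hE.2.2 hf (hc P f hf) (hc Q g hg) hm)

end Cfsg.Agent.Local.FS
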