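import Cfsg.Agent.Lib.Local.FS.AxiomaticInner
import Cfsg.Agent.Lib.Local.FS.ThompsonFour
import Cfsg.Agent.Lib.Fusion.ZJElementary

/-!
The large abelian subgroups of a strongly closed subgroup as a family.
-/

set_option autoImplicit false

namespace Cfsg.Agent.Local.FS

open Cfsg Cfsg.FusionSystem Cfsg.Agent.Fusion

section Group

variable {G : Type*} [Group G] [Finite G] {p : ℕ} [Fact p.Prime] {P D : Subgroup G}
  {ok : Subgroup G → Prop}

theorem glaubFamily_maxIn (hp2 : p ≠ 2) (hok : ReplFamily ok) (hP : IsPGroup p P) (hD : IsStronglyClosed D P) :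
    GlaubFamily P (maxIn ok D) := by
  have hPD : P ≤ Subgroup.normalizer (D : Set G) := fun s hs => mem_normalizer_of_cj_le (by
    rintro _ ⟨x, hx, rfl⟩
    exact hD.2 x hx s (P.mul_mem (P.mul_mem hs (hD.1 hx)) (P.inv_mem hs)))
  refine ⟨fun A hA => ⟨hA.1.trans hD.1, hok.comm A hA.2.1⟩, hok.maxIn_nonempty D, ?_, ?_⟩
  · intro Q hQ hA g hg x hx
    refine Subgroup.mem_sInf.2 fun A ⟨hA, hAQ⟩ => ?_
    have hA' : cj A g⁻¹ ≤ Q ∧ cj A g⁻¹ ∈ maxIn ok D := by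
      have hQA : cj A g⁻¹ ≤ Q := (cj_mono hAQ g⁻¹).trans (cj_eq_self (inv_mem hg)).le
      refine ⟨hQA, ?_, hok.map_equiv hA.2.1 (MulAut.conj g⁻¹), fun B hB hB' => ?_⟩
      · rintro _ ⟨a, ha, rfl⟩
        exact hD.2 a (hA.1 ha) g⁻¹ (hQ (hQA ⟨a, ha, rfl⟩))
      · rw [card_cj]; exact hA.2.2 B hB hB'
    have h1 := (Subgroup.mem_sInf.1 hx) _ ⟨hA'.2, hA'.1⟩
    rw [mem_cj, inv_inv] at h1
    exact h1
  · intro B hB hPB _ ⟨U, hU, hBU, hnU⟩
    obtain ⟨A, ⟨hA, hBA, hnA⟩, hmax⟩ := Set.exists_max_image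
      {A : Subgroup G | A ∈ maxIn ok D ∧ ⁅B, B⁆ ≤ A ∧ ¬ B ≤ A}
      (fun A => Nat.card (A ⊓ B : Subgroup G)) (Set.toFinite _) ⟨U, hU, hBU, hnU⟩
    refine ⟨A, hA, hBA, hnA, ?_⟩
    by_contra hnot
    obtain ⟨R, -, hRD, hcard, hR, hBR, hlt, hltB, hexp⟩ := exists_replacement_in hp2 hP hB hPB
      (hA.1.trans hD.1) (hok.comm A hA.2.1) hBA hnot
    have hRmem : R ∈ maxIn ok D := ⟨hRD D hA.1 hPD,
      hok.of_exponent A R hA.2.1 hR hexp, fun C hC hC' => hcard ▸ hA.2.2 C hC hC'⟩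
    exact absurd (hmax R ⟨hRmem, hBR, fun h => hltB.ne (inf_eq_right.2 h)⟩)
      (not_le.2 (replacement_property.card_lt_card_of_lt hlt))

omit [Fact p.Prime] in
theorem zIn_maxIn (hok : ReplFamily ok) (hDP : D ≤ P) : zIn (maxIn ok D) P = zFam ok D := by
  obtain ⟨A₀, hA₀⟩ := hok.maxIn_nonempty D
  refine le_antisymm (le_inf ((sInf_le ⟨hA₀, hA₀.1.trans hDP⟩ : zIn (maxIn ok D) P ≤ A₀).trans hA₀.1)
    (le_sInf fun A hA => sInf_le ⟨hA, hA.1.trans hDP⟩)) (le_sInf fun A hA => hok.zFam_le_of_mem hA.1)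

theorem zFam_elementary_omega (D : Subgroup G) :
    zFam (fun A : Subgroup G => IsElementaryAbelian p A) D = omegaOne p (centerThompsonOf p D) := by
  rw [(zFam_elementary_eq D).1, ← zElem_eq]
  rfl

theorem inv_group (hP : IsPGroup p P) {𝒜 : Set (Subgroup G)} (h : GlaubFamily P 𝒜) :
    ∀ Q : Subgroup G, Q ≤ P → (∃ A ∈ 𝒜, A ≤ Q) → ∀ α ∈ (groupFusionSystem P).autGroup Q,
      ∀ x ∈ zIn 𝒜 Q, av α x ∈ zIn 𝒜 Q := by
  intro Q hQ hA α hα x hx
  obtain ⟨-, -, g, hg⟩ := map_group_iff.1 (map_of_mem_autGroup hQ hα)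
  obtain ⟨A, hA', hAQ⟩ := hA
  have hxQ : x ∈ Q := (sInf_le ⟨hA', hAQ⟩ : zIn 𝒜 Q ≤ A).trans hAQ hx
  rw [hg x hxQ]
  refine h.inv Q hQ ⟨A, hA', hAQ⟩ g (mem_normalizer_of_cj_le ?_) x hx
  rintro _ ⟨y, hy, rfl⟩
  show g * y * g⁻¹ ∈ Q
  rw [← hg y hy]
  exact av_mem α hy

/-- The criterion for groups. -/
theorem hnpc_of_glaub (hp2 : p ≠ 2) (hP : SylIn p P ⊤) {𝒜 : Set (Subgroup G)} (h : GlaubFamily P 𝒜)
    (hN : HasNormalPComplement p (Subgroup.normalizer (zIn 𝒜 P : Set G))) : HasNormalPComplement p G :=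
  hnpc_of_isInner hP (isInner_of_family hp2 hP.isPGroup (group_saturated hP) 𝒜 h.mem h.nonempty
    (inv_group hP.isPGroup h) h.repl (pAt_group hP.isPGroup h.le_normalizer hN))

end Group

section System

universe u

variable {Ω : Type u} [Group Ω] {S D : Subgroup Ω} [Finite S] {F : FusionSystem S} {p : ℕ} [Fact p.Prime]

/-- The family in a system. -/
def closedFamily (S D : Subgroup Ω) : Set (Subgroup Ω) :=
  (fun A : Subgroup S => A.map S.subtype) '' maxIn (fun A : Subgroup S => IsMulCommutative A) (D.subgroupOf S)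

omit [Fact p.Prime] in
theorem zIn_closedFamily (hS : IsPGroup p S) [Fact p.Prime] (hD : D ≤ S) :
    zIn (closedFamily S D) S = centerThompsonAOf D := by
  have hok := replFamily_comm (G := S)
  obtain ⟨A₀, hA₀⟩ := hok.maxIn_nonempty (D.subgroupOf S)
  have e : centerThompsonAOf D = (zFam (fun A : Subgroup S => IsMulCommutative A) (D.subgroupOf S)).map S.subtype := by
    rw [zFam_comm_eq, ← inducedFunctor_wZA, ← inducedFunctor_wZA,
      ← inducedFunctor_map_of_injOn (isCharPFunctor_wZA (p := p)) S.subtype S.subtype_injective.injOn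
        ((hS.to_subgroup (D.subgroupOf S))), Subgroup.map_subgroupOf_eq_of_le hD]
  rw [e, ← zIn_maxIn hok (le_refl (D.subgroupOf S))]
  ext x
  simp only [zIn, Subgroup.mem_sInf, Subgroup.mem_map]
  constructor
  · intro hx
    obtain ⟨y, -, rfl⟩ := Subgroup.mem_map.1 (hx _ ⟨⟨A₀, hA₀, rfl⟩, Subgroup.map_subtype_le A₀⟩)
    exact ⟨y, fun A hA => (Subgroup.mem_map_iff_mem S.subtype_injective).1
      (hx _ ⟨⟨A, hA.1, rfl⟩, Subgroup.map_subtype_le A⟩), rfl⟩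
  · rintro ⟨y, hy, rfl⟩ _ ⟨⟨A, hA, rfl⟩, -⟩
    exact Subgroup.mem_map_of_mem S.subtype (hy A ⟨hA, hA.1⟩)

omit [Fact p.Prime] in
theorem closedFamily_mem : ∀ A ∈ closedFamily S D, A ≤ S ∧ IsMulCommutative A := by
  rintro _ ⟨A, hA, rfl⟩
  exact ⟨Subgroup.map_subtype_le A, isMulCommutative_map _ hA.2.1⟩

omit [Fact p.Prime] in
theorem closedFamily_inv (hD : F.StronglyClosed D) :
    ∀ Q : Subgroup Ω, Q ≤ S → (∃ A ∈ closedFamily S D, A ≤ Q) → ∀ α ∈ F.autGroup Q,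
      ∀ x ∈ zIn (closedFamily S D) Q, av α x ∈ zIn (closedFamily S D) Q := by
  intro Q hQ _ α hα x hx
  refine Subgroup.mem_sInf.2 ?_
  rintro _ ⟨⟨A, hA, rfl⟩, hAQ⟩
  have hm := map_of_mem_autGroup hQ (inv_mem hα)
  set B' := im (A.map S.subtype) (av α⁻¹)
  have hAD : A.map S.subtype ≤ D := fun y ⟨a, ha, he⟩ => he ▸ hA.1 ha
  have hBQ : B' ≤ Q := im_le_iff.2 fun y hy => av_mem _ (hAQ hy)
  have hB'D : B' ≤ D := im_le_iff.2 fun y hy => stronglyClosed_map hD hm (hAQ hy) (hAD hy)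
  have hB'S : B' ≤ S := hBQ.trans hQ
  have hmem : B'.subgroupOf S ∈ maxIn (fun A : Subgroup S => IsMulCommutative A) (D.subgroupOf S) := by
    refine ⟨Subgroup.comap_mono hB'D, ⟨⟨fun u v => Subtype.ext (Subtype.ext ?_)⟩⟩, fun C hC hC' => ?_⟩
    · obtain ⟨a, ha, hau⟩ := (hm.restrict hAQ).mem_im.1 u.2
      obtain ⟨b, hb, hbv⟩ := (hm.restrict hAQ).mem_im.1 v.2
      show S.subtype (u : S) * S.subtype (v : S) = S.subtype (v : S) * S.subtype (u : S)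
      rw [← hau, ← hbv, ← hm.map_mul (hAQ ha) (hAQ hb), ← hm.map_mul (hAQ hb) (hAQ ha)]
      exact congrArg _ (congrArg Subtype.val ((isMulCommutative_map S.subtype hA.2.1).1.1 ⟨a, ha⟩ ⟨b, hb⟩))
    · rw [Nat.card_congr (Subgroup.subgroupOfEquivOfLe hB'S).toEquiv, (hm.restrict hAQ).card_im,
        Subgroup.card_map_of_injective S.subtype_injective]
      exact hA.2.2 C hC hC'
  have h1 : x ∈ B' := (Subgroup.mem_sInf.1 hx) B'
    ⟨⟨B'.subgroupOf S, hmem, Subgroup.map_subgroupOf_eq_of_le hB'S⟩, hBQ⟩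
  obtain ⟨a, ha, hax⟩ := (hm.restrict hAQ).mem_im.1 h1
  rw [← hax]
  have h2 : av α (av α⁻¹ a) = a := by rw [← av_mul _ _ (hAQ ha), mul_inv_cancel, av_one (hAQ ha)]
  rw [h2]
  exact ha

theorem closedFamily_rep (hp2 : p ≠ 2) (hS : IsPGroup p S) (hD : F.StronglyClosed D) :
    ∀ B : Subgroup Ω, B ≤ S → S ≤ Subgroup.normalizer (B : Set Ω) → ⁅⁅B, B⁆, B⁆ = ⊥ →
      (∃ A ∈ closedFamily S D, ⁅B, B⁆ ≤ A ∧ ¬ B ≤ A) →
      ∃ A ∈ closedFamily S D, ⁅B, B⁆ ≤ A ∧ ¬ B ≤ A ∧ B ≤ Subgroup.normalizer (A : Set Ω) := by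
  intro B hB hSB hcl hA
  obtain ⟨_, ⟨A, hA, rfl⟩, hBA, hnA⟩ := hA
  have hDn : IsStronglyClosed (D.subgroupOf S) (⊤ : Subgroup S) :=
    ⟨le_top, fun x hx g _ => stronglyClosed_map hD (map_conjBy (F := F) le_rfl g.2) x.2 hx⟩
  have hfam := glaubFamily_maxIn hp2 replFamily_comm (hS.to_subgroup ⊤) hDn
  have hBe : (B.subgroupOf S).map S.subtype = B := Subgroup.map_subgroupOf_eq_of_le hB
  rw [← hBe, ← Subgroup.map_commutator] at hBA
  obtain ⟨R, hR, h1, h2, h3⟩ := hfam.repl (B.subgroupOf S) le_top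
    (fun s _ => Subgroup.mem_normalizer_iff.2 fun y => Subgroup.mem_normalizer_iff.1 (hSB s.2) (y : Ω))
    (Subgroup.map_injective S.subtype_injective (by
      rw [Subgroup.map_commutator, Subgroup.map_commutator, hBe, hcl, Subgroup.map_bot]))
    ⟨A, hA, (Subgroup.map_le_map_iff_of_injective S.subtype_injective).1 hBA,
      fun h => hnA (hBe ▸ Subgroup.map_mono h)⟩
  refine ⟨_, ⟨R, hR, rfl⟩, ?_, ?_, ?_⟩
  · rw [← hBe, ← Subgroup.map_commutator]; exact Subgroup.map_mono h1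
  · exact fun h => h2 fun b hb => (Subgroup.mem_map_iff_mem S.subtype_injective).1 (h hb)
  · rw [← hBe]
    exact (Subgroup.map_mono h3).trans (Subgroup.le_normalizer_map S.subtype)

end System

end Cfsg.Agent.Local.FS
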