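import Cfsg.Agent.Lib.Local.FS.CoTwoInvKernel

/-!
An involution of the second Conway group whose centralizer is an extension of an extraspecial group of
order 512 by the symplectic group in dimension six over two elements.
-/

set_option autoImplicit false

namespace Cfsg.Agent.Local.FS.CoTwoInv

open Cfsg Cfsg.Agent.Spor

local notation "Zv" => GolayPt → ℤ
local notation "Sp6" => Matrix.symplecticGroup (Fin 3) (ZMod 2)

theorem leechU_eq : Cfsg.Spor.leechU = vP :=
  Subtype.ext (funext fun p => (by decide +kernel : ∀ p, Cfsg.Spor.vecU p = pairRef p) p)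

theorem tE_ne : tE ≠ 1 := fun h => by
  have e := tE_apply (e8 (pt 4))
  rw [h, one_smul] at e
  exact absurd (congrFun e (pt 4)) (by decide +kernel)

theorem tE_sq : tE * tE = 1 := co0_ext fun v => by rw [mul_smul, tE_apply, tE_apply, sgn_sgn, one_smul]

/-- the involution of the second Conway group -/
noncomputable def t2 : ↥Cfsg.Spor.Co2 :=
  ⟨tE.1, Subgroup.mem_inf.2 ⟨tE.2, MulAction.mem_stabilizer_iff.2 (by rw [leechU_eq]; exact tE_vP)⟩⟩

theorem orderOf_t2 : orderOf t2 = 2 := by
  refine orderOf_eq_prime ?_ fun h => tE_ne (Subtype.ext ?_)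
  · rw [sq]; exact Subtype.ext (congrArg (fun z : ↥Co0 => z.1) tE_sq)
  · exact congrArg (fun z : ↥Cfsg.Spor.Co2 => z.1) h

/-- the centralizer in the second Conway group -/
noncomputable def centEquiv : ↥(Subgroup.centralizer ({t2} : Set ↥Cfsg.Spor.Co2)) ≃* ↥C0 where
  toFun x := ⟨⟨x.1.1, (Subgroup.mem_inf.1 x.1.2).1⟩, mem_C0.2 ⟨by
    rw [← leechU_eq]; exact MulAction.mem_stabilizer_iff.1 (Subgroup.mem_inf.1 x.1.2).2,
    Subtype.ext (congrArg (fun z : ↥Cfsg.Spor.Co2 => z.1) (Subgroup.mem_centralizer_singleton_iff.1 x.2))⟩⟩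
  invFun g := ⟨⟨g.1.1, Subgroup.mem_inf.2 ⟨g.1.2, MulAction.mem_stabilizer_iff.2 (by
      rw [leechU_eq]; exact (mem_C0.1 g.2).1)⟩⟩,
    Subgroup.mem_centralizer_singleton_iff.2 (Subtype.ext (congrArg (fun z : ↥Co0 => z.1) (mem_C0.1 g.2).2))⟩
  left_inv x := rfl
  right_inv g := rfl
  map_mul' x y := rfl

theorem sp_simple : IsSimpleGroup Sp6 := by
  haveI := Cfsg.Agent.S0270.result (F := ZMod 2) 3 (by norm_num) (by omega)
  have hc := Cfsg.Agent.Lie.SymplecticSix.center_eq_bot (F := ZMod 2) (by decide)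
  exact ((QuotientGroup.quotientBot).symm.trans
    (QuotientGroup.quotientMulEquivOfEq hc.symm)).isSimpleGroup_congr.2 inferInstance

/-- The structure of the centralizer. -/
theorem main : ∃ t : ↥Cfsg.Spor.Co2, orderOf t = 2 ∧
    Cfsg.IsExtraspecial 2 (Cfsg.pCore 2 ↥(Subgroup.centralizer ({t} : Set ↥Cfsg.Spor.Co2))) ∧
    Nat.card (Cfsg.pCore 2 ↥(Subgroup.centralizer ({t} : Set ↥Cfsg.Spor.Co2))) = 2 ^ 9 ∧
    Nonempty (↥(Subgroup.centralizer ({t} : Set ↥Cfsg.Spor.Co2)) ⧸
      Cfsg.pCore 2 ↥(Subgroup.centralizer ({t} : Set ↥Cfsg.Spor.Co2)) ≃* Sp6) := by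
  haveI := co0_finite
  haveI := sp_simple
  set C := Subgroup.centralizer ({t2} : Set ↥Cfsg.Spor.Co2)
  let ψ : ↥C →* Sp6 := phi.comp centEquiv.toMonoidHom
  have hψ : Function.Surjective ψ := phi_surjective.comp centEquiv.surjective
  haveI : Finite ↥C := Finite.of_injective _ centEquiv.injective
  have e : ↥ψ.ker ≃* ↥K :=
    { toFun := fun x => ⟨centEquiv x.1, x.2⟩
      invFun := fun g => ⟨centEquiv.symm g.1, by
        rw [MonoidHom.mem_ker]; show phi (centEquiv (centEquiv.symm g.1)) = 1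
        rw [MulEquiv.apply_symm_apply]; exact g.2⟩
      left_inv := fun x => Subtype.ext (centEquiv.symm_apply_apply x.1)
      right_inv := fun g => Subtype.ext (centEquiv.apply_symm_apply g.1)
      map_mul' := fun x y => Subtype.ext (map_mul centEquiv x.1 y.1) }
  have hker : Nat.card ψ.ker = 2 ^ 9 := by rw [Nat.card_congr e.toEquiv, card_K]; norm_num
  have hcore : Cfsg.pCore 2 ↥C = ψ.ker := by
    refine le_antisymm (sSup_le ?_) (le_sSup ⟨inferInstance, IsPGroup.of_card (n := 9) hker⟩)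
    rintro N ⟨hN, hp⟩
    haveI := hN
    rw [← Subgroup.map_eq_bot_iff]
    refine ((hN.map ψ hψ).eq_bot_or_eq_top).resolve_right fun htop => ?_
    have h2 := hp.map ψ
    rw [htop] at h2
    haveI : Finite Sp6 := Finite.of_surjective ψ hψ
    obtain ⟨k, hk⟩ := IsPGroup.iff_card.1 h2
    rw [Subgroup.card_top, Cfsg.Agent.Lie.SymplecticSix.card_sp (F := ZMod 2) (by decide)] at hk
    have h3 : (3 : ℕ) ∣ 2 ^ k := by rw [← hk]; norm_num
    have := Nat.Prime.dvd_of_dvd_pow (by norm_num) h3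
    norm_num at this
  refine ⟨t2, orderOf_t2, ?_, ?_, ?_⟩
  · rw [hcore]
    haveI : Finite ↥K := Finite.of_injective _ e.symm.injective
    obtain ⟨⟨hp, h1, h2⟩, h3⟩ := extraspecial
    haveI : Fact (Nat.Prime 2) := ⟨Nat.prime_two⟩
    have hctr : ∀ x : ↥ψ.ker, x ∈ Subgroup.center ↥ψ.ker ↔ e x ∈ Subgroup.center ↥K := fun x => by
      simp only [Subgroup.mem_center_iff]
      refine ⟨fun h g => ?_, fun h g => e.injective (by rw [map_mul, map_mul, h])⟩
      obtain ⟨g, rfl⟩ := e.surjective g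
      rw [← map_mul, h, map_mul]
    have hcard : Nat.card (Subgroup.center ↥ψ.ker) = 2 := by
      exact (Nat.card_congr (e.toEquiv.subtypeEquiv hctr)).trans h3
    refine Solv.isExtraspecial_of (IsPGroup.of_card (n := 9) hker) hcard ?_ fun x => ?_
    · refine le_antisymm ?_ fun x hx => ?_
      · rw [commutator_def, Subgroup.commutator_le]
        intro a _ b _
        rw [hctr, map_commutatorElement, ← h2]
        exact Subgroup.commutator_mem_commutator (Subgroup.mem_top _) (Subgroup.mem_top _)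
      · have hx' : e x ∈ commutator ↥K := by rw [h2]; exact (hctr x).1 hx
        have hm : commutator ↥K ≤ (commutator ↥ψ.ker).map e.toMonoidHom := by
          rw [commutator_def, commutator_def, Subgroup.map_commutator, Subgroup.map_top_of_surjective _ e.surjective]
        obtain ⟨y, hy, hy'⟩ := hm hx'
        exact (e.injective hy') ▸ hy
    · rw [hctr, map_pow, ← h1]
      exact Cfsg.Agent.Solv.pow_mem_frattini hp _
  · rw [hcore, hker]
  · exact ⟨(QuotientGroup.quotientMulEquivOfEq hcore).trans (QuotientGroup.quotientKerEquivOfSurjective ψ hψ)⟩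

end Cfsg.Agent.Local.FS.CoTwoInv
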