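import Cfsg.Agent.Lib.Local.FS.CoTwoInvCheck
import Cfsg.Agent.Lib.Classical.SpGeneration
import Cfsg.Agent.Lib.Spor.HigmanSims
import Cfsg.Agent.Lib.Lie.SymplecticSix.Points
import Cfsg.Agent.S0270

/-!
The centralizer of an involution in the stabilizer of a minimal vector maps onto the symplectic group in
dimension six over two elements.
-/

set_option autoImplicit false
set_option maxRecDepth 100000

namespace Cfsg.Agent.Local.FS.CoTwoInv

open Cfsg Cfsg.Agent.Spor Cfsg.Agent.Spor.CC Matrix
open Cfsg.Agent.Local.FS.McLSmall (fword vecOf_fword sum_pts)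

local notation "Zv" => GolayPt → ℤ
local notation "Sp6" => Matrix.symplecticGroup (Fin 3) (ZMod 2)

theorem range_mem {p : ℕ → Bool} (h : rangeOK p 0 64 = true) {k : ℕ} (hk : k < 64) : p k = true :=
  all_range (p := p) h (Nat.zero_le _) (by omega)

theorem vecOf_negL (l : List ℤ) : vecOf (negL l) = -vecOf l := funext fun p => by
  show (l.map fun a => -a).getD (idx p) 0 = -(l.getD (idx p) 0)
  rw [show (0 : ℤ) = -0 from rfl, List.getD_map]
  simp

theorem vecOf_epsL (l : List ℤ) : vecOf (epsL l) = sgn (ofMaskW epsMask) (vecOf l) := funext fun p => by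
  show (epsL l).getD (idx p) 0 = if ofMaskW epsMask p = 0 then l.getD (idx p) 0 else -(l.getD (idx p) 0)
  rw [epsL, List.getD_eq_getElem _ _ (by simpa using idx_lt p), List.getElem_map, List.getElem_range, ofMaskW]
  cases Nat.testBit epsMask (idx p) <;> simp

theorem rowOf_vecOf_len {l : List ℤ} (hl : l.length = 24) : rowOf (vecOf l) = l := by
  refine List.ext_getElem (by rw [hl]; simp [rowOf]) fun k h1 h2 => ?_
  simp only [rowOf, List.getElem_map, List.getElem_range, vecOf]
  rw [idx_pt _ (hl ▸ h2), List.getD_eq_getElem _ _ h2]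

theorem ldot_rowOf (y z : Zv) : ldot (rowOf y) (rowOf z) = dotInt y z := by
  rw [ldot, rowOf, rowOf, List.zipWith_map, List.zipWith_self, dotInt, sum_pts]

theorem row_facts {k : ℕ} (hk : k < 64) : vecOf (row k) ∈ leechLattice ∧ (row k).length = 24 ∧
    sgn (ofMaskW epsMask) (vecOf (row k)) = vecOf (row k) ∧ dotInt pairRef (vecOf (row k)) = 0 ∧
    (k ≠ 0 → sqNorm (vecOf (row k)) = 32) := by
  have h := range_mem root_facts hk
  simp only [Bool.and_eq_true, beq_iff_eq, Bool.or_eq_true] at h
  obtain ⟨⟨⟨⟨h1, h2⟩, h3⟩, h4⟩, h5⟩ := h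
  refine ⟨leechCheck_mem h1, h2, ?_, ?_, fun hk0 => ?_⟩
  · rw [← vecOf_epsL, h3]
  · rw [← ldot_rowOf, rowOf_vecOf_len h2, h4]
  · rw [← h5.resolve_left hk0, ← rowOf_vecOf_len h2, ldot_rowOf, rowOf_vecOf_len h2]
    simp [sqNorm, dotInt, sq]

/-- the root of a class -/
noncomputable def R (x : V6) : ↥leechLattice := ⟨vecOf (row (code x)), (row_facts (vec_code x).2).1⟩

/-- the fixed vector -/
noncomputable def vP : ↥leechLattice := ⟨pairRef, pairRef_spec.1⟩

theorem exists_eps : ∃ a : ↥Co0, ∀ v : ↥leechLattice,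
    ((a • v : ↥leechLattice) : Zv) = sgn (ofMaskW epsMask) (v : Zv) :=
  exists_sgn (dec_code oct_ok.2.2.1 oct_ok.2.1)

/-- the involution -/
noncomputable def tE : ↥Co0 := exists_eps.choose

theorem tE_apply (v : ↥leechLattice) : ((tE • v : ↥leechLattice) : Zv) = sgn (ofMaskW epsMask) (v : Zv) :=
  exists_eps.choose_spec v

theorem tE_vP : tE • vP = vP := Subtype.ext (by
  rw [tE_apply]
  exact funext fun p => (by decide +kernel : ∀ p, sgn (ofMaskW epsMask) pairRef p = pairRef p) p)

/-- the centralizer in the stabilizer -/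
noncomputable def C0 : Subgroup ↥Co0 := MulAction.stabilizer ↥Co0 vP ⊓ Subgroup.centralizer {tE}

theorem mem_C0 {g : ↥Co0} : g ∈ C0 ↔ g • vP = vP ∧ g * tE = tE * g := by
  rw [C0, Subgroup.mem_inf, MulAction.mem_stabilizer_iff, Subgroup.mem_centralizer_singleton_iff]

theorem co0_zero (g : ↥Co0) : g • (0 : ↥leechLattice) = 0 := by
  have h := co0_add g 0 0
  rw [add_zero] at h
  exact left_eq_add.1 h

theorem R_zero : R 0 = 0 := Subtype.ext (funext fun p => by
  show vecOf (row 0) p = 0
  rw [root_zero]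
  show (List.replicate 24 (0 : ℤ)).getD (idx p) 0 = 0
  rw [List.getD_eq_getElem _ _ (by simpa using idx_lt p), List.getElem_replicate])

theorem tE_R (x : V6) : tE • R x = R x := Subtype.ext ((tE_apply _).trans (row_facts (vec_code x).2).2.2.1)

theorem R_eq {x y : V6} (h : R x = R y ∨ R x = -R y) : x = y := by
  have hx := vec_code x
  have hy := vec_code y
  have hc : code x = code y := by
    have hd := List.all_eq_true.1 (range_mem root_distinct hx.2) (code y) (List.mem_range.2 hy.2)
    simp only [Bool.or_eq_true, beq_iff_eq, Bool.not_eq_true', Bool.or_eq_false_iff, beq_eq_false_iff_ne] at hd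
    refine hd.resolve_right fun hne => ?_
    rcases h with h | h
    · exact hne.1 (by rw [← rowOf_vecOf_len (row_facts hx.2).2.1, ← rowOf_vecOf_len (row_facts hy.2).2.1]
                      exact congrArg (fun z : ↥leechLattice => rowOf (z : Zv)) h)
    · refine hne.2 ?_
      rw [← rowOf_vecOf_len (row_facts hx.2).2.1,
        ← rowOf_vecOf_len (l := negL (row (code y))) (by simp [negL, (row_facts hy.2).2.1]), vecOf_negL]
      exact congrArg (fun z : ↥leechLattice => rowOf (z : Zv)) h
  rw [← hx.1, hc, hy.1]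

theorem mem_allLists {alph : List ℤ} : ∀ (l : List ℤ), (∀ a ∈ l, a ∈ alph) → l ∈ allLists alph l.length
  | [], _ => by simp [allLists]
  | a :: l, h => by
    simp only [List.length_cons, allLists, List.mem_flatMap, List.mem_map]
    exact ⟨l, mem_allLists l fun b hb => h b (List.mem_cons_of_mem _ hb), a, h a List.mem_cons_self, rfl⟩

theorem fixed_root {y : Zv} (hy : y ∈ leechLattice) (hn : sqNorm y = 32)
    (he : sgn (ofMaskW epsMask) y = y) (hd : dotInt pairRef y = 0) :
    ∃ k < 64, k ≠ 0 ∧ (y = vecOf (row k) ∨ y = -vecOf (row k)) := by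
  have hzero : ∀ p, idx p ∉ octPts → y p = 0 := fun p hp => by
    have hb := List.all_eq_true.1 oct_ok.2.2.2 (idx p) (List.mem_range.2 (idx_lt p))
    simp only [beq_iff_eq] at hb
    rw [List.contains_eq_mem, decide_eq_false hp] at hb
    have := congrFun he p
    simp only [sgn, ofMaskW, hb, Bool.not_false, if_true] at this
    simp at this
    omega
  set vals := octPts.map fun k => y (pt k) with hvals
  have hlen : vals.length = 8 := by rw [hvals, List.length_map, oct_ok.1]; rfl
  have hplace : vecOf (place vals) = y := funext fun p => by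
    show (place vals).getD (idx p) 0 = y p
    rw [place, List.getD_eq_getElem _ _ (by simpa using idx_lt p), List.getElem_map, List.getElem_range]
    by_cases hp : idx p ∈ octPts
    · rw [hvals, List.getD_eq_getElem _ _ (by rw [List.length_map]; exact List.idxOf_lt_length_of_mem hp),
        List.getElem_map, List.getElem_idxOf, pt_idx]
    · rw [List.getD_eq_default _ _ (by rw [hvals, List.length_map, List.idxOf_eq_length hp]), hzero p hp]
  have hdot : y (pt 0) + y none = 0 := by rw [dot_pairRef] at hd; omega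
  have hcand : candOK vals = true := by
    obtain ⟨j, hj, hi⟩ := short_form hy hn
    rcases (show j = 0 ∨ j = 1 ∨ j = 2 by omega) with rfl | rfl | rfl
    · refine List.all_eq_true.1 cand4 _ (hlen ▸ mem_allLists vals fun a ha => ?_)
      obtain ⟨k, -, rfl⟩ := List.mem_map.1 ha
      rcases (short_abs (by norm_num) hi (pt k)).1 rfl with h | h
      · simp [abs_eq_zero.1 h]
      · rcases (abs_eq (by norm_num : (0 : ℤ) ≤ 4)).1 h with h | h <;> simp [h]
    · refine List.all_eq_true.1 cand2 _ (hlen ▸ mem_allLists vals fun a ha => ?_)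
      obtain ⟨k, -, rfl⟩ := List.mem_map.1 ha
      rcases (short_abs (by norm_num) hi (pt k)).2.1 rfl with h | h
      · simp [abs_eq_zero.1 h]
      · rcases (abs_eq (by norm_num : (0 : ℤ) ≤ 2)).1 h with h | h <;> simp [h]
    · exfalso
      have h0 : y (pt 4) = 0 := hzero _ (by decide +kernel)
      rcases (short_abs (by norm_num) hi (pt 4)).2.2 rfl with h | h <;> simp [h0] at h
  simp only [candOK, Bool.or_eq_true, Bool.not_eq_true', List.any_eq_true, List.mem_range, beq_iff_eq] at hcand
  have hg0 : vals.getD 0 0 = y (pt 0) := by rw [hvals, oct_ok.1]; rfl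
  have hg7 : vals.getD 7 0 = y none := by rw [hvals, oct_ok.1]; rfl
  have hsq : (vals.map fun a => a * a).sum = 32 := by
    rw [← hn, hvals, List.map_map]
    have hs : sqNorm y = ∑ q, y q * y q := by simp [sqNorm, sq]
    have e : ∀ q, y q * y q = if q ∈ (octPts.map pt) then y q * y q else 0 := fun q => by
      split_ifs with h
      · rfl
      · rw [hzero q fun hc => h (List.mem_map.2 ⟨_, hc, pt_idx q⟩), mul_zero]
    rw [hs, Finset.sum_congr rfl fun q _ => e q, ← Finset.sum_filter,
      show Finset.univ.filter (fun q => q ∈ octPts.map pt) = (octPts.map pt).toFinset from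
        Finset.ext fun q => by simp,
      List.sum_toFinset _ (by rw [oct_ok.1]; decide +kernel), List.map_map]
    rfl
  rcases hcand with (hc | ⟨k, hk, hc⟩) | hc
  · rw [hg0, hg7, hsq, hdot] at hc
    simp at hc
  · refine ⟨k + 1, by omega, by omega, ?_⟩
    rw [← hplace]
    rcases hc with hc | hc <;> rw [hc]
    · exact Or.inl rfl
    · exact Or.inr (vecOf_negL _)
  · rw [hplace, leechCheck_of_mem hy] at hc
    exact absurd hc (by simp)

theorem R_vec {k : ℕ} (hk : k < 64) : ((R (vec k) : ↥leechLattice) : Zv) = vecOf (row k) :=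
  congrArg (fun j => vecOf (row j)) (code_vec ⟨k, hk⟩)

theorem exists_img (g : ↥C0) (x : V6) : ∃ y, g.1 • R x = R y ∨ g.1 • R x = -R y := by
  obtain ⟨hv, hc⟩ := mem_C0.1 g.2
  by_cases hx : code x = 0
  · have hx0 : x = 0 := by rw [← (vec_code x).1, hx]; decide +kernel
    exact ⟨0, Or.inl (by rw [hx0, R_zero, co0_zero])⟩
  obtain ⟨-, -, -, hd, hn⟩ := row_facts (vec_code x).2
  have he : sgn (ofMaskW epsMask) ((g.1 • R x : ↥leechLattice) : Zv) = ((g.1 • R x : ↥leechLattice) : Zv) := by
    rw [← tE_apply, ← mul_smul, ← hc, mul_smul, tE_R]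
  have hd' : dotInt pairRef ((g.1 • R x : ↥leechLattice) : Zv) = 0 := by
    have := co0_dot g.1 vP (R x)
    rw [hv] at this
    exact this.trans hd
  obtain ⟨k, hk, -, h⟩ := fixed_root (g.1 • R x).2 ((g.1.2.2 _).trans (hn hx)) he hd'
  refine ⟨vec k, ?_⟩
  have e : code (vec k) = k := code_vec ⟨k, hk⟩
  rcases h with h | h
  · exact Or.inl (Subtype.ext (by show _ = vecOf (row (code (vec k))); rw [e]; exact h))
  · exact Or.inr (Subtype.ext (by show _ = -vecOf (row (code (vec k))); rw [e]; exact h))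

/-- the induced map of classes -/
noncomputable def img (g : ↥C0) (x : V6) : V6 := (exists_img g x).choose

theorem img_spec (g : ↥C0) (x : V6) : g.1 • R x = R (img g x) ∨ g.1 • R x = -R (img g x) :=
  (exists_img g x).choose_spec

theorem img_eq {g : ↥C0} {x y : V6} (h : g.1 • R x = R y ∨ g.1 • R x = -R y) : img g x = y := by
  rcases img_spec g x with e | e <;> rcases h with h | h <;> rw [e] at h
  · exact R_eq (Or.inl h)
  · exact R_eq (Or.inr h)
  · exact R_eq (Or.inr (neg_eq_iff_eq_neg.1 h))
  · exact R_eq (Or.inl (neg_injective h))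

theorem img_mul (a b : ↥C0) (x : V6) : img (a * b) x = img a (img b x) := by
  refine img_eq ?_
  rw [Subgroup.coe_mul, mul_smul]
  rcases img_spec b x with e | e <;> rw [e] <;> rcases img_spec a (img b x) with e' | e'
  · exact Or.inl e'
  · exact Or.inr e'
  · exact Or.inr (by rw [co0_neg, e'])
  · exact Or.inl (by rw [co0_neg, e', neg_neg])

theorem img_one (x : V6) : img 1 x = x := img_eq (Or.inl (by rw [OneMemClass.coe_one, one_smul]))

theorem dot_om (x y : V6) : dotInt (R x : Zv) (R y : Zv) % 32 = 16 * ((om x y).val : ℤ) := by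
  have hx := vec_code x
  have hy := vec_code y
  have h := beq_iff_eq.1 (List.all_eq_true.1 (range_mem root_form hx.2) (code y) (List.mem_range.2 hy.2))
  rw [hx.1, hy.1] at h
  show dotInt (vecOf (row (code x))) (vecOf (row (code y))) % 32 = _
  rw [← ldot_rowOf, rowOf_vecOf_len (row_facts hx.2).2.1, rowOf_vecOf_len (row_facts hy.2).2.1]
  exact h

theorem om_img (g : ↥C0) (x y : V6) : om (img g x) (img g y) = om x y := by
  have hd := co0_dot g.1 (R x) (R y)
  have h1 := dot_om x y
  have h2 := dot_om (img g x) (img g y)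
  have hl : ∀ z : ZMod 2, z.val < 2 := ZMod.val_lt
  have := hl (om x y)
  have := hl (om (img g x) (img g y))
  refine ZMod.val_injective 2 ?_
  have key : dotInt (R x : Zv) (R y : Zv) = dotInt (R (img g x) : Zv) (R (img g y) : Zv) ∨
      dotInt (R x : Zv) (R y : Zv) = -dotInt (R (img g x) : Zv) (R (img g y) : Zv) := by
    rcases img_spec g x with e | e <;> rcases img_spec g y with e' | e' <;> rw [e, e'] at hd
    · exact Or.inl hd.symm
    · right; rw [← hd, AddSubgroup.coe_neg, dot_neg_right]
    · right; rw [← hd]; simp [dotInt, Finset.sum_neg_distrib]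
    · left; rw [← hd]; simp [dotInt]
  rcases key with key | key <;> omega

theorem om_add (x y z : V6) : om (x + y) z = om x z + om y z := by
  simp only [om, Pi.add_apply]; ring

theorem om_eq_zero {x : V6} (h : ∀ y, om x y = 0) : x = 0 := by
  by_contra hne
  obtain ⟨y, hy⟩ := om_nondeg ⟨code x, (vec_code x).2⟩ fun h0 => hne (by
    rw [← (vec_code x).1, show code x = 0 from h0]; decide +kernel)
  rw [show vec (code x) = x from (vec_code x).1, h] at hy
  exact zero_ne_one hy

theorem img_add (g : ↥C0) (x y : V6) : img g (x + y) = img g x + img g y := by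
  refine sub_eq_zero.1 (om_eq_zero fun z => ?_)
  obtain ⟨w, rfl⟩ : ∃ w, img g w = z := ⟨img g⁻¹ z, by rw [← img_mul, mul_inv_cancel, img_one]⟩
  have hneg : ∀ a b : V6, a - b = a + b := fun a b => by
    funext i
    rw [Pi.sub_apply, Pi.add_apply, CharTwo.sub_eq_add]
  rw [hneg, om_add, om_add, om_img, om_img, om_img, om_add]
  exact CharTwo.add_self_eq_zero _

/-- the linear map of an element -/
noncomputable def lin (g : ↥C0) : V6 →ₗ[ZMod 2] V6 :=
  { toFun := img g
    map_add' := img_add g
    map_smul' := fun c x => by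
      have h0 : img g 0 = 0 := img_eq (Or.inl (by rw [R_zero, co0_zero]))
      rcases (by decide : ∀ c : ZMod 2, c = 0 ∨ c = 1) c with rfl | rfl
      · simp [h0]
      · simp }

theorem om_J : ∀ x y : Fin 64, vec x ⬝ᵥ (Matrix.J (Fin 3) (ZMod 2) *ᵥ vec y) = om (vec x) (vec y) := by
  decide +kernel

theorem om_dot (x y : V6) : x ⬝ᵥ (Matrix.J (Fin 3) (ZMod 2) *ᵥ y) = om x y := by
  have h := om_J ⟨code x, (vec_code x).2⟩ ⟨code y, (vec_code y).2⟩
  rwa [show vec (code x) = x from (vec_code x).1, show vec (code y) = y from (vec_code y).1] at h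

theorem mat_mem (g : ↥C0) : LinearMap.toMatrix' (lin g) ∈ Sp6 := by
  rw [SymplecticGroup.mem_iff']
  set M := LinearMap.toMatrix' (lin g)
  ext i j
  have h := om_img g (Pi.single i 1) (Pi.single j 1)
  rw [← om_dot, ← om_dot, show img g (Pi.single i 1) = M *ᵥ Pi.single i 1 from
    (LinearMap.toMatrix'_mulVec (lin g) _).symm, show img g (Pi.single j 1) = M *ᵥ Pi.single j 1 from
    (LinearMap.toMatrix'_mulVec (lin g) _).symm, Matrix.mulVec_mulVec, ← Matrix.vecMul_transpose,
    ← Matrix.dotProduct_mulVec, Matrix.mulVec_mulVec, ← Matrix.mul_assoc, single_one_dotProduct,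
    single_one_dotProduct, Matrix.mulVec_single_one, Matrix.mulVec_single_one] at h
  exact h

/-- the map onto the symplectic group -/
noncomputable def phi : ↥C0 →* Sp6 :=
  MonoidHom.mk' (fun g => ⟨LinearMap.toMatrix' (lin g), mat_mem g⟩) fun a b => Subtype.ext (by
    show LinearMap.toMatrix' (lin (a * b)) = LinearMap.toMatrix' (lin a) * LinearMap.toMatrix' (lin b)
    rw [← LinearMap.toMatrix'_mul]
    exact congrArg _ (LinearMap.ext fun x => img_mul a b x))

theorem phi_apply (g : ↥C0) (x : V6) : (phi g).1 *ᵥ x = img g x := LinearMap.toMatrix'_mulVec (lin g) x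

theorem co0_ext8 {g h : ↥Co0} (e : ∀ i, ((g • e8 i : ↥leechLattice) : Zv) = ((h • e8 i : ↥leechLattice) : Zv)) :
    g = h := co0_ext fun v => funext fun k => by
  have h1 := eight_expand g v k
  have h2 := eight_expand h v k
  simp only [e] at h1
  omega

theorem exists_gen (s : Fin 2) :
    ∃ g ∈ C0, ∀ v : ↥leechLattice, ((g • v : ↥leechLattice) : Zv) = wordApp (word s) (v : Zv) := by
  obtain ⟨x, hx⟩ := exists_xi
  have h := words_ok s
  simp only [Bool.and_eq_true, beq_iff_eq, List.all_eq_true, List.mem_range] at h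
  obtain ⟨⟨hok, hv⟩, hc⟩ := h
  obtain ⟨g, -, hg⟩ := word_elem ⊤ (fun _ _ => Subgroup.mem_top _) (Subgroup.mem_top x) hx (word s)
    (List.all_eq_true.2 hok)
  refine ⟨g, mem_C0.2 ⟨Subtype.ext ?_, co0_ext8 fun i => ?_⟩, hg⟩
  · rw [hg]
    show wordApp (word s) pairRef = pairRef
    rw [← vecOf_rowOf pairRef, ← vecOf_fword, hv]
  · have h' := congrArg vecOf (hc (idx i) (idx_lt i))
    rw [vecOf_fword, vecOf_epsL, vecOf_epsL, vecOf_fword, vecOf_rowOf, pt_idx] at h'
    rw [mul_smul, mul_smul, hg, tE_apply, tE_apply, hg]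
    exact h'

/-- a generator -/
noncomputable def gen (s : Fin 2) : ↥C0 := ⟨(exists_gen s).choose, (exists_gen s).choose_spec.1⟩

theorem gen_img (s : Fin 2) {k : ℕ} (hk : k < 64) : img (gen s) (vec k) = vec (pi s k) ∧ pi s k < 64 := by
  have h := range_mem (steps_ok s) hk
  simp only [Bool.and_eq_true, Bool.or_eq_true, beq_iff_eq] at h
  obtain ⟨hlt, h⟩ := h
  have hlt := Nat.le_of_ble_eq_true hlt
  refine ⟨img_eq ?_, hlt⟩
  have e1 : code (vec k) = k := code_vec ⟨k, hk⟩
  have e2 : code (vec (pi s k)) = pi s k := code_vec ⟨pi s k, hlt⟩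
  have hg : (((gen s).1 • R (vec k) : ↥leechLattice) : Zv) = vecOf (fword (word s) (row k)) := by
    rw [vecOf_fword]
    show (((exists_gen s).choose • R (vec k) : ↥leechLattice) : Zv) = _
    rw [(exists_gen s).choose_spec.2, R_vec hk]
  rcases h with h | h
  · exact Or.inl (Subtype.ext (hg.trans (by rw [h, R_vec hlt])))
  · refine Or.inr (Subtype.ext (hg.trans ?_))
    rw [h, vecOf_negL]
    show -vecOf (row (pi s k)) = -((R (vec (pi s k)) : ↥leechLattice) : Zv)
    rw [R_vec hlt]

theorem reach_ok (P : ℕ → Prop) (hstep : ∀ s p, P p → P (pi s p)) :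
    ∀ (l : List (ℕ × ℕ × ℕ)) (seen : ℕ), (∀ i, seen.testBit i = true → P i) →
      ∀ i, (reachM pi l seen).testBit i = true → P i
  | [], _, h => h
  | e :: l, seen, h => by
    refine reach_ok P hstep l _ fun i hi => ?_
    cases hc : (seen.testBit e.2.1 && Nat.beq (pi (Fin.ofNat 2 e.2.2) e.2.1) e.1) with
    | false => rw [hc, cond_false] at hi; exact h i hi
    | true =>
      rw [hc, cond_true, Nat.testBit_or, Bool.or_eq_true, Nat.testBit_two_pow, decide_eq_true_eq] at hi
      rw [Bool.and_eq_true] at hc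
      rcases hi with hi | rfl
      · exact h i hi
      · rw [← Nat.eq_of_beq_eq_true hc.2]
        exact hstep _ _ (h _ hc.1)

theorem exists_move (x : V6) (hx : x ≠ 0) : ∃ h : ↥C0, img h (vec x0) = x := by
  obtain ⟨hlt, hx0⟩ := x0_ok
  have hc : code x ≠ 0 := fun h => hx (by rw [← (vec_code x).1, h]; decide +kernel)
  obtain ⟨-, h, hh⟩ := reach_ok (fun k => k < 64 ∧ ∃ h : ↥C0, img h (vec x0) = vec k)
    (fun s p ⟨hp, h, e⟩ => ⟨(gen_img s hp).2, gen s * h, by rw [img_mul, e, (gen_img s hp).1]⟩)
    tree (2 ^ x0) (fun i hi => by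
      rw [Nat.testBit_two_pow, decide_eq_true_eq] at hi
      exact hi ▸ ⟨hlt, 1, img_one _⟩)
    (code x) (by
      rw [tree_ok]
      exact (by decide +kernel : ∀ k : Fin 64, (k : ℕ) ≠ 0 → (2 ^ 64 - 2).testBit k = true) ⟨code x, (vec_code x).2⟩ hc)
  exact ⟨h, hh.trans (vec_code x).1⟩

theorem gen_zero_img (x : V6) : img (gen 0) x = x + om x (vec x0) • vec x0 := by
  have hx := vec_code x
  have h := (gen_img 0 hx.2).1
  rw [hx.1] at h
  rw [h]
  have h' := trans_ok ⟨code x, hx.2⟩
  simp only [hx.1] at h'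
  exact h'

theorem phi_surjective : Function.Surjective phi := by
  rw [← MonoidHom.range_eq_top, eq_top_iff, ← Classical.SpGen.closure_transvections, Subgroup.closure_le]
  rintro A ⟨w, c, hA⟩
  by_cases h0 : c = 0 ∨ w = 0
  · refine ⟨1, Subtype.ext ?_⟩
    rw [map_one, hA]
    rcases h0 with rfl | rfl <;> simp [Cfsg.sympTransvection]
  push Not at h0
  obtain rfl : c = 1 := ((by decide : ∀ c : ZMod 2, c = 0 ∨ c = 1) c).resolve_left h0.1
  obtain ⟨h, hh⟩ := exists_move w h0.2
  refine ⟨h * gen 0 * h⁻¹, Subtype.ext (Matrix.ext_iff_mulVec.2 fun x => ?_)⟩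
  rw [phi_apply, hA, img_mul, img_mul, gen_zero_img]
  obtain ⟨y, rfl⟩ : ∃ y, img h y = x := ⟨img h⁻¹ x, by rw [← img_mul, mul_inv_cancel, img_one]⟩
  rw [← img_mul h⁻¹ h, inv_mul_cancel, img_one, img_add]
  rw [show img h (om y (vec x0) • vec x0) = om y (vec x0) • img h (vec x0) from (lin h).map_smul _ _, hh]
  rw [← om_img h y (vec x0), hh, sympTransvection, Matrix.add_mulVec, Matrix.one_mulVec, one_smul,
    Matrix.vecMulVec_mulVec]
  congr 1
  rw [show (Matrix.J (Fin 3) (ZMod 2) *ᵥ w) ⬝ᵥ img h y = om (img h y) w from by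
    rw [dotProduct_comm, om_dot]]
  ext i
  simp [mul_comm]

end Cfsg.Agent.Local.FS.CoTwoInv
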