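import Cfsg.Agent.Lib.Spor.Co1Simple

/-!
Fast evaluation of monomial-and-sextet words on coordinate lists.
-/

set_option autoImplicit false
set_option maxRecDepth 100000

namespace Cfsg.Agent.Local.FS.McLSmall

open Cfsg Cfsg.Agent.Spor

local notation "Zv" => GolayPt → ℤ

/-- nonzero entries of a row of twice the sextet matrix -/
def xiRow (k : ℕ) : List (ℕ × ℤ) :=
  ((List.range 24).filter fun j => !(xiM (pt k) (pt j) == 0)).map fun j => (j, xiM (pt k) (pt j))

/-- the table of these rows -/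
def xiTab : List (List (ℕ × ℤ)) := [[(0, 1), (1, -1), (2, -1), (3, -1)],
  [(0, -1), (1, 1), (2, -1), (3, -1)],
  [(0, -1), (1, -1), (2, 1), (3, -1)],
  [(0, -1), (1, -1), (2, -1), (3, 1)],
  [(4, -1), (7, 1), (10, 1), (12, 1)],
  [(5, -1), (14, 1), (17, 1), (23, 1)],
  [(6, -1), (9, 1), (11, 1), (22, 1)],
  [(4, 1), (7, -1), (10, 1), (12, 1)],
  [(8, -1), (15, 1), (16, 1), (19, 1)],
  [(6, 1), (9, -1), (11, 1), (22, 1)],
  [(4, 1), (7, 1), (10, -1), (12, 1)],
  [(6, 1), (9, 1), (11, -1), (22, 1)],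
  [(4, 1), (7, 1), (10, 1), (12, -1)],
  [(13, -1), (18, 1), (20, 1), (21, 1)],
  [(5, 1), (14, -1), (17, 1), (23, 1)],
  [(8, 1), (15, -1), (16, 1), (19, 1)],
  [(8, 1), (15, 1), (16, -1), (19, 1)],
  [(5, 1), (14, 1), (17, -1), (23, 1)],
  [(13, 1), (18, -1), (20, 1), (21, 1)],
  [(8, 1), (15, 1), (16, 1), (19, -1)],
  [(13, 1), (18, 1), (20, -1), (21, 1)],
  [(13, 1), (18, 1), (20, 1), (21, -1)],
  [(6, 1), (9, 1), (11, 1), (22, -1)],
  [(5, 1), (14, 1), (17, 1), (23, -1)]]

theorem xiTab_eq : (List.range 24).map xiRow = xiTab := by decide +kernel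

theorem sum_pts (f : GolayPt → ℤ) : ∑ q, f q = ((List.range 24).map fun j => f (pt j)).sum := by
  have e : (Finset.univ : Finset GolayPt) = ((List.range 24).map pt).toFinset := by decide +kernel
  have hn : ((List.range 24).map pt).Nodup := by decide +kernel
  rw [e, List.sum_toFinset _ hn, List.map_map]
  rfl

theorem xi2_row (y : Zv) (k : ℕ) : xi2 y (pt k) = ((xiRow k).map fun w => w.2 * y (pt w.1)).sum := by
  rw [xi2, sum_pts, xiRow, List.map_map]
  induction List.range 24 with
  | nil => rfl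
  | cons a l ih =>
    by_cases h : xiM (pt k) (pt a) = 0
    · simp [h, ih]
    · simp [h, ih]

/-- one step on coordinate lists, evaluated sparsely -/
def fev (op : LOp) (l : List ℤ) : List ℤ :=
  match op with
  | .xiO => xiTab.map fun r => ((r.map fun w => w.2 * vecOf l (pt w.1)).sum) / 2
  | _ => op.ev l

theorem fev_eq (op : LOp) (l : List ℤ) : fev op l = op.ev l := by
  cases op with
  | xiO =>
    simp only [fev, LOp.ev]
    rw [← xiTab_eq, List.map_map]
    refine List.map_congr_left fun k _ => ?_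
    show _ = xi2 (vecOf l) (pt k) / 2
    rw [xi2_row]
    rfl
  | sgO m => rfl
  | plO w => rfl

/-- a word on coordinate lists -/
def fword (w : List LOp) (l : List ℤ) : List ℤ := w.foldr fev l

theorem vecOf_fword : ∀ (w : List LOp) (l : List ℤ), vecOf (fword w l) = wordApp w (vecOf l)
  | [], _ => rfl
  | op :: w, l => by
    show vecOf (fev op (fword w l)) = op.app (wordApp w (vecOf l))
    rw [fev_eq, vecOf_ev, vecOf_fword]

end Cfsg.Agent.Local.FS.McLSmall
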