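import Cfsg.Agent.Lib.Local.FS.CoTwoInvData
import Cfsg.Agent.Lib.Local.FS.McLPerm
import Cfsg.Agent.Lib.Spor.LeechSixteen
import Cfsg.Agent.Lib.Spor.MclConfig
import Cfsg.Agent.Lib.Spor.PermCert

/-!
Checks on the data for the centralizer of an involution in the second Conway group.
-/

set_option autoImplicit false
set_option maxRecDepth 100000

namespace Cfsg.Agent.Local.FS.CoTwoInv

open Cfsg Cfsg.Agent.Spor Cfsg.Agent.Spor.CC
open Cfsg.Agent.Local.FS.McLSmall (fword)

local notation "Zv" => GolayPt → ℤ

/-- column vectors -/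
abbrev V6 : Type := Fin 3 ⊕ Fin 3 → ZMod 2

/-- the number of a vector -/
def code (x : V6) : ℕ :=
  (x (.inl 0)).val + 2 * (x (.inl 1)).val + 4 * (x (.inl 2)).val + 8 * (x (.inr 0)).val +
    16 * (x (.inr 1)).val + 32 * (x (.inr 2)).val

/-- the vector with a number -/
def vec (k : ℕ) : V6 :=
  Sum.elim ![((k % 2 : ℕ) : ZMod 2), ((k / 2 % 2 : ℕ) : ZMod 2), ((k / 4 % 2 : ℕ) : ZMod 2)]
    ![((k / 8 % 2 : ℕ) : ZMod 2), ((k / 16 % 2 : ℕ) : ZMod 2), ((k / 32 % 2 : ℕ) : ZMod 2)]

/-- the alternating form -/
def om (x y : V6) : ZMod 2 :=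
  x (.inl 0) * y (.inr 0) + x (.inl 1) * y (.inr 1) + x (.inl 2) * y (.inr 2) +
    x (.inr 0) * y (.inl 0) + x (.inr 1) * y (.inl 1) + x (.inr 2) * y (.inl 2)

/-- the coordinates of a root -/
def row (k : ℕ) : List ℤ := roots.getD k []

/-- negation of coordinates -/
def negL (l : List ℤ) : List ℤ := l.map fun a => -a

/-- the sign change on coordinates -/
def epsL (l : List ℤ) : List ℤ :=
  (List.range 24).map fun k => if Nat.testBit epsMask k then -(l.getD k 0) else l.getD k 0

/-- the product of coordinates -/
def ldot (l l' : List ℤ) : ℤ := (List.zipWith (· * ·) l l').sum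

/-- a word -/
def word (s : Fin 2) : List LOp := words.getD s []

/-- the permutation of the classes -/
def pi (s : Fin 2) (k : ℕ) : ℕ := (piTab.getD s []).getD k 0

/-- the points reached along a tree -/
def reachM (f : Fin 2 → ℕ → ℕ) : List (ℕ × ℕ × ℕ) → ℕ → ℕ
  | [], seen => seen
  | e :: l, seen => reachM f l
      (bif seen.testBit e.2.1 && Nat.beq (f (Fin.ofNat 2 e.2.2) e.2.1) e.1 then seen ||| 2 ^ e.1 else seen)

/-- coordinates supported on the octad -/
def place (vals : List ℤ) : List ℤ := (List.range 24).map fun k => vals.getD (octPts.idxOf k) 0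

/-- all lists of a length over an alphabet -/
def allLists (alph : List ℤ) : ℕ → List (List ℤ)
  | 0 => [[]]
  | n + 1 => (allLists alph n).flatMap fun l => alph.map fun a => a :: l

/-- a candidate is a root -/
def candOK (vals : List ℤ) : Bool :=
  !((vals.map fun a => a * a).sum == 32 && vals.getD 0 0 + vals.getD 7 0 == 0) ||
    (List.range 63).any (fun k => place vals == row (k + 1) || place vals == negL (row (k + 1))) ||
      !leechCheck (vecOf (place vals))

/-- the mask of the change of a word under a permutation -/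
def dmask (l : List ℕ) (m : ℕ) : ℕ :=
  (List.range 24).foldr (fun k r => bif xor (Nat.testBit m (l.getD k 0)) (Nat.testBit m k) then 2 ^ k ||| r else r) 0

/-- two permutations commute and the first is an involution -/
def permOK (l l' : List ℕ) : Bool :=
  (List.range 24).all fun k => l.getD (l'.getD k 0) 0 == l'.getD (l.getD k 0) 0 && l.getD (l.getD k 0) 0 == k

theorem code_vec : ∀ k : Fin 64, code (vec k) = k := by decide +kernel

theorem vec_code : ∀ x : V6, vec (code x) = x ∧ code x < 64 := by decide +kernel

theorem root_facts : rangeOK (fun k => leechCheck (vecOf (row k)) && (row k).length == 24 &&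
    epsL (row k) == row k && ldot (rowOf pairRef) (row k) == 0 &&
    (k == 0 || ldot (row k) (row k) == 32)) 0 64 = true := by decide +kernel

theorem root_zero : row 0 = List.replicate 24 0 := by decide +kernel

theorem root_form : rangeOK (fun i => (List.range 64).all fun j =>
    ldot (row i) (row j) % 32 == 16 * ((om (vec i) (vec j)).val : ℤ)) 0 64 = true := by decide +kernel

theorem root_distinct : rangeOK (fun i => (List.range 64).all fun j =>
    i == j || !(row i == row j || row i == negL (row j))) 0 64 = true := by decide +kernel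

theorem om_nondeg : ∀ x : Fin 64, (x : ℕ) ≠ 0 → ∃ y : Fin 64, om (vec x) (vec y) = 1 := by decide +kernel

theorem om_common : rangeOK (fun x => (List.range 64).all fun y => x == 0 || y == 0 ||
    (List.range 64).any fun z => om (vec x) (vec z) == 1 && om (vec y) (vec z) == 1) 0 64 = true := by decide +kernel

theorem words_ok : ∀ s : Fin 2, ((word s).all LOp.ok && fword (word s) (rowOf pairRef) == rowOf pairRef &&
    (List.range 24).all (fun i =>
      fword (word s) (epsL (rowOf (Pi.single (pt i) 8))) == epsL (fword (word s) (rowOf (Pi.single (pt i) 8))))) = true := by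
  decide +kernel

theorem steps_ok : ∀ s : Fin 2, rangeOK (fun k => Nat.blt (pi s k) 64 &&
    (fword (word s) (row k) == row (pi s k) || fword (word s) (row k) == negL (row (pi s k)))) 0 64 = true := by
  decide +kernel

theorem tree_ok : reachM pi tree (2 ^ x0) = 2 ^ 64 - 2 := by decide +kernel

theorem trans_ok : ∀ k : Fin 64, vec (pi 0 k) = vec k + om (vec k) (vec x0) • vec x0 := by decide +kernel

theorem x0_ok : x0 < 64 ∧ x0 ≠ 0 := by decide +kernel

theorem oct_ok : octPts = [0, 1, 2, 3, 5, 14, 17, 23] ∧ epsMask < 2 ^ 24 ∧ inCode epsMask = true ∧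
    ((List.range 24).all fun k => Nat.testBit epsMask k == !octPts.contains k) = true := by
  refine ⟨?_, ?_, ?_, ?_⟩ <;> decide +kernel

theorem cand4 : (allLists [0, 4, -4] 8).all candOK = true := by decide +kernel

theorem cand2 : (allLists [0, 2, -2] 8).all candOK = true := by decide +kernel

theorem five_ok : fiveStab.length = 48 ∧ (fiveStab.all fun l => m24ok l && l.length == 24 &&
    ([1, 2, 3, 5, 14] : List ℕ).all (fun k => l.getD k 0 == k) &&
    (!(l.getD 17 0 == 17) || octStab.contains l)) = true ∧ fiveStab.Nodup := by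
  refine ⟨?_, ?_, ?_⟩ <;> decide +kernel

theorem oct_stab_ok : octStab.length = 16 ∧ (octStab.all fun l => m24ok l && l.length == 24 &&
    octPts.all (fun k => l.getD k 0 == k)) = true ∧ octStab.Nodup ∧
    (octStab.all fun l => octStab.all fun l' => permOK l l') = true ∧
    octStab.contains (List.range 24) = true := by
  refine ⟨?_, ?_, ?_, ?_, ?_⟩ <;> decide +kernel

theorem signs_ok : offSigns.length = 32 ∧ offSigns.Nodup ∧
    (offSigns.all fun m => inCode m && Nat.blt m (2 ^ 24) && octPts.all (fun k => !Nat.testBit m k)) = true ∧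
    (codeMasks.all fun m => octPts.any (fun k => Nat.testBit m k) || offSigns.contains m) = true ∧
    offSigns.contains 0 = true ∧ offSigns.contains epsMask = true := by
  refine ⟨?_, ?_, ?_, ?_, ?_, ?_⟩ <;> decide +kernel

theorem action_ok : (octStab.all fun l => offSigns.all fun m => dmask l m == 0 || dmask l m == epsMask) = true := by
  decide +kernel

theorem center_ok : (octStab.all fun l => l == List.range 24 || offSigns.any fun m => !(dmask l m == 0)) = true ∧
    (offSigns.all fun m => m == 0 || m == epsMask || octStab.any fun l => !(dmask l m == 0)) = true := by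
  refine ⟨?_, ?_⟩ <;> decide +kernel

theorem unit_ok : (unitDec.all fun d => Nat.blt d.2.1 64 && Nat.blt d.2.2.2.1 64 &&
    rowOf (Pi.single (pt d.1) 8) == List.zipWith (fun a b => d.2.2.1 * a + d.2.2.2.2 * b) (row d.2.1) (row d.2.2.2.1)) = true ∧
    unitDec.map Prod.fst = [1, 2, 3, 5, 14, 17] ∧
    rowOf (Pi.single (pt 0) 8) = List.zipWith (· + ·) (rowOf pairRef) (row 36) ∧
    rowOf (Pi.single (pt 23) 8) = List.zipWith (· - ·) (rowOf pairRef) (row 36) := by
  refine ⟨?_, ?_, ?_, ?_⟩ <;> decide +kernel

end Cfsg.Agent.Local.FS.CoTwoInv
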