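import Cfsg.Agent.Lib.Spor.Co1Simple

/-!
Data for the centralizer of an involution in the second Conway group.
-/

set_option autoImplicit false
set_option maxRecDepth 100000

namespace Cfsg.Agent.Local.FS.CoTwoInv

open Cfsg.Agent.Spor

/-- the mask of the sign change -/
def epsMask : ℕ := 8241104

/-- the octad fixed by the sign change -/
def octPts : List ℕ := [0, 1, 2, 3, 5, 14, 17, 23]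

/-- the 63 root pairs, numbered by their class modulo two -/
def roots : List (List ℤ) := [[0, 0, 0, 0, 0, 0, 0, 0, 0, 0, 0, 0, 0, 0, 0, 0, 0, 0, 0, 0, 0, 0, 0, 0],
  [0, 0, 0, 0, 0, 0, 0, 0, 0, 0, 0, 0, 0, 0, 4, 0, 0, -4, 0, 0, 0, 0, 0, 0],
  [0, 0, 4, -4, 0, 0, 0, 0, 0, 0, 0, 0, 0, 0, 0, 0, 0, 0, 0, 0, 0, 0, 0, 0],
  [0, 4, 0, 0, 0, 4, 0, 0, 0, 0, 0, 0, 0, 0, 0, 0, 0, 0, 0, 0, 0, 0, 0, 0],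
  [2, -2, -2, -2, 0, 2, 0, 0, 0, 0, 0, 0, 0, 0, 2, 0, 0, 2, 0, 0, 0, 0, 0, -2],
  [2, 2, 2, 2, 0, -2, 0, 0, 0, 0, 0, 0, 0, 0, 2, 0, 0, 2, 0, 0, 0, 0, 0, -2],
  [2, 2, -2, -2, 0, -2, 0, 0, 0, 0, 0, 0, 0, 0, -2, 0, 0, -2, 0, 0, 0, 0, 0, -2],
  [2, -2, 2, 2, 0, 2, 0, 0, 0, 0, 0, 0, 0, 0, -2, 0, 0, -2, 0, 0, 0, 0, 0, -2],
  [0, 0, 0, 0, 0, 4, 0, 0, 0, 0, 0, 0, 0, 0, -4, 0, 0, 0, 0, 0, 0, 0, 0, 0],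
  [0, 0, 0, 0, 0, 4, 0, 0, 0, 0, 0, 0, 0, 0, 0, 0, 0, -4, 0, 0, 0, 0, 0, 0],
  [0, 4, 0, 0, 0, 0, 0, 0, 0, 0, 0, 0, 0, 0, 0, 0, 0, 4, 0, 0, 0, 0, 0, 0],
  [0, 4, 0, 0, 0, 0, 0, 0, 0, 0, 0, 0, 0, 0, 4, 0, 0, 0, 0, 0, 0, 0, 0, 0],
  [2, 2, 2, 2, 0, 2, 0, 0, 0, 0, 0, 0, 0, 0, 2, 0, 0, -2, 0, 0, 0, 0, 0, -2],
  [2, 2, 2, 2, 0, 2, 0, 0, 0, 0, 0, 0, 0, 0, -2, 0, 0, 2, 0, 0, 0, 0, 0, -2],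
  [2, -2, 2, 2, 0, -2, 0, 0, 0, 0, 0, 0, 0, 0, -2, 0, 0, 2, 0, 0, 0, 0, 0, -2],
  [2, -2, 2, 2, 0, -2, 0, 0, 0, 0, 0, 0, 0, 0, 2, 0, 0, -2, 0, 0, 0, 0, 0, -2],
  [0, 4, -4, 0, 0, 0, 0, 0, 0, 0, 0, 0, 0, 0, 0, 0, 0, 0, 0, 0, 0, 0, 0, 0],
  [0, 0, 0, 4, 0, 4, 0, 0, 0, 0, 0, 0, 0, 0, 0, 0, 0, 0, 0, 0, 0, 0, 0, 0],
  [0, 4, 0, -4, 0, 0, 0, 0, 0, 0, 0, 0, 0, 0, 0, 0, 0, 0, 0, 0, 0, 0, 0, 0],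
  [0, 0, 4, 0, 0, 4, 0, 0, 0, 0, 0, 0, 0, 0, 0, 0, 0, 0, 0, 0, 0, 0, 0, 0],
  [2, -2, -2, 2, 0, -2, 0, 0, 0, 0, 0, 0, 0, 0, -2, 0, 0, -2, 0, 0, 0, 0, 0, -2],
  [2, 2, 2, -2, 0, 2, 0, 0, 0, 0, 0, 0, 0, 0, -2, 0, 0, -2, 0, 0, 0, 0, 0, -2],
  [2, -2, 2, -2, 0, -2, 0, 0, 0, 0, 0, 0, 0, 0, -2, 0, 0, -2, 0, 0, 0, 0, 0, -2],
  [2, 2, -2, 2, 0, 2, 0, 0, 0, 0, 0, 0, 0, 0, -2, 0, 0, -2, 0, 0, 0, 0, 0, -2],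
  [0, 0, 0, 4, 0, 0, 0, 0, 0, 0, 0, 0, 0, 0, 0, 0, 0, 4, 0, 0, 0, 0, 0, 0],
  [0, 0, 0, 4, 0, 0, 0, 0, 0, 0, 0, 0, 0, 0, 4, 0, 0, 0, 0, 0, 0, 0, 0, 0],
  [0, 0, 4, 0, 0, 0, 0, 0, 0, 0, 0, 0, 0, 0, 0, 0, 0, 4, 0, 0, 0, 0, 0, 0],
  [0, 0, 4, 0, 0, 0, 0, 0, 0, 0, 0, 0, 0, 0, 4, 0, 0, 0, 0, 0, 0, 0, 0, 0],
  [2, 2, 2, -2, 0, -2, 0, 0, 0, 0, 0, 0, 0, 0, -2, 0, 0, 2, 0, 0, 0, 0, 0, -2],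
  [2, 2, 2, -2, 0, -2, 0, 0, 0, 0, 0, 0, 0, 0, 2, 0, 0, -2, 0, 0, 0, 0, 0, -2],
  [2, 2, -2, 2, 0, -2, 0, 0, 0, 0, 0, 0, 0, 0, -2, 0, 0, 2, 0, 0, 0, 0, 0, -2],
  [2, 2, -2, 2, 0, -2, 0, 0, 0, 0, 0, 0, 0, 0, 2, 0, 0, -2, 0, 0, 0, 0, 0, -2],
  [2, 2, 2, 2, 0, -2, 0, 0, 0, 0, 0, 0, 0, 0, -2, 0, 0, -2, 0, 0, 0, 0, 0, -2],
  [2, -2, -2, -2, 0, 2, 0, 0, 0, 0, 0, 0, 0, 0, -2, 0, 0, -2, 0, 0, 0, 0, 0, -2],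
  [2, -2, 2, 2, 0, 2, 0, 0, 0, 0, 0, 0, 0, 0, 2, 0, 0, 2, 0, 0, 0, 0, 0, -2],
  [2, 2, -2, -2, 0, -2, 0, 0, 0, 0, 0, 0, 0, 0, 2, 0, 0, 2, 0, 0, 0, 0, 0, -2],
  [4, 0, 0, 0, 0, 0, 0, 0, 0, 0, 0, 0, 0, 0, 0, 0, 0, 0, 0, 0, 0, 0, 0, -4],
  [0, 0, 0, 0, 0, 0, 0, 0, 0, 0, 0, 0, 0, 0, 4, 0, 0, 4, 0, 0, 0, 0, 0, 0],
  [0, 0, 4, 4, 0, 0, 0, 0, 0, 0, 0, 0, 0, 0, 0, 0, 0, 0, 0, 0, 0, 0, 0, 0],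
  [0, 4, 0, 0, 0, -4, 0, 0, 0, 0, 0, 0, 0, 0, 0, 0, 0, 0, 0, 0, 0, 0, 0, 0],
  [2, -2, -2, -2, 0, -2, 0, 0, 0, 0, 0, 0, 0, 0, -2, 0, 0, 2, 0, 0, 0, 0, 0, -2],
  [2, -2, -2, -2, 0, -2, 0, 0, 0, 0, 0, 0, 0, 0, 2, 0, 0, -2, 0, 0, 0, 0, 0, -2],
  [2, 2, -2, -2, 0, 2, 0, 0, 0, 0, 0, 0, 0, 0, 2, 0, 0, -2, 0, 0, 0, 0, 0, -2],
  [2, 2, -2, -2, 0, 2, 0, 0, 0, 0, 0, 0, 0, 0, -2, 0, 0, 2, 0, 0, 0, 0, 0, -2],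
  [0, 0, 0, 0, 0, 4, 0, 0, 0, 0, 0, 0, 0, 0, 4, 0, 0, 0, 0, 0, 0, 0, 0, 0],
  [0, 0, 0, 0, 0, 4, 0, 0, 0, 0, 0, 0, 0, 0, 0, 0, 0, 4, 0, 0, 0, 0, 0, 0],
  [0, 4, 0, 0, 0, 0, 0, 0, 0, 0, 0, 0, 0, 0, 0, 0, 0, -4, 0, 0, 0, 0, 0, 0],
  [0, 4, 0, 0, 0, 0, 0, 0, 0, 0, 0, 0, 0, 0, -4, 0, 0, 0, 0, 0, 0, 0, 0, 0],
  [2, 2, 2, -2, 0, 2, 0, 0, 0, 0, 0, 0, 0, 0, 2, 0, 0, 2, 0, 0, 0, 0, 0, -2],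
  [2, -2, -2, 2, 0, -2, 0, 0, 0, 0, 0, 0, 0, 0, 2, 0, 0, 2, 0, 0, 0, 0, 0, -2],
  [2, 2, -2, 2, 0, 2, 0, 0, 0, 0, 0, 0, 0, 0, 2, 0, 0, 2, 0, 0, 0, 0, 0, -2],
  [2, -2, 2, -2, 0, -2, 0, 0, 0, 0, 0, 0, 0, 0, 2, 0, 0, 2, 0, 0, 0, 0, 0, -2],
  [0, 4, 4, 0, 0, 0, 0, 0, 0, 0, 0, 0, 0, 0, 0, 0, 0, 0, 0, 0, 0, 0, 0, 0],
  [0, 0, 0, 4, 0, -4, 0, 0, 0, 0, 0, 0, 0, 0, 0, 0, 0, 0, 0, 0, 0, 0, 0, 0],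
  [0, 4, 0, 4, 0, 0, 0, 0, 0, 0, 0, 0, 0, 0, 0, 0, 0, 0, 0, 0, 0, 0, 0, 0],
  [0, 0, 4, 0, 0, -4, 0, 0, 0, 0, 0, 0, 0, 0, 0, 0, 0, 0, 0, 0, 0, 0, 0, 0],
  [2, -2, -2, 2, 0, 2, 0, 0, 0, 0, 0, 0, 0, 0, 2, 0, 0, -2, 0, 0, 0, 0, 0, -2],
  [2, -2, -2, 2, 0, 2, 0, 0, 0, 0, 0, 0, 0, 0, -2, 0, 0, 2, 0, 0, 0, 0, 0, -2],
  [2, -2, 2, -2, 0, 2, 0, 0, 0, 0, 0, 0, 0, 0, 2, 0, 0, -2, 0, 0, 0, 0, 0, -2],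
  [2, -2, 2, -2, 0, 2, 0, 0, 0, 0, 0, 0, 0, 0, -2, 0, 0, 2, 0, 0, 0, 0, 0, -2],
  [0, 0, 0, 4, 0, 0, 0, 0, 0, 0, 0, 0, 0, 0, 0, 0, 0, -4, 0, 0, 0, 0, 0, 0],
  [0, 0, 0, 4, 0, 0, 0, 0, 0, 0, 0, 0, 0, 0, -4, 0, 0, 0, 0, 0, 0, 0, 0, 0],
  [0, 0, 4, 0, 0, 0, 0, 0, 0, 0, 0, 0, 0, 0, 0, 0, 0, -4, 0, 0, 0, 0, 0, 0],
  [0, 0, 4, 0, 0, 0, 0, 0, 0, 0, 0, 0, 0, 0, -4, 0, 0, 0, 0, 0, 0, 0, 0, 0]]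

/-- the point of the transvection -/
def x0 : ℕ := 36

/-- the words -/
def words : List (List LOp) := [[.sgO 8088382],
  [.plO [5, 14, 1, 3, 21, 2, 20, 10, 19, 18, 12, 4, 13, 22, 0, 9, 16, 17, 6, 11, 15, 8, 7, 23], .sgO 6233849, .xiO, .plO [17, 14, 3, 2, 22, 23, 13, 18, 16, 21, 20, 9, 6, 15, 5, 12, 19, 1, 8, 10, 4, 7, 11, 0], .sgO 8221941]]

/-- the permutations of the classes -/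
def piTab : List (List ℕ) := [[0, 1, 2, 3, 32, 33, 34, 35, 8, 9, 10, 11, 40, 41, 42, 43, 16, 17, 18, 19, 48, 49, 50, 51, 24, 25, 26, 27, 56, 57, 58, 59, 4, 5, 6, 7, 36, 37, 38, 39, 12, 13, 14, 15, 44, 45, 46, 47, 20, 21, 22, 23, 52, 53, 54, 55, 28, 29, 30, 31, 60, 61, 62, 63],
  [0, 53, 63, 10, 40, 29, 23, 34, 5, 48, 58, 15, 45, 24, 18, 39, 7, 50, 56, 13, 47, 26, 16, 37, 2, 55, 61, 8, 42, 31, 21, 32, 6, 51, 57, 12, 46, 27, 17, 36, 3, 54, 60, 9, 43, 30, 20, 33, 1, 52, 62, 11, 41, 28, 22, 35, 4, 49, 59, 14, 44, 25, 19, 38]]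

/-- a spanning tree -/
def tree : List (ℕ × ℕ × ℕ) := [(46, 36, 1), (20, 46, 1), (48, 20, 0), (47, 20, 1), (1, 48, 1), (33, 47, 1), (53, 1, 1), (5, 33, 0), (51, 33, 1), (28, 53, 1), (29, 5, 1), (23, 51, 0), (11, 51, 1), (56, 28, 0), (42, 28, 1), (57, 29, 0), (31, 29, 1), (37, 23, 1), (15, 11, 1), (4, 56, 1), (14, 42, 0), (60, 42, 1), (49, 57, 1), (59, 31, 0), (32, 31, 1), (27, 37, 1), (43, 15, 0), (39, 15, 1), (40, 4, 1), (18, 14, 1), (44, 60, 1), (21, 49, 0), (52, 49, 1), (6, 32, 1), (8, 27, 1), (9, 43, 1), (12, 40, 0), (3, 40, 1), (26, 21, 1), (41, 52, 1), (34, 6, 0), (45, 12, 1), (10, 3, 1), (61, 26, 1), (13, 41, 0), (54, 41, 1), (30, 45, 1), (58, 10, 1), (25, 61, 1), (24, 13, 1), (22, 54, 1), (55, 25, 1), (2, 24,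 1), (50, 22, 0), (16, 22, 1), (35, 55, 1), (63, 2, 1), (62, 50, 1), (7, 16, 1), (38, 63, 1), (19, 62, 1), (17, 38, 1)]

/-- the permutations fixing five points of the octad -/
def fiveStab : List (List ℕ) := [[0, 1, 2, 3, 4, 5, 6, 7, 8, 9, 10, 11, 12, 13, 14, 15, 16, 17, 18, 19, 20, 21, 22, 23],
  [0, 1, 2, 3, 6, 5, 4, 22, 20, 12, 11, 10, 9, 19, 14, 18, 21, 17, 15, 13, 8, 16, 7, 23],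
  [0, 1, 2, 3, 7, 5, 22, 4, 15, 11, 12, 9, 10, 21, 14, 8, 19, 17, 20, 16, 18, 13, 6, 23],
  [0, 1, 2, 3, 8, 5, 20, 15, 4, 21, 19, 13, 16, 11, 14, 7, 12, 17, 22, 10, 6, 9, 18, 23],
  [0, 1, 2, 3, 9, 5, 12, 11, 21, 4, 22, 7, 6, 15, 14, 13, 20, 17, 19, 18, 16, 8, 10, 23],
  [0, 1, 2, 3, 10, 5, 11, 12, 19, 22, 4, 6, 7, 20, 14, 16, 15, 17, 21, 8, 13, 18, 9, 23],
  [0, 1, 2, 3, 11, 5, 10, 9, 13, 7, 6, 4, 22, 8, 14, 21, 18, 17, 16, 20, 19, 15, 12, 23],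
  [0, 1, 2, 3, 12, 5, 9, 10, 16, 6, 7, 22, 4, 18, 14, 19, 8, 17, 13, 15, 21, 20, 11, 23],
  [0, 1, 2, 3, 13, 5, 19, 21, 11, 15, 20, 8, 18, 4, 14, 9, 22, 17, 12, 6, 10, 7, 16, 23],
  [0, 1, 2, 3, 15, 5, 18, 8, 7, 13, 16, 21, 19, 9, 14, 4, 10, 17, 6, 12, 22, 11, 20, 23],
  [0, 1, 2, 3, 16, 5, 21, 19, 12, 20, 15, 18, 8, 22, 14, 10, 4, 17, 11, 7, 9, 6, 13, 23],
  [0, 1, 2, 3, 18, 5, 15, 20, 22, 19, 21, 16, 13, 12, 14, 6, 11, 17, 4, 9, 7, 10, 8, 23],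
  [0, 1, 2, 3, 19, 5, 13, 16, 10, 18, 8, 20, 15, 6, 14, 12, 7, 17, 9, 4, 11, 22, 21, 23],
  [0, 1, 2, 3, 20, 5, 8, 18, 6, 16, 13, 19, 21, 10, 14, 22, 9, 17, 7, 11, 4, 12, 15, 23],
  [0, 1, 2, 3, 21, 5, 16, 13, 9, 8, 18, 15, 20, 7, 14, 11, 6, 17, 10, 22, 12, 4, 19, 23],
  [0, 1, 2, 3, 22, 5, 7, 6, 18, 10, 9, 12, 11, 16, 14, 20, 13, 17, 8, 21, 15, 19, 4, 23],
  [17, 1, 2, 3, 4, 5, 12, 20, 13, 6, 16, 8, 9, 11, 14, 10, 15, 23, 7, 22, 18, 19, 21, 0],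
  [17, 1, 2, 3, 6, 5, 9, 8, 19, 4, 21, 20, 12, 10, 14, 11, 18, 23, 22, 7, 15, 13, 16, 0],
  [17, 1, 2, 3, 7, 5, 10, 18, 21, 22, 19, 15, 11, 9, 14, 12, 8, 23, 4, 6, 20, 16, 13, 0],
  [17, 1, 2, 3, 8, 5, 16, 6, 11, 20, 12, 4, 21, 13, 14, 19, 7, 23, 15, 18, 22, 10, 9, 0],
  [17, 1, 2, 3, 9, 5, 6, 16, 15, 12, 20, 21, 4, 7, 14, 22, 13, 23, 11, 10, 19, 18, 8, 0],
  [17, 1, 2, 3, 10, 5, 7, 13, 20, 11, 15, 19, 22, 6, 14, 4, 16, 23, 12, 9, 21, 8, 18, 0],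
  [17, 1, 2, 3, 11, 5, 22, 19, 8, 10, 18, 13, 7, 4, 14, 6, 21, 23, 9, 12, 16, 20, 15, 0],
  [17, 1, 2, 3, 12, 5, 4, 21, 18, 9, 8, 16, 6, 22, 14, 7, 19, 23, 10, 11, 13, 15, 20, 0],
  [17, 1, 2, 3, 13, 5, 18, 10, 4, 19, 22, 11, 15, 8, 14, 20, 9, 23, 21, 16, 12, 6, 7, 0],
  [17, 1, 2, 3, 15, 5, 19, 22, 9, 18, 10, 7, 13, 21, 14, 16, 4, 23, 8, 20, 6, 12, 11, 0],
  [17, 1, 2, 3, 16, 5, 8, 9, 22, 21, 4, 12, 20, 18, 14, 15, 10, 23, 19, 13, 11, 7, 6, 0],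
  [17, 1, 2, 3, 18, 5, 13, 7, 12, 15, 11, 22, 19, 16, 14, 21, 6, 23, 20, 8, 4, 9, 10, 0],
  [17, 1, 2, 3, 19, 5, 15, 11, 6, 13, 7, 10, 18, 20, 14, 8, 12, 23, 16, 21, 9, 4, 22, 0],
  [17, 1, 2, 3, 20, 5, 21, 4, 10, 8, 9, 6, 16, 19, 14, 13, 22, 23, 18, 15, 7, 11, 12, 0],
  [17, 1, 2, 3, 21, 5, 20, 12, 7, 16, 6, 9, 8, 15, 14, 18, 11, 23, 13, 19, 10, 22, 4, 0],
  [17, 1, 2, 3, 22, 5, 11, 15, 16, 7, 13, 18, 10, 12, 14, 9, 20, 23, 6, 4, 8, 21, 19, 0],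
  [23, 1, 2, 3, 4, 5, 9, 18, 11, 12, 15, 13, 6, 8, 14, 16, 10, 0, 20, 21, 7, 22, 19, 17],
  [23, 1, 2, 3, 6, 5, 12, 15, 10, 9, 18, 19, 4, 20, 14, 21, 11, 0, 8, 16, 22, 7, 13, 17],
  [23, 1, 2, 3, 7, 5, 11, 20, 9, 10, 8, 21, 22, 15, 14, 19, 12, 0, 18, 13, 4, 6, 16, 17],
  [23, 1, 2, 3, 8, 5, 21, 22, 13, 16, 7, 11, 20, 4, 14, 12, 19, 0, 6, 9, 15, 18, 10, 17],
  [23, 1, 2, 3, 9, 5, 4, 19, 7, 6, 13, 15, 12, 21, 14, 20, 22, 0, 16, 8, 11, 10, 18, 17],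
  [23, 1, 2, 3, 10, 5, 22, 21, 6, 7, 16, 20, 11, 19, 14, 15, 4, 0, 13, 18, 12, 9, 8, 17],
  [23, 1, 2, 3, 11, 5, 7, 16, 4, 22, 21, 8, 10, 13, 14, 18, 6, 0, 19, 15, 9, 12, 20, 17],
  [23, 1, 2, 3, 12, 5, 6, 13, 22, 4, 19, 18, 9, 16, 14, 8, 7, 0, 21, 20, 10, 11, 15, 17],
  [23, 1, 2, 3, 13, 5, 15, 12, 8, 18, 9, 4, 19, 11, 14, 22, 20, 0, 10, 7, 21, 16, 6, 17],
  [23, 1, 2, 3, 15, 5, 13, 6, 21, 19, 4, 9, 18, 7, 14, 10, 16, 0, 22, 11, 8, 20, 12, 17],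
  [23, 1, 2, 3, 16, 5, 20, 11, 18, 8, 10, 22, 21, 12, 14, 4, 15, 0, 9, 6, 19, 13, 7, 17],
  [23, 1, 2, 3, 18, 5, 19, 4, 16, 13, 6, 12, 15, 22, 14, 11, 21, 0, 7, 10, 20, 8, 9, 17],
  [23, 1, 2, 3, 19, 5, 18, 9, 20, 15, 12, 6, 13, 10, 14, 7, 8, 0, 11, 22, 16, 21, 4, 17],
  [23, 1, 2, 3, 20, 5, 16, 7, 19, 21, 22, 10, 8, 6, 14, 9, 13, 0, 4, 12, 18, 15, 11, 17],
  [23, 1, 2, 3, 21, 5, 8, 10, 15, 20, 11, 7, 16, 9, 14, 6, 18, 0, 12, 4, 13, 19, 22, 17],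
  [23, 1, 2, 3, 22, 5, 10, 8, 12, 11, 20, 16, 7, 18, 14, 13, 9, 0, 15, 19, 6, 4, 21, 17]]

/-- the permutations fixing the octad pointwise -/
def octStab : List (List ℕ) := [[0, 1, 2, 3, 4, 5, 6, 7, 8, 9, 10, 11, 12, 13, 14, 15, 16, 17, 18, 19, 20, 21, 22, 23],
  [0, 1, 2, 3, 6, 5, 4, 22, 20, 12, 11, 10, 9, 19, 14, 18, 21, 17, 15, 13, 8, 16, 7, 23],
  [0, 1, 2, 3, 7, 5, 22, 4, 15, 11, 12, 9, 10, 21, 14, 8, 19, 17, 20, 16, 18, 13, 6, 23],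
  [0, 1, 2, 3, 8, 5, 20, 15, 4, 21, 19, 13, 16, 11, 14, 7, 12, 17, 22, 10, 6, 9, 18, 23],
  [0, 1, 2, 3, 9, 5, 12, 11, 21, 4, 22, 7, 6, 15, 14, 13, 20, 17, 19, 18, 16, 8, 10, 23],
  [0, 1, 2, 3, 10, 5, 11, 12, 19, 22, 4, 6, 7, 20, 14, 16, 15, 17, 21, 8, 13, 18, 9, 23],
  [0, 1, 2, 3, 11, 5, 10, 9, 13, 7, 6, 4, 22, 8, 14, 21, 18, 17, 16, 20, 19, 15, 12, 23],
  [0, 1, 2, 3, 12, 5, 9, 10, 16, 6, 7, 22, 4, 18, 14, 19, 8, 17, 13, 15, 21, 20, 11, 23],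
  [0, 1, 2, 3, 13, 5, 19, 21, 11, 15, 20, 8, 18, 4, 14, 9, 22, 17, 12, 6, 10, 7, 16, 23],
  [0, 1, 2, 3, 15, 5, 18, 8, 7, 13, 16, 21, 19, 9, 14, 4, 10, 17, 6, 12, 22, 11, 20, 23],
  [0, 1, 2, 3, 16, 5, 21, 19, 12, 20, 15, 18, 8, 22, 14, 10, 4, 17, 11, 7, 9, 6, 13, 23],
  [0, 1, 2, 3, 18, 5, 15, 20, 22, 19, 21, 16, 13, 12, 14, 6, 11, 17, 4, 9, 7, 10, 8, 23],
  [0, 1, 2, 3, 19, 5, 13, 16, 10, 18, 8, 20, 15, 6, 14, 12, 7, 17, 9, 4, 11, 22, 21, 23],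
  [0, 1, 2, 3, 20, 5, 8, 18, 6, 16, 13, 19, 21, 10, 14, 22, 9, 17, 7, 11, 4, 12, 15, 23],
  [0, 1, 2, 3, 21, 5, 16, 13, 9, 8, 18, 15, 20, 7, 14, 11, 6, 17, 10, 22, 12, 4, 19, 23],
  [0, 1, 2, 3, 22, 5, 7, 6, 18, 10, 9, 12, 11, 16, 14, 20, 13, 17, 8, 21, 15, 19, 4, 23]]

/-- the sign changes off the octad -/
def offSigns : List ℕ := [0, 337856, 628112, 832080, 1161408, 1351424, 1584464, 1903248, 2141072, 2460752, 2702848, 2890176, 3216208, 3421328, 3704512, 4038912, 4202192, 4536592, 4819776, 5024896, 5350928, 5538256, 5780352, 6100032, 6337856, 6656640, 6889680, 7079696, 7409024, 7612992, 7903248, 8241104]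

/-- eight times a unit vector from two roots -/
def unitDec : List (ℕ × ℕ × ℤ × ℕ × ℤ) := [(1, 54, 1, 18, 1), (2, 63, 1, 27, 1), (3, 61, 1, 25, 1), (5, 55, -1, 19, 1), (14, 63, -1, 27, 1), (17, 62, -1, 26, 1)]

end Cfsg.Agent.Local.FS.CoTwoInv
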