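import Cfsg.Agent.Lib.Local.FS.CoTwoInvAction
import Cfsg.Agent.Lib.Spor.LeechCentral
import Cfsg.Agent.Lib.Solv.Extraspecial

/-!
The kernel of the action is extraspecial of order 512.
-/

set_option autoImplicit false
set_option maxRecDepth 100000

namespace Cfsg.Agent.Local.FS.CoTwoInv

open Cfsg Cfsg.Agent.Spor Cfsg.Agent.Spor.CC
open scoped commutatorElement

local notation "Zv" => GolayPt → ℤ

theorem img_R_sign {g : ↥C0} (hg : phi g = 1) (x : V6) : g.1 • R x = R x ∨ g.1 • R x = -R x := by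
  have h := img_spec g x
  have e : img g x = x := by rw [← phi_apply, hg]; simp
  rwa [e] at h

theorem lperm_apply {l : List ℕ} (h : m24ok l = true) (p : GolayPt) :
    lperm l p = pt (l.getD (idx p) 0) := Rep.apply (rep_lperm (m24ok_lok h)) p

theorem lperm_inj {l l' : List ℕ} (h : m24ok l = true) (h' : m24ok l' = true) (hl : l.length = 24)
    (hl' : l'.length = 24) (e : lperm l = lperm l') : l = l' := by
  refine List.ext_getElem (hl.trans hl'.symm) fun k hk hk' => ?_
  have h1 := rep_lperm (m24ok_lok h) (pt k)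
  have h2 := rep_lperm (m24ok_lok h') (pt k)
  rw [idx_pt _ (hl ▸ hk), List.getD_eq_getElem _ _ hk] at h1
  rw [idx_pt _ (hl ▸ hk), List.getD_eq_getElem _ _ hk'] at h2
  rw [h1, h2, e]

theorem five_eq {σ : Equiv.Perm GolayPt} (hσ : σ ∈ M24)
    (hfix : ∀ k ∈ ([1, 2, 3, 5, 14] : List ℕ), σ (pt k) = pt k) : ∃ l ∈ fiveStab, lperm l = σ := by
  classical
  let x : Fin 5 ↪ GolayPt := ⟨![pt 1, pt 2, pt 3, pt 5, pt 14], by decide +kernel⟩
  have horb : MulAction.orbit ↥M24 x = Set.univ := Set.eq_univ_of_forall fun y => by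
    obtain ⟨τ, hτ, h⟩ := M24_trans le_rfl x y
    exact ⟨⟨τ, hτ⟩, DFunLike.ext _ _ h⟩
  have hcard : Nat.card (MulAction.orbit ↥M24 x) * Nat.card (MulAction.stabilizer ↥M24 x) = Nat.card ↥M24 := by
    rw [← Nat.card_prod]; exact Nat.card_congr (MulAction.orbitProdStabilizerEquivGroup ↥M24 x)
  rw [horb, Nat.card_univ, card_M24, Nat.card_eq_fintype_card (α := Fin 5 ↪ GolayPt),
    Fintype.card_embedding_eq, Fintype.card_fin, show Fintype.card GolayPt = 24 from rfl,
    show Nat.descFactorial 24 5 = 5100480 from rfl] at hcard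
  have h48 : Nat.card (MulAction.stabilizer ↥M24 x) = 48 := by omega
  have hmem : ∀ τ : Equiv.Perm GolayPt, ∀ hτ : τ ∈ M24, (∀ k ∈ ([1, 2, 3, 5, 14] : List ℕ), τ (pt k) = pt k) →
      (⟨τ, hτ⟩ : ↥M24) ∈ MulAction.stabilizer ↥M24 x := fun τ hτ h => by
    refine DFunLike.ext _ _ fun i => ?_
    show τ (x i) = x i
    fin_cases i
    exacts [h 1 (by simp), h 2 (by simp), h 3 (by simp), h 5 (by simp), h 14 (by simp)]
  obtain ⟨hlen, hall, hnd⟩ := five_ok
  have hl : ∀ i : Fin 48, m24ok (fiveStab.getD i []) = true ∧ (fiveStab.getD i []).length = 24 ∧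
      ∀ k ∈ ([1, 2, 3, 5, 14] : List ℕ), lperm (fiveStab.getD i []) (pt k) = pt k := fun i => by
    have hi : (i : ℕ) < fiveStab.length := lt_of_lt_of_eq i.2 hlen.symm
    rw [List.getD_eq_getElem _ _ hi]
    have h := List.all_eq_true.1 hall _ (List.getElem_mem hi)
    simp only [Bool.and_eq_true, beq_iff_eq, List.all_eq_true] at h
    refine ⟨h.1.1.1, h.1.1.2, fun k hk => ?_⟩
    have hk24 : k < 24 := by fin_cases hk <;> norm_num
    rw [lperm_apply h.1.1.1, idx_pt _ hk24, h.1.2 k hk]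
  let f : Fin 48 → ↥(MulAction.stabilizer ↥M24 x) := fun i =>
    ⟨⟨lperm (fiveStab.getD i []), lperm_mem (hl i).1⟩, hmem _ (lperm_mem (hl i).1) (hl i).2.2⟩
  have hf : Function.Bijective f := (Nat.bijective_iff_injective_and_card f).2 ⟨fun i j e => by
      have e' := lperm_inj (hl i).1 (hl j).1 (hl i).2.1 (hl j).2.1 (congrArg (fun z => z.1.1) e)
      rw [List.getD_eq_getElem _ _ (lt_of_lt_of_eq i.2 hlen.symm), List.getD_eq_getElem _ _ (lt_of_lt_of_eq j.2 hlen.symm)] at e'
      exact Fin.ext (hnd.getElem_inj_iff.1 e'), by rw [h48, Nat.card_fin]⟩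
  obtain ⟨i, hi⟩ := hf.2 ⟨⟨σ, hσ⟩, hmem σ hσ hfix⟩
  refine ⟨_, ?_, congrArg (fun z => z.1.1) hi⟩
  rw [List.getD_eq_getElem _ _ (lt_of_lt_of_eq i.2 hlen.symm)]
  exact List.getElem_mem _

theorem six_eq {σ : Equiv.Perm GolayPt} (hσ : σ ∈ M24)
    (hfix : ∀ k ∈ ([1, 2, 3, 5, 14, 17] : List ℕ), σ (pt k) = pt k) :
    ∃ l ∈ octStab, lperm l = σ ∧ ∀ k ∈ octPts, σ (pt k) = pt k := by
  obtain ⟨l, hl, rfl⟩ := five_eq hσ fun k hk => hfix k (by simp at hk ⊢; omega)
  have h := List.all_eq_true.1 five_ok.2.1 l hl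
  simp only [Bool.and_eq_true, Bool.or_eq_true, Bool.not_eq_true', beq_eq_false_iff_ne, beq_iff_eq] at h
  have h17 : l.getD 17 0 = 17 := by
    have h' := rep_lperm (m24ok_lok h.1.1.1) (pt 17)
    rw [hfix 17 (by simp), idx_pt _ (by norm_num)] at h'
    exact h' 
  have hmem : l ∈ octStab := List.contains_iff_mem.1 (h.2.resolve_left fun hn => hn h17)
  refine ⟨l, hmem, rfl, fun k hk => ?_⟩
  have h' := List.all_eq_true.1 oct_stab_ok.2.1 l hmem
  simp only [Bool.and_eq_true, beq_iff_eq, List.all_eq_true] at h'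
  have hk24 : k < 24 := by rw [oct_ok.1] at hk; fin_cases hk <;> norm_num
  rw [lperm_apply h'.1.1, idx_pt _ hk24, h'.2 k hk]

/-- the monomial form with given indices -/
def IsMono (g : ↥Co0) (i : Fin 16) (j : Fin 32) : Prop :=
  ∀ v : ↥leechLattice, ((g • v : ↥leechLattice) : Zv) =
    sgn (ofMaskW (offSigns.getD j 0)) (prm (lperm (octStab.getD i [])) (v : Zv))

theorem oct_get (i : Fin 16) : octStab.getD i [] ∈ octStab ∧ m24ok (octStab.getD i []) = true ∧
    (octStab.getD i []).length = 24 ∧ ∀ k ∈ octPts, lperm (octStab.getD i []) (pt k) = pt k := by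
  have hm : octStab.getD i [] ∈ octStab := by
    rw [List.getD_eq_getElem _ _ (by rw [oct_stab_ok.1]; exact i.2)]; exact List.getElem_mem _
  have h := List.all_eq_true.1 oct_stab_ok.2.1 _ hm
  simp only [Bool.and_eq_true, beq_iff_eq, List.all_eq_true] at h
  refine ⟨hm, h.1.1, h.1.2, fun k hk => ?_⟩
  have hk24 : k < 24 := by rw [oct_ok.1] at hk; fin_cases hk <;> norm_num
  rw [lperm_apply h.1.1, idx_pt _ hk24, h.2 k hk]

theorem sign_get (j : Fin 32) : offSigns.getD j 0 ∈ offSigns ∧ offSigns.getD j 0 < 2 ^ 24 ∧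
    ofMaskW (offSigns.getD j 0) ∈ golayCode ∧ ∀ k ∈ octPts, ofMaskW (offSigns.getD j 0) (pt k) = 0 := by
  have hm : offSigns.getD j 0 ∈ offSigns := by
    rw [List.getD_eq_getElem _ _ (by rw [signs_ok.1]; exact j.2)]; exact List.getElem_mem _
  have h := List.all_eq_true.1 signs_ok.2.2.1 _ hm
  simp only [Bool.and_eq_true, List.all_eq_true, Bool.not_eq_true'] at h
  refine ⟨hm, Nat.le_of_ble_eq_true h.1.2, dec_code h.1.1 (Nat.le_of_ble_eq_true h.1.2), fun k hk => ?_⟩
  have hk24 : k < 24 := by rw [oct_ok.1] at hk; fin_cases hk <;> norm_num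
  rw [ofMaskW, idx_pt _ hk24, h.2 k hk]
  simp

theorem co0_zsmul (g : ↥Co0) (n : ℤ) (v : ↥leechLattice) : g • (n • v) = n • (g • v) :=
  map_zsmul (AddMonoidHom.mk' (fun v : ↥leechLattice => g • v) (co0_add g)) n v

theorem co0_sub (g : ↥Co0) (u v : ↥leechLattice) : g • (u - v) = g • u - g • v := by
  rw [sub_eq_add_neg, co0_add, co0_neg, ← sub_eq_add_neg]

theorem R_36 : ((R (vec 36) : ↥leechLattice) : Zv) = vecOf (row 36) := by
  show vecOf (row (code (vec 36))) = _
  rw [show code (vec 36) = 36 from code_vec 36]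

theorem e8_ends : e8 (pt 0) = vP + R (vec 36) ∧ e8 none = vP - R (vec 36) := by
  have h23 : (none : GolayPt) = pt 23 := rfl
  constructor
  · refine Subtype.ext (funext fun p => ?_)
    rw [AddSubgroup.coe_add, Pi.add_apply, R_36]
    show (Pi.single (pt 0) 8 : Zv) p = pairRef p + vecOf (row 36) p
    exact (by decide +kernel : ∀ p, (Pi.single (pt 0) 8 : Zv) p = pairRef p + vecOf (row 36) p) p
  · refine Subtype.ext (funext fun p => ?_)
    rw [AddSubgroup.coe_sub, Pi.sub_apply, R_36]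
    show (Pi.single none 8 : Zv) p = pairRef p - vecOf (row 36) p
    exact (by decide +kernel : ∀ p, (Pi.single none 8 : Zv) p = pairRef p - vecOf (row 36) p) p

theorem e8_six {g : ↥Co0} {ε : ℤ} (h : ∀ x, x ≠ 0 → g • R x = ε • R x) :
    ∀ k ∈ ([1, 2, 3, 5, 14, 17] : List ℕ), g • e8 (pt k) = ε • e8 (pt k) := by
  intro k hk
  rw [← unit_ok.2.1] at hk
  obtain ⟨d, hd, rfl⟩ := List.mem_map.1 hk
  have h' := List.all_eq_true.1 unit_ok.1 d hd
  simp only [Bool.and_eq_true, beq_iff_eq] at h'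
  obtain ⟨⟨ha, hb⟩, he⟩ := h'
  have ha := Nat.le_of_ble_eq_true ha
  have hb := Nat.le_of_ble_eq_true hb
  have e : e8 (pt d.1) = d.2.2.1 • R (vec d.2.1) + d.2.2.2.2 • R (vec d.2.2.2.1) := by
    refine Subtype.ext (funext fun p => ?_)
    have ca : code (vec d.2.1) = d.2.1 := code_vec ⟨_, ha⟩
    have cb : code (vec d.2.2.2.1) = d.2.2.2.1 := code_vec ⟨_, hb⟩
    simp only [AddSubgroup.coe_add, AddSubgroup.coe_zsmul, Pi.add_apply, Pi.smul_apply, smul_eq_mul, R, ca, cb]
    show (Pi.single (pt d.1) 8 : Zv) p = d.2.2.1 * (row d.2.1).getD (idx p) 0 + d.2.2.2.2 * (row d.2.2.2.1).getD (idx p) 0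
    have e1 : (Pi.single (pt d.1) 8 : Zv) p = (rowOf (Pi.single (pt d.1) 8)).getD (idx p) 0 := by
      rw [rowOf_get _ _ (idx_lt p), pt_idx]
    rw [e1, he]
    have l1 := (row_facts ha).2.1
    have l2 := (row_facts hb).2.1
    rw [List.getD_eq_getElem _ _ (by simp [l1, l2, idx_lt p]), List.getElem_zipWith,
      List.getD_eq_getElem _ _ (by rw [l1]; exact idx_lt p), List.getD_eq_getElem _ _ (by rw [l2]; exact idx_lt p)]
  have hnz : vec d.2.1 ≠ 0 ∧ vec d.2.2.2.1 ≠ 0 := by
    have hh : ∀ d ∈ unitDec, vec d.2.1 ≠ 0 ∧ vec d.2.2.2.1 ≠ 0 := by decide +kernel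
    exact hh d hd
  rw [e, co0_add, co0_zsmul, co0_zsmul, h _ hnz.1, h _ hnz.2, smul_add, smul_comm ε, smul_comm ε]

theorem ker_form {g : ↥C0} (hg : phi g = 1) : ∃ i j, IsMono g.1 i j := by
  classical
  obtain ⟨hv, -⟩ := mem_C0.1 g.2
  have hsgn := img_R_sign hg
  have hrel : ∀ x y, om x y = 1 → g.1 • R x = R x → g.1 • R y = R y := by
    intro x y hxy hx
    rcases hsgn y with hy | hy
    · exact hy
    exfalso
    have hd := co0_dot g.1 (R x) (R y)
    rw [hx, hy, AddSubgroup.coe_neg, dot_neg_right] at hd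
    have h := dot_om x y
    rw [hxy, show dotInt (R x : Zv) (R y : Zv) = 0 by omega, show (1 : ZMod 2).val = 1 from rfl] at h
    norm_num at h
  have hall : (∀ x, x ≠ 0 → g.1 • R x = R x) ∨ ∀ x, x ≠ 0 → g.1 • R x = -R x := by
    by_cases h : ∃ x, x ≠ 0 ∧ g.1 • R x = R x
    · obtain ⟨x, hx, hgx⟩ := h
      refine Or.inl fun y hy => ?_
      have nz : ∀ x : V6, x ≠ 0 → code x ≠ 0 := fun x hx h => hx (by rw [← (vec_code x).1, h]; decide +kernel)
      have hc := List.all_eq_true.1 (range_mem om_common (vec_code x).2) (code y) (List.mem_range.2 (vec_code y).2)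
      simp only [nz x hx, nz y hy, beq_eq_false_iff_ne.2 (nz x hx), beq_eq_false_iff_ne.2 (nz y hy), Bool.false_or,
        List.any_eq_true, Bool.and_eq_true, beq_iff_eq, (vec_code x).1, (vec_code y).1] at hc
      obtain ⟨z, -, hxz, hyz⟩ := hc
      have hz := hrel x (vec z) hxz hgx
      exact hrel (vec z) y (by rw [← hyz]; simp only [om]; ring) hz
    · push Not at h
      exact Or.inr fun x hx => (hsgn x).resolve_left (h x hx)
  have hsix : ∃ ε : ℤ, (ε = 1 ∨ ε = -1) ∧ (∀ k ∈ ([1, 2, 3, 5, 14, 17] : List ℕ), g.1 • e8 (pt k) = ε • e8 (pt k)) ∧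
      ((ε = 1 ∧ g.1 • e8 (pt 0) = e8 (pt 0) ∧ g.1 • e8 none = e8 none) ∨
        (ε = -1 ∧ g.1 • e8 (pt 0) = e8 none ∧ g.1 • e8 none = e8 (pt 0))) := by
    have h36 : vec 36 ≠ (0 : V6) := by decide +kernel
    rcases hall with h | h
    · refine ⟨1, Or.inl rfl, e8_six fun x hx => by rw [h x hx, one_smul], Or.inl ⟨rfl, ?_, ?_⟩⟩
      · rw [e8_ends.1, co0_add, hv, h _ h36]
      · rw [e8_ends.2, co0_sub, hv, h _ h36]
    · refine ⟨-1, Or.inr rfl, e8_six fun x hx => by rw [h x hx, neg_one_zsmul], Or.inr ⟨rfl, ?_, ?_⟩⟩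
      · rw [e8_ends.1, e8_ends.2, co0_add, hv, h _ h36, sub_eq_add_neg]
      · rw [e8_ends.1, e8_ends.2, co0_sub, hv, h _ h36, sub_neg_eq_add]
  obtain ⟨ε, hε, h6, hend⟩ := hsix
  have hstd : StdStab g.1 := stdStab_iff.2 (cross_std (g.1 • e8 none).2 (by
    rcases hend with ⟨-, -, e⟩ | ⟨-, -, e⟩ <;> rw [e] <;> exact e8_std _))
  obtain ⟨σ, hσ, w, hw, hf⟩ := std_form hstd
  have hcomp : ∀ (a b : GolayPt) (c : ℤ), (c = 1 ∨ c = -1) → g.1 • e8 a = c • e8 b → σ a = b ∧ (c = 1 → w b = 0) := by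
    intro a b c hc e
    have e' := congrFun ((hf (e8 a)).symm.trans (congrArg Subtype.val e)) (σ a)
    simp only [sgn, prm, Equiv.symm_apply_apply, e8, Pi.single_eq_same, AddSubgroup.coe_zsmul, Pi.smul_apply,
      smul_eq_mul] at e'
    have hab : σ a = b := by
      by_contra hne
      rw [Pi.single_eq_of_ne hne, mul_zero] at e'
      split_ifs at e' <;> omega
    refine ⟨hab, fun hc1 => ?_⟩
    subst hab
    rw [hc1, one_mul, Pi.single_eq_same] at e'
    by_contra hne
    rw [if_neg hne] at e'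
    omega
  obtain ⟨l, hl, rfl, hoct⟩ := six_eq hσ fun k hk => (hcomp _ _ ε hε (h6 k hk)).1
  obtain ⟨rfl, e0, en⟩ : ε = 1 ∧ g.1 • e8 (pt 0) = e8 (pt 0) ∧ g.1 • e8 none = e8 none := by
    refine hend.resolve_right fun ⟨_, e, _⟩ => ?_
    have h0 := (hcomp (pt 0) none 1 (Or.inl rfl) (by rw [e, one_smul])).1
    rw [hoct 0 (by rw [oct_ok.1]; simp)] at h0
    exact pt0_ne h0
  have hw0 : ∀ k ∈ octPts, w (pt k) = 0 := by
    intro k hk
    rw [oct_ok.1] at hk
    have hcase : k = 0 ∨ k = 23 ∨ k ∈ ([1, 2, 3, 5, 14, 17] : List ℕ) := by simp at hk ⊢; omega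
    rcases hcase with rfl | rfl | hk
    · exact (hcomp _ _ 1 (Or.inl rfl) (by rw [e0, one_smul])).2 rfl
    · exact (hcomp none none 1 (Or.inl rfl) (by rw [en, one_smul])).2 rfl
    · exact (hcomp _ _ 1 (Or.inl rfl) (h6 k hk)).2 rfl
  have hm := mem_code.1 hw
  have hwe : ofMaskW (wmask w) = w := wmask_injective (wmask_ofMaskW (codeMasks_lt _ hm))
  have hms : wmask w ∈ offSigns := by
    have h := List.all_eq_true.1 signs_ok.2.2.2.1 _ hm
    simp only [Bool.or_eq_true, List.any_eq_true, List.contains_iff_mem] at h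
    refine h.resolve_left fun ⟨k, hk, hb⟩ => ?_
    have hk24 : k < 24 := by rw [oct_ok.1] at hk; fin_cases hk <;> norm_num
    have := hw0 k hk
    rw [← hwe, ofMaskW, idx_pt _ hk24, hb] at this
    simp at this
  obtain ⟨i, hi, hie⟩ := List.getElem_of_mem hl
  obtain ⟨j, hj, hje⟩ := List.getElem_of_mem hms
  refine ⟨⟨i, oct_stab_ok.1 ▸ hi⟩, ⟨j, signs_ok.1 ▸ hj⟩, fun v => ?_⟩
  rw [hf, List.getD_eq_getElem _ _ hi, List.getD_eq_getElem _ _ hj, hie, hje, hwe]

theorem mono_fix {i : Fin 16} {j : Fin 32} {y : Zv} (hy : ∀ p, idx p ∉ octPts → y p = 0) :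
    sgn (ofMaskW (offSigns.getD j 0)) (prm (lperm (octStab.getD i [])) y) = y := by
  funext p
  by_cases hp : idx p ∈ octPts
  · have h1 := (sign_get j).2.2.2 _ hp
    have h2 := (oct_get i).2.2.2 _ hp
    rw [pt_idx] at h1 h2
    simp only [sgn, h1, if_true, prm, (Equiv.symm_apply_eq _).2 h2.symm]
  · have h0 : prm (lperm (octStab.getD i [])) y p = 0 := hy _ fun hc => hp (by
      have h2 := (oct_get i).2.2.2 _ hc
      rw [pt_idx, Equiv.apply_symm_apply] at h2
      rw [h2]; exact hc)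
    simp only [sgn, h0, neg_zero, ite_self, hy p hp]

theorem exists_mono (i : Fin 16) (j : Fin 32) : ∃ g : ↥C0, phi g = 1 ∧ IsMono g.1 i j := by
  obtain ⟨a, ha⟩ := exists_sgn (sign_get j).2.2.1
  obtain ⟨b, hb⟩ := exists_prm (lperm_mem (oct_get i).2.1)
  have hab : IsMono (a * b) i j := fun v => by rw [mul_smul, ha, hb]
  have hsupp : ∀ k < 64, ∀ p, idx p ∉ octPts → vecOf (row k) p = 0 := by
    have h : ∀ k : Fin 64, ∀ p, idx p ∉ octPts → vecOf (row k) p = 0 := by decide +kernel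
    exact fun k hk => h ⟨k, hk⟩
  have hC : a * b ∈ C0 := by
    refine mem_C0.2 ⟨Subtype.ext ((hab vP).trans (mono_fix fun p hp => ?_)), co0_ext fun v => ?_⟩
    · exact (by decide +kernel : ∀ p, idx p ∉ octPts → pairRef p = 0) p hp
    · rw [mul_smul (a * b) tE, mul_smul tE (a * b), hab, tE_apply, tE_apply, hab, prm_sgn, sgn_add_word,
        sgn_add_word]
      congr 1
      rw [add_comm]
      congr 1
      funext p
      show ofMaskW epsMask ((lperm (octStab.getD i [])).symm p) = ofMaskW epsMask p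
      have he : ∀ q, ofMaskW epsMask q = if idx q ∈ octPts then 0 else 1 := fun q => by
        have hb := beq_iff_eq.1 (List.all_eq_true.1 oct_ok.2.2.2 (idx q) (List.mem_range.2 (idx_lt q)))
        rw [ofMaskW, hb, List.contains_eq_mem]
        by_cases hq : idx q ∈ octPts <;> simp [hq]
      rw [he, he]
      refine if_congr ⟨fun hc => ?_, fun hc => ?_⟩ rfl rfl
      · have h2 := (oct_get i).2.2.2 _ hc
        rw [pt_idx, Equiv.apply_symm_apply] at h2
        rw [h2]; exact hc
      · have h2 := (oct_get i).2.2.2 _ hc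
        rw [pt_idx] at h2
        rw [(Equiv.symm_apply_eq _).2 h2.symm]; exact hc
  refine ⟨⟨a * b, hC⟩, Subtype.ext (Matrix.ext_iff_mulVec.2 fun x => ?_), hab⟩
  rw [phi_apply, OneMemClass.coe_one, Matrix.one_mulVec]
  exact img_eq (Or.inl (Subtype.ext ((hab _).trans (mono_fix (hsupp _ (vec_code x).2)))))

/-- the kernel -/
noncomputable def K : Subgroup ↥C0 := phi.ker

/-- the element with given indices -/
noncomputable def el (x : Fin 16 × Fin 32) : ↥K := ⟨(exists_mono x.1 x.2).choose, (exists_mono x.1 x.2).choose_spec.1⟩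

theorem el_spec (x : Fin 16 × Fin 32) : IsMono (el x).1.1 x.1 x.2 := (exists_mono x.1 x.2).choose_spec.2

theorem el_bijective : Function.Bijective el := by
  constructor
  · rintro ⟨i, j⟩ ⟨i', j'⟩ e
    have h := el_spec (i, j)
    rw [e] at h
    obtain ⟨e1, e2⟩ := mono_unique (fun v => (h v).symm.trans (el_spec (i', j') v))
    have e1' := lperm_inj (oct_get i).2.1 (oct_get i').2.1 (oct_get i).2.2.1 (oct_get i').2.2.1 e1
    have e2' := congrArg wmask e2
    rw [wmask_ofMaskW (sign_get j).2.1, wmask_ofMaskW (sign_get j').2.1] at e2'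
    rw [List.getD_eq_getElem _ _ (lt_of_lt_of_eq i.2 oct_stab_ok.1.symm), List.getD_eq_getElem _ _ (lt_of_lt_of_eq i'.2 oct_stab_ok.1.symm)] at e1'
    rw [List.getD_eq_getElem _ _ (lt_of_lt_of_eq j.2 signs_ok.1.symm), List.getD_eq_getElem _ _ (lt_of_lt_of_eq j'.2 signs_ok.1.symm)] at e2'
    exact Prod.ext (Fin.ext (oct_stab_ok.2.2.1.getElem_inj_iff.1 e1')) (Fin.ext (signs_ok.2.1.getElem_inj_iff.1 e2'))
  · rintro ⟨g, hg⟩
    obtain ⟨i, j, h⟩ := ker_form hg
    exact ⟨(i, j), Subtype.ext (Subtype.ext (co0_ext fun v => (el_spec (i, j) v).trans (h v).symm))⟩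

theorem card_K : Nat.card ↥K = 512 := by
  rw [← Nat.card_congr (Equiv.ofBijective el el_bijective)]
  simp

theorem foldr_bits (f : ℕ → Bool) : ∀ (l : List ℕ) (k : ℕ),
    (l.foldr (fun k r => bif f k then 2 ^ k ||| r else r) 0).testBit k = true ↔ k ∈ l ∧ f k = true
  | [], k => by simp
  | a :: l, k => by
    rw [List.foldr_cons]
    cases ha : f a with
    | false =>
      rw [cond_false, foldr_bits f l k, List.mem_cons]
      exact ⟨fun h => ⟨Or.inr h.1, h.2⟩, fun h => ⟨h.1.resolve_left fun e => by rw [e, ha] at h; simp at h, h.2⟩⟩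
    | true =>
      rw [cond_true, Nat.testBit_or, Bool.or_eq_true, Nat.testBit_two_pow, decide_eq_true_eq, foldr_bits f l k,
        List.mem_cons]
      constructor
      · rintro (rfl | h)
        exacts [⟨Or.inl rfl, ha⟩, ⟨Or.inr h.1, h.2⟩]
      · rintro ⟨rfl | h, hk⟩
        exacts [Or.inl rfl, Or.inr ⟨h, hk⟩]

theorem dmask_apply {l : List ℕ} (hl : m24ok l = true) (m : ℕ) (p : GolayPt) :
    ofMaskW (dmask l m) p = ofMaskW m (lperm l p) + ofMaskW m p := by
  have hi : idx (lperm l p) = l.getD (idx p) 0 := (rep_lperm (m24ok_lok hl) p).symm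
  have hb : (dmask l m).testBit (idx p) = xor (Nat.testBit m (l.getD (idx p) 0)) (Nat.testBit m (idx p)) := by
    rw [Bool.eq_iff_iff, dmask, foldr_bits]
    exact ⟨fun h => h.2, fun h => ⟨List.mem_range.2 (idx_lt p), h⟩⟩
  simp only [ofMaskW, hb, hi]
  cases Nat.testBit m (l.getD (idx p) 0) <;> cases Nat.testBit m (idx p) <;> decide

/-- the change of a word -/
theorem act_change (i : Fin 16) (j : Fin 32) :
    (actW (lperm (octStab.getD i [])) (ofMaskW (offSigns.getD j 0)) = ofMaskW (offSigns.getD j 0) ∧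
      dmask (octStab.getD i []) (offSigns.getD j 0) = 0) ∨
    (actW (lperm (octStab.getD i [])) (ofMaskW (offSigns.getD j 0)) = ofMaskW (offSigns.getD j 0) + ofMaskW epsMask ∧
      dmask (octStab.getD i []) (offSigns.getD j 0) = epsMask) := by
  set l := octStab.getD i []
  set m := offSigns.getD j 0
  have h := List.all_eq_true.1 (List.all_eq_true.1 action_ok l (oct_get i).1) m (sign_get j).1
  simp only [Bool.or_eq_true, beq_iff_eq] at h
  have heps : ∀ p, ofMaskW epsMask (lperm l p) = ofMaskW epsMask p := fun p => by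
    have hd : ∀ q, ofMaskW epsMask q = if idx q ∈ octPts then 0 else 1 := fun q => by
      have hb := beq_iff_eq.1 (List.all_eq_true.1 oct_ok.2.2.2 (idx q) (List.mem_range.2 (idx_lt q)))
      rw [ofMaskW, hb, List.contains_eq_mem]
      by_cases hq : idx q ∈ octPts <;> simp [hq]
    rw [hd, hd]
    refine if_congr ⟨fun hc => ?_, fun hc => ?_⟩ rfl rfl
    · have h2 := (oct_get i).2.2.2 _ hc
      rw [pt_idx, (lperm l).injective.eq_iff] at h2
      rwa [h2] at hc
    · have h2 := (oct_get i).2.2.2 _ hc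
      rw [pt_idx] at h2
      rwa [h2]
  rcases h with h | h
  · refine Or.inl ⟨funext fun p => ?_, h⟩
    obtain ⟨q, rfl⟩ := (lperm l).surjective p
    have e := dmask_apply (oct_get i).2.1 m q
    rw [h, show ofMaskW 0 q = 0 by simp [ofMaskW]] at e
    rw [actW, Equiv.symm_apply_apply]
    exact (CharTwo.add_eq_zero.1 e.symm).symm
  · refine Or.inr ⟨funext fun p => ?_, h⟩
    obtain ⟨q, rfl⟩ := (lperm l).surjective p
    have e := dmask_apply (oct_get i).2.1 m q
    rw [h] at e
    rw [actW, Equiv.symm_apply_apply, Pi.add_apply, heps, e, ← add_assoc, CharTwo.add_self_eq_zero, zero_add]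

theorem lperm_comm (i i' : Fin 16) : lperm (octStab.getD i []) * lperm (octStab.getD i' []) =
    lperm (octStab.getD i' []) * lperm (octStab.getD i []) ∧
    lperm (octStab.getD i []) * lperm (octStab.getD i []) = 1 := by
  have h := List.all_eq_true.1 (List.all_eq_true.1 oct_stab_ok.2.2.2.1 _ (oct_get i).1) _ (oct_get i').1
  simp only [permOK, List.all_eq_true, List.mem_range, Bool.and_eq_true, beq_iff_eq] at h
  have hr : ∀ (i : Fin 16) p, idx (lperm (octStab.getD i []) p) = (octStab.getD i []).getD (idx p) 0 := fun i p =>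
    (rep_lperm (m24ok_lok (oct_get i).2.1) p).symm
  refine ⟨Equiv.ext fun p => idx_injective ?_, Equiv.ext fun p => idx_injective ?_⟩
  · rw [Equiv.Perm.mul_apply, Equiv.Perm.mul_apply, hr, hr, hr, hr]
    exact (h _ (idx_lt p)).1
  · rw [Equiv.Perm.mul_apply, hr, hr, Equiv.Perm.one_apply]
    exact (h _ (idx_lt p)).2

/-- the involution in the kernel -/
theorem tE_mem : ∃ z : ↥K, z.1.1 = tE := by
  have hC : tE ∈ C0 := mem_C0.2 ⟨tE_vP, rfl⟩
  refine ⟨⟨⟨tE, hC⟩, Subtype.ext (Matrix.ext_iff_mulVec.2 fun x => ?_)⟩, rfl⟩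
  rw [phi_apply, OneMemClass.coe_one, Matrix.one_mulVec]
  exact img_eq (Or.inl (tE_R x))

/-- the involution as an element of the kernel -/
noncomputable def zK : ↥K := tE_mem.choose

theorem zK_apply (v : ↥leechLattice) :
    ((zK.1.1 • v : ↥leechLattice) : Zv) = sgn (ofMaskW epsMask) (prm (1 : Equiv.Perm GolayPt) (v : Zv)) := by
  rw [show zK.1.1 = tE from tE_mem.choose_spec, tE_apply]
  rfl

theorem el_mul (x y : Fin 16 × Fin 32) (v : ↥leechLattice) :
    ((((el x * el y).1.1) • v : ↥leechLattice) : Zv) =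
      sgn (ofMaskW (offSigns.getD x.2 0) + actW (lperm (octStab.getD x.1 [])) (ofMaskW (offSigns.getD y.2 0)))
        (prm (lperm (octStab.getD x.1 []) * lperm (octStab.getD y.1 [])) (v : Zv)) :=
  mono_mul (el_spec x) (el_spec y) v

theorem eps_self : ofMaskW epsMask + ofMaskW epsMask = 0 := funext fun _ => CharTwo.add_self_eq_zero _

theorem comm_cases (x y : Fin 16 × Fin 32) :
    (el x * el y = el y * el x ↔ (dmask (octStab.getD x.1 []) (offSigns.getD y.2 0) = 0 ↔
      dmask (octStab.getD y.1 []) (offSigns.getD x.2 0) = 0)) ∧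
    (el x * el y = el y * el x ∨ el x * el y = zK * (el y * el x)) := by
  have heps0 : epsMask ≠ 0 := by decide +kernel
  have he0 : ofMaskW epsMask ≠ 0 := fun h => by
    have := congrFun h (pt 4)
    exact absurd this (by decide +kernel)
  have hz : ∀ v : ↥leechLattice, (((zK * (el y * el x)).1.1 • v : ↥leechLattice) : Zv) =
      sgn (ofMaskW epsMask + (ofMaskW (offSigns.getD y.2 0) + actW (lperm (octStab.getD y.1 [])) (ofMaskW (offSigns.getD x.2 0))))
        (prm (lperm (octStab.getD x.1 []) * lperm (octStab.getD y.1 [])) (v : Zv)) := fun v => by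
    rw [Subgroup.coe_mul, Subgroup.coe_mul, mul_smul, zK_apply, el_mul, (lperm_comm x.1 y.1).1,
      show ∀ u : Zv, prm (1 : Equiv.Perm GolayPt) u = u from fun u => rfl, sgn_add_word]
  have hsame : ∀ w w', (∀ v : ↥leechLattice, (((el x * el y).1.1 • v : ↥leechLattice) : Zv) =
      sgn w (prm (lperm (octStab.getD x.1 []) * lperm (octStab.getD y.1 [])) (v : Zv))) →
      (∀ v : ↥leechLattice, (((el y * el x).1.1 • v : ↥leechLattice) : Zv) =
      sgn w' (prm (lperm (octStab.getD x.1 []) * lperm (octStab.getD y.1 [])) (v : Zv))) →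
      (el x * el y = el y * el x ↔ w = w') := by
    intro w w' h h'
    refine ⟨fun e => (mono_unique fun v => (h v).symm.trans (e ▸ h' v)).2, fun e => ?_⟩
    exact Subtype.ext (Subtype.ext (co0_ext fun v => by rw [h v, h' v, e]))
  have key := hsame _ _ (el_mul x y) fun v => by rw [el_mul, (lperm_comm x.1 y.1).1]
  rcases act_change x.1 y.2 with ⟨a1, d1⟩ | ⟨a1, d1⟩ <;> rcases act_change y.1 x.2 with ⟨a2, d2⟩ | ⟨a2, d2⟩ <;>
    rw [a1, a2] at key <;> simp only [d1, d2, heps0, iff_self, iff_false, false_iff, not_true_eq_false, not_false_eq_true]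
  · exact ⟨by simpa [add_comm] using key, Or.inl (key.2 (add_comm _ _))⟩
  · refine ⟨fun e => ?_, Or.inr ?_⟩
    · refine he0 ?_
      have := key.1 e
      rw [add_comm, ← add_assoc] at this
      exact (add_left_cancel (a := ofMaskW (offSigns.getD y.2 0) + ofMaskW (offSigns.getD x.2 0)) (by rw [add_zero]; exact this)).symm
    · refine Subtype.ext (Subtype.ext (co0_ext fun v => ?_))
      rw [hz, el_mul, a1, a2]
      congr 1
      rw [show ∀ e a b : GolayPt → ZMod 2, e + (b + (a + e)) = a + b + (e + e) from fun e a b => by abel,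
        eps_self, add_zero]
  · refine ⟨fun e => ?_, Or.inr ?_⟩
    · refine he0 ?_
      have := key.1 e
      rw [← add_assoc, add_comm (ofMaskW (offSigns.getD y.2 0))] at this
      exact add_left_cancel (a := ofMaskW (offSigns.getD x.2 0) + ofMaskW (offSigns.getD y.2 0)) (by rw [add_zero]; exact this)
    · refine Subtype.ext (Subtype.ext (co0_ext fun v => ?_))
      rw [hz, el_mul, a1, a2]
      congr 1
      abel
  · refine ⟨⟨fun _ => trivial, fun _ => key.2 (by abel)⟩, Or.inl (key.2 (by abel))⟩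

theorem zero_index : ∃ i : Fin 16, octStab.getD i [] = List.range 24 := by
  obtain ⟨i, hi, e⟩ := List.getElem_of_mem (List.contains_iff_mem.1 oct_stab_ok.2.2.2.2)
  exact ⟨⟨i, oct_stab_ok.1 ▸ hi⟩, by rw [List.getD_eq_getElem _ _ hi, e]⟩

theorem center_two (g : ↥K) (hg : g ∈ Subgroup.center ↥K) : g = 1 ∨ g = zK := by
  obtain ⟨⟨i, j⟩, rfl⟩ := el_bijective.2 g
  obtain ⟨i0, hi0⟩ := zero_index
  obtain ⟨j0, hj0, ej0⟩ := List.getElem_of_mem (List.contains_iff_mem.1 signs_ok.2.2.2.2.1)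
  have hz0 : ∀ l : List ℕ, l ∈ octStab → dmask l 0 = 0 := by decide +kernel
  have hone : ∀ m, m ∈ offSigns → dmask (List.range 24) m = 0 := by decide +kernel
  have hj0' : offSigns.getD j0 0 = 0 := by rw [List.getD_eq_getElem _ _ hj0, ej0]
  have hi : octStab.getD i [] = List.range 24 := by
    by_contra hne
    have h := List.all_eq_true.1 center_ok.1 _ (oct_get i).1
    simp only [Bool.or_eq_true, beq_iff_eq, List.any_eq_true, Bool.not_eq_true', beq_eq_false_iff_ne] at h
    obtain ⟨m, hm, hd⟩ := h.resolve_left hne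
    obtain ⟨k, hk, rfl⟩ := List.getElem_of_mem hm
    have e := (comm_cases (i, j) (i0, ⟨k, signs_ok.1 ▸ hk⟩)).1.1 (Subgroup.mem_center_iff.1 hg _).symm
    simp only [hi0, hone _ (sign_get j).1, iff_true] at e
    rw [List.getD_eq_getElem _ _ hk] at e
    exact hd e
  have hj : offSigns.getD j 0 = 0 ∨ offSigns.getD j 0 = epsMask := by
    by_contra hne
    push Not at hne
    have h := List.all_eq_true.1 center_ok.2 _ (sign_get j).1
    simp only [Bool.or_eq_true, beq_iff_eq, List.any_eq_true, Bool.not_eq_true', beq_eq_false_iff_ne] at h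
    obtain ⟨l, hl, hd⟩ := h.resolve_left (by rintro (h | h); exacts [hne.1 h, hne.2 h])
    obtain ⟨k, hk, rfl⟩ := List.getElem_of_mem hl
    have e := (comm_cases (i, j) (⟨k, oct_stab_ok.1 ▸ hk⟩, ⟨j0, signs_ok.1 ▸ hj0⟩)).1.1 (Subgroup.mem_center_iff.1 hg _).symm
    simp only [hj0', hz0 _ (oct_get i).1, true_iff] at e
    rw [List.getD_eq_getElem _ _ hk] at e
    exact hd e
  have hp : lperm (octStab.getD i []) = 1 := Equiv.ext fun p => by
    rw [lperm_apply (oct_get i).2.1, hi, Equiv.Perm.one_apply, List.getD_eq_getElem _ _ (by simpa using idx_lt p),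
      List.getElem_range, pt_idx]
  rcases hj with hj | hj
  · refine Or.inl (Subtype.ext (Subtype.ext (co0_ext fun v => ?_)))
    rw [el_spec (i, j) v, hj, hp, OneMemClass.coe_one, OneMemClass.coe_one, one_smul]
    funext p
    simp [sgn, ofMaskW, prm, Equiv.Perm.one_def]
  · refine Or.inr (Subtype.ext (Subtype.ext (co0_ext fun v => ?_)))
    rw [el_spec (i, j) v, zK_apply, hj, hp]

theorem el_sq (x : Fin 16 × Fin 32) : el x ^ 2 = 1 ∨ el x ^ 2 = zK := by
  rw [sq]
  rcases act_change x.1 x.2 with ⟨a, -⟩ | ⟨a, -⟩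
  · refine Or.inl (Subtype.ext (Subtype.ext (co0_ext fun v => ?_)))
    rw [el_mul, a, (lperm_comm x.1 x.1).2, OneMemClass.coe_one, OneMemClass.coe_one, one_smul]
    funext p
    simp [sgn, prm, Equiv.Perm.one_def, CharTwo.add_self_eq_zero]
  · refine Or.inr (Subtype.ext (Subtype.ext (co0_ext fun v => ?_)))
    rw [el_mul, a, (lperm_comm x.1 x.1).2, zK_apply, ← add_assoc]
    congr 1
    funext p
    simp [CharTwo.add_self_eq_zero]

theorem extraspecial : Cfsg.IsExtraspecial 2 ↥K := by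
  haveI := co0_finite
  have hne : zK ≠ 1 := fun h => by
    have e := mono_unique (σ := 1) (τ := 1) (w := ofMaskW epsMask) (w' := 0) fun v => (zK_apply v).symm.trans (by
      rw [h]; funext p; simp [sgn, prm, Equiv.Perm.one_def])
    exact absurd (congrFun e.2 (pt 4)) (by decide +kernel)
  have hzc : zK ∈ Subgroup.center ↥K := Subgroup.mem_center_iff.2 fun g => Subtype.ext (Subtype.ext (by
    rw [Subgroup.coe_mul, Subgroup.coe_mul, Subgroup.coe_mul, Subgroup.coe_mul, show zK.1.1 = tE from tE_mem.choose_spec]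
    exact (mem_C0.1 g.1.2).2))
  have hc : Nat.card (Subgroup.center ↥K) = 2 := by
    rw [Nat.card_eq_two_iff]
    refine ⟨1, ⟨zK, hzc⟩, fun h => hne (congrArg Subtype.val h).symm, Set.eq_univ_of_forall fun g => ?_⟩
    rcases center_two g.1 g.2 with h | h
    · exact Or.inl (Subtype.ext h)
    · exact Or.inr (Subtype.ext h)
  refine Solv.isExtraspecial_of (IsPGroup.of_card (n := 9) (by rw [card_K]; norm_num)) hc (le_antisymm ?_ ?_) fun g => ?_
  · rw [commutator_def, Subgroup.commutator_le]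
    intro a _ b _
    obtain ⟨x, rfl⟩ := el_bijective.2 a
    obtain ⟨y, rfl⟩ := el_bijective.2 b
    rw [commutatorElement_def]
    rcases (comm_cases x y).2 with h | h <;> rw [h]
    · rw [show el y * el x * (el x)⁻¹ * (el y)⁻¹ = 1 by group]; exact one_mem _
    · rw [show zK * (el y * el x) * (el x)⁻¹ * (el y)⁻¹ = zK by group]; exact hzc
  · intro g hg
    rcases center_two g hg with rfl | rfl
    · exact one_mem _
    obtain ⟨a, b, hab⟩ : ∃ a b : ↥K, a * b ≠ b * a := by
      by_contra hcon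
      push Not at hcon
      have : Nat.card ↥K = 2 := by
        rw [← hc, show Subgroup.center ↥K = ⊤ from eq_top_iff.2 fun g _ => Subgroup.mem_center_iff.2 fun h => hcon h g,
          Subgroup.card_top]
      rw [card_K] at this
      omega
    obtain ⟨x, rfl⟩ := el_bijective.2 a
    obtain ⟨y, rfl⟩ := el_bijective.2 b
    have h := (comm_cases x y).2.resolve_left hab
    have : ⁅el x, el y⁆ = zK := by rw [commutatorElement_def, h]; group
    rw [← this]
    exact Subgroup.commutator_mem_commutator (Subgroup.mem_top _) (Subgroup.mem_top _)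
  · obtain ⟨x, rfl⟩ := el_bijective.2 g
    rcases el_sq x with h | h <;> rw [h]
    exacts [one_mem _, hzc]

end Cfsg.Agent.Local.FS.CoTwoInv
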