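import Cfsg.Agent.Lib.Local.FS.ResidualLimit
import Cfsg.Agent.Lib.Local.FS.InvariantCriterion
import Cfsg.Agent.Lib.Local.FS.PrimeResidualIsNormal

/-!
Residual limits exist, lie in the system, and agree for a system and its `O^{p'}`; subsystems of `p`-power index
of weakly normal subsystems are weakly normal.
-/

set_option autoImplicit false

namespace Cfsg.Agent.Local.FS

open Cfsg Cfsg.FusionSystem Cfsg.Agent.Fusion

universe u

variable {Ω : Type u} [Group Ω] {S U T : Subgroup Ω} [Finite S] {F : FusionSystem S} {M₀ : FusionSystem U}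
  {M : FusionSystem T} {P Q R : Subgroup Ω} {f : Ω → Ω} {p : ℕ} [Fact p.Prime]

/-- A system is weakly normal in itself. -/
theorem weaklyNormal_self (hS : IsPGroup p S) (hF : F.IsSaturated p) : F.IsWeaklyNormalIn F p := by
  have hT : F.StronglyClosed S := stronglyClosed_iff.2 ⟨le_rfl, fun P f _ hf x hx => hf.mem hx⟩
  refine ⟨hF, hF, (isInvariantIn_iff hS hF (fun _ _ h => h) hT).2 fun A B f g hAB hBS hf hfB hg => ?_⟩
  obtain ⟨k, hk, hkg, hgk, -⟩ := (hg.restrict hAB).exists_inv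
  refine ⟨g ∘ f ∘ k, (hk.comp hf fun y hy => (hgk y hy).2).comp hg fun y hy => hfB _ (hgk y hy).2, fun x hx => ?_⟩
  show g (f (k (g x))) = g (f x)
  rw [hkg x hx]

/-- An invariant subsystem over the same group has index prime to `p`. -/
theorem prime_of_invariant {E : FusionSystem S} (hF : F.IsSaturated p) (hE : E.IsInvariantIn F) :
    E.HasPrimeToPIndexIn F p := by
  refine ⟨hE.1, fun P hP => ?_⟩
  rw [Subgroup.map_le_iff_le_comap, Subgroup.closure_le]
  rintro ⟨a, ha⟩ ⟨k, hk⟩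
  rw [Subgroup.orderOf_mk] at hk
  show a ∈ E.autGroup P
  obtain ⟨Q, hPQ, hfa, -⟩ := hF P hP
  obtain ⟨f, hf, hi⟩ := isConj_iff.1 hPQ
  obtain ⟨e, he⟩ := exists_equiv hf hi
  have hQS := (isConj_le hPQ).2
  haveI := mulAut_finite_of_le hQS
  have ha' := congr_mem_autGroup hf hi he ha
  have hpa : IsPGroup p (Subgroup.zpowers (MulAut.congr e a)) := IsPGroup.of_card (n := k) (by
    rw [Nat.card_zpowers]
    exact (orderOf_injective (MulAut.congr e).toMonoidHom (MulAut.congr e).injective a).trans hk)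
  obtain ⟨c, hc, hle⟩ := (fa_iff.1 hfa).2.conj_le hpa (Subgroup.zpowers_le.2 ha')
  have h1 : c * MulAut.congr e a * c⁻¹ ∈ E.autGroup Q :=
    autInducedBy_le_autGroup hQS (hle (conj_mem_cj (g := c) (Subgroup.mem_zpowers _)))
  have h2 : MulAut.congr e a ∈ E.autGroup Q := by
    have h3 := conj_mem_sub hE hQS ((F.autGroup Q).inv_mem hc) h1
    simpa [mul_assoc] using h3
  obtain ⟨g, hg, hgf, hfg, hgi⟩ := hf.exists_inv
  rw [hi] at hg hfg hgi
  obtain ⟨e', he'⟩ := exists_equiv hg hgi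
  have h4 := congr_mem_sub hE hg hQS hgi he' h2
  rwa [show MulAut.congr e' (MulAut.congr e a) = a from aut_ext fun x hx => by
    have hfx : f x ∈ Q := hi.le (mem_im_of_mem hx)
    have h5 := av_congr_apply he' (MulAut.congr e a) hfx
    rw [hgf x hx, av_congr_apply he a hx, hgf _ (av_mem a hx)] at h5
    exact h5] at h4

/-- Automorphisms of the overgroup transport a subsystem of `p`-power index. -/
theorem pPower_transport_inv (hS : IsPGroup p S) (hM₀ : M₀.IsInvariantIn F) (hMs : M.IsSaturated p)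
    (hM : M.HasPPowerIndexIn M₀ p) (hT : F.StronglyClosed T) {α : MulAut U} (hα : α ∈ F.autGroup U)
    (hf : Map M P f) : ∃ h, Map M (im P (av α)) h ∧ ∀ x ∈ P, h (av α x) = av α (f x) := by
  have hTU := le_of_sub hM.1
  have hUS := hM₀.2.1.1
  have hTS := hTU.trans hUS
  haveI := finite_of_le hTS
  haveI := finite_of_le hUS
  have hαm : Map F T (av α) := (map_of_mem_autGroup hUS hα).restrict hTU
  have hαT : ∀ x ∈ T, av α x ∈ T := fun x hx => stronglyClosed_map hT hαm hx hx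
  have him : ∀ {X : Subgroup Ω}, X ≤ T → im X (av α) ≤ T := fun hX =>
    im_le_iff.2 fun x hx => hαT x (hX hx)
  refine alperin (F := M) (K := fun P f => ∃ h, Map M (im P (av α)) h ∧ ∀ x ∈ P, h (av α x) = av α (f x))
    (hS.to_le hTS) hMs ⟨?_, ?_, ?_, ?_⟩ ?_ P f hf
  · rintro P f g ⟨h, hh, hhe⟩ he
    exact ⟨h, hh, fun x hx => he x hx ▸ hhe x hx⟩
  · rintro P R f - ⟨h, hh, hhe⟩ hR
    exact ⟨h, hh.restrict (im_mono hR), fun x hx => hhe x (hR hx)⟩
  · rintro P Q f g hfm hgm ⟨h, hh, hhe⟩ ⟨h', hh', hhe'⟩ hm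
    refine ⟨h' ∘ h, hh.comp hh' fun y hy => ?_, fun x hx => ?_⟩
    · obtain ⟨x, hx, rfl⟩ := (hαm.restrict hfm.le).mem_im.1 hy
      rw [hhe x hx]
      exact mem_im_of_mem (hm x hx)
    · show h' (h (av α x)) = av α (g (f x))
      rw [hhe x hx, hhe' _ (hm x hx)]
  · rintro P f g hfm ⟨h, hh, hhe⟩ hinv
    obtain ⟨k, hk, hkh, -, -⟩ := hh.exists_inv
    have hi : im (im P (av α)) h = im (im P f) (av α) := by
      rw [← hfm.im_comp, ← (hαm.restrict hfm.le).im_comp]
      exact im_congr hhe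
    rw [hi] at hk
    refine ⟨k, hk, fun y hy => ?_⟩
    obtain ⟨x, hx, rfl⟩ := hfm.mem_im.1 hy
    rw [hinv x hx, ← hhe x hx, hkh _ (mem_im_of_mem hx)]
  · intro R hR γ hγ
    have hRfn := gen_fn (F := M) (p := p) hR
    obtain ⟨β, hβ, δ, hδ, rfl⟩ := exists_autS_mul_residual (hS.to_le hTS) hMs hRfn hγ
    obtain ⟨t, ht, htβ⟩ := mem_autInducedBy.1 hβ
    have hRU : R ≤ U := hRfn.1.trans hTU
    have hαR := (map_of_mem_autGroup hUS hα).restrict hRU
    obtain ⟨e, he⟩ := exists_equiv hαR rfl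
    have hcc : (M₀.autGroup R).map (MulAut.congr e).toMonoidHom ≤ M₀.autGroup (im R (av α)) := by
      rintro _ ⟨a, ha, rfl⟩
      exact congr_mem_sub hM₀ hαR hRU rfl he ha
    have h1 : MulAut.congr e (δ : MulAut R) ∈ M.autGroup (im R (av α)) := by
      obtain ⟨d, hd, hde⟩ := pResidual_mono_sub hM.1 hRfn.1 ⟨δ, hδ, rfl⟩
      haveI := mulAut_finite_of_le (hRU.trans hUS)
      let c : ↥(M₀.autGroup R) →* ↥(M₀.autGroup (im R (av α))) :=
        ((MulAut.congr e).toMonoidHom.comp (M₀.autGroup R).subtype).codRestrict _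
          fun a => hcc ⟨a, a.2, rfl⟩
      refine hM.2.2 _ (him hRfn.1) ⟨c d, Fusion.map_pResidual_le c ⟨d, hd, rfl⟩, ?_⟩
      show MulAut.congr e ((M₀.autGroup R).subtype d) = _
      rw [hde]; rfl
    refine ⟨fun y => av α t * av (MulAut.congr e (δ : MulAut R)) y * (av α t)⁻¹,
      (map_of_mem_autGroup (him hRfn.1) h1).comp (map_conjBy (him hRfn.1) (hαT t ht))
        fun y hy => av_mem _ hy, fun x hx => ?_⟩
    show av α t * _ * _ = _
    rw [av_congr_apply (f := av α) he (δ : MulAut R) hx, av_mul _ _ hx, htβ _ (av_mem _ hx),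
      hαm.map_conj ht (hRfn.1 (av_mem _ hx))]

/-- A subsystem of `p`-power index over a strongly closed subgroup of a weakly normal subsystem is weakly normal. -/
theorem pPower_weaklyNormal (hS : IsPGroup p S) (hM₀ : M₀.IsWeaklyNormalIn F p) (hMs : M.IsSaturated p)
    (hM : M.HasPPowerIndexIn M₀ p) (hT : F.StronglyClosed T) : M.IsWeaklyNormalIn F p := by
  obtain ⟨hM₀s, hF, hM₀i⟩ := id hM₀
  have hTU := le_of_sub hM.1
  have hUS := hM₀i.2.1.1
  haveI := finite_of_le hUS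
  have hTn : (T.subgroupOf U).Normal := (Subgroup.normal_subgroupOf_iff_le_normalizer hTU).2
    (hUS.trans (stronglyClosed_le_normalizer hT))
  have hU := hS.to_le hUS
  have hinv := (isInvariantIn_iff hU hM₀s hM.1 (pPower_stronglyClosed hU hM₀s hTU hTn hM.2.1)).1
    (pPower_invariant hU hM₀s hTn hMs hM)
  refine ⟨hMs, hF, (isInvariantIn_iff hS hF (fun P φ hφ => hM₀i.1 P (hM.1 P hφ)) hT).2 ?_⟩
  intro A B f g hAB hBT hf hfB hg
  obtain ⟨α, hα, m, hm, hge⟩ := frattini_map hM₀i (hBT.trans hTU) hg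
  obtain ⟨h, hh, hhe⟩ := hinv A B f m hAB hBT hf hfB hm
  obtain ⟨k, hk, hke⟩ := pPower_transport_inv hS hM₀i hMs hM hT hα hh
  have him : im A g = im (im A m) (av α) := by
    rw [← (hm.restrict hAB).im_comp]
    exact im_congr fun x hx => hge x (hAB hx)
  refine ⟨k, him ▸ hk, fun x hx => ?_⟩
  rw [hge x (hAB hx), hke _ (mem_im_of_mem hx), hhe x hx, hge _ (hfB x hx)]

omit [Finite S] [Fact p.Prime] in
theorem primeResidual_idem {D : FusionSystem S} (h : F.IsPPrimeResidual p D) : D.IsPPrimeResidual p D := by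
  refine ⟨h.1, ⟨fun _ _ hφ => hφ, fun P _ => Subgroup.map_subtype_le _⟩, fun D' hs hi => h.2.2 D' hs
    ⟨fun P φ hφ => h.2.1.1 P (hi.1 P hφ), fun P hP => ?_⟩⟩
  rw [Subgroup.map_le_iff_le_comap, Subgroup.closure_le]
  rintro a ⟨k, hk⟩
  have haD : (a : MulAut P) ∈ D.autGroup P := h.2.1.2 P hP ⟨a, Subgroup.subset_closure ⟨k, hk⟩, rfl⟩
  refine hi.2 P hP ⟨⟨a, haD⟩, Subgroup.subset_closure ⟨k, ?_⟩, rfl⟩
  exact (Subgroup.orderOf_mk _ _).trans ((Subgroup.orderOf_coe a).trans hk)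

omit [Finite S] [Fact p.Prime] in
/-- A residual limit lies in the system. -/
theorem limit_sub : ∀ {V S : Subgroup Ω} {L : FusionSystem V} {F : FusionSystem S} {p : ℕ},
    L.IsResidualLimitOf F p → L.IsSubsystemOf F := by
  intro V S L F p h
  induction h with
  | stable F p _ _ => exact fun _ _ hφ => hφ
  | step F p D D' h1 h2 _ ih => exact fun P φ hφ => h1.2.1 P (h2.2.1.1 P (ih P hφ))

/-- Residual limits exist. -/
theorem exists_limit (hS : IsPGroup p S) (hF : F.IsSaturated p) :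
    ∃ (V : Subgroup Ω) (L : FusionSystem V), L.IsResidualLimitOf F p := by
  suffices h : ∀ (n : ℕ) (S : Subgroup Ω) [Finite S] (F : FusionSystem S), Nat.card S = n → IsPGroup p S →
      F.IsSaturated p → ∃ (V : Subgroup Ω) (L : FusionSystem V), L.IsResidualLimitOf F p from h _ S F rfl hS hF
  intro n
  induction n using Nat.strong_induction_on with
  | _ n ih =>
  intro S _ F hn hS hF
  have hle : F.hyperfocalSubgroup p ≤ S := hyperfocal_le
  haveI := finite_of_le hle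
  obtain ⟨D, hD⟩ := exists_pPower hS hF hle le_rfl
  have hD' := isPPrimeResidual_primeRes (hS.to_le hle) hD.1
  have hle' : (primeRes D p).hyperfocalSubgroup p ≤ F.hyperfocalSubgroup p := hyperfocal_le
  by_cases heq : (primeRes D p).hyperfocalSubgroup p = F.hyperfocalSubgroup p
  · exact ⟨_, _, IsResidualLimitOf.step F p D _ hD hD'
      (IsResidualLimitOf.stable _ p heq (primeResidual_idem hD'))⟩
  · haveI := finite_of_le (hle'.trans hle)
    obtain ⟨D₂, hD₂⟩ := exists_pPower (hS.to_le hle) hD'.1 hle' le_rfl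
    have hD₂' := isPPrimeResidual_primeRes (hS.to_le (hle'.trans hle)) hD₂.1
    obtain ⟨V, L, hL⟩ := ih _ (hn ▸ (card_lt_of_lt (lt_of_le_of_ne hle' heq) hle).trans_le
      (Subgroup.card_le_of_le hle)) _ (primeRes D₂ p) rfl (hS.to_le (hle'.trans hle)) hD₂'.1
    exact ⟨V, L, IsResidualLimitOf.step F p D _ hD hD' (IsResidualLimitOf.step _ p D₂ _ hD₂ hD₂' hL)⟩

/-- `F` and `O^{p'}(F)` have the same residual limit. -/
theorem limit_primeRes (hS : IsPGroup p S) (hF : F.IsSaturated p) {V W : Subgroup Ω} {L : FusionSystem V}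
    {N : FusionSystem W} (hL : L.IsResidualLimitOf F p) (hN : N.IsResidualLimitOf (primeRes F p) p) :
    SameSys L N := by
  suffices h : ∀ (n : ℕ) (S : Subgroup Ω) [Finite S] (F : FusionSystem S), Nat.card S = n → IsPGroup p S →
      F.IsSaturated p → ∀ {V W : Subgroup Ω} {L : FusionSystem V} {N : FusionSystem W},
      L.IsResidualLimitOf F p → N.IsResidualLimitOf (primeRes F p) p → SameSys L N from
    h _ S F rfl hS hF hL hN
  intro n
  induction n using Nat.strong_induction_on with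
  | _ n ih =>
  intro S _ F hn hS hF V W L N hL hN
  have hR := isPPrimeResidual_primeRes hS hF
  have hle : F.hyperfocalSubgroup p ≤ S := hyperfocal_le
  by_cases heq : F.hyperfocalSubgroup p = S
  · exact limit_unique' (limit_step hS hF hL heq.symm ⟨hF, fun _ _ h => h, hle,
      fun P _ => Subgroup.map_subtype_le _⟩ hR) hS hR.1 hN
  haveI := finite_of_le hle
  have hH := hS.to_le hle
  obtain ⟨D, hD⟩ := exists_pPower hS hF hle le_rfl
  have hD' := isPPrimeResidual_primeRes hH hD.1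
  have hLD' := limit_step hS hF hL rfl hD hD'
  obtain ⟨R₁, hR₁⟩ := exists_pPower hS hR.1 hle (hyperfocal_mono hR.2.1.1)
  have hRn := primeResidual_isNormalIn hS (weaklyNormal_self hS hF) hR
  have hsc : F.StronglyClosed (F.hyperfocalSubgroup p) :=
    pPower_stronglyClosed hS hF hle ⟨fun n hn g => hyperfocal_conj_mem g.2 hn⟩ le_rfl
  have hR₁i := pPower_weaklyNormal hS hRn.1 hR₁.1 hR₁.2 hsc
  have hR₁D : R₁.IsSubsystemOf D := fun P φ hφ => by
    refine mem_iff_map.2 (alperin hH hR₁.1 (isClosedClass_map D) (fun X hX α hα => ?_) P _ (map_of_mem hφ))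
    have hXfn := gen_fn (F := R₁) (p := p) hX
    obtain ⟨β, hβ, γ, hγ, rfl⟩ := exists_autS_mul_residual hH hR₁.1 hXfn hα
    exact map_of_mem_autGroup hXfn.1 ((D.autGroup X).mul_mem (autInducedBy_le_autGroup hXfn.1 hβ)
      (hD.2.2.2 X hXfn.1 (pResidual_mono_sub hR₁i.2.2.1 hXfn.1 ⟨γ, hγ, rfl⟩)))
  have hscD : D.StronglyClosed (F.hyperfocalSubgroup p) :=
    stronglyClosed_iff.2 ⟨le_rfl, fun P f _ hf x hx => hf.mem hx⟩
  have hR₁D' : R₁.IsInvariantIn D := (isInvariantIn_iff hH hD.1 hR₁D hscD).2 fun A B f g hAB hBT hf hfB hg =>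
    (isInvariantIn_iff hS hF hR₁i.2.2.1 hsc).1 hR₁i.2.2 A B f g hAB hBT hf hfB (hg.of_sub hD.2.1)
  have hidx := prime_of_invariant hD.1 hR₁D'
  have hres : R₁.IsPPrimeResidual p (primeRes D p) := by
    refine ⟨hD'.1, ⟨hD'.2.2 R₁ hR₁.1 hidx, fun P hP => ?_⟩, fun X hX hXi => hD'.2.2 X hX
      ⟨fun P φ hφ => hR₁D P (hXi.1 P hφ), fun P hP => ?_⟩⟩
    · rw [Subgroup.map_le_iff_le_comap, Subgroup.closure_le]
      rintro a ⟨k, hk⟩
      refine hD'.2.1.2 P hP ⟨⟨a, autGroup_le_of_sub hR₁D hP a.2⟩, Subgroup.subset_closure ⟨k, ?_⟩, rfl⟩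
      exact (Subgroup.orderOf_mk _ _).trans ((Subgroup.orderOf_coe a).trans hk)
    · rw [Subgroup.map_le_iff_le_comap, Subgroup.closure_le]
      rintro a ⟨k, hk⟩
      refine hXi.2 P hP ⟨⟨a, hidx.2 P hP ⟨a, Subgroup.subset_closure ⟨k, hk⟩, rfl⟩⟩,
        Subgroup.subset_closure ⟨k, ?_⟩, rfl⟩
      exact (Subgroup.orderOf_mk _ _).trans ((Subgroup.orderOf_coe a).trans hk)
  have hres' : primeRes R₁ p = primeRes D p := pPrimeResidual_unique (isPPrimeResidual_primeRes hH hR₁.1) hres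
  obtain ⟨V₁, L₁, hL₁⟩ := exists_limit hH hR₁.1
  have h1 := ih _ (hn ▸ card_lt_of_lt (lt_of_le_of_ne hle heq) le_rfl) _ R₁ rfl hH hR₁.1 hL₁
    (hres'.symm ▸ hLD')
  have h2 := limit_pPower hS hR.1 hR₁.1 hR₁.2 hN hL₁
  exact fun P f => (h1 P f).symm.trans (h2 P f).symm

end Cfsg.Agent.Local.FS
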