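import Cfsg.Agent.Lib.Local.FS.FreeConstrained
import Cfsg.Agent.Lib.Local.FS.InnerBasic
import Cfsg.Agent.Lib.Local.FS.FactorFree

/-!
Control of the inner property by the normalizer of a functor value.
-/

set_option autoImplicit false

namespace Cfsg.Agent.Local.FS

open Cfsg Cfsg.FusionSystem Cfsg.Agent.Fusion

universe u

variable {Ω : Type u} [Group Ω] {S : Subgroup Ω} [Finite S] {F : FusionSystem S} {p : ℕ} [Fact p.Prime]
variable {W : ∀ (Q : Type u) [Group Q], Subgroup Q}

omit [Fact p.Prime] in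
theorem functor_image {L : Type u} [Group L] {V : Subgroup Ω} (hS : IsPGroup p S)
    (hW2 : ∀ (Q R : Type u) [Group Q] [Group R] [Finite Q], IsPGroup p Q → ∀ φ : Q ≃* R,
      (W Q).map φ.toMonoidHom = W R)
    (hV : V = S) (ι : V →* L) (hι : Function.Injective ι) :
    inducedFunctor W ι.range = ((inducedFunctor W S).subgroupOf V).map ι := by
  let e : S ≃* ι.range := (MulEquiv.subgroupCongr hV.symm).trans (MonoidHom.ofInjective hι)
  have he : inducedFunctor W ι.range = ((W S).map e.toMonoidHom).map ι.range.subtype := by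
    rw [inducedFunctor, hW2 S ι.range hS e]
  rw [he]
  ext l
  constructor
  · rintro ⟨-, ⟨x, hx, rfl⟩, rfl⟩
    exact ⟨⟨x, hV.ge x.2⟩, ⟨x, hx, rfl⟩, rfl⟩
  · rintro ⟨y, hy, rfl⟩
    obtain ⟨x, hx, hxy⟩ := hy
    refine ⟨e x, ⟨x, hx, rfl⟩, ?_⟩
    show ι ⟨x, hV.ge x.2⟩ = ι y
    exact congrArg ι (Subtype.ext hxy)

/-- Subgroups of a model normalizing the image of `W₀` whose automorphisms are `p`-elements. -/
theorem isPGroup_of_model (hS : IsPGroup p S)
    {Q : Subgroup Ω} (hQS : Q ≤ S) (hQc : F.IsCentric Q) (hV : normalizerIn S Q = S)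
    {L : Type u} [Group L] {ι : ↥(normalizerIn S Q) →* L} (hL : (normSys F hQS).IsModel p L ι)
    {W₀ : Subgroup Ω} (hW₀S : W₀ ≤ S) (M : Subgroup L)
    (hM : M ≤ Subgroup.normalizer (((W₀.subgroupOf (normalizerIn S Q)).map ι : Subgroup L) : Set L))
    {pt : Prop} (hpt : pt →
      M ≤ Subgroup.centralizer (((W₀.subgroupOf (normalizerIn S Q)).map ι : Subgroup L) : Set L))
    (h : ∀ A : Subgroup Ω, W₀ ≤ A → A ≤ S → ∀ α ∈ F.autGroup A, im W₀ (av α) = W₀ →
      (pt → ∀ x ∈ W₀, av α x = x) → ∃ k, α ^ p ^ k = 1) : IsPGroup p M := by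
  haveI := hL.1
  haveI hQL : ((Q.subgroupOf (normalizerIn S Q)).map ι).Normal :=
    normal_image hL (normal_normalizerSystem hQS fun _ => rfl)
  have hmemW : ∀ x : ↥(normalizerIn S Q), ι x ∈ (W₀.subgroupOf (normalizerIn S Q)).map ι ↔
      (x : Ω) ∈ W₀ := fun x => Subgroup.mem_map_iff_mem hL.2.1.1
  have hmemQ : ∀ x : ↥(normalizerIn S Q), ι x ∈ (Q.subgroupOf (normalizerIn S Q)).map ι ↔ (x : Ω) ∈ Q :=
    fun x => Subgroup.mem_map_iff_mem hL.2.1.1
  rintro ⟨g, hgM⟩
  have hg := hM hgM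
  set A := Q ⊔ W₀ with hA
  have hAV : A ≤ normalizerIn S Q := (sup_le hQS hW₀S).trans hV.ge
  have hle : A ≤ ((ι.range).comap ((MulAut.conj g).toMonoidHom.comp ι)).map
      (normalizerIn S Q).subtype := by
    refine sup_le (fun x hx => ⟨⟨x, hV.ge (hQS hx)⟩, ?_, rfl⟩) (fun x hx => ⟨⟨x, hV.ge (hW₀S hx)⟩, ?_, rfl⟩)
    · exact Subgroup.map_le_range _ _ (hQL.conj_mem _ ((hmemQ ⟨x, hV.ge (hQS hx)⟩).2 hx) g)
    · exact Subgroup.map_le_range _ _ (conj_mem_of_normalizer hg ((hmemW ⟨x, hV.ge (hW₀S hx)⟩).2 hx))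
  obtain ⟨f, hf, hfg⟩ := exists_map_of_conj hL.2.1 hAV g fun x hx =>
    (Subgroup.mem_map_iff_mem (normalizerIn S Q).subtype_injective).1 (hle hx)
  have hval : ∀ x : ↥(normalizerIn S Q), (x : Ω) ∈ A → ∀ hy : f x ∈ normalizerIn S Q,
      ι ⟨f x, hy⟩ = g * ι x * g⁻¹ := by
    intro x hx hy
    obtain ⟨y, hy'⟩ := (Subgroup.mem_map_iff_mem (normalizerIn S Q).subtype_injective).1 (hle hx)
    rw [show (⟨f x, hy⟩ : ↥(normalizerIn S Q)) = y from Subtype.ext (hfg x hx y hy')]
    exact hy'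
  have hfF : Map F A f := by
    obtain ⟨-, -, g', hg', hgf, -⟩ := (map_normalizerSystem_iff fun _ => rfl).1 hf
    exact (hg'.restrict le_sup_left).congr hgf
  have hfQ : im Q f = Q := by
    haveI := finite_of_le hQS
    refine Subgroup.eq_of_le_of_card_ge (im_le_iff.2 fun x hx => ?_) (hfF.restrict le_sup_left).card_im.ge
    have h1 := hQL.conj_mem _ ((hmemQ ⟨x, hV.ge (hQS hx)⟩).2 hx) g
    rw [← hval _ (Subgroup.mem_sup_left hx) (hf.mem (Subgroup.mem_sup_left hx))] at h1
    exact (hmemQ _).1 h1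
  have hfW : im W₀ f = W₀ := by
    haveI := finite_of_le hW₀S
    refine Subgroup.eq_of_le_of_card_ge (im_le_iff.2 fun x hx => ?_) (hfF.restrict le_sup_right).card_im.ge
    have h1 := conj_mem_of_normalizer hg ((hmemW ⟨x, hV.ge (hW₀S hx)⟩).2 hx)
    rw [← hval _ (Subgroup.mem_sup_right hx) (hf.mem (Subgroup.mem_sup_right hx))] at h1
    exact (hmemW _).1 h1
  have hfA : im A f = A := by
    haveI := finite_of_le (sup_le hQS hW₀S)
    exact Subgroup.eq_of_le_of_card_ge (hfF.im_sup_le.trans (sup_le (hfQ.le.trans le_sup_left)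
      (hfW.le.trans le_sup_right))) hfF.card_im.ge
  obtain ⟨α, hα, hαf⟩ := exists_aut hfF hfA
  obtain ⟨k, hk⟩ := h A le_sup_right (sup_le hQS hW₀S) α hα
    ((im_congr fun x hx => hαf x (Subgroup.mem_sup_right hx)).trans hfW) fun ht x hx => by
      have h1 := hval ⟨x, hV.ge (hW₀S hx)⟩ (Subgroup.mem_sup_right hx) (hf.mem (Subgroup.mem_sup_right hx))
      rw [← Subgroup.mem_centralizer_iff.1 (hpt ht hgM) _ ((hmemW ⟨x, hV.ge (hW₀S hx)⟩).2 hx),
        mul_inv_cancel_right] at h1
      exact (hαf x (Subgroup.mem_sup_right hx)).trans (congrArg Subtype.val (hL.2.1.1 h1))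
  have hiter : ∀ n : ℕ, ∀ x : ↥(normalizerIn S Q), (x : Ω) ∈ A → ∀ hy : av (α ^ n) x ∈ normalizerIn S Q,
      ι ⟨av (α ^ n) x, hy⟩ = g ^ n * ι x * (g ^ n)⁻¹ := by
    intro n
    induction n with
    | zero =>
      intro x hx hy
      rw [show (⟨av (α ^ 0) x, hy⟩ : ↥(normalizerIn S Q)) = x from Subtype.ext (by show av (α ^ 0) (x : Ω) = x; rw [pow_zero, av_one hx])]
      simp
    | succ n ih =>
      intro x hx hy
      have h1 : av α x ∈ A := av_mem α hx
      have h2 : f x ∈ normalizerIn S Q := hf.mem hx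
      rw [show (⟨av (α ^ (n + 1)) x, hy⟩ : ↥(normalizerIn S Q)) = ⟨av (α ^ n) (av α x), hAV (av_mem _ h1)⟩
        from Subtype.ext (by show av (α ^ (n + 1)) (x : Ω) = av (α ^ n) (av α x); rw [pow_succ, av_mul _ _ hx]), ih ⟨av α x, hAV h1⟩ h1,
        show (⟨av α x, hAV h1⟩ : ↥(normalizerIn S Q)) = ⟨f x, h2⟩ from Subtype.ext (hαf x hx), hval x hx h2,
        pow_succ]
      group
  have hc : g ^ p ^ k ∈ (Q.subgroupOf (normalizerIn S Q)).map ι := by
    refine centralizer_le_of_model hL _ (Subgroup.map_le_range _ _) (fun s hs => ?_) ?_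
    · refine (hmemQ s).2 (centric_inv_mem hQc s.2.1 fun y hy => ?_)
      have h1 := Subgroup.mem_centralizer_iff.1 hs _ ((hmemQ ⟨y, hV.ge (hQS hy)⟩).2 hy)
      rw [← map_mul, ← map_mul] at h1
      exact congrArg Subtype.val (hL.2.1.1 h1)
    · refine Subgroup.mem_centralizer_iff.2 ?_
      rintro _ ⟨x, hx, rfl⟩
      have hxA : (x : Ω) ∈ A := Subgroup.mem_sup_left hx
      have h1 := hiter (p ^ k) x hxA (hAV (av_mem _ hxA))
      rw [show (⟨av (α ^ p ^ k) x, hAV (av_mem _ hxA)⟩ : ↥(normalizerIn S Q)) = x from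
        Subtype.ext (by show av (α ^ p ^ k) (x : Ω) = x; rw [hk, av_one hxA])] at h1
      exact eq_mul_inv_iff_mul_eq.1 h1
  obtain ⟨l, hl⟩ := (((hS.to_le inf_le_left : IsPGroup p ↥(normalizerIn S Q)).to_subgroup
    (Q.subgroupOf (normalizerIn S Q))).map ι) ⟨_, hc⟩
  refine ⟨k + l, Subtype.ext ?_⟩
  show g ^ p ^ (k + l) = 1
  rw [pow_add, pow_mul]
  exact congrArg Subtype.val hl

omit [Fact p.Prime] in
/-- A system whose model is a `p`-group is inner. -/
theorem isInner_of_model_top {Q : Subgroup Ω} (hQn : F.IsNormal Q) (hV : normalizerIn S Q = S)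
    {L : Type u} [Group L] {ι : ↥(normalizerIn S Q) →* L} (hL : (normSys F hQn.1).IsModel p L ι)
    (htop : ι.range = ⊤) : IsInner F := by
  intro P f hf
  obtain ⟨g', hg', hgf, hgQ⟩ := (normal_iff.1 hQn).2 P f hf
  obtain ⟨c, hc⟩ := exists_conj_of_map hL.2.1 ((map_normalizerSystem_iff (N := normSys F hQn.1) fun _ => rfl).2
    ⟨hf.le.trans hV.ge, fun x hx => hV.ge (hf.mem hx), g', hg', hgf, hgQ⟩)
  obtain ⟨s, rfl⟩ : c ∈ ι.range := htop ▸ Subgroup.mem_top c
  refine ⟨s, hV.le s.2, fun x hx => ?_⟩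
  have h1 := hc ⟨x, hV.ge (hf.le hx)⟩ hx ⟨f x, hV.ge (hf.mem hx)⟩ rfl
  rw [← map_inv, ← map_mul, ← map_mul] at h1
  exact congrArg Subtype.val (hL.2.1.1 h1)

omit [Fact p.Prime] in
theorem range_le_normalizer_image {V W₀ : Subgroup Ω} {L : Type u} [Group L] (ι : V →* L)
    (hV : V ≤ Subgroup.normalizer (W₀ : Set Ω)) :
    ι.range ≤ Subgroup.normalizer (((W₀.subgroupOf V).map ι : Subgroup L) : Set L) := by
  haveI : (W₀.subgroupOf V).Normal := Subgroup.normal_subgroupOf_of_le_normalizer hV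
  have h1 := Subgroup.le_normalizer_map ι (H := W₀.subgroupOf V)
  rw [Subgroup.normalizer_eq_top, ← MonoidHom.range_eq_map] at h1
  exact h1

/-- The model step. -/
theorem isInner_of_pAt_centric (hS : IsPGroup p S) (hF : F.IsSaturated p)
    (hW2 : ∀ (Q R : Type u) [Group Q] [Group R] [Finite Q], IsPGroup p Q → ∀ φ : Q ≃* R,
      (W Q).map φ.toMonoidHom = W R)
    (hG : ∀ (L : Type u) [Group L] [Finite L] (P : Sylow p L),
      Subgroup.centralizer ((pCore p L : Subgroup L) : Set L) ≤ pCore p L →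
      Subgroup.normalizer ((inducedFunctor W (P : Subgroup L) : Subgroup L) : Set L) ≤ P →
      (P : Subgroup L) = ⊤)
    {Q : Subgroup Ω} (hQn : F.IsNormal Q) (hQc : F.IsCentric Q) (h : PAt F p (inducedFunctor W S)) :
    IsInner F := by
  have hQsc := normal_stronglyClosed hQn
  have hV : normalizerIn S Q = S := inf_eq_left.2 (stronglyClosed_le_normalizer hQsc)
  have hfn : F.IsFullyNormalized Q := ⟨hQn.1, fun R hR => by rw [eq_of_isConj_stronglyClosed hQsc hR]⟩
  obtain ⟨L, _, ι, hL⟩ := exists_model_fn hS hF hfn hQc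
  haveI := hL.1
  obtain ⟨T, hT⟩ := hL.2.2.1
  have hSW : S ≤ normalizerIn S (inducedFunctor W S) :=
    (le_normalizerIn le_rfl).trans (normalizer_le_functor hS hW2 le_rfl)
  have hN := isPGroup_of_model hS hfn.1 hQc hV hL (Subgroup.map_subtype_le _)
    (Subgroup.normalizer (((inducedFunctor W S).subgroupOf (normalizerIn S Q)).map ι : Set L)) le_rfl
    (pt := False) False.elim fun A hWA hA α hα hi _ => h A hWA (hA.trans hSW) α hα hi
  refine isInner_of_model_top hQn hV hL (hT ▸ hG L T hL.2.2.2 ?_)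
  rw [hT, functor_image hS hW2 hV ι hL.2.1.1]
  exact ((T.is_maximal' hN (hT.le.trans (range_le_normalizer_image ι
    (hV.le.trans (hSW.trans inf_le_right))))).trans hT).le

/-- A system with a normal subgroup having `p`-group automizer and inner factor system is inner. -/
theorem isInner_of_factor {Ω : Type*} [Group Ω] {S : Subgroup Ω} [Finite S] {F : FusionSystem S} {p : ℕ}
    [Fact p.Prime] {Q : Subgroup Ω} {Ω' : Type*} [Group Ω'] {S' : Subgroup Ω'} {θ : S →* Ω'}
    {E : FusionSystem S'} (hS : IsPGroup p S) (hF : F.IsSaturated p) (hn : F.IsNormal Q)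
    (hQaut : ∀ γ ∈ F.autGroup Q, ∃ k, γ ^ p ^ k = 1) (hE : F.IsFactorSystem Q θ E) (hEinner : IsInner E) :
    IsInner F := by
  have hQsc := normal_stronglyClosed hn
  have hS' := fac_isPGroup hE hS
  refine isInner_of_gen hS hF fun R hR => ?_
  obtain ⟨hRc, hRr⟩ := gen_centric_radical hS hF hR
  have hQR : Q ≤ R := normal_le_centric_radical hS hn hRc hRr
  rintro ⟨α, hα⟩
  have hαm := map_of_mem_autGroup hRc.1 hα
  haveI := finite_of_le hn.1
  haveI := finite_of_le hRc.1
  obtain ⟨γ, hγ, hγα⟩ := exists_aut (hαm.restrict hQR) (Subgroup.eq_of_le_of_card_ge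
    (im_le_iff.2 fun x hx => stronglyClosed_map hQsc hαm (hQR hx) hx) (hαm.restrict hQR).card_im.ge)
  obtain ⟨i, hi⟩ := hQaut γ hγ
  have hQfix : ∀ x ∈ Q, av (α ^ p ^ i) x = x := by
    intro x hx
    have h1 := semiconj_pow (α := γ) (β := α) id (fun y hy => hQR hy) (fun y hy => hγα y hy) (p ^ i) x hx
    rw [hi, av_one hx] at h1
    exact h1.symm
  have hpre : preimageAlong θ (imageAlong θ R) = R := by rw [fac_pre_up hE hRc.1, sup_eq_left.2 hQR]
  have hαE := fac_induced hE hQsc (fac_up_le hE) (f := av α) (by rw [hpre]; exact hαm)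
  obtain ⟨u, hu, hue⟩ := hEinner _ _ hαE
  have hstep : ∀ x ∈ R, ue θ (av α x) = u * ue θ x * u⁻¹ := fun x hx => by
    rw [← hue _ (ue_mem_up hRc.1 hx)]
    refine fac_congr hE hQsc (A := preimageAlong θ (imageAlong θ R)) (by rw [hpre]; exact hαm) (fac_le_pre hE)
      (by rw [hpre]; exact hx) ?_ (fac_ue_ve hE (fac_ue_mem hE (hRc.1 hx))).symm
    exact fac_mem_pre.2 ⟨ve_mem, (fac_ue_ve hE (fac_ue_mem hE (hRc.1 hx))).symm ▸ ue_mem_up hRc.1 hx⟩
  obtain ⟨j, hj⟩ := hS' ⟨u, hu⟩
  have hj' : u ^ p ^ j = 1 := congrArg Subtype.val hj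
  have hiter : ∀ n : ℕ, ∀ x ∈ R, ue θ (av (α ^ n) x) = u ^ n * ue θ x * (u ^ n)⁻¹ := by
    intro n
    induction n with
    | zero => intro x hx; simp [av_one hx]
    | succ n ih =>
      intro x hx
      rw [pow_succ, av_mul _ _ hx, ih _ (av_mem α hx), hstep x hx, pow_succ]
      group
  obtain ⟨l, hl⟩ := exists_pow_eq_one_of_stabilizes (hS.to_le hRc.1) (α := α ^ p ^ (i + j))
    (fun t => if t = 0 then ⊥ else if t = 1 then Q else ⊤) 2 (if_pos rfl) (by simp) (by
      refine monotone_nat_of_le_succ fun t => ?_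
      match t with
      | 0 => simp
      | 1 => simp
      | (t + 2) => simp)
    (by
      intro t ht x hx hxC
      match t, ht with
      | 0, _ =>
        simp at hxC ⊢
        rw [pow_add, pow_mul]
        have : ∀ n : ℕ, av ((α ^ p ^ i) ^ n) x = x := fun n => by
          induction n with
          | zero => simp [av_one hx]
          | succ n ihn => rw [pow_succ, av_mul _ _ hx, hQfix x hxC, ihn]
        rw [this, inv_mul_cancel]
      | 1, _ =>
        simp
        have hxS := hRc.1 hx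
        have hyS := hRc.1 (av_mem (α ^ p ^ (i + j)) hx)
        refine (fac_ue_eq_one hE (S.mul_mem (S.inv_mem hxS) hyS)).1 ?_
        rw [ue_mul (S.inv_mem hxS) hyS, ue_inv hxS, hiter _ x hx, pow_add, mul_comm (p ^ i), pow_mul, hj',
          one_pow, one_mul, inv_one, mul_one, inv_mul_cancel])
  refine ⟨i + j + l, Subtype.ext ?_⟩
  show α ^ p ^ (i + j + l) = 1
  rw [pow_add, pow_mul]; exact hl


set_option maxHeartbeats 1000000 in
/-- The step through the factor system by the core. -/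
theorem isInner_of_core
    (hS : IsPGroup p S) (hF : F.IsSaturated p) (hbot : F.core ≠ ⊥) (hcore : ¬ F.IsCentric F.core)
    (hsub : ∀ U : Subgroup Ω, F.IsFullyNormalized U → normalizerIn S U = S → ¬ F.IsNormal U → PAt F p U)
    (hIH : ∀ (Ω' : Type u) [Group Ω'] (S' : Subgroup Ω') [Finite S'] (E : FusionSystem S'),
      Nat.card S' < Nat.card S → IsPGroup p S' → E.IsSaturated p →
      (∀ W : ∀ (Q : Type u) [Group Q], Subgroup Q,
        (∀ (Q : Type u) [Group Q] [Finite Q], IsPGroup p Q → Nontrivial Q → W Q ≠ ⊥) →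
        (∀ (Q R : Type u) [Group Q] [Group R] [Finite Q], IsPGroup p Q → ∀ φ : Q ≃* R,
          (W Q).map φ.toMonoidHom = W R) → PAt E p (inducedFunctor W S')) →
      (∀ (X : Type) [Group X], F.IsSectionFree p X → E.IsSectionFree p X) → IsInner E) :
    IsInner F := by
  have hn := core_normal hS hF
  have hmax : ∀ R, F.IsNormal R → R ≤ F.core := fun R hR => le_sSup hR
  set Q := F.core with hQ
  have hQsc := normal_stronglyClosed hn
  have hQc := hcore
  set C := Q ⊔ centralizerIn S Q with hC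
  have hCsc : F.StronglyClosed C := stronglyClosed_sup_centralizer hS hF hQsc
  have hnormal : ∀ {U : Subgroup Ω}, S ≤ Subgroup.normalizer (U : Set Ω) → normalizerIn S U = S :=
    fun h => inf_eq_left.2 h
  have hfn : ∀ {U : Subgroup Ω}, U ≤ S → S ≤ Subgroup.normalizer (U : Set Ω) → F.IsFullyNormalized U :=
    fun hU h => ⟨hU, fun R _ => by rw [hnormal h]; exact Subgroup.card_le_of_le inf_le_left⟩
  have hCS := stronglyClosed_le_normalizer hCsc
  have hCP : PAt F p C := hsub C (hfn hCsc.1 hCS) (hnormal hCS) fun hCn => hQc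
    ⟨hn.1, fun R hR => by
      rw [eq_of_isConj_stronglyClosed hQsc hR]
      exact le_sup_right.trans (hmax C hCn)⟩
  have hQfn := hfn hn.1 (stronglyClosed_le_normalizer hQsc)
  have hQaut : ∀ γ ∈ F.autGroup Q, ∃ k, γ ^ p ^ k = 1 := by
    intro γ hγ
    obtain ⟨g, hg, hgf⟩ := (receptive_iff.1 (receptive_of_fc hS hF (fc_fa_of_fn hS hF hQfn).1)).2 Q _
      (map_of_mem_autGroup hn.1 hγ) (im_av γ)
    have hgC := hg.restrict (sup_le (le_Nf (map_of_mem_autGroup hn.1 hγ)) centralizerIn_le_Nf : C ≤ _)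
    haveI := finite_of_le hCsc.1
    obtain ⟨β, hβ, hβg⟩ := exists_aut hgC (Subgroup.eq_of_le_of_card_ge
      (im_le_iff.2 fun x hx => stronglyClosed_map hCsc hgC hx hx) hgC.card_im.ge)
    obtain ⟨k, hk⟩ := hCP C le_rfl (le_normalizerIn hCsc.1) β hβ (im_av β)
    exact ⟨k, pow_eq_one_of_semiconj id (fun x hx => Subgroup.mem_sup_left hx) (Set.injOn_id _)
      (fun x hx => ((hgf x hx).symm.trans (hβg x (Subgroup.mem_sup_left hx)).symm)) hk⟩
  haveI hnor : (Q.subgroupOf S).Normal := by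
    rw [Subgroup.normal_subgroupOf_iff_le_normalizer hn.1]
    exact stronglyClosed_le_normalizer hQsc
  have hker : ∀ s : S, QuotientGroup.mk' (Q.subgroupOf S) s = 1 ↔ (s : Ω) ∈ Q := fun s =>
    (QuotientGroup.eq_one_iff s).trans Subgroup.mem_subgroupOf
  have hsurj := QuotientGroup.mk'_surjective (Q.subgroupOf S)
  set θ := QuotientGroup.mk' (Q.subgroupOf S)
  set T' : Subgroup (S ⧸ Q.subgroupOf S) := ⊤
  set E := factorSys hQsc θ hker hsurj
  have hE : F.IsFactorSystem Q θ E :=
    ⟨hn.1, hker, MonoidHom.range_eq_top.2 hsurj, fun P' φ' => fmap_iff.trans (and_iff_right le_top).symm⟩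
  haveI := fac_finite hE
  have hS' := fac_isPGroup hE hS
  have hQlt : Q < S := lt_of_le_of_ne hn.1 fun he => hQc ⟨hn.1, fun R hR => by
    rw [eq_of_isConj_stronglyClosed hQsc hR, he]; exact inf_le_left⟩
  have hEinner : IsInner E := by
    refine hIH (S ⧸ Q.subgroupOf S) _ E ?_ hS' (fac_saturated hS hF hQsc hE) ?_
      fun X _ hX => fac_sectionFree hS hF hn hE hX
    · have hc := fac_card hE (le_refl _)
      rw [fac_pre_top hE] at hc
      rw [hc]
      haveI : Finite ↥Q := finite_of_le hn.1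
      exact lt_mul_of_one_lt_left Nat.card_pos ((Subgroup.one_lt_card_iff_ne_bot _).2 hbot)
    · intro W hW1 hW2
      set W' := inducedFunctor W T' with hW'
      have hW'T : W' ≤ T' := Subgroup.map_subtype_le _
      have hW'N : normalizerIn T' W' = T' := le_antisymm inf_le_left
        ((le_normalizerIn le_rfl).trans (normalizer_le_functor hS' hW2 le_rfl))
      have hW'1 : W' ≠ ⊥ := fun h0 => by
        haveI : Nontrivial T' := (Subgroup.nontrivial_iff_ne_bot _).2 fun h1 => hQlt.ne (le_antisymm hn.1 fun x hx => by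
          refine (fac_ue_eq_one hE hx).1 (Subgroup.mem_bot.1 ?_)
          exact h1 ▸ Subgroup.mem_top _)
        exact hW1 _ hS' this ((Subgroup.map_eq_bot_iff_of_injective _ T'.subtype_injective).1 h0)
      set U := preimageAlong θ W' with hU
      have hUS : normalizerIn S U = S := by rw [hU, ← fac_normalizerIn hE hW'T, hW'N, fac_pre_top hE]
      have hUle : U ≤ S := preimage_le W'
      have hUP : PAt F p U := hsub U (hfn hUle (inf_eq_left.1 hUS)) hUS fun hUn => hW'1 <| by
        refine (Subgroup.eq_bot_iff_forall _).2 fun a ha => ?_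
        obtain ⟨x, hx, rfl⟩ := fac_exists_pre hE hW'T ha
        exact (fac_ue_eq_one hE (hUle hx)).2 (hmax U hUn hx)
      intro A' hWA hA α hα hi
      have hA' : A' ≤ T' := le_top
      obtain ⟨π, hπ, hπr⟩ := fac_exists_hom hE hQsc hA'
      rw [← hπr] at hα
      obtain ⟨β, rfl⟩ := hα
      have hUA : U ≤ preimageAlong θ A' := (fac_pre_le_iff hE hW'T).2 hWA
      have hβm := map_of_mem_autGroup (preimage_le A') β.2
      have hf' : Map E A' (av (π β)) := map_of_mem_autGroup hA' (hπr ▸ ⟨β, rfl⟩)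
      have hiU : im U (av (β : MulAut ↥(preimageAlong θ A'))) = U := by
        rw [hU, ← fac_im hE hQsc (hβm.restrict hUA) (hf'.restrict hWA) (fun x hx => (hπ β x (hUA hx)).symm), hi]
      obtain ⟨j, hj⟩ := hUP _ hUA (by rw [hUS]; exact preimage_le A') β β.2 hiU
      refine ⟨j, ?_⟩
      rw [← map_pow, show β ^ p ^ j = 1 from Subtype.ext hj, map_one]
  exact isInner_of_factor hS hF hn hQaut hE hEinner

/-- **The criterion**: if every automorphism normalizing the functor value of `S` is a `p`-element, the system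
is inner. -/
theorem isInner_of_functor
    (hW1 : ∀ (Q : Type u) [Group Q] [Finite Q], IsPGroup p Q → Nontrivial Q → W Q ≠ ⊥)
    (hW2 : ∀ (Q R : Type u) [Group Q] [Group R] [Finite Q], IsPGroup p Q → ∀ φ : Q ≃* R,
      (W Q).map φ.toMonoidHom = W R)
    (hG : ∀ (L : Type u) [Group L] [Finite L] (P : Sylow p L),
      Subgroup.centralizer ((pCore p L : Subgroup L) : Set L) ≤ pCore p L →
      Subgroup.normalizer ((inducedFunctor W (P : Subgroup L) : Subgroup L) : Set L) ≤ P →
      (P : Subgroup L) = ⊤)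
    (hS : IsPGroup p S) (hF : F.IsSaturated p) (h : PAt F p (inducedFunctor W S)) : IsInner F := by
  suffices ∀ (k m : ℕ) (Ω : Type u) [Group Ω] (S : Subgroup Ω) [Finite S] (F : FusionSystem S),
      Nat.card S = k → (allMaps F).ncard = m → IsPGroup p S → F.IsSaturated p →
      PAt F p (inducedFunctor W S) → IsInner F from this _ _ Ω S F rfl rfl hS hF h
  intro k
  induction k using Nat.strong_induction_on with
  | _ k ihk =>
  intro m
  induction m using Nat.strong_induction_on with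
  | _ m ihm =>
  intro Ω _ S _ F hk hm hS hF h
  set W₀ := inducedFunctor W S with hW₀
  have hW₀S : W₀ ≤ S := Subgroup.map_subtype_le _
  have hNW : ∀ V : Subgroup Ω, V ≤ S → normalizerIn S V ≤ normalizerIn S (inducedFunctor W V) :=
    fun V hV => normalizer_le_functor hS hW2 hV
  have hsub : ∀ U (hU : F.IsFullyNormalized U), normalizerIn S U = S → ¬ F.IsNormal U → PAt F p U := by
    intro U hU hVS hUn
    have hVp : IsPGroup p ↥(normalizerIn S U) := hS.to_le inf_le_left
    refine pAt_of_isInner hS (N := normSys F hU.1) (fun _ => rfl)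
      (ihm _ ?_ Ω _ _ (by rw [hVS, hk]) rfl hVp (normSys_saturated hS hF hU) ?_)
    · rw [← hm]; exact allMaps_lt hU.1 hUn fun _ => rfl
    · intro A hWA hA α hα hi
      have hAS : A ≤ normalizerIn S U := hA.trans inf_le_left
      obtain ⟨-, -, g, hg, hgf, -⟩ := (map_normalizerSystem_iff fun _ => rfl).1 (map_of_mem_autGroup hAS hα)
      have hWeq : inducedFunctor W (normalizerIn S U) = W₀ := by rw [hVS]
      rw [hWeq] at hWA hA hi
      exact h A hWA (hA.trans (inf_le_inf_right _ inf_le_left)) α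
        (mem_autGroup_of_map ((hg.restrict le_sup_left).congr hgf)) hi
  have hn := core_normal hS hF
  have hmax : ∀ R, F.IsNormal R → R ≤ F.core := fun R hR => le_sSup hR
  by_cases hbot : F.core = ⊥
  · have hnn : ∀ U : Subgroup Ω, U ≠ ⊥ → ¬ F.IsNormal U := fun U hU hn => hU (le_bot_iff.1 (hbot ▸ hmax U hn))
    have hall : ∀ n, ∀ U, F.IsFullyNormalized U → U ≠ ⊥ →
        Nat.card S - Nat.card ↥(normalizerIn S U) = n → PAt F p U := by
      intro n
      induction n using Nat.strong_induction_on with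
      | _ n ih =>
      intro U hU hne hn
      rcases eq_or_lt_of_le (show normalizerIn S U ≤ S from inf_le_left) with hVS | hVS
      · exact hsub U hU hVS (hnn U hne)
      have hVp : IsPGroup p ↥(normalizerIn S U) := hS.to_le inf_le_left
      refine pAt_of_isInner hS (N := normSys F hU.1) (fun _ => rfl)
        (ihk _ (hk ▸ card_lt_of_lt hVS le_rfl) _ Ω _ _ rfl rfl hVp (normSys_saturated hS hF hU) ?_)
      set R := inducedFunctor W (normalizerIn S U)
      have hRS : R ≤ S := (Subgroup.map_subtype_le _).trans inf_le_left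
      have hlt : normalizerIn S U < normalizerIn S R :=
        (lt_normalizerIn hS hVS).trans_le (hNW _ inf_le_left)
      obtain ⟨R', hconj, hR'⟩ := exists_fullyNormalized (F := F) hRS
      obtain ⟨ψ, hψ, -, hψR⟩ := exists_map_normalizer_fn hS hF hR' hconj
      have hR1 : R ≠ ⊥ := fun h0 => by
        haveI : Nontrivial ↥(normalizerIn S U) := (Subgroup.nontrivial_iff_ne_bot _).2 fun h1 =>
          hne (le_bot_iff.1 (h1 ▸ le_normalizerIn hU.1))
        exact hW1 _ hVp this ((Subgroup.map_eq_bot_iff_of_injective _ (normalizerIn S U).subtype_injective).1 h0)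
      have hR'1 : R' ≠ ⊥ := fun h0 => by
        haveI := finite_of_le hRS
        exact hR1 (Subgroup.eq_bot_of_card_eq _ (by rw [isConj_card hconj, h0, Subgroup.card_bot]))
      have hc1 : Nat.card ↥(normalizerIn S U) < Nat.card ↥(normalizerIn S R) := card_lt_of_lt hlt inf_le_left
      have hc2 : Nat.card ↥(normalizerIn S R) ≤ Nat.card ↥(normalizerIn S R') := hR'.2 _ (isConj_symm hconj)
      have hc3 : Nat.card ↥(normalizerIn S R') ≤ Nat.card S := Subgroup.card_le_of_le inf_le_left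
      have hR'P := pAt_transfer hψ hRS hψR (ih _ (by omega) R' hR' hR'1 rfl)
      intro A hRA hA α hα hi
      obtain ⟨-, -, g, hg, hgf, -⟩ := (map_normalizerSystem_iff fun _ => rfl).1
        (map_of_mem_autGroup (hA.trans inf_le_left) hα)
      exact hR'P A hRA (hA.trans (inf_le_inf_right _ inf_le_left)) α
        (mem_autGroup_of_map ((hg.restrict le_sup_left).congr hgf)) hi
    refine isInner_of_gen hS hF fun R hR => ?_
    rintro ⟨α, hα⟩
    suffices hp' : ∃ k, α ^ p ^ k = 1 from hp'.imp fun k hk => Subtype.ext hk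
    rcases hR with rfl | hR
    · exact h _ hW₀S ((le_normalizerIn le_rfl).trans (hNW _ le_rfl)) α hα
        (im_functor hS hW2 (map_of_mem_autGroup le_rfl hα) (im_av α))
    · by_cases hne : R = ⊥
      · subst hne
        exact ⟨0, aut_ext fun x hx => by
          rw [av_one hx, Subgroup.mem_bot.1 hx]; exact (map_of_mem_autGroup hR.1.1 (by simpa using hα)).map_one⟩
      · exact hall _ R hR.2.1 hne rfl R le_rfl (le_normalizerIn hR.2.1.1) α hα (im_av α)
  set Q := F.core with hQ
  have hQsc := normal_stronglyClosed hn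
  by_cases hQc : F.IsCentric Q
  · exact isInner_of_pAt_centric hS hF hW2 hG hn hQc h
  exact isInner_of_core hS hF hbot hQc hsub fun Ω' _ S' _ E hlt hp' hsat hP _ =>
    ihk _ (hk ▸ hlt) _ Ω' S' E rfl rfl hp' hsat (hP W hW1 hW2)

end Cfsg.Agent.Local.FS
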