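import Cfsg.Agent.Lib.Local.FS.LocalCenterSystem
import Cfsg.Agent.Lib.Local.FS.InnerCriterion
import Cfsg.Agent.Lib.Local.FS.Focal
import Cfsg.Agent.Lib.Fusion.Focal

/-!
A characteristic functor with the local focal condition controls transfer.
-/

set_option autoImplicit false

namespace Cfsg.Agent.Local.FS

open Cfsg Cfsg.FusionSystem Cfsg.Agent.Fusion
open scoped commutatorElement

universe u

variable {Ω : Type u} [Group Ω] {S : Subgroup Ω} {F : FusionSystem S} {p : ℕ}

/-- Displacements by maps lie in `H`. -/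
def FocClass (H : Subgroup Ω) (P : Subgroup Ω) (f : Ω → Ω) : Prop := ∀ x ∈ P, x⁻¹ * f x ∈ H

/-- The subgroup generated by displacements by maps stabilising `U`. -/
def normFoc (F : FusionSystem S) (U : Subgroup Ω) : Subgroup Ω :=
  Subgroup.closure {y | ∃ P g, Map F P g ∧ U ≤ P ∧ im U g = U ∧ ∃ x ∈ P, y = x⁻¹ * g x}

theorem normFoc_generator {U P : Subgroup Ω} {g : Ω → Ω} (hg : Map F P g) (hU : U ≤ P) (hgU : im U g = U) :
    FocClass (normFoc F U) P g := fun x hx => Subgroup.subset_closure ⟨P, g, hg, hU, hgU, x, hx, rfl⟩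

theorem normFoc_le_of {U H : Subgroup Ω}
    (h : ∀ P g, Map F P g → U ≤ P → im U g = U → FocClass H P g) : normFoc F U ≤ H := by
  refine (Subgroup.closure_le _).2 ?_
  rintro _ ⟨P, g, hg, hU, hgU, x, hx, rfl⟩
  exact h P g hg hU hgU x hx

theorem normFoc_le (F : FusionSystem S) (U : Subgroup Ω) : normFoc F U ≤ S :=
  normFoc_le_of fun _ _ hg _ _ _ hx => S.mul_mem (S.inv_mem (hg.le hx)) (hg.mem hx)

theorem normFoc_le_focal (F : FusionSystem S) (U : Subgroup Ω) : normFoc F U ≤ F.focalSubgroup :=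
  normFoc_le_of fun P _ hg _ _ x hx => by
    obtain ⟨φ, hφ, he⟩ := hg
    exact Subgroup.subset_closure ⟨P, φ, ⟨x, hx⟩, hφ, by rw [he]⟩

theorem isClosedClass_focClass (H : Subgroup Ω) : IsClosedClass F (FocClass H) := by
  refine ⟨fun h he x hx => he x hx ▸ h x hx, fun _ h hR x hx => h x (hR hx), ?_, ?_⟩
  · intro P Q f g _ _ hf hg hm x hx
    simpa [mul_assoc] using H.mul_mem (hf x hx) (hg _ (hm x hx))
  · intro P f g hM hf hg y hy
    obtain ⟨x, hx, rfl⟩ := hM.mem_im.1 hy
    rw [hg x hx]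
    simpa using H.inv_mem (hf x hx)

theorem map_of_normSys {R P : Subgroup Ω} {f : Ω → Ω} {hR : R ≤ S} (h : Map (normSys F hR) P f) : Map F P f := by
  obtain ⟨-, -, g, hg, hgf, -⟩ := (map_normalizerSystem_iff fun _ => rfl).1 h
  exact (hg.restrict le_sup_left).congr hgf

variable [Finite S]

theorem fn_of_normalized {R : Subgroup Ω} (hR : R ≤ S) (hn : normalizerIn S R = S) : F.IsFullyNormalized R :=
  ⟨hR, fun _ _ => by rw [hn]; exact Subgroup.card_le_of_le inf_le_left⟩

namespace CharBiset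

variable {b : CharBiset F p} {A : Type*} [CommGroup A]

/-- The transfer of an element on which the homomorphism is invariant. -/
theorem transfer_eq_pow (s : b.Sect) (χ : S →* A) {z : S}
    (h : ∀ (n : ℕ) P f, Map F P f → ∀ t : S, ((z ^ n : S) : Ω) ∈ P → (t : Ω) = f ((z ^ n : S) : Ω) →
      χ t = χ (z ^ n)) : transfer s χ z = χ z ^ b.orbits := by
  show ∏ q, χ (s.coc z q) = _
  rw [← orbits_eq b]
  refine prod_eq_pow_card (b.actEquiv z) _ _ fun q n hn => ?_
  have hact : ∀ i : ℕ, (b.actEquiv z ^ i) q = b.act (z ^ i) q := by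
    intro i
    induction i with
    | zero => rw [pow_zero, pow_zero, b.act_one]; rfl
    | succ i ih =>
      rw [pow_succ', pow_succ', b.act_mul, ← ih]; rfl
  have hprod : ∀ m : ℕ, ∏ i ∈ Finset.range m, χ (s.coc z ((b.actEquiv z ^ i) q)) = χ (s.coc (z ^ m) q) := by
    intro m
    induction m with
    | zero =>
      have : s.coc (1 : S) q = 1 := s.coc_unique (by rw [b.act_one, b.r_one, b.l_one])
      rw [Finset.prod_range_zero, pow_zero, this, map_one]
    | succ m ih =>
      rw [Finset.prod_range_succ, ih, pow_succ' z, Sect.coc_mul, map_mul, hact, mul_comm]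
  rw [hprod, ← map_pow]
  have hfix : b.act (z ^ n) q = q := by rw [← hact, hn]
  have hspec := s.coc_spec (z ^ n) q
  rw [hfix] at hspec
  obtain ⟨P, f, hf, hst⟩ := b.stab (s.σ q)
  obtain ⟨hm, he⟩ := (hst _ _).1 hspec.symm
  exact h n P f hf _ hm he

end CharBiset

variable [Fact p.Prime]

/-- **Transfer step**: a focal element of a subgroup normal in the system, whose automorphisms displace into `H`. -/
theorem mem_of_focal_inf (hS : IsPGroup p S) (hF : F.IsSaturated p) {Q H : Subgroup Ω} (hQn : F.IsNormal Q)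
    (hcomm : commutator ↥S ≤ H.subgroupOf S) (hQH : ∀ f, Map F Q f → FocClass H Q f)
    {z : Ω} (hzQ : z ∈ Q) (hzf : z ∈ F.focalSubgroup) : z ∈ H := by
  obtain ⟨b⟩ := exists_charBiset hS hF
  obtain ⟨s⟩ : Nonempty b.Sect := inferInstance
  set H' := H.subgroupOf S
  let π := QuotientGroup.mk' (H'.map (Abelianization.of (G := ↥S)))
  let χ : S →* Abelianization ↥S ⧸ H'.map (Abelianization.of (G := ↥S)) := π.comp Abelianization.of
  have hker : ∀ a : S, χ a = 1 → a ∈ H' := by
    intro a ha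
    obtain ⟨c, hc, he⟩ := (QuotientGroup.eq_one_iff _).1 ha
    have h1 : c⁻¹ * a ∈ H' := hcomm (by
      rw [← Abelianization.ker_of (G := ↥S), MonoidHom.mem_ker, map_mul, map_inv, he, inv_mul_cancel])
    simpa using H'.mul_mem hc h1
  have hχH : ∀ a : S, a ∈ H' → χ a = 1 := fun a ha =>
    (QuotientGroup.eq_one_iff _).2 ⟨a, ha, rfl⟩
  have hzS := hQn.1 hzQ
  have h1 := CharBiset.transfer_eq_pow s χ (z := ⟨z, hzS⟩) fun n P f hf t hzP ht => by
    set w : S := (⟨z, hzS⟩ : S) ^ n with hw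
    have hwQ : (w : Ω) ∈ Q := by
      rw [hw, SubmonoidClass.coe_pow]; exact Q.pow_mem hzQ n
    obtain ⟨g, hg, hgf, -⟩ := (normal_iff.1 hQn).2 P f hf
    have h2 : (w : Ω)⁻¹ * (t : Ω) ∈ H := by
      rw [ht, ← hgf _ hzP]
      exact hQH g (hg.restrict le_sup_right) _ hwQ
    have h3 := hχH (w⁻¹ * t) h2
    rw [map_mul, map_inv, inv_mul_eq_one] at h3
    exact h3.symm
  rw [CharBiset.transfer_focal s χ (x := ⟨z, hzS⟩) hzf] at h1
  refine hker ⟨z, hzS⟩ ?_
  obtain ⟨k, hk⟩ := hS ⟨z, hzS⟩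
  refine (orderOf_eq_one_iff).1 (Nat.eq_one_of_dvd_coprimes (a := p ^ k) (b := b.orbits) ?_
    (orderOf_dvd_of_pow_eq_one (by rw [← map_pow, hk, map_one])) (orderOf_dvd_of_pow_eq_one h1.symm))
  exact Nat.Coprime.pow_left _ ((Nat.Prime.coprime_iff_not_dvd Fact.out).2 b.not_dvd)

variable {W : ∀ (Q : Type u) [Group Q], Subgroup Q}

/-- Every displacement lies in the part of the normalizer of the functor value. -/
def FocControlled (W : ∀ (Q : Type u) [Group Q], Subgroup Q) (F : FusionSystem S) : Prop :=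
  ∀ P f, Map F P f → FocClass (normFoc F (inducedFunctor W S)) P f

omit [Finite S] [Fact p.Prime] in
theorem focClass_top {R : Subgroup Ω} {hR : R ≤ S} (hn : normalizerIn S R = S)
    (h : FocControlled W (normSys F hR)) {P : Subgroup Ω} {f : Ω → Ω} (hf : Map (normSys F hR) P f) :
    FocClass (normFoc F (inducedFunctor W S)) P f := fun x hx => by
  refine normFoc_le_of (fun B g hg hB hgB => ?_) (h P f hf x hx)
  have he : inducedFunctor W (normalizerIn S R) = inducedFunctor W S := congrArg (inducedFunctor W) hn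
  rw [he] at hB hgB
  exact normFoc_generator (map_of_normSys hg) hB hgB

set_option maxHeartbeats 800000 in
/-- Without a normal subgroup, control is inherited from the local systems. -/
theorem focControlled_of_local
    (hW1 : ∀ (Q : Type u) [Group Q] [Finite Q], IsPGroup p Q → Nontrivial Q → W Q ≠ ⊥)
    (hW2 : ∀ (Q R : Type u) [Group Q] [Group R] [Finite Q], IsPGroup p Q → ∀ φ : Q ≃* R,
      (W Q).map φ.toMonoidHom = W R)
    (hS : IsPGroup p S) (hF : F.IsSaturated p)
    (h : ∀ (U : Subgroup Ω) (hU : F.IsFullyNormalized U), U ≠ ⊥ → FocControlled W (normSys F hU.1)) :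
    FocControlled W F := by
  set W₀ := inducedFunctor W S with hW₀
  set H := normFoc F W₀ with hH
  have hW₀S : W₀ ≤ S := Subgroup.map_subtype_le _
  have hK := isClosedClass_focClass (F := F) H
  have hSK : ∀ α ∈ F.autGroup S, FocClass H S (av α) := fun α hα =>
    normFoc_generator (map_of_mem_autGroup le_rfl hα) hW₀S
      (im_functor hS hW2 (map_of_mem_autGroup le_rfl hα) (im_av α))
  by_cases hS1 : S = ⊥
  · intro P f hf x hx
    have hx1 : x = 1 := by
      have := hf.le hx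
      rw [hS1] at this
      exact Subgroup.mem_bot.1 this
    rw [hx1, hf.map_one]
    simp
  suffices key : ∀ n : ℕ, ∀ (U : Subgroup Ω) (hU : F.IsFullyNormalized U), U ≠ ⊥ →
      Nat.card S - Nat.card ↥(normalizerIn S U) = n →
      ∀ A f, Map (normSys F hU.1) A f → FocClass H A f by
    refine fun P f hf => alperin hS hF hK (fun R hR α hα => ?_) P f hf
    rcases hR with rfl | hR
    · exact hSK α hα
    have hne : R ≠ ⊥ := fun h0 => by
      subst h0
      exact hS1 (le_bot_iff.1 fun x hx => centric_inv_mem hR.1 hx fun y hy => by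
        rw [Subgroup.mem_bot.1 hy]; simp)
    refine key _ R hR.2.1 hne rfl R (av α) ((map_normalizerSystem_iff fun _ => rfl).2
      ⟨le_normalizerIn hR.2.1.1, fun x hx => le_normalizerIn hR.2.1.1 (av_mem α hx), av α, ?_,
        fun _ _ => rfl, im_av α⟩)
    rw [sup_idem]; exact map_of_mem_autGroup hR.2.1.1 hα
  intro n
  induction n using Nat.strong_induction_on with
  | _ n ih =>
  intro U hU hne hn A f hf x hx
  set V := normalizerIn S U with hV
  set U₂ := inducedFunctor W V with hU₂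
  suffices hgen : ∀ B g, Map F B g → U₂ ≤ B → B ≤ V → (∀ y ∈ B, g y ∈ V) → im U₂ g = U₂ → FocClass H B g from
    normFoc_le_of (fun B g hg hB hgB => hgen B g (map_of_normSys hg) hB hg.le (fun y hy => hg.mem hy) hgB)
      (h U hU hne A f hf x hx)
  intro B g hg hB hBV hgm hgU
  rcases eq_or_lt_of_le (show V ≤ S from inf_le_left) with hVS | hVS
  · have he : U₂ = W₀ := congrArg (inducedFunctor W) hVS
    exact normFoc_generator hg (he ▸ hB) (by rw [← he]; exact hgU)
  have hU₂V : U₂ ≤ V := Subgroup.map_subtype_le _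
  have hU₂S : U₂ ≤ S := hU₂V.trans inf_le_left
  have hU₂ne : U₂ ≠ ⊥ := fun h0 => by
    refine hW1 V (hS.to_le inf_le_left) ((Subgroup.nontrivial_iff_ne_bot V).2 fun hb =>
      hne (le_bot_iff.1 (hb ▸ le_normalizerIn hU.1))) ?_
    exact (Subgroup.map_eq_bot_iff_of_injective _ V.subtype_injective).1 h0
  have hlt : V < normalizerIn S U₂ := (lt_normalizerIn hS hVS).trans_le (normalizer_le_functor hS hW2 inf_le_left)
  obtain ⟨U', hconj, hU'⟩ := exists_fullyNormalized (F := F) hU₂S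
  obtain ⟨ψ, hψ, hψm, hψU⟩ := exists_map_normalizer_fn hS hF hU' hconj
  have hU'ne : U' ≠ ⊥ := by
    haveI := finite_of_le hU₂S
    intro h0
    refine hU₂ne (Subgroup.eq_bot_of_card_eq _ ?_)
    rw [isConj_card hconj, h0, Subgroup.card_bot]
  have hcard : Nat.card V < Nat.card ↥(normalizerIn S U₂) := card_lt_of_lt hlt inf_le_left
  have hcard' : Nat.card ↥(normalizerIn S U₂) ≤ Nat.card ↥(normalizerIn S U') := hU'.2 _ (isConj_symm hconj)
  have hle' : Nat.card ↥(normalizerIn S U') ≤ Nat.card S := Subgroup.card_le_of_le inf_le_left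
  have hbig : ∀ P φ, Map F P φ → Nat.card V < Nat.card P → FocClass H P φ := by
    intro P φ hφ
    refine alperin hS hF (K := fun P φ => Nat.card V < Nat.card P → FocClass H P φ) ?_ ?_ P φ hφ
    · refine ⟨fun h he hc => hK.congr (h hc) he, ?_, ?_, ?_⟩
      · intro X X' f hf h hX hc
        haveI := finite_of_le hf.le
        exact hK.restrict hf (h (hc.trans_le (Subgroup.card_le_of_le hX))) hX
      · intro X X' f g hf hg h h' hm hc
        haveI := finite_of_le hg.le
        exact hK.comp hf hg (h hc) (h' (hc.trans_le (hf.card_le hm))) hm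
      · intro X f g hf h hg hc
        exact hK.inv hf (h (hf.card_im ▸ hc)) hg
    · intro X hX β hβ hc
      rcases hX with rfl | hX
      · exact hSK β hβ
      have hXS := hX.2.1.1
      have hne : X ≠ ⊥ := fun h0 => by
        rw [h0, Subgroup.card_bot] at hc
        exact absurd hc (not_lt.2 Nat.card_pos)
      have h1 : Nat.card X ≤ Nat.card ↥(normalizerIn S X) := Subgroup.card_le_of_le (le_normalizerIn hXS)
      have h2 : Nat.card ↥(normalizerIn S X) ≤ Nat.card S := Subgroup.card_le_of_le inf_le_left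
      refine ih _ (by omega) X hX.2.1 hne rfl X (av β) ((map_normalizerSystem_iff fun _ => rfl).2
        ⟨le_normalizerIn hXS, fun x hx => le_normalizerIn hXS (av_mem β hx), av β, ?_,
          fun _ _ => rfl, im_av β⟩)
      rw [sup_idem]; exact map_of_mem_autGroup hXS hβ
  have hψK : FocClass H (normalizerIn S U₂) ψ := hbig _ ψ hψ hcard
  have hBN : B ≤ normalizerIn S U₂ := hBV.trans hlt.le
  have hgN : ∀ y ∈ B, g y ∈ normalizerIn S U₂ := fun y hy => hlt.le (hgm y hy)
  obtain ⟨ψ', hψ', hψψ, hψ'2, -⟩ := (hψ.restrict hBN).exists_inv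
  have hh : Map F (im B ψ) (ψ ∘ g ∘ ψ') :=
    (hψ'.comp hg fun y hy => (hψ'2 y hy).2).comp hψ fun y hy => hgN _ (hψ'2 y hy).2
  have hhU : im U' (ψ ∘ g ∘ ψ') = U' := by
    rw [← hψU, ← (hψ.restrict (hB.trans hBN)).im_comp]
    refine (im_congr (g := ψ ∘ g) fun y hy => ?_).trans ?_
    · show ψ (g (ψ' (ψ y))) = ψ (g y)
      rw [hψψ y (hB hy)]
    · rw [(hg.restrict hB).im_comp, hgU]
  have hU'le : U' ≤ im B ψ := hψU.ge.trans (im_mono hB)
  have hhN : Map (normSys F hU'.1) (im B ψ) (ψ ∘ g ∘ ψ') :=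
    (map_normalizerSystem_iff fun _ => rfl).2 ⟨im_le_iff.2 fun y hy => hψm y (hBN hy),
      fun y hy => hψm _ (hgN _ (hψ'2 y hy).2), ψ ∘ g ∘ ψ', by rwa [sup_eq_left.2 hU'le],
      fun _ _ => rfl, hhU⟩
  have hhK : FocClass H (im B ψ) (ψ ∘ g ∘ ψ') := ih _ (by omega) U' hU' hU'ne rfl _ _ hhN
  intro y hy
  have h2 := hhK (ψ y) (mem_im_of_mem hy)
  simp only [Function.comp, hψψ y hy] at h2
  have h3 := H.mul_mem (H.mul_mem (hψK y (hBN hy)) h2) (H.inv_mem (hψK (g y) (hgN y hy)))
  simpa [mul_assoc] using h3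

omit [Fact p.Prime] in
theorem commutator_le_normFoc (hS : IsPGroup p S)
    (hW2 : ∀ (Q R : Type u) [Group Q] [Group R] [Finite Q], IsPGroup p Q → ∀ φ : Q ≃* R,
      (W Q).map φ.toMonoidHom = W R) (F : FusionSystem S) :
    commutator ↥S ≤ (normFoc F (inducedFunctor W S)).subgroupOf S := by
  rw [commutator_def, Subgroup.commutator_le]
  intro a _ b _
  have hm : Map F S (fun x => (b : Ω) * x * (b : Ω)⁻¹) := map_conjBy le_rfl b.2
  have hi : im S (fun x => (b : Ω) * x * (b : Ω)⁻¹) = S := Subgroup.eq_of_le_of_card_ge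
    (im_le_iff.2 fun x hx => S.mul_mem (S.mul_mem b.2 hx) (S.inv_mem b.2)) hm.card_im.ge
  have h := normFoc_generator hm (show inducedFunctor W S ≤ S from Subgroup.map_subtype_le _)
    (im_functor hS hW2 hm hi) (a : Ω)⁻¹ (S.inv_mem a.2)
  rw [Subgroup.mem_subgroupOf]
  simpa [commutatorElement_def, mul_assoc] using h

set_option maxHeartbeats 800000 in
/-- The maps of the largest normal subgroup displace into the normalizer part. -/
theorem focClass_core
    (hW2 : ∀ (Q R : Type u) [Group Q] [Group R] [Finite Q], IsPGroup p Q → ∀ φ : Q ≃* R,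
      (W Q).map φ.toMonoidHom = W R)
    (hT : ∀ (G : Type u) [Group G] [Finite G] (P : Sylow p G),
      Subgroup.centralizer ((pCore p G : Subgroup G) : Set G) ≤ pCore p G →
      pCore p G ⊓ commutator G = pCore p G ⊓ (commutator ↥(Subgroup.normalizer
        (inducedFunctor W (P : Subgroup G) : Set G))).map
        (Subgroup.normalizer (inducedFunctor W (P : Subgroup G) : Set G)).subtype)
    (hS : IsPGroup p S) (hF : F.IsSaturated p) {Q : Subgroup Ω} (hQn : F.IsNormal Q)
    (hcore : ∀ R, F.IsNormal R → R ≤ Q)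
    (hrec : ∀ (R : Subgroup Ω) (hR : F.IsFullyNormalized R), ¬ F.IsNormal R → FocControlled W (normSys F hR.1))
    {f : Ω → Ω} (hf : Map F Q f) : FocClass (normFoc F (inducedFunctor W S)) Q f := by
  set W₀ := inducedFunctor W S with hW₀
  set H := normFoc F W₀ with hH
  have hsc := normal_stronglyClosed hQn
  have hQS := hQn.1
  haveI := finite_of_le hQS
  have hfQ : im Q f = Q :=
    Subgroup.eq_of_le_of_card_ge (im_le_iff.2 fun x hx => stronglyClosed_map hsc hf hx hx) hf.card_im.ge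
  have hQV : normalizerIn S Q = S := inf_eq_left.2 (stronglyClosed_le_normalizer hsc)
  have hQfc : F.IsFullyCentralized Q := (fc_fa_of_fn hS hF (fn_of_normalized hQS hQV)).1
  set R₀ := Q ⊔ centralizerIn S Q with hR₀
  have hR₀S : R₀ ≤ S := sup_le hQS inf_le_left
  haveI := finite_of_le hR₀S
  obtain ⟨g₁, hg₁, hgf⟩ := (receptive_iff.1 (receptive_of_fc hS hF hQfc)).2 Q f hf hfQ
  have hg := hg₁.restrict (sup_le (le_Nf hf) centralizerIn_le_Nf : R₀ ≤ Nf S Q f)
  have hgR : im R₀ g₁ = R₀ := Subgroup.eq_of_le_of_card_ge (hg.im_sup_le.trans (sup_le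
    (((im_congr hgf).trans hfQ).le.trans le_sup_left) ((im_le_iff.2 fun y hy => by
      have h1 := hg.mem_centralizer (le_sup_left : Q ≤ R₀) (Subgroup.mem_sup_right hy) (mem_centralizerIn.1 hy).2
      rwa [(im_congr hgf).trans hfQ] at h1).trans le_sup_right))) hg.card_im.ge
  have hR₀V : normalizerIn S R₀ = S := by
    refine le_antisymm inf_le_left fun s hs => ⟨hs, mem_normalizer_of_conj_mem hR₀S fun y hy => ?_⟩
    have hsQ := (hQV.ge hs).2
    have hle : R₀ ≤ R₀.comap (MulAut.conj s).toMonoidHom := sup_le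
      (fun u hu => Subgroup.mem_sup_left (conj_mem_of_normalizer hsQ hu))
      (fun c hc => Subgroup.mem_sup_right (mem_centralizerIn.2 ⟨S.mul_mem (S.mul_mem hs hc.1) (S.inv_mem hs),
        fun u hu => by
          have h1 : s⁻¹ * u * s ∈ Q := by
            have := conj_mem_of_normalizer (inv_mem hsQ) hu
            rwa [inv_inv] at this
          show u * (s * c * s⁻¹) = s * c * s⁻¹ * u
          calc u * (s * c * s⁻¹) = s * ((s⁻¹ * u * s) * c) * s⁻¹ := by group
            _ = s * (c * (s⁻¹ * u * s)) * s⁻¹ := by rw [(mem_centralizerIn.1 hc).2 _ h1]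
            _ = s * c * s⁻¹ * u := by group⟩))
    exact hle hy
  by_cases hRn : F.IsNormal R₀
  swap
  · have hfn := fn_of_normalized (F := F) hR₀S hR₀V
    have hgN : Map (normSys F hfn.1) R₀ g₁ := (map_normalizerSystem_iff fun _ => rfl).2
      ⟨hR₀S.trans hR₀V.ge, fun y hy => hR₀V.ge (hg.mem hy), g₁, by rwa [sup_idem], fun _ _ => rfl, hgR⟩
    intro x hx
    have h := focClass_top hR₀V (hrec R₀ hfn hRn) hgN x (Subgroup.mem_sup_left hx)
    rwa [hgf x hx] at h
  have hC : centralizerIn S Q ≤ Q := le_sup_right.trans (hcore R₀ hRn)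
  have hQc : F.IsCentric Q := ⟨hQS, fun R hR => by rw [eq_of_isConj_stronglyClosed hsc hR]; exact hC⟩
  obtain ⟨L, _, ι, hm⟩ := exists_model hS hF hQn hQc
  haveI := hm.1
  obtain ⟨T, hTι⟩ := hm.2.2.1
  haveI := normal_image hm hQn
  have hQp : (Q.subgroupOf S).map ι ≤ pCore p L :=
    le_pCore (T.isPGroup'.to_le ((Subgroup.map_le_range ι _).trans hTι.ge))
  have hW₀n : S ≤ Subgroup.normalizer (W₀ : Set Ω) := by
    intro s hs
    exact ((normalizerIn_functor hS hW2).ge hs).2
  set M := Subgroup.normalizer (inducedFunctor W (T : Subgroup L) : Set L) with hM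
  have himg : inducedFunctor W (T : Subgroup L) = (W₀.subgroupOf S).map ι := by
    rw [hTι]; exact inducedFunctor_range hW2 hS hm.2.1.1
  have hTM : (T : Subgroup L) ≤ M := by
    rw [hM, himg, hTι]; exact range_le_normalizer_image ι hW₀n
  have hfoc : focalIn (T : Subgroup L) M ≤ (H.subgroupOf S).map ι := by
    refine (Subgroup.closure_le _).2 ?_
    rintro _ ⟨a, ha, c, hc, hca, rfl⟩
    rw [hTι] at ha hca
    obtain ⟨u, rfl⟩ := ha
    obtain ⟨v, hv⟩ := hca
    refine ⟨u⁻¹ * v, ?_, by rw [map_mul, map_inv, hv]⟩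
    have hW₀S : W₀ ≤ S := Subgroup.map_subtype_le _
    have hP : Subgroup.zpowers (u : Ω) ⊔ W₀ ≤ S := sup_le (Subgroup.zpowers_le.2 u.2) hW₀S
    rw [hM, himg] at hc
    have hle : Subgroup.zpowers (u : Ω) ⊔ W₀ ≤
        ((ι.range).comap ((MulAut.conj c).toMonoidHom.comp ι)).map S.subtype := by
      refine sup_le (Subgroup.zpowers_le.2 ⟨u, ⟨v, hv⟩, rfl⟩) fun w hw => ⟨⟨w, hW₀S hw⟩, ?_, rfl⟩
      exact Subgroup.map_le_range ι _ (conj_mem_of_normalizer hc
        (Subgroup.mem_map_of_mem ι (show (⟨w, hW₀S hw⟩ : S) ∈ W₀.subgroupOf S from hw)))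
    obtain ⟨f', hf', hf'c⟩ := exists_map_of_conj hm.2.1 hP c fun w hw =>
      (Subgroup.mem_map_iff_mem S.subtype_injective).1 (hle hw)
    haveI := finite_of_le hW₀S
    have hf'W : im W₀ f' = W₀ := Subgroup.eq_of_le_of_card_ge (im_le_iff.2 fun w hw => by
      obtain ⟨y, hy, he⟩ := conj_mem_of_normalizer hc
        (Subgroup.mem_map_of_mem ι (show (⟨w, hW₀S hw⟩ : S) ∈ W₀.subgroupOf S from hw))
      rw [hf'c ⟨w, hW₀S hw⟩ (Subgroup.mem_sup_right hw) y he]
      exact hy) (hf'.restrict le_sup_right).card_im.ge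
    have huP : (u : Ω) ∈ Subgroup.zpowers (u : Ω) ⊔ W₀ := Subgroup.mem_sup_left (Subgroup.mem_zpowers _)
    have h := normFoc_generator hf' le_sup_right hf'W u huP
    rw [hf'c u huP v hv] at h
    exact h
  intro x hx
  obtain ⟨c, hc⟩ := exists_conj_of_map hm.2.1 hf
  have hfx := hc ⟨x, hQS hx⟩ hx ⟨f x, hf.mem hx⟩ rfl
  set y : S := (⟨x, hQS hx⟩ : S)⁻¹ * ⟨f x, hf.mem hx⟩ with hy
  have hyQ : y ∈ Q.subgroupOf S := Q.mul_mem (Q.inv_mem hx) (hfQ.le (mem_im_of_mem hx))
  have hyO : ι y ∈ pCore p L := hQp (Subgroup.mem_map_of_mem ι hyQ)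
  have hyC : ι y ∈ pCore p L ⊓ commutator L := by
    refine ⟨hyO, ?_⟩
    have h := Subgroup.commutator_mem_commutator (Subgroup.mem_top (ι ⟨x, hQS hx⟩)⁻¹) (Subgroup.mem_top c)
    rw [← commutator_def] at h
    rw [hy, map_mul, map_inv, hfx]
    simpa [commutatorElement_def, mul_assoc] using h
  rw [hT L T hm.2.2.2, Subgroup.map_subtype_commutator] at hyC
  have hyF : ι y ∈ focalIn (T : Subgroup L) M := by
    rw [← inf_commutator_eq_focalIn ((sylIn_top T).mono hTM le_top)]
    exact ⟨pCore_le_sylow T hyO, hyC.2⟩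
  obtain ⟨w, hw, he⟩ := hfoc hyF
  rw [hm.2.1.1 he] at hw
  exact hw

set_option maxHeartbeats 800000 in
/-- **Control of transfer**. -/
theorem focControlled
    (hW1 : ∀ (Q : Type u) [Group Q] [Finite Q], IsPGroup p Q → Nontrivial Q → W Q ≠ ⊥)
    (hW2 : ∀ (Q R : Type u) [Group Q] [Group R] [Finite Q], IsPGroup p Q → ∀ φ : Q ≃* R,
      (W Q).map φ.toMonoidHom = W R)
    (hT : ∀ (G : Type u) [Group G] [Finite G] (P : Sylow p G),
      Subgroup.centralizer ((pCore p G : Subgroup G) : Set G) ≤ pCore p G →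
      pCore p G ⊓ commutator G = pCore p G ⊓ (commutator ↥(Subgroup.normalizer
        (inducedFunctor W (P : Subgroup G) : Set G))).map
        (Subgroup.normalizer (inducedFunctor W (P : Subgroup G) : Set G)).subtype)
    (hS : IsPGroup p S) (hF : F.IsSaturated p) : FocControlled W F := by
  suffices ∀ (k m : ℕ) (Ω : Type u) [Group Ω] (S : Subgroup Ω) [Finite S] (F : FusionSystem S),
      Nat.card S = k → (allMaps F).ncard = m → IsPGroup p S → F.IsSaturated p →
      FocControlled W F from this _ _ Ω S F rfl rfl hS hF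
  intro k
  induction k using Nat.strong_induction_on with
  | _ k ihk =>
  intro m
  induction m using Nat.strong_induction_on with
  | _ m ihm =>
  intro Ω _ S _ F hk hm hS hF
  have hrec : ∀ (U : Subgroup Ω) (hU : F.IsFullyNormalized U), ¬ F.IsNormal U →
      FocControlled W (normSys F hU.1) := by
    intro U hU hUn
    have hVp : IsPGroup p ↥(normalizerIn S U) := hS.to_le inf_le_left
    have hsat := normSys_saturated hS hF hU
    rcases eq_or_lt_of_le (show normalizerIn S U ≤ S from inf_le_left) with hVS | hVS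
    · refine ihm _ ?_ Ω _ _ (by rw [hVS, hk]) rfl hVp hsat
      rw [← hm]
      exact allMaps_lt hU.1 hUn fun _ => rfl
    · exact ihk _ (hk ▸ card_lt_of_lt hVS le_rfl) _ Ω _ _ rfl rfl hVp hsat
  have hn := core_normal hS hF
  by_cases hbot : F.core = ⊥
  · exact focControlled_of_local hW1 hW2 hS hF fun U hU hne =>
      hrec U hU fun h => hne (le_bot_iff.1 (hbot ▸ le_sSup h))
  set Q := F.core
  set H := normFoc F (inducedFunctor W S)
  have hsc := normal_stronglyClosed hn
  have hSQ := stronglyClosed_le_normalizer hsc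
  haveI := finite_of_le hn.1
  have hQH : ∀ f, Map F Q f → FocClass H Q f := fun f hf =>
    focClass_core hW2 hT hS hF hn (fun R hR => le_sSup hR) hrec hf
  by_cases hQS : Q = S
  · intro P f hf x hx
    obtain ⟨g, hg, hgf, -⟩ := (normal_iff.1 hn).2 P f hf
    have h := hQH g (hg.restrict le_sup_right) x (hQS.ge (hf.le hx))
    rwa [hgf x hx] at h
  haveI hnor : (Q.subgroupOf S).Normal := by
    rw [Subgroup.normal_subgroupOf_iff_le_normalizer hn.1]
    exact hSQ
  have hker : ∀ s : S, QuotientGroup.mk' (Q.subgroupOf S) s = 1 ↔ (s : Ω) ∈ Q := fun s =>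
    (QuotientGroup.eq_one_iff s).trans Subgroup.mem_subgroupOf
  have hsurj := QuotientGroup.mk'_surjective (Q.subgroupOf S)
  set θ := QuotientGroup.mk' (Q.subgroupOf S)
  set E := factorSys hsc θ hker hsurj
  have hE : F.IsFactorSystem Q θ E :=
    ⟨hn.1, hker, MonoidHom.range_eq_top.2 hsurj, fun P' φ' => fmap_iff.trans (and_iff_right le_top).symm⟩
  haveI := fac_finite hE
  have hEp := fac_isPGroup hE hS
  have hEc : FocControlled W E := by
    refine ihk _ ?_ _ (S ⧸ Q.subgroupOf S) _ _ rfl rfl hEp (fac_saturated hS hF hsc hE)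
    have hc := fac_card hE (le_refl _)
    rw [fac_pre_top hE, hk] at hc
    rw [hc]
    exact lt_mul_of_one_lt_left Nat.card_pos ((Subgroup.one_lt_card_iff_ne_bot _).2 hbot)
  set W' := inducedFunctor W (⊤ : Subgroup (S ⧸ Q.subgroupOf S))
  have htop : (⊤ : Subgroup (S ⧸ Q.subgroupOf S)) ≠ ⊥ := fun h => hQS (le_antisymm hn.1 fun x hx => by
    refine (fac_ue_eq_one hE hx).1 (Subgroup.mem_bot.1 (h ▸ ?_))
    exact Subgroup.mem_top _)
  have hW' : W' ≠ ⊥ := fun h => hW1 ↥(⊤ : Subgroup (S ⧸ Q.subgroupOf S)) hEp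
    ((Subgroup.nontrivial_iff_ne_bot _).2 htop)
    ((Subgroup.map_eq_bot_iff_of_injective _ (Subgroup.subtype_injective _)).1 h)
  set U₁ := preimageAlong θ W' with hU₁
  have hU₁V : normalizerIn S U₁ = S := by
    rw [hU₁, ← fac_normalizerIn hE le_top, normalizerIn_functor hEp hW2, fac_pre_top hE]
  have hU₁n : ¬ F.IsNormal U₁ := fun h => hW' ((Subgroup.eq_bot_iff_forall _).2 fun a ha => by
    obtain ⟨x, hx, rfl⟩ := fac_exists_pre hE (le_top : W' ≤ ⊤) ha
    exact (fac_ue_eq_one hE (fac_mem_pre.1 hx).1).2 ((le_sSup h : U₁ ≤ Q) hx))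
  have hU₁fn := fn_of_normalized (F := F) (preimage_le _) hU₁V
  have hU₁K : ∀ B g, Map F B g → U₁ ≤ B → im U₁ g = U₁ → FocClass H B g := fun B g hg hB hgU =>
    focClass_top hU₁V (hrec U₁ hU₁fn hU₁n) ((map_normalizerSystem_iff fun _ => rfl).2
      ⟨hg.le.trans hU₁V.ge, fun y hy => hU₁V.ge (hg.mem hy), g, by rwa [sup_eq_left.2 hB],
        fun _ _ => rfl, hgU⟩)
  have hHS : H ≤ S := normFoc_le F _
  have hgenE : normFoc E W' ≤ imageAlong θ H := by
    refine normFoc_le_of fun B g' hg' hB hgW a ha => ?_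
    obtain ⟨-, g, hg, hgg⟩ := fac_lift hE hsc hg'
    obtain ⟨x, hx, rfl⟩ := fac_exists_pre hE hg'.le ha
    have hle : U₁ ≤ preimageAlong θ B := (fac_pre_le_iff hE le_top).2 hB
    have hgU : im U₁ g = U₁ := by
      rw [hU₁, ← fac_im hE hsc (hg.restrict hle) (hg'.restrict hB) fun y hy => hgg y (hle hy), hgW]
    have h1 := ue_mem_up (i := θ) hHS (hU₁K _ g hg hle hgU x hx)
    rw [ue_mul (S.inv_mem (hg.le hx)) (hg.mem hx), ue_inv (hg.le hx), hgg x hx] at h1
    exact h1
  have hmod : ∀ P f, Map F P f → FocClass (H ⊔ Q) P f := by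
    intro P f hf x hx
    obtain ⟨g, hg, hgf, -⟩ := (normal_iff.1 hn).2 P f hf
    have he : preimageAlong θ (imageAlong θ P) = P ⊔ Q := fac_pre_up hE hf.le
    have hg' := fac_induced hE hsc (fac_up_le hE) (he.symm ▸ hg : Map F (preimageAlong θ (imageAlong θ P)) g)
    have hxm : ue θ x ∈ imageAlong θ P := ue_mem_up hf.le hx
    have h1 := hgenE (hEc _ _ hg' (ue θ x) hxm)
    rw [fac_congr hE hsc hg le_sup_right (by
      rw [← he]; exact fac_mem_pre.2 ⟨ve_mem, (fac_ue_ve hE (fac_ue_mem hE (hf.le hx))).symm ▸ hxm⟩)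
      (Subgroup.mem_sup_left hx) (fac_ue_ve hE (fac_ue_mem hE (hf.le hx))), hgf x hx, ← ue_inv (hf.le hx),
      ← ue_mul (S.inv_mem (hf.le hx)) (hf.mem hx)] at h1
    rw [← fac_pre_up hE hHS]
    exact fac_mem_pre.2 ⟨S.mul_mem (S.inv_mem (hf.le hx)) (hf.mem hx), h1⟩
  intro P f hf x hx
  obtain ⟨a, ha, q, hq, he⟩ := mem_sup_of_normalized hSQ hHS (hmod P f hf x hx)
  have hxf : x⁻¹ * f x ∈ F.focalSubgroup := by
    obtain ⟨φ, hφ, hφe⟩ := hf
    exact Subgroup.subset_closure ⟨P, φ, ⟨x, hx⟩, hφ, by rw [hφe]⟩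
  have hqH : q ∈ H := by
    refine mem_of_focal_inf hS hF hn (commutator_le_normFoc hS hW2 F) hQH hq ?_
    rw [← he] at hxf
    simpa using F.focalSubgroup.mul_mem (F.focalSubgroup.inv_mem (normFoc_le_focal F _ ha)) hxf
  rw [← he]
  exact H.mul_mem ha hqH

end Cfsg.Agent.Local.FS
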