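import Cfsg.Agent.Lib.Local.FS.LimitPrime
import Cfsg.Agent.Lib.Local.FS.Quotient
import Cfsg.Agent.Lib.Local.FS.TransferControl

/-!
Normal subsystems between a normal subsystem and the system, for a descent along a `p`-solvable automiser quotient.
-/

set_option autoImplicit false

namespace Cfsg.Agent.Local.FS.PSolv

open Cfsg Cfsg.FusionSystem Cfsg.Agent.Fusion Cfsg.Agent.Local.FS

universe u

variable {Ω : Type u} [Group Ω] {S U T : Subgroup Ω} [Finite S] {F : FusionSystem S} {M : FusionSystem U}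
  {E : FusionSystem T} {f : Ω → Ω} {p : ℕ} [Fact p.Prime]

omit [Fact p.Prime] in
/-- A strongly closed subgroup is fully normalized. -/
theorem fn_of_sc (hT : F.StronglyClosed T) : F.IsFullyNormalized T :=
  fn_of_normalized hT.1 (le_antisymm inf_le_left (le_inf le_rfl (stronglyClosed_le_normalizer hT)))

omit [Fact p.Prime] in
/-- A map on a strongly closed subgroup is an automorphism of it. -/
theorem exists_autT (hT : F.StronglyClosed T) (hf : Map F T f) :
    ∃ α ∈ F.autGroup T, ∀ x ∈ T, av α x = f x := by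
  haveI := finite_of_le hT.1
  exact exists_aut hf (Subgroup.eq_of_le_of_card_ge
    (im_le_iff.2 fun x hx => stronglyClosed_map hT hf hx hx) hf.card_im.ge)

omit [Fact p.Prime] in
theorem im_eq_of_sc (hT : F.StronglyClosed T) (hf : Map F T f) : im T f = T := by
  haveI := finite_of_le hT.1
  exact Subgroup.eq_of_le_of_card_ge (im_le_iff.2 fun x hx => stronglyClosed_map hT hf hx hx) hf.card_im.ge

omit [Fact p.Prime] in
theorem sc_sub (hT : F.StronglyClosed T) (hMF : M.IsSubsystemOf F) (hTU : T ≤ U) : M.StronglyClosed T :=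
  stronglyClosed_iff.2 ⟨hTU, fun _ _ hP hf x hx => stronglyClosed_map hT (hf.of_sub hMF) hx (hP hx)⟩

omit [Finite S] [Fact p.Prime] in
theorem centT_eq (hUS : U ≤ S) (hC : centralizerIn S T ≤ U) : centralizerIn U T = centralizerIn S T :=
  le_antisymm (fun _ hx => ⟨hUS hx.1, hx.2⟩) fun _ hx => ⟨hC hx, hx.2⟩

omit [Fact p.Prime] in
/-- A weakly normal subsystem over a subgroup containing its centraliser is normal. -/
theorem normal_of_weakly (hM : M.IsWeaklyNormalIn F p) (hC : centralizerIn S U ≤ U) : M.IsNormalIn F p := by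
  refine ⟨hM, fun α hα => ?_⟩
  have hU := hM.2.2.2.1
  haveI := finite_of_le hU.1
  have hm := ((map_of_mem_autGroup (le_refl U) hα).of_sub hM.2.2.1).restrict
    (sup_le le_rfl hC : U ⊔ centralizerIn S U ≤ U)
  obtain ⟨β, hβ, hβe⟩ := exists_aut hm (by rw [sup_eq_left.2 hC]; exact im_av α)
  refine ⟨β, hβ, fun x => ?_, fun c hc => ?_⟩
  · rw [← av_coe, ← av_coe, Subgroup.coe_inclusion]
    exact hβe x (Subgroup.mem_sup_left x.2)
  · rw [← av_coe, hβe c c.2]
    have hcU := hC hc
    refine ⟨U.mul_mem (U.inv_mem hcU) (av_mem α hcU), Subgroup.mul_mem _ (Subgroup.inv_mem _ hc.2) ?_⟩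
    refine Subgroup.mem_centralizer_iff.2 fun y hy => ?_
    have hm' := map_of_mem_autGroup (le_refl U) hα
    have hy' := av_mem α⁻¹ hy
    have h := (mem_centralizerIn.1 hc).2 _ hy'
    conv_lhs => rw [← av_av_inv α hy]
    conv_rhs => rw [← av_av_inv α hy]
    rw [← hm'.map_mul hy' hcU, h, hm'.map_mul hcU hy']

/-- `T C_S(T)` is strongly closed. -/
theorem scL (hS : IsPGroup p S) (hF : F.IsSaturated p) (hT : F.StronglyClosed T) :
    F.StronglyClosed (T ⊔ centralizerIn S T) :=
  stronglyClosed_sup_centralizer hS hF hT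

omit [Fact p.Prime] in
/-- The extension of an automorphism in a normal subsystem, as an automorphism of `T C_S(T)`. -/
theorem exists_extL (hE : E.IsNormalIn M p) (hUS : U ≤ S) (hC : centralizerIn S T ≤ U) {α : MulAut T}
    (hα : α ∈ E.autGroup T) :
    ∃ β ∈ M.autGroup (T ⊔ centralizerIn S T), (∀ x ∈ T, av β x = av α x) ∧
      ∀ c ∈ centralizerIn S T, c⁻¹ * av β c ∈ T ⊓ Subgroup.centralizer (T : Set Ω) := by
  obtain ⟨β₀, hβ₀, h1, h2⟩ := hE.2 α hα
  haveI := finite_of_le hUS
  have he := centT_eq (T := T) hUS hC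
  have hTU : T ≤ U := hE.1.2.2.2.1.1
  have hm := (map_of_mem_autGroup (sup_le hTU inf_le_left) hβ₀).restrict
    (sup_le_sup_left he.ge T : T ⊔ centralizerIn S T ≤ T ⊔ centralizerIn U T)
  obtain ⟨β, hβ, hβe⟩ := exists_aut hm (by rw [← he]; exact im_av β₀)
  refine ⟨β, hβ, fun x hx => ?_, fun c hc => ?_⟩
  · rw [hβe x (Subgroup.mem_sup_left hx), av_apply α hx, ← h1 ⟨x, hx⟩, ← av_coe]
    rfl
  · rw [hβe c (Subgroup.mem_sup_right hc)]
    have hcU := he.ge hc
    have h := h2 ⟨c, Subgroup.mem_sup_right hcU⟩ hcU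
    rwa [← av_coe] at h

/-- Normality passes to an intermediate saturated subsystem containing the extensions. -/
theorem normal_inherit (hS : IsPGroup p S) (hE : E.IsNormalIn F p) (hMs : M.IsSaturated p)
    (hMF : M.IsSubsystemOf F) (hC : centralizerIn S T ≤ U) (hEM : E.IsSubsystemOf M)
    (hext : ∀ α ∈ E.autGroup T, ∃ g, Map M (T ⊔ centralizerIn S T) g ∧ (∀ x ∈ T, g x = av α x) ∧
      ∀ c ∈ centralizerIn S T, c⁻¹ * g c ∈ T ⊓ Subgroup.centralizer (T : Set Ω)) :
    E.IsNormalIn M p := by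
  have hUS := le_of_sub hMF
  haveI := finite_of_le hUS
  have hTU := le_of_sub hEM
  have hT := hE.1.2.2.2.1
  have hTM := sc_sub hT hMF hTU
  refine ⟨⟨hE.1.1, hMs, (isInvariantIn_iff (hS.to_le hUS) hMs hEM hTM).2 fun A B f g hAB hBT hf hfB hg =>
    (isInvariantIn_iff hS hE.1.2.1 hE.1.2.2.1 hT).1 hE.1.2.2 A B f g hAB hBT hf hfB (hg.of_sub hMF)⟩,
    fun α hα => ?_⟩
  obtain ⟨g, hg, hgT, hgC⟩ := hext α hα
  have he := centT_eq (T := T) hUS hC
  have hle : T ⊔ centralizerIn U T ≤ T ⊔ centralizerIn S T := sup_le_sup_left he.le T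
  have hg' := hg.restrict hle
  have him : im (T ⊔ centralizerIn U T) g = T ⊔ centralizerIn U T := by
    rw [he]
    exact im_eq_of_sc (sc_sub (scL hS hE.1.2.1 hT) hMF (sup_le hTU hC)) hg
  obtain ⟨β, hβ, hβg⟩ := exists_aut hg' him
  refine ⟨β, hβ, fun x => ?_, fun c hc => ?_⟩
  · rw [← av_coe, ← av_coe, Subgroup.coe_inclusion, hβg x (Subgroup.mem_sup_left x.2), hgT x x.2]
  · rw [← av_coe, hβg c c.2]
    exact hgC c (he.le hc)

omit [Finite S] [Fact p.Prime] in
/-- Conjugation by an element of `T` lies in `Aut_E(T)`. -/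
theorem conjT_mem (E : FusionSystem T) {t : Ω} (ht : t ∈ T) {α : MulAut T}
    (h : ∀ x ∈ T, av α x = t * x * t⁻¹) : α ∈ E.autGroup T :=
  mem_autGroup_of_map ((map_conjBy le_rfl ht).congr fun x hx => (h x hx).symm)

omit [Finite S] [Fact p.Prime] in
theorem inn_le (E : FusionSystem T) : Inn T ≤ E.autGroup T := fun _ hα => by
  obtain ⟨g, hg, h⟩ := mem_Inn.1 hα
  exact conjT_mem E hg h

/-- An intermediate system of the descent. -/
structure Good (F : FusionSystem S) (E : FusionSystem T) (p : ℕ) (M : FusionSystem U) : Prop where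
  le : T ⊔ centralizerIn S T ≤ U
  normal : M.IsNormalIn F p
  sub : E.IsSubsystemOf M
  normalE : E.IsNormalIn M p
  limit : ∀ (V W : Subgroup Ω) (L : FusionSystem V) (N : FusionSystem W),
    L.IsResidualLimitOf F p → N.IsResidualLimitOf M p → SameSys L N

theorem good_self (hS : IsPGroup p S) (hE : E.IsNormalIn F p) : Good F E p F where
  le := sup_le hE.1.2.2.2.1.1 inf_le_left
  normal := normal_of_weakly (weaklyNormal_self hS hE.1.2.1) inf_le_left
  sub := hE.1.2.2.1
  normalE := hE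
  limit := fun _ _ _ _ hL hN => limit_unique' hL hS hE.1.2.1 hN

theorem Good.le_S (h : Good F E p M) : U ≤ S := le_of_sub h.normal.1.2.2.1

end Cfsg.Agent.Local.FS.PSolv
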