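import Cfsg.Agent.Lib.Local.FS.AboveCore

/-!
Solvable fusion systems: chains of strongly closed subgroups with abelian quotients; constrainedness.
-/

set_option autoImplicit false

namespace Cfsg.Agent.Local.FS

open Cfsg Cfsg.FusionSystem Cfsg.Agent.Fusion
open scoped commutatorElement

variable {Ω : Type*} [Group Ω] {S : Subgroup Ω} {F : FusionSystem S} {T : Subgroup Ω}
  {Ω' : Type*} [Group Ω'] {S' : Subgroup Ω'} {θ : S →* Ω'} {E : FusionSystem S'} {R' : Subgroup Ω'}
  {p : ℕ} [Fact p.Prime] [Finite S]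

omit [Fact p.Prime] in
theorem fac_stronglyClosed_up (hT : F.StronglyClosed T) (hE : F.IsFactorSystem T θ E) {C : Subgroup Ω}
    (hC : F.StronglyClosed C) (hTC : T ≤ C) : E.StronglyClosed (imageAlong θ C) := by
  refine stronglyClosed_iff.2 ⟨fac_up_le hE, fun P' f' hP' hf' a ha => ?_⟩
  obtain ⟨-, f, hf, hff⟩ := fac_lift hE hT hf'
  obtain ⟨x, hx, rfl⟩ := fac_exists_pre hE hf'.le ha
  rw [← hff x hx]
  have hxC : x ∈ C := by
    have := (fac_pre_le_iff hE hf'.le).2 hP' hx
    rwa [fac_pre_up hE hC.1, sup_eq_left.2 hTC] at this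
  exact ue_mem_up hC.1 (stronglyClosed_map hC hf hx hxC)

omit [Finite S] [Fact p.Prime] in
theorem stronglyClosed_bot : F.StronglyClosed ⊥ :=
  ⟨bot_le, fun P hP φ _ x => by
    rw [show x = 1 from Subtype.ext (Subgroup.mem_bot.1 (hP x.2)), map_one]
    exact Subgroup.one_mem _⟩

/-- An abelian strongly closed subgroup is normal. -/
theorem normal_of_abelian_stronglyClosed (hS : IsPGroup p S) (hF : F.IsSaturated p) (hT : F.StronglyClosed T)
    (hab : ∀ a ∈ T, ∀ b ∈ T, a * b = b * a) : F.IsNormal T := by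
  refine normal_of_series hS hF (fun i => if i = 0 then ⊥ else T) 1 (if_pos rfl) (if_neg one_ne_zero)
    (monotone_nat_of_le_succ fun i => by cases i <;> simp) hT (fun i _ => by simpa using hT) fun i hi => ?_
  obtain rfl : i = 0 := by omega
  simp only [Nat.zero_add, one_ne_zero, ↓reduceIte]
  rw [le_bot_iff, Subgroup.commutator_eq_bot_iff_le_centralizer]
  exact fun a ha => Subgroup.mem_centralizer_iff.2 fun b hb => hab b hb a ha

/-- A chain of strongly closed subgroups with abelian quotients. -/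
def HasChain (F : FusionSystem S) (T : Subgroup Ω) : Prop :=
  ∃ (n : ℕ) (C : ℕ → Subgroup Ω), C 0 = T ∧ C n = S ∧ Monotone C ∧ (∀ i, F.StronglyClosed (C i)) ∧
    ∀ i < n, ⁅C (i + 1), C (i + 1)⁆ ≤ C i

theorem hasChain_of_solvable (hS : IsPGroup p S) (hF : F.IsSaturated p) (h : F.IsSolvableSystem) :
    ∀ T : Subgroup Ω, F.StronglyClosed T → HasChain F T := by
  suffices ∀ k, ∀ T : Subgroup Ω, Nat.card S - Nat.card T = k → F.StronglyClosed T → HasChain F T from
    fun T hT => this _ T rfl hT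
  intro k
  induction k using Nat.strong_induction_on with
  | _ k ih =>
  intro T hk hT
  rcases eq_or_ne T S with rfl | hne
  · exact ⟨0, fun _ => T, rfl, rfl, monotone_const, fun _ => hT, fun i hi => absurd hi (Nat.not_lt_zero i)⟩
  haveI hn : (T.subgroupOf S).Normal := by
    rw [Subgroup.normal_subgroupOf_iff_le_normalizer hT.1]
    exact stronglyClosed_le_normalizer hT
  have hker : ∀ s : S, QuotientGroup.mk' (T.subgroupOf S) s = 1 ↔ (s : Ω) ∈ T := fun s =>
    (QuotientGroup.eq_one_iff s).trans Subgroup.mem_subgroupOf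
  have hsurj := QuotientGroup.mk'_surjective (T.subgroupOf S)
  have hE : F.IsFactorSystem T (QuotientGroup.mk' (T.subgroupOf S)) (factorSys hT _ hker hsurj) :=
    ⟨hT.1, hker, MonoidHom.range_eq_top.2 hsurj, fun P' φ' => fmap_iff.trans (and_iff_right le_top).symm⟩
  have hcore := h T hT hne _ hE
  haveI := fac_finite hE
  have hEs := fac_saturated hS hF hT hE
  set D := (factorSys hT _ hker hsurj).core
  have hD : (factorSys hT _ hker hsurj).IsNormal D := core_normal (fac_isPGroup hE hS) hEs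
  set Z := (Subgroup.center D).map D.subtype
  have hZD : Z ≤ D := Subgroup.map_subtype_le _
  have hZn : (factorSys hT _ hker hsurj).IsNormal Z := by
    refine normal_of_characteristic hD hZD ?_
    have he : Z.subgroupOf D = Subgroup.center D :=
      Subgroup.comap_map_eq_self_of_injective D.subtype_injective _
    rw [he]
    infer_instance
  have hZne : Z ≠ ⊥ := by
    haveI : Finite D := finite_of_le hD.1
    haveI : Nontrivial D := (Subgroup.nontrivial_iff_ne_bot D).2 hcore
    have := IsPGroup.center_nontrivial ((fac_isPGroup hE hS).to_le hD.1)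
    intro hb
    exact ((Subgroup.nontrivial_iff_ne_bot _).1 this)
      ((Subgroup.map_eq_bot_iff_of_injective _ D.subtype_injective).1 hb)
  have hZab : ∀ a ∈ Z, ∀ b ∈ Z, a * b = b * a := by
    rintro _ ⟨a, ha, rfl⟩ _ ⟨b, -, rfl⟩
    exact congrArg D.subtype (Subgroup.mem_center_iff.1 ha b).symm
  set T₁ := preimageAlong (QuotientGroup.mk' (T.subgroupOf S)) Z
  have hT₁ : F.StronglyClosed T₁ := fac_stronglyClosed_pre hS hF hT hE (normal_stronglyClosed hZn)
  have hTT₁ : T ≤ T₁ := fac_le_pre hE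
  have hlt : T < T₁ := by
    refine lt_of_le_not_ge hTT₁ fun hle => hZne ?_
    refine (Subgroup.eq_bot_iff_forall _).2 fun a ha => ?_
    obtain ⟨x, hx, rfl⟩ := fac_exists_pre hE hZn.1 ha
    exact (fac_ue_eq_one hE (fac_mem_pre.1 hx).1).2 (hle hx)
  have hcomm : ⁅T₁, T₁⁆ ≤ T := by
    refine Subgroup.commutator_le.2 fun a ha b hb => ?_
    obtain ⟨haS, ha'⟩ := fac_mem_pre.1 ha
    obtain ⟨hbS, hb'⟩ := fac_mem_pre.1 hb
    rw [commutatorElement_def]
    refine (fac_ue_eq_one hE (S.mul_mem (S.mul_mem (S.mul_mem haS hbS) (S.inv_mem haS)) (S.inv_mem hbS))).1 ?_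
    rw [ue_mul (S.mul_mem (S.mul_mem haS hbS) (S.inv_mem haS)) (S.inv_mem hbS),
      ue_mul (S.mul_mem haS hbS) (S.inv_mem haS), ue_mul haS hbS, ue_inv haS, ue_inv hbS, hZab _ ha' _ hb']
    group
  have h1 := card_lt_of_lt hlt hT₁.1
  have h2 : Nat.card T₁ ≤ Nat.card S := Subgroup.card_le_of_le hT₁.1
  obtain ⟨n, C, hC0, hCn, hmono, hsc, hab⟩ := ih _ (by omega) T₁ rfl hT₁
  refine ⟨n + 1, fun i => if i = 0 then T else C (i - 1), if_pos rfl, by simp [hCn],
    monotone_nat_of_le_succ fun i => ?_, fun i => ?_, fun i hi => ?_⟩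
  · cases i with
    | zero => simpa [hC0] using hTT₁
    | succ j => simpa using hmono (Nat.le_succ j)
  · cases i with
    | zero => simpa using hT
    | succ j => simpa using hsc j
  · cases i with
    | zero => simpa [hC0] using hcomm
    | succ j => simpa using hab j (by omega)

theorem solvable_of_hasChain (hS : IsPGroup p S) (hF : F.IsSaturated p) (h : HasChain F ⊥) :
    F.IsSolvableSystem := by
  intro R hR hne _ E hE
  obtain ⟨n, C, hC0, hCn, hmono, hsc, hab⟩ := h
  haveI := fac_finite hE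
  have hex : ∃ i, i < n ∧ C i ≤ R ∧ ¬ C (i + 1) ≤ R := by
    by_contra hno
    push Not at hno
    have : ∀ i ≤ n, C i ≤ R := fun i => by
      induction i with
      | zero => intro _; rw [hC0]; exact bot_le
      | succ i ih => exact fun hi => hno i (by omega) (ih (by omega))
    exact hne (le_antisymm hR.1 (hCn ▸ this n le_rfl))
  obtain ⟨i, hi, hiR, hnot⟩ := hex
  have hU : F.StronglyClosed (R ⊔ C (i + 1)) := stronglyClosed_sup hS hF hR (hsc _)
  set Z := imageAlong (QuotientGroup.mk' (R.subgroupOf S)) (R ⊔ C (i + 1))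
  have hZ := fac_stronglyClosed_up hR hE hU le_sup_left
  have hU' : ∀ x ∈ R ⊔ C (i + 1), ∃ c ∈ C (i + 1), ue (QuotientGroup.mk' (R.subgroupOf S)) x =
      ue (QuotientGroup.mk' (R.subgroupOf S)) c := by
    intro x hx
    rw [sup_comm] at hx
    obtain ⟨c, hc, r, hr, rfl⟩ := mem_sup_of_normalized (stronglyClosed_le_normalizer hR) (hsc _).1 hx
    exact ⟨c, hc, by rw [ue_mul ((hsc _).1 hc) (hR.1 hr), (fac_ue_eq_one hE (hR.1 hr)).2 hr, mul_one]⟩
  have hn := normal_of_abelian_stronglyClosed (fac_isPGroup hE hS) (fac_saturated hS hF hR hE) hZ (by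
    intro a ha b hb
    obtain ⟨x, hx, rfl⟩ := (mem_up hU.1).1 ha
    obtain ⟨y, hy, rfl⟩ := (mem_up hU.1).1 hb
    obtain ⟨c, hc, hxc⟩ := hU' x hx
    obtain ⟨d, hd, hyd⟩ := hU' y hy
    rw [hxc, hyd]
    have hcS := (hsc _).1 hc
    have hdS := (hsc _).1 hd
    have h1 : ⁅c, d⁆ ∈ R := hiR (hab i hi (Subgroup.commutator_mem_commutator hc hd))
    rw [commutatorElement_def] at h1
    have h2 := (fac_ue_eq_one hE (hR.1 h1)).2 h1
    rw [ue_mul (S.mul_mem (S.mul_mem hcS hdS) (S.inv_mem hcS)) (S.inv_mem hdS),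
      ue_mul (S.mul_mem hcS hdS) (S.inv_mem hcS), ue_mul hcS hdS, ue_inv hcS, ue_inv hdS] at h2
    exact commutatorElement_eq_one_iff_mul_comm.1 (by rw [commutatorElement_def]; exact h2))
  intro hbot
  have hle : Z ≤ E.core := le_sSup hn
  rw [hbot, le_bot_iff] at hle
  refine hnot fun c hc => ?_
  have h3 : ue (QuotientGroup.mk' (R.subgroupOf S)) c ∈ Z := ue_mem_up hU.1 (Subgroup.mem_sup_right hc)
  rw [hle, Subgroup.mem_bot] at h3
  exact (fac_ue_eq_one hE ((hsc _).1 hc)).1 h3

omit [Fact p.Prime] in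
theorem hasChain_factor (hT : F.StronglyClosed T) (hE : F.IsFactorSystem T θ E)
    (hS : IsPGroup p S) (hF : F.IsSaturated p) [Fact p.Prime] (h : HasChain F ⊥) : HasChain E ⊥ := by
  obtain ⟨n, C, hC0, hCn, hmono, hsc, hab⟩ := h
  refine ⟨n, fun i => imageAlong θ (T ⊔ C i), ?_, ?_, fun i j hij => ?_,
    fun i => fac_stronglyClosed_up hT hE (stronglyClosed_sup hS hF hT (hsc i)) le_sup_left, fun i hi => ?_⟩
  · refine (Subgroup.eq_bot_iff_forall _).2 fun a ha => ?_
    obtain ⟨x, hx, rfl⟩ := (mem_up (sup_le hT.1 (hsc 0).1)).1 ha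
    rw [hC0, sup_bot_eq] at hx
    exact (fac_ue_eq_one hE (hT.1 hx)).2 hx
  · refine le_antisymm (fac_up_le hE) fun a ha => ?_
    obtain ⟨x, hx, rfl⟩ := fac_exists_pre hE (le_refl S') ha
    exact ue_mem_up (sup_le hT.1 (hsc n).1) (Subgroup.mem_sup_right (hCn.symm ▸ (fac_mem_pre.1 hx).1))
  · intro a ha
    obtain ⟨x, hx, rfl⟩ := (mem_up (sup_le hT.1 (hsc i).1)).1 ha
    exact ue_mem_up (sup_le hT.1 (hsc j).1) (sup_le_sup_left (hmono hij) T hx)
  · refine Subgroup.commutator_le.2 fun a ha b hb => ?_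
    have key : ∀ a ∈ imageAlong θ (T ⊔ C (i + 1)), ∃ c ∈ C (i + 1), ue θ c = a := by
      intro a ha
      obtain ⟨x, hx, rfl⟩ := (mem_up (sup_le hT.1 (hsc _).1)).1 ha
      rw [sup_comm] at hx
      obtain ⟨c, hc, t, ht, rfl⟩ := mem_sup_of_normalized (stronglyClosed_le_normalizer hT) (hsc _).1 hx
      exact ⟨c, hc, by rw [ue_mul ((hsc _).1 hc) (hT.1 ht), (fac_ue_eq_one hE (hT.1 ht)).2 ht, mul_one]⟩
    obtain ⟨c, hc, rfl⟩ := key a ha
    obtain ⟨d, hd, rfl⟩ := key b hb
    have hcS := (hsc _).1 hc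
    have hdS := (hsc _).1 hd
    have h1 := ue_mem_up (i := θ) (sup_le hT.1 (hsc i).1)
      (Subgroup.mem_sup_right (hab i hi (Subgroup.commutator_mem_commutator hc hd)))
    rw [commutatorElement_def, ue_mul (S.mul_mem (S.mul_mem hcS hdS) (S.inv_mem hcS)) (S.inv_mem hdS),
      ue_mul (S.mul_mem hcS hdS) (S.inv_mem hcS), ue_mul hcS hdS, ue_inv hcS, ue_inv hdS] at h1
    rw [commutatorElement_def]
    exact h1

universe u

/-- Solvable systems are constrained. -/
theorem constrained_of_hasChain {Ω : Type u} [Group Ω] {S : Subgroup Ω} [Finite S] {F : FusionSystem S}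
    (hS : IsPGroup p S) (hF : F.IsSaturated p) (h : HasChain F ⊥) : F.IsConstrained p := by
  suffices ∀ (k : ℕ) (Ω : Type u) [Group Ω] (S : Subgroup Ω) [Finite S] (F : FusionSystem S),
      Nat.card S = k → IsPGroup p S → F.IsSaturated p → HasChain F ⊥ → F.IsConstrained p from
    this _ Ω S F rfl hS hF h
  intro k
  induction k using Nat.strong_induction_on with
  | _ k ih =>
  intro Ω _ S _ F hk hS hF h
  have hn := core_normal hS hF
  have hmax : ∀ R : Subgroup Ω, F.IsNormal R → R ≤ F.core := fun R hR => le_sSup hR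
  refine ⟨hF, F.core, hn, ?_⟩
  by_cases hbot : F.core = ⊥
  · -- the system is trivial
    obtain ⟨n, C, hC0, hCn, hmono, hsc, hab⟩ := h
    have : ∀ i ≤ n, C i = ⊥ := by
      intro i
      induction i with
      | zero => exact fun _ => hC0
      | succ i ihi =>
        intro hi
        refine le_bot_iff.1 (hbot ▸ hmax _ (normal_of_abelian_stronglyClosed hS hF (hsc _) fun a ha b hb => ?_))
        have h1 := hab i (by omega) (Subgroup.commutator_mem_commutator ha hb)
        rw [ihi (by omega), Subgroup.mem_bot] at h1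
        exact commutatorElement_eq_one_iff_mul_comm.1 h1
    have hSbot : S = ⊥ := hCn ▸ this n le_rfl
    refine ⟨hn.1, fun Q hQ => ?_⟩
    exact (inf_le_left.trans hSbot.le).trans bot_le
  have hsc := normal_stronglyClosed hn
  haveI hnor : (F.core.subgroupOf S).Normal := by
    rw [Subgroup.normal_subgroupOf_iff_le_normalizer hn.1]
    exact stronglyClosed_le_normalizer hsc
  have hker : ∀ s : S, QuotientGroup.mk' (F.core.subgroupOf S) s = 1 ↔ (s : Ω) ∈ F.core := fun s =>
    (QuotientGroup.eq_one_iff s).trans Subgroup.mem_subgroupOf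
  have hsurj := QuotientGroup.mk'_surjective (F.core.subgroupOf S)
  have hE : F.IsFactorSystem F.core (QuotientGroup.mk' (F.core.subgroupOf S)) (factorSys hsc _ hker hsurj) :=
    ⟨hn.1, hker, MonoidHom.range_eq_top.2 hsurj, fun P' φ' => fmap_iff.trans (and_iff_right le_top).symm⟩
  haveI := fac_finite hE
  refine centric_of_constrained_quotient hS hF hn hmax hE (ih _ ?_ (S ⧸ F.core.subgroupOf S) _ _ rfl
    (fac_isPGroup hE hS) (fac_saturated hS hF hsc hE) (hasChain_factor hsc hE hS hF h))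
  rw [← hk]
  have hc := fac_card hE (le_refl _)
  rw [fac_pre_top hE] at hc
  rw [hc]
  haveI : Finite ↥F.core := finite_of_le hn.1
  exact lt_mul_of_one_lt_left Nat.card_pos ((Subgroup.one_lt_card_iff_ne_bot _).2 hbot)

end Cfsg.Agent.Local.FS
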