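import Cfsg.Agent.Lib.Local.FS.ShiftExtend
import Cfsg.Agent.Lib.Local.FS.Series
import Cfsg.Agent.Lib.Local.FS.Transfer
import Cfsg.Agent.Lib.Local.FS.Sub

/-!
Subnormal perfect subsystems with central core centralise the core of the whole system.
-/

set_option autoImplicit false

namespace Cfsg.Agent.Local.FS

open Cfsg Cfsg.FusionSystem Cfsg.Agent.Fusion

variable {Ω : Type*} [Group Ω] {S T : Subgroup Ω} {F : FusionSystem S} {E : FusionSystem T}
  {D P Q R : Subgroup Ω} {f g : Ω → Ω} {p : ℕ}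

/-- Every map of `E` extends in `F` over `Q` fixing `Q` pointwise. -/
def CentExt (E : FusionSystem T) (F : FusionSystem S) (Q : Subgroup Ω) : Prop :=
  ∀ P f, Map E P f → ∃ g, Map F (P ⊔ Q) g ∧ (∀ x ∈ P, g x = f x) ∧ ∀ q ∈ Q, g q = q

theorem centExt_center [Finite S] (hQ : Q ≤ F.center) : CentExt F F Q := by
  classical
  have hQS : Q ≤ S := fun z hz => (center_spec F (hQ hz)).1
  haveI := finite_of_le hQS
  suffices key : ∀ s : Finset Q, ∀ P f, Map F P f → ∃ g,
      Map F (P ⊔ Subgroup.closure ((Subtype.val : Q → Ω) '' (s : Set Q))) g ∧ (∀ x ∈ P, g x = f x) ∧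
        ∀ q ∈ s, g (q : Ω) = q by
    intro P f hf
    haveI hfin := Fintype.ofFinite Q
    obtain ⟨g, hg, hgf, hgq⟩ := key Finset.univ P f hf
    refine ⟨g, hg.restrict (sup_le le_sup_left fun q hq => ?_), hgf, fun q hq => hgq ⟨q, hq⟩ (Finset.mem_univ _)⟩
    exact Subgroup.mem_sup_right (Subgroup.subset_closure ⟨⟨q, hq⟩, Finset.mem_coe.2 (Finset.mem_univ _), rfl⟩)
  intro s
  induction s using Finset.induction_on with
  | empty => exact fun P f hf => ⟨f, by simpa using hf, fun _ _ => rfl, by simp⟩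
  | @insert z s hz ih =>
    intro P f hf
    obtain ⟨g, hg, hgf, hgs⟩ := ih P f hf
    obtain ⟨k, hk, hkg, hkz⟩ := (center_spec F (hQ z.2)).2 _ g hg
    refine ⟨k, hk.restrict (sup_le (le_sup_left.trans le_sup_left) ((Subgroup.closure_le _).2 ?_)),
      fun x hx => (hkg x (Subgroup.mem_sup_left hx)).trans (hgf x hx), fun q hq => ?_⟩
    · rintro _ ⟨q, hq, rfl⟩
      rcases Finset.mem_insert.1 (Finset.mem_coe.1 hq) with rfl | hq
      · exact Subgroup.mem_sup_right (Subgroup.mem_zpowers _)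
      · exact Subgroup.mem_sup_left (Subgroup.mem_sup_right
          (Subgroup.subset_closure ⟨q, Finset.mem_coe.2 hq, rfl⟩))
    · rcases Finset.mem_insert.1 hq with rfl | hq
      · exact hkz
      · rw [hkg _ (Subgroup.mem_sup_right (Subgroup.subset_closure ⟨q, Finset.mem_coe.2 hq, rfl⟩))]
        exact hgs q hq

/-- The maps of `C` fixing `Q`, as a class. -/
theorem centExt_closedClass [Finite Q] {U : Subgroup Ω} {C : FusionSystem U} (hCF : C.IsSubsystemOf F) :
    IsClosedClass C fun P f => ∃ g, Map F (P ⊔ Q) g ∧ (∀ x ∈ P, g x = f x) ∧ ∀ q ∈ Q, g q = q where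
  congr := fun ⟨k, hk, hkf, hkQ⟩ he => ⟨k, hk, fun x hx => (hkf x hx).trans (he x hx), hkQ⟩
  restrict := fun _ ⟨k, hk, hkf, hkQ⟩ hR =>
    ⟨k, hk.restrict (sup_le_sup_right hR Q), fun x hx => hkf x (hR hx), hkQ⟩
  comp := by
    intro P R f g _ _ ⟨k, hk, hkf, hkQ⟩ ⟨l, hl, hlg, hlQ⟩ hm
    refine ⟨l ∘ k, hk.comp hl fun x hx => ?_, fun x hx => ?_, fun q hq => ?_⟩
    · refine (show im P k ⊔ im Q k ≤ R ⊔ Q from sup_le_sup ?_ ?_) (hk.im_sup_le (mem_im_of_mem hx))
      · exact im_le_iff.2 fun y hy => by rw [hkf y hy]; exact hm y hy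
      · exact im_le_iff.2 fun y hy => by rw [hkQ y hy]; exact hy
    · show l (k x) = g (f x)
      rw [hkf x hx, hlg _ (hm x hx)]
    · show l (k q) = q
      rw [hkQ q hq, hlQ q hq]
  inv := by
    intro P f g hM ⟨k, hk, hkf, hkQ⟩ hg
    obtain ⟨l, hl, hlk, -, -⟩ := hk.exists_inv
    refine ⟨l, hl.restrict (sup_le ((im_congr hkf).symm.le.trans (im_mono le_sup_left)) fun q hq => ?_),
      fun y hy => ?_, fun q hq => ?_⟩
    · rw [← hkQ q hq]; exact mem_im_of_mem (Subgroup.mem_sup_right hq)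
    · obtain ⟨x, hx, rfl⟩ := hM.mem_im.1 hy
      rw [hg x hx, ← hkf x hx, hlk x (Subgroup.mem_sup_left hx)]
    · conv_lhs => rw [← hkQ q hq]
      rw [hlk q (Subgroup.mem_sup_right hq)]

variable [Finite S] [Fact p.Prime]

/-- The intersection of a normal subgroup with the subgroup of a normal subsystem is normal in it. -/
theorem inf_normal_sub (hS : IsPGroup p S) (hF : F.IsSaturated p) (hE : E.IsWeaklyNormalIn F p)
    (hQ : F.IsNormal Q) : E.IsNormal (Q ⊓ T) := by
  obtain ⟨hEs, -, hEi⟩ := id hE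
  have hT := hEi.2.1
  haveI := finite_of_le hT.1
  obtain ⟨n, C, h0, hn, hmono, hQc, hC, hcomm⟩ :=
    series_of_extends hS hQ.1 fun P f hP hf => normal_extends hQ P f hP hf
  have hsc : ∀ {U : Subgroup Ω}, F.StronglyClosed U → E.StronglyClosed (U ⊓ T) := fun hU =>
    stronglyClosed_iff.2 ⟨inf_le_right, fun P f hP hf x hx =>
      ⟨stronglyClosed_map hU (hf.of_sub hEi.1) hx (hP hx).1, hf.mem hx⟩⟩
  refine normal_of_series (hS.to_le hT.1) hEs (fun i => C i ⊓ T) n ?_ ?_
    (fun i j h => inf_le_inf_right T (hmono h)) (hsc hQc) (fun i _ => hsc (hC _)) fun i hi => ?_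
  · show C 0 ⊓ T = ⊥
    rw [h0, bot_inf_eq]
  · show C n ⊓ T = Q ⊓ T
    rw [hn n le_rfl]
  · exact le_inf ((Subgroup.commutator_mono inf_le_left inf_le_left).trans (hcomm i hi))
      ((Subgroup.commutator_mono inf_le_right inf_le_right).trans (Subgroup.commutator_le_self T))

theorem inf_core_le (hS : IsPGroup p S) (hF : F.IsSaturated p) (hE : E.IsWeaklyNormalIn F p) :
    F.core ⊓ T ≤ E.core := le_sSup (inf_normal_sub hS hF hE (core_normal hS hF))

/-- A perfect subsystem centralises `Q` as soon as it has shifted extensions over `Q` fixing a subgroup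
containing all the shifts. -/
theorem centExt_of_perfect {U : Subgroup Ω} {C : FusionSystem U} (hS : IsPGroup p S)
    (hCs : C.IsSaturated p) (hCF : C.IsSubsystemOf F) (hperf : C.hyperfocalSubgroup p = U)
    (hQ : Q ≤ S) (hQn : F.StronglyClosed Q)
    (h : ∀ P f, Map C P f → ∃ g, Map F (P ⊔ Q) g ∧ (∀ x ∈ P, g x = f x) ∧
      ∀ q ∈ Q, q⁻¹ * g q ∈ Q ∧ g (q⁻¹ * g q) = q⁻¹ * g q) :
    CentExt C F Q ∧ U ≤ centralizerIn S Q := by
  have hUS : U ≤ S := le_of_sub hCF
  haveI := finite_of_le hUS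
  haveI := finite_of_le hQ
  have hclass := centExt_closedClass (Q := Q) hCF
  -- elements of order prime to `p`
  have hkey : ∀ P : Subgroup Ω, P ≤ U → ∀ a ∈ C.autGroup P, (orderOf a).Coprime p →
      ∃ g, Map F (P ⊔ Q) g ∧ (∀ x ∈ P, g x = av a x) ∧ ∀ q ∈ Q, g q = q := by
    intro P hP a ha ho
    haveI := finite_of_le (hP.trans hUS)
    haveI := mulAut_finite_of_le (hP.trans hUS)
    obtain ⟨g, hg, hga, hgQ⟩ := h P _ (map_of_mem_autGroup hP ha)
    have hW : P ⊔ Q ≤ S := sup_le (hP.trans hUS) hQ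
    haveI := finite_of_le hW
    haveI := mulAut_finite_of_le hW
    have hgi : im (P ⊔ Q) g = P ⊔ Q := by
      refine Subgroup.eq_of_le_of_card_ge (hg.im_sup_le.trans (sup_le_sup ?_ ?_)) hg.card_im.ge
      · exact im_le_iff.2 fun x hx => by rw [hga x hx]; exact av_mem a hx
      · exact im_le_iff.2 fun q hq => stronglyClosed_map hQn hg (Subgroup.mem_sup_right hq) hq
    obtain ⟨A, hA, hAg⟩ := exists_aut hg hgi
    have hAm := map_of_mem_autGroup hW hA
    have hAP : ∀ x ∈ P, av A x = av a x := fun x hx => by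
      rw [hAg x (Subgroup.mem_sup_left hx), hga x hx]
    have hpow : ∀ n : ℕ, ∀ q ∈ Q, av (A ^ n) q = q * (q⁻¹ * g q) ^ n := by
      intro n
      induction n with
      | zero => intro q hq; rw [pow_zero, pow_zero, av_one (Subgroup.mem_sup_right hq), mul_one]
      | succ n ih =>
        intro q hq
        obtain ⟨h1, h2⟩ := hgQ q hq
        have hx : q⁻¹ * g q ∈ P ⊔ Q := Subgroup.mem_sup_right h1
        have hAx : av A (q⁻¹ * g q) = q⁻¹ * g q := by rw [hAg _ hx]; exact h2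
        have hAxn : ∀ m : ℕ, av A ((q⁻¹ * g q) ^ m) = (q⁻¹ * g q) ^ m := by
          intro m
          induction m with
          | zero => rw [pow_zero, hAm.map_one]
          | succ m ihm => rw [pow_succ, hAm.map_mul ((P ⊔ Q).pow_mem hx m) hx, ihm, hAx]
        rw [pow_succ' A, av_mul _ _ (Subgroup.mem_sup_right hq), ih q hq,
          hAm.map_mul (Subgroup.mem_sup_right hq) ((P ⊔ Q).pow_mem hx n), hAxn,
          hAg q (Subgroup.mem_sup_right hq), pow_succ' (q⁻¹ * g q)]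
        simp only [mul_assoc, mul_inv_cancel_left]
    obtain ⟨i, r, hr, hord⟩ := Nat.exists_eq_pow_mul_and_not_dvd (orderOf_pos A).ne' p
      (Fact.out : p.Prime).ne_one
    have hro : r.Coprime p := ((Nat.Prime.coprime_iff_not_dvd Fact.out).2 hr).symm
    rcases Nat.lt_or_ge 1 (orderOf a) with ha1 | ha1
    swap
    · obtain rfl : a = 1 := orderOf_eq_one_iff.1 (le_antisymm ha1 (orderOf_pos a))
      exact ⟨id, map_id hW, fun x hx => (av_one hx).symm, fun _ _ => rfl⟩
    obtain ⟨k, -, hk⟩ := Nat.exists_mul_mod_eq_one_of_coprime (ho.symm.pow_left i) ha1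
    refine ⟨av (A ^ (p ^ i * k)), map_of_mem_autGroup hW (pow_mem hA _), fun x hx => ?_, fun q hq => ?_⟩
    · rw [av_pow le_sup_left hAP _ x hx, ← pow_mod_orderOf, hk, pow_one]
    · rw [hpow _ q hq, mul_eq_left]
      refine Subgroup.mem_bot.1 (mem_of_pow_prime_to (T := (⊥ : Subgroup Ω)) hS
        (hQ (Q.pow_mem (hgQ q hq).1 _)) hro ?_)
      rw [Subgroup.mem_bot, ← pow_mul]
      have h1 := hpow (p ^ i * k * r) q hq
      rw [show p ^ i * k * r = orderOf A * k by rw [hord]; ring, pow_mul, pow_orderOf_eq_one, one_pow,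
        av_one (Subgroup.mem_sup_right hq), left_eq_mul] at h1
      rwa [show p ^ i * k * r = orderOf A * k by rw [hord]; ring]
  -- the residual automorphisms
  have hres : ∀ P : Subgroup Ω, P ≤ U → ∀ γ : C.autGroup P, γ ∈ pResidual p ↥(C.autGroup P) →
      ∃ g, Map F (P ⊔ Q) g ∧ (∀ x ∈ P, g x = av (γ : MulAut P) x) ∧ ∀ q ∈ Q, g q = q := by
    intro P hP γ hγ
    haveI := finite_of_le (hP.trans hUS)
    rw [pResidual] at hγ
    induction hγ using Subgroup.closure_induction with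
    | mem δ hδ => exact hkey P hP δ δ.2 (by rw [Subgroup.orderOf_coe]; exact hδ)
    | one => exact ⟨id, map_id (sup_le (hP.trans hUS) hQ), fun x hx => (av_one hx).symm, fun _ _ => rfl⟩
    | mul x y _ _ hx hy =>
      exact hclass.congr (hclass.comp (map_of_mem_autGroup hP y.2) (map_of_mem_autGroup hP x.2) hy hx
        fun z hz => av_mem _ hz) fun z hz => (av_mul _ _ hz).symm
    | inv x _ hx =>
      have h1 := hclass.inv (g := av (x : MulAut P)⁻¹) (map_of_mem_autGroup hP x.2) hx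
        fun z hz => av_inv_av _ hz
      rwa [im_av] at h1
  have hUC : U ≤ centralizerIn S Q := by
    rw [← hperf]
    refine (Subgroup.closure_le _).2 ?_
    rintro _ ⟨P, γ, u, hP, hγ, rfl⟩
    obtain ⟨g, hg, hgγ, hgQ⟩ := hres P hP γ hγ
    have hu : (u : Ω) ∈ S := hUS (hP u.2)
    have hγu := av_mem (γ : MulAut P) u.2
    rw [← av_coe]
    refine mem_centralizerIn.2 ⟨S.mul_mem (S.inv_mem hu) (hUS (hP hγu)), fun q hq => ?_⟩
    have huq := stronglyClosed_conj_mem hQn hu hq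
    have h1 := hg.map_conj (Subgroup.mem_sup_left u.2) (Subgroup.mem_sup_right hq)
    rw [hgQ _ huq, hgQ _ hq, hgγ _ u.2] at h1
    calc q * ((u : Ω)⁻¹ * av (γ : MulAut P) u)
        = (u : Ω)⁻¹ * ((u : Ω) * q * (u : Ω)⁻¹) * av (γ : MulAut P) u := by group
      _ = (u : Ω)⁻¹ * (av (γ : MulAut P) u * q * (av (γ : MulAut P) u)⁻¹) * av (γ : MulAut P) u := by rw [h1]
      _ = (u : Ω)⁻¹ * av (γ : MulAut P) u * q := by group
  refine ⟨alperin (hS.to_le hUS) hCs hclass fun R hR α hα => ?_, hUC⟩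
  have hRn := gen_fn hR
  obtain ⟨β, hβ, γ, hγ, rfl⟩ := exists_autS_mul_residual (hS.to_le hUS) hCs hRn hα
  obtain ⟨t, ht, htβ⟩ := mem_autInducedBy.1 hβ
  have hm1 : Map C R (av β) := (map_conjBy hRn.1 ht).congr fun x hx => (htβ x hx).symm
  have hK1 : ∃ g, Map F (R ⊔ Q) g ∧ (∀ x ∈ R, g x = av β x) ∧ ∀ q ∈ Q, g q = q :=
    ⟨_, map_conjBy (sup_le (hRn.1.trans hUS) hQ) (hUS ht), fun x hx => (htβ x hx).symm, fun q hq => by
      rw [← (mem_centralizerIn.1 (hUC ht)).2 q hq, mul_inv_cancel_right]⟩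
  exact hclass.congr (hclass.comp (map_of_mem_autGroup hRn.1 γ.2) hm1 (hres R hRn.1 γ hγ) hK1
    fun z hz => av_mem _ hz) fun z hz => (av_mul _ _ hz).symm

/-- **Perfect subnormal subsystems with central core centralise the core.** -/
theorem centExt_core_of_subnormal {U : Subgroup Ω} {C : FusionSystem U} (hS : IsPGroup p S)
    (hsub : C.IsSubnormalIn F p) (hF : F.IsSaturated p) (hperf : C.hyperfocalSubgroup p = U)
    (hbase : CentExt C C C.core) : CentExt C F F.core := by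
  suffices ∀ {T S : Subgroup Ω} (C : FusionSystem T) (F : FusionSystem S) (p : ℕ), C.IsSubnormalIn F p →
      ∀ [Finite S] [Fact p.Prime], IsPGroup p S → F.IsSaturated p → C.hyperfocalSubgroup p = T →
        CentExt C C C.core → C.IsSaturated p ∧ C.IsSubsystemOf F ∧ CentExt C F F.core from
    (this C F p hsub hS hF hperf hbase).2.2
  clear! S
  intro T S C F p h
  induction h with
  | refl F => intro _ _ _ hF _ hb; exact ⟨hF, fun _ => le_rfl, hb⟩
  | @step U S C D F p hCD hDF ih =>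
    intro _ _ hS hF hperf hb
    obtain ⟨⟨hDs, -, hDi⟩, -⟩ := id hDF
    haveI := finite_of_le hDi.2.1.1
    obtain ⟨hCs, hCsub, hcent⟩ := ih (hS.to_le hDi.2.1.1) hDs hperf hb
    have hCF : C.IsSubsystemOf F := fun P => (hCsub P).trans (hDi.1 P)
    have hQ := core_normal hS hF
    refine ⟨hCs, hCF, (centExt_of_perfect hS hCs hCF hperf hQ.1 (normal_stronglyClosed hQ)
      fun P f hf => ?_).1⟩
    obtain ⟨g₀, hg₀, hg₀f, hg₀Q⟩ := hcent P f hf
    obtain ⟨g, hg, hgg, hgQ⟩ := exists_shift_ext hS hDF hQ hg₀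
    refine ⟨g, hg.restrict (sup_le_sup_right le_sup_left _), fun x hx =>
      (hgg x (Subgroup.mem_sup_left hx)).trans (hg₀f x hx), fun q hq => ?_⟩
    obtain ⟨h1, h2⟩ := hgQ q hq
    have hx : q⁻¹ * g q ∈ D.core :=
      inf_core_le hS hF hDF.1 ⟨F.core.mul_mem (F.core.inv_mem hq) h1, h2⟩
    exact ⟨F.core.mul_mem (F.core.inv_mem hq) h1,
      (hgg _ (Subgroup.mem_sup_right hx)).trans (hg₀Q _ hx)⟩

end Cfsg.Agent.Local.FS
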