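import Cfsg.Agent.Lib.Local.FS.Series

/-!
Normality from a central series with weakly closed terms.
-/

set_option autoImplicit false

namespace Cfsg.Agent.Local.FS

open Cfsg Cfsg.FusionSystem Cfsg.Agent.Fusion

variable {Ω : Type*} [Group Ω] {S : Subgroup Ω} [Finite S] {F : FusionSystem S}
  {P Q : Subgroup Ω} {p : ℕ} [Fact p.Prime]

/-- An element inducing an automorphism stabilising an invariant chain lies in a centric radical subgroup. -/
theorem mem_of_stabilizes_weakSeries (hS : IsPGroup p S) (hC : F.IsCentric P) (hR : F.IsRadical p P)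
    (D : ℕ → Subgroup Ω) (m : ℕ) (h0 : D 0 = ⊥) (hm : P ≤ D m) (hmono : Monotone D)
    (hinv : ∀ i, ∀ α ∈ F.autGroup P, ∀ x ∈ P, x ∈ D i → av α x ∈ D i)
    {a : Ω} (ha : a ∈ S) (han : a ∈ Subgroup.normalizer (P : Set Ω))
    (hstab : ∀ i < m, ∀ x ∈ P, x ∈ D (i + 1) → x⁻¹ * (a * x * a⁻¹) ∈ D i) : a ∈ P := by
  classical
  haveI := finite_of_le hC.1
  haveI := mulAut_finite_of_le hC.1
  let A : Subgroup (MulAut P) :=
    { carrier := {α | α ∈ F.autGroup P ∧ ∀ i < m, ∀ x ∈ P, x ∈ D (i + 1) → x⁻¹ * av α x ∈ D i}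
      one_mem' := ⟨Subgroup.one_mem _, fun i _ x hx _ => by rw [av_one hx, inv_mul_cancel]; exact (D i).one_mem⟩
      mul_mem' := by
        rintro α β ⟨hα, hα'⟩ ⟨hβ, hβ'⟩
        refine ⟨Subgroup.mul_mem _ hα hβ, fun i hi x hx hxC => ?_⟩
        have h1 := hβ' i hi x hx hxC
        have h2 := hα' i hi _ (av_mem β hx) (hinv _ β hβ x hx hxC)
        rw [av_mul _ _ hx]
        simpa [mul_assoc] using (D i).mul_mem h1 h2
      inv_mem' := by
        rintro α ⟨hα, hα'⟩
        refine ⟨Subgroup.inv_mem _ hα, fun i hi x hx hxC => ?_⟩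
        have h1 := hα' i hi _ (av_mem α⁻¹ hx) (hinv _ _ (Subgroup.inv_mem _ hα) x hx hxC)
        rw [av_av_inv α hx] at h1
        simpa using (D i).inv_mem h1 }
  have hAn : (A.subgroupOf (F.autGroup P)).Normal := by
    constructor
    intro β hβ α
    obtain ⟨-, hβ'⟩ := hβ
    refine ⟨Subgroup.mul_mem _ (Subgroup.mul_mem _ α.2 β.2) (Subgroup.inv_mem _ α.2), fun i hi x hx hxC => ?_⟩
    show x⁻¹ * av ((α : MulAut P) * (β : MulAut P) * (α : MulAut P)⁻¹) x ∈ D i
    have hy : av ((α : MulAut P))⁻¹ x ∈ P := av_mem _ hx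
    have h1 := hβ' i hi _ hy (hinv _ _ (Subgroup.inv_mem _ α.2) x hx hxC)
    have hb : av (β : MulAut P) (av ((α : MulAut P))⁻¹ x) ∈ P := av_mem _ hy
    have h2 := hinv i _ α.2 _ (P.mul_mem (P.inv_mem hy) hb) h1
    rw [(map_of_mem_autGroup hC.1 α.2).map_mul (P.inv_mem hy) hb,
      (map_of_mem_autGroup hC.1 α.2).map_inv hy, av_av_inv _ hx] at h2
    rwa [av_mul _ _ hx, av_mul _ _ hy]
  have hAp : IsPGroup p ↥(A.subgroupOf (F.autGroup P)) := by
    rintro ⟨⟨α, hαF⟩, hα⟩
    obtain ⟨k, hk⟩ := exists_pow_eq_one_of_stabilizes (hS.to_le hC.1) D m h0 hm hmono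
      (fun i hi x hx hxC => hα.2 i hi x hx hxC)
    exact ⟨k, Subtype.ext (Subtype.ext hk)⟩
  obtain ⟨β, hβ, hβS⟩ := exists_aut_conj han
  have hβF : β ∈ F.autGroup P := autInducedBy_le_autGroup hC.1 (hβS S ha)
  have hβA : β ∈ A := ⟨hβF, fun i hi x hx hxC => by rw [hβ x hx]; exact hstab i hi x hx hxC⟩
  have hin : β ∈ Inn P := by
    rw [← hR.2]
    exact ⟨⟨β, hβF⟩, le_pCore (hn := hAn) hAp hβA, rfl⟩
  obtain ⟨y, hy, hyβ⟩ := mem_Inn.1 hin
  have hc : y⁻¹ * a ∈ centralizerIn S P := by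
    refine mem_centralizerIn.2 ⟨S.mul_mem (S.inv_mem (hC.1 hy)) ha, fun x hx => ?_⟩
    have h1 := (hβ x hx).symm.trans (hyβ x hx)
    calc x * (y⁻¹ * a) = y⁻¹ * (y * x * y⁻¹) * a := by group
      _ = y⁻¹ * (a * x * a⁻¹) * a := by rw [h1]
      _ = _ := by group
  simpa using P.mul_mem hy (hC.2 P (isConj_refl hC.1) hc)

/-- The criterion with weakly closed terms. -/
theorem normal_of_weak_series (hS : IsPGroup p S) (hF : F.IsSaturated p) (C : ℕ → Subgroup Ω) (n : ℕ)
    (h0 : C 0 = ⊥) (hn : C n = Q) (hmono : Monotone C) (hQ : F.StronglyClosed Q)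
    (hwc : ∀ i < n, F.WeaklyClosed (C i)) (hcomm : ∀ i < n, ⁅C (i + 1), Q⁆ ≤ C i) : F.IsNormal Q := by
  refine normal_of_centric_radical hS hF hQ fun P hC hR => ?_
  suffices ∀ i, i ≤ n → C i ≤ P from hn ▸ this n le_rfl
  intro i
  induction i with
  | zero => intro _; exact h0 ▸ bot_le
  | succ i ih =>
    intro hi
    have hiP := ih (by omega)
    have hCQ : ∀ j, j ≤ n → C j ≤ Q := fun j hj => hn ▸ hmono hj
    have hnorm : S ≤ Subgroup.normalizer (C (i + 1) : Set Ω) := by
      intro s hs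
      refine mem_normalizer_of_conj_mem (S := S) ((hCQ _ hi).trans hQ.1) fun x hx => ?_
      rcases eq_or_lt_of_le hi with h | h
      · rw [h, hn] at hx ⊢
        exact stronglyClosed_conj_mem hQ hs hx
      · obtain ⟨hle, hr⟩ := hwc _ h
        have h1 := hr (conjHom (C (i + 1)) s) (F.conj_mem hle hs)
        exact h1 ▸ ⟨⟨x, hx⟩, rfl⟩
    refine le_of_inf_normalizer_le hS ((hCQ _ hi).trans hQ.1) hnorm hC.1 ?_
    rintro a ⟨haC, han⟩
    have haQ : a ∈ Q := hCQ _ hi haC
    let D : ℕ → Subgroup Ω := fun j => if j ≤ i then C j else if j = i + 1 then P ⊓ Q else P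
    have hD1 : ∀ j, j ≤ i → D j = C j := fun j hj => if_pos hj
    have hD2 : D (i + 1) = P ⊓ Q := (if_neg (by omega)).trans (if_pos rfl)
    have hD3 : ∀ j, i + 2 ≤ j → D j = P := fun j hj => (if_neg (by omega)).trans (if_neg (by omega))
    have hDm : Monotone D := monotone_nat_of_le_succ fun j => by
      rcases lt_trichotomy j i with h | rfl | h
      · rw [hD1 j h.le, hD1 (j + 1) (by omega)]; exact hmono (Nat.le_succ j)
      · rw [hD1 j le_rfl, hD2]; exact le_inf hiP (hCQ j (by omega))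
      · rw [hD3 (j + 1) (by omega)]
        rcases eq_or_lt_of_le (show i + 1 ≤ j from h) with h' | h'
        · rw [← h', hD2]; exact inf_le_left
        · rw [hD3 j h']
    refine mem_of_stabilizes_weakSeries hS hC hR D (i + 2) ((hD1 0 (Nat.zero_le i)).trans h0) (hD3 _ le_rfl).ge hDm ?_
      (hQ.1 haQ) han fun j hj x hx hxD => ?_
    · intro j α hα x hx hxD
      rcases lt_trichotomy j (i + 1) with h | rfl | h
      · rw [hD1 j (by omega)] at hxD ⊢
        have hjn : j < n := by omega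
        have hle : C j ≤ P := (hmono (show j ≤ i by omega)).trans hiP
        obtain ⟨φ, hφ, he⟩ := (map_of_mem_autGroup hC.1 hα).restrict hle
        have h1 := (hwc j hjn).2 φ hφ
        exact h1 ▸ ⟨⟨x, hxD⟩, he ⟨x, hxD⟩⟩
      · rw [hD2] at hxD ⊢
        exact ⟨av_mem α hx, stronglyClosed_map hQ (map_of_mem_autGroup hC.1 hα) hx hxD.2⟩
      · rw [hD3 j (by omega)]; exact av_mem α hx
    · have hinvx : x⁻¹ ∈ P := P.inv_mem hx
      rcases lt_trichotomy j i with h | rfl | h
      · rw [hD1 j h.le]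
        rw [hD1 (j + 1) (by omega)] at hxD
        have := hcomm j (by omega) (Subgroup.commutator_mem_commutator ((C (j + 1)).inv_mem hxD) haQ)
        simpa [commutatorElement_def, mul_assoc] using this
      · rw [hD1 j le_rfl]
        rw [hD2] at hxD
        have := (C j).inv_mem (hcomm j (by omega) (Subgroup.commutator_mem_commutator haC (Q.inv_mem hxD.2)))
        rw [commutatorElement_inv] at this
        simpa [commutatorElement_def, mul_assoc] using this
      · obtain rfl : j = i + 1 := by omega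
        rw [hD2]
        refine ⟨P.mul_mem hinvx (conj_mem_of_normalizer han hx), ?_⟩
        have := Q.mul_mem (stronglyClosed_conj_mem hQ (S.inv_mem (hC.1 hx)) haQ) (Q.inv_mem haQ)
        simpa [mul_assoc] using this

end Cfsg.Agent.Local.FS
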