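import Cfsg.Agent.Lib.Local.FS.Essential
import Cfsg.Agent.Lib.Local.FS.Centric

/-!
Subsystems containing `O^{p'}` of the automisers of all centric subgroups have index prime to `p`.
-/

set_option autoImplicit false

namespace Cfsg.Agent.Local.FS

open Cfsg Cfsg.FusionSystem Cfsg.Agent.Fusion

variable {Ω : Type*} [Group Ω] {S : Subgroup Ω} {F E : FusionSystem S}
  {P Q R : Subgroup Ω} {f g : Ω → Ω} {p : ℕ}

/-- `O^{p'}(A)`, the subgroup generated by the elements of `p`-power order, inside `Aut(P)`. -/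
def pResAut (p : ℕ) (A : Subgroup (MulAut P)) : Subgroup (MulAut P) :=
  (Subgroup.closure {α : A | ∃ k : ℕ, orderOf α = p ^ k}).map A.subtype

theorem pResAut_le (A : Subgroup (MulAut P)) : pResAut p A ≤ A := Subgroup.map_subtype_le _

theorem mem_pResAut {A : Subgroup (MulAut P)} {α : MulAut P} (hα : α ∈ A)
    (hk : ∃ k : ℕ, orderOf α = p ^ k) : α ∈ pResAut p A :=
  ⟨⟨α, hα⟩, Subgroup.subset_closure (by
    obtain ⟨k, hk⟩ := hk
    exact ⟨k, by rw [← Subgroup.orderOf_coe]; exact hk⟩), rfl⟩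

theorem pResAut_induction {A : Subgroup (MulAut P)} {B : Subgroup (MulAut P)}
    (h : ∀ α ∈ A, (∃ k : ℕ, orderOf α = p ^ k) → α ∈ B) : pResAut p A ≤ B := by
  rw [pResAut, Subgroup.map_le_iff_le_comap, Subgroup.closure_le]
  rintro α ⟨k, hk⟩
  exact h α α.2 ⟨k, by rw [Subgroup.orderOf_coe]; exact hk⟩

theorem le_normalizer_pResAut (A : Subgroup (MulAut P)) [Finite A] :
    A ≤ Subgroup.normalizer ((pResAut p A : Subgroup (MulAut P)) : Set (MulAut P)) := by
  intro a ha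
  have key : ∀ b ∈ A, ∀ x ∈ pResAut p A, b * x * b⁻¹ ∈ pResAut p A := by
    intro b hb
    have : pResAut p A ≤ (pResAut p A).comap (MulAut.conj b).toMonoidHom := by
      refine pResAut_induction fun α hα ⟨k, hk⟩ => mem_pResAut ?_ ⟨k, ?_⟩
      · exact A.mul_mem (A.mul_mem hb hα) (A.inv_mem hb)
      · exact (orderOf_injective (MulAut.conj b).toMonoidHom (MulAut.conj b).injective α).trans hk
    intro x hx
    exact this hx
  refine Subgroup.mem_normalizer_iff.2 fun x => ⟨key a ha x, fun hx => ?_⟩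
  have := key a⁻¹ (A.inv_mem ha) _ hx
  simpa [mul_assoc] using this

variable [Finite S]

theorem congr_mem_pResAut (h : Map F P f) (hi : im P f = Q) {e : P ≃* Q}
    (he : ∀ x : P, (e x : Ω) = f x) {α : MulAut P} (hα : α ∈ pResAut p (F.autGroup P)) :
    MulAut.congr e α ∈ pResAut p (F.autGroup Q) := by
  have : pResAut p (F.autGroup P) ≤
      (pResAut p (F.autGroup Q)).comap (MulAut.congr e).toMonoidHom := by
    refine pResAut_induction fun β hβ ⟨k, hk⟩ => mem_pResAut (congr_mem_autGroup h hi he hβ) ⟨k, ?_⟩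
    exact (orderOf_injective (MulAut.congr e).toMonoidHom (MulAut.congr e).injective β).trans hk
  exact this hα

/-- The maps of `F` all whose conjugates under `Aut_F(S)` belong to `E`. -/
def InvMap (F E : FusionSystem S) (P : Subgroup Ω) (f : Ω → Ω) : Prop :=
  Map F P f ∧ ∀ α ∈ F.autGroup S, Map E (im P (av α)) fun y => av α (f (av α⁻¹ y))

theorem map_autS {α : MulAut S} (hα : α ∈ F.autGroup S) (hP : P ≤ S) : Map F P (av α) :=
  (map_of_mem_autGroup le_rfl hα).restrict hP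

theorem im_av_one (hP : P ≤ S) : im P (av (1 : MulAut S)) = P :=
  (im_congr (g := id) fun x hx => av_one (hP hx)).trans im_id

theorem mem_im_av {α : MulAut S} (hP : P ≤ S) (hα : α ∈ F.autGroup S) {y : Ω}
    (hy : y ∈ im P (av α)) : y ∈ S ∧ av α⁻¹ y ∈ P := by
  obtain ⟨x, hx, rfl⟩ := (map_autS hα hP).mem_im.1 hy
  exact ⟨av_mem α (hP hx), by rwa [av_inv_av α (hP hx)]⟩

theorem InvMap.map (h : InvMap F E P f) : Map E P f := by
  have h1 := h.2 1 (Subgroup.one_mem _)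
  rw [im_av_one h.1.le] at h1
  refine h1.congr fun x hx => ?_
  show av (1 : MulAut S) (f (av (1 : MulAut S)⁻¹ x)) = f x
  rw [inv_one, av_one (h.1.le hx), av_one (h.1.mem hx)]

theorem InvMap.congr (h : InvMap F E P f) (he : ∀ x ∈ P, f x = g x) : InvMap F E P g :=
  ⟨h.1.congr he, fun α hα => (h.2 α hα).congr fun y hy => by
    rw [he _ (mem_im_av h.1.le hα hy).2]⟩

theorem InvMap.restrict (h : InvMap F E P f) (hR : R ≤ P) : InvMap F E R f :=
  ⟨h.1.restrict hR, fun α hα => (h.2 α hα).restrict (im_mono hR)⟩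

theorem InvMap.comp (hf : InvMap F E P f) (hg : InvMap F E Q g) (hm : ∀ x ∈ P, f x ∈ Q) :
    InvMap F E P (g ∘ f) := by
  refine ⟨hf.1.comp hg.1 hm, fun α hα => ?_⟩
  refine ((hf.2 α hα).comp (hg.2 α hα) fun y hy => ?_).congr fun y hy => ?_
  · exact mem_im_of_mem (hm _ (mem_im_av hf.1.le hα hy).2)
  · show av α (g (av α⁻¹ (av α (f (av α⁻¹ y))))) = av α (g (f (av α⁻¹ y)))
    rw [av_inv_av α (hf.1.mem (mem_im_av hf.1.le hα hy).2)]

theorem InvMap.inv (h : InvMap F E P f) (hg : ∀ x ∈ P, g (f x) = x) :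
    InvMap F E (im P f) g := by
  obtain ⟨g₀, hg₀, hg₀f, -, -⟩ := h.1.exists_inv
  have hgg : ∀ y ∈ im P f, g₀ y = g y := by
    intro y hy
    obtain ⟨x, hx, rfl⟩ := h.1.mem_im.1 hy
    rw [hg₀f x hx, hg x hx]
  refine ⟨hg₀.congr hgg, fun α hα => ?_⟩
  obtain ⟨k, hk, hkf, -, -⟩ := (h.2 α hα).exists_inv
  have hset : im (im P (av α)) (fun y => av α (f (av α⁻¹ y))) = im (im P f) (av α) := by
    refine (h.2 α hα).im_eq (fun y hy => mem_im_of_mem (mem_im_of_mem (mem_im_av h.1.le hα hy).2))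
      fun z hz => ?_
    obtain ⟨w, hw, rfl⟩ := (map_autS hα h.1.im_le).mem_im.1 hz
    obtain ⟨x, hx, rfl⟩ := h.1.mem_im.1 hw
    exact ⟨av α x, mem_im_of_mem hx, by rw [av_inv_av α (h.1.le hx)]⟩
  rw [hset] at hk
  refine hk.congr fun z hz => ?_
  obtain ⟨w, hw, rfl⟩ := (map_autS hα h.1.im_le).mem_im.1 hz
  obtain ⟨x, hx, rfl⟩ := h.1.mem_im.1 hw
  have h2 := hkf (av α x) (mem_im_of_mem hx)
  simp only [av_inv_av α (h.1.le hx)] at h2
  show k (av α (f x)) = av α (g (av α⁻¹ (av α (f x))))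
  rw [h2, av_inv_av α (h.1.mem hx), hg x hx]

theorem invMap_id (hP : P ≤ S) : InvMap F E P id := by
  refine ⟨map_id hP, fun α hα => (map_id (map_autS hα hP).im_le).congr fun y hy => ?_⟩
  show y = av α (av α⁻¹ y)
  rw [av_av_inv α (mem_im_av hP hα hy).1]

theorem InvMap.conj {β : MulAut S} (h : InvMap F E P f) (hβ : β ∈ F.autGroup S) :
    InvMap F E (im P (av β)) fun y => av β (f (av β⁻¹ y)) := by
  have hP := h.1.le
  have hM := map_autS hβ hP
  refine ⟨?_, fun α hα => ?_⟩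
  · refine ((map_autS ((F.autGroup S).inv_mem hβ) hM.im_le).comp
      (h.1.comp (map_autS hβ le_rfl) fun x hx => h.1.mem hx) fun y hy => (mem_im_av hP hβ hy).2).congr
        fun y _ => rfl
  · have hαβ := (F.autGroup S).mul_mem hα hβ
    have hset : im (im P (av β)) (av α) = im P (av (α * β)) := by
      rw [← hM.im_comp]
      exact im_congr fun x hx => (av_mul α β (hP hx)).symm
    rw [hset]
    refine (h.2 (α * β) hαβ).congr fun y hy => ?_
    have hy' := (mem_im_av hP hαβ hy).1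
    have hmem := (mem_im_av hP hαβ hy).2
    show av (α * β) (f (av (α * β)⁻¹ y)) = av α (av β (f (av β⁻¹ (av α⁻¹ y))))
    rw [mul_inv_rev, av_mul _ _ hy', av_mul α β (h.1.mem ?_)]
    rwa [← av_mul _ _ hy', ← mul_inv_rev]

theorem invMap_conjBy (hP : P ≤ S) {s : Ω} (hs : s ∈ S) :
    InvMap F E P fun x => s * x * s⁻¹ := by
  refine ⟨map_conjBy hP hs, fun α hα => ?_⟩
  have hm := map_of_mem_autGroup le_rfl hα
  refine (map_conjBy (map_autS hα hP).im_le (hm.mem hs)).congr fun y hy => ?_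
  obtain ⟨hy', hyP⟩ := mem_im_av hP hα hy
  show av α s * y * (av α s)⁻¹ = av α (s * av α⁻¹ y * s⁻¹)
  rw [hm.map_conj hs (hP hyP), av_av_inv α hy']

variable (F E) in
/-- `f` is a map of `E` followed by an automorphism of `S` in `F`. -/
def Fac (P : Subgroup Ω) (f : Ω → Ω) : Prop :=
  ∃ α ∈ F.autGroup S, ∃ f₀, InvMap F E P f₀ ∧ ∀ x ∈ P, f x = av α (f₀ x)

theorem Fac.congr (h : Fac F E P f) (he : ∀ x ∈ P, f x = g x) : Fac F E P g := by
  obtain ⟨α, hα, f₀, h₀, hf⟩ := h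
  exact ⟨α, hα, f₀, h₀, fun x hx => (he x hx).symm.trans (hf x hx)⟩

theorem Fac.restrict (h : Fac F E P f) (hR : R ≤ P) : Fac F E R f := by
  obtain ⟨α, hα, f₀, h₀, hf⟩ := h
  exact ⟨α, hα, f₀, h₀.restrict hR, fun x hx => hf x (hR hx)⟩

theorem fac_of_invMap (h : InvMap F E P f) : Fac F E P f :=
  ⟨1, Subgroup.one_mem _, f, h, fun _ hx => (av_one (h.1.mem hx)).symm⟩

theorem Fac.comp (hf : Fac F E P f) (hg : Fac F E Q g) (hm : ∀ x ∈ P, f x ∈ Q) :
    Fac F E P (g ∘ f) := by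
  obtain ⟨α, hα, f₀, h₀, hfe⟩ := hf
  obtain ⟨β, hβ, g₀, k₀, hge⟩ := hg
  have hα' := (F.autGroup S).inv_mem hα
  have hmem : ∀ x ∈ P, f₀ x ∈ im Q (av α⁻¹) := fun x hx => by
    have h1 : f x ∈ Q := hm x hx
    rw [hfe x hx] at h1
    have h2 := mem_im_of_mem (f := av α⁻¹) h1
    rwa [av_inv_av α (h₀.1.mem hx)] at h2
  refine ⟨β * α, (F.autGroup S).mul_mem hβ hα, _, h₀.comp (k₀.conj hα') hmem, fun x hx => ?_⟩
  have h1 : f x ∈ Q := hm x hx
  show g (f x) = av (β * α) (av α⁻¹ (g₀ (av α⁻¹⁻¹ (f₀ x))))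
  rw [hge _ h1, inv_inv, av_mul _ _ (av_mem α⁻¹ (k₀.1.mem (by rw [← hfe x hx]; exact h1))),
    ← hfe x hx, av_av_inv α (k₀.1.mem h1)]

theorem Fac.inv (hf : Fac F E P f) (hg : ∀ x ∈ P, g (f x) = x) : Fac F E (im P f) g := by
  obtain ⟨α, hα, f₀, h₀, hfe⟩ := hf
  obtain ⟨g₀, hg₀, hg₀f, -, -⟩ := h₀.1.exists_inv
  have hk := (h₀.inv hg₀f).conj hα
  rw [← h₀.1.im_comp, ← im_congr (f := f) (g := av α ∘ f₀) hfe] at hk
  refine ⟨α⁻¹, (F.autGroup S).inv_mem hα, _, hk, fun y hy => ?_⟩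
  have hM : Map F P f := (h₀.1.comp (map_autS hα le_rfl) fun x hx => h₀.1.mem hx).congr
    fun x hx => (hfe x hx).symm
  obtain ⟨x, hx, rfl⟩ := hM.mem_im.1 hy
  show g (f x) = av α⁻¹ (av α (g₀ (av α⁻¹ (f x))))
  rw [hg x hx, hfe x hx, av_inv_av α (h₀.1.mem hx), hg₀f x hx, av_inv_av α (h₀.1.le hx)]

variable [Fact p.Prime]

/-- The generators lie in `InvMap`. -/
theorem invMap_pResAut
    (h : ∀ P : Subgroup Ω, F.IsCentric P → pResAut p (F.autGroup P) ≤ E.autGroup P)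
    (hP : F.IsCentric P) {γ : MulAut P} (hγ : γ ∈ pResAut p (F.autGroup P)) :
    InvMap F E P (av γ) := by
  refine ⟨map_of_mem_autGroup hP.1 (pResAut_le _ hγ), fun α hα => ?_⟩
  have hM := map_autS hα hP.1
  obtain ⟨e, he⟩ := exists_equiv hM rfl
  have hc : F.IsCentric (im P (av α)) :=
    ⟨hM.im_le, fun Q hQ => hP.2 Q (isConj_trans (isConj_iff.2 ⟨_, hM, rfl⟩) hQ)⟩
  refine (map_of_mem_autGroup hM.im_le (h _ hc (congr_mem_pResAut hM rfl he hγ))).congr
    fun y hy => ?_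
  obtain ⟨x, hx, rfl⟩ := hM.mem_im.1 hy
  rw [av_congr_apply he γ hx, av_inv_av α (hP.1 hx)]

/-- Every map of `F` is a map of `E` followed by an automorphism of `S`. -/
theorem fac_of_map (hS : IsPGroup p S) (hF : F.IsSaturated p)
    (h : ∀ P : Subgroup Ω, F.IsCentric P → pResAut p (F.autGroup P) ≤ E.autGroup P)
    (hf : Map F P f) : Fac F E P f := by
  suffices ∀ m n, Nat.card S + 1 - n = m → ∀ (P : Subgroup Ω) (f : Ω → Ω), Map F P f →
      n ≤ Nat.card P → Fac F E P f from this _ 0 rfl P f hf (Nat.zero_le _)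
  intro m
  induction m using Nat.strong_induction_on with
  | _ m ih =>
  intro n hn
  have hK : IsClosedClass F fun P f => n ≤ Nat.card P → Fac F E P f :=
    { congr := fun hk he hc => (hk hc).congr he
      restrict := fun hf hk hR hc => by
        haveI := finite_of_le hf.le
        exact (hk (hc.trans (Subgroup.card_le_of_le hR))).restrict hR
      comp := fun {P Q f g} hf hg hkf hkg hm hc => by
        haveI := finite_of_le hg.le
        exact (hkf hc).comp (hkg (hc.trans (hf.card_le hm))) hm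
      inv := fun hf hk hg hc => (hk (hf.card_im ▸ hc)).inv hg }
  refine fun P f => alperin hS hF hK (fun R hR a ha hc => ?_) P f
  rcases hR with rfl | hR
  · exact ⟨a, ha, id, invMap_id le_rfl, fun x _ => rfl⟩
  have hRS := lt_of_essential hS hF hR
  obtain ⟨hRc, hRn, -⟩ := hR
  have hfa := (fc_fa_of_fn hS hF hRn).2
  haveI := mulAut_finite_of_le hRS.le
  obtain ⟨hle, hTp, -⟩ := (fa_iff.1 hfa).2
  have hTN : autInducedBy S R ≤ pResAut p (F.autGroup R) := fun β hβ => by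
    refine mem_pResAut (hle hβ) ?_
    obtain ⟨k, hk⟩ := IsPGroup.iff_orderOf.1 hTp ⟨β, hβ⟩
    exact ⟨k, by rw [← hk, ← Subgroup.orderOf_coe]⟩
  have hT := (fa_iff.1 hfa).2.mono hTN (pResAut_le _)
  obtain ⟨u, hu, hua⟩ := frattini_conj hT (le_normalizer_pResAut _) ha
  have hu' : InvMap F E R (av u⁻¹) := invMap_pResAut h hRc ((pResAut p _).inv_mem hu)
  set b := u * a with hb
  have hba : b ∈ F.autGroup R := (F.autGroup R).mul_mem (pResAut_le _ hu) ha
  have hbm := map_of_mem_autGroup hRS.le hba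
  obtain ⟨g, hg, hgb⟩ := (receptive_iff.1
    (receptive_of_fc hS hF (fc_fa_of_fn hS hF hRn).1)).2 R _ hbm (im_av b)
  have hN : normalizerIn S R ≤ Nf S R (av b) := by
    intro s hs
    obtain ⟨β, hβ, hβS⟩ := exists_aut_conj hs.2
    obtain ⟨t, htS, ht⟩ := mem_autInducedBy.1 ((Subgroup.mem_normalizer_iff.1 hua _).1 (hβS S hs.1))
    refine ⟨hs.1, hs.2, t, htS, fun x hx => ?_⟩
    have h1 := ht _ (av_mem b hx)
    rw [av_mul _ _ (av_mem b hx), av_inv_av b hx, av_mul _ _ hx, hβ x hx] at h1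
    exact h1
  have hlt := card_lt_of_lt (lt_normalizerIn hS hRS) inf_le_left
  have hle' := Subgroup.card_le_of_le (show normalizerIn S R ≤ S from inf_le_left)
  have hfg : Fac F E R g :=
    (ih (Nat.card S + 1 - (n + 1)) (by omega) (n + 1) rfl _ g (hg.restrict hN) (by omega)).restrict
      (le_normalizerIn hRS.le)
  refine (hfg.comp (fac_of_invMap hu') fun x hx => by rw [hgb x hx]; exact av_mem b hx).congr
    fun x hx => ?_
  show av u⁻¹ (g x) = av a x
  rw [hgb x hx, ← av_mul _ _ hx, hb, inv_mul_cancel_left]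

/-- `E` contains `O^{p'}` of every automiser. -/
theorem pResAut_le_of_centric (hS : IsPGroup p S) (hF : F.IsSaturated p)
    (h : ∀ P : Subgroup Ω, F.IsCentric P → pResAut p (F.autGroup P) ≤ E.autGroup P)
    (hP : P ≤ S) : pResAut p (F.autGroup P) ≤ E.autGroup P := by
  refine pResAut_induction fun a ha hk => ?_
  obtain ⟨Q, hPQ, hfa, -⟩ := hF P hP
  obtain ⟨f, hf, hi⟩ := isConj_iff.1 hPQ
  obtain ⟨e, he⟩ := exists_equiv hf hi
  haveI := mulAut_finite_of_le (isConj_le hPQ).2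
  have ha' := congr_mem_autGroup hf hi he ha
  have hpa : IsPGroup p (Subgroup.zpowers (MulAut.congr e a)) := by
    obtain ⟨k, hk⟩ := hk
    exact IsPGroup.of_card (n := k) (by
      rw [Nat.card_zpowers]
      exact (orderOf_injective (MulAut.congr e).toMonoidHom (MulAut.congr e).injective a).trans hk)
  obtain ⟨c, hc, hle⟩ := (fa_iff.1 hfa).2.conj_le hpa (Subgroup.zpowers_le.2 ha')
  obtain ⟨s, hs, hsc⟩ := mem_autInducedBy.1
    (hle (conj_mem_cj (g := c) (Subgroup.mem_zpowers (MulAut.congr e a))))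
  have hm : ∀ x ∈ P, f x ∈ Q := fun x hx => hi.le (mem_im_of_mem hx)
  have hψ : Map F P (av c ∘ f) := hf.comp (map_of_mem_autGroup (isConj_le hPQ).2 hc) hm
  obtain ⟨α, hα, ψ, hψ₀, hψe⟩ := fac_of_map hS hF h hψ
  have hψE := hψ₀.map
  have hmα := map_of_mem_autGroup (le_refl S) hα
  have ht : av α⁻¹ s ∈ S := av_mem α⁻¹ hs
  -- `ψ` conjugates `a` to conjugation by `t`
  have key : ∀ x ∈ P, ψ (av a x) = av α⁻¹ s * ψ x * (av α⁻¹ s)⁻¹ := by
    intro x hx
    have h1 := hsc _ (av_mem c (hm x hx))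
    rw [av_mul _ _ (av_mem c (hm x hx)), av_inv_av c (hm x hx), av_mul _ _ (hm x hx),
      av_congr_apply he a hx] at h1
    have h1' : (av c ∘ f) (av a x) = s * (av c ∘ f) x * s⁻¹ := h1
    rw [hψe _ (av_mem a hx), hψe x hx] at h1'
    have h2 := congrArg (av α⁻¹) h1'
    rw [av_inv_av α (hψE.mem (av_mem a hx)),
      (map_of_mem_autGroup (F := F) (le_refl S) ((F.autGroup S).inv_mem hα)).map_conj hs
        (av_mem α (hψE.mem hx)), av_inv_av α (hψE.mem hx)] at h2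
    exact h2
  obtain ⟨k, hkE, hkψ, -, -⟩ := hψE.exists_inv
  have h3 : Map E P (fun x => av α⁻¹ s * ψ x * (av α⁻¹ s)⁻¹) :=
    hψE.comp (map_conjBy hψE.im_le ht) fun x hx => mem_im_of_mem hx
  have hmem : ∀ x ∈ P, av α⁻¹ s * ψ x * (av α⁻¹ s)⁻¹ ∈ im P ψ := fun x hx => by
    rw [← key x hx]; exact mem_im_of_mem (av_mem a hx)
  refine mem_autGroup_of_map ((h3.comp hkE hmem).congr fun x hx => ?_)
  show k (av α⁻¹ s * ψ x * (av α⁻¹ s)⁻¹) = av a x
  rw [← key x hx, hkψ _ (av_mem a hx)]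

theorem centric_iff_of_fac (hS : IsPGroup p S) (hF : F.IsSaturated p) (hEF : E ≤ F)
    (h : ∀ P : Subgroup Ω, F.IsCentric P → pResAut p (F.autGroup P) ≤ E.autGroup P) :
    E.IsCentric P ↔ F.IsCentric P := by
  refine ⟨fun hP => ⟨hP.1, fun Q hQ => ?_⟩, centric_of_le hEF⟩
  obtain ⟨f, hf, hi⟩ := isConj_iff.1 hQ
  obtain ⟨α, hα, f₀, h₀, hfe⟩ := fac_of_map hS hF h hf
  intro y hy
  obtain ⟨hyS, hyc⟩ := mem_centralizerIn.1 hy
  have hz : av α⁻¹ y ∈ im P f₀ := by
    refine hP.2 _ (isConj_iff.2 ⟨f₀, h₀.map, rfl⟩) (mem_centralizerIn.2 ⟨av_mem _ hyS, fun w hw => ?_⟩)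
    obtain ⟨x, hx, rfl⟩ := h₀.1.mem_im.1 hw
    have h1 := hyc (f x) (hi ▸ mem_im_of_mem hx)
    rw [hfe x hx] at h1
    have hm := map_of_mem_autGroup (F := F) (le_refl S) ((F.autGroup S).inv_mem hα)
    have h2 := congrArg (av α⁻¹) h1
    rwa [hm.map_mul (av_mem α (h₀.1.mem hx)) hyS, hm.map_mul hyS (av_mem α (h₀.1.mem hx)),
      av_inv_av α (h₀.1.mem hx)] at h2
  obtain ⟨x, hx, hxy⟩ := h₀.1.mem_im.1 hz
  rw [← hi, show y = f x by rw [hfe x hx, hxy, av_av_inv α hyS]]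
  exact mem_im_of_mem hx

end Cfsg.Agent.Local.FS
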