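import Cfsg.Agent.Lib.Local.FS.CentSat
import Cfsg.Agent.Lib.Local.FS.WeakNormal
import Cfsg.Prelude.Def_TwoFusion

/-!
Saturated systems over a direct product of two strongly closed subgroups.
-/

set_option autoImplicit false

namespace Cfsg.Agent.Local.FS

open Cfsg Cfsg.FusionSystem Cfsg.Agent.Fusion

variable {Ω : Type*} [Group Ω] {S S₁ S₂ : Subgroup Ω} [Finite S] {F : FusionSystem S}
  {R R' : FusionSystem S₁} {P Q : Subgroup Ω} {f : Ω → Ω} {p : ℕ}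

omit [Finite S] in
theorem le_centralizerIn_prod (hprod : IsInternalDirectProduct S₁ S₂ S) :
    S₁ ≤ centralizerIn S S₂ :=
  fun a ha => mem_centralizerIn.2 ⟨hprod.1 ha, fun b hb => (hprod.2.2.1 a ha b hb).symm⟩

omit [Finite S] in
theorem le_centralizerIn_of_le (hprod : IsInternalDirectProduct S₁ S₂ S) (hP : P ≤ S₁) :
    S₂ ≤ centralizerIn S P :=
  fun b hb => mem_centralizerIn.2 ⟨hprod.2.1 hb, fun a ha => hprod.2.2.1 a (hP ha) b hb⟩

omit [Finite S] in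
theorem exists_prod_decomp (hprod : IsInternalDirectProduct S₁ S₂ S) {s : Ω} (hs : s ∈ S) :
    ∃ a ∈ S₁, ∃ b ∈ S₂, s = a * b := by
  have hn : S₁ ≤ Subgroup.normalizer (S₂ : Set Ω) := fun a ha =>
    (Subgroup.centralizer_le_normalizer _) (le_centralizerIn_prod hprod ha).2
  rw [← hprod.2.2.2.2] at hs
  have hs' : s ∈ ((S₁ ⊔ S₂ : Subgroup Ω) : Set Ω) := hs
  rw [Subgroup.coe_mul_of_left_le_normalizer_right _ _ hn] at hs'
  obtain ⟨a, ha, b, hb, rfl⟩ := hs'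
  exact ⟨a, ha, b, hb, rfl⟩

omit [Finite S] in
theorem autInducedBy_prod (hprod : IsInternalDirectProduct S₁ S₂ S) (hP : P ≤ S₁) {K : Subgroup Ω}
    (h1 : S₁ ≤ K) (hK : K ≤ S) : autInducedBy K P = autInducedBy S₁ P := by
  ext α
  rw [mem_autInducedBy, mem_autInducedBy]
  refine ⟨fun ⟨s, hs, h⟩ => ?_, fun ⟨s, hs, h⟩ => ⟨s, h1 hs, h⟩⟩
  obtain ⟨a, ha, b, hb, rfl⟩ := exists_prod_decomp hprod (hK hs)
  refine ⟨a, ha, fun x hx => ?_⟩
  rw [h x hx, show a * b * x * (a * b)⁻¹ = a * (b * x * b⁻¹) * a⁻¹ by group,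
    show b * x * b⁻¹ = x by rw [← hprod.2.2.1 x (hP hx) b hb, mul_inv_cancel_right]]

variable [Fact p.Prime]

omit [Fact p.Prime] in
theorem stronglyClosed_fn {T : Subgroup Ω} (hT : F.StronglyClosed T) : F.IsFullyNormalized T := by
  refine ⟨hT.1, fun U hU => ?_⟩
  obtain ⟨h, hh, hi⟩ := isConj_iff.1 hU
  haveI := finite_of_le hT.1
  have hUT : U = T := Subgroup.eq_of_le_of_card_ge
    (hi ▸ im_le_iff.2 fun x hx => stronglyClosed_map hT hh hx hx) (isConj_card hU).le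
  rw [hUT]

/-- Maps on a factor extend over the other factor. -/
theorem exists_ext_sup (hS : IsPGroup p S) (hF : F.IsSaturated p)
    (hprod : IsInternalDirectProduct S₁ S₂ S) (h₁ : F.StronglyClosed S₁) (h₂ : F.StronglyClosed S₂)
    (hP : P ≤ S₁) (hf : Map F P f) :
    ∃ g, Map F (P ⊔ S₂) g ∧ ∀ x ∈ P, g x = f x := by
  set Q := im P f
  have hQ : Q ≤ S₁ := im_le_iff.2 fun x hx => stronglyClosed_map h₁ hf hx (hP hx)
  have hPQ : F.IsConj P Q := isConj_iff.2 ⟨f, hf, rfl⟩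
  obtain ⟨W, hPW, hW⟩ := exists_fullyNormalized (F := F) hf.le
  obtain ⟨u, hu, hum, hui⟩ := exists_map_normalizer_fn hS hF hW hPW
  obtain ⟨v, hv, hvm, hvi⟩ := exists_map_normalizer_fn hS hF hW (isConj_trans (isConj_symm hPQ) hPW)
  have hPN : P ≤ normalizerIn S P := le_normalizerIn hf.le
  have hQN : Q ≤ normalizerIn S Q := le_normalizerIn hf.im_le
  have hW1 : W ≤ S₁ := hui ▸ im_le_iff.2 fun x hx => stronglyClosed_map h₁ hu (hPN hx) (hP hx)
  obtain ⟨k, hk, hku, -, -⟩ := (hu.restrict hPN).exists_inv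
  rw [hui] at hk
  have hkm : ∀ x ∈ W, k x ∈ P := fun x hx => by
    obtain ⟨y, hy, rfl⟩ := (hu.restrict hPN).mem_im.1 (hui.ge hx)
    rw [hku y hy]; exact hy
  have hfm : ∀ x ∈ P, f x ∈ normalizerIn S Q := fun x hx => hQN (mem_im_of_mem hx)
  have hα : Map F W ((v ∘ f) ∘ k) := hk.comp (hf.comp hv hfm) hkm
  have hαi : im W ((v ∘ f) ∘ k) = W := by
    calc im W ((v ∘ f) ∘ k) = im (im P u) ((v ∘ f) ∘ k) := by rw [hui]
      _ = im P (((v ∘ f) ∘ k) ∘ u) := ((hu.restrict hPN).im_comp).symm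
      _ = im P (v ∘ f) := im_congr fun x hx => congrArg (v ∘ f) (hku x hx)
      _ = im Q v := hf.im_comp
      _ = W := hvi
  obtain ⟨A, hA, hAα⟩ := (receptive_iff.1 (receptive_of_fc hS hF (fc_fa_of_fn hS hF hW).1)).2 W _ hα hαi
  have hPS2 : P ⊔ S₂ ≤ normalizerIn S P :=
    sup_le hPN ((le_centralizerIn_of_le hprod hP).trans centralizerIn_le_normalizerIn)
  have hQS2 : Q ⊔ S₂ ≤ normalizerIn S Q :=
    sup_le hQN ((le_centralizerIn_of_le hprod hQ).trans centralizerIn_le_normalizerIn)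
  have hW2 : W ⊔ S₂ ≤ Nf S W ((v ∘ f) ∘ k) :=
    sup_le (le_Nf hα) ((le_centralizerIn_of_le hprod hW1).trans centralizerIn_le_Nf)
  have hv2 : S₂ ≤ im (Q ⊔ S₂) v := by
    haveI := finite_of_le h₂.1
    have h := hv.restrict ((le_sup_right : S₂ ≤ Q ⊔ S₂).trans hQS2)
    have hle : im S₂ v ≤ S₂ := im_le_iff.2 fun x hx =>
      stronglyClosed_map h₂ hv (hQS2 (Subgroup.mem_sup_right hx)) hx
    have heq : im S₂ v = S₂ := Subgroup.eq_of_le_of_card_ge hle h.card_im.ge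
    exact heq.ge.trans (im_mono le_sup_right)
  have hWv : W ≤ im (Q ⊔ S₂) v := hvi ▸ im_mono le_sup_left
  obtain ⟨l, hl, hlv, -, -⟩ := (hv.restrict hQS2).exists_inv
  have hum2 : ∀ x ∈ P ⊔ S₂, u x ∈ W ⊔ S₂ := fun x hx =>
    (show im P u ⊔ im S₂ u ≤ W ⊔ S₂ from sup_le_sup hui.le (im_le_iff.2 fun y hy =>
      stronglyClosed_map h₂ hu (hPS2 (Subgroup.mem_sup_right hy)) hy))
      ((hu.restrict hPS2).im_sup_le (mem_im_of_mem hx))
  have hAm : ∀ x ∈ W ⊔ S₂, A x ∈ im (Q ⊔ S₂) v := fun x hx =>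
    (show im W A ⊔ im S₂ A ≤ im (Q ⊔ S₂) v from sup_le
      (((im_congr hAα).trans hαi).le.trans hWv) (im_le_iff.2 fun y hy =>
        hv2 (stronglyClosed_map h₂ hA (hW2 (Subgroup.mem_sup_right hy)) hy)))
      ((hA.restrict hW2).im_sup_le (mem_im_of_mem hx))
  refine ⟨l ∘ A ∘ u, ((hu.restrict hPS2).comp (hA.restrict hW2) hum2).comp hl
    fun x hx => hAm _ (hum2 x hx), fun x hx => ?_⟩
  show l (A (u x)) = f x
  rw [hAα _ (hui.le (mem_im_of_mem hx))]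
  show l (v (f (k (u x)))) = f x
  rw [hku x hx, hlv _ (Subgroup.mem_sup_left (mem_im_of_mem hx))]

/-- An automorphism of one factor extends to `S`. -/
theorem exists_ext_factor (hS : IsPGroup p S) (hF : F.IsSaturated p) {T T' : Subgroup Ω}
    (hT : F.StronglyClosed T) (hT' : T' ≤ centralizerIn S T) (hsup : T ⊔ T' = S)
    (hf : Map F T f) (hfi : im T f = T) :
    ∃ β ∈ F.autGroup S, ∀ x ∈ T, av β x = f x := by
  obtain ⟨g, hg, hgf⟩ := (receptive_iff.1 (receptive_of_fc hS hF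
    (fc_fa_of_fn hS hF (stronglyClosed_fn hT)).1)).2 T f hf hfi
  have hle : S ≤ Nf S T f := by
    conv_lhs => rw [← hsup]
    exact sup_le (le_Nf hf) (hT'.trans centralizerIn_le_Nf)
  have hgS := hg.restrict hle
  obtain ⟨β, hβ, hβg⟩ := exists_aut hgS (Subgroup.eq_of_le_of_card_ge hgS.im_le hgS.card_im.ge)
  exact ⟨β, hβ, fun x hx => (hβg x (hT.1 hx)).trans (hgf x hx)⟩

omit [Finite S] [Fact p.Prime] in
theorem map_factor_iff (hR : ∀ P : Subgroup Ω, P ≤ S₁ → R.Hom P = F.Hom P) :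
    Map R P f ↔ P ≤ S₁ ∧ Map F P f := by
  constructor
  · intro h
    obtain ⟨φ, hφ, he⟩ := id h
    exact ⟨h.le, φ, hR P h.le ▸ hφ, he⟩
  · rintro ⟨hP, φ, hφ, he⟩
    exact ⟨φ, (hR P hP).symm ▸ hφ, he⟩

omit [Fact p.Prime] [Finite S] in
theorem map_cent_iff (hprod : IsInternalDirectProduct S₁ S₂ S) (h₁ : F.StronglyClosed S₁)
    (hR' : ∀ P : Subgroup Ω, P ≤ S₁ → R'.Hom P = F.centralizerHom S₂ P) :
    Map R' P f ↔ P ≤ S₁ ∧ ∃ g, Map F (P ⊔ S₂) g ∧ (∀ x ∈ P, g x = f x) ∧ ∀ x ∈ S₂, g x = x := by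
  constructor
  · intro h
    obtain ⟨φ, hφ, he⟩ := id h
    rw [hR' P h.le] at hφ
    obtain ⟨-, -, g, hg, hge, hgQ⟩ := mem_centralizerHom.1 hφ
    exact ⟨h.le, g, hg, fun x hx => (hge ⟨x, hx⟩).symm.trans (he _), hgQ⟩
  · rintro ⟨hP, g, hg, hgf, hgQ⟩
    obtain ⟨φ, hφ, he⟩ := (hg.restrict (le_sup_left (b := S₂)))
    refine ⟨φ, (hR' P hP).symm ▸ mem_centralizerHom.2 ⟨hP.trans (le_centralizerIn_prod hprod),
      fun x => ?_, g, hg, he, hgQ⟩, fun x => (he x).trans (hgf x x.2)⟩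
    rw [he x]
    exact le_centralizerIn_prod hprod (stronglyClosed_map h₁ hg (Subgroup.mem_sup_left x.2) (hP x.2))

theorem factor_saturated (hS : IsPGroup p S) (hF : F.IsSaturated p)
    (hprod : IsInternalDirectProduct S₁ S₂ S) (h₁ : F.StronglyClosed S₁)
    (hR : ∀ P : Subgroup Ω, P ≤ S₁ → R.Hom P = F.Hom P) : R.IsSaturated p := by
  haveI := finite_of_le h₁.1
  intro P hP
  obtain ⟨Q, hPQ, hQn⟩ := exists_fullyNormalized (F := F) (hP.trans h₁.1)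
  obtain ⟨f, hf, hi⟩ := isConj_iff.1 hPQ
  have hQ : Q ≤ S₁ := hi ▸ im_le_iff.2 fun x hx => stronglyClosed_map h₁ hf hx (hP hx)
  obtain ⟨hfc, hfa⟩ := fc_fa_of_fn hS hF hQn
  refine ⟨Q, isConj_iff.2 ⟨f, (map_factor_iff hR).2 ⟨hP, hf⟩, hi⟩, ?_, ?_⟩
  · haveI := mulAut_finite_of_le hQn.1
    have hA : R.autGroup Q = F.autGroup Q := by
      ext α
      rw [mem_autGroup_iff hQ, mem_autGroup_iff hQn.1, map_factor_iff hR]
      exact and_iff_right hQ
    refine fa_iff.2 ⟨hQ, ?_⟩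
    rw [hA, ← autInducedBy_prod hprod hQ hprod.1 le_rfl]
    exact (fa_iff.1 hfa).2
  · refine receptive_iff.2 ⟨hQ, fun X g hg hgi => ?_⟩
    obtain ⟨hX, hgF⟩ := (map_factor_iff hR).1 hg
    obtain ⟨ψ, hψ, hψg⟩ := (receptive_iff.1 (receptive_of_fc hS hF hfc)).2 X g hgF hgi
    refine ⟨ψ, (map_factor_iff hR).2 ⟨fun a ha => ha.1, hψ.restrict ?_⟩, hψg⟩
    rintro a ⟨ha, han, h, hh, he⟩
    exact ⟨h₁.1 ha, han, h, h₁.1 hh, he⟩

theorem cent_saturated (hS : IsPGroup p S) (hF : F.IsSaturated p)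
    (hprod : IsInternalDirectProduct S₁ S₂ S) (h₁ : F.StronglyClosed S₁) (h₂ : F.StronglyClosed S₂)
    (hR' : ∀ P : Subgroup Ω, P ≤ S₁ → R'.Hom P = F.centralizerHom S₂ P) : R'.IsSaturated p := by
  haveI := finite_of_le h₁.1
  have hfc2 := (fc_fa_of_fn hS hF (stronglyClosed_fn h₂)).1
  have hC := le_centralizerIn_prod hprod
  have htoR : ∀ {X : Subgroup Ω} {g : Ω → Ω}, X ≤ S₁ → Map (centSys F h₂.1) X g → Map R' X g := by
    rintro X g hX ⟨φ, hφ, he⟩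
    exact ⟨φ, (hR' X hX).symm ▸ hφ, he⟩
  have hfromR : ∀ {X : Subgroup Ω} {g : Ω → Ω}, Map R' X g → Map (centSys F h₂.1) X g := by
    intro X g hg
    obtain ⟨φ, hφ, he⟩ := id hg
    refine ⟨φ, ?_, he⟩
    show φ ∈ F.centralizerHom S₂ X
    rw [← hR' X hg.le]; exact hφ
  have hCF : ∀ {X : Subgroup Ω} {g : Ω → Ω}, Map (centSys F h₂.1) X g → Map F X g :=
    fun ⟨φ, hφ, he⟩ => ⟨φ, hφ.1, he⟩
  intro P hP
  obtain ⟨Q, hQC, hconj, hfcQ, hsyl⟩ := exists_good_cent hS hF hfc2 (hP.trans hC)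
  obtain ⟨f, hf, hi⟩ := isConj_iff.1 hconj
  have hQ : Q ≤ S₁ := hi ▸ im_le_iff.2 fun x hx => stronglyClosed_map h₁ (hCF hf) hx (hP hx)
  refine ⟨Q, isConj_iff.2 ⟨f, htoR hP hf, hi⟩, ?_, ?_⟩
  · haveI := mulAut_finite_of_le (hQ.trans h₁.1)
    haveI : Finite ↥(centralizerIn S S₂) := finite_centralizerIn
    have hA : R'.autGroup Q = (centSys F h₂.1).autGroup Q := by
      ext α
      rw [mem_autGroup_iff hQ, mem_autGroup_iff hQC]
      exact ⟨hfromR, htoR hQ⟩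
    refine fa_iff.2 ⟨hQ, ?_⟩
    rw [hA, ← autInducedBy_prod hprod hQ hC inf_le_left]
    exact (fa_iff.1 (fa_of_good_cent hS h₂.1 hQC hfcQ.1 hsyl)).2
  · refine receptive_iff.2 ⟨hQ, fun X g hg hgi => ?_⟩
    obtain ⟨ψ, hψ, hψg⟩ := (receptive_iff.1 (receptive_of_good_cent hS hF h₂.1 hQC hfcQ hsyl)).2 X g
      (hfromR hg) hgi
    refine ⟨ψ, htoR (fun a ha => ha.1) (hψ.restrict ?_), hψg⟩
    rintro a ⟨ha, han, h, hh, he⟩
    exact ⟨hC ha, han, h, hC hh, he⟩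

theorem product_factors (hS : IsPGroup p S) (hF : F.IsSaturated p)
    (hprod : IsInternalDirectProduct S₁ S₂ S) (h₁ : F.StronglyClosed S₁) (h₂ : F.StronglyClosed S₂)
    (hR : ∀ P : Subgroup Ω, P ≤ S₁ → R.Hom P = F.Hom P)
    (hR' : ∀ P : Subgroup Ω, P ≤ S₁ → R'.Hom P = F.centralizerHom S₂ P) :
    R.IsSaturated p ∧ R'.IsSaturated p ∧ R'.IsNormalIn F p ∧ R'.IsNormalIn R p ∧
      R.IsWeaklyNormalIn F p := by
  haveI := finite_of_le h₁.1
  have hRs := factor_saturated hS hF hprod h₁ hR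
  have hR's := cent_saturated hS hF hprod h₁ h₂ hR'
  have hRF : R.IsSubsystemOf F := fun P φ hφ => hR P (R.le_of_mem hφ).1 ▸ hφ
  have hR'F : R'.IsSubsystemOf F := fun P φ hφ => by
    have h := hφ
    rw [hR' P (R'.le_of_mem hφ).1] at h
    exact h.1
  have hR'R : R'.IsSubsystemOf R := fun P φ hφ => (hR P (R'.le_of_mem hφ).1).symm ▸ hR'F P hφ
  have hR1 : R.StronglyClosed S₁ := ⟨le_rfl, fun U _ φ hφ x => (R.le_of_mem hφ).2 x⟩
  have hautR : R.autGroup S₁ = F.autGroup S₁ := by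
    ext α
    rw [mem_autGroup_iff le_rfl, mem_autGroup_iff h₁.1, map_factor_iff hR]
    exact and_iff_right le_rfl
  have hext : ∀ α ∈ F.autGroup S₁, ∃ β ∈ F.autGroup S, ∀ x ∈ S₁, av β x = av α x := fun α hα =>
    exists_ext_factor hS hF h₁ (le_centralizerIn_of_le hprod le_rfl) hprod.2.2.2.2
      (map_of_mem_autGroup h₁.1 hα) (im_av α)
  have hβS₂ : ∀ β ∈ F.autGroup S, ∀ x ∈ S₂, av β x ∈ S₂ := fun β hβ x hx =>
    stronglyClosed_map h₂ (map_of_mem_autGroup le_rfl hβ) (h₂.1 hx) hx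
  have hinv : ∀ (P : Subgroup Ω) (hPT : P ≤ S₁) (φ : P →* Ω), φ ∈ R'.Hom P → ∀ α ∈ F.autGroup S₁,
      ∃ χ ∈ R'.Hom ((P.subgroupOf S₁).map (S₁.subtype.comp α.toMonoidHom)),
        ∀ (x : P) (hφx : φ x ∈ S₁)
          (hαx : ((α ⟨x, hPT x.2⟩ : S₁) : Ω) ∈ (P.subgroupOf S₁).map (S₁.subtype.comp α.toMonoidHom)),
          χ ⟨(α ⟨x, hPT x.2⟩ : S₁), hαx⟩ = ((α ⟨φ x, hφx⟩ : S₁) : Ω) := by
    intro P hP φ hφ α hα
    obtain ⟨-, g, hg, hgf, hgQ⟩ := (map_cent_iff hprod h₁ hR').1 (map_of_mem hφ)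
    obtain ⟨β, hβ, hβα⟩ := hext α hα
    have hβm := map_of_mem_autGroup le_rfl hβ
    have hβi := map_of_mem_autGroup le_rfl ((F.autGroup S).inv_mem hβ)
    have hPS : P ⊔ S₂ ≤ S := sup_le (hP.trans h₁.1) h₂.1
    have hh : Map F (im (P ⊔ S₂) (av β)) (av β ∘ g ∘ av β⁻¹) :=
      ((hβi.restrict (hβm.restrict hPS).im_le).comp hg fun y hy => by
        obtain ⟨x, hx, rfl⟩ := (hβm.restrict hPS).mem_im.1 hy
        rw [av_inv_av β (hPS hx)]; exact hx).comp hβm fun y hy => by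
        obtain ⟨x, hx, rfl⟩ := (hβm.restrict hPS).mem_im.1 hy
        show g (av β⁻¹ (av β x)) ∈ S
        rw [av_inv_av β (hPS hx)]; exact hg.mem hx
    have hM : Map R' (im P (av α)) (av β ∘ g ∘ av β⁻¹) := by
      refine (map_cent_iff hprod h₁ hR').2 ⟨im_le_iff.2 fun x hx => av_mem α (hP hx), _,
        hh.restrict ?_, fun _ _ => rfl, fun y hy => ?_⟩
      · refine sup_le ?_ fun y hy => ?_
        · rw [← im_congr fun x hx => hβα x (hP hx)]
          exact im_mono le_sup_left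
        · rw [← av_av_inv β (h₂.1 hy)]
          exact mem_im_of_mem (Subgroup.mem_sup_right (hβS₂ _ ((F.autGroup S).inv_mem hβ) y hy))
      · show av β (g (av β⁻¹ y)) = y
        rw [hgQ _ (hβS₂ _ ((F.autGroup S).inv_mem hβ) y hy), av_av_inv β (h₂.1 hy)]
    have hP' : (P.subgroupOf S₁).map (S₁.subtype.comp α.toMonoidHom) = im P (av α) :=
      map_subgroupOf_eq_im hP fun x => (av_coe α x).symm
    rw [← hP'] at hM
    obtain ⟨χ, hχ, hχe⟩ := hM
    refine ⟨χ, hχ, fun x hφx hαx => ?_⟩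
    rw [hχe ⟨_, hαx⟩, ← av_apply α hφx]
    show av β (g (av β⁻¹ ((α ⟨x, hP x.2⟩ : S₁) : Ω))) = _
    rw [← av_apply α (hP x.2), ← hβα x (hP x.2), av_inv_av β (h₁.1 (hP x.2)), hgf x x.2, fn_coe,
      hβα _ hφx]
  have hfrat : ∀ (P : Subgroup Ω), P ≤ S₁ → ∀ (φ : P →* Ω), φ ∈ F.Hom P →
      ∃ α ∈ F.autGroup S₁, ∃ φ₀ ∈ R'.Hom P, ∀ (x : P) (hx : φ₀ x ∈ S₁),
        φ x = ((α ⟨φ₀ x, hx⟩ : S₁) : Ω) := by
    intro P hP φ hφ
    obtain ⟨g, hg, hgf⟩ := exists_ext_sup hS hF hprod h₁ h₂ hP (map_of_mem hφ)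
    haveI := finite_of_le h₂.1
    have hg2 := hg.restrict (le_sup_right : S₂ ≤ P ⊔ S₂)
    obtain ⟨β, hβ, hβg⟩ := exists_ext_factor hS hF h₂ (le_centralizerIn_prod hprod)
      (by rw [sup_comm]; exact hprod.2.2.2.2) hg2
      (Subgroup.eq_of_le_of_card_ge (im_le_iff.2 fun x hx =>
        stronglyClosed_map h₂ hg (Subgroup.mem_sup_right hx) hx) hg2.card_im.ge)
    have hβm := map_of_mem_autGroup le_rfl hβ
    have hβ1 := hβm.restrict h₁.1
    obtain ⟨α, hα, hαβ⟩ := exists_aut hβ1 (Subgroup.eq_of_le_of_card_ge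
      (im_le_iff.2 fun x hx => stronglyClosed_map h₁ hβm (h₁.1 hx) hx) hβ1.card_im.ge)
    have hx : Map F (P ⊔ S₂) (av β⁻¹ ∘ g) :=
      hg.comp (map_of_mem_autGroup le_rfl ((F.autGroup S).inv_mem hβ)) fun y hy => hg.mem hy
    have hM : Map R' P (av β⁻¹ ∘ g) := (map_cent_iff hprod h₁ hR').2
      ⟨hP, _, hx, fun _ _ => rfl, fun y hy => by
        show av β⁻¹ (g y) = y
        rw [← hβg y hy, av_inv_av β (h₂.1 hy)]⟩
    obtain ⟨φ₀, hφ₀, hφ₀e⟩ := hM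
    refine ⟨α, hα, φ₀, hφ₀, fun x hx => ?_⟩
    rw [← av_apply α hx, hαβ _ hx, hφ₀e x]
    show φ x = av β (av β⁻¹ (g x))
    rw [av_av_inv β (hg.mem (Subgroup.mem_sup_left x.2)), hgf x x.2, fn_coe]
  refine ⟨hRs, hR's, ⟨⟨hR's, hF, hR'F, h₁, hinv, hfrat⟩, fun α hα => ?_⟩,
    ⟨⟨hR's, hRs, hR'R, hR1, fun P hP φ hφ α hα => hinv P hP φ hφ α (hautR ▸ hα), fun P hP φ hφ => ?_⟩,
      fun α hα => ?_⟩, ⟨hRs, hF, hRF, h₁, fun P hP φ hφ α hα => ?_, fun P hP φ hφ => ?_⟩⟩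
  · -- extension condition in `F`
    obtain ⟨-, g, hg, hgf, hgQ⟩ := (map_cent_iff hprod h₁ hR').1 (map_of_mem_autGroup le_rfl hα)
    have hle : S₁ ⊔ centralizerIn S S₁ ≤ S₁ ⊔ S₂ := by
      rw [hprod.2.2.2.2]; exact sup_le h₁.1 inf_le_left
    have hgY := hg.restrict hle
    have hY : S₁ ⊔ centralizerIn S S₁ = S := le_antisymm (sup_le h₁.1 inf_le_left) (by
      conv_lhs => rw [← hprod.2.2.2.2]
      exact sup_le_sup le_rfl (le_centralizerIn_of_le hprod le_rfl))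
    obtain ⟨β, hβ, hβg⟩ := exists_aut hgY (by
      haveI : Finite ↥(S₁ ⊔ centralizerIn S S₁) := finite_of_le hY.le
      exact Subgroup.eq_of_le_of_card_ge (hgY.im_le.trans hY.ge) hgY.card_im.ge)
    refine ⟨β, hβ, fun x => ?_, fun c hc => ?_⟩
    · rw [← av_coe β (Subgroup.inclusion le_sup_left x), ← av_coe α x, Subgroup.coe_inclusion,
        hβg _ (Subgroup.mem_sup_left x.2), hgf _ x.2]
    · rw [← av_coe β c, hβg _ c.2]
      obtain ⟨a, ha, b, hb, hab⟩ := exists_prod_decomp hprod (hY.le c.2)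
      have hga : g a ∈ S₁ := stronglyClosed_map h₁ hg (Subgroup.mem_sup_left ha) ha
      rw [hab, hg.map_mul (Subgroup.mem_sup_left ha) (Subgroup.mem_sup_right hb), hgQ b hb,
        show (a * b)⁻¹ * (g a * b) = a⁻¹ * g a by
          have h3 : b⁻¹ * (a⁻¹ * g a) = (a⁻¹ * g a) * b⁻¹ :=
            (hprod.2.2.1 _ (S₁.mul_mem (S₁.inv_mem ha) hga) _ (S₂.inv_mem hb)).symm
          calc (a * b)⁻¹ * (g a * b) = b⁻¹ * (a⁻¹ * g a) * b := by group
            _ = _ := by rw [h3]; group]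
      refine ⟨S₁.mul_mem (S₁.inv_mem ha) hga, Subgroup.mem_centralizer_iff.2 fun y hy => ?_⟩
      have hca : y * a = a * y := by
        have h1 := (mem_centralizerIn.1 hc).2 y hy
        rw [hab] at h1
        have hb' := hprod.2.2.1 y hy b hb
        calc y * a = y * (a * b) * b⁻¹ := by group
          _ = a * (b * y) * b⁻¹ := by rw [h1]; group
          _ = a * y := by rw [← hb']; group
      have hgay : y * g a = g a * y := by
        have hgy : Map F S₁ g := hg.restrict le_sup_left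
        obtain ⟨z, hz, rfl⟩ := hgy.mem_im.1 (((im_congr hgf).trans (im_av α)).ge hy)
        have h1 := (mem_centralizerIn.1 hc).2 z hz
        rw [hab] at h1
        have hb' := hprod.2.2.1 z hz b hb
        have hza : z * a = a * z := by
          calc z * a = z * (a * b) * b⁻¹ := by group
            _ = a * (b * z) * b⁻¹ := by rw [h1]; group
            _ = a * z := by rw [← hb']; group
        rw [← hgy.map_mul hz ha, hza, hgy.map_mul ha hz]
      calc y * (a⁻¹ * g a) = a⁻¹ * (a * y) * a⁻¹ * g a := by group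
        _ = a⁻¹ * (y * g a) := by rw [← hca]; group
        _ = _ := by rw [hgay, mul_assoc]
  · obtain ⟨α, hα, φ₀, hφ₀, he⟩ := hfrat P hP φ (hRF P hφ)
    exact ⟨α, hautR.symm ▸ hα, φ₀, hφ₀, he⟩
  · -- extension condition in `R`
    have hY : S₁ ⊔ centralizerIn S₁ S₁ ≤ S₁ := sup_le le_rfl inf_le_left
    have hm : Map R (S₁ ⊔ centralizerIn S₁ S₁) (av α) :=
      ((map_of_mem_autGroup le_rfl hα).of_sub hR'R).restrict hY
    obtain ⟨β, hβ, hβe⟩ := exists_aut hm (by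
      haveI := finite_of_le hY
      exact Subgroup.eq_of_le_of_card_ge (im_le_iff.2 fun x hx => Subgroup.mem_sup_left
        (av_mem α (hY hx))) hm.card_im.ge)
    refine ⟨β, hβ, fun x => ?_, fun c hc => ?_⟩
    · rw [← av_coe β (Subgroup.inclusion le_sup_left x), ← av_coe α x, Subgroup.coe_inclusion,
        hβe _ (Subgroup.mem_sup_left x.2)]
    · rw [← av_coe β c, hβe _ c.2]
      refine ⟨S₁.mul_mem (S₁.inv_mem hc.1) (av_mem α hc.1), ?_⟩
      have hαm := map_of_mem_autGroup le_rfl hα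
      have h1 := hαm.mem_centralizer le_rfl hc.1 (mem_centralizerIn.1 hc).2
      rw [im_av] at h1
      exact Subgroup.mul_mem _ (Subgroup.inv_mem _ hc.2) h1.2
  · -- invariance of `R`
    have hM := (map_of_mem hφ).of_sub hRF
    have hαm := map_of_mem_autGroup h₁.1 hα
    have hPi := (hαm.restrict hP)
    have hh : Map R (im P (av α)) (av α ∘ fn φ ∘ av α⁻¹) := (map_factor_iff hR).2
      ⟨im_le_iff.2 fun x hx => av_mem α (hP hx),
        (((map_of_mem_autGroup h₁.1 ((F.autGroup S₁).inv_mem hα)).restrict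
          (im_le_iff.2 fun x hx => av_mem α (hP hx))).comp hM fun y hy => by
          obtain ⟨x, hx, rfl⟩ := hPi.mem_im.1 hy
          rw [av_inv_av α (hP hx)]; exact hx).comp hαm fun y hy => by
          obtain ⟨x, hx, rfl⟩ := hPi.mem_im.1 hy
          show fn φ (av α⁻¹ (av α x)) ∈ S₁
          rw [av_inv_av α (hP hx)]
          exact (map_of_mem hφ).mem hx⟩
    have hP' : (P.subgroupOf S₁).map (S₁.subtype.comp α.toMonoidHom) = im P (av α) :=
      map_subgroupOf_eq_im hP fun x => (av_coe α x).symm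
    rw [← hP'] at hh
    obtain ⟨χ, hχ, hχe⟩ := hh
    refine ⟨χ, hχ, fun x hφx hαx => ?_⟩
    rw [hχe ⟨_, hαx⟩, ← av_apply α hφx]
    show av α (fn φ (av α⁻¹ ((α ⟨x, hP x.2⟩ : S₁) : Ω))) = _
    rw [← av_apply α (hP x.2), av_inv_av α (hP x.2), fn_coe]
  · refine ⟨1, Subgroup.one_mem _, φ, (hR P hP).symm ▸ hφ, fun x hx => ?_⟩
    rfl

end Cfsg.Agent.Local.FS
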