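import Cfsg.Agent.Lib.Local.FS.Omega
import Cfsg.Agent.S5124

set_option autoImplicit false

namespace Cfsg.Agent.Local.FS

open Cfsg Cfsg.FusionSystem Cfsg.Agent.Fusion

variable {Ω : Type*} [Group Ω] {S : Subgroup Ω} [Finite S] {F : FusionSystem S}
  {R : Subgroup Ω} {p : ℕ}

/-- The upper central series of `S` inside the ambient group. -/
def zS (S : Subgroup Ω) (i : ℕ) : Subgroup Ω := (Subgroup.upperCentralSeries ↥S i).map S.subtype

omit [Finite S] in
theorem zS_step {i : ℕ} {x s : Ω} (hs : s ∈ S) (hx : x ∈ zS S (i + 1)) :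
    x⁻¹ * (s * x * s⁻¹) ∈ zS S i := by
  obtain ⟨y, hy, rfl⟩ := hx
  refine ⟨y⁻¹ * (⟨s, hs⟩ * y * ⟨s, hs⟩⁻¹), ?_, rfl⟩
  have := (Subgroup.mem_upperCentralSeries_succ_iff.1 (Subgroup.inv_mem _ hy)) ⟨s, hs⟩
  simpa [commutatorElement_def, mul_assoc] using this

theorem exists_zS_top [Fact p.Prime] (hS : IsPGroup p S) : ∃ n, zS S n = S := by
  haveI : Group.IsNilpotent ↥S := IsPGroup.isNilpotent (p := p) hS
  obtain ⟨n, hn⟩ := (inferInstance : Group.IsNilpotent ↥S).nilpotent'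
  exact ⟨n, by rw [zS, hn, ← MonoidHom.range_eq_map, Subgroup.range_subtype]⟩

omit [Finite S] in
theorem zS_inv {φ : MulAut ↥S} {i : ℕ} {x : Ω} (hx : x ∈ zS S i) : av φ x ∈ zS S i := by
  obtain ⟨y, hy, rfl⟩ := hx
  have hch : (Subgroup.upperCentralSeries ↥S i).Characteristic := inferInstance
  exact ⟨φ y, (Subgroup.characteristic_iff_map_eq.1 hch φ).le ⟨y, hy, rfl⟩, (av_coe φ y).symm⟩

theorem omega_card [Fact p.Prime] {x : Ω} (h1 : x ≠ 1) (h : IsOmega p x) :
    Nat.card ↥(Subgroup.zpowers x) = p ∨ Nat.card ↥(Subgroup.zpowers x) = 4 := by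
  rw [Nat.card_zpowers]
  rcases h with h | ⟨rfl, h⟩
  · exact Or.inl (orderOf_eq_prime h h1)
  · obtain ⟨k, hk, he⟩ := (Nat.dvd_prime_pow Nat.prime_two).1
      (show orderOf x ∣ 2 ^ 2 from orderOf_dvd_of_pow_eq_one h)
    interval_cases k
    · exact absurd (orderOf_eq_one_iff.1 (by simpa using he)) h1
    · exact Or.inl (by simpa using he)
    · exact Or.inr (by simpa using he)

/-- The data of a control hypothesis on omega elements of the hyperfocal subgroup. -/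
theorem exists_control_map [Fact p.Prime] (hS : IsPGroup p S) (hF : F.IsSaturated p)
    (hR : R ≤ S) {α : MulAut R} (hα : α ∈ F.autGroup R) {x : Ω} (hx : x ∈ R)
    (hxh : x ∈ F.hyperfocalSubgroup p) :
    ∃ φ ∈ F.homSet (Subgroup.zpowers x) (Subgroup.zpowers (av α x)),
      φ ⟨x, Subgroup.mem_zpowers x⟩ = av α x ∧ av α x ∈ F.hyperfocalSubgroup p := by
  have hm := (map_of_mem_autGroup hR hα).restrict (Subgroup.zpowers_le.2 hx)
  obtain ⟨φ, hφ, he⟩ := id hm
  refine ⟨φ, ⟨hφ, fun y => ?_⟩, he _, stronglyClosed_map (Cfsg.Agent.S5124.result p hS F hF)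
    hm (Subgroup.mem_zpowers x) hxh⟩
  obtain ⟨k, hk⟩ := Subgroup.mem_zpowers_iff.1 y.2
  rw [show y = (⟨x, Subgroup.mem_zpowers x⟩ : Subgroup.zpowers x) ^ k from Subtype.ext hk.symm,
    map_zpow, he]
  exact Subgroup.zpow_mem _ (Subgroup.mem_zpowers _) k

theorem normal_self_of_gens [Fact p.Prime] (hS : IsPGroup p S) (hF : F.IsSaturated p)
    (h : ∀ R : Subgroup Ω, F.IsEssential p R → R = S) : F.IsNormal S := by
  refine normal_of_gen hS hF le_rfl fun P hP => ?_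
  obtain rfl : P = S := hP.elim id (h P)
  exact ⟨le_rfl, fun α _ x hx => av_mem α hx⟩

end Cfsg.Agent.Local.FS
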