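import Cfsg.Agent.Lib.Local.FS.Solvable
import Cfsg.Agent.Lib.Local.FS.FactorFree
import Cfsg.Agent.Lib.Fusion.StableFusion
import Cfsg.Agent.Lib.Fusion.QdFree

/-!
Section-free systems are constrained, and a functor normal in constrained section-free groups is normal.
-/

set_option autoImplicit false

namespace Cfsg.Agent.Local.FS

open Cfsg Cfsg.FusionSystem Cfsg.Agent.Fusion

universe u w

variable {Ω : Type u} [Group Ω] {S : Subgroup Ω} {F : FusionSystem S} {p : ℕ}

/-- All maps of the system. -/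
def allMaps (F : FusionSystem S) : Set (Σ P : Subgroup Ω, (P →* Ω)) := {x | x.2 ∈ F.Hom x.1}

theorem allMaps_finite [Finite S] (F : FusionSystem S) : (allMaps F).Finite := by
  let T := Σ P : Subgroup S, (P → S)
  haveI : Finite T := inferInstanceAs (Finite (Σ P : Subgroup S, (P → S)))
  rw [Set.finite_def]
  refine ⟨@Fintype.ofFinite _ (Finite.of_injective (fun x : allMaps F =>
    (⟨x.1.1.subgroupOf S, fun y => ⟨x.1.2 ⟨(y.1 : Ω), y.2⟩, (F.le_of_mem x.2).2 _⟩⟩ : T)) ?_)⟩
  rintro ⟨⟨P, φ⟩, hx⟩ ⟨⟨Q, ψ⟩, hy⟩ he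
  simp only [T, Sigma.mk.injEq] at he
  obtain ⟨h1, h2⟩ := he
  obtain rfl : P = Q := by
    have hP : P ≤ S := (F.le_of_mem hx).1
    have hQ : Q ≤ S := (F.le_of_mem hy).1
    rw [← Subgroup.map_subgroupOf_eq_of_le hP, h1, Subgroup.map_subgroupOf_eq_of_le hQ]
  refine Subtype.ext (Sigma.ext rfl (heq_of_eq (MonoidHom.ext fun z => ?_)))
  exact congrArg Subtype.val (congrFun (eq_of_heq h2) ⟨⟨z, (F.le_of_mem hx).1 z.2⟩, z.2⟩)

variable [Finite S] {U : Subgroup Ω}

theorem allMaps_lt (hUS : U ≤ S) (hU : ¬ F.IsNormal U) {N : FusionSystem (normalizerIn S U)}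
    (hN : F.IsNormalizerSystem U N) : (allMaps N).ncard < (allMaps F).ncard := by
  refine Set.ncard_lt_ncard ?_ (allMaps_finite F)
  have hle : allMaps N ⊆ allMaps F := by
    intro x hx
    obtain ⟨-, -, g, hg, hgf, -⟩ := (map_normalizerSystem_iff hN).1 (map_of_mem hx)
    exact mem_iff_map.2 ((hg.restrict le_sup_left).congr hgf)
  refine lt_of_le_not_ge hle fun hge => hU (normal_iff.2 ⟨hUS, fun P f hf => ?_⟩)
  obtain ⟨φ, hφ, he⟩ := hf
  have h1 : (⟨P, φ⟩ : Σ P : Subgroup Ω, (P →* Ω)) ∈ allMaps N := hge hφ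
  obtain ⟨-, -, g, hg, hgf, hgU⟩ := (map_normalizerSystem_iff hN).1 (map_of_mem h1)
  exact ⟨g, hg, fun x hx => (hgf x hx).trans ((fn_apply φ hx).trans (he ⟨x, hx⟩)), hgU⟩

variable [Fact p.Prime]

/-- **Gluing**: a subgroup of `S` that starts every tower of normal subgroups of good local systems is normal. -/
theorem normal_of_local_good (hS : IsPGroup p S) (hF : F.IsSaturated p) (hS1 : S ≠ ⊥) {W₀ : Subgroup Ω}
    (hW : W₀ ≤ S) (hAut : ∀ α ∈ F.autGroup S, im W₀ (av α) = W₀)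
    (Good : Subgroup Ω → Prop) (hgood : ∀ X, F.IsCentric X → Good X)
    (h : ∀ (U : Subgroup Ω) (hU : F.IsFullyNormalized U), U ≠ ⊥ → Good U →
      ∃ R, (normSys F hU.1).IsNormal R ∧ R ≠ ⊥ ∧ (∀ R', F.IsConj R R' → Good R') ∧ (normalizerIn S U = S → R = W₀) ∧
        (normalizerIn S U < S → normalizerIn S U < normalizerIn S R)) :
    F.IsNormal W₀ := by
  let K : Subgroup Ω → (Ω → Ω) → Prop := fun P f =>
    ∃ g, Map F (P ⊔ W₀) g ∧ (∀ x ∈ P, g x = f x) ∧ im W₀ g = W₀
  suffices ∀ P f, Map F P f → K P f from normal_iff.2 ⟨hW, this⟩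
  have hK : IsClosedClass F K := by
    refine ⟨fun ⟨g, hg, hgf, hgW⟩ he => ⟨g, hg, fun x hx => (hgf x hx).trans (he x hx), hgW⟩,
      fun _ ⟨g, hg, hgf, hgW⟩ hR =>
        ⟨g, hg.restrict (sup_le_sup_right hR W₀), fun x hx => hgf x (hR hx), hgW⟩, ?_, ?_⟩
    · rintro P Q f f' - - ⟨g, hg, hgf, hgW⟩ ⟨g', hg', hgf', hgW'⟩ hm
      have hmem : ∀ x ∈ P ⊔ W₀, g x ∈ Q ⊔ W₀ := fun x hx => by
        refine (hg.im_sup_le.trans (sup_le (im_le_iff.2 fun y hy => ?_) (hgW.le.trans le_sup_right))) (mem_im_of_mem hx)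
        exact Subgroup.mem_sup_left (hgf y hy ▸ hm y hy)
      refine ⟨g' ∘ g, hg.comp hg' hmem, fun x hx => ?_, ?_⟩
      · show g' (g x) = f' (f x)
        rw [hgf x hx, hgf' _ (hm x hx)]
      · rw [(hg.restrict le_sup_right).im_comp, hgW, hgW']
    · rintro P f f' hf ⟨g, hg, hgf, hgW⟩ hinv
      obtain ⟨g', hg', hgg, -, -⟩ := hg.exists_inv
      have hle : im P f ⊔ W₀ ≤ im (P ⊔ W₀) g := sup_le
        ((im_congr hgf).symm.le.trans (im_mono le_sup_left)) (hgW.ge.trans (im_mono le_sup_right))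
      refine ⟨g', hg'.restrict hle, fun y hy => ?_, ?_⟩
      · obtain ⟨x, hx, rfl⟩ := hf.mem_im.1 hy
        rw [hinv x hx, ← hgf x hx, hgg x (Subgroup.mem_sup_left hx)]
      · conv_lhs => rw [← hgW]
        rw [← (hg.restrict le_sup_right).im_comp]
        exact (im_congr (g := id) fun x hx => hgg x (Subgroup.mem_sup_right hx)).trans im_id
  have hSK : ∀ α ∈ F.autGroup S, K S (av α) := fun α hα =>
    ⟨av α, by rw [sup_eq_left.2 hW]; exact map_of_mem_autGroup le_rfl hα, fun _ _ => rfl, hAut α hα⟩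
  suffices key : ∀ n : ℕ, ∀ (U : Subgroup Ω) (hU : F.IsFullyNormalized U), U ≠ ⊥ → Good U →
      Nat.card S - Nat.card ↥(normalizerIn S U) = n →
      ∀ A f, Map (normSys F hU.1) A f → K A f by
    refine alperin hS hF hK fun R hR α hα => ?_
    rcases hR with rfl | hR
    · exact hSK α hα
    have hne : R ≠ ⊥ := fun h0 => by
      subst h0
      exact hS1 (le_bot_iff.1 fun x hx => centric_inv_mem hR.1 hx fun y hy => by
        rw [Subgroup.mem_bot.1 hy]; simp)
    refine key _ R hR.2.1 hne (hgood R hR.1) rfl R (av α) ((map_normalizerSystem_iff fun _ => rfl).2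
      ⟨le_normalizerIn hR.2.1.1, fun x hx => le_normalizerIn hR.2.1.1 (av_mem α hx), av α, ?_,
        fun _ _ => rfl, im_av α⟩)
    rw [sup_idem]; exact map_of_mem_autGroup hR.2.1.1 hα
  intro n
  induction n using Nat.strong_induction_on with
  | _ n ih =>
  intro U hU hne hgU hn A f hf
  obtain ⟨R, hRn, hR1, hRgood, htop, hgrow⟩ := h U hU hne hgU
  obtain ⟨g, hg, hgf, hgR⟩ := (normal_iff.1 hRn).2 A f hf
  obtain ⟨hAR, hgm, g₂, hg₂, hg₂g, -⟩ := (map_normalizerSystem_iff fun _ => rfl).1 hg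
  have hgF : Map F (A ⊔ R) g := (hg₂.restrict le_sup_left).congr hg₂g
  rcases eq_or_lt_of_le (show normalizerIn S U ≤ S from inf_le_left) with hVS | hVS
  · obtain rfl := htop hVS
    exact ⟨g, hgF, hgf, hgR⟩
  have hlt := hgrow hVS
  obtain ⟨R', hconj, hR'⟩ := exists_fullyNormalized (F := F) (hRn.1.trans inf_le_left)
  obtain ⟨ψ, hψ, hψm, hψR⟩ := exists_map_normalizer_fn hS hF hR' hconj
  have hR'1 : R' ≠ ⊥ := by
    haveI := finite_of_le (hRn.1.trans inf_le_left)
    haveI := finite_of_le hR'.1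
    intro h0
    refine hR1 (Subgroup.eq_bot_of_card_eq _ ?_)
    rw [isConj_card hconj, h0, Subgroup.card_bot]
  have hcard : Nat.card ↥(normalizerIn S U) < Nat.card ↥(normalizerIn S R) := card_lt_of_lt hlt inf_le_left
  have hcard' : Nat.card ↥(normalizerIn S R) ≤ Nat.card ↥(normalizerIn S R') := hR'.2 _ (isConj_symm hconj)
  have hRle : Nat.card ↥(normalizerIn S R') ≤ Nat.card S := Subgroup.card_le_of_le inf_le_left
  have hbig : ∀ P φ, Map F P φ → Nat.card ↥(normalizerIn S U) < Nat.card P → K P φ := by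
    intro P φ hφ
    refine alperin hS hF (K := fun P φ => Nat.card ↥(normalizerIn S U) < Nat.card P → K P φ) ?_ ?_ P φ hφ
    · refine ⟨fun h he hc => hK.congr (h hc) he, ?_, ?_, ?_⟩
      · intro X X' f hf h hX hc
        haveI := finite_of_le hf.le
        exact hK.restrict hf (h (hc.trans_le (Subgroup.card_le_of_le hX))) hX
      · intro X X' f g hf hg h h' hm hc
        haveI := finite_of_le hg.le
        exact hK.comp hf hg (h hc) (h' (hc.trans_le (hf.card_le hm))) hm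
      · intro X f g hf h hg hc
        exact hK.inv hf (h (hf.card_im ▸ hc)) hg
    · intro X hX β hβ hc
      rcases hX with rfl | hX
      · exact hSK β hβ
      have hXS := hX.2.1.1
      have hne : X ≠ ⊥ := fun h0 => by
        rw [h0, Subgroup.card_bot] at hc
        exact absurd hc (not_lt.2 Nat.card_pos)
      have h1 : Nat.card X ≤ Nat.card ↥(normalizerIn S X) := Subgroup.card_le_of_le (le_normalizerIn hXS)
      have h2 : Nat.card ↥(normalizerIn S X) ≤ Nat.card S := Subgroup.card_le_of_le inf_le_left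
      refine ih _ (by omega) X hX.2.1 hne (hgood X hX.1) rfl X (av β) ((map_normalizerSystem_iff fun _ => rfl).2
        ⟨le_normalizerIn hXS, fun x hx => le_normalizerIn hXS (av_mem β hx), av β, ?_,
          fun _ _ => rfl, im_av β⟩)
      rw [sup_idem]; exact map_of_mem_autGroup hXS hβ
  have hψK : K (normalizerIn S R) ψ := hbig _ ψ hψ hcard
  have hRN : R ≤ normalizerIn S R := le_normalizerIn (hRn.1.trans inf_le_left)
  have hVR : normalizerIn S U ≤ normalizerIn S R := hlt.le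
  have hARN : A ⊔ R ≤ normalizerIn S R := hAR.trans hVR
  have hgmem : ∀ x ∈ A ⊔ R, g x ∈ normalizerIn S R := fun x hx => hVR (hgm x hx)
  obtain ⟨ψ', hψ', hψψ, hψ'2, -⟩ := (hψ.restrict hARN).exists_inv
  have hh : Map F (im (A ⊔ R) ψ) (ψ ∘ g ∘ ψ') :=
    (hψ'.comp hgF fun y hy => (hψ'2 y hy).2).comp hψ fun y hy => hgmem _ (hψ'2 y hy).2
  have hR'le : R' ≤ im (A ⊔ R) ψ := hψR.ge.trans (im_mono le_sup_right)
  have hhR : im R' (ψ ∘ g ∘ ψ') = R' := by
    rw [← hψR]
    rw [← (hψ.restrict hRN).im_comp]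
    refine (im_congr (g := ψ ∘ g) fun x hx => ?_).trans ?_
    · show ψ (g (ψ' (ψ x))) = ψ (g x)
      rw [hψψ x (Subgroup.mem_sup_right hx)]
    · rw [(hgF.restrict le_sup_right).im_comp, hgR, hψR]
  have hhN : Map (normSys F hR'.1) (im (A ⊔ R) ψ) (ψ ∘ g ∘ ψ') :=
    (map_normalizerSystem_iff fun _ => rfl).2 ⟨im_le_iff.2 fun x hx => hψm x (hARN hx),
      fun y hy => hψm _ (hgmem _ (hψ'2 y hy).2), ψ ∘ g ∘ ψ', by rwa [sup_eq_left.2 hR'le],
      fun _ _ => rfl, hhR⟩
  have hhK : K (im (A ⊔ R) ψ) (ψ ∘ g ∘ ψ') := ih _ (by omega) R' hR' hR'1 (hRgood R' hconj) rfl _ _ hhN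
  obtain ⟨ψi, hψi, hψψi, hψi2, hψii⟩ := hψ.exists_inv
  have hψiK : K (im (normalizerIn S R) ψ) ψi := hK.inv hψ hψK hψψi
  have hψA := hψ.restrict hARN
  have hψKA : K (A ⊔ R) ψ := hK.restrict hψ hψK hARN
  have h1 : K (A ⊔ R) ((ψ ∘ g ∘ ψ') ∘ ψ) := hK.comp hψA hh hψKA hhK fun x hx => mem_im_of_mem hx
  have h1m : Map F (A ⊔ R) ((ψ ∘ g ∘ ψ') ∘ ψ) := hψA.comp hh fun x hx => mem_im_of_mem hx
  have he : ∀ x ∈ A ⊔ R, ψ (g (ψ' (ψ x))) = ψ (g x) := fun x hx => by rw [hψψ x hx]
  have h2 : K (A ⊔ R) (ψi ∘ ((ψ ∘ g ∘ ψ') ∘ ψ)) := hK.comp h1m hψi h1 hψiK fun x hx => by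
    show ψ (g (ψ' (ψ x))) ∈ _
    rw [he x hx]; exact mem_im_of_mem (hgmem x hx)
  refine hK.congr (hK.restrict (hψA.comp hh (fun x hx => mem_im_of_mem hx) |>.comp hψi fun x hx => by
    show ψ (g (ψ' (ψ x))) ∈ _
    rw [he x hx]; exact mem_im_of_mem (hgmem x hx)) h2 le_sup_left) fun x hx => ?_
  show ψi (ψ (g (ψ' (ψ x)))) = f x
  rw [he x (Subgroup.mem_sup_left hx), hψψi _ (hgmem x (Subgroup.mem_sup_left hx)), hgf x hx]

/-- **Gluing**: a subgroup of `S` that starts every tower of normal subgroups of local systems is normal. -/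
theorem normal_of_local (hS : IsPGroup p S) (hF : F.IsSaturated p) (hS1 : S ≠ ⊥) {W₀ : Subgroup Ω}
    (hW : W₀ ≤ S) (hAut : ∀ α ∈ F.autGroup S, im W₀ (av α) = W₀)
    (h : ∀ (U : Subgroup Ω) (hU : F.IsFullyNormalized U), U ≠ ⊥ →
      ∃ R, (normSys F hU.1).IsNormal R ∧ R ≠ ⊥ ∧ (normalizerIn S U = S → R = W₀) ∧
        (normalizerIn S U < S → normalizerIn S U < normalizerIn S R)) :
    F.IsNormal W₀ :=
  normal_of_local_good hS hF hS1 hW hAut (fun _ => True) (fun _ _ => trivial) fun U hU hne _ => by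
    obtain ⟨R, h1, h2, h3, h4⟩ := h U hU hne
    exact ⟨R, h1, h2, fun _ _ => trivial, h3, h4⟩

variable {W : ∀ (Q : Type u) [Group Q], Subgroup Q}

omit [Fact p.Prime] in
theorem im_functor (hS : IsPGroup p S)
    (hW2 : ∀ (Q R : Type u) [Group Q] [Group R] [Finite Q], IsPGroup p Q → ∀ φ : Q ≃* R,
      (W Q).map φ.toMonoidHom = W R)
    {V V' : Subgroup Ω} {f : Ω → Ω} (hf : Map F V f) (hi : im V f = V') :
    im (inducedFunctor W V) f = inducedFunctor W V' := by
  obtain ⟨e, he⟩ := exists_equiv hf hi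
  haveI := finite_of_le hf.le
  have hVS : inducedFunctor W V ≤ V := Subgroup.map_subtype_le _
  refine (hf.restrict hVS).im_eq (fun x hx => ?_) fun y hy => ?_
  · obtain ⟨z, hz, rfl⟩ := hx
    show f (z : Ω) ∈ _
    rw [← he z, inducedFunctor, ← hW2 V V' (hS.to_le hf.le) e]
    exact ⟨e z, ⟨z, hz, rfl⟩, rfl⟩
  · rw [inducedFunctor, ← hW2 V V' (hS.to_le hf.le) e] at hy
    obtain ⟨-, ⟨z, hz, rfl⟩, rfl⟩ := hy
    exact ⟨z, ⟨z, hz, rfl⟩, (he z).symm⟩

omit [Fact p.Prime] in
theorem normalizer_le_functor (hS : IsPGroup p S)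
    (hW2 : ∀ (Q R : Type u) [Group Q] [Group R] [Finite Q], IsPGroup p Q → ∀ φ : Q ≃* R,
      (W Q).map φ.toMonoidHom = W R)
    {V : Subgroup Ω} (hV : V ≤ S) :
    normalizerIn S V ≤ normalizerIn S (inducedFunctor W V) := by
  intro s hs
  have hWV : inducedFunctor W V ≤ V := Subgroup.map_subtype_le _
  refine ⟨hs.1, mem_normalizer_of_conj_mem (hWV.trans hV) fun x hx => ?_⟩
  have hm : Map (innerFusionSystem S) V (fun z => s * z * s⁻¹) := map_conjBy hV hs.1
  have hi : im V (fun z => s * z * s⁻¹) = V := by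
    haveI := finite_of_le hV
    exact Subgroup.eq_of_le_of_card_ge
      (im_le_iff.2 fun z hz => conj_mem_of_normalizer hs.2 hz) hm.card_im.ge
  exact (im_functor hS hW2 hm hi).le (mem_im_of_mem (f := fun z => s * z * s⁻¹) hx)

/-- A constrained section-free system: the functor value of `S` is normal. -/
theorem functor_normal_of_constrained {H : Type w} [Group H] (hS : IsPGroup p S) (hF : F.IsSaturated p)
    (hW2 : ∀ (Q R : Type u) [Group Q] [Group R] [Finite Q], IsPGroup p Q → ∀ φ : Q ≃* R,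
      (W Q).map φ.toMonoidHom = W R)
    (hW3 : ∀ (L : Type u) [Group L] [Finite L] (P : Sylow p L),
      Subgroup.centralizer ((pCore p L : Subgroup L) : Set L) ≤ pCore p L → ¬ Involves H L →
      (inducedFunctor W (P : Subgroup L)).Normal)
    (hfree : F.IsSectionFree p H) (hcon : F.IsConstrained p) : F.IsNormal (inducedFunctor W S) := by
  obtain ⟨-, Q, hQn, hQc⟩ := hcon
  have hQsc := normal_stronglyClosed hQn
  have hQS := hQn.1
  have hV : normalizerIn S Q = S := inf_eq_left.2 (stronglyClosed_le_normalizer hQsc)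
  have hfn : F.IsFullyNormalized Q := ⟨hQS, fun R hR => by rw [eq_of_isConj_stronglyClosed hQsc hR]⟩
  obtain ⟨L, _, ι, hL⟩ := exists_model_fn hS hF hfn hQc
  have hLfree := hfree Q hfn hQc _ (fun _ => rfl) L ι hL
  haveI := hL.1
  obtain ⟨T, hT⟩ := hL.2.2.1
  haveI hWn := hW3 L T hL.2.2.2 hLfree
  set W₀ := inducedFunctor W S with hW₀
  have hW₀S : W₀ ≤ S := Subgroup.map_subtype_le _
  have himg : inducedFunctor W (T : Subgroup L) = (W₀.subgroupOf (normalizerIn S Q)).map ι := by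
    let e : S ≃* ι.range :=
      (MulEquiv.subgroupCongr hV.symm).trans (MonoidHom.ofInjective hL.2.1.1)
    have he : inducedFunctor W ι.range = ((W S).map e.toMonoidHom).map ι.range.subtype := by
      rw [inducedFunctor, hW2 S ι.range hS e]
    rw [hT, he]
    ext l
    constructor
    · rintro ⟨-, ⟨x, hx, rfl⟩, rfl⟩
      exact ⟨⟨x, hV.ge x.2⟩, ⟨x, hx, rfl⟩, rfl⟩
    · rintro ⟨y, hy, rfl⟩
      obtain ⟨x, hx, hxy⟩ := hy
      refine ⟨e x, ⟨x, hx, rfl⟩, ?_⟩
      show ι ⟨x, hV.ge x.2⟩ = ι y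
      exact congrArg ι (Subtype.ext hxy)
  refine normal_iff.2 ⟨hW₀S, fun P f hf => ?_⟩
  obtain ⟨g, hg, hgf, hgQ⟩ := (normal_iff.1 hQn).2 P f hf
  have hN : Map (normSys F hfn.1) P f := (map_normalizerSystem_iff fun _ => rfl).2
    ⟨hf.le.trans hV.ge, fun x hx => hV.ge (hf.mem hx), g, hg, hgf, hgQ⟩
  obtain ⟨c, hc⟩ := exists_conj_of_map hL.2.1 hN
  have hPW : P ⊔ W₀ ≤ normalizerIn S Q := (sup_le hf.le hW₀S).trans hV.ge
  have hWL : ∀ x : ↥(normalizerIn S Q), (x : Ω) ∈ W₀ →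
      ∃ y : ↥(normalizerIn S Q), (y : Ω) ∈ W₀ ∧ ι y = c * ι x * c⁻¹ := fun x hx => by
    have h1 : c * ι x * c⁻¹ ∈ inducedFunctor W (T : Subgroup L) := hWn.conj_mem _
      (himg ▸ Subgroup.mem_map_of_mem ι hx) c
    rw [himg] at h1
    exact h1
  have hle : P ⊔ W₀ ≤ ((ι.range).comap ((MulAut.conj c).toMonoidHom.comp ι)).map
      (normalizerIn S Q).subtype := by
    refine sup_le (fun x hx => ⟨⟨x, hN.le hx⟩, ⟨⟨f x, hN.mem hx⟩, hc _ hx _ rfl⟩, rfl⟩)
      (fun x hx => ⟨⟨x, hV.ge (hW₀S hx)⟩, ?_, rfl⟩)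
    obtain ⟨y, -, hy⟩ := hWL ⟨x, hV.ge (hW₀S hx)⟩ hx
    exact ⟨y, hy⟩
  obtain ⟨f', hf', hf'c⟩ := exists_map_of_conj hL.2.1 hPW c fun x hx =>
    (Subgroup.mem_map_iff_mem (normalizerIn S Q).subtype_injective).1 (hle hx)
  obtain ⟨-, -, g', hg', hg'f, -⟩ := (map_normalizerSystem_iff fun _ => rfl).1 hf'
  have hf'F : Map F (P ⊔ W₀) f' := (hg'.restrict le_sup_left).congr hg'f
  refine ⟨f', hf'F, fun x hx =>
    hf'c ⟨x, hN.le hx⟩ (Subgroup.mem_sup_left hx) ⟨f x, hN.mem hx⟩ (hc _ hx _ rfl), ?_⟩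
  haveI := finite_of_le hW₀S
  refine Subgroup.eq_of_le_of_card_ge (im_le_iff.2 fun x hx => ?_) (hf'F.restrict le_sup_right).card_im.ge
  obtain ⟨y, hy, hyc⟩ := hWL ⟨x, hV.ge (hW₀S hx)⟩ hx
  rw [hf'c ⟨x, _⟩ (Subgroup.mem_sup_right hx) y hyc]
  exact hy

/-- **Section-free systems are constrained.** -/
theorem constrained_of_free {H : Type w} [Group H]
    (hW1 : ∀ (Q : Type u) [Group Q] [Finite Q], IsPGroup p Q → Nontrivial Q → W Q ≠ ⊥)
    (hW2 : ∀ (Q R : Type u) [Group Q] [Group R] [Finite Q], IsPGroup p Q → ∀ φ : Q ≃* R,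
      (W Q).map φ.toMonoidHom = W R)
    (hW3 : ∀ (L : Type u) [Group L] [Finite L] (P : Sylow p L),
      Subgroup.centralizer ((pCore p L : Subgroup L) : Set L) ≤ pCore p L → ¬ Involves H L →
      (inducedFunctor W (P : Subgroup L)).Normal)
    (hS : IsPGroup p S) (hF : F.IsSaturated p) (hfree : F.IsSectionFree p H) : F.IsConstrained p := by
  suffices ∀ (k m : ℕ) (Ω : Type u) [Group Ω] (S : Subgroup Ω) [Finite S] (F : FusionSystem S),
      Nat.card S = k → (allMaps F).ncard = m → IsPGroup p S → F.IsSaturated p → F.IsSectionFree p H →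
      F.IsConstrained p from this _ _ Ω S F rfl rfl hS hF hfree
  intro k
  induction k using Nat.strong_induction_on with
  | _ k ihk =>
  intro m
  induction m using Nat.strong_induction_on with
  | _ m ihm =>
  intro Ω _ S _ F hk hm hS hF hfree
  have hn := core_normal hS hF
  by_cases hbot : F.core = ⊥
  · by_cases hS1 : S = ⊥
    · exact ⟨hF, F.core, hn, hn.1, fun Q _ => (inf_le_left.trans hS1.le).trans bot_le⟩
    have hlocal : ∀ (U : Subgroup Ω) (hU : F.IsFullyNormalized U), U ≠ ⊥ →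
        (normSys F hU.1).IsNormal (inducedFunctor W (normalizerIn S U)) := by
      intro U hU hne
      have hVp : IsPGroup p ↥(normalizerIn S U) := hS.to_le inf_le_left
      have hsf := sectionFree_normalizerSystem hS hF hfree hU (N := normSys F hU.1) fun _ => rfl
      have hsat := normSys_saturated hS hF hU
      refine functor_normal_of_constrained hVp hsat hW2 hW3 hsf ?_
      rcases eq_or_lt_of_le (show normalizerIn S U ≤ S from inf_le_left) with hVS | hVS
      · refine ihm _ ?_ Ω _ _ (by rw [hVS, hk]) rfl hVp hsat hsf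
        rw [← hm]
        exact allMaps_lt hU.1 (fun h => hne (le_bot_iff.1 (hbot ▸ le_sSup h))) fun _ => rfl
      · exact ihk _ (hk ▸ card_lt_of_lt hVS le_rfl) _ Ω _ _ rfl rfl hVp hsat hsf
    have hne' : ∀ V : Subgroup Ω, V ≤ S → V ≠ ⊥ → inducedFunctor W V ≠ ⊥ := fun V hVS hV h => by
      haveI := finite_of_le hVS
      refine hW1 V (hS.to_le hVS) ((Subgroup.nontrivial_iff_ne_bot V).2 hV) ?_
      exact (Subgroup.map_eq_bot_iff_of_injective _ V.subtype_injective).1 h
    have hW₀ := normal_of_local hS hF hS1 (W₀ := inducedFunctor W S) (Subgroup.map_subtype_le _)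
      (fun α hα => im_functor hS hW2 (map_of_mem_autGroup le_rfl hα) (im_av α))
      fun U hU hne => ⟨_, hlocal U hU hne,
        hne' _ inf_le_left fun h => hne (le_bot_iff.1 (h ▸ le_normalizerIn hU.1)), fun h => by rw [h],
        fun h => (lt_normalizerIn hS h).trans_le (normalizer_le_functor hS hW2 inf_le_left)⟩
    exact absurd (le_bot_iff.1 (hbot ▸ le_sSup hW₀)) (hne' S le_rfl hS1)
  · have hsc := normal_stronglyClosed hn
    haveI hnor : (F.core.subgroupOf S).Normal := by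
      rw [Subgroup.normal_subgroupOf_iff_le_normalizer hn.1]
      exact stronglyClosed_le_normalizer hsc
    have hker : ∀ s : S, QuotientGroup.mk' (F.core.subgroupOf S) s = 1 ↔ (s : Ω) ∈ F.core := fun s =>
      (QuotientGroup.eq_one_iff s).trans Subgroup.mem_subgroupOf
    have hsurj := QuotientGroup.mk'_surjective (F.core.subgroupOf S)
    have hE : F.IsFactorSystem F.core (QuotientGroup.mk' (F.core.subgroupOf S)) (factorSys hsc _ hker hsurj) :=
      ⟨hn.1, hker, MonoidHom.range_eq_top.2 hsurj, fun P' φ' => fmap_iff.trans (and_iff_right le_top).symm⟩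
    haveI := fac_finite hE
    refine ⟨hF, F.core, hn, centric_of_constrained_quotient hS hF hn (fun R hR => le_sSup hR) hE
      (ihk _ ?_ _ (S ⧸ F.core.subgroupOf S) _ _ rfl rfl (fac_isPGroup hE hS) (fac_saturated hS hF hsc hE)
        (fac_sectionFree hS hF hn hE hfree))⟩
    have hc := fac_card hE (le_refl _)
    rw [fac_pre_top hE, hk] at hc
    rw [hc]
    haveI : Finite ↥F.core := finite_of_le hn.1
    exact lt_mul_of_one_lt_left Nat.card_pos ((Subgroup.one_lt_card_iff_ne_bot _).2 hbot)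

/-- In a section-free system the functor value of `S` is normal. -/
theorem functor_normal_of_free {H : Type w} [Group H]
    (hW1 : ∀ (Q : Type u) [Group Q] [Finite Q], IsPGroup p Q → Nontrivial Q → W Q ≠ ⊥)
    (hW2 : ∀ (Q R : Type u) [Group Q] [Group R] [Finite Q], IsPGroup p Q → ∀ φ : Q ≃* R,
      (W Q).map φ.toMonoidHom = W R)
    (hW3 : ∀ (L : Type u) [Group L] [Finite L] (P : Sylow p L),
      Subgroup.centralizer ((pCore p L : Subgroup L) : Set L) ≤ pCore p L → ¬ Involves H L →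
      (inducedFunctor W (P : Subgroup L)).Normal)
    (hS : IsPGroup p S) (hF : F.IsSaturated p) (hfree : F.IsSectionFree p H) :
    F.IsNormal (inducedFunctor W S) :=
  functor_normal_of_constrained hS hF hW2 hW3 hfree (constrained_of_free hW1 hW2 hW3 hS hF hfree)

/-- The lower `K`-infinity functor is normal in constrained groups without a section `Qd(p)`. -/
theorem kInfLower_normal_of_qd_free (hp : p ≠ 2) (L : Type u) [Group L] [Finite L] (P : Sylow p L)
    (hc : Subgroup.centralizer ((pCore p L : Subgroup L) : Set L) ≤ pCore p L)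
    (h : ¬ Involves ↥(qd p) L) : (inducedFunctor kInfLower (P : Subgroup L)).Normal :=
  (kInf_normal_of_stable (sylIn_top P) hc fun N _ => isNormalizerPStable_of_qd_free hp fun h' =>
    h (involves_trans h' (involves_surjective involves_refl (QuotientGroup.mk' N)
      (QuotientGroup.mk'_surjective N)))).1

/-- A `Qd(p)`-free saturated system is constrained. -/
theorem constrained_of_qd_free (hp : p ≠ 2) (hS : IsPGroup p S) (hF : F.IsSaturated p)
    (hfree : F.IsSectionFree p ↥(qd p)) : F.IsConstrained p :=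
  constrained_of_free.{u} (W := kInfLower) (isCharPFunctor_kInfLower p).1 (isCharPFunctor_kInfLower p).2
    (kInfLower_normal_of_qd_free hp) hS hF hfree

/-- In a `Qd(p)`-free system the lower `K`-infinity subgroup is normal. -/
theorem kInfLower_normal_system (hp : p ≠ 2) (hS : IsPGroup p S) (hF : F.IsSaturated p)
    (hfree : F.IsSectionFree p ↥(qd p)) : F.IsNormal (inducedFunctor kInfLower S) :=
  functor_normal_of_free.{u} (W := kInfLower) (isCharPFunctor_kInfLower p).1 (isCharPFunctor_kInfLower p).2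
    (kInfLower_normal_of_qd_free hp) hS hF hfree

end Cfsg.Agent.Local.FS
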