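import Cfsg.Agent.Lib.Local.FS.ClosedFamily
import Cfsg.Agent.Lib.Local.FS.FreeConstrained
import Cfsg.Agent.Lib.Local.FS.GroupFree

/-!
Control of fusion by the centre of a family of abelian subgroups.
-/

set_option autoImplicit false

namespace Cfsg.Agent.Local.FS

open Cfsg Cfsg.FusionSystem Cfsg.Agent.Fusion

section Abstract

universe u

variable {Ω : Type u} [Group Ω] {S Q : Subgroup Ω} [Finite S] {F : FusionSystem S} {p : ℕ} [Fact p.Prime]

omit [Finite S] [Fact p.Prime] in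
theorem isNormal_of_normSys (hQn : F.IsNormal Q) (hV : normalizerIn S Q = S) {W : Subgroup Ω}
    (h : (normSys F hQn.1).IsNormal W) : F.IsNormal W := by
  obtain ⟨hW, hn⟩ := normal_iff.1 h
  refine normal_iff.2 ⟨hW.trans hV.le, fun P f hf => ?_⟩
  obtain ⟨g, hg, hgf, hgQ⟩ := (normal_iff.1 hQn).2 P f hf
  obtain ⟨f', hf', he, hi⟩ := hn P f ((map_normalizerSystem_iff fun _ => rfl).2
    ⟨hf.le.trans hV.ge, fun x hx => hV.ge (hf.mem hx), g, hg, hgf, hgQ⟩)
  obtain ⟨-, -, g', hg', hg'f, -⟩ := (map_normalizerSystem_iff fun _ => rfl).1 hf'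
  exact ⟨f', (hg'.restrict le_sup_left).congr hg'f, he, hi⟩

set_option maxHeartbeats 400000 in
/-- In a system without a section `Qd(p)` the intersection of a family is normal. -/
theorem isNormal_zIn_of_qd_free (hp2 : p ≠ 2) (hS : IsPGroup p S) (hF : F.IsSaturated p)
    (hfree : F.IsSectionFree p ↥(qd p))
    (𝒜 : Set (Subgroup Ω)) (hmem : ∀ A ∈ 𝒜, A ≤ S ∧ IsMulCommutative A) (hne : 𝒜.Nonempty)
    (hinv : ∀ R : Subgroup Ω, R ≤ S → (∃ A ∈ 𝒜, A ≤ R) → ∀ f, Map F R f → im R f = R →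
      ∀ x ∈ zIn 𝒜 R, f x ∈ zIn 𝒜 R)
    (hrep : ∀ B : Subgroup Ω, B ≤ S → S ≤ Subgroup.normalizer (B : Set Ω) → ⁅⁅B, B⁆, B⁆ = ⊥ →
      (∃ A ∈ 𝒜, ⁅B, B⁆ ≤ A ∧ ¬ B ≤ A) →
      ∃ A ∈ 𝒜, ⁅B, B⁆ ≤ A ∧ ¬ B ≤ A ∧ B ≤ Subgroup.normalizer (A : Set Ω)) :
    F.IsNormal (zIn 𝒜 S) := by
  obtain ⟨-, Q, hQn, hQc⟩ := constrained_of_qd_free hp2 hS hF hfree
  have hQsc := normal_stronglyClosed hQn
  have hV : normalizerIn S Q = S := inf_eq_left.2 (stronglyClosed_le_normalizer hQsc)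
  have hfn : F.IsFullyNormalized Q := ⟨hQn.1, fun R hR => by rw [eq_of_isConj_stronglyClosed hQsc hR]⟩
  obtain ⟨L, _, ι, hL⟩ := exists_model_fn hS hF hfn hQc
  have hLfree := hfree Q hfn hQc _ (fun _ => rfl) L ι hL
  haveI := hL.1
  obtain ⟨T, hT⟩ := hL.2.2.1
  have h := isNormal_zIn_of_realized (V := normalizerIn S Q) hL.2.1 T hT hL.2.2.2
    (fun R _ hR => isPStableOn_of_qd_free hp2 hLfree R hR) 𝒜
    (fun A hA => ⟨(hmem A hA).1.trans hV.ge, (hmem A hA).2⟩) hne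
    (fun R hR hA f hf hfR x hx => by
      obtain ⟨-, -, g', hg', hgf, -⟩ := (map_normalizerSystem_iff fun _ => rfl).1 hf
      exact hinv R (hR.trans hV.le) hA f ((hg'.restrict le_sup_left).congr hgf) hfR x hx)
    (fun B hB hVB => hrep B (hB.trans hV.le) (hV.ge.trans hVB))
  exact isNormal_of_normSys hQn hV (congrArg (zIn 𝒜) hV ▸ h)

end Abstract

section Group

variable {G : Type*} [Group G] [Finite G] {p : ℕ} [Fact p.Prime] {P D : Subgroup G}
  {ok : Subgroup G → Prop}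

omit [Fact p.Prime] in
theorem inv_map_group {𝒜 : Set (Subgroup G)} (h : GlaubFamily P 𝒜) {R : Subgroup G} (hR : R ≤ P)
    (hA : ∃ A ∈ 𝒜, A ≤ R) {f : G → G} (hf : Map (groupFusionSystem P) R f) (hi : im R f = R) :
    ∀ x ∈ zIn 𝒜 R, f x ∈ zIn 𝒜 R := by
  intro x hx
  obtain ⟨-, -, g, hg⟩ := map_group_iff.1 hf
  obtain ⟨A, hA', hAR⟩ := hA
  have hxR : x ∈ R := (sInf_le ⟨hA', hAR⟩ : zIn 𝒜 R ≤ A).trans hAR hx
  rw [hg x hxR]
  refine h.inv R hR ⟨A, hA', hAR⟩ g (mem_normalizer_iff_cj.2 ?_) x hx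
  rw [← im_conj, ← im_congr hg, hi]

omit [Fact p.Prime] in
theorem controls_of_isNormal {W : Subgroup G} (h : (groupFusionSystem P).IsNormal W) :
    ∀ A : Set G, A ⊆ (P : Set G) → ControlsStrongFusionOf (Subgroup.normalizer (W : Set G)) P A := by
  intro A hA
  refine ⟨hA, fun g hg => ?_⟩
  have hcl : Subgroup.closure A ≤ P := (Subgroup.closure_le _).2 hA
  have hm : Map (groupFusionSystem P) (Subgroup.closure A) (fun x => g * x * g⁻¹) := by
    refine map_group_iff.2 ⟨hcl, fun x hx => ?_, g, fun x _ => rfl⟩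
    have : Subgroup.closure A ≤ P.comap (MulAut.conj g).toMonoidHom :=
      (Subgroup.closure_le _).2 fun a ha => hg ⟨a, ha, rfl⟩
    exact this hx
  obtain ⟨f, hf, he, hi⟩ := (normal_iff.1 h).2 _ _ hm
  obtain ⟨-, -, x, hx⟩ := map_group_iff.1 hf
  refine ⟨x, mem_normalizer_iff_cj.2 ?_, fun a ha => ?_⟩
  · rw [← im_conj, ← im_congr fun y hy => hx y (Subgroup.mem_sup_right hy), hi]
  · have ha' := Subgroup.subset_closure ha
    rw [← hx a (Subgroup.mem_sup_left ha'), he a ha']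

/-- The centre of a family controls strong fusion in a group without a section `Qd(p)`. -/
theorem controls_zIn_of_qd_free (hp2 : p ≠ 2) (hP : SylIn p P ⊤) (hqd : ¬ Involves ↥(qd p) G)
    {𝒜 : Set (Subgroup G)} (h : GlaubFamily P 𝒜) :
    ∀ A : Set G, A ⊆ (P : Set G) → ControlsStrongFusionOf (Subgroup.normalizer (zIn 𝒜 P : Set G)) P A :=
  controls_of_isNormal (isNormal_zIn_of_qd_free hp2 hP.isPGroup (group_saturated hP) (group_sectionFree hP hqd)
    𝒜 h.mem h.nonempty (fun _ hR hA _ hf hi => inv_map_group h hR hA hf hi) h.repl)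

end Group

end Cfsg.Agent.Local.FS
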