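import Cfsg.Agent.Lib.Local.FS.ControlFamily
import Cfsg.Agent.Lib.Fusion.PStableQuotient
import Cfsg.Agent.Lib.Fusion.PGroupAux

/-!
Control of fusion by the centre of a strongly closed subgroup in stable groups with constrained local subgroups.
-/

set_option autoImplicit false

namespace Cfsg.Agent.Local.FS

open Cfsg Cfsg.FusionSystem Cfsg.Agent.Fusion

variable {G : Type*} [Group G] [Finite G] {p : ℕ} [Fact p.Prime] {P D : Subgroup G}
  {ok : Subgroup G → Prop}

/-- A subgroup with nontrivial `p`-core of a stable group is stable. -/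
theorem isPStable_subgroup (hp2 : p ≠ 2) (h : IsNormalizerPStable p G) (H : Subgroup G)
    (hO : pCore p H ≠ ⊥) : IsPStable p H := by
  refine ⟨(Fact.out : p.Prime).odd_of_ne_two hp2, hO, fun A X _ hX _ _ _ hq => ?_⟩
  rintro _ ⟨⟨a, haN⟩, ha, rfl⟩
  set X' := X.map H.subtype
  have haN' : (a : G) ∈ Subgroup.normalizer (X' : Set G) := Subgroup.le_normalizer_map H.subtype ⟨a, haN, rfl⟩
  have hza : Subgroup.zpowers a ≤ A := Subgroup.zpowers_le.2 (Subgroup.mem_subgroupOf.1 ha)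
  have hq' : ⁅⁅X', Subgroup.zpowers (a : G)⁆, Subgroup.zpowers (a : G)⁆ = ⊥ := by
    rw [← H.coe_subtype, ← MonoidHom.map_zpowers, ← Subgroup.map_commutator, ← Subgroup.map_commutator,
      le_bot_iff.1 ((Subgroup.commutator_mono (Subgroup.commutator_mono le_rfl hza) hza).trans hq.le),
      Subgroup.map_bot]
  obtain ⟨D, hDN, hND, hDp, haD⟩ := (mem_pCore_automizer_iff X' (a : G) haN').1 (h X' (hX.map _) _ haN' hq')
  refine (mem_pCore_automizer_iff X a haN).2 ⟨D.comap H.subtype, fun d hd => ?_, fun n hn => ?_, fun d hd => ?_, haD⟩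
  · refine Subgroup.mem_normalizer_iff.2 fun y => ?_
    rw [← Subgroup.mem_map_iff_mem H.subtype_injective (K := X),
      ← Subgroup.mem_map_iff_mem H.subtype_injective (K := X) (x := d * y * d⁻¹)]
    exact Subgroup.mem_normalizer_iff.1 (hDN hd) (y : G)
  · exact Subgroup.mem_normalizer_iff.2 fun y => Subgroup.mem_normalizer_iff.1
      (hND (Subgroup.le_normalizer_map H.subtype ⟨n, hn, rfl⟩)) (y : G)
  · obtain ⟨k, hk⟩ := hDp _ hd
    exact ⟨k, Subgroup.mem_centralizer_iff.2 fun y hy =>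
      Subtype.ext (Subgroup.mem_centralizer_iff.1 hk _ ⟨y, hy, rfl⟩)⟩

omit [Fact p.Prime] in
theorem inf_stronglyClosed (hD : IsStronglyClosed D P) {V : Subgroup G} (hV : V ≤ P) :
    IsStronglyClosed (D ⊓ V) V :=
  ⟨inf_le_right, fun x hx g hg => ⟨hD.2 x hx.1 g (hV hg), hg⟩⟩

theorem zFam_comm_ne_bot {H : Subgroup G} (hH : IsPGroup p H) (hne : H ≠ ⊥) :
    zFam (fun A : Subgroup G => IsMulCommutative A) H ≠ ⊥ := by
  obtain ⟨x, hx, hx1, -⟩ := exists_central_order_p hH ((Subgroup.nontrivial_iff_ne_bot H).2 hne)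
  refine fun h => hx1 (Subtype.ext (Subgroup.mem_bot.1 (h.le ⟨x.2, Subgroup.mem_sInf.2 fun A hA => ?_⟩)))
  exact mem_of_maxIn hA x.2 (isMulCommutative_closure_insert hA.2.1 fun a ha =>
    (congrArg Subtype.val (Subgroup.mem_center_iff.1 hx ⟨a, hA.1 ha⟩)).symm)

theorem zFam_elementary_ne_bot {H : Subgroup G} (hH : IsPGroup p H) (hne : H ≠ ⊥) :
    zFam (fun A : Subgroup G => IsElementaryAbelian p A) H ≠ ⊥ := by
  obtain ⟨x, hx, hx1, hxp⟩ := exists_central_order_p hH ((Subgroup.nontrivial_iff_ne_bot H).2 hne)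
  refine fun h => hx1 (Subtype.ext (Subgroup.mem_bot.1 (h.le ⟨x.2, Subgroup.mem_sInf.2 fun A hA => ?_⟩)))
  exact mem_of_maxIn hA x.2 (isElementaryAbelian_closure_insert hA.2.1 (fun a ha =>
    (congrArg Subtype.val (Subgroup.mem_center_iff.1 hx ⟨a, hA.1 ha⟩)).symm) (congrArg Subtype.val hxp))

theorem inf_normalizerIn_ne_bot (hP : IsPGroup p P) (hD : IsStronglyClosed D P) (hne : D ≠ ⊥)
    {U : Subgroup G} (hU : U ≤ P) : D ⊓ normalizerIn P U ≠ ⊥ := by
  haveI : (D.subgroupOf P).Normal := ⟨fun x hx g =>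
    hD.2 x hx g (P.mul_mem (P.mul_mem g.2 x.2) (P.inv_mem g.2))⟩
  obtain ⟨x, hxD, hx1, hxc⟩ := exists_central_of_normal hP (D.subgroupOf P) fun h => hne (by
    rw [← Subgroup.map_subgroupOf_eq_of_le hD.1, h, Subgroup.map_bot])
  refine fun h => hx1 (Subtype.ext (Subgroup.mem_bot.1 (h.le ⟨hxD, x.2, Subgroup.mem_normalizer_iff.2 fun y => ?_⟩)))
  refine ⟨fun hy => ?_, fun hy => ?_⟩
  · have h1 : (x : G) * y = y * x := (congrArg Subtype.val (Subgroup.mem_center_iff.1 hxc ⟨y, hU hy⟩)).symm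
    rwa [h1, mul_inv_cancel_right]
  · have h1 : (x : G) * ((x : G) * y * (x : G)⁻¹) = (x : G) * y * (x : G)⁻¹ * x :=
      (congrArg Subtype.val (Subgroup.mem_center_iff.1 hxc ⟨_, hU hy⟩)).symm
    rw [show (x : G) * y * (x : G)⁻¹ * x = x * y by group] at h1
    rwa [mul_left_cancel h1] at hy

set_option maxHeartbeats 400000 in
theorem isNormal_zFam_of_local (hp2 : p ≠ 2) (hok : ReplFamily ok) (hP : SylIn p P ⊤)
    (hst : IsNormalizerPStable p G) (hD : IsStronglyClosed D P) (hD1 : D ≠ ⊥)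
    (hz : ∀ H : Subgroup G, IsPGroup p H → H ≠ ⊥ → zFam ok H ≠ ⊥)
    (hc : ∀ U : Subgroup G, U ≤ P → U ≠ ⊥ → IsPConstrained p ↥(Subgroup.normalizer (U : Set G))) :
    (groupFusionSystem P).IsNormal (zFam ok D) := by
  have hS := hP.isPGroup
  have hP1 : P ≠ ⊥ := fun h => hD1 (le_bot_iff.1 (h ▸ hD.1))
  have hfam := glaubFamily_maxIn hp2 hok hS hD
  refine normal_of_local hS (group_saturated hP) hP1 ((inf_le_left : zFam ok D ≤ D).trans hD.1) (fun α hα => ?_)
    fun U hU hne => ?_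
  · have hm := map_of_mem_autGroup (le_refl P) hα
    have hWP : zFam ok D ≤ P := inf_le_left.trans hD.1
    refine Subgroup.eq_of_le_of_card_ge (im_le_iff.2 fun x hx => ?_) (hm.restrict hWP).card_im.ge
    rw [← zIn_maxIn hok hD.1] at hx ⊢
    exact inv_map_group hfam le_rfl (hfam.nonempty.imp fun A hA => ⟨hA, (hfam.mem A hA).1⟩) hm (im_av α) x hx
  set V := normalizerIn P U with hV
  set H := Subgroup.normalizer (U : Set G)
  obtain ⟨hr, hsyl⟩ := realized_normalizer_group hP hU (N := normSys _ hU.1) fun _ => rfl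
  have hVP : V ≤ P := inf_le_left
  have hVp : IsPGroup p V := hS.to_le hVP
  obtain ⟨hr', T, hT⟩ := realized_quotient hVp hr hsyl
  have hO : pCore p H ≠ ⊥ := fun h => hne (by
    haveI : (U.subgroupOf H).Normal := Subgroup.normal_in_normalizer
    have h1 := le_pCore (p := p) (N := U.subgroupOf H) ((hS.to_le hU.1).comap_subtype)
    rw [h, le_bot_iff] at h1
    rw [← Subgroup.map_subgroupOf_eq_of_le (Subgroup.le_normalizer (H := U)), h1, Subgroup.map_bot])
  have hDV := inf_stronglyClosed hD hVP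
  have hfamV := glaubFamily_maxIn hp2 hok hVp hDV
  have hn := isNormal_zIn_of_realized hr' T hT (centralizer_pCore_quotient_le (hc U hU.1 hne))
    (fun R _ hR => isPStableOn_quotient_of_isPStable (isPStable_subgroup hp2 hst H hO) R hR)
    _ hfamV.mem hfamV.nonempty
    (fun R hR hA f hf hfR => inv_map_group hfamV hR hA (by
      obtain ⟨-, hm, g', hg', hgf, -⟩ := (map_normalizerSystem_iff fun _ => rfl).1 hf
      obtain ⟨-, -, g, hg⟩ := map_group_iff.1 ((hg'.restrict le_sup_left).congr hgf)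
      exact map_group_iff.2 ⟨hR, hm, g, hg⟩) hfR)
    hfamV.repl
  rw [zIn_maxIn hok hDV.1] at hn
  refine ⟨_, hn, hz _ (hVp.to_le inf_le_right) (inf_normalizerIn_ne_bot hS hD hD1 hU.1), fun h => ?_, fun h => ?_⟩
  · rw [show V = P from h, inf_eq_left.2 hD.1]
  · refine (lt_normalizerIn hS h).trans_le fun x hx => ⟨hx.1, hok.normalizer_le_zFam _ (mem_normalizer_iff_cj.2 ?_)⟩
    have hxD : x ∈ Subgroup.normalizer (D : Set G) := mem_normalizer_of_cj_le (by
      rintro _ ⟨y, hy, rfl⟩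
      exact hD.2 y hy x (P.mul_mem (P.mul_mem hx.1 (hD.1 hy)) (P.inv_mem hx.1)))
    rw [cj_inf, cj_eq_self hxD, cj_eq_self hx.2]

omit [Fact p.Prime] in
theorem controls_bot : ∀ A : Set G, A ⊆ (P : Set G) →
    ControlsStrongFusionOf (Subgroup.normalizer ((⊥ : Subgroup G) : Set G)) P A := fun A hA =>
  ⟨hA, fun g _ => ⟨g, by rw [Subgroup.normalizer_eq_top]; trivial, fun _ _ => rfl⟩⟩

theorem controls_zFam_of_local (hp2 : p ≠ 2) (hok : ReplFamily ok) (hP : SylIn p P ⊤)
    (hst : IsNormalizerPStable p G) (hD : IsStronglyClosed D P)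
    (hz : ∀ H : Subgroup G, IsPGroup p H → H ≠ ⊥ → zFam ok H ≠ ⊥)
    (hc : ∀ U : Subgroup G, U ≤ P → U ≠ ⊥ → IsPConstrained p ↥(Subgroup.normalizer (U : Set G))) :
    ∀ A : Set G, A ⊆ (P : Set G) → ControlsStrongFusionOf (Subgroup.normalizer (zFam ok D : Set G)) P A := by
  rcases eq_or_ne D ⊥ with rfl | hD1
  · rw [show zFam ok (⊥ : Subgroup G) = ⊥ from le_bot_iff.1 inf_le_left]
    exact controls_bot
  · exact controls_of_isNormal (isNormal_zFam_of_local hp2 hok hP hst hD hD1 hz hc)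

end Cfsg.Agent.Local.FS
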