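import Cfsg.Agent.Lib.Local.FS.Transfer
import Cfsg.Agent.Lib.Fusion.Cores

set_option autoImplicit false

namespace Cfsg.Agent.Local.FS

open Cfsg Cfsg.FusionSystem Cfsg.Agent.Fusion

universe u

variable {Ω : Type u} [Group Ω] {S : Subgroup Ω} [Finite S] {F : FusionSystem S} {p : ℕ}

namespace Model

variable (b : CharBiset F p) (Q : Subgroup Ω)

/-- Permutations commuting with the right action and normalizing the left action of `Q` through the system. -/
def IsBig (g : Equiv.Perm b.X) (α : MulAut Q) : Prop :=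
  α ∈ F.autGroup Q ∧ ∀ u v : S, (u : Ω) ∈ Q → (v : Ω) = av α u → ∀ x, g (b.l u x) = b.l v (g x)

/-- The permutations of the biset inducing maps of `F` on `Q`. -/
def big (hQS : Q ≤ S) : Subgroup (Equiv.Perm b.X) where
  carrier := {g | (∀ x t, g (b.r x t) = b.r (g x) t) ∧ ∃ α, IsBig b Q g α}
  one_mem' := ⟨fun x t => rfl, 1, Subgroup.one_mem _, fun u v hu hv x => by
    rw [av_one hu] at hv; rw [Subtype.ext hv]; rfl⟩
  mul_mem' := by
    rintro g h ⟨hgr, α, hα, hg⟩ ⟨hhr, β, hβ, hh⟩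
    refine ⟨fun x t => by show g (h _) = _; rw [hhr, hgr]; rfl, α * β, Subgroup.mul_mem _ hα hβ,
      fun u v hu hv x => ?_⟩
    show g (h (b.l u x)) = b.l v (g (h x))
    rw [av_mul _ _ hu] at hv
    rw [hh u ⟨av β u, hQS (av_mem β hu)⟩ hu rfl x, hg _ v (av_mem β hu) hv]
  inv_mem' := by
    rintro g ⟨hgr, α, hα, hg⟩
    refine ⟨fun x t => g.injective ?_, α⁻¹, Subgroup.inv_mem _ hα, fun u v hu hv x => g.injective ?_⟩
    · rw [hgr]; simp
    · rw [hg v u (hv ▸ av_mem α⁻¹ hu) (by rw [hv, av_av_inv α hu])]; simp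

variable {b Q}

omit [Finite S] in
theorem l_eq (x : b.X) {u v : S} (h : b.l u x = b.l v x) : u = v := by
  obtain ⟨P, f, hf, hst⟩ := b.stab x
  have h1 : b.l (v⁻¹ * u) x = b.r x 1 := by rw [b.l_mul, h, ← b.l_mul, inv_mul_cancel, b.l_one, b.r_one]
  obtain ⟨hm, he⟩ := (hst _ _).1 h1
  have h2 := hf.injOn hm P.one_mem (he.symm.trans hf.map_one.symm)
  exact (inv_mul_eq_one.1 (Subtype.ext h2 : v⁻¹ * u = 1)).symm

variable [Fact p.Prime]

theorem nonempty_X (b : CharBiset F p) : Nonempty b.X := by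
  by_contra h
  rw [not_nonempty_iff] at h
  have h1 := b.card_eq
  rw [Nat.card_of_isEmpty] at h1
  rcases mul_eq_zero.1 h1.symm with h2 | h2
  · exact b.not_dvd (h2 ▸ dvd_zero p)
  · exact Nat.card_pos.ne' h2

theorem isBig_unique (hQS : Q ≤ S) {g : Equiv.Perm b.X} {α β : MulAut Q} (hα : IsBig b Q g α) (hβ : IsBig b Q g β) :
    α = β := by
  obtain ⟨x⟩ := nonempty_X b
  refine aut_ext fun u hu => ?_
  have h1 := hα.2 ⟨u, hQS hu⟩ ⟨av α u, hQS (av_mem α hu)⟩ hu rfl x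
  have h2 := hβ.2 ⟨u, hQS hu⟩ ⟨av β u, hQS (av_mem β hu)⟩ hu rfl x
  exact congrArg Subtype.val (l_eq (g x) (h1.symm.trans h2))

end Model

/-- **Model theorem**: a system with a normal centric subgroup has a model. -/
theorem exists_model [Fact p.Prime] (hS : IsPGroup p S) (hF : F.IsSaturated p) {Q : Subgroup Ω}
    (hQn : F.IsNormal Q) (hQc : F.IsCentric Q) :
    ∃ (G : Type u) (_ : Group G) (ι : S →* G), F.IsModel p G ι := by
  classical
  obtain ⟨b⟩ := exists_charBiset hS hF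
  haveI := b.fin
  have hQS := hQn.1
  haveI := finite_of_le hQS
  haveI := mulAut_finite_of_le hQS
  have hsc := normal_stronglyClosed hQn
  have hSn := stronglyClosed_le_normalizer hsc
  obtain ⟨s₀⟩ : Nonempty b.Sect := inferInstance
  -- the orbits fixed by `Q`
  let O : Type u := {q : b.Orb // ∀ u : S, (u : Ω) ∈ Q → b.act u q = q}
  haveI : Fintype O := Fintype.ofFinite O
  have hφ : ∀ (σ : b.Sect) (q : O), ∃ α ∈ F.autGroup Q, ∀ u : S, (u : Ω) ∈ Q → av α u = (σ.coc u q.1 : Ω) := by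
    intro σ q
    obtain ⟨P, f, hf, hst⟩ := b.stab (σ.σ q.1)
    have hspec : ∀ u : S, (u : Ω) ∈ Q → (u : Ω) ∈ P ∧ (σ.coc u q.1 : Ω) = f u := fun u hu => by
      have h := σ.coc_spec u q.1
      rw [q.2 u hu] at h
      exact (hst u _).1 h.symm
    have hQP : Q ≤ P := fun u hu => (hspec ⟨u, hQS hu⟩ hu).1
    have hm := hf.restrict hQP
    obtain ⟨α, hα, hαf⟩ := exists_aut hm (Subgroup.eq_of_le_of_card_ge
      (im_le_iff.2 fun x hx => stronglyClosed_map hsc hm hx hx) hm.card_im.ge)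
    exact ⟨α, hα, fun u hu => (hαf u hu).trans (hspec u hu).2.symm⟩
  -- normalise the section
  choose α₀ hα₀ hα₀c using hφ s₀
  let Rel : MulAut Q → MulAut Q → Prop := fun α β => ∃ a : S, ∀ u ∈ Q, av β u = (a : Ω) * av α u * (a : Ω)⁻¹
  have hRrefl : ∀ α, Rel α α := fun α => ⟨1, fun u _ => by simp⟩
  have hRtrans : ∀ {α β γ}, Rel α β → Rel β γ → Rel α γ := by
    rintro α β γ ⟨a, ha⟩ ⟨c, hc⟩
    exact ⟨c * a, fun u hu => by rw [hc u hu, ha u hu]; push_cast; group⟩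
  have hRsymm : ∀ {α β}, Rel α β → Rel β α := by
    rintro α β ⟨a, ha⟩
    exact ⟨a⁻¹, fun u hu => by rw [ha u hu]; push_cast; group⟩
  let canon : MulAut Q → MulAut Q := fun α => Classical.epsilon (Rel α)
  have hcanon : ∀ α, Rel α (canon α) := fun α => Classical.epsilon_spec ⟨α, hRrefl α⟩
  have hcanon_eq : ∀ {α β}, Rel α β → canon α = canon β := fun {α β} h => congrArg Classical.epsilon
    (funext fun γ => propext ⟨fun hγ => hRtrans (hRsymm h) hγ, fun hγ => hRtrans h hγ⟩)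
  choose a₀ ha₀ using fun q : O => hcanon (α₀ q)
  let c₀ : b.Orb → S := fun q => if hq : ∀ u : S, (u : Ω) ∈ Q → b.act u q = q then (a₀ ⟨q, hq⟩)⁻¹ else 1
  let σ : b.Sect := ⟨fun q => b.r (s₀.σ q) (c₀ q), fun q => by rw [b.cl_r, s₀.spec]⟩
  choose A hA hAc using hφ σ
  have hAcanon : ∀ q : O, A q = canon (α₀ q) := by
    intro q
    refine aut_ext fun u hu => ?_
    have h1 := CharBiset.Sect.coc_change s₀ σ c₀ (fun _ => rfl) ⟨u, hQS hu⟩ q.1
    rw [hAc q ⟨u, hQS hu⟩ hu, h1, q.2 ⟨u, hQS hu⟩ hu, show c₀ q.1 = (a₀ q)⁻¹ from dif_pos q.2,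
      ha₀ q u hu, hα₀c q ⟨u, hQS hu⟩ hu]
    simp
  have hArel : ∀ q q' : O, Rel (A q) (A q') → A q = A q' := by
    intro q q' h
    rw [hAcanon, hAcanon] at h
    rw [hAcanon, hAcanon]
    exact hcanon_eq (hRtrans (hcanon (α₀ q)) (hRtrans h (hRsymm (hcanon (α₀ q')))))
  clear_value σ
  -- the centre of `Q`
  let Z : Subgroup S :=
    { carrier := {z | (z : Ω) ∈ Q ∧ ∀ u ∈ Q, (z : Ω) * u = u * z}
      one_mem' := ⟨Q.one_mem, fun u _ => by simp⟩
      mul_mem' := by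
        rintro x y ⟨hx, hx'⟩ ⟨hy, hy'⟩
        exact ⟨Q.mul_mem hx hy, fun u hu => by push_cast; rw [mul_assoc, hy' u hu, ← mul_assoc, hx' u hu, mul_assoc]⟩
      inv_mem' := by
        rintro x ⟨hx, hx'⟩
        exact ⟨Q.inv_mem hx, fun u hu => (Commute.inv_left (hx' u hu : Commute (x : Ω) u)).eq⟩ }
  letI : CommGroup Z := { (inferInstance : Group Z) with
    mul_comm := fun x y => Subtype.ext (Subtype.ext (x.2.2 _ y.2.1)) }
  have hcent : ∀ a : S, (∀ u ∈ Q, (a : Ω) * u * (a : Ω)⁻¹ = u) → a ∈ Z := fun a ha =>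
    have hc : ∀ u ∈ Q, (a : Ω) * u = u * a := fun u hu => mul_inv_eq_iff_eq_mul.1 (ha u hu)
    ⟨hQc.2 Q (isConj_refl hQS) (mem_centralizerIn.2 ⟨a.2, fun u hu => (hc u hu).symm⟩), hc⟩
  have hZmap : ∀ (α : MulAut Q) (z : Z), (⟨av α (z : S), hQS (av_mem α z.2.1)⟩ : S) ∈ Z := by
    intro α z
    refine ⟨av_mem α z.2.1, fun u hu => ?_⟩
    show av α (z : S) * u = u * av α (z : S)
    rw [← av_av_inv α hu, av_apply α (av_mem α⁻¹ hu), av_apply α z.2.1, ← Subgroup.coe_mul, ← map_mul,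
      ← Subgroup.coe_mul, ← map_mul]
    exact congrArg (fun w => ((α w : Q) : Ω)) (Subtype.ext (z.2.2 _ (av_mem α⁻¹ hu)))
  let act : MulAut Q → Z →* Z := fun α => MonoidHom.mk' (fun z => ⟨_, hZmap α z⟩) fun x y =>
    Subtype.ext (Subtype.ext (by
      show av α ((x : S) * (y : S) : Ω) = av α (x : S) * av α (y : S)
      rw [av_apply α x.2.1, av_apply α y.2.1, av_apply α (Q.mul_mem x.2.1 y.2.1)]
      exact congrArg Subtype.val (map_mul α ⟨_, x.2.1⟩ ⟨_, y.2.1⟩)))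
  have hact : ∀ (α : MulAut Q) (z : Z), (((act α z : Z) : S) : Ω) = av α (z : S) := fun α z => rfl
  -- the group
  let B := Model.big b Q hQS
  choose πα hπα using fun g : B => g.2.2
  let π : B →* MulAut Q := MonoidHom.mk' πα fun g h => Model.isBig_unique hQS (hπα (g * h))
    ⟨Subgroup.mul_mem _ (hπα g).1 (hπα h).1, fun u v hu hv x => by
      rw [av_mul _ _ hu] at hv
      show g.1 (h.1 (b.l u x)) = b.l v (g.1 (h.1 x))
      rw [(hπα h).2 u ⟨av (πα h) u, hQS (av_mem _ hu)⟩ hu rfl x, (hπα g).2 _ v (av_mem _ hu) hv]⟩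
  have hπ : ∀ g : B, Model.IsBig b Q g.1 (π g) := hπα
  -- movement of fixed orbits
  have hmove : ∀ (g : B) (q : O), ∀ u : S, (u : Ω) ∈ Q → b.act u (b.cl (g.1 (σ.σ q.1))) = b.cl (g.1 (σ.σ q.1)) := by
    intro g q u hu
    have hu' : av (π g)⁻¹ u ∈ Q := av_mem _ hu
    have h := (hπ g).2 ⟨av (π g)⁻¹ u, hQS hu'⟩ u hu' (av_av_inv (π g) hu).symm (σ.σ q.1)
    rw [b.act_cl, ← h]
    have h1 := σ.coc_spec ⟨av (π g)⁻¹ u, hQS hu'⟩ q.1
    rw [q.2 _ hu'] at h1
    rw [← h1, g.2.1, b.cl_r]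
  let mv : B → O → O := fun g q => ⟨b.cl (g.1 (σ.σ q.1)), hmove g q⟩
  have hmv_a : ∀ (g : B) (q : O), ∃ a, b.r (σ.σ (mv g q).1) a = g.1 (σ.σ q.1) := fun g q =>
    b.exists_of_cl_eq (σ.spec _)
  choose co hco using hmv_a
  have hconj : ∀ (g : B) (q : O), ∀ u ∈ Q,
      av (A (mv g q)) (av (π g) u) = (co g q : Ω) * av (A q) u * (co g q : Ω)⁻¹ := by
    intro g q u hu
    have hu2 : av (π g) u ∈ Q := av_mem _ hu
    have h := (hπ g).2 ⟨u, hQS hu⟩ ⟨_, hQS hu2⟩ hu rfl (σ.σ q.1)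
    have h1 := σ.coc_spec ⟨u, hQS hu⟩ q.1
    rw [q.2 _ hu] at h1
    have h2 := σ.coc_spec ⟨_, hQS hu2⟩ (mv g q).1
    rw [(mv g q).2 _ hu2] at h2
    rw [← h1, g.2.1, ← hco, b.l_r, ← h2, ← b.r_mul, ← b.r_mul] at h
    have h3 : ((co g q * σ.coc ⟨u, hQS hu⟩ q.1 : S) : Ω) = ((σ.coc ⟨_, hQS hu2⟩ (mv g q).1 * co g q : S) : Ω) :=
      congrArg Subtype.val (CharBiset.r_cancel h)
    rw [hAc (mv g q) ⟨_, hQS hu2⟩ hu2, hAc q ⟨u, hQS hu⟩ hu]
    push_cast at h3
    exact eq_mul_inv_of_mul_eq h3.symm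
  have hmv_mul : ∀ g h q, mv (g * h) q = mv g (mv h q) := by
    intro g h q
    refine Subtype.ext ?_
    show b.cl (g.1 (h.1 (σ.σ q.1))) = b.cl (g.1 (σ.σ (mv h q).1))
    rw [← hco h q, g.2.1, b.cl_r]
  have hco_mul : ∀ g h q, co (g * h) q = co g (mv h q) * co h q := by
    intro g h q
    refine CharBiset.r_cancel (x := σ.σ (mv (g * h) q).1) ((hco (g * h) q).trans ?_)
    show g.1 (h.1 (σ.σ q.1)) = _
    conv_rhs => rw [hmv_mul g h q, b.r_mul, hco g, ← g.2.1, hco h]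
  have hmv_one : ∀ q, mv 1 q = q := fun q => Subtype.ext (σ.spec q.1)
  let mvE : B → O ≃ O := fun g =>
    ⟨mv g, mv g⁻¹, fun q => by rw [← hmv_mul, inv_mul_cancel, hmv_one],
      fun q => by rw [← hmv_mul, mul_inv_cancel, hmv_one]⟩
  let C : Subgroup B := π.ker
  have hCav : ∀ g : C, ∀ u ∈ Q, av (π (g : B)) u = u := fun g u hu => by
    rw [show π (g : B) = 1 from g.2, av_one hu]
  have hCA : ∀ (g : C) (q : O), A (mv g.1 q) = A q := by
    intro g q
    refine (hArel q (mv g.1 q) ⟨co g.1 q, fun u hu => ?_⟩).symm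
    have := hconj g.1 q u hu
    rwa [hCav g u hu] at this
  have hCco : ∀ (g : C) (q : O), co g.1 q ∈ Z := by
    intro g q
    refine hcent _ fun u hu => ?_
    have hu' : av (A q)⁻¹ u ∈ Q := av_mem _ hu
    have := hconj g.1 q _ hu'
    rw [hCA g q, hCav g _ hu', av_av_inv _ hu] at this
    exact this.symm
  let val : C → O → Z := fun g q => act (A q)⁻¹ ⟨co g.1 q, hCco g q⟩
  let ψ : C →* Z := MonoidHom.mk' (fun g => ∏ q, val g q) fun g h => by
    show ∏ q, val (g * h) q = (∏ q, val g q) * ∏ q, val h q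
    rw [← Equiv.prod_comp (mvE h.1) (fun q => val g q), ← Finset.prod_mul_distrib]
    refine Finset.prod_congr rfl fun q _ => ?_
    show act _ _ = act (A (mv h.1 q))⁻¹ _ * act _ _
    rw [hCA h q, ← map_mul]
    exact congrArg _ (Subtype.ext (hco_mul g.1 h.1 q))
  -- equivariance
  have hequi : ∀ (n : B) (g : C) (hm : n * g.1 * n⁻¹ ∈ C), ψ ⟨n * g.1 * n⁻¹, hm⟩ = act (π n) (ψ g) := by
    intro n g hm
    set g' : C := ⟨n * g.1 * n⁻¹, hm⟩ with hg'
    let Bf : MulAut Q → MulAut Q → S := fun α α' => Classical.epsilon fun a : S =>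
      ∀ u ∈ Q, av α' (av (π n) u) = (a : Ω) * av α u * (a : Ω)⁻¹
    have hz : ∀ q, co n q * (Bf (A q) (A (mv n q)))⁻¹ ∈ Z := by
      intro q
      have hsp : ∀ u ∈ Q, av (A (mv n q)) (av (π n) u) =
          (Bf (A q) (A (mv n q)) : Ω) * av (A q) u * (Bf (A q) (A (mv n q)) : Ω)⁻¹ :=
        Classical.epsilon_spec (p := fun a : S =>
          ∀ u ∈ Q, av (A (mv n q)) (av (π n) u) = (a : Ω) * av (A q) u * (a : Ω)⁻¹) ⟨co n q, hconj n q⟩
      refine hcent _ fun u hu => ?_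
      set w := Bf (A q) (A (mv n q))
      have hwu : (w : Ω)⁻¹ * u * w ∈ Q := by
        simpa using conj_mem_of_normalizer (hSn (S.inv_mem w.2)) hu
      have hy : av (A q)⁻¹ ((w : Ω)⁻¹ * u * w) ∈ Q := av_mem _ hwu
      have h1 := hconj n q _ hy
      rw [hsp _ hy, av_av_inv _ hwu] at h1
      push_cast
      calc (co n q : Ω) * (w : Ω)⁻¹ * u * ((co n q : Ω) * (w : Ω)⁻¹)⁻¹
          = (co n q : Ω) * ((w : Ω)⁻¹ * u * w) * (co n q : Ω)⁻¹ := by group
        _ = (w : Ω) * ((w : Ω)⁻¹ * u * w) * (w : Ω)⁻¹ := h1.symm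
        _ = u := by group
    let W : O → Z := fun q => act (A (mv n q))⁻¹ ⟨_, hz q⟩
    have hterm : ∀ q, val g' (mv n q) = W (mv g.1 q) * (W q)⁻¹ * act (π n) (val g q) := by
      intro q
      have hmveq : mv g'.1 (mv n q) = mv n (mv g.1 q) := by
        rw [← hmv_mul, ← hmv_mul]
        simp [hg', mul_assoc]
      have hA1 : A (mv n (mv g.1 q)) = A (mv n q) := by rw [← hmveq, hCA]
      have hBeq : Bf (A (mv g.1 q)) (A (mv n (mv g.1 q))) = Bf (A q) (A (mv n q)) := by rw [hCA g q, hA1]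
      have hcoeq : co g'.1 (mv n q) * co n q = co n (mv g.1 q) * co g.1 q := by
        rw [← hco_mul, ← hco_mul]
        simp [hg', mul_assoc]
      have hnval : (⟨(co n q : Ω) * (co g.1 q : Ω) * (co n q : Ω)⁻¹,
          S.mul_mem (S.mul_mem (co n q).2 (co g.1 q).2) (S.inv_mem (co n q).2)⟩ : S) =
          ⟨av (A (mv n q)) (av (π n) (av (A q)⁻¹ (co g.1 q))),
            hQS (av_mem _ (av_mem _ (av_mem _ (hCco g q).1)))⟩ := by
        refine Subtype.ext ?_
        show _ = av (A (mv n q)) (av (π n) (av (A q)⁻¹ (co g.1 q)))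
        rw [hconj n q _ (av_mem _ (hCco g q).1), av_av_inv _ (hCco g q).1]
      have key : (⟨co g'.1 (mv n q), hCco g' (mv n q)⟩ : Z) =
          ⟨_, hz (mv g.1 q)⟩ * (⟨_, hz q⟩ : Z)⁻¹ * act (A (mv n q)) (act (π n) (act (A q)⁻¹ ⟨co g.1 q, hCco g q⟩)) := by
        refine Subtype.ext ?_
        show co g'.1 (mv n q) = (co n (mv g.1 q) * (Bf (A (mv g.1 q)) (A (mv n (mv g.1 q))))⁻¹) *
          (co n q * (Bf (A q) (A (mv n q)))⁻¹)⁻¹ *
          ⟨av (A (mv n q)) (av (π n) (av (A q)⁻¹ (co g.1 q))), hQS (av_mem _ (av_mem _ (av_mem _ (hCco g q).1)))⟩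
        rw [← hnval, hBeq, eq_mul_inv_of_mul_eq hcoeq]
        refine Subtype.ext ?_
        push_cast
        group
      show act (A (mv n q))⁻¹ ⟨co g'.1 (mv n q), hCco g' (mv n q)⟩ = _
      rw [key, map_mul, map_mul, map_inv]
      refine congrArg₂ (· * ·) (congrArg₂ (· * ·) ?_ rfl) ?_
      · exact congrArg (fun α => act α⁻¹ (⟨_, hz (mv g.1 q)⟩ : Z)) hA1.symm
      · refine Subtype.ext (Subtype.ext ?_)
        show av (A (mv n q))⁻¹ (av (A (mv n q)) (av (π n) (av (A q)⁻¹ (co g.1 q)))) = _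
        rw [av_inv_av _ (av_mem _ (av_mem _ (hCco g q).1))]
        rfl
    show ∏ q, val g' q = _
    rw [← Equiv.prod_comp (mvE n) (fun q => val g' q)]
    show ∏ q, val g' (mv n q) = _
    rw [Finset.prod_congr rfl (fun q _ => hterm q), Finset.prod_mul_distrib, Finset.prod_mul_distrib,
      Finset.prod_inv_distrib, show ∏ q, W (mv g.1 q) = ∏ q, W q from Equiv.prod_comp (mvE g.1) W,
      mul_inv_cancel, one_mul, ← map_prod]
    rfl
  haveI hCn : C.Normal := inferInstanceAs π.ker.Normal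
  let K : Subgroup B := ψ.ker.map C.subtype
  haveI : K.Normal := by
    refine ⟨?_⟩
    rintro _ ⟨g, hg, rfl⟩ n
    refine ⟨⟨n * g.1 * n⁻¹, hCn.conj_mem _ g.2 n⟩, ?_, rfl⟩
    rw [SetLike.mem_coe, MonoidHom.mem_ker, hequi n g, show ψ g = 1 from hg, map_one]
  -- left multiplications
  have hlam : ∀ a : S, (Equiv.mk (b.l a) (b.l a⁻¹) (fun x => by rw [← b.l_mul, inv_mul_cancel, b.l_one])
      (fun x => by rw [← b.l_mul, mul_inv_cancel, b.l_one]) : Equiv.Perm b.X) ∈ B := by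
    intro a
    obtain ⟨α, hα, hαS⟩ := exists_aut_conj (hSn a.2)
    refine ⟨fun x t => b.l_r a x t, α, autInducedBy_le_autGroup hQS (hαS S a.2), fun u v hu hv x => ?_⟩
    show b.l a (b.l u x) = b.l v (b.l a x)
    rw [← b.l_mul, ← b.l_mul]
    refine congrArg (fun w => b.l w x) (Subtype.ext ?_)
    push_cast
    rw [hv, hα u hu]; group
  let lam : S →* B := MonoidHom.mk' (fun a => ⟨_, hlam a⟩) fun a c =>
    Subtype.ext (Equiv.ext fun x => b.l_mul a c x)
  let G : Type u := B ⧸ K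
  let ι : S →* G := (QuotientGroup.mk' K).comp lam
  have hπlam : ∀ a : S, ∀ u ∈ Q, av (π (lam a)) u = (a : Ω) * u * (a : Ω)⁻¹ := by
    intro a u hu
    obtain ⟨x⟩ := Model.nonempty_X b
    have h := (hπ (lam a)).2 ⟨u, hQS hu⟩ ⟨_, hQS (av_mem (π (lam a)) hu)⟩ hu rfl x
    change b.l a (b.l ⟨u, hQS hu⟩ x) = b.l _ (b.l a x) at h
    rw [← b.l_mul, ← b.l_mul] at h
    have h2 : (a : Ω) * u = av (π (lam a)) u * a := congrArg Subtype.val (Model.l_eq x h)
    exact eq_mul_inv_of_mul_eq h2.symm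
  have hlamC : ∀ z : Z, lam (z : S) ∈ C := fun z => aut_ext fun u hu => by
    rw [hπlam _ u hu, av_one hu, z.2.2 u hu, mul_inv_cancel_right]
  have hψlam : ∀ z : Z, ψ ⟨lam (z : S), hlamC z⟩ = z ^ Fintype.card O := by
    intro z
    rw [← Finset.card_univ, ← Finset.prod_const]
    refine Finset.prod_congr rfl fun q _ => ?_
    have h := σ.coc_spec (z : S) q.1
    rw [q.2 _ z.2.1] at h
    have hmvq : mv (lam (z : S)) q = q := Subtype.ext (by
      show b.cl (b.l (z : S) (σ.σ q.1)) = q.1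
      rw [← h, b.cl_r, σ.spec])
    have hcoq : co (lam (z : S)) q = σ.coc (z : S) q.1 := by
      refine CharBiset.r_cancel (x := σ.σ q.1) ?_
      have := hco (lam (z : S)) q
      rw [hmvq] at this
      exact this.trans h.symm
    refine Subtype.ext (Subtype.ext ?_)
    show av (A q)⁻¹ (co (lam (z : S)) q : Ω) = _
    rw [hcoq, ← hAc q _ z.2.1, av_inv_av _ z.2.1]
  have hOdvd : ¬ p ∣ Fintype.card O := by
    intro hd
    let ρ : ↥(Q.subgroupOf S) →* S := (Q.subgroupOf S).subtype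
    letI : MulAction S b.Orb := { smul := b.act, one_smul := b.act_one, mul_smul := b.act_mul }
    have h1 := (hS.to_subgroup (Q.subgroupOf S)).card_modEq_card_fixedPoints (α := b.Orb)
    have h2 : Nat.card (MulAction.fixedPoints ↥(Q.subgroupOf S) b.Orb) = Fintype.card O := by
      rw [← Nat.card_eq_fintype_card]
      exact Nat.card_congr (Equiv.subtypeEquivRight fun q =>
        ⟨fun h u hu => h ⟨u, hu⟩, fun h u => h u.1 u.2⟩)
    rw [Nat.card_eq_fintype_card (α := b.Orb), CharBiset.orbits_eq b, h2] at h1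
    exact b.not_dvd ((h1.dvd_iff dvd_rfl).2 hd)
  have hZp : IsPGroup p Z := hS.to_subgroup Z
  have hcop : (Nat.card Z).Coprime (Fintype.card O) := by
    obtain ⟨k, hk⟩ := IsPGroup.iff_card.1 hZp
    rw [hk]
    exact Nat.Coprime.pow_left _ ((Nat.Prime.coprime_iff_not_dvd Fact.out).2 hOdvd)
  have hclass : ∀ g : B, π g = 1 → ∃ z : Z, (QuotientGroup.mk g : G) = ι (z : S) := by
    intro g hg
    obtain ⟨z, hz⟩ := (powCoprime hcop).surjective (ψ ⟨g, hg⟩)
    rw [powCoprime_apply] at hz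
    refine ⟨z, QuotientGroup.eq.2 ⟨(⟨g, hg⟩ : C)⁻¹ * ⟨lam (z : S), hlamC z⟩, ?_, rfl⟩⟩
    rw [SetLike.mem_coe, MonoidHom.mem_ker, map_mul, map_inv, hψlam, hz, inv_mul_cancel]
  have hπK : ∀ k ∈ K, π k = 1 := by
    rintro _ ⟨g, -, rfl⟩; exact g.2
  have hinj : Function.Injective ι := by
    refine (injective_iff_map_eq_one ι).2 fun a ha => ?_
    obtain ⟨g, hg, hga⟩ : lam a ∈ K := (QuotientGroup.eq_one_iff _).1 ha
    have haZ : a ∈ Z := hcent a fun u hu => by
      rw [← hπlam a u hu, hπK _ ⟨g, hg, hga⟩, av_one hu]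
    have h1 := hψlam ⟨a, haZ⟩
    rw [show (⟨lam ((⟨a, haZ⟩ : Z) : S), hlamC ⟨a, haZ⟩⟩ : C) = g from Subtype.ext hga.symm,
      show ψ g = 1 from hg] at h1
    exact congrArg Subtype.val ((powCoprime hcop).injective
      (show powCoprime hcop ⟨a, haZ⟩ = powCoprime hcop 1 by rw [powCoprime_apply, powCoprime_apply, one_pow, ← h1]))
  have hlift : ∀ (P : Subgroup Ω) (f : Ω → Ω), Q ≤ P → Map F P f →
      ∃ e : B, (∀ u ∈ Q, av (π e) u = f u) ∧ ∀ (u v : S), (u : Ω) ∈ P → (v : Ω) = f u →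
        e * lam u * e⁻¹ = lam v := by
    intro P f hQP hf
    obtain ⟨e, he⟩ := b.stable P f hf
    have hm := hf.restrict hQP
    obtain ⟨α, hα, hαf⟩ := exists_aut hm (Subgroup.eq_of_le_of_card_ge
      (im_le_iff.2 fun x hx => stronglyClosed_map hsc hm hx hx) hm.card_im.ge)
    have hel : ∀ u v : S, (u : Ω) ∈ P → (v : Ω) = f u → ∀ x, e (b.l u x) = b.l v (e x) := fun u v hu hv x => by
      have := he u v hu hv 1 x
      rwa [b.r_one, b.r_one] at this
    have her : ∀ x t, e (b.r x t) = b.r (e x) t := fun x t => by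
      have := he 1 1 P.one_mem hf.map_one.symm t x
      rwa [b.l_one, b.l_one] at this
    have hBe : Model.IsBig b Q e α := ⟨hα, fun u v hu hv => hel u v (hQP hu) (by rw [hv, hαf _ hu])⟩
    have hmem : e ∈ B := ⟨her, α, hBe⟩
    refine ⟨⟨e, hmem⟩, fun u hu => ?_, fun u v hu hv => ?_⟩
    · rw [show π ⟨e, hmem⟩ = α from Model.isBig_unique hQS (hπ _) hBe, hαf u hu]
    · rw [mul_inv_eq_iff_eq_mul]
      exact Subtype.ext (Equiv.ext (hel u v hu hv))
  have hQconj : ∀ (n : B) (u v : S), (u : Ω) ∈ Q → (v : Ω) = av (π n) u → n * lam u * n⁻¹ = lam v := by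
    intro n u v hu hv
    rw [mul_inv_eq_iff_eq_mul]
    exact Subtype.ext (Equiv.ext ((hπ n).2 u v hu hv))
  have hfnQ : F.IsFullyNormalized Q :=
    ⟨hQS, fun R _ => Subgroup.card_le_of_le (le_inf inf_le_left (inf_le_left.trans hSn))⟩
  have hreal : F.IsRealizedBy ι := by
    refine ⟨hinj, fun P hP φ hφS => ⟨fun hφm => ?_, fun ⟨g, hg⟩ => ?_⟩⟩
    · obtain ⟨g, hg, hgφ, -⟩ := (normal_iff.1 hQn).2 P _ (map_of_mem hφm)
      obtain ⟨e, -, he⟩ := hlift _ g le_sup_right hg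
      refine ⟨(QuotientGroup.mk e : G), fun x => ?_⟩
      show QuotientGroup.mk' K (lam _) = QuotientGroup.mk' K e * QuotientGroup.mk' K (lam _) * (QuotientGroup.mk' K e)⁻¹
      rw [← map_inv, ← map_mul, ← map_mul, he ⟨x, hP x.2⟩ ⟨φ x, hφS x⟩ (Subgroup.mem_sup_left x.2)]
      show φ x = g x
      rw [hgφ x x.2, fn_coe]
    · obtain ⟨n, rfl⟩ := QuotientGroup.mk_surjective g
      have hπn : ∀ x : P, π (lam ⟨φ x, hφS x⟩) = π n * π (lam ⟨x, hP x.2⟩) * (π n)⁻¹ := by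
        intro x
        have h := hg x
        change (QuotientGroup.mk (lam _) : G) = QuotientGroup.mk' K n * QuotientGroup.mk' K (lam _) * (QuotientGroup.mk' K n)⁻¹ at h
        rw [← map_inv, ← map_mul, ← map_mul] at h
        have h1 := hπK _ (QuotientGroup.eq.1 h)
        rw [map_mul, map_inv, inv_mul_eq_one, map_mul, map_mul, map_inv] at h1
        exact h1
      have hα := (hπ n).1
      have hm := map_of_mem_autGroup hQS hα
      have hPN : P ≤ Nf S Q (av (π n)) := by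
        intro x hx
        refine ⟨hP hx, hSn (hP hx), φ ⟨x, hx⟩, hφS _, fun u hu => ?_⟩
        have h1 : av (π (lam ⟨φ ⟨x, hx⟩, hφS _⟩) * π n) u = av (π n * π (lam ⟨x, hP hx⟩)) u := by
          rw [hπn ⟨x, hx⟩, inv_mul_cancel_right]
        rw [av_mul _ _ hu, av_mul _ _ hu, hπlam _ _ (av_mem _ hu), hπlam _ _ hu] at h1
        exact h1.symm
      obtain ⟨g', hg', hg'α⟩ := (receptive_iff.1 (receptive_of_fc hS hF (fc_fa_of_fn hS hF hfnQ).1)).2 Q _ hm (im_av _)
      have hPQ : P ⊔ Q ≤ Nf S Q (av (π n)) := sup_le hPN (le_Nf hm)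
      obtain ⟨e, heQ, he⟩ := hlift _ g' le_sup_right (hg'.restrict hPQ)
      have hker : π (e⁻¹ * n) = 1 := by
        rw [map_mul, map_inv, inv_mul_eq_one]
        exact aut_ext fun u hu => by rw [heQ u hu, hg'α u hu]
      obtain ⟨z, hz⟩ := hclass _ hker
      have hzPQ : ∀ x ∈ P, ((z : S) : Ω) * x * ((z : S) : Ω)⁻¹ ∈ P ⊔ Q := fun x hx =>
        Subgroup.mul_mem _ (Subgroup.mul_mem _ (Subgroup.mem_sup_right z.2.1) (Subgroup.mem_sup_left hx))
          (Subgroup.inv_mem _ (Subgroup.mem_sup_right z.2.1))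
      refine ((map_conjBy hP (z : S).2).comp (hg'.restrict hPQ) hzPQ).mem_hom fun x => ?_
      have hzx := hzPQ x x.2
      have key : ι ⟨φ x, hφS x⟩ = ι ⟨g' ((z : S) * x * ((z : S) : Ω)⁻¹), (hg'.restrict hPQ).mem hzx⟩ := by
        rw [hg x]
        show QuotientGroup.mk' K n * QuotientGroup.mk' K (lam _) * (QuotientGroup.mk' K n)⁻¹ = _
        have hn : (QuotientGroup.mk' K n) = QuotientGroup.mk' K e * ι (z : S) := by
          rw [← hz, show (QuotientGroup.mk (e⁻¹ * n) : G) = QuotientGroup.mk' K (e⁻¹ * n) from rfl, map_mul, map_inv,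
            mul_inv_cancel_left]
        rw [hn]
        show QuotientGroup.mk' K e * QuotientGroup.mk' K (lam (z : S)) * QuotientGroup.mk' K (lam ⟨x, hP x.2⟩) *
          (QuotientGroup.mk' K e * QuotientGroup.mk' K (lam (z : S)))⁻¹ = QuotientGroup.mk' K (lam _)
        rw [← he (⟨((z : S) : Ω) * x * ((z : S) : Ω)⁻¹, S.mul_mem (S.mul_mem (z : S).2 (hP x.2)) (S.inv_mem (z : S).2)⟩)
          ⟨g' ((z : S) * x * ((z : S) : Ω)⁻¹), (hg'.restrict hPQ).mem hzx⟩ hzx rfl]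
        rw [show (⟨((z : S) : Ω) * x * ((z : S) : Ω)⁻¹, S.mul_mem (S.mul_mem (z : S).2 (hP x.2)) (S.inv_mem (z : S).2)⟩ : S) =
          (z : S) * ⟨x, hP x.2⟩ * (z : S)⁻¹ from rfl]
        simp only [map_mul, map_inv, mul_inv_rev, mul_assoc]
      exact congrArg Subtype.val (hinj key)
  haveI : Finite G := Quotient.finite _
  have hcardG : Nat.card G = Nat.card ↥(F.autGroup Q) * Nat.card Z := by
    have hrange : π.range = F.autGroup Q := by
      refine le_antisymm ?_ fun α hα => ?_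
      · rintro _ ⟨g, rfl⟩; exact (hπ g).1
      · obtain ⟨e, he, -⟩ := hlift Q _ le_rfl (map_of_mem_autGroup hQS hα)
        exact ⟨e, aut_ext he⟩
    have hψsurj : Function.Surjective ψ := fun z => by
      obtain ⟨w, hw⟩ := (powCoprime hcop).surjective z
      exact ⟨⟨lam (w : S), hlamC w⟩, (hψlam w).trans hw⟩
    have h1 : Nat.card B = Nat.card ↥(F.autGroup Q) * Nat.card C := by
      rw [Subgroup.card_eq_card_quotient_mul_card_subgroup C,
        Nat.card_congr (QuotientGroup.quotientKerEquivRange π).toEquiv, hrange]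
    have h2 : Nat.card C = Nat.card Z * Nat.card K := by
      rw [Subgroup.card_eq_card_quotient_mul_card_subgroup ψ.ker,
        Nat.card_congr (QuotientGroup.quotientKerEquivOfSurjective ψ hψsurj).toEquiv,
        Subgroup.card_map_of_injective C.subtype_injective]
    have h3 := Subgroup.card_eq_card_quotient_mul_card_subgroup K
    refine Nat.eq_of_mul_eq_mul_right (Nat.card_pos (α := K)) ?_
    rw [show Nat.card G * Nat.card K = Nat.card B from h3.symm, h1, h2, mul_assoc]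
  have hsylS : ∃ T : Sylow p G, (T : Subgroup G) = ι.range := by
    have hp' : IsPGroup p ι.range := hS.of_surjective ι.rangeRestrict ι.rangeRestrict_surjective
    refine ⟨hp'.toSylow ?_, rfl⟩
    obtain ⟨-, hsyl⟩ := fa_iff.1 (fc_fa_of_fn hS hF hfnQ).2
    intro hd
    refine hsyl.not_dvd ?_
    have e1 := Subgroup.index_mul_card ι.range
    rw [hcardG, show Nat.card ι.range = Nat.card S from
      Nat.card_congr (MonoidHom.ofInjective hinj).toEquiv.symm] at e1
    have e2 := Subgroup.relIndex_mul_relIndex ⊥ (autInducedBy S Q) (F.autGroup Q) bot_le hsyl.le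
    simp only [Subgroup.relIndex_bot_left] at e2
    have e3 : Nat.card ↥(autInducedBy S Q) * Nat.card Z = Nat.card S := by
      have h := card_autS_mul (S := S) (P := Q)
      rw [show normalizerIn S Q = S from inf_eq_left.2 hSn] at h
      rw [← h]
      congr 1
      refine Nat.card_congr
        { toFun := fun z => ⟨((z : S) : Ω), mem_centralizerIn.2 ⟨(z : S).2, fun u hu => (z.2.2 u hu).symm⟩⟩
          invFun := fun c => ⟨⟨(c : Ω), c.2.1⟩, hcent _ fun u hu => by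
            show (c : Ω) * u * (c : Ω)⁻¹ = u
            rw [← (mem_centralizerIn.1 c.2).2 u hu, mul_inv_cancel_right]⟩
          left_inv := fun z => rfl
          right_inv := fun c => rfl }
    have e4 : ι.range.index * Nat.card S = (autInducedBy S Q).relIndex (F.autGroup Q) * Nat.card S := by
      rw [e1, ← e2, ← e3]; ring
    rwa [Nat.eq_of_mul_eq_mul_right Nat.card_pos e4] at hd
  refine ⟨G, inferInstance, ι, inferInstance, hreal, hsylS, ?_⟩
  have hQle : (Q.subgroupOf S).map ι ≤ pCore p G := by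
    haveI : ((Q.subgroupOf S).map ι).Normal := by
      refine ⟨?_⟩
      rintro _ ⟨u, hu, rfl⟩ g
      obtain ⟨n, rfl⟩ := QuotientGroup.mk_surjective g
      refine ⟨⟨av (π n) u, hQS (av_mem _ hu)⟩, av_mem _ hu, ?_⟩
      show QuotientGroup.mk' K (lam _) = QuotientGroup.mk' K n * QuotientGroup.mk' K (lam u) * (QuotientGroup.mk' K n)⁻¹
      rw [← map_inv, ← map_mul, ← map_mul, hQconj n u ⟨_, hQS (av_mem _ hu)⟩ hu rfl]
      rfl
    exact le_pCore ((hS.to_subgroup _).map ι)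
  intro g hg
  obtain ⟨n, rfl⟩ := QuotientGroup.mk_surjective g
  have hπn : π n = 1 := by
    refine aut_ext fun u hu => ?_
    have hcomm := Subgroup.mem_centralizer_iff.1 hg (ι ⟨u, hQS hu⟩) (hQle ⟨⟨u, hQS hu⟩, hu, rfl⟩)
    have h2 : ι ⟨av (π n) u, hQS (av_mem _ hu)⟩ = ι ⟨u, hQS hu⟩ := by
      show QuotientGroup.mk' K (lam _) = _
      rw [← hQconj n ⟨u, hQS hu⟩ ⟨_, hQS (av_mem _ hu)⟩ hu rfl, map_mul, map_mul, map_inv]
      exact mul_inv_eq_iff_eq_mul.2 hcomm.symm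
    rw [av_one hu]
    exact congrArg Subtype.val (hinj h2)
  obtain ⟨z, hz⟩ := hclass n hπn
  rw [hz]
  exact hQle ⟨(z : S), z.2.1, rfl⟩

end Cfsg.Agent.Local.FS
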