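import Cfsg.Agent.Lib.Local.FS.Normal
import Cfsg.Agent.Lib.Local.FS.Model

/-!
Saturated systems with nontrivial core over groups in which every noncentral element has an abelian
centralizer and commutators with it fill the centre: such systems are constrained.
-/

set_option autoImplicit false
set_option linter.unusedSectionVars false

namespace Cfsg.Agent.Local.FS

open Cfsg Cfsg.FusionSystem Cfsg.Agent.Fusion

/-- A group whose noncentral elements have abelian centralizers and move onto full cosets of `Z`. -/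
def HeisLike (X : Type*) [Group X] : Prop :=
  ∃ Z : Subgroup X, (∀ z ∈ Z, ∀ x : X, z * x = x * z) ∧ (∀ a b : X, a * b * a⁻¹ * b⁻¹ ∈ Z) ∧
    (∀ e : X, e ∉ Z → ∀ z ∈ Z, ∃ s : X, s * e * s⁻¹ = e * z) ∧
    ∀ e : X, e ∉ Z → ∀ a b : X, a * e = e * a → b * e = e * b → a * b = b * a

theorem HeisLike.of_equiv {X Y : Type*} [Group X] [Group Y] (f : X ≃* Y) (h : HeisLike X) :
    HeisLike Y := by
  obtain ⟨Z, h1, h2, h3, h4⟩ := h
  refine ⟨Z.comap f.symm.toMonoidHom, fun z hz y => f.symm.injective ?_, fun a b => ?_, fun e he z hz => ?_,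
    fun e he a b ha hb => f.symm.injective ?_⟩
  · rw [map_mul, map_mul]; exact h1 _ hz _
  · simpa [Subgroup.mem_comap] using h2 (f.symm a) (f.symm b)
  · obtain ⟨s, hs⟩ := h3 (f.symm e) he (f.symm z) hz
    exact ⟨f s, f.symm.injective (by simpa using hs)⟩
  · rw [map_mul, map_mul]
    exact h4 _ he _ _ (by simpa using congrArg f.symm ha) (by simpa using congrArg f.symm hb)

section Key

variable {E : Type*} [Group E] [Finite E] {p : ℕ}

/-- A `p`-group of automorphisms transitive on the nontrivial cosets of a fixed subgroup `Z` is normal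
as soon as the group fixes a nontrivial subgroup of `Z`. -/
theorem conj_mem_of_invariant [Fact p.Prime] (hE : IsPGroup p E) [Finite (MulAut E)]
    (G T : Subgroup (MulAut E)) (hT : SylIn p T G) (Z C : Subgroup E) (hC : C ≤ Z) (hCne : C ≠ ⊥)
    (hCinv : ∀ g ∈ G, ∀ c ∈ C, g c ∈ C)
    (hfix : ∀ t ∈ T, ∀ z ∈ Z, t z = z) (hcomm : ∀ t ∈ T, ∀ e, e⁻¹ * t e ∈ Z)
    (hsurj : ∀ e, e ∉ Z → ∀ z ∈ Z, ∃ t ∈ T, t e = e * z)
    (hfree : ∀ t ∈ T, ∀ e, e ∉ Z → t e = e → t = 1) :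
    ∀ g ∈ G, ∀ t ∈ T, g * t * g⁻¹ ∈ T := by
  have hinj : ∀ g : MulAut E, ∀ x, g⁻¹ (g x) = x := fun g x => by
    rw [← MulAut.mul_apply, inv_mul_cancel, MulAut.one_apply]
  have hinj' : ∀ g : MulAut E, ∀ x, g (g⁻¹ x) = x := fun g x => by
    rw [← MulAut.mul_apply, mul_inv_cancel, MulAut.one_apply]
  obtain ⟨P, hP⟩ := hT.exists_sylow_subgroupOf
  -- stabiliser of `Z` normalises `T`
  have stab : ∀ g ∈ G, (∀ z ∈ Z, g z ∈ Z) → ∀ t ∈ T, g * t * g⁻¹ ∈ T := by
    intro g hg hgZ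
    have hgZ' : ∀ z ∈ Z, g⁻¹ z ∈ Z := by
      intro z hz
      have hle : Z.map g.toMonoidHom ≤ Z := by rintro _ ⟨y, hy, rfl⟩; exact hgZ y hy
      have heq : Z.map g.toMonoidHom = Z := Subgroup.eq_of_le_of_card_ge hle
        (le_of_eq (Nat.card_congr (Z.equivMapOfInjective g.toMonoidHom g.injective).toEquiv))
      obtain ⟨y, hy, rfl⟩ := heq.ge hz
      show g⁻¹ (g y) ∈ Z
      rwa [hinj]
    let A : Subgroup G :=
      { carrier := {h | (∀ z ∈ Z, (h : MulAut E) z = z) ∧ ∀ e, e⁻¹ * (h : MulAut E) e ∈ Z}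
        one_mem' := ⟨fun z _ => rfl, fun e => by simp⟩
        mul_mem' := by
          rintro a b ⟨ha, ha'⟩ ⟨hb, hb'⟩
          refine ⟨fun z hz => ?_, fun e => ?_⟩
          · show (a : MulAut E) ((b : MulAut E) z) = z
            rw [hb z hz, ha z hz]
          · show e⁻¹ * (a : MulAut E) ((b : MulAut E) e) ∈ Z
            have := Z.mul_mem (hb' e) (ha' ((b : MulAut E) e))
            simpa [mul_assoc] using this
        inv_mem' := by
          rintro a ⟨ha, ha'⟩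
          refine ⟨fun z hz => ?_, fun e => ?_⟩
          · conv_lhs => rw [← ha z hz]
            exact hinj _ _
          · have := Z.inv_mem (ha' ((a : MulAut E)⁻¹ e))
            simp only [mul_inv_rev, inv_inv, hinj'] at this
            simpa using this }
    have hTA : (P : Subgroup G) ≤ A := by
      rw [hP]; exact fun a ha => ⟨hfix _ ha, hcomm _ ha⟩
    have hA : IsPGroup p A := by
      rintro ⟨⟨a, haG⟩, ha, ha'⟩
      obtain ⟨k, hk⟩ := IsPGroup.iff_card.1 hE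
      refine ⟨k, Subtype.ext (Subtype.ext (MulEquiv.ext fun e => ?_))⟩
      show (a ^ p ^ k) e = e
      have hpow : ∀ n : ℕ, (a ^ n) e = e * (e⁻¹ * a e) ^ n := by
        intro n
        induction n with
        | zero => simp
        | succ n ih =>
          rw [pow_succ', MulAut.mul_apply, ih, map_mul, map_pow, ha _ (ha' e)]
          rw [pow_succ', ← mul_assoc e]
          simp
      rw [hpow, ← hk, pow_card_eq_one', mul_one]
    have heq : A = P := P.is_maximal' hA hTA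
    intro t ht
    have hm : (⟨g * t * g⁻¹, G.mul_mem (G.mul_mem hg (hT.le ht)) (G.inv_mem hg)⟩ : G) ∈ A := by
      refine ⟨fun z hz => ?_, fun e => ?_⟩
      · show g (t (g⁻¹ z)) = z
        rw [hfix t ht _ (hgZ' z hz), hinj']
      · show e⁻¹ * g (t (g⁻¹ e)) ∈ Z
        have := hgZ _ (hcomm t ht (g⁻¹ e))
        rwa [map_mul, map_inv, hinj'] at this
    rw [heq, hP] at hm
    exact hm
  intro g hg
  by_cases hgZ : ∀ z ∈ Z, g z ∈ Z
  · exact stab g hg hgZ
  exfalso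
  -- an element of `Z` outside the translate
  obtain ⟨v, hv, hv'⟩ : ∃ v ∈ Z, g⁻¹ v ∉ Z := by
    by_contra hall
    push Not at hall
    refine hgZ fun z hz => ?_
    have hle : Z.map (g⁻¹).toMonoidHom ≤ Z := by rintro _ ⟨y, hy, rfl⟩; exact hall y hy
    have heq : Z.map (g⁻¹).toMonoidHom = Z := Subgroup.eq_of_le_of_card_ge hle
      (le_of_eq (Nat.card_congr (Z.equivMapOfInjective _ (g⁻¹).injective).toEquiv))
    obtain ⟨y, hy, rfl⟩ := heq.ge hz
    show g (g⁻¹ y) ∈ Z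
    rwa [hinj']
  let H : Subgroup G :=
    { carrier := {h | v⁻¹ * (h : MulAut E) v ∈ C}
      one_mem' := by simp
      mul_mem' := by
        intro a b ha hb
        show v⁻¹ * (a : MulAut E) ((b : MulAut E) v) ∈ C
        have h1 := hCinv _ a.2 _ hb
        rw [map_mul, map_inv] at h1
        have := C.mul_mem ha h1
        simpa [mul_assoc] using this
      inv_mem' := by
        intro a ha
        show v⁻¹ * (a : MulAut E)⁻¹ v ∈ C
        have := C.inv_mem (hCinv _ (G.inv_mem a.2) _ ha)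
        rw [map_mul, map_inv, hinj, mul_inv_rev, inv_inv] at this
        exact this }
  have hPH : (P : Subgroup G) ≤ H := by
    rw [hP]
    intro a ha
    show v⁻¹ * (a : MulAut E) v ∈ C
    rw [hfix (a : MulAut E) (Subgroup.mem_subgroupOf.1 ha) v hv, inv_mul_cancel]
    exact C.one_mem
  obtain ⟨⟨c, hc⟩, hc1'⟩ := Subgroup.ne_bot_iff_exists_ne_one.1 hCne
  have hc1 : c ≠ 1 := fun h => hc1' (Subtype.ext h)
  obtain ⟨t₀, ht₀, ht₀v⟩ := hsurj _ hv' _ (hC (hCinv _ (G.inv_mem hg) c hc))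
  set t' : G := ⟨g * t₀ * g⁻¹, G.mul_mem (G.mul_mem hg (hT.le ht₀)) (G.inv_mem hg)⟩ with ht'
  have ht'v : (t' : MulAut E) v = v * c := by
    show g (t₀ (g⁻¹ v)) = v * c
    rw [ht₀v, map_mul, hinj', hinj']
  have ht'H : t' ∈ H := by
    show v⁻¹ * (t' : MulAut E) v ∈ C
    rw [ht'v, inv_mul_cancel_left]; exact hc
  have ht'p : IsPGroup p (Subgroup.zpowers (⟨t', ht'H⟩ : H)) := by
    obtain ⟨k, hk⟩ := hT.isPGroup ⟨t₀, ht₀⟩
    have h1 : t₀ ^ p ^ k = 1 := congrArg Subtype.val hk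
    have h2 : (⟨t', ht'H⟩ : H) ^ p ^ k = 1 := by
      refine Subtype.ext (Subtype.ext ?_)
      show (g * t₀ * g⁻¹) ^ p ^ k = 1
      rw [conj_pow, h1]; group
    rintro ⟨x, hx⟩
    obtain ⟨n, rfl⟩ := hx
    refine ⟨k, Subtype.ext ?_⟩
    show ((⟨t', ht'H⟩ : H) ^ n) ^ p ^ k = 1
    rw [← zpow_natCast, ← zpow_mul, mul_comm, zpow_mul, zpow_natCast, h2, one_zpow]
  obtain ⟨R, hR⟩ := ht'p.exists_le_sylow
  have hPH' : IsPGroup p ((P : Subgroup G).subgroupOf H) := P.isPGroup'.comap_subtype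
  let PH : Sylow p H :=
    { toSubgroup := (P : Subgroup G).subgroupOf H
      isPGroup' := hPH'
      is_maximal' := fun {Q} hQ hle => by
        refine le_antisymm (fun x hx => ?_) hle
        have h1 : Q.map H.subtype = P := P.is_maximal' (hQ.map _) fun y hy =>
          ⟨⟨y, hPH hy⟩, hle hy, rfl⟩
        exact h1.le ⟨x, hx, rfl⟩ }
  obtain ⟨h, hh⟩ := MulAction.exists_smul_eq H PH R
  have hmem : (⟨t', ht'H⟩ : H) ∈ ((h • PH : Sylow p H) : Subgroup H) :=
    hh ▸ hR (Subgroup.mem_zpowers _)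
  rw [Sylow.coe_subgroup_smul, Subgroup.mem_pointwise_smul_iff_inv_smul_mem] at hmem
  have hs : ((h : G) : MulAut E)⁻¹ * (t' : MulAut E) * ((h : G) : MulAut E) ∈ T := by
    have h1 : (h⁻¹ * ⟨t', ht'H⟩ * h : H) ∈ (P : Subgroup G).subgroupOf H := by
      simpa using hmem
    have h2 : (((h⁻¹ * ⟨t', ht'H⟩ * h : H) : G)) ∈ (P : Subgroup G) := h1
    rw [hP] at h2
    exact h2
  set s := ((h : G) : MulAut E)⁻¹ * (t' : MulAut E) * ((h : G) : MulAut E) with hsdef
  have ht₀1 : t₀ ≠ 1 := fun h1 => by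
    rw [h1, MulAut.one_apply] at ht₀v
    have h2 : g⁻¹ c = 1 := by simpa using ht₀v.symm
    exact hc1 (by simpa [hinj'] using congrArg g h2)
  set m : MulAut E := g⁻¹ * ((h : G) : MulAut E) with hm
  have hmG : m ∈ G := G.mul_mem (G.inv_mem hg) (h : G).2
  have hmZ : ∀ z ∈ Z, m z ∈ Z := by
    intro z hz
    by_contra hnot
    refine ht₀1 (hfree t₀ ht₀ _ hnot ?_)
    have h1 : m * s = t₀ * m := by
      simp only [hm, hsdef, ht']
      group
    have h2 := DFunLike.congr_fun h1 z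
    rw [MulAut.mul_apply, MulAut.mul_apply, hfix s hs z hz] at h2
    exact h2.symm
  -- so the whole translate of `T` stabilises the coset
  have hall : ∀ t ∈ T, v⁻¹ * g (t (g⁻¹ v)) ∈ C := by
    intro t ht
    have hminv : ∀ z ∈ Z, m⁻¹ z ∈ Z := by
      intro z hz
      have hle : Z.map m.toMonoidHom ≤ Z := by rintro _ ⟨y, hy, rfl⟩; exact hmZ y hy
      have heq : Z.map m.toMonoidHom = Z := Subgroup.eq_of_le_of_card_ge hle
        (le_of_eq (Nat.card_congr (Z.equivMapOfInjective m.toMonoidHom m.injective).toEquiv))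
      obtain ⟨y, hy, rfl⟩ := heq.ge hz
      show m⁻¹ (m y) ∈ Z
      rwa [hinj]
    have ht2 := stab _ (G.inv_mem hmG) hminv t ht
    rw [inv_inv] at ht2
    have h3 : (⟨m⁻¹ * t * m, G.mul_mem (G.mul_mem (G.inv_mem hmG) (hT.le ht)) hmG⟩ : G) ∈ H :=
      hPH (by rw [hP]; exact ht2)
    have h4 := H.mul_mem (H.mul_mem h.2 h3) (H.inv_mem h.2)
    have h5 : ((h : G) : MulAut E) * (m⁻¹ * t * m) * ((h : G) : MulAut E)⁻¹ = g * t * g⁻¹ := by
      simp only [hm]; group
    have h6 : v⁻¹ * (((h : G) : MulAut E) * (m⁻¹ * t * m) * ((h : G) : MulAut E)⁻¹) v ∈ C := h4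
    rw [h5] at h6
    exact h6
  refine hgZ fun z hz => ?_
  obtain ⟨t, ht, htv⟩ := hsurj _ hv' z hz
  have := hall t ht
  rw [htv, map_mul, hinj', inv_mul_cancel_left] at this
  exact hC this

end Key

variable {Ω : Type*} [Group Ω] {S : Subgroup Ω} {F : FusionSystem S} [Finite S] {p : ℕ}
  [Fact p.Prime] {P : Subgroup Ω}

/-- A centric radical subgroup contains whatever normalises it and stabilises an invariant series. -/
theorem mem_of_stabilizes (hS : IsPGroup p S) (hC : F.IsCentric P) (hR : F.IsRadical p P)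
    {W : Subgroup Ω} (hW : ∀ α ∈ F.autGroup P, ∀ w ∈ P, w ∈ W → av α w ∈ W)
    {a : Ω} (ha : a ∈ normalizerIn S P) (hfix : ∀ w ∈ P, w ∈ W → a * w * a⁻¹ = w)
    (hcomm : ∀ x ∈ P, x⁻¹ * (a * x * a⁻¹) ∈ W) : a ∈ P := by
  haveI := finite_of_le hC.1
  haveI := mulAut_finite_of_le hC.1
  have hPp : IsPGroup p P := hS.to_le hC.1
  let A : Subgroup (F.autGroup P) :=
    { carrier := {α | (∀ w ∈ P, w ∈ W → av (α : MulAut P) w = w) ∧ ∀ x ∈ P, x⁻¹ * av (α : MulAut P) x ∈ W}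
      one_mem' := ⟨fun w hw _ => av_one hw, fun x hx => by
        show x⁻¹ * av (1 : MulAut P) x ∈ W
        rw [av_one hx, inv_mul_cancel]; exact W.one_mem⟩
      mul_mem' := by
        rintro α β ⟨hα, hα'⟩ ⟨hβ, hβ'⟩
        refine ⟨fun w hw hwW => ?_, fun x hx => ?_⟩
        · show av ((α : MulAut P) * (β : MulAut P)) w = w
          rw [av_mul _ _ hw, hβ w hw hwW, hα w hw hwW]
        · show x⁻¹ * av ((α : MulAut P) * (β : MulAut P)) x ∈ W
          rw [av_mul _ _ hx]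
          have := W.mul_mem (hβ' x hx) (hα' _ (av_mem (β : MulAut P) hx))
          simpa [mul_assoc] using this
      inv_mem' := by
        rintro α ⟨hα, hα'⟩
        refine ⟨fun w hw hwW => ?_, fun x hx => ?_⟩
        · show av (α : MulAut P)⁻¹ w = w
          conv_lhs => rw [← hα w hw hwW]
          exact av_inv_av _ hw
        · show x⁻¹ * av (α : MulAut P)⁻¹ x ∈ W
          have := W.inv_mem (hα' _ (av_mem (α : MulAut P)⁻¹ hx))
          rw [av_av_inv _ hx, mul_inv_rev, inv_inv] at this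
          exact this }
  haveI hAn : A.Normal := by
    constructor
    rintro α ⟨hα, hα'⟩ γ
    refine ⟨fun w hw hwW => ?_, fun x hx => ?_⟩
    · show av ((γ : MulAut P) * (α : MulAut P) * (γ : MulAut P)⁻¹) w = w
      rw [av_mul _ _ hw, av_mul _ _ (av_mem _ hw),
        hα _ (av_mem _ hw) (hW _ (Subgroup.inv_mem _ γ.2) w hw hwW), av_av_inv _ hw]
    · show x⁻¹ * av ((γ : MulAut P) * (α : MulAut P) * (γ : MulAut P)⁻¹) x ∈ W
      have hy : av (γ : MulAut P)⁻¹ x ∈ P := av_mem _ hx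
      have hb : av (α : MulAut P) (av (γ : MulAut P)⁻¹ x) ∈ P := av_mem _ hy
      have h2 := hW _ γ.2 _ (P.mul_mem (P.inv_mem hy) hb) (hα' _ hy)
      rw [(map_of_mem_autGroup hC.1 γ.2).map_mul (P.inv_mem hy) hb,
        (map_of_mem_autGroup hC.1 γ.2).map_inv hy, av_av_inv _ hx] at h2
      rwa [av_mul _ _ hx, av_mul _ _ hy]
  have hAp : IsPGroup p A := by
    rintro ⟨⟨α, hαF⟩, hα⟩
    obtain ⟨hα1, hα2⟩ := hα
    let C : ℕ → Subgroup Ω := fun i => if i = 0 then ⊥ else if i = 1 then W ⊓ P else P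
    have hmono : Monotone C := monotone_nat_of_le_succ fun i => by
      rcases i with _ | _ | i <;> simp [C]
    obtain ⟨k, hk⟩ := exists_pow_eq_one_of_stabilizes hPp C 2 (by simp [C]) (by simp [C]) hmono (by
      intro i hi x hx hxC
      rcases i with _ | _ | i
      · simp only [C, zero_add, one_ne_zero, if_false, if_true] at hxC ⊢
        rw [hα1 x hx hxC.1, inv_mul_cancel]; exact Subgroup.one_mem _
      · simp only [C, zero_add, one_ne_zero, if_false, if_true]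
        exact ⟨hα2 x hx, P.mul_mem (P.inv_mem hx) (av_mem _ hx)⟩
      · omega)
    exact ⟨k, Subtype.ext (Subtype.ext hk)⟩
  obtain ⟨β, hβ, hβS⟩ := exists_aut_conj ha.2
  have hβF : β ∈ F.autGroup P := autInducedBy_le_autGroup hC.1 (hβS S ha.1)
  have hβA : (⟨β, hβF⟩ : F.autGroup P) ∈ A :=
    ⟨fun w hw hwW => by rw [hβ w hw, hfix w hw hwW], fun x hx => by rw [hβ x hx]; exact hcomm x hx⟩
  have hin : β ∈ Inn P := by
    rw [← hR.2]
    exact ⟨⟨β, hβF⟩, le_pCore hAp hβA, rfl⟩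
  obtain ⟨y, hy, hyβ⟩ := mem_Inn.1 hin
  have hc : y⁻¹ * a ∈ centralizerIn S P := by
    refine mem_centralizerIn.2 ⟨S.mul_mem (S.inv_mem (hC.1 hy)) ha.1, fun x hx => ?_⟩
    have h1 := (hβ x hx).symm.trans (hyβ x hx)
    calc x * (y⁻¹ * a) = y⁻¹ * (y * x * y⁻¹) * a := by group
      _ = y⁻¹ * (a * x * a⁻¹) * a := by rw [h1]
      _ = _ := by group
  simpa using P.mul_mem hy (hC.2 P (isConj_refl hC.1) hc)

/-- Over such a group a saturated system with nontrivial core is constrained. -/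
theorem constrained_of_heisLike (hS : IsPGroup p S) (hF : F.IsSaturated p) (hX : HeisLike ↥S)
    (hQ : F.core ≠ ⊥) : F.IsConstrained p := by
  refine ⟨hF, ?_⟩
  obtain ⟨Z₀, hcen, hcom, hsur, hab⟩ := hX
  set Z := Z₀.map S.subtype with hZ
  have hmemZ : ∀ {x : Ω} (hx : x ∈ S), x ∈ Z ↔ (⟨x, hx⟩ : S) ∈ Z₀ := fun hx => by
    rw [hZ, Subgroup.mem_map]
    exact ⟨fun ⟨y, hy, he⟩ => (Subtype.ext he : y = ⟨_, hx⟩) ▸ hy, fun h => ⟨_, h, rfl⟩⟩
  have hZS : Z ≤ S := Subgroup.map_subtype_le _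
  have hZc : ∀ z ∈ Z, ∀ s ∈ S, z * s = s * z := fun z hz s hs =>
    congrArg Subtype.val (hcen _ ((hmemZ (hZS hz)).1 hz) ⟨s, hs⟩)
  have hcm : ∀ a ∈ S, ∀ b ∈ S, a * b * a⁻¹ * b⁻¹ ∈ Z := fun a ha b hb =>
    (hmemZ (S.mul_mem (S.mul_mem (S.mul_mem ha hb) (S.inv_mem ha)) (S.inv_mem hb))).2
      (hcom ⟨a, ha⟩ ⟨b, hb⟩)
  have hcm' : ∀ a ∈ S, ∀ x ∈ S, x⁻¹ * (a * x * a⁻¹) ∈ Z := fun a ha x hx => by
    have h1 := hcm a ha x hx
    have h2 := hZc _ h1 x hx
    have : x⁻¹ * (a * x * a⁻¹) = a * x * a⁻¹ * x⁻¹ := by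
      have : a * x * a⁻¹ = x * (a * x * a⁻¹ * x⁻¹) := by rw [← h2]; group
      conv_lhs => rw [this]
      rw [inv_mul_cancel_left]
    rwa [this]
  have hQn := core_normal hS hF (F := F)
  set Q := F.core
  have hQsc := normal_stronglyClosed hQn
  -- essential subgroups
  have hess : ∀ P, F.IsEssential p P → ∃ e ∈ Q, e ∈ P ∧ e ∉ Z ∧
      ∀ x, x ∈ P ↔ x ∈ S ∧ x * e = e * x := by
    intro P hP
    have hlt := lt_of_essential hS hF hP
    obtain ⟨hPC, hPR⟩ := gen_centric_radical hS hF (Or.inr hP)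
    have hZP : Z ≤ P := fun z hz => hPC.2 P (isConj_refl hPC.1)
      (mem_centralizerIn.2 ⟨hZS hz, fun x hx => (hZc z hz x (hPC.1 hx)).symm⟩)
    have hnorm : ∀ a ∈ S, a ∈ normalizerIn S P := fun a ha =>
      ⟨ha, mem_normalizer_of_conj_mem hPC.1 fun x hx => by
        have := P.mul_mem hx (hZP (hcm' a ha x (hPC.1 hx)))
        rwa [mul_inv_cancel_left] at this⟩
    obtain ⟨a, haS, haP⟩ := SetLike.exists_of_lt hlt
    obtain ⟨c, hcC, hcZ⟩ : ∃ c ∈ centralizerIn S P, c ∉ Z := by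
      by_contra hall
      push Not at hall
      refine haP (mem_of_stabilizes hS hPC hPR (W := Z) (fun α hα w hw hwZ => ?_) (hnorm a haS)
        (fun w _ hwZ => ?_) fun x hx => hcm' a haS x (hPC.1 hx))
      · have hm := map_of_mem_autGroup hPC.1 hα
        refine hall _ (mem_centralizerIn.2 ⟨hm.mem hw, fun y hy => ?_⟩)
        have h1 : av α⁻¹ y * w = w * av α⁻¹ y :=
          (hZc w hwZ _ (hPC.1 (av_mem _ hy))).symm
        have h2 := congrArg (av α) h1
        rw [hm.map_mul (av_mem _ hy) hw, hm.map_mul hw (av_mem _ hy), av_av_inv _ hy] at h2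
        exact h2
      · rw [← hZc w hwZ a haS]; group
    have hcS := (mem_centralizerIn.1 hcC).1
    have hcP : c ∈ P := hPC.2 P (isConj_refl hPC.1) hcC
    have hco : ∀ x ∈ P, x * c = c * x := (mem_centralizerIn.1 hcC).2
    have habc : ∀ e ∈ S, e ∉ Z → ∀ a ∈ S, ∀ b ∈ S, a * e = e * a → b * e = e * b → a * b = b * a :=
      fun e he heZ a ha b hb h1 h2 => congrArg Subtype.val
        (hab ⟨e, he⟩ (fun h => heZ ((hmemZ he).2 h)) ⟨a, ha⟩ ⟨b, hb⟩ (Subtype.ext h1) (Subtype.ext h2))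
    have hPab : ∀ x ∈ P, ∀ y ∈ P, x * y = y * x := fun x hx y hy =>
      habc c hcS hcZ x (hPC.1 hx) y (hPC.1 hy) (hco x hx) (hco y hy)
    have hPeq : ∀ e ∈ P, e ∉ Z → ∀ x, x ∈ P ↔ x ∈ S ∧ x * e = e * x := fun e he heZ x =>
      ⟨fun hx => ⟨hPC.1 hx, hPab x hx e he⟩, fun ⟨hxS, hxe⟩ =>
        hPC.2 P (isConj_refl hPC.1) (mem_centralizerIn.2 ⟨hxS, fun y hy =>
          habc e (hPC.1 he) heZ y (hPC.1 hy) x hxS (hPab y hy e he) hxe⟩)⟩
    have hQP : Q ≤ P := normal_le_centric_radical hS hQn hPC hPR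
    by_cases hQZ : Q ≤ Z
    swap
    · obtain ⟨e, heQ, heZ⟩ := SetLike.not_le_iff_exists.1 hQZ
      exact ⟨e, heQ, hQP heQ, heZ, hPeq e (hQP heQ) heZ⟩
    exfalso
    haveI := finite_of_le hPC.1
    haveI := mulAut_finite_of_le hPC.1
    obtain ⟨-, hsyl⟩ := fa_iff.1 (fc_fa_of_fn hS hF hP.2.1).2
    have hT : ∀ t ∈ autInducedBy S P, ∃ s ∈ S, ∀ x ∈ P, av t x = s * x * s⁻¹ :=
      fun t ht => mem_autInducedBy.1 ht
    have hav : ∀ (t : MulAut P) (x : P), av t (x : Ω) = (t x : Ω) := fun t x => av_coe t x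
    have key := conj_mem_of_invariant (hS.to_le hPC.1) (F.autGroup P) (autInducedBy S P) hsyl
      (Z.subgroupOf P) (Q.subgroupOf P) (Subgroup.comap_mono hQZ)
      (fun h => hQ (by
        rw [← Subgroup.map_subgroupOf_eq_of_le hQP, h, Subgroup.map_bot]))
      (fun α hα x hx => by
        show ((α x : P) : Ω) ∈ Q
        rw [← hav]
        exact stronglyClosed_map hQsc (map_of_mem_autGroup hPC.1 hα) x.2 hx)
      (fun t ht z hz => by
        obtain ⟨s, hs, h⟩ := hT t ht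
        apply Subtype.ext
        rw [← hav, h z z.2, ← hZc z hz s hs]; group)
      (fun t ht x => by
        obtain ⟨s, hs, h⟩ := hT t ht
        show (x : Ω)⁻¹ * (t x : Ω) ∈ Z
        rw [← hav, h x x.2]
        exact hcm' s hs x (hPC.1 x.2))
      (fun x hx z hz => by
        obtain ⟨s, hs⟩ := hsur ⟨x, hPC.1 x.2⟩ (fun h => hx ((hmemZ (hPC.1 x.2)).2 h))
          ⟨z, hPC.1 z.2⟩ ((hmemZ (hPC.1 z.2)).1 hz)
        obtain ⟨β, hβ, hβS⟩ := exists_aut_conj (hnorm s s.2).2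
        refine ⟨β, hβS S s.2, Subtype.ext ?_⟩
        rw [← hav, hβ x x.2]
        exact congrArg Subtype.val hs)
      (fun t ht x hx htx => by
        obtain ⟨s, hs, h⟩ := hT t ht
        have h1 : s * x * s⁻¹ = x := by rw [← h x x.2, hav, htx]
        have hsP : s ∈ P := (hPeq x x.2 hx s).2 ⟨hs, mul_inv_eq_iff_eq_mul.1 h1⟩
        refine aut_ext fun y hy => ?_
        rw [h y hy, hPab s hsP y hy, av_one hy]; group)
    have hn : ((autInducedBy S P).subgroupOf (F.autGroup P)).Normal :=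
      ⟨fun x hx g => key g g.2 x hx⟩
    obtain ⟨β, hβ, hβS⟩ := exists_aut_conj (hnorm a haS).2
    have hin : β ∈ Inn P := by
      rw [← hPR.2]
      exact ⟨⟨β, autInducedBy_le_autGroup hPC.1 (hβS S haS)⟩,
        le_pCore (hn := hn) hsyl.isPGroup.comap_subtype (hβS S haS), rfl⟩
    obtain ⟨y, hy, hyβ⟩ := mem_Inn.1 hin
    refine haP ((hPeq c hcP hcZ a).2 ⟨haS, mul_inv_eq_iff_eq_mul.1 ?_⟩)
    rw [← hβ c hcP, hyβ c hcP, hPab y hy c hcP]; group
  by_cases hex : ∃ P, F.IsEssential p P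
  · obtain ⟨P, hP⟩ := hex
    obtain ⟨hPC, -⟩ := gen_centric_radical hS hF (Or.inr hP)
    obtain ⟨e, heQ, heP, heZ, hPeq⟩ := hess P hP
    refine ⟨P, normal_of_gen hS hF hPC.1 fun R hR => ?_, hPC⟩
    have hu : ∀ R, F.IsEssential p R → R = P := by
      intro R hR
      obtain ⟨e', he'Q, he'R, he'Z, hReq⟩ := hess R hR
      obtain ⟨hRC, hRR⟩ := gen_centric_radical hS hF (Or.inr hR)
      have he : e ∈ R := normal_le_centric_radical hS hQn hRC hRR heQ
      have he'P : e' ∈ P :=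
        normal_le_centric_radical hS hQn hPC (gen_centric_radical hS hF (Or.inr hP)).2 he'Q
      ext x
      rw [hReq, hPeq]
      refine and_congr_right fun hx => ⟨fun h => ?_, fun h => ?_⟩
      · exact congrArg Subtype.val (hab ⟨e', hRC.1 he'R⟩ (fun h' => he'Z ((hmemZ _).2 h'))
          ⟨x, hx⟩ ⟨e, hPC.1 heP⟩ (Subtype.ext h) (Subtype.ext (((hReq e).1 he).2)))
      · exact congrArg Subtype.val (hab ⟨e, hPC.1 heP⟩ (fun h' => heZ ((hmemZ _).2 h'))
          ⟨x, hx⟩ ⟨e', hRC.1 he'R⟩ (Subtype.ext h) (Subtype.ext (((hPeq e').1 he'P).2)))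
    rcases hR with rfl | hR
    · refine ⟨hPC.1, fun α hα x hx => ?_⟩
      have hm := map_of_mem_autGroup (le_refl R) hα
      have hxS := hPC.1 hx
      have heS := hPC.1 heP
      have he' : av α⁻¹ e ∈ Q := stronglyClosed_map hQsc
        (map_of_mem_autGroup (le_refl R) (Subgroup.inv_mem _ hα)) heS heQ
      have he'P : av α⁻¹ e ∈ P :=
        normal_le_centric_radical hS hQn hPC (gen_centric_radical hS hF (Or.inr hP)).2 he'
      have habP : x * av α⁻¹ e = av α⁻¹ e * x := congrArg Subtype.val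
        (hab ⟨e, heS⟩ (fun h' => heZ ((hmemZ _).2 h')) ⟨x, hxS⟩ ⟨_, hPC.1 he'P⟩
          (Subtype.ext ((hPeq x).1 hx).2) (Subtype.ext ((hPeq _).1 he'P).2))
      refine (hPeq _).2 ⟨hm.mem hxS, ?_⟩
      have h2 := congrArg (av α) habP
      rwa [hm.map_mul hxS (hPC.1 he'P), hm.map_mul (hPC.1 he'P) hxS, av_av_inv _ heS] at h2
    · rw [hu R hR]
      exact ⟨le_rfl, fun α _ x hx => av_mem α hx⟩
  · refine ⟨S, normal_of_gen hS hF le_rfl fun R hR => ?_, (gen_centric_radical hS hF (Or.inl rfl)).1⟩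
    rcases hR with rfl | hR
    · exact ⟨le_rfl, fun α _ x hx => av_mem α hx⟩
    · exact absurd ⟨R, hR⟩ hex

/-- A constrained system is not exotic. -/
theorem not_exotic_of_constrained {Ω : Type*} [Group Ω] {S : Subgroup Ω} {F : FusionSystem S}
    [Finite S] (hS : IsPGroup p S) (hF : F.IsSaturated p) (h : F.IsConstrained p) :
    ¬ F.IsExotic p := by
  obtain ⟨-, Q, hQn, hQc⟩ := h
  obtain ⟨G, _, ι, hm⟩ := exists_model hS hF hQn hQc
  exact fun hex => hex.2 ⟨G, inferInstance, hm.1, ι, hm.2.1, hm.2.2.1⟩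

end Cfsg.Agent.Local.FS
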