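import Cfsg.Agent.Lib.Local.StrongEmb
import Cfsg.Agent.Lib.Local.FS.Aut
import Cfsg.Agent.Lib.Solv.UniqueSub
import Cfsg.Agent.Lib.Solv.Kulakoff
import Cfsg.Prelude.Def_Transfer
import Cfsg.Prelude.Def_KGroupFacts

/-!
Essential subgroups of order `p³`.
-/

set_option autoImplicit false

open scoped commutatorElement

namespace Cfsg.Agent.Local.FS

open Cfsg

variable {H : Type*} [Group H] [Finite H] {p : ℕ} [hp : Fact p.Prime]

/-- `γ` acts trivially on the section `L/K`. -/
def TrivOn (K L : Subgroup H) (γ : MulAut H) : Prop := ∀ x ∈ L, x⁻¹ * γ x ∈ K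

theorem trivOn_commutator {K L : Subgroup H} [hK : K.Characteristic] [hL : L.Characteristic]
    (hcyc : ∃ l ∈ L, L ≤ Subgroup.zpowers l ⊔ K) (α β : MulAut H) : TrivOn K L ⁅α, β⁆ := by
  obtain ⟨l, hl, hgen⟩ := hcyc
  have hKmem : ∀ (γ : MulAut H) {x : H}, x ∈ K → γ x ∈ K := fun γ x hx => by
    rw [← Subgroup.characteristic_iff_map_eq.1 hK γ]; exact ⟨x, hx, rfl⟩
  have hLmem : ∀ (γ : MulAut H) {x : H}, x ∈ L → γ x ∈ L := fun γ x hx => by
    rw [← Subgroup.characteristic_iff_map_eq.1 hL γ]; exact ⟨x, hx, rfl⟩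
  let π := QuotientGroup.mk' K
  have hπ : ∀ {x : H}, x ∈ L → ∃ i : ℤ, π x = π l ^ i := by
    intro x hx
    obtain ⟨y, hy, k, hk, rfl⟩ := Subgroup.mem_sup_of_normal_right.1 (hgen hx)
    obtain ⟨i, rfl⟩ := Subgroup.mem_zpowers_iff.1 hy
    exact ⟨i, by rw [map_mul, map_zpow, show π k = 1 from (QuotientGroup.eq_one_iff k).2 hk, mul_one]⟩
  have hpw : ∀ (γ : MulAut H) {x : H} {i : ℤ}, π x = π l ^ i → π (γ x) = π (γ l) ^ i := by
    intro γ x i h
    rw [← map_zpow] at h
    have h1 : x⁻¹ * l ^ i ∈ K := QuotientGroup.eq.1 h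
    have h2 := hKmem γ h1
    rw [map_mul, map_inv, map_zpow] at h2
    rw [← map_zpow]
    exact QuotientGroup.eq.2 h2
  have hcomm : ∀ {x : H}, x ∈ L → π (α (β x)) = π (β (α x)) := by
    intro x hx
    obtain ⟨i, hi⟩ := hπ hx
    obtain ⟨j, hj⟩ := hπ (hLmem α hl)
    obtain ⟨k, hk⟩ := hπ (hLmem β hl)
    rw [hpw α (hpw β hi |>.trans (by rw [hk, ← zpow_mul])), hpw β (hpw α hi |>.trans (by rw [hj, ← zpow_mul])), hj, hk,
      ← zpow_mul, ← zpow_mul]
    congr 1
    ring
  intro x hx
  have h := hcomm (hLmem α⁻¹ (hLmem β⁻¹ hx))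
  simp only [MulAut.apply_inv_self] at h
  have h' : π x = π (α (β (α⁻¹ (β⁻¹ x)))) := by rw [h]
  rw [show (⁅α, β⁆ : MulAut H) x = α (β (α⁻¹ (β⁻¹ x))) by rw [commutatorElement_def]; rfl]
  exact QuotientGroup.eq.1 h'

omit [Finite H] in
theorem trivOn_of_mem {K L : Subgroup H} [hK : K.Characteristic] [hL : L.Characteristic]
    (h : ∀ α β : MulAut H, TrivOn K L ⁅α, β⁆) {γ : MulAut H} (hγ : γ ∈ commutator (MulAut H)) :
    TrivOn K L γ := by
  have hKmem : ∀ (γ : MulAut H) {x : H}, x ∈ K → γ x ∈ K := fun γ x hx => by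
    rw [← Subgroup.characteristic_iff_map_eq.1 hK γ]; exact ⟨x, hx, rfl⟩
  have hLmem : ∀ (γ : MulAut H) {x : H}, x ∈ L → γ x ∈ L := fun γ x hx => by
    rw [← Subgroup.characteristic_iff_map_eq.1 hL γ]; exact ⟨x, hx, rfl⟩
  rw [commutator_eq_closure] at hγ
  refine Subgroup.closure_induction (fun g hg => ?_) (fun x _ => by simp)
    (fun a b _ _ ha hb x hx => ?_) (fun a _ ha x hx => ?_) hγ
  · obtain ⟨α, β, rfl⟩ := hg
    exact h α β
  · have := mul_mem (hb x hx) (ha _ (hLmem b hx))
    simpa [mul_assoc] using this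
  · have := inv_mem (ha _ (hLmem a⁻¹ hx))
    simpa using this

/-- The commutator of the automorphism group is a `p`-group when there is a characteristic chain. -/
theorem isPGroup_commutator (hH : IsPGroup p H) (Z M : Subgroup H) [Z.Characteristic] [M.Characteristic]
    (hZM : Z ≤ M) (hZ : Nat.card Z = p) (hM : Nat.card M = p ^ 2) (hcard : Nat.card H = p ^ 3) :
    IsPGroup p (commutator (MulAut H)) := by
  have hp' := hp.out
  have hgen : ∀ {K L : Subgroup H}, K ≤ L → Nat.card L = Nat.card K * p → ∃ l ∈ L, L ≤ Subgroup.zpowers l ⊔ K := by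
    intro K L hKL hc
    obtain ⟨l, hlL, hlK⟩ : ∃ l ∈ L, l ∉ K := by
      by_contra h
      push Not at h
      have h0 : Nat.card L ≤ Nat.card K := Subgroup.card_le_of_le h
      rw [hc] at h0
      nlinarith [hp'.two_le, Nat.card_pos (α := K)]
    refine ⟨l, hlL, ?_⟩
    have hle : Subgroup.zpowers l ⊔ K ≤ L := sup_le (Subgroup.zpowers_le.2 hlL) hKL
    refine (Subgroup.eq_of_le_of_card_ge hle ?_).ge
    obtain ⟨a, ha⟩ := IsPGroup.iff_card.1 (hH.to_subgroup (Subgroup.zpowers l ⊔ K))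
    obtain ⟨b, hb⟩ := IsPGroup.iff_card.1 (hH.to_subgroup K)
    have hlt : Nat.card K < Nat.card (Subgroup.zpowers l ⊔ K : Subgroup H) := by
      refine lt_of_le_of_ne (Subgroup.card_le_of_le le_sup_right) fun h => hlK ?_
      rw [Subgroup.eq_of_le_of_card_ge le_sup_right h.ge]
      exact Subgroup.mem_sup_left (Subgroup.mem_zpowers l)
    rw [ha, hb] at hlt
    rw [hc, ha, hb, ← pow_succ]
    exact Nat.pow_le_pow_right hp'.pos ((Nat.pow_lt_pow_iff_right hp'.one_lt).1 hlt)
  have h1 : ∀ γ ∈ commutator (MulAut H), TrivOn ⊥ Z γ := fun γ hγ => trivOn_of_mem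
    (trivOn_commutator (hgen bot_le (by rw [hZ, Subgroup.card_bot, one_mul]))) hγ
  have h2 : ∀ γ ∈ commutator (MulAut H), TrivOn Z M γ := fun γ hγ => trivOn_of_mem
    (trivOn_commutator (hgen hZM (by rw [hM, hZ, sq]))) hγ
  have h3 : ∀ γ ∈ commutator (MulAut H), TrivOn M ⊤ γ := fun γ hγ => trivOn_of_mem
    (trivOn_commutator (hgen le_top (by rw [Subgroup.card_top, hcard, hM, ← pow_succ]))) hγ
  haveI : Finite (MulAut H) := Finite.of_injective (fun a : MulAut H => (a : H → H)) DFunLike.coe_injective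
  refine IsPGroup.iff_card.2 ⟨_, (Nat.eq_prime_pow_of_unique_prime_dvd Nat.card_pos.ne' fun {q} hq hdvd => ?_)⟩
  by_contra hqp
  haveI := Fact.mk hq
  obtain ⟨⟨γ, hγ⟩, hγo⟩ := exists_prime_orderOf_dvd_card' (G := commutator (MulAut H)) q hdvd
  rw [Subgroup.orderOf_mk] at hγo
  have hγq : γ ^ q = 1 := hγo ▸ pow_orderOf_eq_one γ
  have step : ∀ x, γ (x⁻¹ * γ x) = x⁻¹ * γ x → γ x = x := by
    intro x hd
    generalize hdd : x⁻¹ * γ x = d at hd
    have hx : γ x = x * d := by rw [← hdd]; group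
    have hk : ∀ k : ℕ, (γ ^ k) x = x * d ^ k := by
      intro k
      induction k with
      | zero => simp
      | succ k ih => rw [pow_succ', MulAut.mul_apply, ih, map_mul, map_pow, hd, hx, pow_succ', mul_assoc]
    have h := hk q
    rw [hγq, MulAut.one_apply, left_eq_mul] at h
    obtain ⟨k, hk'⟩ := IsPGroup.iff_orderOf.1 hH d
    have hd1 : d = 1 := orderOf_eq_one_iff.1 (Nat.eq_one_of_dvd_coprimes
      ((Nat.coprime_primes hq hp').2 hqp |>.pow_right k) (orderOf_dvd_of_pow_eq_one h) hk'.dvd)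
    rw [hx, hd1, mul_one]
  have e1 : ∀ x ∈ Z, γ x = x := fun x hx => by
    have := h1 γ hγ x hx
    rw [Subgroup.mem_bot, inv_mul_eq_one] at this
    exact this.symm
  have e2 : ∀ x ∈ M, γ x = x := fun x hx => step x (e1 _ (h2 γ hγ x hx))
  have e3 : ∀ x, γ x = x := fun x => step x (e2 _ (h3 γ hγ x trivial))
  have : γ = 1 := MulEquiv.ext e3
  rw [this, orderOf_one] at hγo
  exact hq.ne_one hγo.symm

/-- A normal Sylow subgroup excludes strongly embedded subgroups. -/
theorem not_stronglyPEmbedded {X : Type*} [Group X] [Finite X] (h : IsPGroup p (commutator X))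
    {E : Subgroup X} : ¬ IsStronglyPEmbedded p E := by
  intro hE
  obtain ⟨hdvd, hEt, T, hT, hΓ⟩ := Local.isStronglyPEmbedded_iff.1 hE
  obtain ⟨P, hP⟩ := hT.exists_sylow
  have hle : commutator X ≤ T := by
    rw [← hP]
    exact le_sup_left.trans (P.3 (h.to_sup_of_normal_left P.isPGroup') le_sup_right).le
  have hT1 : T ≠ ⊥ := by
    intro hb
    have := hT.not_dvd
    rw [hb, Subgroup.relIndex_top_right, Subgroup.index_bot] at this
    exact this hdvd
  refine hEt (top_le_iff.1 ((fun x _ => hΓ T le_rfl hT1 ?_)))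
  refine Fusion.mem_normalizer_of_cj_le ?_
  rintro _ ⟨t, ht, rfl⟩
  show x * t * x⁻¹ ∈ T
  rw [show x * t * x⁻¹ = ⁅x, t⁆ * t by rw [commutatorElement_def]; group]
  exact mul_mem (hle (Subgroup.commutator_mem_commutator (Subgroup.mem_top x) (Subgroup.mem_top t))) ht

omit [Finite H] in
theorem characteristic_of_inv {K : Subgroup H} (h : ∀ (γ : MulAut H), ∀ x ∈ K, γ x ∈ K) : K.Characteristic :=
  Subgroup.characteristic_iff_map_le.2 fun γ => by rintro _ ⟨x, hx, rfl⟩; exact h γ x hx

/-- The classification of the groups of order `p³` without such a chain. -/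
theorem order_cube_cases (hcard : Nat.card H = p ^ 3) :
    (∃ Z M : Subgroup H, Z.Characteristic ∧ M.Characteristic ∧ Z ≤ M ∧ Nat.card Z = p ∧ Nat.card M = p ^ 2) ∨
      ((∀ x y : H, x * y = y * x) ∧ ∀ x : H, x ^ p = 1) ∨
      (Odd p ∧ IsExtraspecial p H ∧ ∀ x : H, x ^ p = 1) ∨ (p = 2 ∧ Nonempty (H ≃* QuaternionGroup 2)) := by
  have hp' := hp.out
  have hH : IsPGroup p H := IsPGroup.of_card hcard
  have hsub : ∀ K : Subgroup H, K ≠ ⊥ → K ≠ ⊤ → Nat.card K = p ∨ Nat.card K = p ^ 2 := by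
    intro K h1 h2
    obtain ⟨i, hi, hK⟩ := (Nat.dvd_prime_pow hp').1 (hcard ▸ K.card_subgroup_dvd_card)
    interval_cases i
    · exact absurd (Subgroup.card_eq_one.1 (by rw [hK, pow_zero])) h1
    · exact Or.inl (by rw [hK, pow_one])
    · exact Or.inr hK
    · exact absurd (Subgroup.card_eq_iff_eq_top K |>.1 (by rw [hK, hcard])) h2
  by_cases hab : ∀ x y : H, x * y = y * x
  · letI : CommGroup H := { (inferInstance : Group H) with mul_comm := hab }
    obtain ⟨f, hf⟩ : ∃ f : H →* H, f = powMonoidHom p := ⟨_, rfl⟩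
    have hfx : ∀ x, f x = x ^ p := fun x => by rw [hf]; rfl
    by_cases hexp : ∀ x : H, x ^ p = 1
    · exact Or.inr (Or.inl ⟨hab, hexp⟩)
    left
    push Not at hexp
    obtain ⟨x₀, hx₀⟩ := hexp
    have hprod : Nat.card f.ker * Nat.card f.range = p ^ 3 := by
      rw [← hcard, ← Subgroup.index_ker, Subgroup.card_mul_index]
    have hr1 : f.range ≠ ⊥ := fun h => hx₀ (by
      rw [← hfx, ← Subgroup.mem_bot, ← h]; exact ⟨x₀, rfl⟩)
    have hk1 : f.ker ≠ ⊥ := by
      intro h
      obtain ⟨z, hz⟩ := exists_prime_orderOf_dvd_card' (G := H) p (hcard ▸ dvd_pow_self p (by norm_num))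
      have h1 : z ∈ f.ker := by rw [MonoidHom.mem_ker, hfx, ← hz, pow_orderOf_eq_one]
      rw [h, Subgroup.mem_bot] at h1
      rw [h1, orderOf_one] at hz
      exact hp'.ne_one hz.symm
    have hchK : f.ker.Characteristic := characteristic_of_inv fun γ x hx => by
      rw [MonoidHom.mem_ker, hfx, ← map_pow, ← hfx, MonoidHom.mem_ker.1 hx, map_one]
    have hchR : f.range.Characteristic := characteristic_of_inv fun γ x hx => by
      obtain ⟨y, rfl⟩ := hx
      exact ⟨γ y, by rw [hfx, hfx, map_pow]⟩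
    have hkt : f.ker ≠ ⊤ := fun h => hx₀ (by rw [← hfx]; exact MonoidHom.mem_ker.1 (h ▸ Subgroup.mem_top x₀))
    rcases hsub _ hk1 hkt with hK | hK
    · -- kernel of order `p`
      have hR : Nat.card f.range = p ^ 2 := by
        rw [hK, pow_succ' p 2] at hprod
        exact Nat.eq_of_mul_eq_mul_left hp'.pos hprod
      refine ⟨f.ker, f.range, hchK, hchR, ?_, hK, hR⟩
      obtain ⟨z, hz⟩ := exists_prime_orderOf_dvd_card' (G := f.range) p (hR ▸ dvd_pow_self p two_ne_zero)
      have hzk : (z : H) ∈ f.ker := by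
        rw [MonoidHom.mem_ker, hfx, ← hz, ← Subgroup.orderOf_coe, pow_orderOf_eq_one]
      rw [show f.ker = Subgroup.zpowers (z : H) from (Subgroup.eq_of_le_of_card_ge
        (Subgroup.zpowers_le.2 hzk) (by rw [Nat.card_zpowers, Subgroup.orderOf_coe, hz, hK])).symm]
      exact Subgroup.zpowers_le.2 z.2
    · have hR : Nat.card f.range = p := by
        rw [hK, pow_succ p 2] at hprod
        exact Nat.eq_of_mul_eq_mul_left (pow_pos hp'.pos 2) hprod
      refine ⟨f.range, f.ker, hchR, hchK, ?_, hR, hK⟩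
      obtain ⟨z, hz⟩ := exists_prime_orderOf_dvd_card' (G := f.range) p hR.symm.dvd
      have hgen : f.range = Subgroup.zpowers (z : H) := (Subgroup.eq_of_le_of_card_ge
        (Subgroup.zpowers_le.2 z.2) (by rw [Nat.card_zpowers, Subgroup.orderOf_coe, hz, hR])).symm
      rw [hgen, Subgroup.zpowers_le, MonoidHom.mem_ker, hfx, ← hz, ← Subgroup.orderOf_coe, pow_orderOf_eq_one]
  -- non-abelian
  push Not at hab
  obtain ⟨a₀, b₀, hab₀⟩ := hab
  haveI : Nontrivial H := ⟨⟨a₀ * b₀, b₀ * a₀, hab₀⟩⟩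
  obtain ⟨Z, hZd⟩ : ∃ Z, Z = Subgroup.center H := ⟨_, rfl⟩
  have hZt : Z ≠ ⊤ := fun h => hab₀ (Subgroup.mem_center_iff.1 (hZd ▸ h ▸ Subgroup.mem_top b₀) a₀)
  have hquot : ∀ K : Subgroup H, K ≤ Z → ∀ l : H, Subgroup.zpowers l ⊔ K = ⊤ → False := by
    intro K hK l hl
    refine hab₀ ?_
    have hc : ∀ x : H, Commute x l := by
      intro x
      have hle : Subgroup.zpowers l ⊔ K ≤ Subgroup.centralizer ({l} : Set H) := sup_le
        (Subgroup.zpowers_le.2 (Subgroup.mem_centralizer_singleton_iff.2 rfl))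
        (fun k hk => Subgroup.mem_centralizer_singleton_iff.2
          (Subgroup.mem_center_iff.1 (hZd ▸ hK hk) l).symm)
      exact Subgroup.mem_centralizer_singleton_iff.1 (hle (hl ▸ Subgroup.mem_top x))
    have hall : ∀ x : H, x ∈ Subgroup.center H := fun x => by
      have hle : Subgroup.zpowers l ⊔ K ≤ Subgroup.center H :=
        sup_le (Subgroup.zpowers_le.2 (Subgroup.mem_center_iff.2 fun y => hc y)) (hZd ▸ hK)
      exact hle (hl ▸ Subgroup.mem_top x)
    exact Subgroup.mem_center_iff.1 (hall b₀) a₀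
  have hZ : Nat.card Z = p := by
    haveI := hH.center_nontrivial
    have hne : Z ≠ ⊥ := hZd ▸ (Subgroup.nontrivial_iff_ne_bot _).1 inferInstance
    refine (hsub Z hne hZt).resolve_right fun h2 => ?_
    obtain ⟨l, hl⟩ : ∃ l, l ∉ Z := by
      by_contra h; push Not at h; exact hZt (eq_top_iff.2 fun x _ => h x)
    refine hquot Z le_rfl l ?_
    have hne' : Subgroup.zpowers l ⊔ Z ≠ ⊥ := fun h => hne (le_bot_iff.1 (h ▸ le_sup_right))
    by_contra hnt
    have hlt : Nat.card Z < Nat.card (Subgroup.zpowers l ⊔ Z : Subgroup H) :=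
      lt_of_le_of_ne (Subgroup.card_le_of_le le_sup_right) fun h => hl (by
        rw [Subgroup.eq_of_le_of_card_ge le_sup_right h.ge]
        exact Subgroup.mem_sup_left (Subgroup.mem_zpowers l))
    rcases hsub _ hne' hnt with h | h <;> rw [h, h2] at hlt
    · exact absurd hlt (not_lt.2 (Nat.le_self_pow two_ne_zero p))
    · exact lt_irrefl _ hlt
  have hZchar : Z.Characteristic := hZd ▸ inferInstance
  haveI : Z.Normal := hZd ▸ inferInstance
  -- the central quotient is elementary abelian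
  have hQ : Nat.card (H ⧸ Z) = p ^ 2 := by
    have h := Z.card_eq_card_quotient_mul_card_subgroup
    rw [hZ, hcard, pow_succ] at h
    exact (Nat.eq_of_mul_eq_mul_right hp'.pos h).symm
  have hQc : ∀ a b : H ⧸ Z, a * b = b * a :=
    (IsPGroup.isMulCommutative_of_card_eq_prime_sq hQ).is_comm.comm
  have hcomZ : ∀ a b : H, ⁅a, b⁆ ∈ Z := fun a b => by
    refine (QuotientGroup.eq_one_iff _).1 ?_
    show (QuotientGroup.mk' Z) ⁅a, b⁆ = 1
    rw [map_commutatorElement, commutatorElement_eq_one_iff_mul_comm]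
    exact hQc _ _
  have hpZ : ∀ x : H, x ^ p ∈ Z := by
    intro x
    refine (QuotientGroup.eq_one_iff _).1 ?_
    rw [QuotientGroup.mk_pow]
    obtain ⟨i, hi, hx⟩ := (Nat.dvd_prime_pow hp').1 (hQ ▸ orderOf_dvd_natCard (QuotientGroup.mk x : H ⧸ Z))
    rcases Nat.lt_or_ge i 2 with h | h
    · refine orderOf_dvd_iff_pow_eq_one.1 (hx ▸ ?_)
      interval_cases i <;> simp
    · exfalso
      obtain rfl : i = 2 := by omega
      refine hquot Z le_rfl x (eq_top_iff.2 fun y _ => ?_)
      have htop : Subgroup.zpowers (QuotientGroup.mk x : H ⧸ Z) = ⊤ := by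
        rw [← Subgroup.card_eq_iff_eq_top, Nat.card_zpowers, hx, hQ]
      obtain ⟨j, hj⟩ := Subgroup.mem_zpowers_iff.1 (htop ▸ Subgroup.mem_top (QuotientGroup.mk y : H ⧸ Z))
      rw [← QuotientGroup.mk_zpow, QuotientGroup.eq] at hj
      rw [show y = x ^ j * ((x ^ j)⁻¹ * y) by group]
      exact Subgroup.mul_mem_sup (Subgroup.zpow_mem_zpowers x j) hj
  have hzp : ∀ z ∈ Z, z ^ p = 1 := fun z hz => by
    have := pow_card_eq_one' (x := (⟨z, hz⟩ : Z))
    rw [hZ] at this
    exact congrArg Subtype.val this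
  rcases hp'.eq_two_or_odd' with rfl | hodd
  · by_cases hinv : ∀ t : H, t ^ 2 = 1 → t ∈ Z
    · refine Or.inr (Or.inr (Or.inr ⟨rfl, ?_⟩))
      have hu : Solv.UniqueOrderP 2 H := by
        intro x y hx hy hy1
        have hgen : Subgroup.zpowers y = Z := Subgroup.eq_of_le_of_card_ge (Subgroup.zpowers_le.2 (hinv y hy))
          (by rw [Nat.card_zpowers, hZ, orderOf_eq_prime hy hy1])
        exact hgen ▸ hinv x hx
      rcases Solv.cyclic_or_quaternion hH hu with hc | ⟨-, n, ⟨e⟩⟩
      · exact absurd (IsCyclic.commutative.is_comm.comm a₀ b₀) hab₀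
      · have hcd := Nat.card_congr e.toEquiv
        rw [hcard, Nat.card_eq_fintype_card, QuaternionGroup.card] at hcd
        obtain rfl : n = 1 := Nat.pow_right_injective (le_refl 2) (show 2 ^ n = 2 ^ 1 by omega)
        exact ⟨e⟩
    push Not at hinv
    obtain ⟨t, ht, htZ⟩ := hinv
    left
    obtain ⟨x, hx⟩ : ∃ x : H, x ^ 2 ≠ 1 := by
      by_contra h
      push Not at h
      have hinv : ∀ u : H, u⁻¹ = u := fun u => inv_eq_of_mul_eq_one_right (by rw [← sq]; exact h u)
      refine hab₀ ?_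
      rw [← hinv (a₀ * b₀), mul_inv_rev, hinv, hinv]
    have hxZ : x ∉ Z := fun h => hx (hzp x h)
    have hxo : orderOf x = 4 := by
      have h4 : x ^ (2 ^ 2) = 1 := by rw [show 2 ^ 2 = 2 * 2 from rfl, pow_mul]; exact hzp _ (hpZ x)
      exact orderOf_eq_prime_pow (n := 1) (by simpa using hx) h4
    have hgenZ : Subgroup.zpowers (x ^ 2) = Z := Subgroup.eq_of_le_of_card_ge (Subgroup.zpowers_le.2 (hpZ x))
      (by rw [Nat.card_zpowers, hZ, orderOf_eq_prime (hzp _ (hpZ x)) hx])
    have htx : t ∉ Subgroup.zpowers x := by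
      intro h
      obtain ⟨i, rfl⟩ := mem_powers_iff_mem_zpowers.2 h
      simp only at ht htZ
      rw [← pow_mul] at ht
      have := orderOf_dvd_of_pow_eq_one ht
      rw [hxo] at this
      refine htZ ?_
      obtain ⟨j, rfl⟩ : 2 ∣ i := by omega
      rw [pow_mul]
      exact pow_mem (hpZ x) j
    have hinvt : t⁻¹ = t := inv_eq_of_mul_eq_one_right (by rw [← sq]; exact ht)
    have hconj : t * x * t⁻¹ = x⁻¹ := by
      obtain ⟨i, hi⟩ := Subgroup.mem_zpowers_iff.1 (hgenZ.ge (hcomZ t x))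
      rcases Int.even_or_odd i with ⟨j, rfl⟩ | ⟨j, rfl⟩
      · exfalso
        have h1 : ⁅t, x⁆ = 1 := by
          rw [← hi, show j + j = ((2 : ℕ) : ℤ) * j by push_cast; ring, zpow_mul, zpow_natCast,
            hzp _ (hpZ x), one_zpow]
        rw [commutatorElement_eq_one_iff_mul_comm] at h1
        have htop : Subgroup.zpowers x ⊔ Subgroup.zpowers t = ⊤ := by
          by_contra hnt
          rcases hsub _ (fun h => hxZ (by
              have h0 : x ∈ Subgroup.zpowers x ⊔ Subgroup.zpowers t := Subgroup.mem_sup_left (Subgroup.mem_zpowers x)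
              rw [h, Subgroup.mem_bot] at h0
              rw [h0]
              exact Z.one_mem)) hnt with h | h
          · have := Subgroup.card_le_of_le (le_sup_left (a := Subgroup.zpowers x) (b := Subgroup.zpowers t))
            rw [Nat.card_zpowers, hxo, h] at this
            omega
          · refine htx ?_
            rw [Subgroup.eq_of_le_of_card_ge (le_sup_left : Subgroup.zpowers x ≤ Subgroup.zpowers x ⊔ Subgroup.zpowers t)
              (by rw [h, Nat.card_zpowers, hxo]; norm_num)]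
            exact Subgroup.mem_sup_right (Subgroup.mem_zpowers t)
        have hle : Subgroup.zpowers x ⊔ Subgroup.zpowers t ≤ Subgroup.centralizer ({x} : Set H) :=
          sup_le (Subgroup.zpowers_le.2 (Subgroup.mem_centralizer_singleton_iff.2 rfl))
            (Subgroup.zpowers_le.2 (Subgroup.mem_centralizer_singleton_iff.2 h1))
        exact hxZ (hZd ▸ Subgroup.mem_center_iff.2 fun y =>
          Subgroup.mem_centralizer_singleton_iff.1 (hle (htop ▸ Subgroup.mem_top y)))
      · have h1 : ⁅t, x⁆ = x ^ 2 := by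
          rw [← hi, zpow_add, show (2 : ℤ) * j = ((2 : ℕ) : ℤ) * j from rfl, zpow_mul, zpow_natCast,
            hzp _ (hpZ x), one_zpow, one_mul, zpow_one]
        have h2 : t * x * t⁻¹ = x ^ 2 * x := by
          rw [← h1, commutatorElement_def, inv_mul_cancel_right]
        rw [h2, ← pow_succ, eq_inv_iff_mul_eq_one, ← pow_succ]
        rw [show 2 + 1 + 1 = orderOf x by omega]
        exact pow_orderOf_eq_one x
    have houter : ∀ g ∉ Subgroup.zpowers x, g ^ 2 = 1 := by
      intro g hg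
      have hi2 : (Subgroup.zpowers x).index = 2 := by
        have := (Subgroup.zpowers x).card_mul_index
        rw [Nat.card_zpowers, hxo, hcard] at this
        omega
      have hgt : g * t ∈ Subgroup.zpowers x := by
        rw [Subgroup.mul_mem_iff_of_index_two hi2]
        exact ⟨fun h => absurd h hg, fun h => absurd h htx⟩
      obtain ⟨i, hi⟩ := Subgroup.mem_zpowers_iff.1 hgt
      have hg' : g = x ^ i * t := by rw [hi, mul_assoc, ← sq, ht, mul_one]
      have hsc : t * x ^ i * t⁻¹ = x⁻¹ ^ i := by rw [← conj_zpow, hconj]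
      rw [hinvt] at hsc
      rw [hg', sq, show x ^ i * t * (x ^ i * t) = x ^ i * (t * x ^ i * t) by group, hsc, inv_zpow,
        mul_inv_cancel]
    refine ⟨Z, Subgroup.zpowers x, hZchar, characteristic_of_inv fun γ y hy => ?_,
      hgenZ ▸ Subgroup.zpowers_le.2 (pow_mem (Subgroup.mem_zpowers x) 2), hZ,
      by rw [Nat.card_zpowers, hxo]; norm_num⟩
    obtain ⟨i, rfl⟩ := Subgroup.mem_zpowers_iff.1 hy
    rw [map_zpow]
    refine Subgroup.zpow_mem _ ?_ i
    by_contra h
    have := houter _ h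
    rw [← map_pow, ← map_one γ] at this
    exact hx (γ.injective this)
  have hp2 : p ≠ 2 := by rintro rfl; exact (Nat.not_odd_iff_even.2 even_two) hodd
  let f : H →* H := MonoidHom.mk' (fun x => x ^ p) fun x y => by
    refine Solv.mul_pow_prime_of_comm hp' hp2 (c := ⁅y⁻¹, x⁻¹⁆) ?_ ?_ ?_ (hzp _ (hcomZ _ _))
    · rw [commutatorElement_def]; group
    · exact ((Subgroup.mem_center_iff.1 (hZd ▸ hcomZ y⁻¹ x⁻¹)) x).symm
    · exact ((Subgroup.mem_center_iff.1 (hZd ▸ hcomZ y⁻¹ x⁻¹)) y).symm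
  by_cases hexp : ∀ x : H, x ^ p = 1
  · refine Or.inr (Or.inr (Or.inl ⟨hodd, ?_, hexp⟩))
    have hcle : commutator H ≤ Z := by
      rw [commutator_def, Subgroup.commutator_le]; exact fun a _ b _ => hcomZ a b
    have hceq : commutator H = Z := by
      refine Subgroup.eq_of_le_of_card_ge hcle ?_
      rw [hZ]
      have hne : commutator H ≠ ⊥ := fun h => hab₀ (commutatorElement_eq_one_iff_mul_comm.1 (by
        rw [← Subgroup.mem_bot, ← h]
        exact Subgroup.commutator_mem_commutator (Subgroup.mem_top _) (Subgroup.mem_top _)))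
      rcases hsub _ hne (fun h => hZt (eq_top_iff.2 (h ▸ hcle))) with h | h
      · exact h.ge
      · rw [h]; exact Nat.le_self_pow two_ne_zero p
    refine ⟨⟨hH, ?_, hZd ▸ hceq⟩, hZd ▸ hZ⟩
    rw [← hZd]
    haveI : Group.IsNilpotent H := hH.isNilpotent
    refine le_antisymm ?_ ?_
    · intro y hy
      by_contra hyZ
      -- a maximal subgroup missing `y`
      obtain ⟨z, hz⟩ : ∃ z, z ∉ Subgroup.zpowers y ⊔ Z := by
        by_contra h; push Not at h
        exact hquot Z le_rfl y (eq_top_iff.2 fun u _ => h u)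
      have hzZ : z ∉ Z := fun h => hz (Subgroup.mem_sup_right h)
      have hKt : Subgroup.zpowers z ⊔ Z ≠ ⊤ := fun h => hquot Z le_rfl z h
      have hKco : IsCoatom (Subgroup.zpowers z ⊔ Z) := by
        refine ⟨hKt, fun L hL => ?_⟩
        by_contra hLt
        have hz1 : Nat.card Z < Nat.card (Subgroup.zpowers z ⊔ Z : Subgroup H) :=
          lt_of_le_of_ne (Subgroup.card_le_of_le le_sup_right) fun h => hzZ (by
            rw [Subgroup.eq_of_le_of_card_ge le_sup_right h.ge]
            exact Subgroup.mem_sup_left (Subgroup.mem_zpowers z))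
        have hz2 : Nat.card (Subgroup.zpowers z ⊔ Z : Subgroup H) < Nat.card L :=
          lt_of_le_of_ne (Subgroup.card_le_of_le hL.le) fun h => hL.ne
            (Subgroup.eq_of_le_of_card_ge hL.le h.ge)
        have hZb : ∀ {K : Subgroup H}, Z ≤ K → K ≠ ⊥ := fun h e => by
          have := Subgroup.card_le_of_le (e ▸ h : Z ≤ ⊥)
          rw [hZ, Subgroup.card_bot] at this
          exact absurd this (not_le.2 hp'.one_lt)
        rcases hsub _ (hZb le_sup_right) hKt with h | h
        · rw [h, hZ] at hz1; exact lt_irrefl _ hz1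
        · rcases hsub L (hZb (le_sup_right.trans hL.le)) hLt with h' | h' <;> rw [h, h'] at hz2
          · exact absurd hz2 (not_lt.2 (Nat.le_self_pow two_ne_zero p))
          · exact lt_irrefl _ hz2
      have hyK : y ∈ Subgroup.zpowers z ⊔ Z := frattini_le_coatom hKco hy
      apply hz
      obtain ⟨u, hu, w, hw, hyd⟩ := Subgroup.mem_sup_of_normal_right.1 hyK
      obtain ⟨i, rfl⟩ := Subgroup.mem_zpowers_iff.1 hu
      have hzi : z ^ i ∈ Subgroup.zpowers y ⊔ Z := by
        rw [show z ^ i = y * w⁻¹ by rw [← hyd]; group]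
        exact Subgroup.mul_mem_sup (Subgroup.mem_zpowers y) (inv_mem hw)
      have hnd : ¬ ((p : ℤ) ∣ i) := by
        rintro ⟨k, rfl⟩
        refine hyZ ?_
        rw [← hyd, zpow_mul, zpow_natCast, hexp z, one_zpow, one_mul]
        exact hw
      obtain ⟨u, v, huv⟩ := ((Nat.prime_iff_prime_int.1 hp').coprime_iff_not_dvd).2 hnd
      rw [show z = z ^ ((i * v) + ((p : ℤ) * u)) by
        rw [show i * v + (p : ℤ) * u = 1 by linarith, zpow_one], zpow_add, zpow_mul, zpow_mul, zpow_natCast,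
        hexp z, one_zpow, mul_one]
      exact Subgroup.zpow_mem _ hzi v
    · rw [← hceq]
      refine le_iInf₂ fun M hM => ?_
      have hMn : M.Normal :=
        Subgroup.NormalizerCondition.normal_of_coatom M Group.normalizerCondition_of_isNilpotent hM
      haveI := hMn
      obtain ⟨l, hl⟩ : ∃ l, l ∉ M := by
        by_contra h; push Not at h; exact hM.1 (eq_top_iff.2 fun x _ => h x)
      refine Subgroup.Normal.commutator_le_of_self_sup_commutative_eq_top (N := M)
        (H := Subgroup.zpowers l) (hM.2 _ (lt_of_le_of_ne le_sup_left fun h => hl (by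
          rw [h]; exact Subgroup.mem_sup_right (Subgroup.mem_zpowers l)))) inferInstance
  · left
    push Not at hexp
    obtain ⟨x₀, hx₀⟩ := hexp
    have hfr : f.range ≤ Z := by rintro _ ⟨y, rfl⟩; exact hpZ y
    have hK : Nat.card f.ker = p ^ 2 := by
      have hprod : Nat.card f.ker * Nat.card f.range = p ^ 3 := by
        rw [← hcard, ← Subgroup.index_ker, Subgroup.card_mul_index]
      have hr : Nat.card f.range = p := by
        refine le_antisymm (hZ ▸ Subgroup.card_le_of_le hfr) ?_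
        have hne : f.range ≠ ⊥ := fun h => hx₀ (by
          rw [← Subgroup.mem_bot, ← h]; exact ⟨x₀, rfl⟩)
        rcases hsub _ hne (fun h => hZt (eq_top_iff.2 (h ▸ hfr))) with h | h
        · exact h.ge
        · rw [h]; exact Nat.le_self_pow two_ne_zero p
      rw [hr, pow_succ] at hprod
      exact Nat.eq_of_mul_eq_mul_right hp'.pos hprod
    refine ⟨Z, f.ker, hZchar, characteristic_of_inv fun γ y hy => ?_, fun z hz => hzp z hz, hZ, hK⟩
    show γ y ^ p = 1
    rw [← map_pow, show y ^ p = 1 from hy, map_one]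

end Cfsg.Agent.Local.FS
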