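import Cfsg.Agent.Lib.Local.FS.EssentialRankTwo
import Cfsg.Agent.Lib.Fusion.SubgroupCountSq
import Cfsg.Agent.Lib.Solv.AutOrbits

/-!
Groups of order `p⁴` that can be essential.
-/

set_option autoImplicit false
set_option linter.style.haveILetI false

open scoped commutatorElement

namespace Cfsg.Agent.Local.FS

open Cfsg

variable {H : Type*} [Group H] [Finite H] {p : ℕ} [hp : Fact p.Prime]

theorem exists_gen_step (hH : IsPGroup p H) {K L : Subgroup H} (hKL : K ≤ L)
    (hc : Nat.card L ≤ Nat.card K * p) : ∃ l ∈ L, L ≤ Subgroup.zpowers l ⊔ K := by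
  by_cases h : L ≤ K
  · exact ⟨1, L.one_mem, le_sup_of_le_right h⟩
  obtain ⟨l, hlL, hlK⟩ := SetLike.not_le_iff_exists.1 h
  refine ⟨l, hlL, (Subgroup.eq_of_le_of_card_ge (sup_le (Subgroup.zpowers_le.2 hlL) hKL) ?_).ge⟩
  obtain ⟨a, ha⟩ := IsPGroup.iff_card.1 (hH.to_subgroup (Subgroup.zpowers l ⊔ K))
  obtain ⟨b, hb⟩ := IsPGroup.iff_card.1 (hH.to_subgroup K)
  have hlt : Nat.card K < Nat.card (Subgroup.zpowers l ⊔ K : Subgroup H) := by
    refine lt_of_le_of_ne (Subgroup.card_le_of_le le_sup_right) fun h => hlK ?_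
    rw [Subgroup.eq_of_le_of_card_ge le_sup_right h.ge]
    exact Subgroup.mem_sup_left (Subgroup.mem_zpowers l)
  rw [ha, hb] at hlt
  refine hc.trans ?_
  rw [ha, hb, ← pow_succ]
  exact Nat.pow_le_pow_right hp.out.pos ((Nat.pow_lt_pow_iff_right hp.out.one_lt).1 hlt)

theorem fix_of_fix (hH : IsPGroup p H) {q : ℕ} (hq : q.Prime) (hqp : q ≠ p) {γ : MulAut H} (hγq : γ ^ q = 1)
    {x : H} (hd : γ (x⁻¹ * γ x) = x⁻¹ * γ x) : γ x = x := by
  generalize hdd : x⁻¹ * γ x = d at hd
  have hx : γ x = x * d := by rw [← hdd]; group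
  have hk : ∀ k : ℕ, (γ ^ k) x = x * d ^ k := by
    intro k
    induction k with
    | zero => simp
    | succ k ih => rw [pow_succ', MulAut.mul_apply, ih, map_mul, map_pow, hd, hx, pow_succ', mul_assoc]
  have h := hk q
  rw [hγq, MulAut.one_apply, left_eq_mul] at h
  obtain ⟨k, hk'⟩ := IsPGroup.iff_orderOf.1 hH d
  have hd1 : d = 1 := orderOf_eq_one_iff.1 (Nat.eq_one_of_dvd_coprimes
    ((Nat.coprime_primes hq hp.out).2 hqp |>.pow_right k) (orderOf_dvd_of_pow_eq_one h) hk'.dvd)
  rw [hx, hd1, mul_one]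

/-- A characteristic flag of length four makes the commutator subgroup of `Aut(H)` a `p`-group. -/
theorem isPGroup_commutator_flag (hH : IsPGroup p H) (L1 L2 L3 : Subgroup H) [L1.Characteristic]
    [L2.Characteristic] [L3.Characteristic] (h12 : L1 ≤ L2) (h23 : L2 ≤ L3) (c1 : Nat.card L1 ≤ p)
    (c2 : Nat.card L2 ≤ Nat.card L1 * p) (c3 : Nat.card L3 ≤ Nat.card L2 * p)
    (c4 : Nat.card H ≤ Nat.card L3 * p) : IsPGroup p (commutator (MulAut H)) := by
  haveI : Finite (MulAut H) := Finite.of_injective (fun a : MulAut H => (a : H → H)) DFunLike.coe_injective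
  refine IsPGroup.iff_card.2 ⟨_, (Nat.eq_prime_pow_of_unique_prime_dvd Nat.card_pos.ne' fun {q} hq hdvd => ?_)⟩
  by_contra hqp
  haveI := Fact.mk hq
  obtain ⟨⟨γ, hγ⟩, hγo⟩ := exists_prime_orderOf_dvd_card' (G := commutator (MulAut H)) q hdvd
  rw [Subgroup.orderOf_mk] at hγo
  have hγq : γ ^ q = 1 := hγo ▸ pow_orderOf_eq_one γ
  have e1 : ∀ x ∈ L1, γ x = x := fun x hx => by
    have := trivOn_of_mem (trivOn_commutator (K := ⊥) (L := L1)
      (exists_gen_step hH bot_le (by rw [Subgroup.card_bot, one_mul]; exact c1))) hγ x hx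
    rw [Subgroup.mem_bot, inv_mul_eq_one] at this
    exact this.symm
  have e2 : ∀ x ∈ L2, γ x = x := fun x hx => fix_of_fix hH hq hqp hγq
    (e1 _ (trivOn_of_mem (trivOn_commutator (exists_gen_step hH h12 c2)) hγ x hx))
  have e3 : ∀ x ∈ L3, γ x = x := fun x hx => fix_of_fix hH hq hqp hγq
    (e2 _ (trivOn_of_mem (trivOn_commutator (exists_gen_step hH h23 c3)) hγ x hx))
  have e4 : ∀ x, γ x = x := fun x => fix_of_fix hH hq hqp hγq
    (e3 _ (trivOn_of_mem (trivOn_commutator (exists_gen_step hH le_top (by rw [Subgroup.card_top]; exact c4))) hγ x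
      trivial))
  have : γ = 1 := MulEquiv.ext e4
  rw [this, orderOf_one] at hγo
  exact hq.ne_one hγo.symm

omit hp in
theorem exists_notMem_of_card_lt {K L : Subgroup H} (h : Nat.card K < Nat.card L) : ∃ x ∈ L, x ∉ K := by
  by_contra hc
  push Not at hc
  exact absurd (Subgroup.card_le_of_le (show L ≤ K from hc)) (not_le.2 h)

theorem card_sup_zpowers_le (A : Subgroup H) [A.Normal] {b : H} (hb : b ^ p ∈ A) :
    Nat.card (A ⊔ Subgroup.zpowers b : Subgroup H) ≤ Nat.card A * p := by
  have hd := Fusion.card_sup_dvd A (Subgroup.zpowers b)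
  have h1 : Nat.card A * A.relIndex (Subgroup.zpowers b ⊔ A) = Nat.card (Subgroup.zpowers b ⊔ A : Subgroup H) := by
    have := Subgroup.relIndex_mul_relIndex ⊥ A (Subgroup.zpowers b ⊔ A) bot_le le_sup_right
    simpa only [Subgroup.relIndex_bot_left] using this
  have h2 : A.relIndex (Subgroup.zpowers b ⊔ A) ∣ p := by
    rw [Subgroup.relIndex_sup_right, ← QuotientGroup.ker_mk' A, Subgroup.relIndex_ker, MonoidHom.map_zpowers,
      Nat.card_zpowers]
    refine orderOf_dvd_of_pow_eq_one ?_
    rw [← map_pow]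
    exact (QuotientGroup.eq_one_iff _).2 hb
  rw [sup_comm, ← h1]
  exact Nat.mul_le_mul_left _ (Nat.le_of_dvd hp.out.pos h2)

omit hp in
theorem le_card_step (hH : IsPGroup p H) [Fact p.Prime] {K L : Subgroup H} (hlt : K < L) :
    Nat.card K * p ≤ Nat.card L := by
  obtain ⟨a, ha⟩ := IsPGroup.iff_card.1 (hH.to_subgroup L)
  obtain ⟨b, hb⟩ := IsPGroup.iff_card.1 (hH.to_subgroup K)
  have : Nat.card K < Nat.card L := lt_of_le_of_ne (Subgroup.card_le_of_le hlt.le) fun h =>
    hlt.ne (Subgroup.eq_of_le_of_card_ge hlt.le h.ge)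
  rw [ha, hb] at this
  rw [ha, hb, ← pow_succ]
  exact Nat.pow_le_pow_right (Fact.out : p.Prime).pos ((Nat.pow_lt_pow_iff_right (Fact.out : p.Prime).one_lt).1 this)

theorem card_le_of_ne_top (hH : IsPGroup p H) {k : ℕ} (hcard : Nat.card H = p ^ (k + 1)) {L : Subgroup H}
    (hL : L ≠ ⊤) : Nat.card L ≤ p ^ k := by
  have := le_card_step hH (lt_top_iff_ne_top.2 hL)
  rw [Subgroup.card_top, hcard, pow_succ] at this
  exact Nat.le_of_mul_le_mul_right this hp.out.pos

/-- The flag condition. -/
def FlagFree (p : ℕ) (H : Type*) [Group H] : Prop :=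
  ∀ L1 L2 L3 : Subgroup H, L1.Characteristic → L2.Characteristic → L3.Characteristic → L1 ≤ L2 → L2 ≤ L3 →
    Nat.card L1 ≤ p → Nat.card L2 ≤ Nat.card L1 * p → Nat.card L3 ≤ Nat.card L2 * p →
    Nat.card H ≤ Nat.card L3 * p → False

/-- With centre of order `p` there is a characteristic flag. -/
theorem not_flagFree_center_prime (hcard : Nat.card H = p ^ 4) (hZ : Nat.card (Subgroup.center H) = p) :
    ¬ FlagFree p H := by
  intro hF
  have hp' := hp.out
  have hH : IsPGroup p H := IsPGroup.of_card hcard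
  set Z := Subgroup.center H with hZd
  set π := QuotientGroup.mk' Z with hπ
  have hQc : Nat.card (H ⧸ Z) = p ^ 3 := by
    have h := Z.card_eq_card_quotient_mul_card_subgroup
    rw [hcard, hZ, pow_succ p 3] at h
    exact (Nat.eq_of_mul_eq_mul_right hp'.pos h).symm
  have hQ : IsPGroup p (H ⧸ Z) := IsPGroup.of_card hQc
  set M := (Subgroup.center (H ⧸ Z)).comap π with hMd
  have hZM : Z ≤ M := fun z hz => by
    show π z ∈ Subgroup.center (H ⧸ Z)
    rw [show π z = 1 from (QuotientGroup.eq_one_iff z).2 hz]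
    exact Subgroup.one_mem _
  have hMc : Nat.card M = Nat.card (Subgroup.center (H ⧸ Z)) * p := by
    have h1 := M.card_mul_index
    rw [hMd, Subgroup.index_comap_of_surjective _ (QuotientGroup.mk'_surjective Z), ← hMd, hcard] at h1
    have h2 := (Subgroup.center (H ⧸ Z)).card_mul_index
    rw [hQc] at h2
    refine Nat.eq_of_mul_eq_mul_right (Nat.pos_of_ne_zero (Subgroup.index_ne_zero_of_finite (H := Subgroup.center (H ⧸ Z)))) ?_
    rw [h1, mul_right_comm, h2, pow_succ]
  have hcommM : ∀ h m : H, m ∈ M → ⁅h, m⁆ ∈ Z := fun h m hm => by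
    refine (QuotientGroup.eq_one_iff _).1 ?_
    show π ⁅h, m⁆ = 1
    rw [map_commutatorElement, commutatorElement_eq_one_iff_mul_comm]
    exact Subgroup.mem_center_iff.1 hm _
  -- `M` has order `p²`
  have hM2 : Nat.card M = p ^ 2 := by
    obtain ⟨i, hi, hc⟩ := (Nat.dvd_prime_pow hp').1 (hQc ▸ (Subgroup.center (H ⧸ Z)).card_subgroup_dvd_card)
    suffices i = 1 by rw [hMc, hc, this, pow_one, sq]
    haveI : Nontrivial (H ⧸ Z) := by
      refine Finite.one_lt_card_iff_nontrivial.1 ?_
      rw [hQc]; exact Nat.one_lt_pow three_ne_zero hp'.one_lt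
    have h0 : i ≠ 0 := by
      rintro rfl
      haveI := hQ.center_nontrivial
      have := (Finite.one_lt_card : 1 < Nat.card (Subgroup.center (H ⧸ Z)))
      rw [hc, pow_zero] at this
      exact lt_irrefl _ this
    by_contra hi1
    -- the central quotient is abelian
    have hab : ∀ u v : H ⧸ Z, u * v = v * u := by
      have hle : p ^ 2 ≤ Nat.card (Subgroup.center (H ⧸ Z)) := hc ▸ Nat.pow_le_pow_right hp'.pos (by omega)
      intro u v
      by_cases hu : u ∈ Subgroup.center (H ⧸ Z)
      · exact (Subgroup.mem_center_iff.1 hu v).symm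
      have htop : Subgroup.zpowers u ⊔ Subgroup.center (H ⧸ Z) = ⊤ := by
        refine Subgroup.eq_top_of_le_card _ ?_
        rw [hQc, pow_succ p 2]
        refine le_trans (Nat.mul_le_mul_right p hle) (le_card_step hQ (lt_of_le_not_ge le_sup_right fun h => hu ?_))
        exact h (Subgroup.mem_sup_left (Subgroup.mem_zpowers u))
      have hle' : Subgroup.zpowers u ⊔ Subgroup.center (H ⧸ Z) ≤ Subgroup.centralizer ({u} : Set (H ⧸ Z)) :=
        sup_le (Subgroup.zpowers_le.2 (Subgroup.mem_centralizer_singleton_iff.2 rfl)) (Subgroup.center_le_centralizer _)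
      exact (Subgroup.mem_centralizer_singleton_iff.1 (hle' (htop.ge (Subgroup.mem_top v)))).symm
    have hMtop : ∀ h : H, h ∈ M := fun h => Subgroup.mem_center_iff.2 fun v => hab v _
    -- class two with centre of order `p`: centralizers have index at most `p`
    have hidx : ∀ x : H, p ^ 3 ≤ Nat.card (Subgroup.centralizer ({x} : Set H)) := by
      intro x
      let φ : H →* Z := MonoidHom.mk' (fun h => ⟨⁅h, x⁆, hcommM h x (hMtop x)⟩) fun a b => by
        refine Subtype.ext ?_
        show ⁅a * b, x⁆ = ⁅a, x⁆ * ⁅b, x⁆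
        have hc' := Subgroup.mem_center_iff.1 (hcommM b x (hMtop x)) a
        calc ⁅a * b, x⁆ = a * ⁅b, x⁆ * a⁻¹ * ⁅a, x⁆ := by simp only [commutatorElement_def]; group
          _ = ⁅b, x⁆ * ⁅a, x⁆ := by rw [hc', mul_inv_cancel_right]
          _ = _ := (Subgroup.mem_center_iff.1 (hcommM b x (hMtop x)) _).symm
      have hk : φ.ker ≤ Subgroup.centralizer ({x} : Set H) := fun h hh => by
        rw [Subgroup.mem_centralizer_singleton_iff]
        exact commutatorElement_eq_one_iff_mul_comm.1 (congrArg Subtype.val hh)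
      refine le_trans ?_ (Subgroup.card_le_of_le hk)
      have h1 := φ.ker.card_mul_index
      rw [Subgroup.index_ker, hcard] at h1
      have h2 : Nat.card φ.range ≤ p := hZ ▸ Subgroup.card_le_card_group φ.range
      refine Nat.le_of_mul_le_mul_right ?_ hp'.pos
      rw [← pow_succ, ← h1]
      exact Nat.mul_le_mul_left _ h2
    obtain ⟨x, -, hx⟩ := exists_notMem_of_card_lt (K := Z) (L := (⊤ : Subgroup H))
      (by rw [Subgroup.card_top, hcard, hZ]; exact lt_self_pow₀ hp'.one_lt (by norm_num))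
    set Cx := Subgroup.centralizer ({x} : Set H) with hCx
    have hxC : x ∈ Cx := Subgroup.mem_centralizer_singleton_iff.2 rfl
    have hB : Z ⊔ Subgroup.zpowers x < Cx := by
      refine lt_of_le_of_ne (sup_le (Subgroup.center_le_centralizer _) (Subgroup.zpowers_le.2 hxC)) fun h => ?_
      have hxp : x ^ p ^ 3 ∈ Z := by
        refine (QuotientGroup.eq_one_iff _).1 ?_
        rw [QuotientGroup.mk_pow, ← hQc, pow_card_eq_one']
      have hxpp : x ^ p ∈ Z := by
        refine Subgroup.mem_center_iff.2 fun h => ?_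
        have h1 : ⁅x, h⁆ ∈ Z := hcommM x h (hMtop h)
        have h2 : ⁅x, h⁆ ^ p = 1 := by
          have := pow_card_eq_one' (x := (⟨_, h1⟩ : Z))
          rw [hZ] at this
          exact congrArg Subtype.val this
        have h3 : ∀ n : ℕ, x ^ n * h = ⁅x, h⁆ ^ n * (h * x ^ n) := by
          intro n
          induction n with
          | zero => simp
          | succ n ih =>
            calc x ^ (n + 1) * h = x * (x ^ n * h) := by rw [pow_succ', mul_assoc]
              _ = x * ⁅x, h⁆ ^ n * (h * x ^ n) := by rw [ih, mul_assoc]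
              _ = ⁅x, h⁆ ^ n * (x * h) * x ^ n := by
                rw [Subgroup.mem_center_iff.1 (pow_mem h1 n) x]; group
              _ = ⁅x, h⁆ ^ n * (⁅x, h⁆ * h * x) * x ^ n := by
                simp only [commutatorElement_def]; group
              _ = _ := by rw [pow_succ, pow_succ']; group
        rw [h3 p, h2, one_mul]
      have hc3 : p ^ 3 ≤ Nat.card Z * p := ((hidx x).trans (by rw [h])).trans (card_sup_zpowers_le Z hxpp)
      rw [hZ, ← sq] at hc3
      exact absurd ((Nat.pow_le_pow_iff_right hp'.one_lt).1 hc3) (by norm_num)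
    obtain ⟨y, hyC, hyB⟩ := SetLike.exists_of_lt hB
    set A := Subgroup.zpowers y ⊔ (Z ⊔ Subgroup.zpowers x) with hA
    have hAle : A ≤ Subgroup.centralizer ({x, y} : Set H) := by
      have hxy := Subgroup.mem_centralizer_singleton_iff.1 hyC
      refine sup_le (Subgroup.zpowers_le.2 ?_) (sup_le (Subgroup.center_le_centralizer _) (Subgroup.zpowers_le.2 ?_))
      · exact Subgroup.mem_centralizer_iff.2 (by rintro g (rfl | rfl); exacts [hxy.symm, rfl])
      · exact Subgroup.mem_centralizer_iff.2 (by rintro g (rfl | rfl); exacts [rfl, hxy])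
    have hAc : p ^ 3 ≤ Nat.card A := by
      have h1 := le_card_step hH (show Z < Z ⊔ Subgroup.zpowers x from
        lt_of_le_not_ge le_sup_left fun h => hx (h (Subgroup.mem_sup_right (Subgroup.mem_zpowers x))))
      have h2 := le_card_step hH (show Z ⊔ Subgroup.zpowers x < A from
        lt_of_le_not_ge le_sup_right fun h => hyB (h (Subgroup.mem_sup_left (Subgroup.mem_zpowers y))))
      rw [hZ] at h1
      calc p ^ 3 = p * p * p := by ring
        _ ≤ _ := (Nat.mul_le_mul_right p h1).trans h2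
    -- a third element
    have hne : Subgroup.centralizer ({x, y} : Set H) ≠ ⊤ := fun h => hx (Subgroup.mem_center_iff.2 fun g =>
      (Subgroup.mem_centralizer_iff.1 (h.ge (Subgroup.mem_top g)) x (Set.mem_insert _ _)).symm)
    obtain ⟨w, -, hw⟩ := SetLike.exists_of_lt (lt_top_iff_ne_top.2 hne)
    have hAw : A ⊓ Subgroup.centralizer ({w} : Set H) ≤ Z := by
      intro g hg
      refine Subgroup.mem_center_iff.2 fun v => ?_
      have hAab : A ≤ Subgroup.centralizer ({g} : Set H) := by
        refine sup_le (Subgroup.zpowers_le.2 ?_) (sup_le (Subgroup.center_le_centralizer _) (Subgroup.zpowers_le.2 ?_))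
        · exact Subgroup.mem_centralizer_singleton_iff.2
            (Subgroup.mem_centralizer_iff.1 (hAle hg.1) y (Set.mem_insert_of_mem _ rfl))
        · exact Subgroup.mem_centralizer_singleton_iff.2
            (Subgroup.mem_centralizer_iff.1 (hAle hg.1) x (Set.mem_insert _ _))
      have hlt : A < A ⊔ Subgroup.zpowers w := lt_of_le_not_ge le_sup_left fun h =>
        hw (hAle (h (Subgroup.mem_sup_right (Subgroup.mem_zpowers w))))
      have htop : A ⊔ Subgroup.zpowers w = ⊤ := by
        refine Subgroup.eq_top_of_le_card _ ?_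
        rw [hcard, pow_succ p 3]
        exact (Nat.mul_le_mul_right p hAc).trans (le_card_step hH hlt)
      exact Subgroup.mem_centralizer_singleton_iff.1 ((sup_le hAab (Subgroup.zpowers_le.2
        (Subgroup.mem_centralizer_singleton_iff.2 (Subgroup.mem_centralizer_singleton_iff.1 hg.2).symm)))
        (htop.ge (Subgroup.mem_top v)))
    have h1 := Subgroup.card_le_of_le hAw
    have h2 : A.index ≤ p := by
      have h3 := A.card_mul_index
      rw [hcard] at h3
      refine Nat.le_of_mul_le_mul_left (c := p ^ 3) ?_ (pow_pos hp'.pos 3)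
      rw [← pow_succ, ← h3]
      exact Nat.mul_le_mul_right _ hAc
    have h4 : (Subgroup.centralizer ({w} : Set H)).index ≤ p := by
      have h3 := (Subgroup.centralizer ({w} : Set H)).card_mul_index
      rw [hcard] at h3
      refine Nat.le_of_mul_le_mul_left (c := p ^ 3) ?_ (pow_pos hp'.pos 3)
      rw [← pow_succ, ← h3]
      exact Nat.mul_le_mul_right _ (hidx w)
    have h5 := (A ⊓ Subgroup.centralizer ({w} : Set H)).card_mul_index
    have h6 : (A ⊓ Subgroup.centralizer ({w} : Set H)).index ≤ p * p :=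
      Subgroup.index_inf_le.trans (Nat.mul_le_mul h2 h4)
    have h7 := Nat.mul_le_mul h1 h6
    rw [h5, hcard, hZ, show p * (p * p) = p ^ 3 by ring] at h7
    exact absurd ((Nat.pow_le_pow_iff_right hp'.one_lt).1 h7) (by norm_num)
  -- the flag
  obtain ⟨m, hmM, hmZ⟩ := exists_notMem_of_card_lt (K := Z) (L := M)
    (by rw [hZ, hM2]; exact lt_self_pow₀ hp'.one_lt one_lt_two)
  have hMgen : Subgroup.zpowers m ⊔ Z = M := by
    refine Subgroup.eq_of_le_of_card_ge (sup_le (Subgroup.zpowers_le.2 hmM) hZM) ?_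
    have := le_card_step hH (show Z < Subgroup.zpowers m ⊔ Z from
      lt_of_le_not_ge le_sup_right fun h => hmZ (h (Subgroup.mem_sup_left (Subgroup.mem_zpowers m))))
    rw [hZ, ← sq] at this
    rw [hM2]; exact this
  let φ : H →* Z := MonoidHom.mk' (fun h => ⟨⁅h, m⁆, hcommM h m hmM⟩) fun a b => by
    refine Subtype.ext ?_
    show ⁅a * b, m⁆ = ⁅a, m⁆ * ⁅b, m⁆
    have hc' := Subgroup.mem_center_iff.1 (hcommM b m hmM) a
    calc ⁅a * b, m⁆ = a * ⁅b, m⁆ * a⁻¹ * ⁅a, m⁆ := by simp only [commutatorElement_def]; group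
      _ = ⁅b, m⁆ * ⁅a, m⁆ := by rw [hc', mul_inv_cancel_right]
      _ = _ := (Subgroup.mem_center_iff.1 (hcommM b m hmM) _).symm
  set C := Subgroup.centralizer (M : Set H) with hC
  have hkC : φ.ker ≤ C := fun h hh => Subgroup.mem_centralizer_iff.2 fun g hg => by
    have hle : M ≤ Subgroup.centralizer ({h} : Set H) := hMgen ▸ sup_le
      (Subgroup.zpowers_le.2 (Subgroup.mem_centralizer_singleton_iff.2
        (commutatorElement_eq_one_iff_mul_comm.1 (congrArg Subtype.val hh)).symm))
      (Subgroup.center_le_centralizer _)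
    exact Subgroup.mem_centralizer_singleton_iff.1 (hle hg)
  have hMC : M ≤ C := by
    intro g hg
    refine Subgroup.mem_centralizer_iff.2 fun g' hg' => ?_
    have key : ∀ u ∈ M, M ≤ Subgroup.centralizer ({u} : Set H) := fun u hu => hMgen ▸ sup_le
      (Subgroup.zpowers_le.2 (Subgroup.mem_centralizer_singleton_iff.2 (by
        have : u ∈ Subgroup.centralizer ({m} : Set H) :=
          (sup_le (Subgroup.zpowers_le.2 (Subgroup.mem_centralizer_singleton_iff.2 rfl))
            (Subgroup.center_le_centralizer _) : Subgroup.zpowers m ⊔ Z ≤ _) (hMgen.ge hu)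
        exact (Subgroup.mem_centralizer_singleton_iff.1 this).symm)))
      (Subgroup.center_le_centralizer _)
    exact Subgroup.mem_centralizer_singleton_iff.1 (key g hg hg')
  have hCne : C ≠ ⊤ := fun h => hmZ (Subgroup.mem_center_iff.2 fun g =>
    (Subgroup.mem_centralizer_iff.1 (h.ge (Subgroup.mem_top g)) m hmM).symm)
  have hCge : p ^ 3 ≤ Nat.card C := by
    refine le_trans ?_ (Subgroup.card_le_of_le hkC)
    have h1 := φ.ker.card_mul_index
    rw [Subgroup.index_ker, hcard] at h1
    refine Nat.le_of_mul_le_mul_right ?_ hp'.pos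
    rw [← pow_succ, ← h1]
    exact Nat.mul_le_mul_left _ (hZ ▸ Subgroup.card_le_card_group φ.range)
  have hMchar : M.Characteristic := characteristic_of_inv fun γ g hg => Subgroup.mem_center_iff.2 fun v => by
    obtain ⟨v', rfl⟩ := QuotientGroup.mk'_surjective Z v
    show π v' * π (γ g) = π (γ g) * π v'
    rw [← commutatorElement_eq_one_iff_mul_comm, ← map_commutatorElement]
    refine (QuotientGroup.eq_one_iff _).2 ?_
    rw [show ⁅v', γ g⁆ = γ ⁅γ⁻¹ v', g⁆ by rw [map_commutatorElement, MulAut.apply_inv_self]]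
    rw [← Subgroup.characteristic_iff_map_eq.1 (inferInstance : Z.Characteristic) γ]
    exact ⟨_, hcommM _ g hg, rfl⟩
  haveI := hMchar
  refine hF Z M C inferInstance hMchar (hC ▸ inferInstance) hZM hMC hZ.le (by rw [hM2, hZ, sq]) ?_ ?_
  · rw [hM2]
    exact (card_le_of_ne_top hH hcard hCne).trans (by rw [pow_succ])
  · rw [hcard, pow_succ p 3]
    exact Nat.mul_le_mul_right p hCge

end Cfsg.Agent.Local.FS
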