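import Cfsg.Agent.Lib.Local.FS.EssentialFourth

/-!
The cases of the classification of essential groups of order `p⁴`.
-/

set_option autoImplicit false
set_option linter.style.haveILetI false

open scoped commutatorElement

namespace Cfsg.Agent.Local.FS

open Cfsg

variable {H : Type*} [Group H] [Finite H] {p : ℕ} [hp : Fact p.Prime]

/-- A complement of order `p` in the centre splits the group. -/
theorem iso_prod {K : Subgroup H} {z : H} (hz : ∀ h : H, h * z = z * h) (hzp : z ^ p = 1) (hzK : z ∉ K)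
    (hc : Nat.card K * p = Nat.card H) : Nonempty (H ≃* K × Multiplicative (ZMod p)) := by
  have hp' := hp.out
  have hmod : ∀ m : ℕ, z ^ (m % p) = z ^ m := fun m => (pow_eq_pow_mod m hzp).symm
  let f : K × Multiplicative (ZMod p) →* H :=
    MonoidHom.mk' (fun v => (v.1 : H) * z ^ (Multiplicative.toAdd v.2).val) fun u v => by
      simp only [Prod.fst_mul, Prod.snd_mul, Subgroup.coe_mul, toAdd_mul, ZMod.val_add, hmod, pow_add]
      exact (show Commute (v.1 : H) (z ^ (Multiplicative.toAdd u.2).val) from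
        (show Commute (v.1 : H) z from hz _).pow_right _).mul_mul_mul_comm _ _
  have hinj : Function.Injective f := by
    rw [← MonoidHom.ker_eq_bot_iff, Subgroup.eq_bot_iff_forall]
    intro v hv
    replace hv : (v.1 : H) * z ^ (Multiplicative.toAdd v.2).val = 1 := hv
    by_cases h0 : (Multiplicative.toAdd v.2).val = 0
    · rw [h0, pow_zero, mul_one] at hv
      refine Prod.ext (Subtype.ext hv) (Multiplicative.toAdd.injective ?_)
      rw [Prod.snd_one, toAdd_one]
      exact (ZMod.val_eq_zero _).1 h0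
    · exfalso
      have hlt := ZMod.val_lt (Multiplicative.toAdd v.2)
      have hcop : (Multiplicative.toAdd v.2).val.Coprime p :=
        (hp'.coprime_iff_not_dvd.2 fun hd => h0 (Nat.eq_zero_of_dvd_of_lt hd hlt)).symm
      have hmem : z ^ (Multiplicative.toAdd v.2).val ∈ K := by
        rw [show z ^ (Multiplicative.toAdd v.2).val = (v.1 : H)⁻¹ from eq_inv_of_mul_eq_one_right hv]
        exact K.inv_mem v.1.2
      have ho : orderOf z = p := orderOf_eq_prime hzp fun h => hzK (by rw [h]; exact K.one_mem)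
      obtain ⟨m, hm⟩ := exists_pow_eq_self_of_coprime (x := z) (n := (Multiplicative.toAdd v.2).val) (by rw [ho]; exact hcop)
      exact hzK (by rw [← hm]; exact pow_mem hmem m)
  refine ⟨(MulEquiv.ofBijective f ((Nat.bijective_iff_injective_and_card f).2 ⟨hinj, ?_⟩)).symm⟩
  rw [Nat.card_prod, Nat.card_congr Multiplicative.toAdd, Nat.card_zmod, hc]

/-- Abelian of order `p⁴` with `p`-th powers of order `p`. -/
theorem iso_two_one_one (hab : ∀ x y : H, x * y = y * x) (hcard : Nat.card H = p ^ 4) {R K : Subgroup H}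
    (hR : ∀ x, x ^ p ∈ R) (hRc : Nat.card R = p) (hK : ∀ x, x ∈ K ↔ x ^ p = 1) (hKc : Nat.card K = p ^ 3) :
    Nonempty (H ≃* Multiplicative (ZMod (p ^ 2) × ZMod p × ZMod p)) := by
  have hp' := hp.out
  letI : CommGroup H := { (inferInstance : Group H) with mul_comm := hab }
  have hH : IsPGroup p H := IsPGroup.of_card hcard
  obtain ⟨x, -, hxK⟩ := exists_notMem_of_card_lt (K := K) (L := ⊤)
    (by rw [Subgroup.card_top, hcard, hKc]; exact Nat.pow_lt_pow_right hp'.one_lt (by norm_num))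
  have hexp2 : ∀ y : H, y ^ p ^ 2 = 1 := fun y => by
    have := pow_card_eq_one' (x := (⟨_, hR y⟩ : R))
    rw [hRc] at this
    rw [sq, pow_mul]; exact congrArg Subtype.val this
  set z := x ^ p with hz
  have hz1 : z ≠ 1 := fun h => hxK ((hK x).2 h)
  have hzp : z ^ p = 1 := by rw [hz, ← pow_mul, ← sq]; exact hexp2 x
  have hzK : z ∈ K := (hK z).2 hzp
  obtain ⟨w₁, hw₁K, hw₁⟩ := exists_notMem_of_card_lt (K := Subgroup.zpowers z) (L := K)
    (by rw [Nat.card_zpowers, orderOf_eq_prime hzp hz1, hKc]; exact lt_self_pow₀ hp'.one_lt (by norm_num))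
  set B := Subgroup.zpowers z ⊔ Subgroup.zpowers w₁ with hB
  have hBc : Nat.card B ≤ p ^ 2 := by
    refine (card_sup_zpowers_le (p := p) _ (b := w₁) ?_).trans ?_
    · rw [(hK w₁).1 hw₁K]; exact one_mem _
    · rw [Nat.card_zpowers, orderOf_eq_prime hzp hz1, sq]
  obtain ⟨w₂, hw₂K, hw₂⟩ := exists_notMem_of_card_lt (K := B) (L := K)
    (hKc ▸ lt_of_le_of_lt hBc (Nat.pow_lt_pow_right hp'.one_lt (by norm_num)))
  have hm2 : ∀ m : ℕ, x ^ (m % p ^ 2) = x ^ m := fun m => (pow_eq_pow_mod m (hexp2 x)).symm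
  have hm1 : ∀ {w : H}, w ∈ K → ∀ m : ℕ, w ^ (m % p) = w ^ m := fun hw m => (pow_eq_pow_mod m ((hK _).1 hw)).symm
  let f : Multiplicative (ZMod (p ^ 2) × ZMod p × ZMod p) →* H :=
    MonoidHom.mk' (fun v => x ^ (Multiplicative.toAdd v).1.val * (w₁ ^ (Multiplicative.toAdd v).2.1.val *
      w₂ ^ (Multiplicative.toAdd v).2.2.val)) fun u v => by
      simp only [toAdd_mul, Prod.fst_add, Prod.snd_add, ZMod.val_add, hm2, hm1 hw₁K, hm1 hw₂K, pow_add]
      simp only [mul_assoc, mul_comm, mul_left_comm]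
  have hsur : f.range = ⊤ := by
    have e1 : x ∈ f.range := ⟨Multiplicative.ofAdd (((1 : ℕ) : ZMod (p ^ 2)), 0, 0), by
      show x ^ (((1 : ℕ) : ZMod (p ^ 2))).val * (w₁ ^ (0 : ZMod p).val * w₂ ^ (0 : ZMod p).val) = x
      rw [ZMod.val_natCast, hm2, ZMod.val_zero, pow_zero, pow_zero, mul_one, mul_one, pow_one]⟩
    have e2 : w₁ ∈ f.range := ⟨Multiplicative.ofAdd (0, ((1 : ℕ) : ZMod p), 0), by
      show x ^ (0 : ZMod (p ^ 2)).val * (w₁ ^ ((1 : ℕ) : ZMod p).val * w₂ ^ (0 : ZMod p).val) = w₁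
      rw [ZMod.val_natCast, hm1 hw₁K, ZMod.val_zero, ZMod.val_zero, pow_zero, pow_zero, one_mul, mul_one, pow_one]⟩
    have e3 : w₂ ∈ f.range := ⟨Multiplicative.ofAdd (0, 0, ((1 : ℕ) : ZMod p)), by
      show x ^ (0 : ZMod (p ^ 2)).val * (w₁ ^ (0 : ZMod p).val * w₂ ^ ((1 : ℕ) : ZMod p).val) = w₂
      rw [ZMod.val_natCast, hm1 hw₂K, ZMod.val_zero, ZMod.val_zero, pow_zero, pow_zero, one_mul, one_mul, pow_one]⟩
    have hBr : B ≤ f.range := sup_le (Subgroup.zpowers_le.2 (pow_mem e1 p)) (Subgroup.zpowers_le.2 e2)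
    have hBK : B ≤ K := sup_le (Subgroup.zpowers_le.2 hzK) (Subgroup.zpowers_le.2 hw₁K)
    have hB2 : p ^ 2 ≤ Nat.card B := by
      have := le_card_step hH (show Subgroup.zpowers z < B from
        lt_of_le_not_ge le_sup_left fun h => hw₁ (h (Subgroup.mem_sup_right (Subgroup.mem_zpowers w₁))))
      rwa [Nat.card_zpowers, orderOf_eq_prime hzp hz1, ← sq] at this
    have hK3 : p ^ 3 ≤ Nat.card (B ⊔ Subgroup.zpowers w₂ : Subgroup H) := by
      have := le_card_step hH (show B < B ⊔ Subgroup.zpowers w₂ from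
        lt_of_le_not_ge le_sup_left fun h => hw₂ (h (Subgroup.mem_sup_right (Subgroup.mem_zpowers w₂))))
      rw [pow_succ]
      exact (Nat.mul_le_mul_right p hB2).trans this
    have hKr : K ≤ f.range := by
      rw [← Subgroup.eq_of_le_of_card_ge (sup_le hBK (Subgroup.zpowers_le.2 hw₂K)) (hKc ▸ hK3)]
      exact sup_le hBr (Subgroup.zpowers_le.2 e3)
    refine Subgroup.eq_top_of_le_card _ ?_
    have := le_card_step hH (show K < f.range from lt_of_le_not_ge hKr fun h => hxK (h e1))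
    rwa [hKc, ← pow_succ, ← hcard] at this
  refine ⟨(MulEquiv.ofBijective f ((Nat.bijective_iff_surjective_and_card f).2
    ⟨MonoidHom.range_eq_top.1 hsur, ?_⟩)).symm⟩
  rw [Nat.card_congr Multiplicative.toAdd, Nat.card_prod, Nat.card_prod, Nat.card_zmod, Nat.card_zmod, hcard]
  ring

/-- Powers in a group of class two. -/
theorem mul_pow_of_central {a b : H} (hc : ∀ h : H, h * ⁅b⁻¹, a⁻¹⁆ = ⁅b⁻¹, a⁻¹⁆ * h) {n : ℕ}
    (hn : ⁅b⁻¹, a⁻¹⁆ ^ Nat.choose n 2 = 1) : (a * b) ^ n = a ^ n * b ^ n := by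
  rw [Solv.AutOrb.mul_pow_choose hc (k := 1) (by simp only [commutatorElement_def, pow_one]; group) n, one_mul, hn,
    mul_one]

/-- The data of a group of order `p⁴` with centre of order `p²`. -/
structure FourthData (p : ℕ) (H : Type*) [Group H] where
  a : H
  b : H
  card_eq : Nat.card H = p ^ 4
  center_card : Nat.card (Subgroup.center H) = p ^ 2
  top_eq : Subgroup.center H ⊔ Subgroup.zpowers a ⊔ Subgroup.zpowers b = ⊤
  comm_ne : ⁅a, b⁆ ≠ 1
  comm_pow : ⁅a, b⁆ ^ p = 1
  comm_central : ⁅a, b⁆ ∈ Subgroup.center H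
  commutator_eq : commutator H = Subgroup.zpowers ⁅a, b⁆
  pow_mem : ∀ x : H, x ^ p ∈ Subgroup.center H

theorem exists_fourthData (hcard : Nat.card H = p ^ 4) (hab : ¬ ∀ x y : H, x * y = y * x)
    (hZ : Nat.card (Subgroup.center H) = p ^ 2) : Nonempty (FourthData p H) := by
  have hp' := hp.out
  have hH : IsPGroup p H := IsPGroup.of_card hcard
  set Z := Subgroup.center H with hZd
  obtain ⟨a, -, ha⟩ := exists_notMem_of_card_lt (K := Z) (L := ⊤)
    (by rw [Subgroup.card_top, hcard, hZ]; exact Nat.pow_lt_pow_right hp'.one_lt (by norm_num))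
  have hQ : Nat.card (H ⧸ Z) = p ^ 2 := by
    have h := Z.card_eq_card_quotient_mul_card_subgroup
    rw [hcard, hZ, pow_add p 2 2] at h
    exact (Nat.eq_of_mul_eq_mul_right (pow_pos hp'.pos 2) h).symm
  have hQab : ∀ u v : H ⧸ Z, u * v = v * u := (IsPGroup.isMulCommutative_of_card_eq_prime_sq hQ).is_comm.comm
  have hcomZ : ∀ u v : H, ⁅u, v⁆ ∈ Z := fun u v => by
    refine (QuotientGroup.eq_one_iff _).1 ?_
    show QuotientGroup.mk' Z ⁅u, v⁆ = 1
    rw [map_commutatorElement, commutatorElement_eq_one_iff_mul_comm]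
    exact hQab _ _
  have hZA : ∀ x, x ∉ Z → Z ⊔ Subgroup.zpowers x ≠ ⊤ := by
    intro x hx h
    refine hx (Subgroup.mem_center_iff.2 fun g => ?_)
    exact Subgroup.mem_centralizer_singleton_iff.1 ((sup_le (Subgroup.center_le_centralizer _)
      (Subgroup.zpowers_le.2 (Subgroup.mem_centralizer_singleton_iff.2 rfl)) : Z ⊔ Subgroup.zpowers x ≤ _)
      (h.ge (Subgroup.mem_top g)))
  have hpZ : ∀ x : H, x ^ p ∈ Z := by
    intro x
    by_cases hx : x ∈ Z
    · exact pow_mem hx p
    obtain ⟨i, hi, hxo⟩ := (Nat.dvd_prime_pow hp').1 (hQ ▸ orderOf_dvd_natCard (QuotientGroup.mk x : H ⧸ Z))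
    refine (QuotientGroup.eq_one_iff _).1 ?_
    rw [QuotientGroup.mk_pow]
    rcases Nat.lt_or_ge i 2 with h | h
    · refine orderOf_dvd_iff_pow_eq_one.1 (hxo ▸ ?_)
      interval_cases i <;> simp
    · exfalso
      obtain rfl : i = 2 := by omega
      refine hZA x hx (Subgroup.eq_top_of_le_card _ ?_)
      have h1 : (Subgroup.zpowers x).map (QuotientGroup.mk' Z) = ⊤ := by
        rw [MonoidHom.map_zpowers, ← Subgroup.card_eq_iff_eq_top, Nat.card_zpowers]
        exact hxo.trans hQ.symm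
      have h2 : Z ⊔ Subgroup.zpowers x = ⊤ := by
        rw [← Subgroup.comap_top (QuotientGroup.mk' Z), ← h1, Subgroup.comap_map_eq, QuotientGroup.ker_mk', sup_comm]
      rw [h2, Subgroup.card_top]
  have hA3 : Nat.card (Z ⊔ Subgroup.zpowers a : Subgroup H) = p ^ 3 := by
    refine le_antisymm (card_le_of_ne_top hH hcard (hZA a ha)) ?_
    have := le_card_step hH (show Z < Z ⊔ Subgroup.zpowers a from
      lt_of_le_not_ge le_sup_left fun h => ha (h (Subgroup.mem_sup_right (Subgroup.mem_zpowers a))))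
    rwa [hZ, ← pow_succ] at this
  obtain ⟨b, -, hb⟩ := exists_notMem_of_card_lt (K := Z ⊔ Subgroup.zpowers a) (L := ⊤)
    (by rw [Subgroup.card_top, hcard, hA3]; exact Nat.pow_lt_pow_right hp'.one_lt (by norm_num))
  have htop : Z ⊔ Subgroup.zpowers a ⊔ Subgroup.zpowers b = ⊤ := by
    refine Subgroup.eq_top_of_le_card _ ?_
    have := le_card_step hH (show Z ⊔ Subgroup.zpowers a < Z ⊔ Subgroup.zpowers a ⊔ Subgroup.zpowers b from
      lt_of_le_not_ge le_sup_left fun h => hb (h (Subgroup.mem_sup_right (Subgroup.mem_zpowers b))))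
    rwa [hA3, ← pow_succ, ← hcard] at this
  set c := ⁅a, b⁆ with hc
  let K : H → Subgroup H := fun y =>
    { carrier := {x | ⁅x, y⁆ ∈ Subgroup.zpowers c}
      one_mem' := by
        show ⁅(1 : H), y⁆ ∈ Subgroup.zpowers c
        rw [commutatorElement_one_left]; exact one_mem _
      mul_mem' := fun {u v} hu hv => by
        show ⁅u * v, y⁆ ∈ Subgroup.zpowers c
        rw [show ⁅u * v, y⁆ = u * ⁅v, y⁆ * u⁻¹ * ⁅u, y⁆ by simp only [commutatorElement_def]; group,
          Subgroup.mem_center_iff.1 (hcomZ v y) u, mul_inv_cancel_right]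
        exact mul_mem hv hu
      inv_mem' := fun {u} hu => by
        show ⁅u⁻¹, y⁆ ∈ Subgroup.zpowers c
        have h1 : ⁅u⁻¹, y⁆ = u⁻¹ * ⁅u, y⁆⁻¹ * u := by simp only [commutatorElement_def]; group
        rw [h1, mul_assoc, ← Subgroup.mem_center_iff.1 (inv_mem (hcomZ u y)) u, inv_mul_cancel_left]
        exact inv_mem hu }
  have hsymm : ∀ {u v : H}, ⁅u, v⁆ ∈ Subgroup.zpowers c → ⁅v, u⁆ ∈ Subgroup.zpowers c := fun h => by
    rw [← commutatorElement_inv]; exact inv_mem h
  have hself : ∀ u : H, ⁅u, u⁆ ∈ Subgroup.zpowers c := fun u => by rw [commutatorElement_self]; exact one_mem _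
  have hKZ : ∀ y, Z ≤ K y := fun y z hz => by
    show ⁅z, y⁆ ∈ Subgroup.zpowers c
    rw [commutatorElement_eq_one_iff_mul_comm.2 (Subgroup.mem_center_iff.1 hz y).symm]; exact one_mem _
  have hKb : ∀ x, ⁅x, b⁆ ∈ Subgroup.zpowers c := fun x => (htop ▸ sup_le (sup_le (hKZ b)
    (Subgroup.zpowers_le.2 (show a ∈ K b from Subgroup.mem_zpowers c))) (Subgroup.zpowers_le.2
      (show b ∈ K b from hself b)) : ⊤ ≤ K b) (Subgroup.mem_top x)
  have hKa : ∀ x, ⁅x, a⁆ ∈ Subgroup.zpowers c := fun x => (htop ▸ sup_le (sup_le (hKZ a)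
    (Subgroup.zpowers_le.2 (show a ∈ K a from hself a))) (Subgroup.zpowers_le.2
      (show b ∈ K a from hsymm (Subgroup.mem_zpowers c))) : ⊤ ≤ K a) (Subgroup.mem_top x)
  have hall : ∀ x y, ⁅x, y⁆ ∈ Subgroup.zpowers c := fun x y => (htop ▸ sup_le (sup_le (hKZ y)
    (Subgroup.zpowers_le.2 (show a ∈ K y from hsymm (hKa y)))) (Subgroup.zpowers_le.2
      (show b ∈ K y from hsymm (hKb y))) : ⊤ ≤ K y) (Subgroup.mem_top x)
  have hc1 : c ≠ 1 := fun h => hab fun x y => by
    have := hall x y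
    rw [h, Subgroup.zpowers_one_eq_bot, Subgroup.mem_bot] at this
    exact commutatorElement_eq_one_iff_mul_comm.1 this
  have hcp : c ^ p = 1 := by
    have h3 : ∀ n : ℕ, a ^ n * b = c ^ n * (b * a ^ n) := by
      intro n
      induction n with
      | zero => simp
      | succ n ih =>
        calc a ^ (n + 1) * b = a * (a ^ n * b) := by rw [pow_succ', mul_assoc]
          _ = a * c ^ n * (b * a ^ n) := by rw [ih, mul_assoc]
          _ = c ^ n * (a * b) * a ^ n := by rw [Subgroup.mem_center_iff.1 (pow_mem (show c ∈ Z from hcomZ a b) n) a]; group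
          _ = c ^ n * (c * b * a) * a ^ n := by
            rw [show c * b * a = a * b by rw [hc]; simp only [commutatorElement_def]; group]
          _ = _ := by rw [pow_succ, pow_succ']; group
    have h4 := h3 p
    rw [← Subgroup.mem_center_iff.1 (hpZ a) b, right_eq_mul] at h4
    exact h4
  refine ⟨⟨a, b, hcard, hZ, htop, hc1, hcp, hcomZ a b, le_antisymm ?_ ?_, hpZ⟩⟩
  · rw [commutator_def, Subgroup.commutator_le]
    exact fun x _ y _ => hall x y
  · exact Subgroup.zpowers_le.2 (Subgroup.commutator_mem_commutator (Subgroup.mem_top a) (Subgroup.mem_top b))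

namespace FourthData

variable (d : FourthData p H)
include d

theorem isPGroup : IsPGroup p H := IsPGroup.of_card d.card_eq

omit [Finite H] in
theorem comm_mem (x y : H) : ⁅x, y⁆ ∈ Subgroup.zpowers ⁅d.a, d.b⁆ :=
  d.commutator_eq ▸ Subgroup.commutator_mem_commutator (Subgroup.mem_top x) (Subgroup.mem_top y)

omit [Finite H] in
theorem comm_pow_eq (x y : H) : ⁅x, y⁆ ^ p = 1 := by
  obtain ⟨i, hi⟩ := Subgroup.mem_zpowers_iff.1 (d.comm_mem x y)
  rw [← hi, ← zpow_natCast, ← zpow_mul, mul_comm, zpow_mul, zpow_natCast, d.comm_pow, one_zpow]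

omit [Finite H] in
theorem comm_comm (x y h : H) : h * ⁅x, y⁆ = ⁅x, y⁆ * h :=
  Subgroup.mem_center_iff.1 ((Subgroup.zpowers_le.2 d.comm_central) (d.comm_mem x y)) h

theorem mul_pow {n : ℕ} (hn : p ∣ Nat.choose n 2) (x y : H) : (x * y) ^ n = x ^ n * y ^ n := by
  refine mul_pow_of_central (d.comm_comm _ _) ?_
  obtain ⟨m, hm⟩ := hn
  rw [hm, pow_mul, d.comm_pow_eq, one_pow]

theorem card_comm : Nat.card (Subgroup.zpowers ⁅d.a, d.b⁆) = p := by
  rw [Nat.card_zpowers, orderOf_eq_prime d.comm_pow d.comm_ne]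

/-- No characteristic subgroup lies strictly above the centre. -/
theorem no_line (hF : FlagFree p H) (L : Subgroup H) (hL : L.Characteristic) (hZL : Subgroup.center H ≤ L)
    (hne : ¬ L ≤ Subgroup.center H) : L = ⊤ := by
  by_contra htop
  have hH := d.isPGroup
  have hle := card_le_of_ne_top hH d.card_eq htop
  have hge := le_card_step hH (lt_of_le_not_ge hZL hne)
  have hDc := d.card_comm
  rw [d.center_card, ← pow_succ] at hge
  refine hF (Subgroup.zpowers ⁅d.a, d.b⁆) (Subgroup.center H) L (d.commutator_eq ▸ inferInstance) inferInstance hL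
    (Subgroup.zpowers_le.2 d.comm_central) hZL hDc.le (by rw [d.center_card, hDc, sq]) ?_ ?_
  · rw [d.center_card, ← pow_succ]; exact hle
  · rw [d.card_eq, pow_succ p 3]; exact Nat.mul_le_mul_right p hge

theorem exponent_sq (hF : FlagFree p H) (hcyc : IsCyclic (Subgroup.center H)) : ∀ x : H, x ^ p ^ 2 = 1 := by
  have hp' := hp.out
  have hch : p ∣ Nat.choose (p ^ 2) 2 :=
    hp'.dvd_choose_pow two_ne_zero (by nlinarith [hp'.two_le])
  let f : H →* H := MonoidHom.mk' (fun x => x ^ p ^ 2) (d.mul_pow hch)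
  obtain ⟨⟨u, huZ⟩, hu⟩ := hcyc.exists_generator
  have hup : (u ^ p) ^ p = 1 := by
    have := pow_card_eq_one' (x := (⟨u, huZ⟩ : Subgroup.center H))
    rw [d.center_card] at this
    rw [← pow_mul, ← sq]; exact congrArg Subtype.val this
  have hgen : ∀ z ∈ Subgroup.center H, ∃ i : ℤ, u ^ i = z := fun z hz => by
    obtain ⟨i, hi⟩ := Subgroup.mem_zpowers_iff.1 (hu ⟨z, hz⟩)
    exact ⟨i, congrArg Subtype.val hi⟩
  have hrange : Nat.card f.range ≤ p := by
    refine le_trans (Subgroup.card_le_of_le (K := Subgroup.zpowers (u ^ p)) ?_) ?_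
    · rintro _ ⟨x, rfl⟩
      obtain ⟨i, hi⟩ := hgen _ (d.pow_mem x)
      show x ^ p ^ 2 ∈ _
      rw [sq, pow_mul, ← hi, ← zpow_natCast (u ^ i), ← zpow_mul, mul_comm, zpow_mul, zpow_natCast]
      exact Subgroup.zpow_mem_zpowers _ i
    · rw [Nat.card_zpowers]
      exact Nat.le_of_dvd hp'.pos (orderOf_dvd_of_pow_eq_one hup)
  have hker : p ^ 3 ≤ Nat.card f.ker := by
    have h1 := f.ker.card_mul_index
    rw [Subgroup.index_ker, d.card_eq] at h1
    refine Nat.le_of_mul_le_mul_right ?_ hp'.pos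
    rw [← pow_succ, ← h1]
    exact Nat.mul_le_mul_left _ hrange
  have hL : f.ker = ⊤ := by
    refine d.no_line hF f.ker (characteristic_of_inv fun γ x hx => ?_) (fun z hz => ?_) fun h => ?_
    · rw [MonoidHom.mem_ker] at hx ⊢
      show γ x ^ p ^ 2 = 1
      rw [← map_pow, show x ^ p ^ 2 = 1 from hx, map_one]
    · obtain ⟨i, rfl⟩ := hgen z hz
      rw [MonoidHom.mem_ker]
      show (u ^ i) ^ p ^ 2 = 1
      rw [← zpow_natCast, ← zpow_mul, mul_comm, zpow_mul, zpow_natCast, sq, pow_mul, hup, one_zpow]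
    · have := hker.trans (Subgroup.card_le_of_le h)
      rw [d.center_card] at this
      exact absurd ((Nat.pow_le_pow_iff_right hp'.one_lt).1 this) (by norm_num)
  intro x
  exact MonoidHom.mem_ker.1 (hL.ge (Subgroup.mem_top x))

/-- For odd `p` and elementary centre the exponent is `p`. -/
theorem exponent_odd (hF : FlagFree p H) (hp2 : p ≠ 2) (hel : ∀ z ∈ Subgroup.center H, z ^ p = 1) :
    ∀ x : H, x ^ p = 1 := by
  have hp' := hp.out
  have hch : p ∣ Nat.choose p 2 := hp'.dvd_choose_self two_ne_zero (lt_of_le_of_ne hp'.two_le (Ne.symm hp2))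
  let f : H →* H := MonoidHom.mk' (fun x => x ^ p) (d.mul_pow hch)
  have hZker : Subgroup.center H ≤ f.ker := fun z hz => MonoidHom.mem_ker.2 (hel z hz)
  have hkc : f.ker.Characteristic := characteristic_of_inv fun γ x hx => by
    rw [MonoidHom.mem_ker] at hx ⊢
    show γ x ^ p = 1
    rw [← map_pow, show x ^ p = 1 from hx, map_one]
  by_cases hk : f.ker ≤ Subgroup.center H
  · exfalso
    have hkeq : f.ker = Subgroup.center H := le_antisymm hk hZker
    have hr : f.range = Subgroup.center H := by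
      refine Subgroup.eq_of_le_of_card_ge (by rintro _ ⟨x, rfl⟩; exact d.pow_mem x) (le_of_eq ?_)
      have h1 := f.ker.card_mul_index
      rw [Subgroup.index_ker, d.card_eq, hkeq, d.center_card, pow_add p 2 2] at h1
      rw [d.center_card]
      exact (Nat.eq_of_mul_eq_mul_left (pow_pos hp'.pos 2) h1).symm
    obtain ⟨x₀, hx₀⟩ : ⁅d.a, d.b⁆ ∈ f.range := hr.ge d.comm_central
    haveI hDchar : (Subgroup.zpowers ⁅d.a, d.b⁆).Characteristic := d.commutator_eq ▸ inferInstance
    have hL := d.no_line hF ((Subgroup.zpowers ⁅d.a, d.b⁆).comap f) (characteristic_of_inv fun γ x hx => by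
      rw [Subgroup.mem_comap] at hx ⊢
      show γ x ^ p ∈ _
      rw [← map_pow, ← Subgroup.characteristic_iff_map_eq.1 hDchar γ]
      exact ⟨x ^ p, hx, rfl⟩) (fun z hz => by
        rw [Subgroup.mem_comap, MonoidHom.mem_ker.1 (hZker hz)]; exact one_mem _) fun h => ?_
    · have hle : f.range ≤ Subgroup.zpowers ⁅d.a, d.b⁆ := by
        rintro _ ⟨x, rfl⟩; exact hL.ge (Subgroup.mem_top x)
      have := Subgroup.card_le_of_le hle
      rw [hr, d.center_card, d.card_comm] at this
      exact absurd this (not_le.2 (lt_self_pow₀ hp'.one_lt one_lt_two))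
    · have hx₁ : x₀ ∈ f.ker := hZker (h (by rw [Subgroup.mem_comap, hx₀]; exact Subgroup.mem_zpowers _))
      rw [MonoidHom.mem_ker, hx₀] at hx₁
      exact d.comm_ne hx₁
  · intro x
    exact MonoidHom.mem_ker.1 ((d.no_line hF f.ker hkc hZker hk).ge (Subgroup.mem_top x))

/-- A generated subgroup of order `p³` with a central complement. -/
theorem exists_complement {z : H} (hz : z ∈ Subgroup.center H) (hzD : z ∉ Subgroup.zpowers ⁅d.a, d.b⁆)
    (hzp : z ^ p = 1) (ha : d.a ^ p ∈ Subgroup.zpowers ⁅d.a, d.b⁆) (hb : d.b ^ p ∈ Subgroup.zpowers ⁅d.a, d.b⁆) :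
    ∃ K : Subgroup H, Nat.card K = p ^ 3 ∧ d.a ∈ K ∧ d.b ∈ K ∧ ⁅d.a, d.b⁆ ∈ K ∧ z ∉ K ∧
      Subgroup.center H ⊓ K = Subgroup.zpowers ⁅d.a, d.b⁆ ∧ (∀ k ∈ K, (∀ l ∈ K, l * k = k * l) → k ∈ Subgroup.center H) ∧
      Nat.card (Subgroup.zpowers ⁅d.a, d.b⁆ ⊔ Subgroup.zpowers d.a : Subgroup H) ≤ p ^ 2 ∧
      Nat.card (Subgroup.zpowers ⁅d.a, d.b⁆ ⊔ Subgroup.zpowers d.b : Subgroup H) ≤ p ^ 2 ∧
      Nonempty (H ≃* K × Multiplicative (ZMod p)) := by
  have hp' := hp.out
  set D := Subgroup.zpowers ⁅d.a, d.b⁆ with hD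
  haveI hDn : D.Normal := (d.commutator_eq ▸ (inferInstance : (commutator H).Normal) : (Subgroup.zpowers ⁅d.a, d.b⁆).Normal)
  have hnorm : ∀ A : Subgroup H, D ≤ A → A.Normal := fun A hA => ⟨fun n hn g => by
    have h1 : ⁅g, n⁆ ∈ A := hA (d.comm_mem g n)
    have h2 := A.mul_mem h1 hn
    simpa [commutatorElement_def, mul_assoc] using h2⟩
  haveI := hnorm (D ⊔ Subgroup.zpowers d.a) le_sup_left
  have hDc : Nat.card D = p := d.card_comm
  have hA2 : Nat.card (D ⊔ Subgroup.zpowers d.a : Subgroup H) ≤ p ^ 2 :=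
    (card_sup_zpowers_le D ha).trans (by rw [hDc, sq])
  have hB2 : Nat.card (D ⊔ Subgroup.zpowers d.b : Subgroup H) ≤ p ^ 2 :=
    (card_sup_zpowers_le D hb).trans (by rw [hDc, sq])
  set K := D ⊔ Subgroup.zpowers d.a ⊔ Subgroup.zpowers d.b with hK
  have hK3 : Nat.card K ≤ p ^ 3 :=
    (card_sup_zpowers_le (D ⊔ Subgroup.zpowers d.a) (Subgroup.mem_sup_left hb)).trans
      (by rw [pow_succ p 2]; exact Nat.mul_le_mul_right p hA2)
  have hH := d.isPGroup
  have hZgen : D ⊔ Subgroup.zpowers z = Subgroup.center H := by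
    refine Subgroup.eq_of_le_of_card_ge (sup_le (Subgroup.zpowers_le.2 d.comm_central) (Subgroup.zpowers_le.2 hz)) ?_
    have := le_card_step hH (show D < D ⊔ Subgroup.zpowers z from
      lt_of_le_not_ge le_sup_left fun h => hzD (h (Subgroup.mem_sup_right (Subgroup.mem_zpowers z))))
    rwa [hDc, ← sq, ← d.center_card] at this
  have hDK : D ≤ K := le_sup_of_le_left le_sup_left
  have haK : d.a ∈ K := Subgroup.mem_sup_left (Subgroup.mem_sup_right (Subgroup.mem_zpowers _))
  have hbK : d.b ∈ K := Subgroup.mem_sup_right (Subgroup.mem_zpowers _)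
  have htop : K ⊔ Subgroup.zpowers z = ⊤ := by
    refine top_le_iff.1 (d.top_eq.symm.le.trans (sup_le (sup_le ?_ ?_) ?_))
    · exact hZgen.symm.le.trans (sup_le (le_sup_of_le_left hDK) le_sup_right)
    · exact Subgroup.zpowers_le.2 (Subgroup.mem_sup_left haK)
    · exact Subgroup.zpowers_le.2 (Subgroup.mem_sup_left hbK)
  have hzK : z ∉ K := fun h => by
    rw [sup_eq_left.2 (Subgroup.zpowers_le.2 h)] at htop
    rw [htop, Subgroup.card_top, d.card_eq] at hK3
    exact absurd ((Nat.pow_le_pow_iff_right hp'.one_lt).1 hK3) (by norm_num)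
  have hKc : Nat.card K = p ^ 3 := by
    refine le_antisymm hK3 ?_
    haveI := hnorm K hDK
    have := card_sup_zpowers_le K (b := z) (by rw [hzp]; exact one_mem _)
    rw [htop, Subgroup.card_top, d.card_eq, pow_succ p 3] at this
    exact Nat.le_of_mul_le_mul_right this hp'.pos
  refine ⟨K, hKc, haK, hbK, hDK (Subgroup.mem_zpowers _), hzK, le_antisymm ?_ (le_inf (Subgroup.zpowers_le.2 d.comm_central) hDK),
    fun k hk hkc => Subgroup.mem_center_iff.2 fun g => ?_, hA2, hB2,
    iso_prod (Subgroup.mem_center_iff.1 hz) hzp hzK (by rw [hKc, d.card_eq, ← pow_succ])⟩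
  · intro x hx
    have h2 : Nat.card (Subgroup.center H ⊓ K : Subgroup H) ≤ p := by
      by_contra h
      have hlt : D < Subgroup.center H ⊓ K :=
        lt_of_le_of_ne (le_inf (Subgroup.zpowers_le.2 d.comm_central) hDK) fun he => h (by rw [← he, hDc])
      have h1 := le_card_step hH hlt
      rw [hDc, ← sq, ← d.center_card] at h1
      exact hzK ((Subgroup.eq_of_le_of_card_ge inf_le_left h1).ge hz).2
    exact (Subgroup.eq_of_le_of_card_ge (le_inf (Subgroup.zpowers_le.2 d.comm_central) hDK) (hDc.symm ▸ h2)).ge hx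
  · exact Subgroup.mem_centralizer_singleton_iff.1 ((htop ▸ sup_le
      (fun l hl => Subgroup.mem_centralizer_singleton_iff.2 (hkc l hl))
      (Subgroup.zpowers_le.2 (Subgroup.mem_centralizer_singleton_iff.2 (Subgroup.mem_center_iff.1 hz k).symm)) :
        ⊤ ≤ Subgroup.centralizer ({k} : Set H)) (Subgroup.mem_top g))

end FourthData

/-- Exponent `p` gives an extraspecial group times a group of order `p`. -/
theorem extraspecial_case (d : FourthData p H) (hexp : ∀ x : H, x ^ p = 1) :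
    ∃ (E : Type) (_ : Group E) (_ : Finite E), IsExtraspecial p E ∧ Nat.card E = p ^ 3 ∧
      (∀ x : E, x ^ p = 1) ∧ Nonempty (H ≃* E × Multiplicative (ZMod p)) := by
  have hp' := hp.out
  obtain ⟨z, hz, hzD⟩ := exists_notMem_of_card_lt (K := Subgroup.zpowers ⁅d.a, d.b⁆) (L := Subgroup.center H)
    (by rw [d.card_comm, d.center_card]; exact lt_self_pow₀ hp'.one_lt one_lt_two)
  obtain ⟨K, hKc, haK, hbK, hcK, -, hZK, hcen, hA2, hB2, ⟨e⟩⟩ := d.exists_complement hz hzD (hexp z)
    (by rw [hexp]; exact one_mem _) (by rw [hexp]; exact one_mem _)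
  have hKp : IsPGroup p K := d.isPGroup.to_subgroup K
  have hKe : ∀ x : K, x ^ p = 1 := fun x => Subtype.ext (hexp x)
  have hcenK : Subgroup.center K = (Subgroup.zpowers ⁅d.a, d.b⁆).subgroupOf K := by
    ext k
    rw [Subgroup.mem_subgroupOf, Subgroup.mem_center_iff]
    refine ⟨fun h => hZK.le ⟨hcen k k.2 fun l hl => congrArg Subtype.val (h ⟨l, hl⟩), k.2⟩, fun h g => ?_⟩
    exact Subtype.ext (Subgroup.mem_center_iff.1 (Subgroup.zpowers_le.2 d.comm_central h) g)
  have hKcc : Nat.card (Subgroup.center K) = p := by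
    rw [hcenK, Nat.card_congr (Subgroup.subgroupOfEquivOfLe (Subgroup.zpowers_le.2 hcK)).toEquiv, d.card_comm]
  have hcomm : commutator K = Subgroup.center K := by
    refine Subgroup.eq_of_le_of_card_ge ?_ ?_
    · rw [commutator_def, Subgroup.commutator_le, hcenK]
      exact fun x _ y _ => d.comm_mem x y
    · rw [hKcc]
      have hm : (⟨_, hcK⟩ : K) ∈ commutator K :=
        Subgroup.commutator_mem_commutator (Subgroup.mem_top (⟨_, haK⟩ : K)) (Subgroup.mem_top (⟨_, hbK⟩ : K))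
      have := Subgroup.card_le_of_le (Subgroup.zpowers_le.2 hm)
      rwa [Nat.card_zpowers, orderOf_eq_prime (hKe _) fun h => d.comm_ne (congrArg Subtype.val h)] at this
  have hfr : frattini K = Subgroup.center K := by
    refine le_antisymm (fun k hk => ?_) (hcomm ▸ Solv.commutator_le_frattini_pgroup hKp)
    rw [hcenK, Subgroup.mem_subgroupOf]
    have hco : ∀ {g g' : H} (hg : g ∈ K) (hg' : g' ∈ K), ⁅g, g'⁆ ≠ 1 →
        Nat.card (Subgroup.zpowers ⁅d.a, d.b⁆ ⊔ Subgroup.zpowers g : Subgroup H) ≤ p ^ 2 →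
        (k : H) ∈ Subgroup.zpowers ⁅d.a, d.b⁆ ⊔ Subgroup.zpowers g ∧
          g' ∉ Subgroup.zpowers ⁅d.a, d.b⁆ ⊔ Subgroup.zpowers g := by
      intro g g' hg hg' hne hc
      set M := Subgroup.zpowers ⁅d.a, d.b⁆ ⊔ Subgroup.zpowers g with hM
      have hMK : M ≤ K := sup_le (Subgroup.zpowers_le.2 hcK) (Subgroup.zpowers_le.2 hg)
      have hgD : g ∉ Subgroup.zpowers ⁅d.a, d.b⁆ := fun h => hne (commutatorElement_eq_one_iff_mul_comm.2
        (Subgroup.mem_center_iff.1 (Subgroup.zpowers_le.2 d.comm_central h) g').symm)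
      have h2 : p ^ 2 ≤ Nat.card M := by
        have := le_card_step d.isPGroup (show Subgroup.zpowers ⁅d.a, d.b⁆ < M from
          lt_of_le_not_ge le_sup_left fun h => hgD (h (Subgroup.mem_sup_right (Subgroup.mem_zpowers g))))
        rwa [d.card_comm, ← sq] at this
      have hidx : (M.subgroupOf K).index = p := by
        have h1 := (M.subgroupOf K).card_mul_index
        rw [Nat.card_congr (Subgroup.subgroupOfEquivOfLe hMK).toEquiv, hKc, le_antisymm hc h2, pow_succ p 2] at h1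
        exact Nat.eq_of_mul_eq_mul_left (pow_pos hp'.pos 2) h1
      refine ⟨Subgroup.mem_subgroupOf.1 (frattini_le_coatom (CountSq.coatom_of_index hidx) hk), fun h => hne ?_⟩
      have hle : M ≤ Subgroup.centralizer ({g} : Set H) := sup_le (Subgroup.zpowers_le.2
        (Subgroup.mem_centralizer_singleton_iff.2 (Subgroup.mem_center_iff.1 d.comm_central g).symm))
        (Subgroup.zpowers_le.2 (Subgroup.mem_centralizer_singleton_iff.2 rfl))
      exact commutatorElement_eq_one_iff_mul_comm.2 (Subgroup.mem_centralizer_singleton_iff.1 (hle h)).symm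
    obtain ⟨h1, hb1⟩ := hco haK hbK d.comm_ne hA2
    obtain ⟨h2, -⟩ := hco hbK haK (fun h => d.comm_ne (by rw [← commutatorElement_inv, h, inv_one])) hB2
    by_contra hk0
    have hkm : Subgroup.zpowers ⁅d.a, d.b⁆ ⊔ Subgroup.zpowers (k : H) ≤
        (Subgroup.zpowers ⁅d.a, d.b⁆ ⊔ Subgroup.zpowers d.a) ⊓ (Subgroup.zpowers ⁅d.a, d.b⁆ ⊔ Subgroup.zpowers d.b) :=
      sup_le (le_inf le_sup_left le_sup_left) (Subgroup.zpowers_le.2 ⟨h1, h2⟩)
    have hlow := le_card_step d.isPGroup (show Subgroup.zpowers ⁅d.a, d.b⁆ < Subgroup.zpowers ⁅d.a, d.b⁆ ⊔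
      Subgroup.zpowers (k : H) from lt_of_le_not_ge le_sup_left fun h => hk0 (h (Subgroup.mem_sup_right (Subgroup.mem_zpowers _))))
    rw [d.card_comm, ← sq] at hlow
    have he := Subgroup.eq_of_le_of_card_ge (hkm.trans inf_le_right) (hB2.trans hlow)
    exact hb1 ((hkm.trans inf_le_left) (he.ge (Subgroup.mem_sup_right (Subgroup.mem_zpowers d.b))))
  -- transport to `Type`
  haveI : Small.{0} K := small_of_injective (α := K) (β := Fin (Nat.card K)) (Finite.equivFin K).injective
  let σ : Shrink.{0} K ≃* K := Shrink.mulEquiv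
  have hcσ : (Subgroup.center (Shrink.{0} K)).map σ.toMonoidHom = Subgroup.center K := by
    ext k
    rw [Subgroup.mem_map_equiv, Subgroup.mem_center_iff, Subgroup.mem_center_iff]
    refine ⟨fun h g => σ.symm.injective (by rw [map_mul, map_mul]; exact h _), fun h g => σ.injective ?_⟩
    rw [map_mul, map_mul, MulEquiv.apply_symm_apply]; exact h _
  have hinj := Subgroup.map_injective (f := σ.toMonoidHom) σ.injective
  have hsurj : Function.Surjective σ.toMonoidHom := σ.surjective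
  refine ⟨Shrink.{0} K, inferInstance, Finite.of_equiv _ σ.toEquiv.symm, ⟨⟨hKp.of_equiv σ.symm, ?_, ?_⟩, ?_⟩,
    by rw [Nat.card_congr σ.toEquiv, hKc], fun x => σ.injective (by rw [map_pow, hKe, map_one]),
    ⟨e.trans (MulEquiv.prodCongr σ.symm (MulEquiv.refl _))⟩⟩
  · refine hinj ?_
    rw [hcσ, ← hfr]
    exact le_antisymm (Subgroup.map_le_iff_le_comap.2 (frattini_le_comap_frattini_of_surjective hsurj))
      (fun k hk => ⟨σ.symm k, (frattini_le_comap_frattini_of_surjective (φ := σ.symm.toMonoidHom) σ.symm.surjective) hk,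
        σ.apply_symm_apply k⟩)
  · refine hinj ?_
    rw [hcσ, ← hcomm, commutator_def, commutator_def, Subgroup.map_commutator,
      Subgroup.map_top_of_surjective _ hsurj]
  · rw [← hKcc, ← hcσ, Subgroup.card_map_of_injective (f := σ.toMonoidHom) σ.injective]

/-- For `p = 2` and elementary centre the group is `Q₈ × C₂`. -/
theorem quaternion_case [Fact (Nat.Prime 2)] (d : FourthData 2 H) (hF : FlagFree 2 H)
    (hel : ∀ z ∈ Subgroup.center H, z ^ 2 = 1) :
    Nonempty (H ≃* QuaternionGroup 2 × Multiplicative (ZMod 2)) := by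
  set c := ⁅d.a, d.b⁆ with hc
  have hzi : ∀ z ∈ Subgroup.center H, z⁻¹ = z := fun z hz =>
    inv_eq_of_mul_eq_one_right (by rw [← sq]; exact hel z hz)
  have hD2 : ∀ x ∈ Subgroup.zpowers c, x = 1 ∨ x = c := fun x hx => by
    obtain ⟨i, rfl⟩ := Subgroup.mem_zpowers_iff.1 hx
    rcases Int.even_or_odd i with ⟨j, rfl⟩ | ⟨j, rfl⟩
    · left
      rw [zpow_add, ← (Commute.refl c).mul_zpow, ← sq, d.comm_pow, one_zpow]
    · right
      rw [zpow_add, zpow_one, two_mul, zpow_add, ← (Commute.refl c).mul_zpow, ← sq, d.comm_pow, one_zpow, one_mul]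
  have hsq : ∀ x y : H, (x * y) ^ 2 = x ^ 2 * y ^ 2 * ⁅y⁻¹, x⁻¹⁆ := fun x y => by
    rw [Solv.AutOrb.mul_pow_choose (d.comm_comm y⁻¹ x⁻¹) (k := 1) (by simp only [commutatorElement_def, pow_one]; group) 2,
      Nat.choose_self, one_mul, pow_one]
  have hcz : ∀ x y : H, ⁅y⁻¹, x⁻¹⁆ ∈ Subgroup.zpowers c := fun x y => d.comm_mem _ _
  haveI hDchar : (Subgroup.zpowers c).Characteristic := d.commutator_eq ▸ inferInstance
  let L : Subgroup H :=
    { carrier := {x | x ^ 2 ∈ Subgroup.zpowers c}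
      one_mem' := by
        show (1 : H) ^ 2 ∈ Subgroup.zpowers c
        rw [one_pow]; exact one_mem _
      mul_mem' := fun {x y} hx hy => by
        show (x * y) ^ 2 ∈ Subgroup.zpowers c
        rw [hsq]; exact mul_mem (mul_mem hx hy) (hcz x y)
      inv_mem' := fun {x} hx => by
        show x⁻¹ ^ 2 ∈ Subgroup.zpowers c
        rw [inv_pow]; exact inv_mem hx }
  have hZL : Subgroup.center H ≤ L := fun z hz => by
    show z ^ 2 ∈ Subgroup.zpowers c
    rw [hel z hz]; exact one_mem _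
  have hanot : d.a ∉ Subgroup.center H := fun h => d.comm_ne
    (commutatorElement_eq_one_iff_mul_comm.2 (Subgroup.mem_center_iff.1 h d.b).symm)
  have hbnot : d.b ∉ Subgroup.center H := fun h => d.comm_ne
    (commutatorElement_eq_one_iff_mul_comm.2 (Subgroup.mem_center_iff.1 h d.a))
  have habnot : d.a * d.b ∉ Subgroup.center H := fun h => d.comm_ne (by
    refine commutatorElement_eq_one_iff_mul_comm.2 (mul_left_cancel (a := d.a) ?_)
    rw [Subgroup.mem_center_iff.1 h d.a, mul_assoc])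
  have hinvc : ⁅d.b⁻¹, d.a⁻¹⁆ = c := by
    rcases hD2 _ (hcz d.a d.b) with h | h
    · exfalso
      refine d.comm_ne (commutatorElement_eq_one_iff_mul_comm.2 ?_)
      have h1 := commutatorElement_eq_one_iff_mul_comm.1 h
      calc d.a * d.b = (d.b⁻¹ * d.a⁻¹)⁻¹ := by group
        _ = (d.a⁻¹ * d.b⁻¹)⁻¹ := by rw [h1]
        _ = _ := by group
    · exact h
  obtain ⟨z, hz, hzD⟩ := exists_notMem_of_card_lt (K := Subgroup.zpowers c) (L := Subgroup.center H)
    (by rw [d.card_comm, d.center_card]; norm_num)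
  have hcos : ∀ u ∈ Subgroup.center H, u ∉ Subgroup.zpowers c → ∀ v ∈ Subgroup.center H, v ∉ Subgroup.zpowers c →
      u * v ∈ Subgroup.zpowers c := by
    intro u hu hu' v hv hv'
    have hgen : Subgroup.zpowers c ⊔ Subgroup.zpowers u = Subgroup.center H := by
      refine Subgroup.eq_of_le_of_card_ge (sup_le (Subgroup.zpowers_le.2 d.comm_central) (Subgroup.zpowers_le.2 hu)) ?_
      have := le_card_step d.isPGroup (show Subgroup.zpowers c < Subgroup.zpowers c ⊔ Subgroup.zpowers u from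
        lt_of_le_not_ge le_sup_left fun h => hu' (h (Subgroup.mem_sup_right (Subgroup.mem_zpowers u))))
      rwa [d.card_comm, ← sq, ← d.center_card] at this
    haveI : (Subgroup.zpowers c).Normal := inferInstance
    obtain ⟨x, hx, y, hy, rfl⟩ := Subgroup.mem_sup_of_normal_left.1 (hgen.ge hv)
    obtain ⟨i, rfl⟩ := Subgroup.mem_zpowers_iff.1 hy
    rcases Int.even_or_odd i with ⟨j, rfl⟩ | ⟨j, rfl⟩
    · exact absurd (by rw [zpow_add, ← (Commute.refl u).mul_zpow, ← sq, hel u hu, one_zpow, mul_one]; exact hx) hv'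
    · have : u ^ (2 * j + 1) = u := by
        rw [zpow_add, zpow_one, two_mul, zpow_add, ← (Commute.refl u).mul_zpow, ← sq, hel u hu, one_zpow, one_mul]
      rw [this, Subgroup.mem_center_iff.1 hu x, ← mul_assoc, ← sq, hel u hu, one_mul]
      exact hx
  have hLtop : L = ⊤ := by
    refine d.no_line hF L (characteristic_of_inv fun γ x hx => ?_) hZL fun h => ?_
    · show γ x ^ 2 ∈ Subgroup.zpowers c
      rw [← map_pow, ← Subgroup.characteristic_iff_map_eq.1 hDchar γ]
      exact ⟨x ^ 2, hx, rfl⟩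
    · have ha' : d.a ^ 2 ∉ Subgroup.zpowers c := fun h1 => hanot (h h1)
      have hb' : d.b ^ 2 ∉ Subgroup.zpowers c := fun h1 => hbnot (h h1)
      refine habnot (h ?_)
      show (d.a * d.b) ^ 2 ∈ Subgroup.zpowers c
      rw [hsq]
      exact mul_mem (hcos _ (d.pow_mem _) ha' _ (d.pow_mem _) hb') (hcz _ _)
  have hval : ∀ x : H, x ^ 2 = 1 ∨ x ^ 2 = c := fun x => hD2 _ (hLtop.ge (Subgroup.mem_top x))
  -- the case of two involution cosets is impossible
  have hbad : ∀ a b : H, a ^ 2 = 1 → b ^ 2 = 1 → Subgroup.center H ⊔ Subgroup.zpowers a ⊔ Subgroup.zpowers b = ⊤ →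
      (a * b) ^ 2 = c → False := by
    intro a b ha hb hgen hab
    set M := Subgroup.center H ⊔ Subgroup.zpowers (a * b) with hM
    have habZ : a * b ∉ Subgroup.center H := fun h => d.comm_ne (hab.symm.trans (hel _ h))
    haveI : (Subgroup.center H ⊔ Subgroup.zpowers a).Normal := by
      refine ⟨fun n hn g => ?_⟩
      have h1 : ⁅g, n⁆ ∈ Subgroup.center H ⊔ Subgroup.zpowers a :=
        Subgroup.mem_sup_left (Subgroup.zpowers_le.2 d.comm_central (d.comm_mem g n))
      simpa [commutatorElement_def, mul_assoc] using mul_mem h1 hn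
    have hdec : ∀ x : H, x ∉ M → x ^ 2 = 1 := by
      intro x hx
      obtain ⟨y, hy, w, hw, rfl⟩ := Subgroup.mem_sup_of_normal_left.1 (hgen.ge (Subgroup.mem_top x))
      obtain ⟨u, hu, v, hv, rfl⟩ := Subgroup.mem_sup_of_normal_left.1 hy
      obtain ⟨i, rfl⟩ := Subgroup.mem_zpowers_iff.1 hv
      obtain ⟨j, rfl⟩ := Subgroup.mem_zpowers_iff.1 hw
      have hpar : ∀ {g : H}, g ^ 2 = 1 → ∀ n : ℤ, g ^ n = 1 ∨ g ^ n = g := by
        intro g hg n
        rcases Int.even_or_odd n with ⟨m, rfl⟩ | ⟨m, rfl⟩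
        · left; rw [zpow_add, ← (Commute.refl g).mul_zpow, ← sq, hg, one_zpow]
        · right; rw [zpow_add, zpow_one, two_mul, zpow_add, ← (Commute.refl g).mul_zpow, ← sq, hg, one_zpow, one_mul]
      have hu2 : ∀ g : H, g ^ 2 = 1 → (u * g) ^ 2 = 1 := fun g hg => by
        rw [(show Commute u g from (Subgroup.mem_center_iff.1 hu g).symm).mul_pow, hel u hu, hg, one_mul]
      rcases hpar ha i with h1 | h1 <;> rcases hpar hb j with h2 | h2 <;> rw [h1, h2] at hx ⊢
      · simp only [mul_one]; exact hel u hu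
      · rw [mul_one]; exact hu2 b hb
      · rw [mul_one]; exact hu2 a ha
      · rw [mul_assoc] at hx
        exact absurd (Subgroup.mul_mem_sup hu (Subgroup.mem_zpowers (a * b))) hx
    have hMchar : M.Characteristic := characteristic_of_inv fun γ x hx => by
      have hγ : γ (a * b) ∈ M := by
        by_contra h
        have h1 := hdec _ h
        rw [← map_pow, hab] at h1
        exact d.comm_ne (γ.map_eq_one_iff.1 h1)
      have hle : M ≤ M.comap γ.toMonoidHom := sup_le (fun z hz => Subgroup.mem_sup_left (by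
        rw [← Subgroup.characteristic_iff_map_eq.1 (inferInstance : (Subgroup.center H).Characteristic) γ]
        exact ⟨z, hz, rfl⟩)) (Subgroup.zpowers_le.2 hγ)
      exact hle hx
    have hMtop : M = ⊤ := d.no_line hF M hMchar le_sup_left fun h =>
      habZ (h (Subgroup.mem_sup_right (Subgroup.mem_zpowers _)))
    have h3 : Nat.card M ≤ Nat.card (Subgroup.center H) * 2 := card_sup_zpowers_le _ (d.pow_mem _)
    rw [hMtop, Subgroup.card_top, d.card_eq, d.center_card] at h3
    norm_num at h3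
  have hinvcomm : ∀ {x y : H}, x ^ 2 = c → (x * y) ^ 2 = c * y ^ 2 * ⁅y⁻¹, x⁻¹⁆ := fun h => by rw [hsq, h]
  have hcc : c * c = 1 := by rw [← sq, d.comm_pow]
  have hi : ∀ g : H, g ^ 2 = c ∨ g ^ 2 = 1 := fun g => (hval g).symm
  have hq : d.a ^ 2 = c ∧ d.b ^ 2 = c := by
    rcases hval d.a with ha | ha <;> rcases hval d.b with hb | hb
    · exact (hbad _ _ ha hb d.top_eq (by rw [hsq, ha, hb, one_mul, one_mul, hinvc])).elim
    · -- generators `a, ab`
      exfalso
      have hab2 : (d.a * d.b) ^ 2 = 1 := by rw [hsq, ha, hb, hinvc, one_mul, hcc]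
      refine hbad d.a (d.a * d.b) ha hab2 (top_le_iff.1 (d.top_eq.symm.le.trans
        (sup_le le_sup_left (Subgroup.zpowers_le.2 ?_)))) ?_
      · have h1 : d.a ∈ Subgroup.center H ⊔ Subgroup.zpowers d.a ⊔ Subgroup.zpowers (d.a * d.b) :=
          Subgroup.mem_sup_left (Subgroup.mem_sup_right (Subgroup.mem_zpowers _))
        have := mul_mem (inv_mem h1) (Subgroup.mem_sup_right (S := Subgroup.center H ⊔ Subgroup.zpowers d.a)
          (Subgroup.mem_zpowers (d.a * d.b)))
        simpa using this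
      · rw [← mul_assoc, ← sq, ha, one_mul, hb]
    · exfalso
      have hab2 : (d.a * d.b) ^ 2 = 1 := by rw [hsq, ha, hb, hinvc, mul_one, hcc]
      refine hbad (d.a * d.b) d.b hab2 hb (top_le_iff.1 (d.top_eq.symm.le.trans
        (sup_le (sup_le (le_sup_of_le_left le_sup_left) (Subgroup.zpowers_le.2 ?_)) le_sup_right))) ?_
      · have := mul_mem (Subgroup.mem_sup_left (T := Subgroup.zpowers d.b)
          (Subgroup.mem_sup_right (S := Subgroup.center H) (Subgroup.mem_zpowers (d.a * d.b))))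
          (inv_mem (Subgroup.mem_sup_right (S := Subgroup.center H ⊔ Subgroup.zpowers (d.a * d.b))
            (Subgroup.mem_zpowers d.b)))
        simpa using this
      · rw [mul_assoc, ← sq, hb, mul_one, ha]
    · exact ⟨ha, hb⟩
  obtain ⟨ha, hb⟩ := hq
  obtain ⟨K, hKc, haK, hbK, hcK, -, hZK, hcen, hA2, hB2, ⟨e⟩⟩ := d.exists_complement hz hzD (hel z hz)
    (by rw [ha]; exact Subgroup.mem_zpowers _) (by rw [hb]; exact Subgroup.mem_zpowers _)
  have habc : (d.a * d.b) ^ 2 = c := by rw [hsq, ha, hb, hinvc, hcc, one_mul]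
  -- involutions of `K` are central
  have hinv : ∀ k ∈ K, k ^ 2 = 1 → k ∈ Subgroup.zpowers c := by
    intro k hk hk2
    set A := Subgroup.zpowers c ⊔ Subgroup.zpowers d.a with hA
    haveI : A.Normal := ⟨fun n hn g => by
      have h1 : ⁅g, n⁆ ∈ A := Subgroup.mem_sup_left (d.comm_mem g n)
      simpa [commutatorElement_def, mul_assoc] using mul_mem h1 hn⟩
    have hAK : A ≤ K := sup_le (Subgroup.zpowers_le.2 hcK) (Subgroup.zpowers_le.2 haK)
    have hbA : d.b ∉ A := fun h => d.comm_ne (commutatorElement_eq_one_iff_mul_comm.2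
      (Subgroup.mem_centralizer_singleton_iff.1 ((sup_le (Subgroup.zpowers_le.2
        (Subgroup.mem_centralizer_singleton_iff.2 (Subgroup.mem_center_iff.1 d.comm_central d.a).symm))
        (Subgroup.zpowers_le.2 (Subgroup.mem_centralizer_singleton_iff.2 rfl)) : A ≤ _) h)).symm)
    have hgen : A ⊔ Subgroup.zpowers d.b = K := by
      refine Subgroup.eq_of_le_of_card_ge (sup_le hAK (Subgroup.zpowers_le.2 hbK)) ?_
      have h1 := le_card_step d.isPGroup (show Subgroup.zpowers c < A from lt_of_le_not_ge le_sup_left fun h =>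
        hanot (Subgroup.zpowers_le.2 d.comm_central (h (Subgroup.mem_sup_right (Subgroup.mem_zpowers d.a)))))
      have h2 := le_card_step d.isPGroup (show A < A ⊔ Subgroup.zpowers d.b from
        lt_of_le_not_ge le_sup_left fun h => hbA (h (Subgroup.mem_sup_right (Subgroup.mem_zpowers d.b))))
      rw [d.card_comm] at h1
      rw [hKc]
      calc 2 ^ 3 = 2 * 2 * 2 := by norm_num
        _ ≤ _ := (Nat.mul_le_mul_right 2 h1).trans h2
    obtain ⟨y, hy, w, hw, rfl⟩ := Subgroup.mem_sup_of_normal_left.1 (hgen.ge hk)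
    obtain ⟨u, hu, v, hv, rfl⟩ := Subgroup.mem_sup_of_normal_left.1 hy
    obtain ⟨i, rfl⟩ := Subgroup.mem_zpowers_iff.1 hv
    obtain ⟨j, rfl⟩ := Subgroup.mem_zpowers_iff.1 hw
    have hpar : ∀ {g : H}, g ^ 2 = c → ∀ n : ℤ, ∃ u' ∈ Subgroup.zpowers c, g ^ n = u' ∨ g ^ n = u' * g := by
      intro g hg n
      rcases Int.even_or_odd n with ⟨m, rfl⟩ | ⟨m, rfl⟩
      · exact ⟨c ^ m, Subgroup.zpow_mem_zpowers _ _, Or.inl (by rw [zpow_add, ← (Commute.refl g).mul_zpow, ← sq, hg])⟩
      · exact ⟨c ^ m, Subgroup.zpow_mem_zpowers _ _,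
          Or.inr (by rw [zpow_add, zpow_one, two_mul, zpow_add, ← (Commute.refl g).mul_zpow, ← sq, hg])⟩
    obtain ⟨u₁, hu₁, h1⟩ := hpar ha i
    obtain ⟨u₂, hu₂, h2⟩ := hpar hb j
    have hC : ∀ {g : H}, g ∈ Subgroup.zpowers c → ∀ h : H, h * g = g * h := fun hg =>
      Subgroup.mem_center_iff.1 (Subgroup.zpowers_le.2 d.comm_central hg)
    have hsqc : ∀ {g : H}, g ∈ Subgroup.zpowers c → ∀ h : H, (g * h) ^ 2 = h ^ 2 := fun {g} hg h => by
      rw [(show Commute g h from (hC hg h).symm).mul_pow, hel g (Subgroup.zpowers_le.2 d.comm_central hg), one_mul]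
    rcases h1 with h1 | h1 <;> rcases h2 with h2 | h2 <;> rw [h1, h2] at hk2 ⊢
    · exact mul_mem (mul_mem hu hu₁) hu₂
    · rw [show u * u₁ * (u₂ * d.b) = u * u₁ * u₂ * d.b by group, hsqc (mul_mem (mul_mem hu hu₁) hu₂), hb] at hk2
      exact absurd hk2 d.comm_ne
    · rw [show u * (u₁ * d.a) * u₂ = u * u₁ * (d.a * u₂) by group, hC hu₂ d.a,
        show u * u₁ * (u₂ * d.a) = u * u₁ * u₂ * d.a by group, hsqc (mul_mem (mul_mem hu hu₁) hu₂), ha] at hk2
      exact absurd hk2 d.comm_ne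
    · rw [show u * (u₁ * d.a) * (u₂ * d.b) = u * u₁ * (d.a * u₂) * d.b by group, hC hu₂ d.a,
        show u * u₁ * (u₂ * d.a) * d.b = u * u₁ * u₂ * (d.a * d.b) by group,
        hsqc (mul_mem (mul_mem hu hu₁) hu₂), habc] at hk2
      exact absurd hk2 d.comm_ne
  have hu : Solv.UniqueOrderP 2 K := by
    intro x y hx hy hy1
    have hxD := hinv x x.2 (congrArg Subtype.val hx)
    have hyD := hinv y y.2 (congrArg Subtype.val hy)
    rcases hD2 _ hyD with h | h
    · exact absurd (Subtype.ext h) hy1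
    rcases hD2 _ hxD with h' | h'
    · rw [show x = 1 from Subtype.ext h']; exact one_mem _
    · rw [show x = y from Subtype.ext (h'.trans h.symm)]; exact Subgroup.mem_zpowers y
  rcases Solv.cyclic_or_quaternion (d.isPGroup.to_subgroup K) hu with hcy | ⟨-, n, ⟨e'⟩⟩
  · exact absurd (commutatorElement_eq_one_iff_mul_comm.2 (congrArg Subtype.val
      (hcy.commutative.is_comm.comm (⟨_, haK⟩ : K) ⟨_, hbK⟩))) d.comm_ne
  · have hcd := Nat.card_congr e'.toEquiv
    rw [hKc, Nat.card_eq_fintype_card, QuaternionGroup.card] at hcd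
    obtain rfl : n = 1 := Nat.pow_right_injective (le_refl 2) (show 2 ^ n = 2 ^ 1 by omega)
    exact ⟨e.trans (MulEquiv.prodCongr e' (MulEquiv.refl _))⟩

end Cfsg.Agent.Local.FS
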