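import Cfsg.Agent.Lib.Local.StrongEmb
import Cfsg.Agent.Lib.Fusion.DicksonMatrix

/-!
Automorphism groups of a group of order `p²` with a strongly `p`-embedded subgroup contain `SL₂(p)`.
-/

set_option autoImplicit false

namespace Cfsg.Agent.Local.FS

open Cfsg.Agent.Fusion Cfsg.Agent.Fusion.Dickson

variable {H : Type*} [Group H] [Finite H] {p : ℕ} [hp : Fact p.Prime]

/-- A Sylow subgroup of a subgroup with a strongly embedded subgroup and an element moving it. -/
theorem two_noncommuting {X : Type*} [Group X] [Finite X] {E : Subgroup X}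
    (hE : Cfsg.IsStronglyPEmbedded p E) :
    ∃ a b : X, orderOf a = p ∧ orderOf b = p ∧ a * b ≠ b * a := by
  obtain ⟨hdvd, hEt, T, hT, hΓ⟩ := Local.isStronglyPEmbedded_iff.1 hE
  have hT1 : T ≠ ⊥ := by
    intro h
    have := hT.not_dvd
    rw [h, Subgroup.relIndex_top_right, Subgroup.index_bot] at this
    exact this hdvd
  obtain ⟨g, hg⟩ : ∃ g, g ∉ E := by
    by_contra h; push Not at h
    exact hEt (eq_top_iff.2 fun x _ => h x)
  obtain ⟨k, hk⟩ := IsPGroup.iff_card.1 hT.isPGroup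
  have hdT : p ∣ Nat.card T := by
    rw [hk]; refine dvd_pow_self p ?_
    rintro rfl
    exact hT1 (Subgroup.card_eq_one.1 (by simpa using hk))
  obtain ⟨a, ha⟩ := exists_prime_orderOf_dvd_card' (G := ↥T) p hdT
  refine ⟨a, g * a * g⁻¹, by rw [Subgroup.orderOf_coe]; exact ha, ?_, fun hc => ?_⟩
  · rw [← ha, ← Subgroup.orderOf_coe a]
    exact orderOf_injective (MulAut.conj g).toMonoidHom (MulAut.conj g).injective (a : X)
  set b : X := g * a * g⁻¹ with hb
  have ha1 : (a : X) ≠ 1 := fun h => hp.out.ne_one (by rw [← ha, ← Subgroup.orderOf_coe a, h, orderOf_one])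
  have hb1 : b ≠ 1 := fun h => ha1 (by
    have : (a : X) = g⁻¹ * b * g := by rw [hb]; group
    rw [this, h]; group)
  have hpa : IsPGroup p (Subgroup.zpowers (a : X)) := hT.isPGroup.to_le (Subgroup.zpowers_le.2 a.2)
  have hpb : IsPGroup p (Subgroup.zpowers b) :=
    (hT.cj g).isPGroup.to_le (Subgroup.zpowers_le.2 ⟨a, a.2, rfl⟩)
  have hsup : IsPGroup p (Subgroup.zpowers (a : X) ⊔ Subgroup.zpowers b : Subgroup X) :=
    hpa.to_sup_of_normal_left' hpb (Subgroup.zpowers_le.2 (Subgroup.centralizer_le_normalizer _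
      (Subgroup.mem_centralizer_iff.2 fun x hx => by
        obtain ⟨i, rfl⟩ := Subgroup.mem_zpowers_iff.1 hx
        exact ((show Commute (a : X) b from hc).zpow_left i).eq)))
  obtain ⟨U, hU, hle⟩ := exists_sylIn_ge hsup (le_top (a := _))
  have haU : (a : X) ∈ U := hle (Subgroup.mem_sup_left (Subgroup.mem_zpowers _))
  have hbU : b ∈ U := hle (Subgroup.mem_sup_right (Subgroup.mem_zpowers _))
  obtain ⟨e, he, hUe⟩ := Local.sylow_conj_of_inf_ne_bot hT hΓ U hU fun h =>
    ha1 (Subgroup.mem_bot.1 (h ▸ Subgroup.mem_inf.2 ⟨a.2, haU⟩))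
  obtain ⟨e', he', hUe'⟩ := Local.sylow_conj_of_inf_ne_bot hT hΓ (cj U g⁻¹)
    (by simpa [Fusion.cj_of_normal ⊤] using hU.cj g⁻¹) fun h =>
    ha1 (Subgroup.mem_bot.1 (h ▸ Subgroup.mem_inf.2 ⟨a.2, ⟨b, hbU, by simp [hb, mul_assoc]⟩⟩))
  have h1 : cj T (e⁻¹ * (g * e')) = T := by
    rw [← cj_cj, ← cj_cj, ← hUe', cj_inv_cj, hUe, cj_cj_inv]
  have h2 : e⁻¹ * (g * e') ∈ E :=
    hΓ T le_rfl hT1 (mem_normalizer_iff_cj.2 h1)
  refine hg ?_
  rw [show g = e * (e⁻¹ * (g * e')) * e'⁻¹ by group]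
  exact mul_mem (mul_mem he h2) (inv_mem he')

/-- An automorphism of order `p` of an elementary abelian group of order `p²`. -/
theorem exists_fixed_line (hc : ∀ x y : H, x * y = y * x) (hcard : Nat.card H = p ^ 2)
    {a : MulAut H} (ha : orderOf a = p) :
    ∃ e : H, e ≠ 1 ∧ a e = e ∧ (∀ x, a x = x → x ∈ Subgroup.zpowers e) ∧
      ∀ x, a x * x⁻¹ ∈ Subgroup.zpowers e := by
  letI : CommGroup H := { (inferInstance : Group H) with mul_comm := hc }
  obtain ⟨d, hd⟩ : ∃ d : H →* H, d = MonoidHom.mk' (fun x => a x * x⁻¹)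
      (fun x y => by simp only [map_mul, mul_inv_rev]; ac_rfl) := ⟨_, rfl⟩
  have hd' : ∀ x, d x = a x * x⁻¹ := fun x => by rw [hd]; rfl
  have hfix : ∀ x, x ∈ d.ker ↔ a x = x := fun x => by
    rw [MonoidHom.mem_ker, hd', mul_inv_eq_one]
  have hprod : Nat.card d.ker * Nat.card d.range = p ^ 2 := by
    rw [← hcard, ← Subgroup.index_ker, Subgroup.card_mul_index]
  have hpH : IsPGroup p H := IsPGroup.of_card hcard
  have hrange : ∀ x ∈ d.range, a x ∈ d.range := by
    rintro _ ⟨y, rfl⟩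
    exact ⟨a y, by rw [hd', hd', map_mul, map_inv]⟩
  have hpa : IsPGroup p (Subgroup.zpowers a) := IsPGroup.of_card (n := 1) (by rw [Nat.card_zpowers, ha, pow_one])
  have hker1 : d.ker ≠ ⊥ := by
    intro hb
    have hp2 : p ∣ Nat.card H := hcard ▸ dvd_pow_self p two_ne_zero
    have hone : (1 : H) ∈ MulAction.fixedPoints (Subgroup.zpowers a) H := fun g => map_one (g : MulAut H)
    obtain ⟨x, hx, hx1⟩ := hpa.exists_fixed_point_of_prime_dvd_card_of_fixed_point H hp2 hone
    refine hx1 ?_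
    have : x ∈ d.ker := (hfix x).2 (hx ⟨a, Subgroup.mem_zpowers a⟩)
    rw [hb, Subgroup.mem_bot] at this
    exact this.symm
  have hran1 : d.range ≠ ⊥ := by
    intro hb
    refine hp.out.ne_one ?_
    rw [← ha, orderOf_eq_one_iff]
    ext x
    have : d x ∈ d.range := ⟨x, rfl⟩
    rw [hb, Subgroup.mem_bot, hd', mul_inv_eq_one] at this
    exact this
  have hsize : ∀ {K : Subgroup H}, K ≠ ⊥ → p ≤ Nat.card K := by
    intro K hK
    obtain ⟨i, hi⟩ := IsPGroup.iff_card.1 (hpH.to_subgroup K)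
    rcases i with _ | i
    · exact absurd (Subgroup.card_eq_one.1 (by simpa using hi)) hK
    · rw [hi]; exact Nat.le_self_pow (Nat.succ_ne_zero i) p
  have hkp : Nat.card d.ker = p := by
    have h1 := hsize hker1
    have h2 := hsize hran1
    rw [sq] at hprod
    nlinarith [hp.out.two_le]
  have hrp : Nat.card d.range = p := by
    rw [hkp, sq] at hprod
    exact Nat.eq_of_mul_eq_mul_left hp.out.pos hprod
  obtain ⟨z, hz⟩ := exists_prime_orderOf_dvd_card' (G := ↥d.range) p (by rw [hrp])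
  have hzr : d.range = Subgroup.zpowers (z : H) :=
    (Subgroup.eq_of_le_of_card_ge (Subgroup.zpowers_le.2 z.2)
      (by rw [Nat.card_zpowers, Subgroup.orderOf_coe, hz, hrp])).symm
  -- `a` fixes its line
  obtain ⟨j, hj⟩ : ∃ j : ℕ, a z = (z : H) ^ j := by
    have h := (SetLike.ext_iff.1 hzr _).1 (hrange _ z.2)
    rw [← mem_powers_iff_mem_zpowers] at h
    obtain ⟨j, hj⟩ := h
    exact ⟨j, hj.symm⟩
  have hiter : ∀ i : ℕ, (a ^ i) (z : H) = (z : H) ^ j ^ i := by
    intro i
    induction i with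
    | zero => simp
    | succ i ih =>
      rw [pow_succ, MulAut.mul_apply, hj, map_pow, ih, ← pow_mul, ← pow_succ]
  have hazfix : a z = z := by
    have h := hiter p
    rw [show a ^ p = 1 from ha ▸ pow_orderOf_eq_one a, MulAut.one_apply] at h
    have hz' : orderOf (z : H) = p := by rw [Subgroup.orderOf_coe, hz]
    rw [hj]
    conv_rhs => rw [← pow_one (z : H)]
    rw [pow_eq_pow_iff_modEq, hz']
    have h1 : j ^ p ≡ 1 [MOD p] := by
      conv_lhs at h => rw [← pow_one (z : H)]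
      rw [pow_eq_pow_iff_modEq, hz'] at h
      exact h.symm
    rw [← ZMod.natCast_eq_natCast_iff] at h1 ⊢
    push_cast at h1 ⊢
    rwa [ZMod.pow_card] at h1
  have hker : d.ker = Subgroup.zpowers (z : H) :=
    (Subgroup.eq_of_le_of_card_ge (Subgroup.zpowers_le.2 ((hfix z).2 hazfix))
      (by rw [Nat.card_zpowers, Subgroup.orderOf_coe, hz, hkp])).symm
  refine ⟨z, fun h => hp.out.ne_one ?_, hazfix, fun x hx => hker ▸ (hfix x).2 hx,
    fun x => hzr ▸ ⟨x, hd' x⟩⟩
  rw [← hz, ← Subgroup.orderOf_coe z, h, orderOf_one]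

set_option maxHeartbeats 1000000 in
/-- The action of `SL₂(p)` in a basis. -/
theorem exists_sl2_hom (hc : ∀ x y : H, x * y = y * x) (hexp : ∀ x : H, x ^ p = 1) {e₁ e₂ : H}
    (hspan : ∀ x, ∃ i j : ℕ, x = e₁ ^ i * e₂ ^ j) (hcard : Nat.card H = p ^ 2) :
    ∃ ρ : Matrix.SpecialLinearGroup (Fin 2) (ZMod p) →* MulAut H, Function.Injective ρ ∧
      ρ (upU 1) e₁ = e₁ ∧ ρ (upU 1) e₂ = e₁ * e₂ ∧ ρ (lowL 1) e₁ = e₁ * e₂ ∧ ρ (lowL 1) e₂ = e₂ := by
  haveI : NeZero p := ⟨hp.out.ne_zero⟩
  have hmod : ∀ (x : H) (n : ℕ), x ^ (n % p) = x ^ n := fun x n => (pow_eq_pow_mod n (hexp x)).symm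
  let W : Multiplicative (Fin 2 → ZMod p) →* H := MonoidHom.mk'
    (fun v => e₁ ^ (Multiplicative.toAdd v 0).val * e₂ ^ (Multiplicative.toAdd v 1).val) fun u v => by
      simp only [toAdd_mul, Pi.add_apply, ZMod.val_add, hmod, pow_add]
      exact (show Commute (e₁ ^ (Multiplicative.toAdd v 0).val) (e₂ ^ (Multiplicative.toAdd u 1).val) from
        hc _ _).mul_mul_mul_comm _ _
  have hs : Function.Surjective W := by
    intro x
    obtain ⟨i, j, rfl⟩ := hspan x
    refine ⟨Multiplicative.ofAdd ![(i : ZMod p), (j : ZMod p)], ?_⟩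
    show e₁ ^ ((i : ZMod p)).val * e₂ ^ ((j : ZMod p)).val = _
    rw [ZMod.val_natCast, ZMod.val_natCast, hmod, hmod]
  have hb : Function.Bijective W := by
    haveI : Finite (Multiplicative (Fin 2 → ZMod p)) := inferInstanceAs (Finite (Fin 2 → ZMod p))
    refine hs.bijective_of_nat_card_le (le_of_eq ?_)
    rw [hcard, Nat.card_congr Multiplicative.toAdd, Nat.card_pi]
    simp
  let w := MulEquiv.ofBijective W hb
  let lin : Matrix.SpecialLinearGroup (Fin 2) (ZMod p) → MulAut (Multiplicative (Fin 2 → ZMod p)) := fun g =>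
    { toFun := fun v => Multiplicative.ofAdd (g.1.mulVec (Multiplicative.toAdd v))
      invFun := fun v => Multiplicative.ofAdd ((g⁻¹).1.mulVec (Multiplicative.toAdd v))
      left_inv := fun v => by
        show Multiplicative.ofAdd ((g⁻¹).1.mulVec (g.1.mulVec (Multiplicative.toAdd v))) = v
        rw [Matrix.mulVec_mulVec, ← Matrix.SpecialLinearGroup.coe_mul, inv_mul_cancel]
        simp
      right_inv := fun v => by
        show Multiplicative.ofAdd (g.1.mulVec ((g⁻¹).1.mulVec (Multiplicative.toAdd v))) = v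
        rw [Matrix.mulVec_mulVec, ← Matrix.SpecialLinearGroup.coe_mul, mul_inv_cancel]
        simp
      map_mul' := fun u v => by
        show Multiplicative.ofAdd (g.1.mulVec (Multiplicative.toAdd u + Multiplicative.toAdd v)) = _
        rw [Matrix.mulVec_add]; rfl }
  have key : ∀ g : Matrix.SpecialLinearGroup (Fin 2) (ZMod p), ∀ x : H, ∀ v, x = w v →
      (MulAut.congr w (lin g)) x = w (lin g v) := by
    rintro g x v rfl
    simp
  let L : Matrix.SpecialLinearGroup (Fin 2) (ZMod p) →* MulAut (Multiplicative (Fin 2 → ZMod p)) :=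
    MonoidHom.mk' lin fun g h => by
      refine MulEquiv.ext fun v => ?_
      show Multiplicative.ofAdd ((g * h).1.mulVec (Multiplicative.toAdd v)) =
        Multiplicative.ofAdd (g.1.mulVec (h.1.mulVec (Multiplicative.toAdd v)))
      rw [Matrix.mulVec_mulVec, Matrix.SpecialLinearGroup.coe_mul]
  have hL : Function.Injective L := by
    intro g h hgh
    refine Subtype.ext (Matrix.ext fun i j => ?_)
    have h2 : ∀ v : Multiplicative (Fin 2 → ZMod p), L g v = L h v := fun v => by rw [hgh]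
    have h1 : g.1.mulVec (Pi.single j (1 : ZMod p)) = h.1.mulVec (Pi.single j (1 : ZMod p)) :=
      Multiplicative.ofAdd.injective (h2 (Multiplicative.ofAdd (Pi.single j (1 : ZMod p))))
    simpa [Matrix.mulVec_single] using congrFun h1 i
  haveI : Fact (1 < p) := ⟨hp.out.one_lt⟩
  have hw1 : e₁ = w (Multiplicative.ofAdd ![1, 0]) := by
    show e₁ = e₁ ^ (1 : ZMod p).val * e₂ ^ (0 : ZMod p).val
    simp [ZMod.val_one]
  have hw2 : e₂ = w (Multiplicative.ofAdd ![0, 1]) := by
    show e₂ = e₁ ^ (0 : ZMod p).val * e₂ ^ (1 : ZMod p).val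
    simp [ZMod.val_one]
  have hw12 : e₁ * e₂ = w (Multiplicative.ofAdd ![1, 1]) := by
    show e₁ * e₂ = e₁ ^ (1 : ZMod p).val * e₂ ^ (1 : ZMod p).val
    simp [ZMod.val_one]
  refine ⟨(MulAut.congr w).toMonoidHom.comp L, (MulAut.congr w).injective.comp hL, ?_, ?_, ?_, ?_⟩
  · refine ((key _ _ _ hw1).trans (congrArg w (congrArg Multiplicative.ofAdd ?_))).trans hw1.symm
    show (upU (1 : ZMod p)).1.mulVec ![1, 0] = ![1, 0]
    funext i; fin_cases i <;> simp [upU, Matrix.mulVec, dotProduct, Fin.sum_univ_two, Matrix.vecHead, Matrix.vecTail]  --done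
  · refine ((key _ _ _ hw2).trans (congrArg w (congrArg Multiplicative.ofAdd ?_))).trans hw12.symm
    show (upU (1 : ZMod p)).1.mulVec ![0, 1] = ![1, 1]
    funext i; fin_cases i <;> simp [upU, Matrix.mulVec, dotProduct, Fin.sum_univ_two, Matrix.vecHead, Matrix.vecTail]  --done
  · refine ((key _ _ _ hw1).trans (congrArg w (congrArg Multiplicative.ofAdd ?_))).trans hw12.symm
    show (lowL (1 : ZMod p)).1.mulVec ![1, 0] = ![1, 1]
    funext i; fin_cases i <;> simp [lowL, Matrix.mulVec, dotProduct, Fin.sum_univ_two, Matrix.vecHead, Matrix.vecTail]  --done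
  · refine ((key _ _ _ hw2).trans (congrArg w (congrArg Multiplicative.ofAdd ?_))).trans hw2.symm
    show (lowL (1 : ZMod p)).1.mulVec ![0, 1] = ![0, 1]
    funext i; fin_cases i <;> simp [lowL, Matrix.mulVec, dotProduct, Fin.sum_univ_two, Matrix.vecHead, Matrix.vecTail]  --done

/-- `SL₂(p)` is generated by two transvections. -/
theorem sl2_le_of_transvections {L : Subgroup (Matrix.SpecialLinearGroup (Fin 2) (ZMod p))}
    (hu : upU 1 ∈ L) (hl : lowL 1 ∈ L) : L = ⊤ := by
  have hU : ∀ a : ZMod p, upU a ∈ L := fun a => by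
    have e : upU a = upU (1 : ZMod p) ^ a.val := by rw [upU_pow, mul_one, ZMod.natCast_zmod_val]
    rw [e]; exact pow_mem hu _
  have hL : ∀ a : ZMod p, lowL a ∈ L := fun a => by
    have e : lowL a = lowL (1 : ZMod p) ^ a.val := by rw [lowL_pow, mul_one, ZMod.natCast_zmod_val]
    rw [e]; exact pow_mem hl _
  have hgen : ∀ g : Matrix.SpecialLinearGroup (Fin 2) (ZMod p), g.1 1 0 ≠ 0 → g ∈ L := by
    intro g hc
    have hd := det_eq g
    have e : g = upU ((g.1 0 0 - 1) / g.1 1 0) * lowL (g.1 1 0) * upU ((g.1 1 1 - 1) / g.1 1 0) := by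
      apply ext' <;> simp [mul_entry] <;> field_simp <;>
        first | ring1 | linear_combination -hd | linear_combination hd
    rw [e]
    exact mul_mem (mul_mem (hU _) (hL _)) (hU _)
  rw [eq_top_iff]
  intro g _
  by_cases hc : g.1 1 0 = 0
  · have hd := det_eq g
    have h1 : (lowL 1 * g).1 1 0 ≠ 0 := by
      simp only [mul_entry]
      simp [hc]
      intro h
      rw [h, hc] at hd
      simp at hd
    have := mul_mem (inv_mem hl) (hgen _ h1)
    rwa [inv_mul_cancel_left] at this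
  · exact hgen g hc

/-- The theorem on groups of order `p²`. -/
theorem exists_sl2_of_noncommuting (hcard : Nat.card H = p ^ 2) (A : Subgroup (MulAut H))
    (hA : ∃ a b : A, orderOf a = p ∧ orderOf b = p ∧ a * b ≠ b * a) :
    (∀ x : H, x ^ p = 1) ∧
      ∃ K : Subgroup A, Nonempty (K ≃* Matrix.SpecialLinearGroup (Fin 2) (ZMod p)) := by
  haveI : Finite (MulAut H) := Finite.of_injective (fun a : MulAut H => (a : H → H)) DFunLike.coe_injective
  have hc : ∀ x y : H, x * y = y * x := (IsPGroup.isMulCommutative_of_card_eq_prime_sq hcard).is_comm.comm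
  obtain ⟨a, b, ha, hb, hab⟩ := hA
  have ha' : orderOf (a : MulAut H) = p := by rw [Subgroup.orderOf_coe, ha]
  have hb' : orderOf (b : MulAut H) = p := by rw [Subgroup.orderOf_coe, hb]
  obtain ⟨u, hu1, hau, huf, hur⟩ := exists_fixed_line hc hcard ha'
  obtain ⟨v, hv1, hbv, hvf, hvr⟩ := exists_fixed_line hc hcard hb'
  have hexp : ∀ x : H, x ^ p = 1 := by
    by_contra h
    push Not at h
    obtain ⟨x, hx⟩ := h
    obtain ⟨k, hk2, hk⟩ := (Nat.dvd_prime_pow hp.out).1 (hcard ▸ orderOf_dvd_natCard x)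
    have hk' : k = 2 := by
      by_contra hne
      refine hx (orderOf_dvd_iff_pow_eq_one.1 ?_)
      rw [hk]
      exact (pow_dvd_pow p (by omega : k ≤ 1)).trans (pow_one p).dvd
    subst hk'
    have hcyc : ∀ y : H, ∃ i : ℕ, y = x ^ i := by
      intro y
      have htop : Subgroup.zpowers x = ⊤ := by
        rw [← Subgroup.card_eq_iff_eq_top, Nat.card_zpowers, hk, hcard]
      have hy : y ∈ Subgroup.zpowers x := htop ▸ Subgroup.mem_top y
      rw [← mem_powers_iff_mem_zpowers] at hy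
      obtain ⟨i, hi⟩ := hy
      exact ⟨i, hi.symm⟩
    apply hab
    refine Subtype.ext (MulEquiv.ext fun y => ?_)
    obtain ⟨i, rfl⟩ := hcyc y
    obtain ⟨j, hj⟩ := hcyc ((a : MulAut H) x)
    obtain ⟨l, hl⟩ := hcyc ((b : MulAut H) x)
    simp only [Subgroup.coe_mul, MulAut.mul_apply, map_pow, hj, hl, ← pow_mul]
    ring_nf
  refine ⟨hexp, ?_⟩
  have hord : ∀ {e : H}, e ≠ 1 → orderOf e = p := fun h => orderOf_eq_prime (hexp _) h
  -- the two lines differ
  have huv : v ∉ Subgroup.zpowers u := by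
    intro hv
    have hle : Subgroup.zpowers v = Subgroup.zpowers u :=
      Subgroup.eq_of_le_of_card_ge (Subgroup.zpowers_le.2 hv)
        (by rw [Nat.card_zpowers, Nat.card_zpowers, hord hu1, hord hv1])
    apply hab
    refine Subtype.ext (MulEquiv.ext fun x => ?_)
    show (a : MulAut H) ((b : MulAut H) x) = (b : MulAut H) ((a : MulAut H) x)
    have e1 := hur x
    have e2 := hvr x
    rw [hle] at e2
    have f1 : ∀ z ∈ Subgroup.zpowers u, (a : MulAut H) z = z := fun z hz => by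
      obtain ⟨i, rfl⟩ := Subgroup.mem_zpowers_iff.1 hz; rw [map_zpow, hau]
    have f2 : ∀ z ∈ Subgroup.zpowers u, (b : MulAut H) z = z := fun z hz => by
      rw [← hle] at hz
      obtain ⟨i, rfl⟩ := Subgroup.mem_zpowers_iff.1 hz; rw [map_zpow, hbv]
    have h1 := f1 _ e2
    have h2 := f2 _ e1
    rw [map_mul, map_inv] at h1 h2
    letI : CommGroup H := { (inferInstance : Group H) with mul_comm := hc }
    rw [mul_inv_eq_iff_eq_mul] at h1 h2
    rw [h1, h2, mul_assoc, mul_assoc, mul_left_comm ((b : MulAut H) x), mul_left_comm ((a : MulAut H) x)]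
    simp [mul_comm]
  have hspan : ∀ {e f : H}, e ≠ 1 → f ∉ Subgroup.zpowers e → ∀ x, ∃ i j : ℕ, x = e ^ i * f ^ j := by
    intro e f he hf x
    letI : CommGroup H := { (inferInstance : Group H) with mul_comm := hc }
    have htop : Subgroup.zpowers e ⊔ Subgroup.zpowers f = ⊤ := by
      refine Subgroup.eq_top_of_le_card _ ?_
      obtain ⟨k, hk⟩ := IsPGroup.iff_card.1 ((IsPGroup.of_card hcard).to_subgroup (Subgroup.zpowers e ⊔ Subgroup.zpowers f))
      have hlt : Nat.card (Subgroup.zpowers e) < Nat.card (Subgroup.zpowers e ⊔ Subgroup.zpowers f : Subgroup H) := by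
        refine lt_of_le_of_ne (Subgroup.card_le_of_le le_sup_left) fun h => hf ?_
        rw [Subgroup.eq_of_le_of_card_ge le_sup_left h.ge]
        exact Subgroup.mem_sup_right (Subgroup.mem_zpowers f)
      rw [Nat.card_zpowers, hord he, hk] at hlt
      rw [hcard, hk]
      exact Nat.pow_le_pow_right hp.out.pos ((Nat.pow_lt_pow_iff_right hp.out.one_lt).1 (by rwa [pow_one]))
    obtain ⟨y, hy, z, hz, rfl⟩ := Subgroup.mem_sup.1 (htop ▸ Subgroup.mem_top x)
    rw [← mem_powers_iff_mem_zpowers] at hy hz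
    obtain ⟨i, rfl⟩ := hy
    obtain ⟨j, rfl⟩ := hz
    exact ⟨i, j, rfl⟩
  -- normalise the two transvections
  have hnorm : ∀ {c : MulAut H} {e f : H}, e ≠ 1 → c e = e → (∀ x, c x = x → x ∈ Subgroup.zpowers e) →
      (∀ x, c x * x⁻¹ ∈ Subgroup.zpowers e) → f ∉ Subgroup.zpowers e →
      ∃ k : ℕ, (c ^ k) e = e ∧ (c ^ k) f = e * f := by
    intro c e f he hce hcf hcr hf
    obtain ⟨i, hi⟩ := mem_powers_iff_mem_zpowers.2 (hcr f)
    simp only at hi
    have hcf' : c f = e ^ i * f := by rw [hi, inv_mul_cancel_right]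
    have hi0 : ¬ p ∣ i := fun hd => hf (hcf f (by
      rw [hcf', orderOf_dvd_iff_pow_eq_one.1 ((hord he).symm ▸ hd), one_mul]))
    obtain ⟨m, -, hm⟩ := Nat.exists_mul_mod_eq_one_of_coprime
      ((hp.out.coprime_iff_not_dvd.2 hi0).symm) hp.out.one_lt
    have hpw : ∀ k : ℕ, (c ^ k) e = e ∧ (c ^ k) f = e ^ (i * k) * f := by
      intro k
      induction k with
      | zero => simp
      | succ k ih =>
        refine ⟨by rw [pow_succ', MulAut.mul_apply, ih.1, hce], ?_⟩
        rw [pow_succ', MulAut.mul_apply, ih.2, map_mul, map_pow, hce, hcf', ← mul_assoc, ← pow_add,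
          Nat.mul_succ]
    refine ⟨m, (hpw m).1, ?_⟩
    rw [(hpw m).2, pow_eq_pow_mod _ (hexp e), hm, pow_one]
  have huv' : u ∉ Subgroup.zpowers v := fun h => huv (by
    rw [Subgroup.eq_of_le_of_card_ge (Subgroup.zpowers_le.2 h)
      (by rw [Nat.card_zpowers, Nat.card_zpowers, hord hu1, hord hv1])]
    exact Subgroup.mem_zpowers v)
  obtain ⟨k, hk1, hk2⟩ := hnorm hu1 hau huf hur huv
  obtain ⟨l, hl1, hl2⟩ := hnorm hv1 hbv hvf hvr huv'
  obtain ⟨ρ, hρ, r1, r2, r3, r4⟩ := exists_sl2_hom hc hexp (hspan hu1 huv) hcard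
  have heq : ∀ {c d : MulAut H}, c u = d u → c v = d v → c = d := by
    intro c d h1 h2
    refine MulEquiv.ext fun x => ?_
    obtain ⟨i, j, rfl⟩ := hspan hu1 huv x
    rw [map_mul, map_mul, map_pow, map_pow, map_pow, map_pow, h1, h2]
  have hup : ρ (upU 1) = (a : MulAut H) ^ k := heq (r1.trans hk1.symm) (r2.trans hk2.symm)
  have hlow : ρ (lowL 1) = (b : MulAut H) ^ l :=
    heq (r3.trans ((hc u v).trans hl2.symm)) (r4.trans hl1.symm)
  have hA : ∀ g, ρ g ∈ A := by
    intro g
    have := sl2_le_of_transvections (L := A.comap ρ)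
      (by rw [Subgroup.mem_comap, hup]; exact pow_mem a.2 k)
      (by rw [Subgroup.mem_comap, hlow]; exact pow_mem b.2 l)
    exact (this.ge (Subgroup.mem_top g) :)
  exact ⟨(ρ.codRestrict A hA).range,
    ⟨(MonoidHom.ofInjective (f := ρ.codRestrict A hA) fun x y h => hρ (congrArg Subtype.val h)).symm⟩⟩

end Cfsg.Agent.Local.FS
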