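import Cfsg.Agent.Lib.Local.FS.EssentialCube
import Cfsg.Agent.Lib.Local.FS.EssentialSL2
import Cfsg.Agent.Lib.Solv.PGroupPhi

/-!
Abelian groups of rank at most two with a strongly embedded subgroup in the automiser.
-/

set_option autoImplicit false

open scoped commutatorElement

namespace Cfsg.Agent.Local.FS

open Cfsg Cfsg.Agent.Fusion

variable {H : Type*} [CommGroup H] [Finite H] {p : ℕ} [hp : Fact p.Prime]

/-- A strongly embedded subgroup excludes normal `p`-subgroups. -/
theorem normal_pgroup_eq_bot {X : Type*} [Group X] [Finite X] {E : Subgroup X}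
    (hE : IsStronglyPEmbedded p E) {K : Subgroup X} [K.Normal] (hK : IsPGroup p K) : K = ⊥ := by
  by_contra hne
  obtain ⟨-, hEt, T, hT, hΓ⟩ := Local.isStronglyPEmbedded_iff.1 hE
  obtain ⟨x, -, hx⟩ := hT.conj_le hK le_top
  rw [cj_of_normal] at hx
  refine hEt (top_le_iff.1 ?_)
  rw [← Subgroup.normalizer_eq_top (H := K)]
  exact hΓ K hx hne

omit [Finite H] hp in
theorem frattini_inv (γ : MulAut H) {x : H} (hx : x ∈ frattini H) : γ x ∈ frattini H := by
  rw [← Subgroup.characteristic_iff_map_eq.1 (inferInstance : (frattini H).Characteristic) γ]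
  exact ⟨x, hx, rfl⟩

/-- The automorphisms trivial on the Frattini quotient form a `p`-group. -/
theorem trivOn_frattini_pgroup (hH : IsPGroup p H) {γ : MulAut H} (hγ : TrivOn (frattini H) ⊤ γ) {q : ℕ}
    (hq : q.Prime) (hqp : q ≠ p) (hγq : γ ^ q = 1) : γ = 1 := by
  classical
  obtain ⟨C, hC⟩ : ∃ C : Subgroup H, C = MonoidHom.eqLocus γ.toMonoidHom (MonoidHom.id H) := ⟨_, rfl⟩
  have hmem : ∀ x, x ∈ C ↔ γ x = x := fun x => by rw [hC]; rfl
  have hsup : C ⊔ frattini H = ⊤ := by
    refine eq_top_iff.2 fun x _ => ?_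
    have hy : (∏ i ∈ Finset.range q, (γ ^ i) x) ∈ C := by
      rw [hmem, map_prod]
      have h1 : ∀ i, γ ((γ ^ i) x) = (γ ^ (i + 1)) x := fun i => by rw [pow_succ', MulAut.mul_apply]
      simp only [h1]
      have h2 := Finset.prod_range_succ' (fun i => (γ ^ i) x) q
      rw [Finset.prod_range_succ, hγq, pow_zero, MulAut.one_apply] at h2
      exact (mul_right_cancel h2).symm
    have hd : (x ^ q)⁻¹ * ∏ i ∈ Finset.range q, (γ ^ i) x ∈ frattini H := by
      rw [show x ^ q = ∏ _i ∈ Finset.range q, x by simp, ← Finset.prod_inv_distrib, ← Finset.prod_mul_distrib]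
      refine prod_mem fun i hi => ?_
      clear hi
      induction i with
      | zero => simp
      | succ i ih =>
        rw [pow_succ', MulAut.mul_apply]
        have := mul_mem ih (hγ ((γ ^ i) x) trivial)
        simpa [mul_assoc] using this
    have hxq : x ^ q ∈ C ⊔ frattini H := by
      have h := Subgroup.mul_mem_sup hy (inv_mem hd)
      rwa [mul_inv_rev, inv_inv, mul_inv_cancel_left] at h
    obtain ⟨k, hk⟩ := IsPGroup.iff_orderOf.1 hH x
    obtain ⟨m, hm⟩ := exists_pow_eq_self_of_coprime (n := q) (x := x)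
      (hk ▸ ((Nat.coprime_primes hq hp.out).2 hqp).pow_right k)
    rw [← hm]
    exact pow_mem hxq m
  refine MulEquiv.ext fun x => (hmem x).1 ?_
  rw [frattini_nongenerating hsup]
  trivial

/-- The classification. -/
theorem rank_two_cases (hH : IsPGroup p H) (hrk : (frattini H).index ≤ p ^ 2) (A : Subgroup (MulAut H))
    {E : Subgroup A} (hE : IsStronglyPEmbedded p E) :
    ((∀ x : H, x ^ p = 1) ∧ Nat.card H = p ^ 2) ∨
      (p ≤ 3 ∧ ∃ k : ℕ, Nonempty (H ≃* Multiplicative (ZMod (p ^ k) × ZMod (p ^ k)))) := by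
  have hp' := hp.out
  haveI : Finite (MulAut H) := Finite.of_injective (fun a : MulAut H => (a : H → H)) DFunLike.coe_injective
  obtain ⟨Φ, hΦd⟩ : ∃ Φ, Φ = frattini H := ⟨_, rfl⟩
  rw [← hΦd] at hrk
  haveI : Φ.Characteristic := hΦd ▸ inferInstance
  have hpΦ : ∀ x : H, x ^ p ∈ Φ := fun x => hΦd ▸ Solv.pow_mem_frattini hH x
  have hLmem : ∀ {L : Subgroup H}, L.Characteristic → ∀ (γ : MulAut H) {x : H}, x ∈ L → γ x ∈ L := fun h γ x hx => by
    rw [← Subgroup.characteristic_iff_map_eq.1 h γ]; exact ⟨x, hx, rfl⟩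
  -- faithfulness on the Frattini quotient
  obtain ⟨K, hK⟩ : ∃ K : Subgroup A, ∀ a : A, a ∈ K ↔ TrivOn Φ ⊤ (a : MulAut H) :=
    ⟨{ carrier := {a | TrivOn Φ ⊤ (a : MulAut H)}
       one_mem' := fun x _ => by simp
       mul_mem' := fun {a b} ha hb x _ => by
        have := mul_mem (hb x trivial) (ha ((b : MulAut H) x) trivial)
        simpa [mul_assoc] using this
       inv_mem' := fun {a} ha x _ => by
        have := inv_mem (ha ((a : MulAut H)⁻¹ x) trivial)
        simpa using this }, fun a => Iff.rfl⟩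
  haveI : K.Normal := ⟨fun a ha g => (hK _).2 fun x _ => by
    have h := hLmem inferInstance (g : MulAut H) ((hK a).1 ha ((g : MulAut H)⁻¹ x) trivial)
    rw [map_mul, map_inv, MulAut.apply_inv_self] at h
    simpa using h⟩
  have hKp : IsPGroup p K := by
    refine IsPGroup.iff_card.2 ⟨_, Nat.eq_prime_pow_of_unique_prime_dvd Nat.card_pos.ne' fun {q} hq hd => ?_⟩
    by_contra hqp
    haveI := Fact.mk hq
    obtain ⟨⟨a, ha⟩, hao⟩ := exists_prime_orderOf_dvd_card' (G := K) q hd
    rw [Subgroup.orderOf_mk] at hao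
    have h1 : (a : MulAut H) = 1 := trivOn_frattini_pgroup hH (hΦd ▸ (hK a).1 ha) hq hqp (by
      rw [← Subgroup.coe_pow, ← hao, pow_orderOf_eq_one, Subgroup.coe_one])
    rw [show a = 1 from Subtype.ext h1, orderOf_one] at hao
    exact hq.ne_one hao.symm
  have hKb : K = ⊥ := normal_pgroup_eq_bot hE hKp
  -- no characteristic line
  have hcyc : ∀ {J L : Subgroup H}, J ≤ L → Nat.card L ≤ Nat.card J * p → ∃ l ∈ L, L ≤ Subgroup.zpowers l ⊔ J := by
    intro J L hJL hc
    by_cases h : L ≤ J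
    · exact ⟨1, L.one_mem, le_sup_of_le_right h⟩
    obtain ⟨l, hlL, hlJ⟩ := SetLike.not_le_iff_exists.1 h
    refine ⟨l, hlL, (Subgroup.eq_of_le_of_card_ge (sup_le (Subgroup.zpowers_le.2 hlL) hJL) ?_).ge⟩
    obtain ⟨a, ha⟩ := IsPGroup.iff_card.1 (hH.to_subgroup (Subgroup.zpowers l ⊔ J))
    obtain ⟨b, hb⟩ := IsPGroup.iff_card.1 (hH.to_subgroup J)
    have hlt : Nat.card J < Nat.card (Subgroup.zpowers l ⊔ J : Subgroup H) := by
      refine lt_of_le_of_ne (Subgroup.card_le_of_le le_sup_right) fun h => hlJ ?_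
      rw [Subgroup.eq_of_le_of_card_ge le_sup_right h.ge]
      exact Subgroup.mem_sup_left (Subgroup.mem_zpowers l)
    rw [ha, hb] at hlt
    rw [hb, ← pow_succ] at hc
    exact hc.trans (ha ▸ Nat.pow_le_pow_right hp'.pos ((Nat.pow_lt_pow_iff_right hp'.one_lt).1 hlt))
  have hno : ∀ M : Subgroup H, M.Characteristic → Φ ≤ M → Nat.card M ≤ Nat.card Φ * p →
      Nat.card H ≤ Nat.card M * p → False := by
    intro M hM hΦM h1 h2
    haveI := hM
    haveI : (⊤ : Subgroup H).Characteristic := inferInstance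
    refine not_stronglyPEmbedded ?_ hE
    rintro ⟨a, ha⟩
    refine ⟨1, Subtype.ext (Subgroup.mem_bot.1 (hKb ▸ (hK _).2 ?_))⟩
    have haA : (a : MulAut H) ∈ commutator (MulAut H) := by
      have hle : (commutator A).map A.subtype ≤ commutator (MulAut H) := by
        rw [Subgroup.map_subtype_commutator, commutator_def]
        exact Subgroup.commutator_mono le_top le_top
      exact hle ⟨a, ha, rfl⟩
    have t1 := trivOn_of_mem (trivOn_commutator (hcyc hΦM h1)) haA
    have t2 := trivOn_of_mem (trivOn_commutator (hcyc (L := ⊤) (J := M) le_top (by rw [Subgroup.card_top]; exact h2))) haA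
    intro x _
    show x⁻¹ * (((a ^ p ^ 1 : A)) : MulAut H) x ∈ Φ
    rw [pow_one, Subgroup.coe_pow]
    generalize (a : MulAut H) = γ at t1 t2
    obtain ⟨m, hm, hxm⟩ : ∃ m ∈ M, γ x = x * m := ⟨_, t2 x trivial, by simp⟩
    have hk : ∀ k : ℕ, (x * m ^ k)⁻¹ * (γ ^ k) x ∈ Φ := by
      intro k
      induction k with
      | zero => simp
      | succ k ih =>
        have h3 := hLmem inferInstance γ ih
        rw [map_mul, map_inv, map_mul, map_pow, hxm] at h3
        have h4 := mul_mem (pow_mem (t1 m hm) k) h3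
        rw [pow_succ' γ, MulAut.mul_apply]
        have key : ∀ (X : H), (x * m ^ (k + 1))⁻¹ * X = (m⁻¹ * γ m) ^ k * ((x * m * γ m ^ k)⁻¹ * X) := fun X => by
          rw [mul_pow, pow_succ, inv_pow, mul_inv_rev, mul_inv_rev, mul_inv_rev, mul_inv_rev]
          calc (m⁻¹ * (m ^ k)⁻¹) * x⁻¹ * X
              = (m ^ k)⁻¹ * (γ m ^ k * (γ m ^ k)⁻¹) * (m⁻¹ * x⁻¹) * X := by
                rw [mul_inv_cancel, mul_one, mul_comm m⁻¹ (m ^ k)⁻¹]; simp [mul_assoc]
            _ = _ := by simp [mul_assoc]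
        rw [key]
        exact h4
    have h := mul_mem (hpΦ m) (hk p)
    have e : m ^ p * ((x * m ^ p)⁻¹ * (γ ^ p) x) = x⁻¹ * (γ ^ p) x := by
      rw [mul_inv_rev, mul_assoc, mul_inv_cancel_left]
    rwa [e] at h
  have hidx : Φ.index = p ^ 2 := by
    obtain ⟨i, hi⟩ := IsPGroup.iff_card.1 (hH.to_quotient Φ)
    rw [← Subgroup.index_eq_card] at hi
    have hi2 : i ≤ 2 := (Nat.pow_le_pow_iff_right hp'.one_lt).1 (hi ▸ hrk)
    rcases eq_or_lt_of_le hi2 with rfl | h
    · exact hi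
    exfalso
    refine hno Φ inferInstance le_rfl (Nat.le_mul_of_pos_right _ hp'.pos) ?_
    rw [← Φ.card_mul_index, hi]
    exact Nat.mul_le_mul_left _ (Nat.pow_le_pow_right hp'.pos (by omega : i ≤ 1) |>.trans (pow_one p).le)
  have hcardH : Nat.card H = Nat.card Φ * p ^ 2 := by rw [← hidx, Φ.card_mul_index]
  have hexists : ∃ a : ℕ, (∀ x : H, x ^ p ^ a = 1) := by
    obtain ⟨n, hn⟩ := IsPGroup.iff_card.1 hH
    exact ⟨n, fun x => by rw [← hn, pow_card_eq_one']⟩
  classical
  obtain ⟨a, haexp, hamin⟩ : ∃ a : ℕ, (∀ x : H, x ^ p ^ a = 1) ∧ ∀ b < a, ¬ ∀ x : H, x ^ p ^ b = 1 :=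
    ⟨Nat.find hexists, Nat.find_spec hexists, fun b hb => Nat.find_min hexists hb⟩
  have hHpos : 1 < Nat.card H := by
    rw [hcardH]
    calc 1 < p ^ 2 := Nat.one_lt_pow two_ne_zero hp'.one_lt
      _ ≤ _ := Nat.le_mul_of_pos_left _ Nat.card_pos
  have ha1 : 1 ≤ a := by
    by_contra h
    obtain rfl : a = 0 := by omega
    haveI : Subsingleton H := ⟨fun x y => by
      have h1 := haexp x; have h2 := haexp y
      rw [pow_zero, pow_one] at h1 h2
      rw [h1, h2]⟩
    rw [Nat.card_unique] at hHpos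
    exact lt_irrefl _ hHpos
  -- elements outside `Φ` have maximal order
  have hfull : ∀ x : H, x ^ p ^ (a - 1) = 1 → x ∈ Φ := by
    intro x hx
    by_contra hxΦ
    obtain ⟨W, hW⟩ : ∃ W : Subgroup H, W = Φ ⊔ (powMonoidHom (p ^ (a - 1)) : H →* H).ker := ⟨_, rfl⟩
    have hΦW : Φ ≤ W := hW ▸ le_sup_left
    have hxW : x ∈ W := hW ▸ Subgroup.mem_sup_right hx
    have hWker : ∀ y ∈ Φ, y ^ p ^ (a - 1) = 1 := by
      intro y hy
      obtain ⟨P1, hP1⟩ : ∃ P1 : Subgroup H, P1 = (powMonoidHom p : H →* H).range := ⟨_, rfl⟩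
      have hle : Φ ≤ (powMonoidHom (p ^ (a - 1)) : H →* H).ker := by
        intro y hy
        rw [MonoidHom.mem_ker, powMonoidHom_apply]
        by_contra hy1
        obtain ⟨M, hM⟩ : ∃ M : Subgroup H, M = (powMonoidHom (p ^ (a - 1)) : H →* H).ker := ⟨_, rfl⟩
        have hMy : y ∉ M := fun h => hy1 (by rw [hM] at h; exact h)
        have hpM : ∀ z : H, z ^ p ∈ M := fun z => by
          rw [hM, MonoidHom.mem_ker, powMonoidHom_apply, ← pow_mul, mul_comm, ← pow_succ,
            show a - 1 + 1 = a by omega]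
          exact haexp z
        -- a maximal subgroup containing `M` but not `y`
        obtain ⟨L, hML, hL⟩ := Finite.exists_le_maximal (p := fun L : Subgroup H => y ∉ L) (a := M) hMy
        have hLco : IsCoatom L := by
          refine ⟨fun h => hL.1 (h ▸ Subgroup.mem_top y), fun N hN => ?_⟩
          have hyN : y ∈ N := by
            by_contra hyN
            exact hN.not_ge (hL.2 hyN hN.le)
          refine eq_top_iff.2 fun z _ => ?_
          by_cases hzL : z ∈ L
          · exact hN.le hzL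
          have hyz : y ∈ L ⊔ Subgroup.zpowers z := by
            by_contra h
            exact hzL (hL.2 h le_sup_left (Subgroup.mem_sup_right (Subgroup.mem_zpowers z)))
          obtain ⟨l, hl, w, hw, hlw⟩ := Subgroup.mem_sup.1 hyz
          obtain ⟨i, rfl⟩ := Subgroup.mem_zpowers_iff.1 hw
          have hzi : z ^ i ∈ N := by
            rw [show z ^ i = l⁻¹ * y by rw [← hlw, inv_mul_cancel_left]]
            exact mul_mem (inv_mem (hN.le hl)) hyN
          have hnd : ¬ ((p : ℤ) ∣ i) := by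
            rintro ⟨j, rfl⟩
            refine hL.1 ?_
            rw [← hlw, zpow_mul, zpow_natCast]
            exact mul_mem hl (Subgroup.zpow_mem _ (hML (hpM z)) j)
          obtain ⟨u, v, huv⟩ := ((Nat.prime_iff_prime_int.1 hp').coprime_iff_not_dvd).2 hnd
          rw [show z = z ^ (i * v + (p : ℤ) * u) by
            rw [show i * v + (p : ℤ) * u = 1 by linarith, zpow_one], zpow_add, zpow_mul, zpow_mul, zpow_natCast]
          exact mul_mem (Subgroup.zpow_mem _ hzi v) (Subgroup.zpow_mem _ (hN.le (hML (hpM z))) u)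
        exact hL.1 (frattini_le_coatom hLco (hΦd ▸ hy))
      exact hle hy
    have hWle : ∀ y ∈ W, y ^ p ^ (a - 1) = 1 := by
      intro y hy
      rw [hW] at hy
      obtain ⟨u, hu, v, hv, rfl⟩ := Subgroup.mem_sup.1 hy
      rw [mul_pow, hWker u hu, show v ^ p ^ (a - 1) = 1 from hv, one_mul]
    have hWt : W ≠ ⊤ := fun h => hamin (a - 1) (by omega) fun y => hWle y (h ▸ Subgroup.mem_top y)
    have hWc : W.Characteristic := hW ▸ characteristic_of_inv fun γ y hy => by
      obtain ⟨u, hu, v, hv, rfl⟩ := Subgroup.mem_sup.1 hy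
      rw [map_mul]
      refine Subgroup.mul_mem_sup (hLmem inferInstance γ hu) ?_
      rw [MonoidHom.mem_ker, powMonoidHom_apply, ← map_pow, show v ^ p ^ (a - 1) = 1 from hv, map_one]
    obtain ⟨i, hi, hWi⟩ : ∃ i, i ≤ 2 ∧ W.index = p ^ i := by
      obtain ⟨i, hi, h⟩ := (Nat.dvd_prime_pow hp').1 (hidx ▸ Subgroup.index_dvd_of_le hΦW)
      exact ⟨i, hi, h⟩
    have h1 := W.card_mul_index
    rw [hWi, hcardH] at h1
    interval_cases i
    · exact hWt (Subgroup.index_eq_one.1 (by rw [hWi, pow_zero]))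
    · have h1' : Nat.card W = Nat.card Φ * p := by
        rw [pow_one, sq, ← mul_assoc] at h1
        exact Nat.eq_of_mul_eq_mul_right hp'.pos h1
      exact hno W hWc hΦW h1'.le (by rw [hcardH, h1', mul_assoc, ← sq])
    · exact hxΦ (by
        rw [Subgroup.eq_of_le_of_card_ge hΦW (Nat.eq_of_mul_eq_mul_right (pow_pos hp'.pos 2) h1).le]
        exact hxW)
  -- two generators
  obtain ⟨e₁, he₁⟩ : ∃ e, e ∉ Φ := by
    by_contra h
    push Not at h
    have : Φ = ⊤ := eq_top_iff.2 fun x _ => h x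
    rw [this, Subgroup.index_top] at hidx
    exact absurd hidx.symm (Nat.one_lt_pow two_ne_zero hp'.one_lt).ne'
  obtain ⟨e₂, he₂⟩ : ∃ e, e ∉ Subgroup.zpowers e₁ ⊔ Φ := by
    by_contra h
    push Not at h
    refine hno Φ inferInstance le_rfl (Nat.le_mul_of_pos_right _ hp'.pos) ?_
    have htop : Subgroup.zpowers e₁ ⊔ Φ = ⊤ := eq_top_iff.2 fun x _ => h x
    have := Fusion.card_sup_dvd Φ (Subgroup.zpowers e₁)
    rw [htop, Subgroup.card_top] at this
    have hquot : Φ.index ∣ p := by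
      rw [Subgroup.index_eq_card, ← Subgroup.card_top (G := H ⧸ Φ)]
      have : (⊤ : Subgroup (H ⧸ Φ)) = Subgroup.zpowers (QuotientGroup.mk e₁) := by
        rw [← Subgroup.map_top_of_surjective _ (QuotientGroup.mk'_surjective Φ), ← htop, Subgroup.map_sup,
          QuotientGroup.map_mk'_self, sup_bot_eq, MonoidHom.map_zpowers]
        rfl
      rw [this, Nat.card_zpowers]
      refine orderOf_dvd_of_pow_eq_one ?_
      rw [← QuotientGroup.mk_pow, QuotientGroup.eq_one_iff]
      exact hpΦ e₁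
    rw [hidx] at hquot
    exact absurd (Nat.le_of_dvd hp'.pos hquot) (not_le.2 (lt_self_pow₀ hp'.one_lt one_lt_two))
  obtain ⟨n, hn⟩ : ∃ n, n = p ^ a := ⟨_, rfl⟩
  haveI : NeZero n := ⟨hn ▸ pow_ne_zero _ hp'.ne_zero⟩
  have hmod : ∀ (x : H) (m : ℕ), x ^ (m % n) = x ^ m := fun x m => (pow_eq_pow_mod m (hn ▸ haexp x)).symm
  let f : Multiplicative (ZMod n × ZMod n) →* H := MonoidHom.mk'
    (fun v => e₁ ^ (Multiplicative.toAdd v).1.val * e₂ ^ (Multiplicative.toAdd v).2.val) fun u v => by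
      simp only [toAdd_mul, Prod.fst_add, Prod.snd_add, ZMod.val_add, hmod, pow_add]
      exact (show Commute (e₁ ^ (Multiplicative.toAdd v).1.val) (e₂ ^ (Multiplicative.toAdd u).2.val) from
        mul_comm _ _).mul_mul_mul_comm _ _
  have hgen : Subgroup.zpowers e₁ ⊔ Subgroup.zpowers e₂ = ⊤ := by
    refine frattini_nongenerating (eq_top_iff.2 ?_)
    rw [← hΦd]
    refine le_of_eq (Subgroup.eq_top_of_le_card _ ?_).symm
    obtain ⟨i, hi, hS⟩ := (Nat.dvd_prime_pow hp').1 (hidx ▸ Subgroup.index_dvd_of_le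
      (le_sup_right : Φ ≤ Subgroup.zpowers e₁ ⊔ Subgroup.zpowers e₂ ⊔ Φ))
    obtain ⟨j, hj, hT⟩ := (Nat.dvd_prime_pow hp').1 (hidx ▸ Subgroup.index_dvd_of_le
      (le_sup_right : Φ ≤ Subgroup.zpowers e₁ ⊔ Φ))
    have hj2 : j ≠ 2 := fun h => he₁ (by
      subst h
      rw [Subgroup.eq_of_le_of_card_ge (le_sup_right : Φ ≤ Subgroup.zpowers e₁ ⊔ Φ) ?_]
      · exact Subgroup.mem_sup_left (Subgroup.mem_zpowers e₁)
      · have := (Subgroup.zpowers e₁ ⊔ Φ).card_mul_index
        rw [hT, hcardH] at this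
        exact (Nat.eq_of_mul_eq_mul_right (pow_pos hp'.pos 2) this).le)
    have hij : i < j := by
      by_contra h
      refine he₂ ?_
      rw [Subgroup.eq_of_le_of_card_ge (sup_le_sup_right le_sup_left Φ :
        Subgroup.zpowers e₁ ⊔ Φ ≤ Subgroup.zpowers e₁ ⊔ Subgroup.zpowers e₂ ⊔ Φ) ?_]
      · exact Subgroup.mem_sup_left (Subgroup.mem_sup_right (Subgroup.mem_zpowers e₂))
      · have c1 := (Subgroup.zpowers e₁ ⊔ Φ).card_mul_index
        have c2 := (Subgroup.zpowers e₁ ⊔ Subgroup.zpowers e₂ ⊔ Φ).card_mul_index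
        rw [hT] at c1
        rw [hS, ← c1] at c2
        refine Nat.le_of_mul_le_mul_right ?_ (pow_pos hp'.pos j)
        rw [← c2]
        exact Nat.mul_le_mul_left _ (Nat.pow_le_pow_right hp'.pos (not_lt.1 h))
    obtain rfl : i = 0 := by omega
    rw [pow_zero] at hS
    rw [Subgroup.index_eq_one.1 hS, Subgroup.card_top]
  have hsur : Function.Surjective f := by
    intro x
    have hx : x ∈ Subgroup.zpowers e₁ ⊔ Subgroup.zpowers e₂ := hgen ▸ Subgroup.mem_top x
    obtain ⟨u, hu, v, hv, rfl⟩ := Subgroup.mem_sup.1 hx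
    obtain ⟨i, rfl⟩ := mem_powers_iff_mem_zpowers.2 hu
    obtain ⟨j, rfl⟩ := mem_powers_iff_mem_zpowers.2 hv
    refine ⟨Multiplicative.ofAdd ((i : ZMod n), (j : ZMod n)), ?_⟩
    show e₁ ^ ((i : ZMod n)).val * e₂ ^ ((j : ZMod n)).val = _
    rw [ZMod.val_natCast, ZMod.val_natCast, hmod, hmod]
  have hinj : Function.Injective f := by
    rw [← MonoidHom.ker_eq_bot_iff, Subgroup.eq_bot_iff_forall]
    intro v hv
    rw [MonoidHom.mem_ker] at hv
    replace hv : e₁ ^ (Multiplicative.toAdd v).1.val * e₂ ^ (Multiplicative.toAdd v).2.val = 1 := hv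
    have hdvd : ∀ t : ℕ, t ≤ a → p ^ t ∣ (Multiplicative.toAdd v).1.val ∧ p ^ t ∣ (Multiplicative.toAdd v).2.val := by
      intro t
      induction t with
      | zero => intro _; simp
      | succ t ih =>
        intro ht
        obtain ⟨⟨i, hi⟩, j, hj⟩ := ih (by omega)
        have hw : (e₁ ^ i * e₂ ^ j) ^ p ^ t = 1 := by
          rw [mul_pow, ← pow_mul, ← pow_mul, mul_comm i, mul_comm j, ← hi, ← hj]
          exact hv
        have hwΦ : e₁ ^ i * e₂ ^ j ∈ Φ := hfull _ (by
          obtain ⟨s, hs⟩ : ∃ s, a - 1 = t + s := ⟨a - 1 - t, by omega⟩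
          rw [hs, pow_add, pow_mul, hw, one_pow])
        have hjd : p ∣ j := by
          by_contra hnd
          obtain ⟨u, -, hu⟩ := Nat.exists_mul_mod_eq_one_of_coprime
            (hp'.coprime_iff_not_dvd.2 hnd).symm hp'.one_lt
          refine he₂ ?_
          have h1 : e₂ ^ j ∈ Subgroup.zpowers e₁ ⊔ Φ := by
            rw [show e₂ ^ j = (e₁ ^ i)⁻¹ * (e₁ ^ i * e₂ ^ j) by group]
            exact Subgroup.mul_mem_sup (inv_mem (pow_mem (Subgroup.mem_zpowers e₁) i)) hwΦ
          have h2 := pow_mem h1 u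
          rw [← pow_mul, ← Nat.div_add_mod (j * u) p, hu, pow_add, pow_mul, pow_one] at h2
          exact (Subgroup.mul_mem_cancel_left _
            (Subgroup.mem_sup_right (pow_mem (hpΦ e₂) _))).1 h2
        have hid : p ∣ i := by
          by_contra hnd
          obtain ⟨u, -, hu⟩ := Nat.exists_mul_mod_eq_one_of_coprime
            (hp'.coprime_iff_not_dvd.2 hnd).symm hp'.one_lt
          refine he₁ ?_
          obtain ⟨c, rfl⟩ := hjd
          have h1 : e₁ ^ i ∈ Φ := by
            rw [show e₁ ^ i = (e₁ ^ i * e₂ ^ (p * c)) * ((e₂ ^ p) ^ c)⁻¹ by rw [← pow_mul, mul_inv_cancel_right]]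
            exact mul_mem hwΦ (inv_mem (pow_mem (hpΦ e₂) c))
          have h2 := pow_mem h1 u
          rw [← pow_mul, ← Nat.div_add_mod (i * u) p, hu, pow_add, pow_mul, pow_one] at h2
          exact (Subgroup.mul_mem_cancel_left _ (pow_mem (hpΦ e₁) _)).1 h2
        rw [hi, hj, pow_succ]
        exact ⟨Nat.mul_dvd_mul_left _ hid, Nat.mul_dvd_mul_left _ hjd⟩
    obtain ⟨h1, h2⟩ := hdvd a le_rfl
    have z1 := Nat.eq_zero_of_dvd_of_lt h1 (hn ▸ ZMod.val_lt _)
    have z2 := Nat.eq_zero_of_dvd_of_lt h2 (hn ▸ ZMod.val_lt _)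
    rw [ZMod.val_eq_zero] at z1 z2
    exact Multiplicative.toAdd.injective (Prod.ext z1 z2)
  have hcard2 : Nat.card H = (p ^ a) ^ 2 := by
    rw [← Nat.card_congr (Equiv.ofBijective f ⟨hinj, hsur⟩), Nat.card_congr Multiplicative.toAdd, Nat.card_prod,
      Nat.card_zmod, hn, sq]
  rcases eq_or_lt_of_le ha1 with ha | ha
  · subst ha
    exact Or.inl ⟨fun x => by simpa using haexp x, by rw [hcard2, pow_one]⟩
  refine Or.inr ⟨?_, a, ⟨hn ▸ (MulEquiv.ofBijective f ⟨hinj, hsur⟩).symm⟩⟩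
  by_contra hp3
  have hp5 : 4 ≤ p := by omega
  -- an element of order `p`
  obtain ⟨g, _, hgo, -, -⟩ := two_noncommuting hE
  obtain ⟨γ, hγ⟩ : ∃ γ, γ = (g : MulAut H) := ⟨_, rfl⟩
  have hγp : γ ^ p = 1 := by
    rw [hγ, ← Subgroup.coe_pow, ← hgo, pow_orderOf_eq_one, Subgroup.coe_one]
  have hnt : ¬ TrivOn Φ ⊤ γ := fun h => by
    have h1 : g ∈ K := (hK g).2 (hγ ▸ h)
    rw [hKb, Subgroup.mem_bot] at h1
    rw [h1, orderOf_one] at hgo
    exact hp'.ne_one hgo.symm
  have hΦpow : ∀ y ∈ Φ, ∃ z : H, z ^ p = y := by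
    intro y hy
    obtain ⟨P1, hP1⟩ : ∃ P1 : Subgroup H, P1 = (powMonoidHom p : H →* H).range := ⟨_, rfl⟩
    have hle : P1 ≤ Φ := hP1 ▸ (by rintro _ ⟨z, rfl⟩; exact hpΦ z)
    have hker : Nat.card (powMonoidHom p : H →* H).ker ≤ p ^ 2 := by
      have hsub : ∀ z : (powMonoidHom p : H →* H).ker, ∀ v, f v = z → p ^ (a - 1) ∣ (Multiplicative.toAdd v).1.val ∧
          p ^ (a - 1) ∣ (Multiplicative.toAdd v).2.val := by
        intro z v hv
        have h1 : v ^ p = 1 := hinj (by rw [map_pow, hv, map_one]; exact z.2)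
        have key : ∀ w : ZMod n, p • w = 0 → p ^ (a - 1) ∣ w.val := by
          intro w hw
          rw [nsmul_eq_mul, ← ZMod.natCast_zmod_val w, ← Nat.cast_mul, ZMod.natCast_eq_zero_iff] at hw
          have hw' : p * p ^ (a - 1) ∣ p * w.val := by
            refine Nat.dvd_trans ?_ hw
            rw [← pow_succ', show a - 1 + 1 = a by omega, hn]
          exact (Nat.mul_dvd_mul_iff_left hp'.pos).1 hw'
        have h2 : p • Multiplicative.toAdd v = 0 := congrArg Multiplicative.toAdd h1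
        exact ⟨key _ (congrArg Prod.fst h2), key _ (congrArg Prod.snd h2)⟩
      have hex : ∀ z : (powMonoidHom p : H →* H).ker, ∃ ij : Fin p × Fin p,
          (z : H) = e₁ ^ (p ^ (a - 1) * ij.1) * e₂ ^ (p ^ (a - 1) * ij.2) := by
        intro z
        obtain ⟨v, hv⟩ := hsur z
        obtain ⟨⟨i, hi⟩, j, hj⟩ := hsub z v hv
        have hlt : ∀ {w : ZMod n} {i : ℕ}, w.val = p ^ (a - 1) * i → i < p := fun {w i} h => by
          have h' := ZMod.val_lt w
          rw [h] at h'
          refine Nat.lt_of_mul_lt_mul_left (a := p ^ (a - 1)) (lt_of_lt_of_eq h' ?_)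
          rw [hn, ← pow_succ, show a - 1 + 1 = a by omega]
        refine ⟨(⟨i, hlt hi⟩, ⟨j, hlt hj⟩), ?_⟩
        rw [← hv]
        show e₁ ^ _ * e₂ ^ _ = _
        rw [hi, hj]
      choose φ hφ using hex
      refine (Nat.card_le_card_of_injective φ fun z z' hz => Subtype.ext ?_).trans (by simp [sq])
      rw [hφ z, hφ z', hz]
    have hge : Nat.card Φ ≤ Nat.card P1 := by
      have h := (powMonoidHom p : H →* H).ker.card_mul_index
      rw [Subgroup.index_ker, ← hP1, hcardH] at h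
      have h' : Nat.card Φ * p ^ 2 ≤ Nat.card P1 * p ^ 2 := by
        rw [← h, mul_comm]; exact Nat.mul_le_mul_left _ hker
      exact Nat.le_of_mul_le_mul_right h' (pow_pos hp'.pos 2)
    obtain ⟨z, hz⟩ := (hP1 ▸ (Subgroup.eq_of_le_of_card_ge hle hge).ge hy : y ∈ (powMonoidHom p : H →* H).range)
    exact ⟨z, hz⟩
  obtain ⟨d, hd⟩ : ∃ d : H →* H, ∀ x, d x = x⁻¹ * γ x :=
    ⟨MonoidHom.mk' (fun x => x⁻¹ * γ x) fun x y => by simp only [mul_inv_rev, map_mul]; ac_rfl, fun x => rfl⟩
  have hsq : ∀ x, d (d x) ∈ Φ := by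
    let γ' : MulAut (H ⧸ Φ) := QuotientGroup.congr Φ Φ γ (Subgroup.characteristic_iff_map_eq.1 inferInstance γ)
    have hval : ∀ x : H, γ' (QuotientGroup.mk x) = QuotientGroup.mk (γ x) := fun x => rfl
    have hγ'p : γ' ^ p = 1 := by
      have hk : ∀ (k : ℕ) (x : H), (γ' ^ k) (QuotientGroup.mk x) = QuotientGroup.mk ((γ ^ k) x) := by
        intro k
        induction k with
        | zero => intro x; simp
        | succ k ih => intro x; rw [pow_succ', MulAut.mul_apply, ih, hval, pow_succ', MulAut.mul_apply]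
      refine MulEquiv.ext fun q => ?_
      induction q using QuotientGroup.induction_on with
      | H x => rw [hk, hγp]; rfl
    have hne : γ' ≠ 1 := fun h => hnt fun x _ => by
      rw [← QuotientGroup.eq, ← hval, h]; rfl
    obtain ⟨e, -, hee, -, her⟩ := exists_fixed_line (H := H ⧸ Φ) (fun u v => mul_comm u v)
      (by rw [← Subgroup.index_eq_card, hidx]) (orderOf_eq_prime hγ'p hne)
    intro x
    have h1 : (QuotientGroup.mk (d x) : H ⧸ Φ) ∈ Subgroup.zpowers e := by
      rw [hd, QuotientGroup.mk_mul, QuotientGroup.mk_inv, ← hval, mul_comm]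
      exact her _
    obtain ⟨i, hi⟩ := Subgroup.mem_zpowers_iff.1 h1
    rw [← QuotientGroup.eq_one_iff, hd, QuotientGroup.mk_mul, QuotientGroup.mk_inv, ← hval, ← hi, map_zpow, hee,
      inv_mul_cancel]
  refine hnt fun x _ => ?_
  rw [← hd]
  let D : AddMonoid.End (Additive H) := MonoidHom.toAdditive d
  let G : AddMonoid.End (Additive H) := MonoidHom.toAdditive γ.toMonoidHom
  have hG : G = 1 + D := by
    refine AddMonoidHom.ext fun y => ?_
    show Additive.ofMul (γ (Additive.toMul y)) = y + Additive.ofMul (d (Additive.toMul y))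
    rw [hd]
    show Additive.ofMul _ = Additive.ofMul ((Additive.toMul y) * ((Additive.toMul y)⁻¹ * γ (Additive.toMul y)))
    rw [mul_inv_cancel_left]
  have hGp : G ^ p = 1 := by
    have hk : ∀ (k : ℕ) (y : H), (G ^ k) (Additive.ofMul y) = Additive.ofMul ((γ ^ k) y) := by
      intro k
      induction k with
      | zero => intro y; rfl
      | succ k ih =>
        intro y
        rw [pow_succ']
        show G ((G ^ k) (Additive.ofMul y)) = _
        rw [ih, pow_succ', MulAut.mul_apply]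
        rfl
    refine AddMonoidHom.ext fun y => ?_
    show (G ^ p) (Additive.ofMul (Additive.toMul y)) = y
    rw [hk, hγp]
    rfl
  have hdbl : ∀ y : Additive H, ∃ z, D (D y) = p • z := fun y => by
    obtain ⟨z, hz⟩ := hΦpow _ (hsq (Additive.toMul y))
    exact ⟨Additive.ofMul z, by rw [← ofMul_pow, hz]; rfl⟩
  have hDj : ∀ j, 2 ≤ j → ∀ y : Additive H, ∃ z, (D ^ j) y = p • z := by
    intro j hj y
    obtain ⟨k, rfl⟩ : ∃ k, j = 2 + k := ⟨j - 2, by omega⟩
    obtain ⟨z, hz⟩ := hdbl ((D ^ k) y)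
    exact ⟨z, by rw [pow_add, sq]; exact hz⟩
  have hsum := hGp
  rw [hG, add_comm 1 D, Commute.add_pow (Commute.one_right D)] at hsum
  have hsum' : ∑ m ∈ Finset.range (p + 1), p.choose m • (D ^ m) (Additive.ofMul x) = Additive.ofMul x := by
    have h := congrArg (fun T : AddMonoid.End (Additive H) => T (Additive.ofMul x)) hsum
    simp only [one_pow, mul_one] at h
    rw [AddMonoid.End.coe_one, id_eq] at h
    refine (Eq.trans ?_ h)
    let ev : AddMonoid.End (Additive H) →+ Additive H :=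
      { toFun := fun T => T (Additive.ofMul x), map_zero' := rfl, map_add' := fun _ _ => rfl }
    show _ = ev _
    rw [map_sum]
    refine Finset.sum_congr rfl fun m _ => ?_
    show _ = (D ^ m * (p.choose m : AddMonoid.End (Additive H))) (Additive.ofMul x)
    rw [← Nat.cast_comm, ← nsmul_eq_mul]
    rfl
  rw [Finset.sum_range_succ', pow_zero, Nat.choose_zero_right, one_smul,
    show (1 : AddMonoid.End (Additive H)) (Additive.ofMul x) = Additive.ofMul x from rfl, add_eq_right,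
    show p = (p - 1) + 1 by omega, Finset.sum_range_succ', show p - 1 + 1 = p by omega, zero_add, pow_one,
    Nat.choose_one_right] at hsum'
  have hrest : ∀ m ∈ Finset.range (p - 1), ∃ z, p.choose (m + 1 + 1) • (D ^ (m + 1 + 1)) (Additive.ofMul x) = (p * p) • z := by
    intro m hm
    rw [Finset.mem_range] at hm
    rcases eq_or_lt_of_le (show m + 2 ≤ p by omega) with h | h
    · obtain ⟨z, hz⟩ := hdbl ((D ^ (p - 2)) (Additive.ofMul x))
      obtain ⟨k, hk⟩ : ∃ k, p - 2 = 2 + k := ⟨p - 4, by omega⟩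
      obtain ⟨w, hw⟩ := hdbl ((D ^ k) (Additive.ofMul x))
      obtain ⟨u, hu⟩ := hdbl w
      refine ⟨u, ?_⟩
      rw [show m + 1 + 1 = 2 + (2 + k) by omega, show 2 + (2 + k) = p by omega, Nat.choose_self, one_smul,
        show p = 2 + (2 + k) by omega, pow_add, pow_add, sq]
      show D (D (D (D ((D ^ k) (Additive.ofMul x))))) = _
      rw [hw, map_nsmul, map_nsmul, hu, smul_smul, show 2 + (2 + k) = p by omega]
    · obtain ⟨c, hc⟩ := hp'.dvd_choose_self (show m + 1 + 1 ≠ 0 by omega) (by omega)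
      obtain ⟨z, hz⟩ := hDj (m + 1 + 1) (by omega) (Additive.ofMul x)
      exact ⟨c • z, by rw [hz, hc, smul_smul, smul_smul, mul_right_comm]⟩
  choose! Z hZ using hrest
  rw [Finset.sum_congr rfl hZ, ← Finset.smul_sum] at hsum'
  generalize Finset.sum (Finset.range (p - 1)) Z = w at hsum'
  have hfin : (Additive.toMul w) ^ (p * p) * d x ^ p = 1 := congrArg Additive.toMul hsum'
  have hΦ' : (Additive.toMul w) ^ p * d x ∈ Φ := hfull _ (by
    have h : ((Additive.toMul w) ^ p * d x) ^ p = 1 := by rw [mul_pow, ← pow_mul]; exact hfin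
    obtain ⟨s, hs⟩ : ∃ s, a - 1 = 1 + s := ⟨a - 2, by omega⟩
    rw [hs, pow_add, pow_one, pow_mul, h, one_pow])
  exact (Subgroup.mul_mem_cancel_left _ (hpΦ _)).1 hΦ'

omit hp in
/-- Strongly `p`-embedded subgroups transfer along isomorphisms. -/
theorem isStronglyPEmbedded_map [Fact p.Prime] {X Y : Type*} [Group X] [Finite X] [Group Y] [Finite Y] (e : X ≃* Y)
    {E : Subgroup X} (h : IsStronglyPEmbedded p E) : IsStronglyPEmbedded p (E.map e.toMonoidHom) := by
  obtain ⟨hdvd, hEt, T, hT, hΓ⟩ := Local.isStronglyPEmbedded_iff.1 h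
  have htop : (⊤ : Subgroup X).map e.toMonoidHom = ⊤ := Subgroup.map_top_of_surjective _ e.surjective
  refine Local.isStronglyPEmbedded_iff.2 ⟨(Nat.card_congr e.toEquiv).symm ▸ hdvd, fun hE => hEt ?_,
    T.map e.toMonoidHom, ⟨le_top, hT.isPGroup.map _, ?_⟩, fun Q hQ hne => ?_⟩
  · exact Subgroup.map_injective e.injective (hE.trans htop.symm)
  · rw [← htop, Subgroup.relIndex_map_map_of_injective _ _ e.injective]
    exact hT.not_dvd
  · obtain ⟨Q', rfl⟩ : ∃ Q' : Subgroup X, Q'.map e.toMonoidHom = Q :=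
      ⟨Q.comap e.toMonoidHom, Subgroup.map_comap_eq_self_of_surjective e.surjective _⟩
    rw [← Subgroup.map_equiv_normalizer_eq]
    refine Subgroup.map_mono (hΓ Q' ((Subgroup.map_le_map_iff_of_injective e.injective).1 hQ) ?_)
    rintro rfl
    exact hne (Subgroup.map_bot _)

end Cfsg.Agent.Local.FS
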