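import Cfsg.Agent.Lib.Local.FS.NoCyclicChain

/-!
For each exceptional metacyclic group a saturated system without a chain of strongly closed subgroups with cyclic
steps.
-/

set_option autoImplicit false

namespace Cfsg.Agent.Local.FS.NoChain

open Cfsg Cfsg.FusionSystem Cfsg.Agent.Local.FS Cfsg.Agent.Small

variable {Ω : Type*} [Group Ω] {S : Subgroup Ω}

/-- Arithmetic of the exponents in a group `⟨X⟩ ∪ ⟨X⟩Y`. -/
theorem rel_hyps [Finite S] {X Y : S} {c r : ℤ} {e a : ℕ} (h : IndexTwo.Rel X Y (2 ^ e) c r)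
    (hcard : Nat.card S = 2 * 2 ^ e) (ha : a < e) (hr : (2 ^ e : ℤ) ∣ 2 ^ (a + 1) * (r - 1))
    (hc : ∀ i : ℤ, (2 ^ (a + 1) : ℤ) ∣ i * (1 + r) + c) (u : S) (hu : u = X ^ (2 ^ a : ℤ)) :
    u ∈ Subgroup.zpowers X ∧ u ∉ Subgroup.zpowers (u * u) ∧
    (∀ s ∈ Subgroup.zpowers X, s ∈ Subgroup.zpowers (u * u) ∨ u ∈ Subgroup.zpowers s) ∧
    (∀ s : S, s ∉ Subgroup.zpowers X → s * s ∈ Subgroup.zpowers (u * u)) ∧
    (∀ s : S, Commute (u * u) s) := by
  have huu : u * u = X ^ (2 ^ (a + 1) : ℤ) := by rw [hu, ← zpow_add, pow_succ, mul_two]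
  have hmem : ∀ i : ℤ, (2 ^ (a + 1) : ℤ) ∣ i → X ^ i ∈ Subgroup.zpowers (u * u) := by
    rintro i ⟨k, rfl⟩
    exact ⟨k, by simp only [huu, ← zpow_mul]⟩
  refine ⟨hu ▸ ⟨_, rfl⟩, ?_, ?_, ?_, ?_⟩
  · intro hm
    obtain ⟨i, hi⟩ := Subgroup.mem_zpowers_iff.1 hm
    rw [huu, ← zpow_mul, hu, h.zpow_iff, Int.modEq_iff_dvd] at hi
    push_cast at hi
    have h1 : (2 ^ (a + 1) : ℤ) ∣ 2 ^ a * (1 - 2 * i) := by
      rw [show (2 : ℤ) ^ a * (1 - 2 * i) = 2 ^ a - 2 ^ (a + 1) * i by ring]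
      exact (pow_dvd_pow (2 : ℤ) ha).trans hi
    rw [pow_succ, mul_dvd_mul_iff_left (pow_ne_zero _ two_ne_zero)] at h1
    omega
  · intro s hs
    obtain ⟨i, rfl⟩ := Subgroup.mem_zpowers_iff.1 hs
    by_cases hd : (2 ^ (a + 1) : ℤ) ∣ i
    · exact Or.inl (hmem i hd)
    · right
      obtain ⟨v, hv, hg⟩ := (Nat.dvd_prime_pow Nat.prime_two).1
        (Int.natCast_dvd_natCast.1 (Int.gcd_dvd_right i ((2 ^ e : ℕ) : ℤ)))
      have hva : v ≤ a := by
        by_contra hva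
        refine hd (dvd_trans ?_ (Int.gcd_dvd_left i ((2 ^ e : ℕ) : ℤ)))
        rw [hg]; push_cast
        exact pow_dvd_pow (2 : ℤ) (by omega)
      have hb := Int.gcd_eq_gcd_ab i ((2 ^ e : ℕ) : ℤ)
      refine ⟨Int.gcdA i ((2 ^ e : ℕ) : ℤ) * 2 ^ (a - v), ?_⟩
      show (X ^ i) ^ (_ : ℤ) = u
      rw [← zpow_mul, hu, h.zpow_iff, Int.modEq_iff_dvd]
      refine ⟨Int.gcdB i ((2 ^ e : ℕ) : ℤ) * 2 ^ (a - v), ?_⟩
      rw [hg] at hb
      push_cast at hb ⊢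
      rw [show (2 : ℤ) ^ a = 2 ^ v * 2 ^ (a - v) by rw [← pow_add, Nat.add_sub_cancel' hva]]
      linear_combination ((2 : ℤ) ^ (a - v)) * hb
  · intro s hs
    obtain ⟨i, rfl | rfl⟩ := IndexTwo.exists_form h hcard s
    · exact absurd ⟨i, rfl⟩ hs
    · rw [(h.mul_rule i i).2.2.2]
      refine hmem _ ?_
      rw [show i + r * i + c = i * (1 + r) + c by ring]
      exact hc i
  · intro s
    have hY : X ^ (2 ^ (a + 1) : ℤ) * Y = Y * X ^ (2 ^ (a + 1) : ℤ) := by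
      have h3 := (h.mul_rule 0 (2 ^ (a + 1))).2.2.1
      rw [zpow_zero, one_mul, zero_add] at h3
      rw [h3]
      congr 1
      rw [h.zpow_iff, Int.modEq_iff_dvd]
      push_cast
      rw [show r * 2 ^ (a + 1) - 2 ^ (a + 1) = 2 ^ (a + 1) * (r - 1) by ring]
      exact hr
    obtain ⟨i, rfl | rfl⟩ := IndexTwo.exists_form h hcard s
    · rw [huu]; exact Commute.zpow_zpow_self X _ _
    · rw [huu]; exact (Commute.zpow_zpow_self X _ _).mul_right hY

/-- Normality produces `u` from an element outside the cyclic part. -/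
theorem mem_of_outside [Finite S] {F : FusionSystem S} {X Y : S} {c r B : ℤ} {m : ℕ} (h : IndexTwo.Rel X Y m c r)
    (hcard : Nat.card S = 2 * m) (u : S) (hu : X ^ ((1 - r) * B) = u) (Q : Subgroup Ω) (hQ : F.StronglyClosed Q)
    (s : S) (hs : (s : Ω) ∈ Q) (hsX : s ∉ Subgroup.zpowers X) : (u : Ω) ∈ Q := by
  obtain ⟨i, rfl | rfl⟩ := IndexTwo.exists_form h hcard s
  · exact absurd ⟨i, rfl⟩ hsX
  · have h1 := Q.mul_mem (stronglyClosed_conj_mem hQ X.2 hs) (Q.inv_mem hs)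
    have e : X * (X ^ i * Y) * X⁻¹ * (X ^ i * Y)⁻¹ = X ^ (1 - r) := by
      have h3 := (h.mul_rule (1 + i) (-1)).2.2.1
      rw [show X * (X ^ i * Y) * X⁻¹ = X ^ (1 + i) * Y * X ^ (-1 : ℤ) by group, h3]
      rw [show 1 + i + r * -1 = (1 - r) + i by ring, zpow_add]
      group
    have h2 : ((X ^ (1 - r) : S) : Ω) ∈ Q := by rw [← e]; exact h1
    rw [← hu, zpow_mul]
    exact zpow_mem h2 B

variable {G : Type*} [Group G] {ι : S →* G} {hι : Function.Injective ι}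

/-- Fusion in the model transports membership. -/
theorem mem_of_fused {Q : Subgroup Ω} (hQ : (Along.sys ι hι).StronglyClosed Q) {s t : S} (g : G)
    (h : g * ι s * g⁻¹ = ι t ∨ g * ι s * g⁻¹ = (ι t)⁻¹) :
    ((s : Ω) ∈ Q → (t : Ω) ∈ Q) ∧ orderOf t = orderOf s := by
  have hord : orderOf (g * ι s * g⁻¹) = orderOf s :=
    ((MulAut.conj g).orderOf_eq (ι s)).trans (orderOf_injective ι hι s)
  rcases h with h | h
  · exact ⟨fun hs => Along.mem_of_conj hQ g h hs, by rw [← orderOf_injective ι hι t, ← h, hord]⟩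
  · rw [← map_inv] at h
    exact ⟨fun hs => by simpa using Q.inv_mem (Along.mem_of_conj hQ g h hs),
      by rw [← orderOf_inv t, ← orderOf_injective ι hι t⁻¹, ← h, hord]⟩

/-- The Sylow condition from the exponent of two. -/
theorem sylow_cond {H : Type*} [Finite H] [Nonempty H] {k : ℕ} (hS : Nat.card S = 2 ^ k)
    (hH : (Nat.card H).factorization 2 = k) : ∀ j, Nat.card S = 2 ^ j → ¬ 2 ^ (j + 1) ∣ Nat.card H := by
  intro j hj hd
  have := Nat.pow_right_injective le_rfl (hj.symm.trans hS)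
  have := (Nat.prime_two.pow_dvd_iff_le_factorization Nat.card_pos.ne').1 hd
  omega

variable [Finite S]

theorem sd (hS : IsPGroup 2 S) (h : IsQuasiDihedral S) :
    ∃ F : FusionSystem S, F.IsSaturated 2 ∧ ¬ Chain.HasChain F := by
  haveI : Fact (Nat.Prime 2) := ⟨Nat.prime_two⟩
  obtain ⟨n, hn, hcard, X, Y, hX, hY, hYX⟩ := h
  obtain ⟨b, rfl⟩ : ∃ b, n = b + 3 := ⟨n - 3, by omega⟩
  obtain ⟨G, iG, fG, ⟨M⟩⟩ := SDModel.exists_model (n := b + 3) (by omega)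
  letI := iG; haveI := fG
  have h2 : (b + 3) - 1 = b + 2 ∧ (b + 3) - 2 = b + 1 := ⟨by omega, by omega⟩
  have hge : 4 ≤ 2 ^ (b + 2) := by rw [show (4 : ℕ) = 2 ^ 2 by norm_num]; exact Nat.pow_le_pow_right two_pos (by omega)
  obtain ⟨r, hr⟩ : ∃ r : ℤ, r = 2 ^ (b + 2) - 1 := ⟨_, rfl⟩
  have hr' : ((2 ^ (b + 2) - 1 : ℕ) : ℤ) = r := by
    rw [hr, Nat.cast_sub (by omega)]; push_cast; rfl
  have hRG : IndexTwo.Rel M.x M.y (2 ^ (b + 3)) 0 r :=
    ⟨M.ox, M.yne, by rw [M.yy, zpow_zero], by rw [M.yx, h2.1, ← hr', zpow_natCast]⟩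
  have hR : IndexTwo.Rel X Y (2 ^ (b + 3)) 0 r := by
    have hconj : Y * X * Y⁻¹ = X ^ r := by rw [hYX, h2.1, ← hr', zpow_natCast]
    refine ⟨hX, fun i hi => ?_, by rw [zpow_zero, ← sq, ← hY, pow_orderOf_eq_one], hconj⟩
    have h1 : X ^ (1 : ℤ) = X ^ r := by rw [← hconj, hi]; group
    rw [zpow_eq_zpow_iff_modEq, hX, Int.modEq_iff_dvd, hr] at h1
    push_cast at h1
    have h3 : (2 : ℤ) ^ (b + 2) ∣ 2 := by
      have h4 := (Dvd.intro (2 : ℤ) rfl : (2 : ℤ) ^ (b + 2) ∣ 2 ^ (b + 2) * 2).trans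
        (by rw [← pow_succ]; exact h1 : (2 : ℤ) ^ (b + 2) * 2 ∣ 2 ^ (b + 2) - 1 - 1)
      have h5 := dvd_sub (dvd_refl ((2 : ℤ) ^ (b + 2))) h4
      rwa [show (2 : ℤ) ^ (b + 2) - (2 ^ (b + 2) - 1 - 1) = 2 by ring] at h5
    have h6 : (2 : ℕ) ^ (b + 2) ≤ 2 := Nat.le_of_dvd two_pos (by exact_mod_cast h3)
    omega
  have hc' : Nat.card S = 2 * 2 ^ (b + 3) := by rw [hcard, pow_succ, mul_comm]
  obtain ⟨ι, hι, hιX, hιY⟩ := IndexTwo.exists_hom hR hc' hRG
  refine ⟨Along.sys ι hι, Along.saturated hS (sylow_cond hcard M.fac), ?_⟩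
  obtain ⟨u, hu⟩ : ∃ u : S, u = X ^ (2 ^ (b + 1) : ℤ) := ⟨_, rfl⟩
  obtain ⟨h1, h2', h3, h4, h5⟩ := rel_hyps hR hc' (a := b + 1) (by omega)
    ⟨2 ^ (b + 1) - 1, by rw [hr]; ring⟩ (fun i => ⟨i, by rw [hr]; ring⟩) u hu
  refine not_hasChain_of_fused _ X u h1 h2' h3 h4 h5 (fun Q hQ hm => ?_)
    (mem_of_outside (B := 2 ^ b * (1 + 2 ^ (b + 1))) hR hc' u ?_)
  · obtain ⟨g, -, hg⟩ := M.fused 1 odd_one
    have e1 : ι u = M.x ^ 2 ^ (b + 1) := by
      rw [hu, map_zpow, hιX, ← zpow_natCast M.x (2 ^ (b + 1))]; norm_num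
    have e2 : ι (X * Y) = M.x ^ 1 * M.y := by rw [map_mul, hιX, hιY, pow_one]
    rw [h2.2, ← e1, ← e2] at hg
    obtain ⟨hin, hord⟩ := mem_of_fused hQ g hg
    refine ⟨X * Y, hin hm, fun hmem => hR.not_mem 1 ?_, hord⟩
    rwa [zpow_one]
  · rw [hu, hR.zpow_iff, Int.modEq_iff_dvd, hr]
    push_cast
    exact ⟨2 ^ (2 * b) , by ring⟩

theorem quaternion (hS : IsPGroup 2 S) {n : ℕ} (hn : 2 ≤ n) (e : S ≃* QuaternionGroup n) :
    ∃ F : FusionSystem S, F.IsSaturated 2 ∧ ¬ Chain.HasChain F := by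
  haveI : Fact (Nat.Prime 2) := ⟨Nat.prime_two⟩
  haveI : NeZero n := ⟨by omega⟩
  obtain ⟨k, hk⟩ := IsPGroup.iff_card.1 hS
  have hc4 : Nat.card S = 4 * n := by
    rw [Nat.card_congr e.toEquiv, Nat.card_eq_fintype_card, QuaternionGroup.card]
  obtain ⟨j, -, rfl⟩ := (Nat.dvd_prime_pow Nat.prime_two).1 (show n ∣ 2 ^ k from ⟨4, by rw [← hk, hc4, mul_comm]⟩)
  obtain ⟨b, rfl⟩ : ∃ b, j = b + 1 := ⟨j - 1, by rcases j with _ | j <;> simp at hn ⊢⟩
  obtain ⟨G, iG, fG, ⟨M⟩⟩ := SDModel.exists_model (n := b + 3) (by omega)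
  letI := iG; haveI := fG; haveI := M.norm₁
  have h2 : (b + 3) - 1 = b + 2 ∧ (b + 3) - 2 = b + 1 := ⟨by omega, by omega⟩
  have hx2 : M.x ^ 2 ∈ M.G₁ := by rw [sq]; exact (Subgroup.mul_mem_iff_of_index_two M.index₁).2 Iff.rfl
  have hxy : M.x * M.y ∈ M.G₁ := (Subgroup.mul_mem_iff_of_index_two M.index₁).2 (iff_of_false M.xmem M.ymem)
  obtain ⟨x, hx⟩ : ∃ x : M.G₁, x = ⟨M.x ^ 2, hx2⟩ := ⟨_, rfl⟩
  obtain ⟨y, hy⟩ : ∃ y : M.G₁, y = ⟨M.x * M.y, hxy⟩ := ⟨_, rfl⟩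
  have hge : 1 ≤ 2 ^ (b + 2) := Nat.one_le_two_pow
  have hmx : (M.y * M.x * M.y⁻¹ : G) = M.x ^ ((2 ^ (b + 2) : ℤ) - 1) := by
    rw [M.yx, h2.1, ← zpow_natCast, Nat.cast_sub hge]; push_cast; rfl
  have hxc : (x : G) = M.x ^ 2 := hx ▸ rfl
  have hyc : (y : G) = M.x * M.y := hy ▸ rfl
  have hxpow : ∀ i : ℤ, ((x ^ i : M.G₁) : G) = M.x ^ (2 * i) := fun i => by
    rw [Subgroup.coe_zpow, hxc, zpow_mul, zpow_ofNat]
  have hox : orderOf x = 2 ^ (b + 2) := by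
    rw [← Subgroup.orderOf_coe x, hx]
    show orderOf (M.x ^ 2) = _
    rw [orderOf_pow, M.ox, Nat.gcd_eq_right (dvd_pow_self 2 (by omega)), pow_succ _ (b + 2),
      Nat.mul_div_cancel _ two_pos]
  have hRG : IndexTwo.Rel x y (2 ^ (b + 2)) (2 ^ (b + 1)) (-1) := by
    refine ⟨hox, fun i hi => ?_, Subtype.ext ?_, Subtype.ext ?_⟩
    · have h := congrArg Subtype.val hi
      rw [hxpow, hy] at h
      exact M.yne (-1 + 2 * i) (by rw [zpow_add, zpow_neg_one, ← h]; group)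
    · rw [Subgroup.coe_mul, hy, hxpow]
      show M.x * M.y * (M.x * M.y) = _
      rw [show M.x * M.y * (M.x * M.y) = M.x * (M.y * M.x * M.y⁻¹) * (M.y * M.y) by group, M.yy, mul_one, hmx,
        show M.x * M.x ^ ((2 : ℤ) ^ (b + 2) - 1) = M.x ^ (1 + ((2 : ℤ) ^ (b + 2) - 1)) by rw [zpow_add, zpow_one]]
      congr 1; ring
    · rw [Subgroup.coe_mul, Subgroup.coe_mul, Subgroup.coe_inv, hxpow, hy, hx]
      show M.x * M.y * M.x ^ 2 * (M.x * M.y)⁻¹ = _
      rw [show M.x * M.y * M.x ^ 2 * (M.x * M.y)⁻¹ = M.x * (M.y * M.x * M.y⁻¹) ^ (2 : ℤ) * M.x⁻¹ by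
        rw [conj_zpow, zpow_ofNat]; group, hmx, ← zpow_mul]
      rw [show M.x * M.x ^ (((2 : ℤ) ^ (b + 2) - 1) * 2) * M.x⁻¹ = M.x ^ (((2 : ℤ) ^ (b + 2) - 1) * 2) by
        rw [(Commute.self_zpow M.x _).eq, mul_inv_cancel_right], zpow_eq_zpow_iff_modEq, M.ox, Int.modEq_iff_dvd]
      push_cast
      exact ⟨-1, by ring⟩
  obtain ⟨X, hX⟩ : ∃ X : S, X = e.symm (QuaternionGroup.a 1) := ⟨_, rfl⟩
  obtain ⟨Y, hY⟩ : ∃ Y : S, Y = e.symm (QuaternionGroup.xa 0) := ⟨_, rfl⟩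
  have hoX : orderOf X = 2 ^ (b + 2) := by
    rw [hX, e.symm.orderOf_eq, QuaternionGroup.orderOf_a_one]; ring
  have hR : IndexTwo.Rel X Y (2 ^ (b + 2)) (2 ^ (b + 1)) (-1) := by
    refine ⟨hoX, fun i hi => ?_, ?_, ?_⟩
    · obtain ⟨k, hk⟩ := mem_powers_iff_mem_zpowers.2 (⟨i, rfl⟩ : X ^ i ∈ Subgroup.zpowers X)
      rw [← show X ^ k = X ^ i from hk, hX, hY, ← map_pow] at hi
      have h := e.symm.injective hi
      rw [QuaternionGroup.a_one_pow] at h
      cases h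
    · rw [show ((2 : ℤ) ^ (b + 1)) = ((2 ^ (b + 1) : ℕ) : ℤ) by push_cast; rfl, zpow_natCast, hX, hY, ← map_mul,
        ← map_pow, QuaternionGroup.a_one_pow, QuaternionGroup.xa_mul_xa, add_zero, sub_zero]
    · rw [zpow_neg_one, hX, hY, ← map_inv, ← map_inv, ← map_mul, ← map_mul]
      congr 1
      rw [mul_inv_eq_iff_eq_mul]
      show QuaternionGroup.xa 0 * QuaternionGroup.a 1 = QuaternionGroup.a (-1) * QuaternionGroup.xa 0
      rw [QuaternionGroup.xa_mul_a, QuaternionGroup.a_mul_xa]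
      congr 1; ring
  have hc' : Nat.card S = 2 * 2 ^ (b + 2) := by rw [hc4]; ring
  obtain ⟨ι, hι, hιX, hιY⟩ := IndexTwo.exists_hom hR hc' hRG
  have hfac : (Nat.card M.G₁).factorization 2 = b + 3 := by
    have h := M.fac
    rw [← M.G₁.card_mul_index, M.index₁, Nat.factorization_mul Nat.card_pos.ne' two_ne_zero,
      Finsupp.add_apply, Nat.prime_two.factorization_self] at h
    omega
  refine ⟨Along.sys ι hι, Along.saturated hS (sylow_cond (by rw [hc']; ring) hfac), ?_⟩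
  obtain ⟨u, hu⟩ : ∃ u : S, u = X ^ (2 ^ b : ℤ) := ⟨_, rfl⟩
  obtain ⟨h1, h2', h3, h4, h5⟩ := rel_hyps hR hc' (a := b) (by omega) ⟨-1, by ring⟩
    (fun i => ⟨1, by ring⟩) u hu
  have hfused : ∀ i : ℤ, ∃ g : M.G₁, g * ι u * g⁻¹ = ι (X ^ i * Y) ∨ g * ι u * g⁻¹ = (ι (X ^ i * Y))⁻¹ := by
    intro i
    obtain ⟨i', hi'⟩ : ∃ i' : ℕ, X ^ i = X ^ i' := by
      obtain ⟨k, hk⟩ := mem_powers_iff_mem_zpowers.2 (⟨i, rfl⟩ : X ^ i ∈ Subgroup.zpowers X)
      exact ⟨k, hk.symm⟩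
    obtain ⟨g, hg, hg'⟩ := M.fused (2 * i' + 1) ⟨i', rfl⟩
    have e1 : ((ι u : M.G₁) : G) = M.x ^ 2 ^ (b + 1) := by
      rw [hu, map_zpow, hιX, hxpow, ← zpow_natCast M.x (2 ^ (b + 1))]; push_cast; congr 1; ring
    have e2 : ((ι (X ^ i * Y) : M.G₁) : G) = M.x ^ (2 * i' + 1) * M.y := by
      rw [hi', map_mul, map_pow, hιX, hιY, Subgroup.coe_mul, Subgroup.coe_pow, hxc, hyc, pow_succ M.x (2 * i'), pow_mul, mul_assoc]
    rw [h2.2, ← e1, ← e2] at hg'
    exact ⟨⟨g, hg⟩, hg'.imp (fun h => Subtype.ext h) (fun h => Subtype.ext h)⟩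
  refine not_hasChain_of_fused _ X u h1 h2' h3 h4 h5 (fun Q hQ hm => ?_) (fun Q hQ s hs hsX => ?_)
  · obtain ⟨g, hg⟩ := hfused 0
    obtain ⟨hin, hord⟩ := mem_of_fused hQ g hg
    exact ⟨_, hin hm, hR.not_mem 0, hord⟩
  · obtain ⟨i, rfl | rfl⟩ := IndexTwo.exists_form hR hc' s
    · exact absurd ⟨i, rfl⟩ hsX
    · obtain ⟨g, hg⟩ := hfused i
      refine (mem_of_fused hQ g⁻¹ (s := X ^ i * Y) (t := u) ?_).1 hs
      rcases hg with hg | hg
      · left; rw [← hg]; group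
      · right
        rw [← inv_inv (ι (X ^ i * Y)), ← hg]; group

theorem dihedral (hS : IsPGroup 2 S) {n : ℕ} (hn : 3 ≤ n) (e : S ≃* DihedralGroup n) :
    ∃ F : FusionSystem S, F.IsSaturated 2 ∧ ¬ Chain.HasChain F := by
  haveI : Fact (Nat.Prime 2) := ⟨Nat.prime_two⟩
  haveI : NeZero n := ⟨by omega⟩
  obtain ⟨k, hk⟩ := IsPGroup.iff_card.1 hS
  have hc2 : Nat.card S = 2 * n := by rw [Nat.card_congr e.toEquiv, DihedralGroup.nat_card]
  obtain ⟨j, -, rfl⟩ := (Nat.dvd_prime_pow Nat.prime_two).1 (show n ∣ 2 ^ k from ⟨2, by rw [← hk, hc2, mul_comm]⟩)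
  obtain ⟨b, rfl⟩ : ∃ b, j = b + 2 := ⟨j - 2, by
    rcases j with _ | _ | j <;> simp at hn ⊢⟩
  obtain ⟨G, iG, fG, ⟨M⟩⟩ := SDModel.exists_model (n := b + 3) (by omega)
  letI := iG; haveI := fG
  have h2 : (b + 3) - 1 = b + 2 ∧ (b + 3) - 2 = b + 1 := ⟨by omega, by omega⟩
  have hge : 1 ≤ 2 ^ (b + 2) := Nat.one_le_two_pow
  obtain ⟨Z, hZ⟩ : ∃ Z : Subgroup G, Z = Subgroup.zpowers (M.x ^ 2 ^ (b + 2)) := ⟨_, rfl⟩
  haveI : Z.Normal := by
    refine hZ ▸ ⟨fun a ha g => ?_⟩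
    obtain ⟨i, rfl⟩ := Subgroup.mem_zpowers_iff.1 ha
    have hc : Commute g (M.x ^ 2 ^ (b + 2)) := by have := M.zcen g; rw [h2.1] at this; exact this
    rw [(hc.zpow_right i).eq, mul_inv_cancel_right]
    exact zpow_mem (Subgroup.mem_zpowers _) i
  obtain ⟨π, hπ⟩ : ∃ π : G →* G ⧸ Z, π = QuotientGroup.mk' Z := ⟨_, rfl⟩
  have hker : ∀ g, π g = 1 ↔ g ∈ Z := fun g => by rw [hπ]; exact QuotientGroup.eq_one_iff g
  have hxpow : ∀ i : ℤ, π M.x ^ i = 1 ↔ (2 ^ (b + 2) : ℤ) ∣ i := by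
    intro i
    rw [← map_zpow, hker, hZ, Subgroup.mem_zpowers_iff]
    constructor
    · rintro ⟨l, hl⟩
      rw [← zpow_natCast, ← zpow_mul, zpow_eq_zpow_iff_modEq, M.ox, Int.modEq_iff_dvd] at hl
      push_cast at hl
      have h3 := (pow_dvd_pow (2 : ℤ) (show b + 2 ≤ b + 3 by omega)).trans hl
      have h4 := dvd_add h3 (dvd_mul_right ((2 : ℤ) ^ (b + 2)) l)
      rwa [sub_add_cancel] at h4
    · rintro ⟨l, rfl⟩
      exact ⟨l, by rw [← zpow_natCast, ← zpow_mul]; push_cast; rfl⟩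
  have hox : orderOf (π M.x) = 2 ^ (b + 2) := by
    refine Nat.dvd_antisymm (orderOf_dvd_of_pow_eq_one ?_) ?_
    · rw [← zpow_natCast, hxpow]; push_cast; rfl
    · have h := (hxpow (orderOf (π M.x) : ℤ)).1 (by rw [zpow_natCast, pow_orderOf_eq_one])
      exact_mod_cast h
  have hRG : IndexTwo.Rel (π M.x) (π M.y) (2 ^ (b + 2)) 0 (-1) := by
    refine ⟨hox, fun i hi => ?_, by rw [← map_mul, M.yy, map_one, zpow_zero], ?_⟩
    · rw [← map_zpow, ← mul_inv_eq_one, ← map_inv, ← map_mul, hker, hZ, Subgroup.mem_zpowers_iff] at hi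
      obtain ⟨l, hl⟩ := hi
      rw [← zpow_natCast, ← zpow_mul] at hl
      exact M.yne (((2 ^ (b + 2) : ℕ) : ℤ) * l + i) (by rw [zpow_add, hl]; group)
    · rw [← map_inv, ← map_mul, ← map_mul, M.yx, h2.1, map_pow, ← zpow_natCast, ← mul_inv_eq_one, ← zpow_neg,
        ← zpow_add, hxpow, Nat.cast_sub hge]
      push_cast
      exact ⟨1, by ring⟩
  obtain ⟨X, hX⟩ : ∃ X : S, X = e.symm (DihedralGroup.r 1) := ⟨_, rfl⟩
  obtain ⟨Y, hY⟩ : ∃ Y : S, Y = e.symm (DihedralGroup.sr 0) := ⟨_, rfl⟩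
  have hoX : orderOf X = 2 ^ (b + 2) := by rw [hX, e.symm.orderOf_eq, DihedralGroup.orderOf_r_one]
  have hR : IndexTwo.Rel X Y (2 ^ (b + 2)) 0 (-1) := by
    refine ⟨hoX, fun i hi => ?_, ?_, ?_⟩
    · rw [hX, hY, ← map_zpow] at hi
      have h := e.symm.injective hi
      rw [DihedralGroup.r_one_zpow] at h
      cases h
    · rw [zpow_zero, hY, ← map_mul, DihedralGroup.sr_mul_self, map_one]
    · rw [zpow_neg_one, hX, hY, ← map_inv, ← map_inv, ← map_mul, ← map_mul]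
      congr 1
      rw [DihedralGroup.inv_sr, DihedralGroup.sr_mul_r, DihedralGroup.sr_mul_sr, DihedralGroup.inv_r]
      congr 1; ring
  have hc' : Nat.card S = 2 * 2 ^ (b + 2) := hc2
  obtain ⟨ι, hι, hιX, hιY⟩ := IndexTwo.exists_hom hR hc' hRG
  have hfac : (Nat.card (G ⧸ Z)).factorization 2 = b + 3 := by
    have h := M.fac
    have hcZ : Nat.card Z = 2 := by
      rw [hZ, Nat.card_zpowers, orderOf_pow, M.ox,
        Nat.gcd_eq_right (pow_dvd_pow 2 (by omega : b + 2 ≤ b + 3)), pow_succ, Nat.mul_div_cancel_left _ (by positivity)]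
    rw [Subgroup.card_eq_card_quotient_mul_card_subgroup Z, hcZ, Nat.factorization_mul Nat.card_pos.ne' two_ne_zero,
      Finsupp.add_apply, Nat.prime_two.factorization_self] at h
    omega
  refine ⟨Along.sys ι hι, Along.saturated hS (sylow_cond (by rw [hc']; ring) hfac), ?_⟩
  obtain ⟨u, hu⟩ : ∃ u : S, u = X ^ (2 ^ (b + 1) : ℤ) := ⟨_, rfl⟩
  obtain ⟨h1, h2', h3, h4, h5⟩ := rel_hyps hR hc' (a := b + 1) (by omega) ⟨-2, by ring⟩
    (fun i => ⟨0, by ring⟩) u hu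
  refine not_hasChain_of_fused _ X u h1 h2' h3 h4 h5 (fun Q hQ hm => ?_)
    (mem_of_outside (B := 2 ^ b) hR hc' u ?_)
  · obtain ⟨g, -, hg⟩ := M.fused 1 odd_one
    have e1 : ι u = π (M.x ^ 2 ^ (b + 1)) := by
      rw [hu, map_zpow, hιX, ← map_zpow, ← zpow_natCast M.x (2 ^ (b + 1))]; norm_num
    have e2 : ι (X * Y) = π (M.x ^ 1 * M.y) := by rw [map_mul, hιX, hιY, pow_one, map_mul]
    rw [h2.2] at hg
    have hg' : π g * ι u * (π g)⁻¹ = ι (X * Y) ∨ π g * ι u * (π g)⁻¹ = (ι (X * Y))⁻¹ := by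
      rw [e1, e2, ← map_inv, ← map_inv, ← map_mul, ← map_mul]
      exact hg.imp (congrArg π) (congrArg π)
    obtain ⟨hin, hord⟩ := mem_of_fused hQ (π g) hg'
    refine ⟨X * Y, hin hm, fun hmem => hR.not_mem 1 ?_, hord⟩
    rwa [zpow_one]
  · rw [hu]; congr 1; ring

/-- A `p'`-group of automorphisms without invariant cyclic subgroup. -/
theorem homocyclic_of {p : ℕ} [Fact p.Prime] (hS : IsPGroup p S) (hnc : ¬ IsCyclic S) {V : Type*} [Group V] [Finite V]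
    (e : S ≃* V) (K : Subgroup (MulAut V)) (hK : ¬ p ∣ Nat.card K)
    (hirr : ∀ N : Subgroup V, IsCyclic N → (∀ k ∈ K, ∀ v ∈ N, k v ∈ N) → N = ⊥) :
    ∃ F : FusionSystem S, F.IsSaturated p ∧ ¬ Chain.HasChain F := by
  haveI : Finite (MulAut V) := Finite.of_injective (fun γ : MulAut V => (γ : V → V)) DFunLike.coe_injective
  obtain ⟨ι, hιdef⟩ : ∃ ι : S →* V ⋊[K.subtype] K, ι = SemidirectProduct.inl.comp e.toMonoidHom := ⟨_, rfl⟩
  have hι : Function.Injective ι := hιdef ▸ SemidirectProduct.inl_injective.comp e.injective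
  haveI : Finite (V ⋊[K.subtype] K) := Finite.of_equiv _ SemidirectProduct.equivProd.symm
  refine ⟨Along.sys ι hι, Along.saturated hS fun k hk hd => hK ?_, Chain.not_hasChain hnc fun N hN hNc x hx _ => ?_⟩
  · rw [SemidirectProduct.card, ← Nat.card_congr e.toEquiv, hk, pow_succ] at hd
    exact (Nat.mul_dvd_mul_iff_left (pow_pos (Fact.out : p.Prime).pos k)).1 hd
  · have hbot : N = ⊥ := by
      have hc : IsCyclic ((N.subgroupOf S).map e.toMonoidHom) := by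
        haveI : IsCyclic (N.subgroupOf S) := (Subgroup.subgroupOfEquivOfLe hN.1).isCyclic.2 hNc
        exact ((N.subgroupOf S).equivMapOfInjective e.toMonoidHom e.injective).isCyclic.1 inferInstance
      have h := hirr _ hc fun k hk v hv => by
        obtain ⟨s, hs, rfl⟩ := hv
        refine ⟨e.symm (k (e s)), ?_, e.apply_symm_apply _⟩
        refine Along.mem_of_conj hN (SemidirectProduct.inr ⟨k, hk⟩) (s := s) ?_ hs
        subst hιdef
        simp only [MonoidHom.comp_apply, MulEquiv.coe_toMonoidHom, MulEquiv.apply_symm_apply]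
        rw [← map_inv]
        exact (SemidirectProduct.inl_aut (φ := K.subtype) ⟨k, hk⟩ (e s)).symm
      rw [Subgroup.map_eq_bot_iff_of_injective _ e.injective, Subgroup.subgroupOf_eq_bot, disjoint_iff,
        inf_eq_left.2 hN.1] at h
      exact h
    rw [hbot, bot_sup_eq]
    infer_instance

/-- Two automorphisms of `A × A` generate a `p'`-group without invariant cyclic subgroup. -/
theorem irreducible {p : ℕ} [hp : Fact p.Prime] {A : Type*} [CommGroup A] [Finite A] (hA : IsPGroup p A) :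
    ∃ K : Subgroup (MulAut (A × A)), ¬ p ∣ Nat.card K ∧
      ∀ N : Subgroup (A × A), IsCyclic N → (∀ k ∈ K, ∀ v ∈ N, k v ∈ N) → N = ⊥ := by
  haveI : Finite (MulAut (A × A)) := Finite.of_injective (fun γ : MulAut (A × A) => (γ : A × A → A × A)) DFunLike.coe_injective
  have hAA : IsPGroup p (A × A) := fun v => by
    obtain ⟨i, hi⟩ := hA v.1
    obtain ⟨j, hj⟩ := hA v.2
    exact ⟨i + j, Prod.ext (by rw [Prod.pow_fst, pow_add, pow_mul, hi, one_pow]; rfl)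
      (by rw [Prod.pow_snd, pow_add, mul_comm, pow_mul, hj, one_pow]; rfl)⟩
  have hsame : ∀ (N : Subgroup (A × A)), IsCyclic N → ∀ u ∈ N, ∀ v ∈ N, orderOf u = orderOf v →
      v ∈ Subgroup.zpowers u := by
    intro N hN u hu v hv huv
    obtain ⟨i, hi⟩ := Subgroup.mem_zpowers_iff.1 (mem_zpowers_of_orderOf_eq (a := (⟨u, hu⟩ : N)) (b := ⟨v, hv⟩)
      (by rw [← Subgroup.orderOf_coe, ← Subgroup.orderOf_coe]; exact huv))
    exact ⟨i, congrArg Subtype.val hi⟩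
  by_cases hp2 : p = 2
  · subst hp2
    let t : MulAut (A × A) :=
      { toFun := fun v => (v.2, (v.1 * v.2)⁻¹)
        invFun := fun v => ((v.1 * v.2)⁻¹, v.1)
        left_inv := fun v => by ext <;> simp
        right_inv := fun v => by ext <;> simp
        map_mul' := fun v w => by ext <;> simp [mul_inv, mul_comm, mul_left_comm, mul_assoc] }
    have ht : ∀ v, t v = (v.2, (v.1 * v.2)⁻¹) := fun v => rfl
    have ht3 : t ^ 3 = 1 := MulEquiv.ext fun v => by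
      rw [pow_succ, sq, MulAut.mul_apply, MulAut.mul_apply, ht, ht, ht, MulAut.one_apply]
      ext <;> simp
    refine ⟨Subgroup.zpowers t, fun hd => ?_, fun N hN hinv => ?_⟩
    · rw [Nat.card_zpowers] at hd
      have := hd.trans (orderOf_dvd_of_pow_eq_one ht3)
      omega
    · by_contra hne
      obtain ⟨v, hv, hv1⟩ := N.bot_or_exists_ne_one.resolve_left hne
      obtain ⟨m, hm⟩ := IsPGroup.iff_orderOf.1 hAA v
      obtain ⟨m, rfl⟩ : ∃ k, m = k + 1 := ⟨m - 1, by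
        rcases m with _ | m
        · exact absurd (orderOf_eq_one_iff.1 (by simpa using hm)) hv1
        · rfl⟩
      obtain ⟨u, hu⟩ : ∃ u, u = v ^ 2 ^ m := ⟨_, rfl⟩
      have huN : u ∈ N := hu ▸ pow_mem hv _
      have hou : orderOf u = 2 := by
        rw [hu, orderOf_pow, hm, Nat.gcd_eq_right (pow_dvd_pow 2 (Nat.le_succ m)), pow_succ,
          Nat.mul_div_cancel_left _ (by positivity)]
      obtain ⟨i, hi⟩ := Subgroup.mem_zpowers_iff.1 (hsame N hN u huN (t u) (hinv t (Subgroup.mem_zpowers t) u huN)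
        (t.orderOf_eq u).symm)
      have h2 : u ^ (2 : ℤ) = 1 := by rw [zpow_ofNat, ← hou, pow_orderOf_eq_one]
      have hfix : t u = u := by
        rcases Int.even_or_odd i with ⟨k, rfl⟩ | ⟨k, rfl⟩
        · rw [← two_mul, zpow_mul, h2, one_zpow] at hi
          have : u = 1 := t.injective (by rw [map_one, ← hi])
          rw [this, map_one]
        · rw [zpow_add_one, zpow_mul, h2, one_zpow, one_mul] at hi
          exact hi.symm
      rw [ht] at hfix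
      obtain ⟨h3, h4⟩ := Prod.ext_iff.1 hfix
      simp only at h3 h4
      have hsq : u.1 * u.1 = 1 := by
        have := congrArg Prod.fst h2
        rw [zpow_ofNat, Prod.pow_fst, sq] at this
        exact this
      rw [h3, hsq, inv_one] at h4
      have : u = 1 := Prod.ext h4.symm (h3.trans h4.symm)
      rw [this, orderOf_one] at hou
      exact absurd hou (by norm_num)
  · let ρ : MulAut (A × A) :=
      { toFun := fun v => (v.2, v.1⁻¹)
        invFun := fun v => (v.2⁻¹, v.1)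
        left_inv := fun v => by simp
        right_inv := fun v => by simp
        map_mul' := fun v w => by ext <;> simp [mul_comm] }
    let w : MulAut (A × A) := MulEquiv.prodComm
    have hρ : ∀ v, ρ v = (v.2, v.1⁻¹) := fun v => rfl
    have hw : ∀ v, w v = (v.2, v.1) := fun v => rfl
    have hρ4 : ρ ^ 4 = 1 := MulEquiv.ext fun v => by
      rw [pow_succ, pow_succ, sq, MulAut.mul_apply, MulAut.mul_apply, MulAut.mul_apply, hρ, hρ, hρ, hρ,
        MulAut.one_apply]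
      simp
    have hw2 : w ^ 2 = 1 := MulEquiv.ext fun v => by rw [sq, MulAut.mul_apply, hw, hw, MulAut.one_apply]
    haveI : Fact (Nat.Prime 2) := ⟨Nat.prime_two⟩
    have hnorm : Subgroup.zpowers w ≤ Subgroup.normalizer (Subgroup.zpowers ρ : Set (MulAut (A × A))) := by
      refine Subgroup.zpowers_le.2 ?_
      have hwinv : w⁻¹ = w := inv_eq_of_mul_eq_one_left (by rw [← sq, hw2])
      have hconj : w * ρ * w⁻¹ = ρ⁻¹ := by
        rw [hwinv, eq_inv_iff_mul_eq_one]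
        exact MulEquiv.ext fun v => by
          rw [MulAut.mul_apply, MulAut.mul_apply, MulAut.mul_apply, hρ, hw, hρ, hw, MulAut.one_apply]
          simp
      rw [Subgroup.mem_normalizer_iff]
      intro g
      have hfw : ∀ g ∈ Subgroup.zpowers ρ, w * g * w⁻¹ ∈ Subgroup.zpowers ρ := by
        intro g hg
        obtain ⟨i, rfl⟩ := Subgroup.mem_zpowers_iff.1 hg
        rw [← conj_zpow, hconj]
        exact zpow_mem (inv_mem (Subgroup.mem_zpowers ρ)) i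
      refine ⟨hfw g, fun hg => ?_⟩
      have h := hfw _ hg
      rw [hwinv] at h
      have hww : w * w = 1 := by rw [← sq, hw2]
      simpa [mul_assoc, hww, ← mul_assoc w w] using h
    obtain ⟨K, hK⟩ : ∃ K, K = Subgroup.zpowers ρ ⊔ Subgroup.zpowers w := ⟨_, rfl⟩
    have hKp : IsPGroup 2 K := by
      have hz : ∀ g : MulAut (A × A), g ^ 4 = 1 → IsPGroup 2 (Subgroup.zpowers g) := fun g hg => by
        obtain ⟨k, -, hk⟩ := (Nat.dvd_prime_pow Nat.prime_two).1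
          (orderOf_dvd_of_pow_eq_one hg |>.trans (dvd_of_eq (show 4 = 2 ^ 2 by norm_num)))
        exact IsPGroup.of_card (n := k) (by rw [Nat.card_zpowers, hk])
      exact hK ▸ IsPGroup.to_sup_of_normal_left' (hz ρ hρ4) (hz w (by rw [show 4 = 2 * 2 by norm_num, pow_mul, hw2, one_pow]))
        hnorm
    refine ⟨K, fun hd => ?_, fun N hN hinv => ?_⟩
    · obtain ⟨k, hk⟩ := IsPGroup.iff_card.1 hKp
      rw [hk] at hd
      exact hp2 ((Nat.prime_dvd_prime_iff_eq hp.out Nat.prime_two).1 (hp.out.dvd_of_dvd_pow hd))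
    have hwK : w ∈ K := hK ▸ Subgroup.mem_sup_right (Subgroup.mem_zpowers w)
    have hρK : ρ ∈ K := hK ▸ Subgroup.mem_sup_left (Subgroup.mem_zpowers ρ)
    have hodd : ∀ c : A, c * c = 1 → c = 1 := fun c hc => by
      obtain ⟨m, hm⟩ := IsPGroup.iff_orderOf.1 hA c
      have h := orderOf_dvd_of_pow_eq_one (show c ^ 2 = 1 by rw [sq, hc])
      rw [hm] at h
      rcases m with _ | m
      · exact orderOf_eq_one_iff.1 (by rw [hm, pow_zero])
      · exact absurd ((Nat.prime_dvd_prime_iff_eq hp.out Nat.prime_two).1 ((dvd_pow_self p m.succ_ne_zero).trans h)) hp2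
    have hkey : ∀ c : A, (c, 1) ∈ N → (1, c) ∈ N → c = 1 := by
      intro c h1 h2
      obtain ⟨i, hi⟩ := Subgroup.mem_zpowers_iff.1 (hsame N hN _ h1 _ h2
        ((w.orderOf_eq (c, 1)).symm.trans (by rw [hw])))
      have := congrArg Prod.snd hi
      simp at this
      exact this.symm
    have hfst : ∀ v ∈ N, v.1 = 1 := by
      intro v hv
      have h1 : w (ρ v) ∈ N := hinv w hwK _ (hinv ρ hρK v hv)
      have h2 := N.mul_mem hv (N.inv_mem h1)
      rw [hρ, hw] at h2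
      have e : v * ((v.2, v.1⁻¹).2, (v.2, v.1⁻¹).1)⁻¹ = (v.1 * v.1, 1) := by ext <;> simp
      rw [e] at h2
      exact hodd _ (hkey _ h2 (by simpa [hw] using hinv w hwK _ h2))
    rw [eq_bot_iff]
    intro v hv
    rw [Subgroup.mem_bot]
    exact Prod.ext (hfst v hv) (by simpa [hw] using hfst _ (hinv w hwK v hv))

theorem homocyclic {p : ℕ} [hp : Fact p.Prime] (hS : IsPGroup p S) {n : ℕ} (hn : 0 < n)
    (e : S ≃* Multiplicative (ZMod (p ^ n)) × Multiplicative (ZMod (p ^ n))) :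
    ∃ F : FusionSystem S, F.IsSaturated p ∧ ¬ Chain.HasChain F := by
  haveI : NeZero (p ^ n) := ⟨pow_ne_zero _ hp.out.ne_zero⟩
  have hA : IsPGroup p (Multiplicative (ZMod (p ^ n))) := IsPGroup.of_card (n := n) (by simp)
  have hnc : ¬ IsCyclic S := by
    rw [e.isCyclic, Group.isCyclic_prod_iff]
    rintro ⟨-, -, h⟩
    simp only [Nat.card_eq_fintype_card, Fintype.card_multiplicative, ZMod.card, Nat.coprime_self] at h
    exact (Nat.one_lt_pow hn.ne' hp.out.one_lt).ne' h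
  obtain ⟨K, hK, hirr⟩ := irreducible hA
  exact homocyclic_of hS hnc e K hK hirr

end Cfsg.Agent.Local.FS.NoChain
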