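import Cfsg.Agent.Lib.Local.FS.TransferControl
import Cfsg.Agent.Lib.Local.FS.GlaubermanCenter
import Cfsg.Agent.Lib.Fusion.FactorPowers
import Cfsg.Prelude.Def_PLocal

/-!
Thompson factorization of a saturated system by the powers of the centre and the Thompson subgroup.
-/

set_option autoImplicit false

namespace Cfsg.Agent.Local.FS

open Cfsg Cfsg.FusionSystem Cfsg.Agent.Fusion

universe u

variable {Ω : Type u} [Group Ω] {S : Subgroup Ω} {F : FusionSystem S} {p : ℕ}

/-- The powers of the centre, as a subgroup. -/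
def centerPowers (p : ℕ) (V : Subgroup Ω) : Subgroup Ω :=
  powerClosure p 1 (V ⊓ Subgroup.centralizer (V : Set Ω))

/-- A closed class containing the maps fixing the powers of the centre and the maps preserving the Thompson
subgroup contains every map. -/
def ThompsonGen (p : ℕ) (F : FusionSystem S) : Prop :=
  ∀ K : Subgroup Ω → (Ω → Ω) → Prop, IsClosedClass F K →
    (∀ P g, Map F P g → centerPowers p S ≤ P → (∀ x ∈ centerPowers p S, g x = x) → K P g) →
    (∀ P g, Map F P g → inducedFunctor wJA S ≤ P → im (inducedFunctor wJA S) g = inducedFunctor wJA S → K P g) →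
    ∀ P g, Map F P g → K P g

theorem mem_of_centric_conj {C : Subgroup Ω} {ψ : Ω → Ω} (hC : F.IsCentric C) (hψ : Map F C ψ)
    {z : Ω} (hz : z ∈ S) (hzc : ∀ s ∈ S, s * z = z * s) : z ∈ im C ψ :=
  hC.2 _ (isConj_iff.2 ⟨ψ, hψ, rfl⟩) (mem_centralizerIn.2 ⟨hz, fun y hy => hzc y (hψ.im_le hy)⟩)

variable [Finite S] [Fact p.Prime]

theorem center_mem_functor (hS : IsPGroup p S) {V : Subgroup Ω} (hV : V ≤ S) {z : Ω} (hz : z ∈ V)
    (hzc : ∀ v ∈ V, v * z = z * v) : z ∈ inducedFunctor wJA V := by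
  haveI := finite_of_le hV
  exact ⟨⟨z, hz⟩, center_le_wJA (p := p) V (hS.to_le hV)
    (Subgroup.mem_center_iff.2 fun v => Subtype.ext (hzc v v.2)), rfl⟩

theorem centerPowers_mono {U : Subgroup Ω} (hU : U ≤ S) :
    centerPowers p S ≤ centerPowers p (normalizerIn S U) := by
  refine Subgroup.closure_mono ?_
  rintro y ⟨x, ⟨hxS, hxc⟩, he⟩
  have h : ∀ s ∈ S, s * x = x * s := Subgroup.mem_centralizer_iff.1 hxc
  exact ⟨x, ⟨centralizerIn_le_normalizerIn (mem_centralizerIn.2 ⟨hxS, fun y hy => h y (hU hy)⟩),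
    Subgroup.mem_centralizer_iff.2 fun s hs => h s hs.1⟩, he⟩

set_option maxHeartbeats 800000 in
/-- The constrained case, from the theorem on groups. -/
theorem thompsonGen_of_model (hS : IsPGroup p S) (hF : F.IsSaturated p) {Q : Subgroup Ω} (hQn : F.IsNormal Q)
    (hQc : F.IsCentric Q) : ThompsonGen p F := by
  intro K hK hC hN P₁ f₁ hf₁
  obtain ⟨L, _, ι, hm⟩ := exists_model hS hF hQn hQc
  haveI := hm.1
  obtain ⟨T, hTι⟩ := hm.2.2.1
  have hι := hm.2.1.1
  let pre : Subgroup L → Subgroup Ω := fun P => (P.comap ι).map S.subtype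
  have hpre : ∀ (P : Subgroup L) (x : S), (x : Ω) ∈ pre P ↔ ι x ∈ P := fun P x =>
    Subgroup.mem_map_iff_mem S.subtype_injective
  have hpreS : ∀ P, pre P ≤ S := fun P => Subgroup.map_subtype_le _
  let Kl : Subgroup L → L → Prop := fun P g => ∃ f, Map F (pre P) f ∧ K (pre P) f ∧
    ∀ x : S, ι x ∈ P → ∀ y : S, ι y = g * ι x * g⁻¹ → f x = y
  have hW2 := (isCharPFunctor_wJA (p := p)).2
  set W₀ := inducedFunctor wJA S with hW₀
  have hW₀S : W₀ ≤ S := Subgroup.map_subtype_le _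
  have himg : thompsonSubgroupAOf (T : Subgroup L) = (W₀.subgroupOf S).map ι := by
    rw [← Local.FS.inducedFunctor_wJA, hTι]; exact inducedFunctor_range hW2 hS hι
  have hext : ∀ (P : Subgroup L) (g : L), P ≤ (T : Subgroup L) → cj P g ≤ (T : Subgroup L) →
      ∀ D : Subgroup Ω, D ≤ S → (∀ x : S, (x : Ω) ∈ D → g * ι x * g⁻¹ ∈ ι.range) →
      ∃ f, Map F (pre P ⊔ D) f ∧ ∀ x : S, (x : Ω) ∈ pre P ⊔ D → ∀ y : S, ι y = g * ι x * g⁻¹ → f x = y := by
    intro P g hP hPg D hD hDg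
    have hle : pre P ⊔ D ≤ ((ι.range).comap ((MulAut.conj g).toMonoidHom.comp ι)).map S.subtype := by
      refine sup_le ?_ fun x hx => ⟨⟨x, hD hx⟩, hDg ⟨x, hD hx⟩ hx, rfl⟩
      rintro _ ⟨x, hx, rfl⟩
      exact ⟨x, hTι.le (hPg ⟨ι x, hx, rfl⟩), rfl⟩
    exact exists_map_of_conj hm.2.1 (sup_le (hpreS P) hD) g fun x hx =>
      (Subgroup.mem_map_iff_mem S.subtype_injective).1 (hle hx)
  have hfix : ∀ g ∈ Subgroup.centralizer (centerPow p (T : Subgroup L)),
      centerPowers p S ≤ ((Subgroup.centralizer ({g} : Set L)).comap ι).map S.subtype := by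
    intro g hg
    refine (Subgroup.closure_le _).2 ?_
    rintro y ⟨x, ⟨hxS, hxc⟩, rfl⟩
    refine ⟨⟨x, hxS⟩ ^ p ^ 1, Subgroup.mem_centralizer_iff.2 fun g' hg' => ?_, rfl⟩
    rw [Set.mem_singleton_iff] at hg'
    subst hg'
    refine (Subgroup.mem_centralizer_iff.1 hg _ ⟨ι ⟨x, hxS⟩, hTι.ge ⟨_, rfl⟩, ?_, ?_⟩).symm
    · intro t ht
      obtain ⟨s, rfl⟩ := hTι.le ht
      rw [← map_mul, ← map_mul]
      exact congrArg ι (Subtype.ext (Subgroup.mem_centralizer_iff.1 hxc s s.2))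
    · rw [map_pow, pow_one]
  have hall := fusion_factor_powers (p := p) _ L T Kl le_rfl hm.2.2.2 ?_ ?_ ?_
  rotate_left
  · rintro P g h hP hPg hPh ⟨f, hf, hfK, hfg⟩ ⟨f', hf', hfK', hfh⟩
    have hval : ∀ x : S, ι x ∈ P → ∃ y : S, ι y = g * ι x * g⁻¹ ∧ f x = y ∧ ι y ∈ cj P g := fun x hx => by
      obtain ⟨y, hy⟩ := hTι.le (hPg ⟨ι x, hx, rfl⟩)
      refine ⟨y, hy, hfg x hx y hy, ?_⟩
      rw [hy]; exact ⟨ι x, hx, rfl⟩
    have hmem : ∀ z ∈ pre P, f z ∈ pre (cj P g) := by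
      rintro _ ⟨x, hx, rfl⟩
      obtain ⟨y, -, he, hy⟩ := hval x hx
      show f (x : Ω) ∈ _
      rw [he]; exact (hpre _ _).2 hy
    refine ⟨f' ∘ f, hf.comp hf' hmem, hK.comp hf hf' hfK hfK' hmem, fun x hx y hy => ?_⟩
    obtain ⟨y₁, he₁, he, hy₁⟩ := hval x hx
    show f' (f x) = y
    rw [he]
    exact hfh y₁ hy₁ y (by rw [hy, he₁]; group)
  · intro P g hP hPg hg
    have hX := hfix g hg
    have hXS : centerPowers p S ≤ S := hX.trans (Subgroup.map_subtype_le _)
    have hfx : ∀ x : S, (x : Ω) ∈ centerPowers p S → g * ι x * g⁻¹ = ι x := fun x hx => by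
      have h0 : x ∈ (Subgroup.centralizer ({g} : Set L)).comap ι :=
        (Subgroup.mem_map_iff_mem S.subtype_injective).1 (hX hx)
      have h := Subgroup.mem_centralizer_iff.1 (show ι x ∈ Subgroup.centralizer ({g} : Set L) from h0) g rfl
      rw [h, mul_inv_cancel_right]
    obtain ⟨f, hf, hfg⟩ := hext P g hP hPg (centerPowers p S) hXS fun x hx => ⟨x, (hfx x hx).symm⟩
    refine ⟨f, hf.restrict le_sup_left, hK.restrict hf (hC _ f hf le_sup_right fun z hz => ?_) le_sup_left,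
      fun x hx => hfg x (Subgroup.mem_sup_left ((hpre P x).2 hx))⟩
    exact hfg ⟨z, hXS hz⟩ (Subgroup.mem_sup_right hz) ⟨z, hXS hz⟩ (hfx ⟨z, hXS hz⟩ hz).symm
  · intro P g hP hPg hg
    rw [himg] at hg
    have hmW : ∀ x : S, (x : Ω) ∈ W₀ → g * ι x * g⁻¹ ∈ (W₀.subgroupOf S).map ι := fun x hx =>
      conj_mem_of_normalizer hg (Subgroup.mem_map_of_mem ι (show x ∈ W₀.subgroupOf S from hx))
    obtain ⟨f, hf, hfg⟩ := hext P g hP hPg W₀ hW₀S fun x hx => Subgroup.map_le_range ι _ (hmW x hx)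
    haveI := finite_of_le hW₀S
    have hfW : im W₀ f = W₀ := Subgroup.eq_of_le_of_card_ge (im_le_iff.2 fun w hw => by
      obtain ⟨y, hy, he⟩ := hmW ⟨w, hW₀S hw⟩ hw
      rw [hfg ⟨w, hW₀S hw⟩ (Subgroup.mem_sup_right hw) y he]
      exact hy) (hf.restrict le_sup_right).card_im.ge
    exact ⟨f, hf.restrict le_sup_left, hK.restrict hf (hN _ f hf le_sup_right hfW) le_sup_left,
      fun x hx => hfg x (Subgroup.mem_sup_left ((hpre P x).2 hx))⟩
  obtain ⟨c, hc⟩ := exists_conj_of_map hm.2.1 hf₁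
  set P₀ := (P₁.subgroupOf S).map ι
  have hP₀ : ∀ x : S, ι x ∈ P₀ ↔ (x : Ω) ∈ P₁ := fun x => Subgroup.mem_map_iff_mem hι
  have he : pre P₀ = P₁ := by
    refine le_antisymm ?_ fun x hx => ⟨⟨x, hf₁.le hx⟩, (hP₀ _).2 hx, rfl⟩
    rintro _ ⟨x, hx, rfl⟩
    exact (hP₀ x).1 hx
  have hcT : cj P₀ c ≤ (T : Subgroup L) := by
    rintro _ ⟨_, ⟨x, hx, rfl⟩, rfl⟩
    exact hTι.ge ⟨⟨f₁ x, hf₁.mem hx⟩, hc x hx _ rfl⟩
  obtain ⟨f, hf, hfK, hfc⟩ := hall P₀ c ((Subgroup.map_le_range ι _).trans hTι.ge) hcT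
  rw [he] at hfK
  exact hK.congr hfK fun x hx => hfc ⟨x, hf₁.le hx⟩ ((hP₀ _).2 hx) ⟨f₁ x, hf₁.mem hx⟩ (hc _ hx _ rfl)

set_option maxHeartbeats 800000 in
/-- **Thompson factorization** of a saturated system. -/
theorem thompsonGen (hS : IsPGroup p S) (hF : F.IsSaturated p) : ThompsonGen p F := by
  suffices ∀ (k m : ℕ) (Ω : Type u) [Group Ω] (S : Subgroup Ω) [Finite S] (F : FusionSystem S),
      Nat.card S = k → (allMaps F).ncard = m → IsPGroup p S → F.IsSaturated p →
      ThompsonGen p F from this _ _ Ω S F rfl rfl hS hF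
  intro k
  induction k using Nat.strong_induction_on with
  | _ k ihk =>
  intro m
  induction m using Nat.strong_induction_on with
  | _ m ihm =>
  intro Ω _ S _ F hk hm hS hF K hK hC hN
  have hW2 := (isCharPFunctor_wJA (p := p)).2
  set W₀ := inducedFunctor wJA S with hW₀
  have hrec : ∀ (U : Subgroup Ω) (hU : F.IsFullyNormalized U), ¬ F.IsNormal U →
      (∀ P g, Map F P g → P ≤ normalizerIn S U → (∀ y ∈ P, g y ∈ normalizerIn S U) →
        inducedFunctor wJA (normalizerIn S U) ≤ P →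
        im (inducedFunctor wJA (normalizerIn S U)) g = inducedFunctor wJA (normalizerIn S U) → K P g) →
      ∀ P g, Map (normSys F hU.1) P g → K P g := by
    intro U hU hUn hN'
    have hVp : IsPGroup p ↥(normalizerIn S U) := hS.to_le inf_le_left
    have hsat := normSys_saturated hS hF hU
    have hgen : ThompsonGen p (normSys F hU.1) := by
      rcases eq_or_lt_of_le (show normalizerIn S U ≤ S from inf_le_left) with hVS | hVS
      · refine ihm _ ?_ Ω _ _ (by rw [hVS, hk]) rfl hVp hsat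
        rw [← hm]
        exact allMaps_lt hU.1 hUn fun _ => rfl
      · exact ihk _ (hk ▸ card_lt_of_lt hVS le_rfl) _ Ω _ _ rfl rfl hVp hsat
    refine hgen K ⟨fun h he => hK.congr h he, fun hf h hR => hK.restrict (map_of_normSys hf) h hR,
      fun hf hg h h' hm' => hK.comp (map_of_normSys hf) (map_of_normSys hg) h h' hm',
      fun hf h hg => hK.inv (map_of_normSys hf) h hg⟩ (fun P g hg hX hfix => ?_)
      fun P g hg hJ hgJ => hN' P g (map_of_normSys hg) hg.le (fun y hy => hg.mem hy) hJ hgJ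
    exact hC P g (map_of_normSys hg) ((centerPowers_mono hU.1).trans hX)
      fun x hx => hfix x (centerPowers_mono hU.1 hx)
  have htop : ∀ (U : Subgroup Ω) (hU : F.IsFullyNormalized U), ¬ F.IsNormal U → normalizerIn S U = S →
      ∀ P g, Map (normSys F hU.1) P g → K P g := by
    intro U hU hUn hV
    have he : inducedFunctor wJA (normalizerIn S U) = W₀ := congrArg (inducedFunctor wJA) hV
    refine hrec U hU hUn fun P g hg _ _ hJ hgJ => hN P g hg (he ▸ hJ) ?_
    rwa [← he]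
  by_cases hA : ∃ U, F.IsNormal U ∧ ∀ z ∈ S, (∀ s ∈ S, s * z = z * s) → z ∈ U
  · obtain ⟨U, hUn, hUZ⟩ := hA
    have hUS := hUn.1
    haveI := finite_of_le hUS
    have hsc := normal_stronglyClosed hUn
    have hUV : normalizerIn S U = S := inf_eq_left.2 (stronglyClosed_le_normalizer hsc)
    have hUfc : F.IsFullyCentralized U := (fc_fa_of_fn hS hF (fn_of_normalized hUS hUV)).1
    set R₀ := U ⊔ centralizerIn S U with hR₀
    have hR₀S : R₀ ≤ S := sup_le hUS inf_le_left
    by_cases hRn : F.IsNormal R₀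
    · exact thompsonGen_of_model hS hF hRn (isCentric_sup_centralizer hUfc) K hK hC hN
    intro P f hf
    obtain ⟨g, hg, hgf, hgU⟩ := (normal_iff.1 hUn).2 P f hf
    haveI := finite_of_le hR₀S
    obtain ⟨γ, hγ, hγg⟩ := (receptive_iff.1 (receptive_of_fc hS hF hUfc)).2 U g (hg.restrict le_sup_right) hgU
    set D := (P ⊔ U) ⊔ R₀ with hD
    have hDN : D ≤ Nf S U g := by
      refine sup_le (fun y hy => ?_) (sup_le (le_Nf (hg.restrict le_sup_right)) centralizerIn_le_Nf)
      have hyn : y ∈ Subgroup.normalizer (U : Set Ω) := (hUV.ge (hg.le hy)).2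
      refine mem_Nf.2 ⟨hg.le hy, hyn, g y, hg.mem hy, fun u hu => ?_⟩
      exact hg.map_conj hy (Subgroup.mem_sup_right hu)
    have hγD := hγ.restrict hDN
    have hDS : D ≤ S := hγD.le
    have hγR : im R₀ γ = R₀ := by
      have hγ₀ := hγD.restrict (le_sup_right : R₀ ≤ D)
      refine Subgroup.eq_of_le_of_card_ge (hγ₀.im_sup_le.trans (sup_le
        (((im_congr hγg).trans hgU).le.trans le_sup_left) ((im_le_iff.2 fun y hy => ?_).trans le_sup_right)))
        hγ₀.card_im.ge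
      have h1 := hγ₀.mem_centralizer (le_sup_left : U ≤ R₀) (Subgroup.mem_sup_right hy) (mem_centralizerIn.1 hy).2
      rwa [(im_congr hγg).trans hgU] at h1
    have hR₀V : normalizerIn S R₀ = S := by
      refine le_antisymm inf_le_left fun s hs => ⟨hs, mem_normalizer_of_conj_mem hR₀S fun y hy => ?_⟩
      have hsU := (hUV.ge hs).2
      have hle : R₀ ≤ R₀.comap (MulAut.conj s).toMonoidHom := sup_le
        (fun u hu => Subgroup.mem_sup_left (conj_mem_of_normalizer hsU hu))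
        (fun c hc => Subgroup.mem_sup_right (mem_centralizerIn.2 ⟨S.mul_mem (S.mul_mem hs hc.1) (S.inv_mem hs),
          fun u hu => by
            have h1 : s⁻¹ * u * s ∈ U := by
              have := conj_mem_of_normalizer (inv_mem hsU) hu
              rwa [inv_inv] at this
            show u * (s * c * s⁻¹) = s * c * s⁻¹ * u
            calc u * (s * c * s⁻¹) = s * ((s⁻¹ * u * s) * c) * s⁻¹ := by group
              _ = s * (c * (s⁻¹ * u * s)) * s⁻¹ := by rw [(mem_centralizerIn.1 hc).2 _ h1]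
              _ = s * c * s⁻¹ * u := by group⟩))
      exact hle hy
    have hfn := fn_of_normalized (F := F) hR₀S hR₀V
    have hγK : K D γ := htop R₀ hfn hRn hR₀V D γ ((map_normalizerSystem_iff fun _ => rfl).2
      ⟨hDS.trans hR₀V.ge, fun y hy => hR₀V.ge (hγD.mem hy), γ,
        by rwa [sup_eq_left.2 (le_sup_right : R₀ ≤ D)], fun _ _ => rfl, hγR⟩)
    have hγP := hγD.restrict (le_sup_left : P ⊔ U ≤ D)
    obtain ⟨γ', hγ', hγ'γ, hγ'2, -⟩ := hγP.exists_inv
    have hh : Map F (im (P ⊔ U) γ) (g ∘ γ') := hγ'.comp hg fun y hy => (hγ'2 y hy).2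
    have hUle : U ≤ im (P ⊔ U) γ := ((im_congr hγg).trans hgU).ge.trans (im_mono le_sup_right)
    have hhfix : ∀ u ∈ U, (g ∘ γ') u = u := fun u hu => by
      obtain ⟨u₀, hu₀, he⟩ := (hγP.restrict le_sup_right).mem_im.1 (((im_congr hγg).trans hgU).ge hu)
      show g (γ' u) = u
      rw [← he, hγ'γ u₀ (Subgroup.mem_sup_right hu₀), hγg u₀ hu₀]
    have hXU : centerPowers p S ≤ U := by
      refine (Subgroup.closure_le _).2 ?_
      rintro y ⟨x, hx, rfl⟩
      exact U.pow_mem (hUZ x hx.1 (Subgroup.mem_centralizer_iff.1 hx.2)) _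
    have hhK : K (im (P ⊔ U) γ) (g ∘ γ') :=
      hC _ _ hh (hXU.trans hUle) fun x hx => hhfix x (hXU hx)
    have h1 := hK.comp hγP hh (hK.restrict hγD hγK le_sup_left) hhK fun y hy => mem_im_of_mem hy
    refine hK.congr (hK.restrict (hγP.comp hh fun y hy => mem_im_of_mem hy) h1 le_sup_left) fun x hx => ?_
    show g (γ' (γ x)) = f x
    rw [hγ'γ x (Subgroup.mem_sup_left hx), hgf x hx]
  push Not at hA
  have hSK : ∀ α ∈ F.autGroup S, K S (av α) := fun α hα =>
    hN _ _ (map_of_mem_autGroup le_rfl hα) (Subgroup.map_subtype_le _)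
      (im_functor hS hW2 (map_of_mem_autGroup le_rfl hα) (im_av α))
  suffices key : ∀ (n : ℕ) (U : Subgroup Ω) (hU : F.IsFullyNormalized U),
      (∀ z ∈ S, (∀ s ∈ S, s * z = z * s) → z ∈ U) →
      Nat.card S - Nat.card ↥(normalizerIn S U) = n →
      ∀ P g, Map (normSys F hU.1) P g → K P g by
    refine fun P f hf => alperin hS hF hK (fun R hR α hα => ?_) P f hf
    rcases hR with rfl | hR
    · exact hSK α hα
    refine key _ R hR.2.1 (fun z hz hzc => centric_inv_mem hR.1 hz fun y hy => hzc y (hR.2.1.1 hy)) rfl R (av α)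
      ((map_normalizerSystem_iff fun _ => rfl).2
      ⟨le_normalizerIn hR.2.1.1, fun x hx => le_normalizerIn hR.2.1.1 (av_mem α hx), av α, ?_,
        fun _ _ => rfl, im_av α⟩)
    rw [sup_idem]; exact map_of_mem_autGroup hR.2.1.1 hα
  intro n
  induction n using Nat.strong_induction_on with
  | _ n ih =>
  intro U hU hUZ hn
  have hUn : ¬ F.IsNormal U := fun h => by
    obtain ⟨z, hz, hzc, hzU⟩ := hA U h
    exact hzU (hUZ z hz hzc)
  set V := normalizerIn S U with hV
  refine hrec U hU hUn fun B g hg hBV hgm hB hgU => ?_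
  set U₂ := inducedFunctor wJA V with hU₂
  rcases eq_or_lt_of_le (show V ≤ S from inf_le_left) with hVS | hVS
  · have he : U₂ = W₀ := congrArg (inducedFunctor wJA) hVS
    exact hN B g hg (he ▸ hB) (by rw [← he]; exact hgU)
  have hU₂S : U₂ ≤ S := (Subgroup.map_subtype_le _).trans inf_le_left
  have hlt : V < normalizerIn S U₂ := (lt_normalizerIn hS hVS).trans_le (normalizer_le_functor hS hW2 inf_le_left)
  obtain ⟨U', hconj, hU'⟩ := exists_fullyNormalized (F := F) hU₂S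
  obtain ⟨ψ, hψ, hψm, hψU⟩ := exists_map_normalizer_fn hS hF hU' hconj
  have hcard : Nat.card V < Nat.card ↥(normalizerIn S U₂) := card_lt_of_lt hlt inf_le_left
  have hcard' : Nat.card ↥(normalizerIn S U₂) ≤ Nat.card ↥(normalizerIn S U') := hU'.2 _ (isConj_symm hconj)
  have hle' : Nat.card ↥(normalizerIn S U') ≤ Nat.card S := Subgroup.card_le_of_le inf_le_left
  have hbig : ∀ P φ, Map F P φ → Nat.card V < Nat.card P → K P φ := by
    intro P φ hφ
    refine alperin hS hF (K := fun P φ => Nat.card V < Nat.card P → K P φ) ?_ ?_ P φ hφ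
    · refine ⟨fun h he hc => hK.congr (h hc) he, ?_, ?_, ?_⟩
      · intro X X' f hf h hX hc
        haveI := finite_of_le hf.le
        exact hK.restrict hf (h (hc.trans_le (Subgroup.card_le_of_le hX))) hX
      · intro X X' f g hf hg h h' hm' hc
        haveI := finite_of_le hg.le
        exact hK.comp hf hg (h hc) (h' (hc.trans_le (hf.card_le hm'))) hm'
      · intro X f g hf h hg hc
        exact hK.inv hf (h (hf.card_im ▸ hc)) hg
    · intro X hX β hβ hc
      rcases hX with rfl | hX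
      · exact hSK β hβ
      have hXS := hX.2.1.1
      have h1 : Nat.card X ≤ Nat.card ↥(normalizerIn S X) := Subgroup.card_le_of_le (le_normalizerIn hXS)
      have h2 : Nat.card ↥(normalizerIn S X) ≤ Nat.card S := Subgroup.card_le_of_le inf_le_left
      refine ih _ (by omega) X hX.2.1 (fun z hz hzc => centric_inv_mem hX.1 hz fun y hy => hzc y (hXS hy)) rfl X
        (av β) ((map_normalizerSystem_iff fun _ => rfl).2
        ⟨le_normalizerIn hXS, fun x hx => le_normalizerIn hXS (av_mem β hx), av β, ?_,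
          fun _ _ => rfl, im_av β⟩)
      rw [sup_idem]; exact map_of_mem_autGroup hXS hβ
  have hψK : K (normalizerIn S U₂) ψ := hbig _ ψ hψ hcard
  have hU'Z : ∀ z ∈ S, (∀ s ∈ S, s * z = z * s) → z ∈ U' := by
    intro z hz hzc
    set C := U ⊔ centralizerIn S U
    have hCV : C ≤ V := sup_le (le_normalizerIn hU.1) centralizerIn_le_normalizerIn
    have hψV := hψ.restrict hlt.le
    have hzim : z ∈ im V ψ := im_mono hCV (mem_of_centric_conj
      (isCentric_sup_centralizer (fc_fa_of_fn hS hF hU).1) (hψV.restrict hCV) hz hzc)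
    rw [← hψU, hU₂, im_functor hS hW2 hψV rfl]
    exact center_mem_functor hS hψV.im_le hzim fun v hv => hzc v (hψV.im_le hv)
  have hBN : B ≤ normalizerIn S U₂ := hBV.trans hlt.le
  have hgN : ∀ y ∈ B, g y ∈ normalizerIn S U₂ := fun y hy => hlt.le (hgm y hy)
  obtain ⟨ψ', hψ', hψψ, hψ'2, -⟩ := hψ.exists_inv
  have hψB := hψ.restrict hBN
  have hψ'B : ∀ y ∈ im B ψ, ψ' y ∈ B := fun y hy => by
    obtain ⟨x, hx, rfl⟩ := hψB.mem_im.1 hy
    rw [hψψ x (hBN hx)]; exact hx
  have hh : Map F (im B ψ) (ψ ∘ g ∘ ψ') :=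
    ((hψ'.restrict (im_mono hBN)).comp hg hψ'B).comp hψ fun y hy => hgN _ (hψ'B y hy)
  have hhU : im U' (ψ ∘ g ∘ ψ') = U' := by
    rw [← hψU, ← (hψ.restrict (hB.trans hBN)).im_comp]
    refine (im_congr (g := ψ ∘ g) fun y hy => ?_).trans ?_
    · show ψ (g (ψ' (ψ y))) = ψ (g y)
      rw [hψψ y (hBN (hB hy))]
    · rw [(hg.restrict hB).im_comp, hgU]
  have hU'le : U' ≤ im B ψ := hψU.ge.trans (im_mono hB)
  have hhK : K (im B ψ) (ψ ∘ g ∘ ψ') := ih _ (by omega) U' hU' hU'Z rfl _ _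
    ((map_normalizerSystem_iff fun _ => rfl).2 ⟨im_le_iff.2 fun y hy => hψm y (hBN hy),
      fun y hy => hψm _ (hgN _ (hψ'B y hy)), ψ ∘ g ∘ ψ', by rwa [sup_eq_left.2 hU'le],
      fun _ _ => rfl, hhU⟩)
  have hψ'K : K (im (normalizerIn S U₂) ψ) ψ' := hK.inv hψ hψK hψψ
  have h1 := hK.comp hψB hh (hK.restrict hψ hψK hBN) hhK fun y hy => mem_im_of_mem hy
  have hm1 : ∀ y ∈ B, ((ψ ∘ g ∘ ψ') ∘ ψ) y ∈ im (normalizerIn S U₂) ψ := fun y hy =>
    mem_im_of_mem (hgN _ (hψ'B _ (mem_im_of_mem hy)))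
  have h2 := hK.comp (hψB.comp hh fun y hy => mem_im_of_mem hy) hψ' h1 hψ'K hm1
  refine hK.congr h2 fun y hy => ?_
  show ψ' (ψ (g (ψ' (ψ y)))) = g y
  rw [hψψ y (hBN hy), hψψ _ (hgN y hy)]

end Cfsg.Agent.Local.FS
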