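import Cfsg.Agent.Lib.Local.FS.Biset

/-!
Every fusion system on a finite group is induced by some finite group containing it: a biset whose fixed
point counts on the graphs of the system depend only on their orders, and the automorphisms of its right
action.
-/

set_option autoImplicit false

namespace Cfsg.Agent.Local.FS

open Cfsg Cfsg.FusionSystem Cfsg.Agent.Fusion Cfsg.Agent.Local.FS.Marks

universe u

variable {Ω : Type u} [Group Ω] {S : Subgroup Ω}

theorem fixCount_prod_copies {N : Type u} [Group N] [Finite N] (X : Type u) [MulAction N X] [Finite X] (M : ℕ)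
    (E : Subgroup N) : fixCount (Σ _ : ULift.{u} (Fin M), X) E = M * fixCount X E := by
  rw [fixCount_sigma]
  simp

theorem fixCount_quotient_self_dvd {N : Type u} [Group N] [Finite N] (H : Subgroup N) :
    fixCount (N ⧸ H) H ∣ Nat.card N :=
  (Dvd.intro _ (fixCount_quotient_self H)).trans (Subgroup.card_subgroup_dvd_card _)

variable [Finite S] (F : FusionSystem S)

/-- Stable from `n` in the strong sense: the count on a graph depends only on its order. -/
def EvenFrom (Y : Type u) [MulAction ↥(S.prod S) Y] (n : ℕ) : Prop :=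
  ∀ D D' : Subgroup (Ω × Ω), IsGraph F D → IsGraph F D' → n ≤ Nat.card D → Nat.card D = Nat.card D' →
    fixCount Y (D.subgroupOf (S.prod S)) = fixCount Y (D'.subgroupOf (S.prod S))

theorem even_step (n : ℕ) (X : Type u) [MulAction ↥(S.prod S) X] [Finite X]
    (hX : ∀ x : X, IsGraph F ((MulAction.stabilizer ↥(S.prod S) x).map (S.prod S).subtype))
    (h₀ : EvenFrom F X (n + 1)) :
    ∃ (Y : Type u) (_ : MulAction ↥(S.prod S) Y) (_ : Finite Y),
      (∀ y : Y, IsGraph F ((MulAction.stabilizer ↥(S.prod S) y).map (S.prod S).subtype)) ∧ EvenFrom F Y n ∧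
      (∀ D, IsGraph F D → Nat.card D = n → fixCount Y (D.subgroupOf (S.prod S)) ≠ 0) ∧
      ∀ D, IsGraph F D → n < Nat.card D → fixCount X (D.subgroupOf (S.prod S)) ≠ 0 →
        fixCount Y (D.subgroupOf (S.prod S)) ≠ 0 := by
  classical
  haveI : Finite ↥(S.prod S) := Finite.of_equiv _ (Subgroup.prodEquiv S S).toEquiv.symm
  let X' : Type u := Σ _ : ULift.{u} (Fin (Nat.card ↥(S.prod S))), X
  have hX' : ∀ x : X', IsGraph F ((MulAction.stabilizer ↥(S.prod S) x).map (S.prod S).subtype) := by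
    rintro ⟨i, x⟩
    rw [show MulAction.stabilizer ↥(S.prod S) (⟨i, x⟩ : X') = MulAction.stabilizer ↥(S.prod S) x by
      ext g
      rw [MulAction.mem_stabilizer_iff, MulAction.mem_stabilizer_iff, Sigma.smul_mk, Sigma.mk.inj_iff]
      exact ⟨fun h => eq_of_heq h.2, fun h => ⟨rfl, heq_of_eq h⟩⟩]
    exact hX x
  obtain ⟨Y, iY, fY, hY, hgt, heq, -⟩ := exists_add_orbits (G := ↥(S.prod S))
    (fun E => IsGraph F (E.map (S.prod S).subtype))
    (fun g E hE => by
      rw [map_subtype_conj]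
      exact isConj_prod_iff (F := F)
        (isConj_iff.2 ⟨_, map_conjBy (Subgroup.map_subtype_le E) g.2, rfl⟩) hE)
    X' hX' n (fun _ => Nat.card ↥(S.prod S) * (Nat.card X + 1)) (fun _ _ _ _ => rfl)
    (fun E _ _ => by
      rw [fixCount_prod_copies, ← Nat.mul_sub]
      exact ⟨Nat.mul_le_mul_left _ ((Finite.card_subtype_le _).trans (Nat.le_succ _)),
        Dvd.dvd.mul_right (fixCount_quotient_self_dvd E) _⟩)
    1 (fun _ _ _ => one_dvd _)
  have hat : ∀ D, IsGraph F D → Nat.card D = n →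
      fixCount Y (D.subgroupOf (S.prod S)) = Nat.card ↥(S.prod S) * (Nat.card X + 1) :=
    fun D hD hn => heq _ (by show IsGraph F _; rw [Subgroup.map_subgroupOf_eq_of_le hD.1]; exact hD)
      (by rw [card_subgroupOf_eq hD.1]; exact hn)
  have hab : ∀ D, IsGraph F D → n < Nat.card D →
      fixCount Y (D.subgroupOf (S.prod S)) = Nat.card ↥(S.prod S) * fixCount X (D.subgroupOf (S.prod S)) :=
    fun D hD hn => (hgt _ (by rw [card_subgroupOf_eq hD.1]; exact hn)).trans (fixCount_prod_copies _ _ _)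
  refine ⟨Y, iY, fY, hY, ?_, fun D hD hn => ?_, fun D hD hn hne => ?_⟩
  · intro D D' hD hD' hn hc
    rcases eq_or_lt_of_le hn with h | h
    · rw [hat D hD h.symm, hat D' hD' (hc ▸ h.symm)]
    · rw [hab D hD h, hab D' hD' (hc ▸ h), h₀ D D' hD hD' h hc]
  · rw [hat D hD hn]; exact Nat.mul_ne_zero Nat.card_pos.ne' (Nat.succ_ne_zero _)
  · rw [hab D hD hn]; exact Nat.mul_ne_zero Nat.card_pos.ne' hne

theorem even_descend (j : ℕ) : ∀ (W : Type u) [MulAction ↥(S.prod S) W] [Finite W],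
    (∀ x : W, IsGraph F ((MulAction.stabilizer ↥(S.prod S) x).map (S.prod S).subtype)) → EvenFrom F W j →
    ∀ D, IsGraph F D → j ≤ Nat.card D → fixCount W (D.subgroupOf (S.prod S)) ≠ 0 →
    ∃ (Y : Type u) (_ : MulAction ↥(S.prod S) Y) (_ : Finite Y),
      (∀ y : Y, IsGraph F ((MulAction.stabilizer ↥(S.prod S) y).map (S.prod S).subtype)) ∧ EvenFrom F Y 0 ∧
      fixCount Y (D.subgroupOf (S.prod S)) ≠ 0 := by
  induction j with
  | zero => intro W _ _ hW h0 D _ _ hne; exact ⟨W, inferInstance, inferInstance, hW, h0, hne⟩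
  | succ j ih =>
    intro W _ _ hW h0 D hD hm hne
    obtain ⟨Y, iY, fY, hY, hev, -, hpres⟩ := even_step F j W hW h0
    exact ih Y hY hev D hD (by omega) (hpres D hD (by omega) hne)

/-- Every fusion system on a finite group is realised in a finite group. -/
theorem exists_finite_realization :
    ∃ (G : Type u) (_ : Group G) (_ : Finite G) (ι : ↥S →* G), F.IsRealizedBy ι := by
  classical
  set T := S.prod S with hT
  haveI : Finite ↥T := Finite.of_equiv _ (Subgroup.prodEquiv S S).toEquiv.symm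
  letI : MulAction T PEmpty.{u + 1} :=
    { smul := fun _ x => x.elim, one_smul := fun x => x.elim, mul_smul := fun _ _ x => x.elim }
  obtain ⟨htopg, htopc⟩ := isGraph_graphTop (F := F) (α := (1 : MulAut S)) (Subgroup.one_mem _)
  obtain ⟨Y₁, iY₁, fY₁, hY₁, hev₁, hne₁, -⟩ := even_step F (Nat.card S) PEmpty.{u + 1} (fun x => x.elim)
    (fun D _ hD _ hn _ => absurd hD.card_le (by omega))
  obtain ⟨Y, iY, fY, hY, heven, hne⟩ :=
    even_descend F _ Y₁ hY₁ hev₁ _ htopg htopc.ge (hne₁ _ htopg htopc)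
  obtain ⟨y₀, hy₀⟩ := exists_le_stabilizer_of_fixCount_ne hne
  let pl : S →* T := MonoidHom.mk' (fun u => ⟨((u : Ω), 1), u.2, S.one_mem⟩)
    fun u v => Subtype.ext (Prod.ext rfl (one_mul 1).symm)
  let pr : S →* T := MonoidHom.mk' (fun t => ⟨(1, (t : Ω)), S.one_mem, t.2⟩)
    fun u v => Subtype.ext (Prod.ext (one_mul 1).symm rfl)
  have hcomm : ∀ u t : S, pl u * pr t = pr t * pl u := fun u t =>
    Subtype.ext (Prod.ext (by simp [pl, pr]) (by simp [pl, pr]))
  let G : Subgroup (Equiv.Perm Y) :=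
    Subgroup.centralizer (Set.range fun t : S => MulAction.toPermHom T Y (pr t))
  let ι : S →* G := ((MulAction.toPermHom T Y).comp pl).codRestrict G fun u => by
    rw [Subgroup.mem_centralizer_iff]
    rintro _ ⟨t, rfl⟩
    show MulAction.toPermHom T Y (pr t) * MulAction.toPermHom T Y (pl u) =
      MulAction.toPermHom T Y (pl u) * MulAction.toPermHom T Y (pr t)
    rw [← map_mul, ← map_mul, hcomm]
  have hιapp : ∀ (u : S) (y : Y), ((ι u : G) : Equiv.Perm Y) y = pl u • y := fun _ _ => rfl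
  have hGapp : ∀ (g : G) (t : S) (y : Y), (g : Equiv.Perm Y) (pr t • y) = pr t • (g : Equiv.Perm Y) y :=
    fun g t y => (Equiv.congr_fun (Subgroup.mem_centralizer_iff.1 g.2 _ ⟨t, rfl⟩) y).symm
  have hgraph : ∀ (y : Y) (a b : S), (pl a * pr b) • y = y →
      ∃ D f, Map F D f ∧ (a : Ω) ∈ D ∧ f a = b := by
    intro y a b h
    obtain ⟨-, f, hf, he⟩ := hY y
    have hm : ((a : Ω), (b : Ω)) ∈ (MulAction.stabilizer T y).map T.subtype :=
      ⟨pl a * pr b, h, by simp [pl, pr]⟩
    exact ⟨_, f, hf, mem_pr₁ hm, (he _ hm).symm⟩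
  have hιinj : Function.Injective ι := by
    rw [injective_iff_map_eq_one]
    intro u hu
    have h : (pl u * pr 1) • y₀ = y₀ := by
      rw [map_one, mul_one, ← hιapp, hu]; rfl
    obtain ⟨D, f, hf, hm, he⟩ := hgraph y₀ u 1 h
    refine Subtype.ext (hf.injOn hm D.one_mem ?_)
    rw [he]
    exact hf.map_one.symm
  refine ⟨G, inferInstance, inferInstance, ι, hιinj, fun P hP φ hφ => ⟨fun hmem => ?_, ?_⟩⟩
  · haveI := finite_of_le hP
    have hf : Map F P (fn φ) := map_of_mem hmem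
    have hPS : P.prod S ≤ T := fun x hx => ⟨hP hx.1, hx.2⟩
    haveI := finite_of_le (S := T) hPS
    have hE : IsProductSystem F (innerFusionSystem S) (prodSys F (innerFusionSystem S)) := isProd_prodSys
    let ρ₁ : ↥(P.prod S) →* T := Subgroup.inclusion hPS
    let ρ₂ : ↥(P.prod S) →* T :=
      MonoidHom.mk' (fun x => ⟨(fn φ (x : Ω × Ω).1, (x : Ω × Ω).2), hf.mem x.2.1, x.2.2⟩)
        fun x y => Subtype.ext (Prod.ext (hf.map_mul x.2.1 y.2.1) rfl)
    have hcnt : ∀ E : Subgroup ↥(P.prod S), fixCount Y (E.map ρ₁) = fixCount Y (E.map ρ₂) := by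
      intro E
      set A := E.map (P.prod S).subtype with hA
      have hAP : A ≤ P.prod S := Subgroup.map_subtype_le E
      have hg : Map (prodSys F (innerFusionSystem S)) A (fun x => (fn φ x.1, x.2)) := by
        refine (prod_map_iff hE).2 ⟨hAP.trans hPS, fn φ, id, hf.restrict ?_, map_id ?_, fun x _ => rfl⟩
        · rintro _ ⟨x, hx, rfl⟩; exact (hAP hx).1
        · rintro _ ⟨x, hx, rfl⟩; exact (hAP hx).2
      have e1 : E.map ρ₁ = A.subgroupOf T := by
        ext ⟨x, hx⟩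
        constructor
        · rintro ⟨y, hy, he⟩; exact ⟨y, hy, congrArg Subtype.val he⟩
        · rintro ⟨y, hy, he⟩; exact ⟨y, hy, Subtype.ext he⟩
      have e2 : E.map ρ₂ = (im A (fun x => (fn φ x.1, x.2))).subgroupOf T := by
        ext ⟨x, hx⟩
        constructor
        · rintro ⟨y, hy, he⟩
          rw [Subgroup.mem_subgroupOf]
          exact congrArg Subtype.val he ▸ mem_im_of_mem (f := fun x : Ω × Ω => (fn φ x.1, x.2)) ⟨y, hy, rfl⟩
        · intro hm
          obtain ⟨_, ⟨y, hy, rfl⟩, he⟩ := hg.mem_im.1 (Subgroup.mem_subgroupOf.1 hm)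
          exact ⟨y, hy, Subtype.ext he⟩
      rw [e1, e2]
      have hconj : (prodSys F (innerFusionSystem S)).IsConj A (im A fun x => (fn φ x.1, x.2)) :=
        isConj_iff.2 ⟨_, hg, rfl⟩
      by_cases hK : IsGraph F A
      · exact heven A _ hK (isConj_prod_iff hconj hK) (Nat.zero_le _) (isConj_card hconj)
      · rw [eq_zero_of_not (T := T) (K := IsGraph F) (fun h hD => hD.mono h) hY (hAP.trans hPS) hK,
          eq_zero_of_not (T := T) (K := IsGraph F) (fun h hD => hD.mono h) hY (isConj_le hconj).2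
            fun h => hK (isConj_prod_iff (isConj_symm hconj) h)]
    obtain ⟨e, he⟩ := @exists_equiv_of_fixCount ↥(P.prod S) _ _ Y Y (MulAction.compHom Y ρ₁)
      (MulAction.compHom Y ρ₂) _ _ fun E => by rw [fixCount_comp, fixCount_comp]; exact hcnt E
    have he' : ∀ (n : ↥(P.prod S)) (y : Y), e (ρ₁ n • y) = ρ₂ n • e y := he
    have heG : e ∈ G := by
      rw [Subgroup.mem_centralizer_iff]
      rintro _ ⟨t, rfl⟩
      refine Equiv.ext fun y => ?_
      show pr t • e y = e (pr t • y)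
      have h := he' ⟨(1, (t : Ω)), P.one_mem, t.2⟩ y
      rw [show ρ₁ ⟨(1, (t : Ω)), P.one_mem, t.2⟩ = pr t from rfl] at h
      rw [h]
      congr 1
      exact Subtype.ext (Prod.ext hf.map_one.symm rfl)
    refine ⟨⟨e, heG⟩, fun x => ?_⟩
    rw [eq_mul_inv_iff_mul_eq]
    refine Subtype.ext (Equiv.ext fun y => ?_)
    show pl ⟨φ x, hφ x⟩ • e y = e (pl ⟨x, hP x.2⟩ • y)
    have h := he' ⟨((x : Ω), 1), x.2, S.one_mem⟩ y
    rw [show ρ₁ ⟨((x : Ω), 1), x.2, S.one_mem⟩ = pl ⟨x, hP x.2⟩ from rfl] at h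
    rw [h]
    congr 1
    exact Subtype.ext (Prod.ext (fn_coe φ x).symm rfl)
  · rintro ⟨g, hg⟩
    obtain ⟨-, f, hf, he⟩ := hY ((g : Equiv.Perm Y) y₀)
    have hstab : ∀ x : P, (φ x, (x : Ω)) ∈
        (MulAction.stabilizer T ((g : Equiv.Perm Y) y₀)).map T.subtype := by
      intro x
      refine ⟨pl ⟨φ x, hφ x⟩ * pr ⟨x, hP x.2⟩, ?_, by simp [pl, pr]⟩
      show _ • _ = _
      rw [mul_smul, ← hGapp, ← hιapp, hg x]
      show (g : Equiv.Perm Y) (pl ⟨x, hP x.2⟩ • (g : Equiv.Perm Y).symm ((g : Equiv.Perm Y) (pr ⟨x, hP x.2⟩ • y₀))) = _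
      rw [Equiv.symm_apply_apply, ← mul_smul]
      congr 1
      exact hy₀ (show pl ⟨x, hP x.2⟩ * pr ⟨x, hP x.2⟩ ∈ (graphTop (1 : MulAut S)).subgroupOf T from
        mem_graphTop.2 ⟨⟨x, hP x.2⟩, by simp [pl, pr]⟩)
    have hle : φ.range ≤ pr₁ ((MulAction.stabilizer T ((g : Equiv.Perm Y) y₀)).map T.subtype) := by
      rintro _ ⟨x, rfl⟩
      exact mem_pr₁ (hstab x)
    have hψ := hf.restrict hle
    obtain ⟨f₁, hf₁, hi, -, -⟩ := hψ.exists_inv
    have hPim : P ≤ im φ.range f := fun x hx => by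
      have h1 : f (φ ⟨x, hx⟩) = x := (he _ (hstab ⟨x, hx⟩)).symm
      exact h1 ▸ mem_im_of_mem ⟨_, rfl⟩
    refine mem_iff_map.2 ((hf₁.restrict hPim).congr fun x hx => ?_)
    have h1 : f (φ ⟨x, hx⟩) = x := (he _ (hstab ⟨x, hx⟩)).symm
    rw [fn_apply φ hx, ← hi _ ⟨⟨x, hx⟩, rfl⟩, h1]

end Cfsg.Agent.Local.FS
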