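import Cfsg.Agent.Lib.Local.FS.ConstrainedComponent
import Cfsg.Agent.Lib.Local.FS.CentralizerSystemNormal

/-!
The centralizer of the generalized Fitting subsystem is its centre.
-/

set_option autoImplicit false

namespace Cfsg.Agent.Local.FS.FittingCent

open Cfsg Cfsg.FusionSystem Cfsg.Agent.Fusion Cfsg.Agent.Local.FS

universe u

variable {Ω : Type u} [Group Ω] {S T U : Subgroup Ω} {F : FusionSystem S} {E : FusionSystem T}
  {D : FusionSystem U} {p : ℕ} [Finite S] [Fact p.Prime]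

/-- The layer centralises the core. -/
theorem layer_cent (hS : IsPGroup p S) (hF : F.IsSaturated p) (hE : E.IsLayerOf F p) :
    T ≤ centralizerIn S F.core ∧ ∀ P f, Map E P f →
      ∃ g, Map F (P ⊔ F.core) g ∧ (∀ x ∈ P, g x = f x) ∧ ∀ r ∈ F.core, g r = r := by
  obtain ⟨C, hC, hChom⟩ := exists_coreCentralizer hS hF
  have hEC : E.IsSubsystemOf C := hE.2.2 _ C hC fun V L hL P φ hφ => by
    rw [hChom P]
    exact component_mem_centralizerHom hS hF hL hφ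
  refine ⟨le_of_sub hEC, fun P f hf => ?_⟩
  obtain ⟨φ, hφ, he⟩ := hf.of_sub hEC
  rw [hChom P] at hφ
  obtain ⟨-, -, g, hg, hφg, hgR⟩ := mem_centralizerHom.1 hφ
  exact ⟨g, hg, fun x hx => (hφg ⟨x, hx⟩).symm.trans (he ⟨x, hx⟩), hgR⟩

/-- The centre of the generalized Fitting subsystem is its centralizer. -/
theorem center_spec_fitting (hS : IsPGroup p S) (hF : F.IsSaturated p)
    (hD : D.IsGeneralizedFittingOf F p) :
    (D.center ≤ centralizerIn S U ∧ ∀ P : Subgroup Ω, D.Hom P ⊆ F.centralizerHom D.center P) ∧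
      ∀ Y : Subgroup Ω, Y ≤ centralizerIn S U →
        (∀ P : Subgroup Ω, D.Hom P ⊆ F.centralizerHom Y P) → Y ≤ D.center := by
  classical
  obtain ⟨T, E, hlayer, D₀, hprod, Z, θ, hZc, -, -, hθl, hθr, hfac⟩ := hD
  obtain ⟨hTR, hEext⟩ := layer_cent hS hF hlayer
  have hR := core_normal hS hF (F := F)
  obtain ⟨R, hRdef⟩ : ∃ R, R = F.core := ⟨_, rfl⟩
  have hTS : T ≤ S := hTR.trans inf_le_left
  have hRS : F.core ≤ S := hR.1
  haveI := finite_of_le hRS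
  haveI := finite_of_le hTS
  haveI : Finite ↥(F.core.prod T) := Finite.of_equiv _ (Subgroup.prodEquiv F.core T).symm.toEquiv
  have hcomm : ∀ r ∈ F.core, ∀ t ∈ T, r * t = t * r := fun r hr t ht =>
    (mem_centralizerIn.1 (hTR ht)).2 r hr
  have hmul : ∀ x ∈ F.core.prod T, ue θ x = x.1 * x.2 := fun x hx => by
    rw [ue_apply (i := θ) hx, show (⟨x, hx⟩ : ↥(F.core.prod T)) =
      ⟨(x.1, 1), ⟨hx.1, T.one_mem⟩⟩ * ⟨(1, x.2), ⟨F.core.one_mem, hx.2⟩⟩ from Subtype.ext (by simp),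
      _root_.map_mul]
    exact congrArg₂ (· * ·) (hθl _ _) (hθr _ _)
  have hRU : F.core ≤ U := fun r hr =>
    hfac.2.2.1 ▸ ⟨⟨(r, 1), hr, T.one_mem⟩, hθl r ⟨hr, T.one_mem⟩⟩
  have hTU : T ≤ U := fun t ht =>
    hfac.2.2.1 ▸ ⟨⟨(1, t), F.core.one_mem, ht⟩, hθr t ⟨F.core.one_mem, ht⟩⟩
  have hUS : U ≤ S := fun a ha => by
    obtain ⟨⟨x, hx⟩, rfl⟩ := hfac.2.2.1.ge ha
    rw [← ue_apply (i := θ) hx, hmul x hx]
    exact S.mul_mem (hRS hx.1) (hTS hx.2)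
  haveI := finite_of_le hUS
  have hZsc : D₀.StronglyClosed Z := stronglyClosed_iff.2 ⟨hfac.1, fun P f hP hf x hx =>
    (center_fixed D₀ (hZc (hP hx)) hf hx).symm ▸ hP hx⟩
  -- the maps of the product
  have hpair : ∀ (A : Subgroup (Ω × Ω)) (ψ : Ω × Ω → Ω × Ω), Map D₀ A ψ → A ≤ F.core.prod T ∧
      ∃ g ∈ F.core, ∃ f₂, Map E (A.map (MonoidHom.snd Ω Ω)) f₂ ∧
        ∀ x ∈ A, ψ x = (g * x.1 * g⁻¹, f₂ x.2) := by
    rintro A ψ ⟨φ, hφ, he⟩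
    obtain ⟨hA, φ₁, ⟨-, g, hg, hφ₁⟩, φ₂, hφ₂, h⟩ := (hprod A φ).1 hφ
    refine ⟨hA, g, hg, fn φ₂, map_of_mem hφ₂, fun x hx => ?_⟩
    have h₁ : x.1 ∈ A.map (MonoidHom.fst Ω Ω) := ⟨x, hx, rfl⟩
    have h₂ : x.2 ∈ A.map (MonoidHom.snd Ω Ω) := ⟨x, hx, rfl⟩
    rw [← he ⟨x, hx⟩, h ⟨x, hx⟩ h₁ h₂, hφ₁, fn_apply φ₂ h₂]
  have hDF : D.IsSubsystemOf F := by
    intro P' φ' hφ'
    obtain ⟨hP', ψ, hψ, hψf⟩ := fac_lift hfac hZsc (map_of_mem hφ')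
    obtain ⟨hA, g, hg, f₂, hf₂, hψeq⟩ := hpair _ ψ hψ
    obtain ⟨h₂, hh₂, hh₂f, hh₂R⟩ := hEext _ f₂ hf₂
    have hcon := hh₂.comp (map_conjBy (F := F) (le_refl S) (hRS hg)) fun y hy => hh₂.mem hy
    refine ((hcon.restrict fun a ha => ?_).congr fun a ha => ?_).mem_hom fun x => (fn_coe φ' x).symm
    · obtain ⟨x, hx, rfl⟩ := fac_exists_pre hfac hP' ha
      rw [hmul x (hA hx)]
      exact Subgroup.mul_mem _ (Subgroup.mem_sup_right (hA hx).1) (Subgroup.mem_sup_left ⟨x, hx, rfl⟩)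
    · obtain ⟨x, hx, rfl⟩ := fac_exists_pre hfac hP' ha
      have h2 : x.2 ∈ (preimageAlong θ P').map (MonoidHom.snd Ω Ω) := ⟨x, hx, rfl⟩
      have hm := hψeq x hx
      rw [← hψf x hx, hmul _ (hψ.mem hx), hm, hmul x (hA hx)]
      show g * h₂ (x.1 * x.2) * g⁻¹ = g * x.1 * g⁻¹ * f₂ x.2
      rw [hh₂.map_mul (Subgroup.mem_sup_right (hA hx).1) (Subgroup.mem_sup_left h2), hh₂R _ (hA hx).1,
        hh₂f _ h2]
      have hT2 : f₂ x.2 ∈ T := hf₂.mem h2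
      calc g * (x.1 * f₂ x.2) * g⁻¹ = g * x.1 * (f₂ x.2 * g⁻¹) := by group
        _ = g * x.1 * g⁻¹ * f₂ x.2 := by rw [← hcomm g⁻¹ (F.core.inv_mem hg) _ hT2, mul_assoc (g * x.1)]
  refine ⟨⟨?_, ?_⟩, fun Y hY hYext => ?_⟩
  · exact fun z hz => ⟨hUS (center_spec D hz).1, D.center_le_centralizer hz⟩
  · intro P φ hφ
    obtain ⟨hPU, hφU⟩ := D.le_of_mem hφ
    obtain ⟨g, hg, hgφ, hgZ⟩ := centExt_center (F := D) le_rfl P _ (map_of_mem hφ)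
    have hU : ∀ a ∈ U, a ∈ centralizerIn S D.center := fun a ha => mem_centralizerIn.2
      ⟨hUS ha, fun z hz => ((D.center_le_centralizer hz) a ha).symm⟩
    exact mem_centralizerHom.2 ⟨fun a ha => hU a (hPU ha), fun x => hU _ (hφU x), g, hg.of_sub hDF,
      fun x => (fn_coe φ x).symm.trans (hgφ x x.2).symm, hgZ⟩
  -- maps of the layer are maps of `D`
  have hED : ∀ P f, Map E P f → Map D P f := by
    intro P f hf
    have hP : P ≤ T := hf.le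
    obtain ⟨A, hAdef⟩ : ∃ A : Subgroup (Ω × Ω), A = (⊥ : Subgroup Ω).prod P := ⟨_, rfl⟩
    have hA : A ≤ F.core.prod T := hAdef ▸ fun x hx => ⟨(Subgroup.mem_bot.1 hx.1).symm ▸ F.core.one_mem, hP hx.2⟩
    have hAsnd : A.map (MonoidHom.snd Ω Ω) ≤ P := hAdef ▸ fun y ⟨x, hx, he⟩ => he ▸ hx.2
    obtain ⟨φ₂, hφ₂, he₂⟩ := hf.restrict hAsnd
    have hA1 : A.map (MonoidHom.fst Ω Ω) ≤ F.core := fun y ⟨x, hx, he⟩ => he ▸ (hA hx).1
    let ψ : A →* Ω × Ω := MonoidHom.mk' (fun x => ((x : Ω × Ω).1, f (x : Ω × Ω).2)) fun x y =>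
      Prod.ext rfl (hf.map_mul (hAsnd ⟨x, x.2, rfl⟩) (hAsnd ⟨y, y.2, rfl⟩))
    have hψ : ψ ∈ D₀.Hom A := (hprod A ψ).2 ⟨hA, (A.map (MonoidHom.fst Ω Ω)).subtype,
      ⟨hA1, 1, F.core.one_mem, fun x => by simp⟩, φ₂, hφ₂, fun x h₁ h₂ => Prod.ext rfl (he₂ ⟨_, h₂⟩).symm⟩
    obtain ⟨g, hg, hgψ, hgZ⟩ := centExt_center (F := D₀) hZc A _ (map_of_mem hψ)
    have hP' : P ≤ U := hP.trans hTU
    have hpre : preimageAlong θ P ≤ A ⊔ Z := fun x hx => by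
      obtain ⟨hxS, hxP⟩ := fac_mem_pre.1 hx
      have h0 : ((1, ue θ x) : Ω × Ω) ∈ A := hAdef ▸ ⟨Subgroup.mem_bot.2 rfl, hxP⟩
      have h0e : ue θ ((1, ue θ x) : Ω × Ω) = ue θ x := by rw [hmul _ (hA h0)]; exact one_mul _
      have h1 : (1, ue θ x)⁻¹ * x ∈ Z := (fac_ue_eq_one hfac (Subgroup.mul_mem _ (Subgroup.inv_mem _ (hA h0)) hxS)).1
        (by rw [ue_mul (Subgroup.inv_mem _ (hA h0)) hxS, ue_inv (hA h0), h0e, inv_mul_cancel])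
      have h2 := Subgroup.mul_mem_sup h0 h1
      rwa [mul_inv_cancel_left] at h2
    refine fac_map_of hfac hZsc hP' (hg.restrict hpre) fun x hx => ?_
    obtain ⟨hxS, hxP⟩ := fac_mem_pre.1 hx
    have h0 : ((1, ue θ x) : Ω × Ω) ∈ A := hAdef ▸ ⟨Subgroup.mem_bot.2 rfl, hxP⟩
    have h0e : ue θ ((1, ue θ x) : Ω × Ω) = ue θ x := by rw [hmul _ (hA h0)]; exact one_mul _
    rw [fac_congr hfac hZsc hg le_sup_right (hpre hx) (Subgroup.mem_sup_left h0) h0e.symm,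
      hgψ _ h0, fn_apply ψ h0, hmul _ ((D₀.le_of_mem hψ).2 ⟨_, h0⟩)]
    exact one_mul _
  have hYT : CentE E F Y := by
    refine ⟨fun y hy => mem_centralizerIn.2 ⟨(hY hy).1, fun t ht => (mem_centralizerIn.1 (hY hy)).2 t (hTU ht)⟩,
      fun P f hf => ?_⟩
    obtain ⟨φ, hφ, he⟩ := hED P f hf
    obtain ⟨-, -, g, hg, hφg, hgY⟩ := mem_centralizerHom.1 (hYext P hφ)
    exact ⟨g, hg, fun x hx => (hφg ⟨x, hx⟩).symm.trans (he ⟨x, hx⟩), hgY⟩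
  obtain ⟨K, hK, hKcent⟩ := exists_centralizer_system hS hlayer.1
  have hCS : centEOf E F ≤ S := centEOf_le.trans inf_le_left
  haveI := finite_of_le hCS
  have hKc : K.IsConstrained p := by
    by_contra hnc
    obtain ⟨V, L, hL⟩ := ConComp.exists_component (centEOf E F) K (hS.to_le hCS) hK.1.1 hnc
    have hLK := subnormal_sub hL.1
    have hVT : V ≤ T := le_of_sub (hlayer.2.1 V L ⟨hL.1.step hK, hL.2⟩)
    haveI := finite_of_le (hVT.trans hTS)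
    refine ConComp.not_le_center hL.2 (le_sSup (α := Subgroup Ω) (show L.IsCentral V from ⟨le_rfl, fun P φ hφ => ?_⟩))
    obtain ⟨-, -, g, -, hφg, hgT⟩ := mem_centralizerHom.1 (hKcent P (hLK P hφ))
    have hP := (L.le_of_mem hφ).1
    refine ⟨(P ⊔ V).subtype, (map_id (sup_le hP le_rfl)).mem_hom fun _ => rfl, fun x => ?_, fun _ => rfl⟩
    show (x : Ω) = φ x
    rw [hφg, hgT x (hVT (hP x.2))]
  have hYR : Y ≤ F.core := fun y hy => ConComp.inf_cent_le hS hK.1 hKc ⟨hYT.le_centEOf hy,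
    mem_centralizerIn.2 ⟨(hY hy).1, fun r hr => (mem_centralizerIn.1 (hY hy)).2 r (hRU hr)⟩⟩
  have hYU : Y ≤ U := hYR.trans hRU
  refine le_sSup (α := Subgroup Ω) (show D.IsCentral Y from ⟨hYU, fun P φ' hφ' => ?_⟩)
  obtain ⟨hP', ψ, hψ, hψf⟩ := fac_lift hfac hZsc (map_of_mem hφ')
  obtain ⟨hA, g, hg, f₂, hf₂, hψeq⟩ := hpair _ ψ hψ
  obtain ⟨B, hBdef⟩ : ∃ B : Subgroup (Ω × Ω), B = preimageAlong θ P ⊔ Y.prod ⊥ := ⟨_, rfl⟩
  have hY0 : Y.prod (⊥ : Subgroup Ω) ≤ F.core.prod T :=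
    fun x hx => ⟨hYR hx.1, (Subgroup.mem_bot.1 hx.2).symm ▸ T.one_mem⟩
  have hB : B ≤ F.core.prod T := hBdef ▸ sup_le hA hY0
  have hB2 : B.map (MonoidHom.snd Ω Ω) ≤ (preimageAlong θ P).map (MonoidHom.snd Ω Ω) := by
    rw [hBdef, Subgroup.map_sup]
    refine sup_le le_rfl ?_
    rintro _ ⟨x, hx, rfl⟩
    show x.2 ∈ _
    rw [Subgroup.mem_bot.1 hx.2]
    exact one_mem _
  obtain ⟨φ₂, hφ₂, he₂⟩ := hf₂.restrict hB2
  let χ : B →* Ω × Ω := MonoidHom.mk' (fun x => (g * (x : Ω × Ω).1 * g⁻¹, f₂ (x : Ω × Ω).2)) fun x y =>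
    Prod.ext (show g * ((x : Ω × Ω).1 * (y : Ω × Ω).1) * g⁻¹ =
        g * (x : Ω × Ω).1 * g⁻¹ * (g * (y : Ω × Ω).1 * g⁻¹) by group)
      (hf₂.map_mul (hB2 ⟨x, x.2, rfl⟩) (hB2 ⟨y, y.2, rfl⟩))
  have hB1 : B.map (MonoidHom.fst Ω Ω) ≤ F.core := fun y ⟨x, hx, he⟩ => he ▸ (hB hx).1
  have hχ : χ ∈ D₀.Hom B := (hprod B χ).2 ⟨hB, conjHom _ g, ⟨hB1, g, hg, fun x => rfl⟩, φ₂, hφ₂,
    fun x h₁ h₂ => Prod.ext rfl (he₂ ⟨_, h₂⟩).symm⟩
  have hpre : preimageAlong θ (P ⊔ Y) ≤ B := fun x hx => by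
    obtain ⟨hxS, hxP⟩ := fac_mem_pre.1 hx
    have hle : P ⊔ Y ≤ imageAlong θ B := by
      refine sup_le (fun a ha => ?_) fun a ha => ?_
      · obtain ⟨b, hb, rfl⟩ := fac_exists_pre hfac hP' ha
        exact ue_mem_up hB (hBdef ▸ Subgroup.mem_sup_left hb)
      · have hb : ((a, 1) : Ω × Ω) ∈ B := hBdef ▸ Subgroup.mem_sup_right ⟨ha, Subgroup.mem_bot.2 rfl⟩
        have := ue_mem_up (i := θ) hB hb
        rwa [hmul _ (hB hb), mul_one] at this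
    obtain ⟨b, hb, hbe⟩ := (mem_up (i := θ) hB).1 (hle hxP)
    have h1 : b⁻¹ * x ∈ Z := (fac_ue_eq_one hfac (Subgroup.mul_mem _ (Subgroup.inv_mem _ (hB hb)) hxS)).1
      (by rw [ue_mul (Subgroup.inv_mem _ (hB hb)) hxS, ue_inv (hB hb), hbe, inv_mul_cancel])
    have hZB : Z ≤ B := hBdef ▸ (fac_le_pre hfac).trans le_sup_left
    simpa using B.mul_mem hb (hZB h1)
  have hχm := (map_of_mem hχ).restrict hpre
  have hPY : P ⊔ Y ≤ U := sup_le hP' hYU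
  obtain ⟨ζ, hζ, hζe⟩ := fac_induced hfac hZsc hPY hχm
  have hval : ∀ x ∈ preimageAlong θ (P ⊔ Y), ue θ (fn χ (ve θ (ue θ x))) = ue θ (fn χ x) := fun x hx => by
    refine fac_congr hfac hZsc hχm (fac_le_pre hfac) ?_ hx (fac_ue_ve hfac (hPY (fac_mem_pre.1 hx).2))
    exact fac_mem_pre.2 ⟨ve_mem, (fac_ue_ve hfac (hPY (fac_mem_pre.1 hx).2)).symm ▸ (fac_mem_pre.1 hx).2⟩
  refine ⟨ζ, hζ, fun a => ?_, fun y => ?_⟩
  · rw [hζe, Subgroup.coe_inclusion]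
    dsimp only
    obtain ⟨x, hx, hxa⟩ := fac_exists_pre hfac hP' a.2
    have hxB : x ∈ B := hBdef ▸ Subgroup.mem_sup_left hx
    have hx' : x ∈ preimageAlong θ (P ⊔ Y) :=
      fac_mem_pre.2 ⟨(fac_mem_pre.1 hx).1, Subgroup.mem_sup_left (fac_mem_pre.1 hx).2⟩
    have hψx := hψf x hx
    rw [← hxa, hval x hx', fn_apply χ hxB]
    rw [hψeq x hx, hxa] at hψx
    exact hψx.trans (fn_coe φ' a)
  · rw [hζe, Subgroup.coe_inclusion]
    dsimp only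
    have hy0 : (((y : Ω), 1) : Ω × Ω) ∈ B := hBdef ▸ Subgroup.mem_sup_right ⟨y.2, Subgroup.mem_bot.2 rfl⟩
    have hye : ue θ (((y : Ω), 1) : Ω × Ω) = y := by rw [hmul _ (hB hy0)]; exact mul_one _
    have hy' : (((y : Ω), 1) : Ω × Ω) ∈ preimageAlong θ (P ⊔ Y) :=
      fac_mem_pre.2 ⟨hB hy0, hye.symm ▸ Subgroup.mem_sup_right y.2⟩
    have h1 := hval _ hy'
    rw [hye, fn_apply χ hy0] at h1
    rw [h1, hmul _ ((D₀.le_of_mem hχ).2 ⟨_, hy0⟩)]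
    show g * (y : Ω) * g⁻¹ * f₂ 1 = y
    rw [hf₂.map_one, mul_one, (mem_centralizerIn.1 (hY y.2)).2 g (hRU hg), mul_inv_cancel_right]

end Cfsg.Agent.Local.FS.FittingCent
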