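import Cfsg.Agent.Lib.Fusion.Sections
import Cfsg.Agent.Lib.Fusion.Cores
import Cfsg.Agent.Lib.Fusion.ChiefAction

/-!
Offenders on a module in characteristic two give a transvection and a section isomorphic to `S₄`.
-/

set_option autoImplicit false

namespace Cfsg.Agent.Local.FS

open Cfsg Cfsg.Agent.Fusion

section Module

variable {W : Type*} [CommGroup W]

theorem mul_self_cancel (hW : ∀ w : W, w * w = 1) (a b : W) : a * (a * b) = b := by
  rw [← mul_assoc, hW, one_mul]

/-- A fixed commutator value of an automorphism of odd order is trivial. -/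
theorem eq_one_of_odd_fixed (hW : ∀ w : W, w * w = 1) {f : MulAut W} {n : ℕ} (hn : Odd n)
    (hf : f ^ n = 1) {w : W} (h : f (w * f w) = w * f w) : w * f w = 1 := by
  set d := w * f w with hd
  have hfw : f w = w * d := (mul_self_cancel hW w (f w)).symm
  have hiter : ∀ k : ℕ, (f ^ k) w = w * d ^ k := by
    intro k
    induction k with
    | zero => simp
    | succ k ih => rw [pow_succ', MulAut.mul_apply, ih, map_mul, map_pow, h, hfw, pow_succ', mul_assoc]
  obtain ⟨m, rfl⟩ := hn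
  have h1 := hiter (2 * m + 1)
  rw [hf, MulAut.one_apply] at h1
  have h2 : d ^ (2 * m + 1) = 1 := by simpa using h1
  rw [pow_succ, pow_mul, sq, hW, one_pow, one_mul] at h2
  exact h2

/-- A unipotent automorphism fixing all fixed points of its square is trivial. -/
theorem fixed_of_sq_fixed (hW : ∀ w : W, w * w = 1) {a : MulAut W} (X : Subgroup W)
    (haX : ∀ w ∈ X, a w ∈ X) (h : ∀ w ∈ X, a (a w) = w → a w = w) :
    ∀ k : ℕ, ∀ w ∈ X, (a ^ 2 ^ k) w = w → a w = w := by
  intro k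
  induction k with
  | zero => intro w _ hw; simpa using hw
  | succ k ih =>
    intro w hw hfix
    have hb : ∀ v ∈ X, (a ^ 2 ^ k) v ∈ X := by
      have : ∀ n : ℕ, ∀ v ∈ X, (a ^ n) v ∈ X := by
        intro n
        induction n with
        | zero => intro v hv; simpa using hv
        | succ n ihn => intro v hv; rw [pow_succ', MulAut.mul_apply]; exact haX _ (ihn v hv)
      exact this _
    set b := a ^ 2 ^ k
    have hbb : b (b w) = w := by
      rw [← MulAut.mul_apply, ← pow_add, ← two_mul, ← pow_succ']; exact hfix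
    have hu : a (w * b w) = w * b w := ih _ (X.mul_mem hw (hb w hw)) (by rw [map_mul, hbb, mul_comm])
    refine h w hw ?_
    have hcomm : b (a w) = a (b w) := by
      rw [← MulAut.mul_apply, ← MulAut.mul_apply, (Commute.pow_self a _).eq]
    have hv : a (w * a w) = w * a w := by
      refine ih _ (X.mul_mem hw (haX _ hw)) ?_
      rw [map_mul, hcomm]
      rw [map_mul] at hu
      calc b w * a (b w) = b w * ((a w * a w) * a (b w)) := by rw [hW, one_mul]
        _ = b w * (a w * (a w * a (b w))) := by rw [mul_assoc]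
        _ = b w * (a w * (w * b w)) := by rw [hu]
        _ = (b w * b w) * (w * a w) := by ac_rfl
        _ = w * a w := by rw [hW, one_mul]
    rw [map_mul] at hv
    calc a (a w) = a w * (a w * a (a w)) := (mul_self_cancel hW _ _).symm
      _ = a w * (w * a w) := by rw [hv]
      _ = w := by rw [mul_comm w, mul_self_cancel hW]

variable {Y : Type*} [Group Y] (φ : Y →* MulAut W)

theorem mem_sup_zpowers {D : Subgroup Y} {x z : Y} (hD : ∀ d ∈ D, d * x = x * d)
    (hz : z ∈ D ⊔ Subgroup.zpowers x) : ∃ d ∈ D, ∃ j : ℤ, d * x ^ j = z := by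
  have hle : D ≤ Subgroup.normalizer (Subgroup.zpowers x : Set Y) := by
    refine le_trans (fun d hd => Subgroup.mem_centralizer_iff.2 fun y hy => ?_)
      (Subgroup.centralizer_le_normalizer _)
    obtain ⟨i, rfl⟩ := Subgroup.mem_zpowers_iff.1 hy
    exact (Commute.zpow_left (hD d hd).symm i).eq
  obtain ⟨d, hd, y, hy, rfl⟩ := exists_mul_of_mem_sup hle hz
  obtain ⟨i, rfl⟩ := Subgroup.mem_zpowers_iff.1 hy
  exact ⟨d, hd, i, rfl⟩

theorem mem_of_odd_zpow {D : Subgroup Y} {a : Y} (ha : ∃ t : ℕ, a ^ 2 ^ t = 1) {m : ℤ}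
    (h : a ^ (2 * m + 1) ∈ D) : a ∈ D := by
  obtain ⟨t, ht⟩ := ha
  have hcop : IsCoprime (2 * m + 1) ((2 : ℤ) ^ t) :=
    IsCoprime.pow_right (show IsCoprime (2 * m + 1) 2 from ⟨1, -m, by ring⟩)
  obtain ⟨u, v, huv⟩ := hcop
  have e : a = (a ^ (2 * m + 1)) ^ u := by
    rw [← zpow_mul]
    conv_lhs => rw [← zpow_one a, ← huv, zpow_add, mul_comm v, zpow_mul a ((2 : ℤ) ^ t),
      show ((2 : ℤ) ^ t) = ((2 ^ t : ℕ) : ℤ) by push_cast; ring, zpow_natCast, ht, one_zpow, mul_one]
    rw [mul_comm]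
  rw [e]; exact D.zpow_mem h u

/-- The points fixed by a set. -/
def fixW (B : Set Y) : Subgroup W where
  carrier := {w | ∀ b ∈ B, φ b w = w}
  one_mem' b _ := map_one (φ b)
  mul_mem' := fun {u v} hu hv b hb => by rw [map_mul, hu b hb, hv b hb]
  inv_mem' := fun {u} hu b hb => by rw [map_inv, hu b hb]

theorem mem_fixW {B : Set Y} {w : W} : w ∈ fixW φ B ↔ ∀ b ∈ B, φ b w = w := Iff.rfl

theorem fixW_anti {B C : Set Y} (h : B ⊆ C) : fixW φ C ≤ fixW φ B := fun _ hw b hb => hw b (h hb)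

/-- The subgroup of elements fixing a given point set. -/
def pointStab (X : Subgroup W) : Subgroup Y where
  carrier := {y | ∀ w ∈ X, φ y w = w}
  one_mem' w _ := by rw [map_one, MulAut.one_apply]
  mul_mem' := fun {u v} hu hv w hw => by rw [map_mul, MulAut.mul_apply, hv w hw, hu w hw]
  inv_mem' := fun {u} hu w hw => by
    conv_lhs => rw [← hu w hw]
    rw [← MulAut.mul_apply, ← map_mul, inv_mul_cancel, map_one, MulAut.one_apply]

variable [Finite W] [Finite Y]

/-- An automorphism of odd order commuting with a `2`-group is trivial if it is trivial on the fixed points. -/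
theorem eq_one_of_fixed_of_commute (hW : ∀ w : W, w * w = 1) {B : Subgroup Y} (hB : IsPGroup 2 B) {c : Y}
    (hc : Odd (orderOf c)) (hcB : ∀ b ∈ B, b * c = c * b)
    (h : ∀ w ∈ fixW φ (B : Set Y), φ c w = w) : φ c = 1 := by
  let D : Subgroup W :=
    { carrier := {d | ∃ w, w * φ c w = d}
      one_mem' := ⟨1, by simp⟩
      mul_mem' := by
        rintro _ _ ⟨u, rfl⟩ ⟨v, rfl⟩
        exact ⟨u * v, by rw [map_mul, mul_mul_mul_comm]⟩
      inv_mem' := by
        rintro _ ⟨u, rfl⟩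
        exact ⟨u⁻¹, by rw [map_inv, mul_inv]⟩ }
  have hDB : ∀ b ∈ B, ∀ d ∈ D, φ b d ∈ D := by
    rintro b hb _ ⟨w, rfl⟩
    refine ⟨φ b w, ?_⟩
    rw [map_mul, ← MulAut.mul_apply, ← MulAut.mul_apply, ← map_mul, ← map_mul, hcB b hb]
  have hDbot : D = ⊥ := by
    by_contra hne
    letI : MulAction B D :=
      { smul := fun b d => ⟨φ b d, hDB b b.2 d d.2⟩
        one_smul := fun d => Subtype.ext (by show φ (1 : Y) (d : W) = d; rw [map_one, MulAut.one_apply])
        mul_smul := fun a b d => Subtype.ext (by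
          show φ ((a : Y) * b) (d : W) = φ a (φ b d)
          rw [map_mul, MulAut.mul_apply]) }
    have h2 : 2 ∣ Nat.card D := by
      have hD2 : IsPGroup 2 D := fun d => ⟨1, Subtype.ext (by show (d : W) ^ (2 ^ 1) = 1; rw [pow_one, sq, hW])⟩
      obtain ⟨m, hm⟩ := IsPGroup.iff_card.1 hD2
      rcases m with - | m
      · exact absurd (Subgroup.card_eq_one.1 (by simpa using hm)) hne
      · exact hm ▸ dvd_pow_self 2 (Nat.succ_ne_zero m)
    have h1 : (1 : D) ∈ MulAction.fixedPoints B D := fun b => Subtype.ext (map_one (φ (b : Y)))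
    obtain ⟨⟨d, w, rfl⟩, hd, hd1⟩ := hB.exists_fixed_point_of_prime_dvd_card_of_fixed_point D h2 h1
    refine hd1 (Subtype.ext (eq_one_of_odd_fixed hW hc (f := φ c) ?_ (h _ fun b hb =>
      congrArg Subtype.val (hd ⟨b, hb⟩))).symm)
    rw [← map_pow, pow_orderOf_eq_one, map_one]
  refine MulEquiv.ext fun w => ?_
  have h1 : w * φ c w ∈ D := ⟨w, rfl⟩
  rw [hDbot, Subgroup.mem_bot] at h1
  calc φ c w = w * (w * φ c w) := (mul_self_cancel hW _ _).symm
    _ = (1 : MulAut W) w := by rw [h1, mul_one, MulAut.one_apply]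

omit [Finite Y] in
theorem exists_two_pow_index (hW : ∀ w : W, w * w = 1) (X : Subgroup W) : ∃ i, X.index = 2 ^ i := by
  have hp : IsPGroup 2 W := fun w => ⟨1, by rw [pow_one, sq, hW]⟩
  exact hp.index X

set_option maxHeartbeats 2000000 in
/-- **An offender contains a transvection.** -/
theorem exists_transvection (hW : ∀ w : W, w * w = 1) (hφ : Function.Injective φ) {K A : Subgroup Y}
    [K.Normal] (hK : ∀ a ∈ K, ∀ b ∈ K, a * b = b * a) (hKodd : Odd (Nat.card K)) (hA : IsPGroup 2 A)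
    (hAab : ∀ a ∈ A, ∀ b ∈ A, a * b = b * a) (hA1 : A ≠ ⊥)
    (hfaith : ∀ a ∈ A, (∀ k ∈ K, a * k = k * a) → a = 1)
    (hoff : (fixW φ (A : Set Y)).index ≤ Nat.card A) :
    ∃ a ∈ A, a ≠ 1 ∧ a * a = 1 ∧ (fixW φ ({a} : Set Y)).index ≤ 2 := by
  classical
  obtain ⟨B, ⟨hBA, hB1, hBoff⟩, hBmin⟩ := Set.exists_min_image
    {B : Subgroup Y | B ≤ A ∧ B ≠ ⊥ ∧ (fixW φ (B : Set Y)).index ≤ Nat.card B}
    (fun B => Nat.card B) (Set.toFinite _) ⟨A, le_rfl, hA1, hoff⟩
  have hBp : IsPGroup 2 B := hA.to_le hBA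
  by_cases hB2 : Nat.card B = 2
  · haveI : Nontrivial B := Finite.one_lt_card_iff_nontrivial.1 (hB2 ▸ one_lt_two)
    obtain ⟨⟨a, ha⟩, hne⟩ := exists_ne (1 : B)
    refine ⟨a, hBA ha, fun h => hne (Subtype.ext h), ?_, ?_⟩
    · have h1 := pow_card_eq_one' (x := (⟨a, ha⟩ : B))
      rw [hB2, sq] at h1
      exact congrArg Subtype.val h1
    · refine (Nat.le_of_dvd ?_ (Subgroup.index_dvd_of_le fun w hw b hb => ?_)).trans (hB2 ▸ hBoff)
      · exact Nat.pos_of_ne_zero Subgroup.index_ne_zero_of_finite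
      · rw [Set.mem_singleton_iff] at hb
        rw [hb]; exact hw a ha
  exfalso
  -- maximal subgroups have the same fixed points
  have hmax : ∀ M : Subgroup Y, M ≤ B → Nat.card B = 2 * Nat.card M →
      fixW φ (M : Set Y) ≤ fixW φ (B : Set Y) := by
    intro M hMB hcard
    have hM1 : M ≠ ⊥ := fun h => hB2 (by rw [hcard, h, Subgroup.card_bot])
    have hlt : Nat.card M < (fixW φ (M : Set Y)).index := by
      by_contra hle
      have := hBmin M ⟨hMB.trans hBA, hM1, not_lt.1 hle⟩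
      have h0 : 0 < Nat.card M := Nat.card_pos
      omega
    obtain ⟨i, hi⟩ := exists_two_pow_index hW (fixW φ (M : Set Y))
    obtain ⟨j, hj⟩ := IsPGroup.iff_card.1 (hBp.to_le hMB)
    have hge : (fixW φ (B : Set Y)).index ≤ (fixW φ (M : Set Y)).index := by
      refine hBoff.trans ?_
      rw [hcard, hi, hj, ← pow_succ']
      rw [hi, hj] at hlt
      exact Nat.pow_le_pow_right two_pos ((Nat.pow_lt_pow_iff_right one_lt_two).1 hlt)
    refine (Subgroup.eq_of_le_of_card_ge (fixW_anti φ hMB) ?_).ge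
    have e1 := (fixW φ (M : Set Y)).card_mul_index
    have e2 := (fixW φ (B : Set Y)).card_mul_index
    by_contra hcon
    have h0 : 0 < (fixW φ (B : Set Y)).index := Nat.pos_of_ne_zero Subgroup.index_ne_zero_of_finite
    nlinarith [not_le.1 hcon]
  -- elements of the complement centralizing a subgroup of `B`
  have hCB : ∃ k ∈ K, ¬ ∀ b ∈ B, b * k = k * b := by
    by_contra hcon
    push Not at hcon
    exact hB1 ((Subgroup.eq_bot_iff_forall _).2 fun b hb => hfaith b (hBA hb) fun k hk => hcon k hk b hb)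
  obtain ⟨B₀, ⟨hB₀B, k, hk, hkB₀, hkB⟩, hB₀max⟩ := Set.exists_max_image
    {C : Subgroup Y | C ≤ B ∧ ∃ k ∈ K, (∀ b ∈ C, b * k = k * b) ∧ ¬ ∀ b ∈ B, b * k = k * b}
    (fun C => Nat.card C) (Set.toFinite _) ⟨⊥, bot_le, by
      obtain ⟨k, hk, h⟩ := hCB
      exact ⟨k, hk, fun b hb => by rw [Subgroup.mem_bot.1 hb, one_mul, mul_one], h⟩⟩
  have hcomm : ∀ {a b : Y}, a ∈ B → b ∈ B → a * b = b * a := fun ha hb => hAab _ (hBA ha) _ (hBA hb)
  -- centralizers of `B₀` and an involution over it centralize `B`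
  have hup : ∀ a ∈ B, a ∉ B₀ → ∀ l ∈ K, (∀ b ∈ B₀, b * l = l * b) → a * l = l * a →
      ∀ b ∈ B, b * l = l * b := by
    intro a ha ha0 l hl hlB hla
    by_contra hcon
    have hle : B₀ ⊔ Subgroup.zpowers a ≤ B := sup_le hB₀B (Subgroup.zpowers_le.2 ha)
    have hgt : Nat.card B₀ < Nat.card (B₀ ⊔ Subgroup.zpowers a : Subgroup Y) :=
      Nat.lt_of_le_of_ne (Subgroup.card_le_of_le le_sup_left) fun h => ha0 ((Subgroup.eq_of_le_of_card_ge
        le_sup_left h.ge).ge (Subgroup.mem_sup_right (Subgroup.mem_zpowers a)))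
    refine absurd (hB₀max _ ⟨hle, l, hl, ?_, hcon⟩) (not_le.2 hgt)
    have : B₀ ⊔ Subgroup.zpowers a ≤ Subgroup.centralizer {l} :=
      sup_le (fun b hb => Subgroup.mem_centralizer_singleton_iff.2 (hlB b hb))
        (Subgroup.zpowers_le.2 (Subgroup.mem_centralizer_singleton_iff.2 hla))
    exact fun b hb => Subgroup.mem_centralizer_singleton_iff.1 (this hb)
  have hconjK : ∀ a : Y, ∀ l ∈ K, a * l * a⁻¹ ∈ K := fun a l hl => (inferInstance : K.Normal).conj_mem l hl a
  have hconjB : ∀ a ∈ B, ∀ b ∈ B₀, b * (a * k * a⁻¹) = (a * k * a⁻¹) * b := fun a ha b hb => by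
    calc b * (a * k * a⁻¹) = (b * a) * k * a⁻¹ := by group
      _ = (a * b) * k * a⁻¹ := by rw [hcomm ha (hB₀B hb)]
      _ = a * (b * k) * a⁻¹ := by group
      _ = a * (k * b) * a⁻¹ := by rw [hkB₀ b hb]
      _ = a * k * (b * a⁻¹) := by group
      _ = a * k * (a⁻¹ * b) := by rw [hcomm (hB₀B hb) (inv_mem ha)]
      _ = _ := by group
  -- two involutions over `B₀` agree
  have hinv : ∀ a ∈ B, ∀ b ∈ B, a ∉ B₀ → b ∉ B₀ → a * a ∈ B₀ → b * b ∈ B₀ → a * b ∈ B₀ := by
    intro a ha b hb ha0 hb0 ha2 hb2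
    by_contra hab
    have hkey : ∀ x ∈ B, x ∉ B₀ → x * x ∈ B₀ → ∀ c ∈ B, c * (k * (x * k * x⁻¹)) = k * (x * k * x⁻¹) * c := by
      intro x hx hx0 hx2
      refine hup x hx hx0 _ (K.mul_mem hk (hconjK x k hk)) (fun c hc => ?_) ?_
      · rw [← mul_assoc, hkB₀ c hc, mul_assoc, hconjB x hx c hc, ← mul_assoc]
      · have h1 : x * x * k = k * (x * x) := hkB₀ _ hx2
        calc x * (k * (x * k * x⁻¹)) = (x * k * x⁻¹) * ((x * x * k) * x⁻¹) := by group
          _ = (x * k * x⁻¹) * (k * (x * x) * x⁻¹) := by rw [h1]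
          _ = ((x * k * x⁻¹) * k) * x := by group
          _ = _ := by rw [hK _ (hconjK x k hk) _ hk]
    have hab2 : a * b * (a * b) ∈ B₀ := by
      rw [show a * b * (a * b) = a * (b * a) * b by group, hcomm hb ha,
        show a * (a * b) * b = (a * a) * (b * b) by group]
      exact mul_mem ha2 hb2
    set ka := k * (a * k * a⁻¹) with hka
    set kb := k * (b * k * b⁻¹) with hkb
    set kab := k * ((a * b) * k * (a * b)⁻¹) with hkab
    have e : k * k = kab * ka * kb⁻¹ := by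
      have h1 : a * kb * a⁻¹ = kb := by rw [hkey b hb hb0 hb2 a ha, ← hkb, mul_inv_cancel_right]
      have h2 : (a * b) * k * (a * b)⁻¹ = (a * k * a⁻¹)⁻¹ * kb := by
        conv_rhs => rw [← h1, hkb]
        group
      have h3 : kab * ka = k * k * kb := by
        rw [hkab, h2, hka]
        calc k * ((a * k * a⁻¹)⁻¹ * kb) * (k * (a * k * a⁻¹))
            = k * ((a * k * a⁻¹)⁻¹ * kb) * ((a * k * a⁻¹) * k) := by rw [hK k hk _ (hconjK a k hk)]
          _ = k * ((a * k * a⁻¹)⁻¹ * (kb * (a * k * a⁻¹))) * k := by group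
          _ = k * ((a * k * a⁻¹)⁻¹ * ((a * k * a⁻¹) * kb)) * k := by
              rw [hK kb (K.mul_mem hk (hconjK b k hk)) _ (hconjK a k hk)]
          _ = k * (kb * k) := by group
          _ = k * (k * kb) := by rw [hK kb (K.mul_mem hk (hconjK b k hk)) _ hk]
          _ = k * k * kb := by group
      rw [h3]; group
    refine hkB fun c hc => ?_
    have h2 : Commute c (k * k) := by
      rw [e]
      exact (Commute.mul_right (Commute.mul_right (hkey _ (mul_mem ha hb) hab hab2 c hc)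
        (hkey a ha ha0 ha2 c hc)) (Commute.inv_right (hkey b hb hb0 hb2 c hc)))
    obtain ⟨m, hm⟩ := hKodd
    have hk1 : (k * k) ^ (m + 1) = k := by
      rw [← sq, ← pow_mul, show 2 * (m + 1) = (2 * m + 1) + 1 by ring, ← hm, pow_succ]
      have := congrArg Subtype.val (pow_card_eq_one' (x := (⟨k, hk⟩ : K)))
      rw [SubmonoidClass.coe_pow, OneMemClass.coe_one] at this
      rw [this, one_mul]
    exact hk1 ▸ (h2.pow_right _).eq
  -- `B` is cyclic over `B₀`
  obtain ⟨a, haB, hamax⟩ := Set.exists_max_image (B : Set Y)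
    (fun a => Nat.card (B₀ ⊔ Subgroup.zpowers a : Subgroup Y)) (Set.toFinite _) ⟨1, B.one_mem⟩
  have hord : ∀ b ∈ B, ∃ t : ℕ, b ^ 2 ^ t = 1 := fun b hb =>
    (hBp ⟨b, hb⟩).imp fun t ht => congrArg Subtype.val ht
  have hsup : ∀ {z w : Y}, z ∈ B → w ∈ B₀ ⊔ Subgroup.zpowers z → ∃ d ∈ B₀, ∃ j : ℤ, d * z ^ j = w :=
    fun hz hw => mem_sup_zpowers (fun d hd => hcomm (hB₀B hd) hz) hw
  have hpow : ∀ {Z : Subgroup Y} {b : Y}, b ∈ B → b ∉ Z →
      ∃ t : ℕ, b ^ 2 ^ t ∉ Z ∧ b ^ 2 ^ t * b ^ 2 ^ t ∈ Z := by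
    intro Z b hb hbZ
    have hex : ∃ t : ℕ, b ^ 2 ^ t ∈ Z := (hord b hb).imp fun t ht => by rw [ht]; exact one_mem _
    obtain ⟨t, ht⟩ : ∃ t, Nat.find hex = t + 1 :=
      Nat.exists_eq_succ_of_ne_zero fun h => hbZ (by
        have h1 := Nat.find_spec hex
        rw [h] at h1
        simpa using h1)
    refine ⟨t, Nat.find_min hex (by omega), ?_⟩
    rw [← pow_add, ← two_mul, ← pow_succ', ← ht]
    exact Nat.find_spec hex
  set D := B₀ ⊔ Subgroup.zpowers a with hD
  have hBeq : B ≤ D := by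
    intro b hb
    by_contra hbD
    obtain ⟨t, hx, hx2⟩ := hpow hb hbD
    set x := b ^ 2 ^ t
    have hxB : x ∈ B := pow_mem hb _
    have haD : a ∈ D := Subgroup.mem_sup_right (Subgroup.mem_zpowers a)
    have haB0 : a ∉ B₀ := by
      intro ha0
      have hD0 : D = B₀ := sup_eq_left.2 (Subgroup.zpowers_le.2 ha0)
      refine hx ?_
      rw [hD0]
      exact (Subgroup.eq_of_le_of_card_ge le_sup_left (hD0 ▸ hamax x hxB)).ge
        (Subgroup.mem_sup_right (Subgroup.mem_zpowers x))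
    obtain ⟨c, hc, j, hcy⟩ := hsup haB hx2
    rcases Int.even_or_odd' j with ⟨m, rfl | rfl⟩
    · set x' := x * a ^ (-m)
      have hx'B : x' ∈ B := mul_mem hxB (zpow_mem haB _)
      have hx'D : x' ∉ D := fun h => hx (by
        have := mul_mem h (zpow_mem haD m)
        rwa [mul_assoc, ← zpow_add, neg_add_cancel, zpow_zero, mul_one] at this)
      have hx'2 : x' * x' ∈ B₀ := by
        have e1 : x' * x' = x * x * (a ^ (-m) * a ^ (-m)) := by
          show x * a ^ (-m) * (x * a ^ (-m)) = _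
          exact Commute.mul_mul_mul_comm (hcomm (zpow_mem haB _) hxB) x _
        rw [e1, ← hcy, ← zpow_add, mul_assoc, ← zpow_add, show 2 * m + (-m + -m) = 0 by ring, zpow_zero, mul_one]
        exact hc
      obtain ⟨i, hi, hi2⟩ := hpow haB haB0
      refine hx'D ?_
      have h1 := hinv x' hx'B _ (pow_mem haB _) (fun h => hx'D (Subgroup.mem_sup_left h)) hi hx'2 hi2
      have h2 := D.mul_mem (Subgroup.mem_sup_left h1) (D.inv_mem (D.pow_mem haD (2 ^ i)))
      rwa [mul_inv_cancel_right] at h2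
    · set D' := B₀ ⊔ Subgroup.zpowers x
      have hxD' : x ∈ D' := Subgroup.mem_sup_right (Subgroup.mem_zpowers x)
      have haD' : a ∈ D' := by
        refine mem_of_odd_zpow (hord a haB) (m := m) ?_
        have := D'.mul_mem (D'.inv_mem (Subgroup.mem_sup_left hc : c ∈ D')) (D'.mul_mem hxD' hxD')
        rwa [← hcy, inv_mul_cancel_left] at this
      have hle : D ≤ D' := sup_le le_sup_left (Subgroup.zpowers_le.2 haD')
      exact hx ((Subgroup.eq_of_le_of_card_ge hle (hamax x hxB)).ge hxD')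
  have hgen : ∀ {Z : Subgroup Y}, B₀ ≤ Z → a ∈ Z → B ≤ Z := fun h1 h2 =>
    hBeq.trans (sup_le h1 (Subgroup.zpowers_le.2 h2))
  have haB0 : a ∉ B₀ := fun ha0 => hkB fun b hb => hkB₀ b (hgen le_rfl ha0 hb)
  set M := B₀ ⊔ Subgroup.zpowers (a * a) with hM
  have haa : a * a ∈ B := mul_mem haB haB
  have hMB : M ≤ B := sup_le hB₀B (Subgroup.zpowers_le.2 haa)
  have haM : a ∉ M := fun h => by
    obtain ⟨c, hc, j, hcy⟩ := hsup haa h
    refine haB0 (mem_of_odd_zpow (hord a haB) (m := -j) ?_)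
    have e : a ^ (2 * -j + 1) = c := by
      have h1 : c = a * ((a * a) ^ j)⁻¹ := eq_mul_inv_of_mul_eq hcy
      rw [h1, ← zpow_two, ← zpow_mul, ← zpow_neg, show 2 * -j + 1 = 1 + -(2 * j) by ring, zpow_add, zpow_one]
    rw [e]; exact hc
  have hcardM : Nat.card B = 2 * Nat.card M := by
    have hne : Nat.card M ≠ Nat.card B := fun h => haM
      ((Subgroup.eq_of_le_of_card_ge hMB h.ge).ge haB)
    obtain ⟨q, hq⟩ := Subgroup.card_dvd_of_le hMB
    have hsub : (B : Set Y) ⊆ (M : Set Y) ∪ (fun m => m * a) '' (M : Set Y) := by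
      intro b hb
      obtain ⟨c, hc, j, rfl⟩ := hsup haB (hBeq hb)
      have hcM : c ∈ M := Subgroup.mem_sup_left hc
      have hsq : ∀ i : ℤ, a ^ (2 * i) ∈ M := fun i => by
        rw [zpow_mul, zpow_two]; exact Subgroup.mem_sup_right (Subgroup.zpow_mem_zpowers _ i)
      rcases Int.even_or_odd' j with ⟨i, rfl | rfl⟩
      · exact Or.inl (M.mul_mem hcM (hsq i))
      · exact Or.inr ⟨_, M.mul_mem hcM (hsq i), by
          show c * a ^ (2 * i) * a = _
          rw [zpow_add, zpow_one, mul_assoc]⟩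
    have h1 : (B : Set Y).ncard ≤ (M : Set Y).ncard + (M : Set Y).ncard :=
      (Set.ncard_le_ncard hsub).trans ((Set.ncard_union_le _ _).trans
        (Nat.add_le_add_left (Set.ncard_image_le (Set.toFinite _)) _))
    rw [← Nat.card_coe_set_eq, ← Nat.card_coe_set_eq] at h1
    simp only [SetLike.coe_sort_coe] at h1
    have h0 : 0 < Nat.card M := Nat.card_pos
    have h2 : 0 < Nat.card B := Nat.card_pos
    rcases q with - | _ | _ | q
    · omega
    · omega
    · omega
    · rw [hq] at h1; nlinarith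
  -- `a` is trivial on the fixed points of `B₀`
  set X := fixW φ (B₀ : Set Y)
  have hmove : ∀ y : Y, (∀ d ∈ B₀, d * y = y * d) → ∀ w ∈ X, φ y w ∈ X := fun y hy w hw d hd => by
    rw [← MulAut.mul_apply, ← map_mul, hy d hd, map_mul, MulAut.mul_apply, hw d hd]
  have haX : ∀ w ∈ X, φ a w = w := by
    obtain ⟨t, ht⟩ := hord a haB
    refine fun w hw => fixed_of_sq_fixed hW X (hmove a fun d hd => hcomm (hB₀B hd) haB) (fun v hv hv2 => ?_)
      t w hw (by rw [← map_pow, ht, map_one, MulAut.one_apply])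
    refine hmax M hMB hcardM (fun b hb => ?_) a haB
    exact (sup_le (fun d hd u hu => by obtain ⟨i, rfl⟩ := Subgroup.mem_zpowers_iff.1 hu; rw [map_zpow, hv d hd])
      (Subgroup.zpowers_le.2 fun u hu => by
        obtain ⟨i, rfl⟩ := Subgroup.mem_zpowers_iff.1 hu
        rw [map_zpow, map_mul, MulAut.mul_apply, hv2]) : M ≤ pointStab φ (Subgroup.zpowers v))
      hb v (Subgroup.mem_zpowers v)
  -- so the commutator centralizes everything
  set c := a * k * a⁻¹ * k⁻¹ with hc
  have hcB₀ : ∀ d ∈ B₀, d * c = c * d := fun d hd =>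
    (Commute.mul_right (hconjB a haB d hd) (Commute.inv_right (hkB₀ d hd))).eq
  have hck : c ∈ K := K.mul_mem (hconjK a k hk) (K.inv_mem hk)
  have hcodd : Odd (orderOf c) :=
    hKodd.of_dvd_nat (Subgroup.orderOf_dvd_natCard K hck)
  have hcX : ∀ w ∈ X, φ c w = w := fun w hw => by
    have hki : φ k⁻¹ w ∈ X := hmove k⁻¹ (fun d hd => (Commute.inv_right (hkB₀ d hd)).eq) w hw
    have e1 : φ a⁻¹ (φ k⁻¹ w) = φ k⁻¹ w := by
      conv_lhs => rw [← haX _ hki]
      rw [← MulAut.mul_apply, ← map_mul, inv_mul_cancel, map_one, MulAut.one_apply]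
    rw [hc, map_mul, map_mul, map_mul, MulAut.mul_apply, MulAut.mul_apply, MulAut.mul_apply, e1,
      show φ k (φ k⁻¹ w) = w by rw [← MulAut.mul_apply, ← map_mul, mul_inv_cancel, map_one, MulAut.one_apply],
      haX w hw]
  have hc1 : c = 1 := hφ ((eq_one_of_fixed_of_commute φ hW (hBp.to_le hB₀B) hcodd hcB₀ hcX).trans
    (map_one φ).symm)
  refine hkB fun b hb => Subgroup.mem_centralizer_singleton_iff.1 (hgen
    (fun d hd => Subgroup.mem_centralizer_singleton_iff.2 (hkB₀ d hd))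
    (Subgroup.mem_centralizer_singleton_iff.2 ?_) hb)
  rw [hc, mul_inv_eq_one, mul_inv_eq_iff_eq_mul] at hc1
  exact hc1

end Module

end Cfsg.Agent.Local.FS
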