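import Cfsg.Agent.Lib.Local.FS.FreeConstrained

/-!
Section-free systems are solvable.
-/

set_option autoImplicit false

namespace Cfsg.Agent.Local.FS

open Cfsg Cfsg.FusionSystem Cfsg.Agent.Fusion
open scoped commutatorElement

universe u

variable {Ω : Type u} [Group Ω] {S : Subgroup Ω} {F : FusionSystem S} {p : ℕ} [Fact p.Prime]

/-- A `Qd(p)`-free saturated system has a chain of strongly closed subgroups with abelian quotients. -/
theorem hasChain_of_qd_free [Finite S] (hp : p ≠ 2) (hS : IsPGroup p S) (hF : F.IsSaturated p)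
    (hfree : F.IsSectionFree p ↥(qd p)) : HasChain F ⊥ := by
  suffices ∀ (k : ℕ) (Ω : Type u) [Group Ω] (S : Subgroup Ω) [Finite S] (F : FusionSystem S),
      Nat.card S = k → IsPGroup p S → F.IsSaturated p → F.IsSectionFree p ↥(qd p) → HasChain F ⊥ from
    this _ Ω S F rfl hS hF hfree
  intro k
  induction k using Nat.strong_induction_on with
  | _ k ih =>
  intro Ω _ S _ F hk hS hF hfree
  by_cases hS1 : S = ⊥
  · exact ⟨0, fun _ => ⊥, rfl, hS1.symm, monotone_const, fun _ => stronglyClosed_bot,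
      fun i hi => absurd hi (Nat.not_lt_zero i)⟩
  obtain ⟨-, Q, hQn, hQc⟩ := constrained_of_qd_free hp hS hF hfree
  have hQ1 : Q ≠ ⊥ := fun h0 => by
    subst h0
    exact hS1 (le_bot_iff.1 fun x hx => centric_inv_mem hQc hx fun y hy => by
      rw [Subgroup.mem_bot.1 hy]; simp)
  set Z := (Subgroup.center Q).map Q.subtype with hZdef
  have hZQ : Z ≤ Q := Subgroup.map_subtype_le _
  have hZn : F.IsNormal Z := by
    refine normal_of_characteristic hQn hZQ ?_
    have he : Z.subgroupOf Q = Subgroup.center Q :=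
      Subgroup.comap_map_eq_self_of_injective Q.subtype_injective _
    rw [he]; infer_instance
  haveI : Finite Q := finite_of_le hQn.1
  haveI : Finite Z := finite_of_le hZn.1
  have hZne : Z ≠ ⊥ := by
    haveI : Nontrivial Q := (Subgroup.nontrivial_iff_ne_bot Q).2 hQ1
    have := IsPGroup.center_nontrivial (hS.to_le hQn.1)
    intro hb
    exact ((Subgroup.nontrivial_iff_ne_bot _).1 this)
      ((Subgroup.map_eq_bot_iff_of_injective _ Q.subtype_injective).1 hb)
  have hZab : ∀ a ∈ Z, ∀ b ∈ Z, a * b = b * a := by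
    rintro _ ⟨a, ha, rfl⟩ _ ⟨b, -, rfl⟩
    exact congrArg Q.subtype (Subgroup.mem_center_iff.1 ha b).symm
  have hT := normal_stronglyClosed hZn
  haveI hnor : (Z.subgroupOf S).Normal := by
    rw [Subgroup.normal_subgroupOf_iff_le_normalizer hZn.1]
    exact stronglyClosed_le_normalizer hT
  have hker : ∀ s : S, QuotientGroup.mk' (Z.subgroupOf S) s = 1 ↔ (s : Ω) ∈ Z := fun s =>
    (QuotientGroup.eq_one_iff s).trans Subgroup.mem_subgroupOf
  have hsurj := QuotientGroup.mk'_surjective (Z.subgroupOf S)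
  have hE : F.IsFactorSystem Z (QuotientGroup.mk' (Z.subgroupOf S)) (factorSys hT _ hker hsurj) :=
    ⟨hT.1, hker, MonoidHom.range_eq_top.2 hsurj, fun P' φ' => fmap_iff.trans (and_iff_right le_top).symm⟩
  haveI := fac_finite hE
  set θ := QuotientGroup.mk' (Z.subgroupOf S)
  obtain ⟨n, C, hC0, hCn, hmono, hsc, hab⟩ := ih _ (by
    rw [← hk]
    have hc := fac_card hE (le_refl _)
    rw [fac_pre_top hE] at hc
    rw [hc]
    exact lt_mul_of_one_lt_left Nat.card_pos ((Subgroup.one_lt_card_iff_ne_bot _).2 hZne))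
    (S ⧸ Z.subgroupOf S) _ _ rfl (fac_isPGroup hE hS) (fac_saturated hS hF hT hE)
    (fac_sectionFree hS hF hZn hE hfree)
  have h0 : preimageAlong θ (C 0) = Z := le_antisymm (fun x hx => by
      obtain ⟨hxS, hx'⟩ := fac_mem_pre.1 hx
      rw [hC0, Subgroup.mem_bot] at hx'
      exact (fac_ue_eq_one hE hxS).1 hx') (fac_le_pre hE)
  refine ⟨n + 1, fun i => if i = 0 then ⊥ else preimageAlong θ (C (i - 1)), if_pos rfl, by
    simp [hCn]; exact fac_pre_top hE, monotone_nat_of_le_succ fun i => ?_, fun i => ?_, fun i hi => ?_⟩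
  · cases i with
    | zero => simp
    | succ j => simpa using (fac_pre_le_iff hE (hsc j).1).2 (hmono (Nat.le_succ j))
  · cases i with
    | zero => simpa using stronglyClosed_bot
    | succ j => simpa using fac_stronglyClosed_pre hS hF hT hE (hsc j)
  · cases i with
    | zero =>
      simp only [↓reduceIte, Nat.succ_ne_self, Nat.add_sub_cancel, h0]
      refine Subgroup.commutator_le.2 fun a ha b hb => Subgroup.mem_bot.2 ?_
      exact commutatorElement_eq_one_iff_mul_comm.2 (hZab a ha b hb)
    | succ j =>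
      simp only [Nat.add_eq_zero_iff, one_ne_zero, and_false, ↓reduceIte, Nat.add_sub_cancel]
      refine Subgroup.commutator_le.2 fun a ha b hb => ?_
      obtain ⟨haS, ha'⟩ := fac_mem_pre.1 ha
      obtain ⟨hbS, hb'⟩ := fac_mem_pre.1 hb
      rw [commutatorElement_def]
      refine fac_mem_pre.2 ⟨S.mul_mem (S.mul_mem (S.mul_mem haS hbS) (S.inv_mem haS)) (S.inv_mem hbS), ?_⟩
      rw [ue_mul (S.mul_mem (S.mul_mem haS hbS) (S.inv_mem haS)) (S.inv_mem hbS),
        ue_mul (S.mul_mem haS hbS) (S.inv_mem haS), ue_mul haS hbS, ue_inv haS, ue_inv hbS]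
      have h1 := hab j (by omega) (Subgroup.commutator_mem_commutator ha' hb')
      rwa [commutatorElement_def] at h1

/-- A `Qd(p)`-free saturated system is solvable. -/
theorem solvable_of_qd_free [Finite S] (hp : p ≠ 2) (hS : IsPGroup p S) (hF : F.IsSaturated p)
    (hfree : F.IsSectionFree p ↥(qd p)) : F.IsSolvableSystem :=
  solvable_of_hasChain hS hF (hasChain_of_qd_free hp hS hF hfree)

end Cfsg.Agent.Local.FS
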