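import Cfsg.Agent.Lib.Local.FS.GenExtraspecialGroup
import Cfsg.Agent.Lib.Local.FS.Constrained

/-!
Strongly closed generalized extraspecial subgroups are normal.
-/

set_option autoImplicit false

universe u

namespace Cfsg.Agent.Local.FS

open Cfsg Cfsg.FusionSystem Cfsg.Agent.Fusion
open scoped commutatorElement

variable {Ω : Type u} [Group Ω] {S P : Subgroup Ω} [Finite S] {F : FusionSystem S} {p : ℕ} [Fact p.Prime]

set_option maxHeartbeats 1000000 in
/-- A strongly closed generalized extraspecial subgroup which is not one of the exceptions is normal. -/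
theorem normal_of_gen_extraspecial (hS : IsPGroup p S) (hF : F.IsSaturated p) (hP : F.StronglyClosed P)
    (hge : frattini ↥P = commutator ↥P ∧ Nat.card ↥(commutator ↥P) = p)
    (h2 : p = 2 → ¬ ∃ (A : Type) (_ : CommGroup A), (∀ a : A, a ^ 2 = 1) ∧ Nonempty (↥P ≃* DihedralGroup 4 × A))
    (hodd : p ≠ 2 → ¬ ∃ (E : Type) (_ : Group E) (A : Type) (_ : CommGroup A), IsExtraspecial p E ∧
      Nat.card E = p ^ 3 ∧ Monoid.exponent E = p ∧ (∀ a : A, a ^ p = 1) ∧ Nonempty (↥P ≃* E × A)) :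
    F.IsNormal P := by
  classical
  obtain ⟨hfc, hcard⟩ := hge
  haveI := finite_of_le hP.1
  have hPS := hP.1
  have hPp : IsPGroup p P := hS.to_le hPS
  set Z₀ := commutator ↥P with hZ₀
  set Z := Z₀.map P.subtype with hZdef
  have hZP : Z ≤ P := Subgroup.map_subtype_le _
  haveI := finite_of_le (hZP.trans hPS)
  have hZcard : Nat.card Z = p := by rw [hZdef, Subgroup.card_map_of_injective P.subtype_injective, hcard]
  have hcomm : ∀ a b : P, ⁅a, b⁆ ∈ Z₀ := fun a b =>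
    Subgroup.commutator_mem_commutator (Subgroup.mem_top a) (Subgroup.mem_top b)
  have hpow : ∀ a : P, a ^ p ∈ Z₀ := fun a => hfc ▸ Solv.pow_mem_frattini hPp a
  obtain ⟨z, hz, hz1⟩ : ∃ z ∈ Z, z ≠ 1 := by
    refine (Subgroup.bot_or_exists_ne_one Z).resolve_left fun h => ?_
    rw [h, Subgroup.card_bot] at hZcard
    exact (Fact.out : p.Prime).ne_one hZcard.symm
  have hzp : z ^ p = 1 := by
    have := pow_card_eq_one' (x := (⟨z, hz⟩ : Z))
    rw [hZcard] at this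
    exact congrArg Subtype.val this
  have hzo : orderOf z = p := orderOf_eq_prime hzp hz1
  have hZz : Z = Subgroup.zpowers z := (Subgroup.eq_of_le_of_card_ge (Subgroup.zpowers_le.2 hz) (by
    rw [Nat.card_zpowers, hzo, hZcard])).symm
  have hgen : ∀ w ∈ Z, w ≠ 1 → Subgroup.zpowers w = Z := fun w hw hw1 =>
    Subgroup.eq_of_le_of_card_ge (Subgroup.zpowers_le.2 hw) (by
      have h0 := pow_card_eq_one' (x := (⟨w, hw⟩ : Z))
      rw [hZcard] at h0
      rw [hZcard, Nat.card_zpowers, orderOf_eq_prime (congrArg Subtype.val h0) hw1])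
  -- the derived subgroup is central in `S`
  have hPn : ∀ s ∈ S, ∀ x ∈ P, s * x * s⁻¹ ∈ P := fun s hs x hx => stronglyClosed_conj_mem hP hs hx
  have hZn : ∀ s ∈ S, ∀ w ∈ Z, s * w * s⁻¹ ∈ Z := by
    intro s hs w hw
    let σ : P →* P := MonoidHom.mk' (fun x => ⟨s * x * s⁻¹, hPn s hs x x.2⟩) fun a b => Subtype.ext (by
      show s * (a * b : Ω) * s⁻¹ = s * a * s⁻¹ * (s * b * s⁻¹)
      group)
    obtain ⟨w', hw', rfl⟩ := hw
    have h1 : σ w' ∈ Z₀ := by
      have : Z₀.map σ ≤ Z₀ := by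
        rw [hZ₀, commutator_def, Subgroup.map_commutator]
        exact Subgroup.commutator_mono le_top le_top
      exact this ⟨w', hw', rfl⟩
    exact ⟨σ w', h1, rfl⟩
  have hzSc : ∀ s ∈ S, s * z = z * s := by
    intro s hs
    haveI : Group.IsNilpotent S := hS.isNilpotent
    haveI : (Z.subgroupOf S).Normal := ⟨fun w hw g => hZn g g.2 w hw⟩
    have hZS : Z ≤ S := hZP.trans hPS
    obtain ⟨w, hwZ, hw1, hwc⟩ := exists_fixed_mod (N := (⊥ : Subgroup S)) (C := Z.subgroupOf S) (Q := ⊤)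
      (by rw [Subgroup.normalizer_eq_top]) (fun h => by
        have := h (x := ⟨z, hZS hz⟩) (Subgroup.mem_subgroupOf.2 hz)
        rw [Subgroup.mem_bot] at this
        exact hz1 (congrArg Subtype.val this))
    have hw1' : (w : Ω) ≠ 1 := fun h => hw1 (Subgroup.mem_bot.2 (Subtype.ext h))
    obtain ⟨i, hi⟩ := Subgroup.mem_zpowers_iff.1 ((hgen (w : Ω) hwZ hw1').ge hz)
    rw [← hi]
    exact ((show Commute s (w : Ω) from (congrArg Subtype.val (commutatorElement_eq_one_iff_mul_comm.1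
      (Subgroup.mem_bot.1 (hwc ⟨s, hs⟩ trivial)))).symm).zpow_right i).eq
  have hZc : ∀ w ∈ Z, ∀ s ∈ S, s * w = w * s := by
    intro w hw s hs
    obtain ⟨i, rfl⟩ := Subgroup.mem_zpowers_iff.1 (hZz ▸ hw : w ∈ Subgroup.zpowers z)
    exact ((show Commute s z from hzSc s hs).zpow_right i).eq
  have hcommΩ : ∀ a ∈ P, ∀ b ∈ P, ⁅a, b⁆ ∈ Z := fun a ha b hb =>
    ⟨⁅⟨a, ha⟩, ⟨b, hb⟩⁆, hcomm _ _, map_commutatorElement P.subtype _ _⟩
  have hpowΩ : ∀ a ∈ P, a ^ p ∈ Z := fun a ha => ⟨⟨a, ha⟩ ^ p, hpow _, rfl⟩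
  have hbot : F.StronglyClosed ⊥ := stronglyClosed_iff.2 ⟨bot_le, fun R f hR hf x hx => by
    rw [Subgroup.mem_bot.1 (hR hx), hf.map_one]; exact one_mem _⟩
  -- it is enough that the derived subgroup is strongly closed
  suffices hZsc : F.StronglyClosed Z by
    refine normal_of_series hS hF (fun i => if i = 0 then ⊥ else if i = 1 then Z else P) 2 rfl rfl
      (monotone_nat_of_le_succ fun i => ?_) hP (fun i hi => ?_) fun i hi => ?_
    · rcases i with _ | _ | i <;> simp [hZP]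
    · interval_cases i
      · simpa using hZsc
      · simpa using hP
    · interval_cases i
      · simp only [zero_add, one_ne_zero, if_true, if_false]
        refine Subgroup.commutator_le.2 fun a ha w hw => Subgroup.mem_bot.2 ?_
        exact commutatorElement_eq_one_iff_mul_comm.2 (hZc w hw a (hPS ha))
      · simp only [show (1 + 1 : ℕ) ≠ 0 by omega, show (1 + 1 : ℕ) ≠ 1 by omega, one_ne_zero, if_true, if_false]
        exact Subgroup.commutator_le.2 hcommΩ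
  by_contra hcon
  obtain ⟨e, heP, heZ, hep, f, hf, hfe⟩ : ∃ e, e ∈ P ∧ e ∉ Z ∧ e ^ p = 1 ∧
      ∃ f, Map F (Subgroup.zpowers e) f ∧ f e = z := by
    simp only [stronglyClosed_iff, not_and, not_forall] at hcon
    obtain ⟨R, f, hR, hf, y, hy, hfy⟩ := hcon (hZP.trans hPS)
    have hy1 : y ≠ 1 := fun h => hfy (by rw [h, hf.map_one]; exact one_mem _)
    have hyz : Subgroup.zpowers y = Subgroup.zpowers z := (hgen y (hR hy) hy1).trans hZz
    have hf' := hf.restrict (Subgroup.zpowers_le.2 hy)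
    rw [hyz] at hf'
    obtain ⟨φ, hφ, he⟩ := id hf'
    refine ⟨f z, stronglyClosed_map hP hf' (Subgroup.mem_zpowers _) (hZP hz), fun h => hfy ?_, ?_, ?_⟩
    · obtain ⟨i, rfl⟩ := Subgroup.mem_zpowers_iff.1 (hyz ▸ Subgroup.mem_zpowers y : y ∈ Subgroup.zpowers z)
      rw [show f (z ^ i) = f z ^ i by
        have h1 := he (⟨z, Subgroup.mem_zpowers _⟩ ^ i)
        rw [map_zpow, he ⟨z, Subgroup.mem_zpowers _⟩] at h1
        exact h1.symm]
      exact zpow_mem h i
    · have h1 := he (⟨z, Subgroup.mem_zpowers _⟩ ^ p)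
      rw [map_pow, he ⟨z, Subgroup.mem_zpowers _⟩,
        show ((⟨z, Subgroup.mem_zpowers _⟩ ^ p : Subgroup.zpowers z) : Ω) = z ^ p from rfl, hzp, hf'.map_one] at h1
      exact h1
    · obtain ⟨g, hg, hgf, -, -⟩ := hf'.exists_inv
      exact ⟨g, hg.restrict (Subgroup.zpowers_le.2 (mem_im_of_mem (Subgroup.mem_zpowers _))),
        hgf _ (Subgroup.mem_zpowers _)⟩
  have hzS : Subgroup.zpowers z ≤ S := Subgroup.zpowers_le.2 (hPS (hZP hz))
  have he1 : e ≠ 1 := fun h => heZ (h ▸ one_mem _)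
  have hfim : im (Subgroup.zpowers e) f = Subgroup.zpowers z := by
    haveI := finite_of_le hzS
    refine Subgroup.eq_of_le_of_card_ge (im_le_iff.2 fun v hv => ?_) ?_
    · obtain ⟨i, rfl⟩ := Subgroup.mem_zpowers_iff.1 hv
      obtain ⟨φ, -, he⟩ := id hf
      have h1 := he (⟨e, Subgroup.mem_zpowers _⟩ ^ i)
      rw [map_zpow, he ⟨e, Subgroup.mem_zpowers _⟩, hfe] at h1
      exact h1 ▸ zpow_mem (Subgroup.mem_zpowers _) i
    · rw [hf.card_im, Nat.card_zpowers, Nat.card_zpowers, hzo, orderOf_eq_prime hep he1]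
  have hfcz : F.IsFullyCentralized (Subgroup.zpowers z) := by
    refine ⟨hzS, fun R hR => ?_⟩
    haveI : Finite ↥(centralizerIn S (Subgroup.zpowers z)) := finite_of_le inf_le_left
    have hle : centralizerIn S R ≤ centralizerIn S (Subgroup.zpowers z) := fun s hs =>
      mem_centralizerIn.2 ⟨hs.1, fun v hv => by
        obtain ⟨i, rfl⟩ := Subgroup.mem_zpowers_iff.1 hv
        exact ((show Commute z s from (hzSc s hs.1).symm).zpow_left i).eq⟩
    exact Subgroup.card_le_of_le hle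
  obtain ⟨g, hg, hgf⟩ := (receptive_iff.1 (receptive_of_fc hS hF hfcz)).2 _ f hf hfim
  set M := P ⊓ Subgroup.centralizer {e} with hMdef
  have hMP : M ≤ P := inf_le_left
  have heM : e ∈ M := ⟨heP, Subgroup.mem_centralizer_singleton_iff.2 rfl⟩
  have hMN : M ≤ Nf S (Subgroup.zpowers e) f := le_trans (fun a ha => mem_centralizerIn.2 ⟨hPS ha.1,
    fun v hv => by
      obtain ⟨i, rfl⟩ := Subgroup.mem_zpowers_iff.1 hv
      exact ((show Commute e a from (Subgroup.mem_centralizer_singleton_iff.1 ha.2).symm).zpow_left i).eq⟩)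
    centralizerIn_le_Nf
  have hgM := hg.restrict hMN
  haveI := finite_of_le (hMP.trans hPS)
  have hge' : g e = z := by rw [hgf e (Subgroup.mem_zpowers _), hfe]
  have hgP : ∀ a ∈ M, g a ∈ P := fun a ha => stronglyClosed_map hP hgM ha (hMP ha)
  have hZM : Z ≤ M := fun w hw => ⟨hZP hw, Subgroup.mem_centralizer_singleton_iff.2 (hZc w hw e (hPS heP)).symm⟩
  -- no nontrivial element of the derived subgroup returns into it
  have hkey : ∀ w ∈ Z, g w ∈ Z → w = 1 := by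
    intro w hw hgw
    by_contra hw1
    have hgw1 : g w ≠ 1 := fun h => hw1 (hgM.injOn (hZM hw) (one_mem _) (h.trans hgM.map_one.symm))
    obtain ⟨i, hi⟩ := Subgroup.mem_zpowers_iff.1 ((hgen _ hgw hgw1).ge hz)
    have hwi : w ^ i ∈ Z := zpow_mem hw i
    have : g (w ^ i) = g e := by
      obtain ⟨φ, -, he⟩ := id hgM
      have h1 := he (⟨w, hZM hw⟩ ^ i)
      rw [map_zpow, he ⟨w, hZM hw⟩] at h1
      rw [hge', ← hi]; exact h1.symm
    exact heZ (hgM.injOn (hZM hwi) heM this ▸ hwi)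
  have hMc : ∀ a ∈ M, ∀ b ∈ M, a * b = b * a := by
    intro a ha b hb
    rw [← commutatorElement_eq_one_iff_mul_comm]
    refine hkey _ (hcommΩ a (hMP ha) b (hMP hb)) ?_
    rw [commutatorElement_def, hgM.map_mul (mul_mem (mul_mem ha hb) (inv_mem ha)) (inv_mem hb),
      hgM.map_mul (mul_mem ha hb) (inv_mem ha), hgM.map_mul ha hb, hgM.map_inv ha, hgM.map_inv hb,
      ← commutatorElement_def]
    exact hcommΩ _ (hgP a ha) _ (hgP b hb)
  have hMp : ∀ a ∈ M, a ^ p = 1 := by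
    intro a ha
    refine hkey _ (hpowΩ a (hMP ha)) ?_
    obtain ⟨φ, -, he⟩ := id hgM
    have h1 := he (⟨a, ha⟩ ^ p)
    rw [map_pow, he ⟨a, ha⟩] at h1
    rw [← show g a ^ p = g (a ^ p) from h1]
    exact hpowΩ _ (hgP a ha)
  have hMne : M ≠ P := by
    intro h
    have hna : ∃ a b : P, ⁅a, b⁆ ≠ 1 := by
      by_contra hab
      push Not at hab
      have hle : Z₀ ≤ ⊥ := by
        rw [hZ₀, commutator_def]
        exact Subgroup.commutator_le.2 fun a _ b _ => Subgroup.mem_bot.2 (hab a b)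
      rw [le_bot_iff.1 hle, Subgroup.card_bot] at hcard
      exact (Fact.out : p.Prime).ne_one hcard.symm
    obtain ⟨a, b, hab⟩ := hna
    exact hab (commutatorElement_eq_one_iff_mul_comm.2 (Subtype.ext (hMc a (h.ge a.2) b (h.ge b.2))))
  -- the centralizer is a maximal subgroup
  set M₀ := M.subgroupOf P with hM₀def
  have hMi : M₀.index = p := by
    let φ : P →* Z₀ := MonoidHom.mk' (fun a => ⟨⁅a, ⟨e, heP⟩⁆, hcomm _ _⟩) fun a b => Subtype.ext (by
      show ⁅a * b, (⟨e, heP⟩ : P)⁆ = ⁅a, ⟨e, heP⟩⁆ * ⁅b, ⟨e, heP⟩⁆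
      have hc1 : a * ⁅b, (⟨e, heP⟩ : P)⁆ * a⁻¹ = ⁅b, (⟨e, heP⟩ : P)⁆ := by
        refine Subtype.ext ?_
        rw [Subgroup.coe_mul, Subgroup.coe_mul, Subgroup.coe_inv,
          hZc ((⁅b, (⟨e, heP⟩ : P)⁆ : P) : Ω) ⟨_, hcomm b ⟨e, heP⟩, rfl⟩ a (hPS a.2)]
        exact mul_inv_cancel_right _ _
      have hc2 : ⁅a, (⟨e, heP⟩ : P)⁆ * ⁅b, (⟨e, heP⟩ : P)⁆ = ⁅b, (⟨e, heP⟩ : P)⁆ * ⁅a, (⟨e, heP⟩ : P)⁆ :=
        Subtype.ext (hZc _ ⟨_, hcomm b ⟨e, heP⟩, rfl⟩ _ (hPS (Subtype.coe_prop _)))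
      calc ⁅a * b, (⟨e, heP⟩ : P)⁆ = a * ⁅b, ⟨e, heP⟩⁆ * a⁻¹ * ⁅a, ⟨e, heP⟩⁆ := by
            simp only [commutatorElement_def]; group
        _ = _ := by rw [hc1, hc2])
    have hker : φ.ker = M₀ := by
      ext a
      rw [MonoidHom.mem_ker, hM₀def, Subgroup.mem_subgroupOf, hMdef, Subgroup.mem_inf,
        Subgroup.mem_centralizer_singleton_iff, Subtype.ext_iff]
      show ⁅a, (⟨e, heP⟩ : P)⁆ = 1 ↔ _
      rw [commutatorElement_eq_one_iff_mul_comm, Subtype.ext_iff]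
      exact ⟨fun h => ⟨a.2, h⟩, fun h => h.2⟩
    rw [← hker, Subgroup.index_ker]
    refine ((Nat.dvd_prime Fact.out).1 (hcard ▸ Subgroup.card_subgroup_dvd_card φ.range)).resolve_left fun h => hMne ?_
    refine le_antisymm hMP fun a ha => ?_
    have h1 : φ ⟨a, ha⟩ = 1 := Subgroup.mem_bot.1 (Subgroup.eq_bot_of_card_eq _ h ▸ ⟨_, rfl⟩)
    have h2 : (⟨a, ha⟩ : P) ∈ M₀ := hker ▸ MonoidHom.mem_ker.2 h1
    exact h2
  have hM₀c : ∀ a ∈ M₀, ∀ b ∈ M₀, a * b = b * a := fun a ha b hb => Subtype.ext (hMc a ha b hb)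
  have hM₀p : ∀ a ∈ M₀, a ^ p = 1 := fun a ha => Subtype.ext (hMp a ha)
  have hZ₀M : Z₀ ≤ M₀ := fun w hw => hZM ⟨w, hw, rfl⟩
  have hZ₀c : Z₀ ≤ Subgroup.center P := fun w hw => Subgroup.mem_center_iff.2 fun a =>
    Subtype.ext (hZc w ⟨w, hw, rfl⟩ a (hPS a.2))
  rcases eq_or_ne p 2 with rfl | hp2
  · refine h2 rfl (exists_two_split hPp hcard hZ₀c hcomm hpow hMi hM₀c hM₀p hZ₀M ?_)
    obtain ⟨a, b, hab⟩ : ∃ a b : P, a * b ≠ b * a := by
      by_contra hab
      push Not at hab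
      exact hMne (le_antisymm hMP fun a ha => ⟨ha,
        Subgroup.mem_centralizer_singleton_iff.2 (congrArg Subtype.val (hab ⟨a, ha⟩ ⟨e, heP⟩))⟩)
    exact ⟨a, b, hab⟩
  -- `x` moves `e`
  obtain ⟨x, hxP, hxM⟩ : ∃ x ∈ P, x ∉ M := by
    by_contra h
    push Not at h
    exact hMne (le_antisymm hMP h)
  have hxe : x * e ≠ e * x := fun h => hxM ⟨hxP, Subgroup.mem_centralizer_singleton_iff.2 h⟩
  by_cases hex : ∃ x₁ ∈ P, x₁ ∉ M ∧ x₁ ^ p = 1
  · obtain ⟨x₁, hx₁P, hx₁M, hx₁p⟩ := hex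
    refine hodd hp2 (exists_odd_split hPp hp2 hcard hZ₀c hcomm hMi hM₀c hM₀p hZ₀M
      (x := ⟨x₁, hx₁P⟩) hx₁M (Subtype.ext hx₁p) ⟨⟨e, heP⟩, heM, fun h => hx₁M ⟨hx₁P, ?_⟩⟩)
    exact Subgroup.mem_centralizer_singleton_iff.2 (congrArg Subtype.val h).symm
  push Not at hex
  -- the maximal subgroup is strongly closed
  have hMsc : F.StronglyClosed M := stronglyClosed_iff.2 ⟨hMP.trans hPS, fun R f hR hf a ha => by
    have h1 : f a ∈ P := stronglyClosed_map hP hf ha (hMP (hR ha))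
    by_contra h2
    refine hex (f a) h1 h2 ?_
    obtain ⟨φ, -, he⟩ := id hf
    have h3 := he (⟨a, ha⟩ ^ p)
    rw [map_pow, he ⟨a, ha⟩] at h3
    rw [show f a ^ p = f (a ^ p) from h3, hMp a (hR ha), hf.map_one]⟩
  have hgim : im M g = M := Subgroup.eq_of_le_of_card_ge
    (im_le_iff.2 fun a ha => stronglyClosed_map hMsc hgM ha ha) hgM.card_im.ge
  obtain ⟨α, hαF, hα⟩ := exists_aut hgM hgim
  have hMS : M ≤ S := hMP.trans hPS
  haveI := mulAut_finite_of_le hMS
  have hMn : ∀ s ∈ S, ∀ a ∈ M, s * a * s⁻¹ ∈ M := fun s hs a ha => stronglyClosed_conj_mem hMsc hs ha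
  obtain ⟨β, hβ, hβS⟩ := exists_aut_conj (P := M) (g := x)
    (mem_normalizer_of_conj_mem hMS fun a ha => hMn x (hPS hxP) a ha)
  have hβF : β ∈ F.autGroup M := autInducedBy_le_autGroup hMS (hβS S (hPS hxP))
  letI : CommGroup M := { (inferInstance : Group M) with mul_comm := fun a b => Subtype.ext (hMc a a.2 b b.2) }
  let eM : M := ⟨e, heM⟩
  let zM : M := ⟨z, hZM hz⟩
  have hαe : α eM = zM := Subtype.ext (by rw [← av_coe, hα e heM, hge'])
  have hzMfix : ∀ w : M, (w : Ω) ∈ Z → β w = w := fun w hw => Subtype.ext (by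
    rw [← av_coe, hβ (w : Ω) w.2, hZc w hw x (hPS hxP), mul_inv_cancel_right])
  have hβmove : ∀ w : M, ∃ i : ℤ, β w = zM ^ i * w := by
    intro w
    have h1 : ((β w : M) : Ω) = x * (w : Ω) * x⁻¹ := by rw [← av_coe]; exact hβ (w : Ω) w.2
    obtain ⟨i, hi⟩ := Subgroup.mem_zpowers_iff.1
      (hZz ▸ hcommΩ x hxP w (hMP w.2) : ⁅x, (w : Ω)⁆ ∈ Subgroup.zpowers z)
    refine ⟨i, Subtype.ext ?_⟩
    rw [h1, Subgroup.coe_mul, Subgroup.coe_zpow, show (zM : Ω) = z from rfl, hi, commutatorElement_def]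
    group
  set β' : MulAut M := α⁻¹ * β * α with hβ'def
  have hβ'F : β' ∈ F.autGroup M := Subgroup.mul_mem _ (Subgroup.mul_mem _ (Subgroup.inv_mem _ hαF) hβF) hαF
  have hβ'e : β' eM = eM := by
    rw [hβ'def, MulAut.mul_apply, MulAut.mul_apply, hαe, hzMfix zM hz, MulAut.inv_apply, ← hαe,
      MulEquiv.symm_apply_apply]
  have hβ'move : ∀ w : M, ∃ i : ℤ, β' w = eM ^ i * w := by
    intro w
    obtain ⟨i, hi⟩ := hβmove (α w)
    refine ⟨i, ?_⟩
    rw [hβ'def, MulAut.mul_apply, MulAut.mul_apply, hi, map_mul, map_zpow, MulAut.inv_apply, ← hαe,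
      MulEquiv.symm_apply_apply, MulAut.inv_apply, MulEquiv.symm_apply_apply]
  have hordM : ∀ w : M, w ^ (p : ℤ) = 1 := fun w => by
    rw [zpow_natCast]; exact Subtype.ext (hMp w w.2)
  obtain ⟨c, hc⟩ := hβmove eM
  have hpc : ¬ (p : ℤ) ∣ c := by
    rintro ⟨k, rfl⟩
    rw [zpow_mul, hordM, one_zpow, one_mul] at hc
    have h1 : x * e * x⁻¹ = e := by
      rw [← hβ e heM, av_apply β heM]
      exact congrArg Subtype.val hc
    exact hxe (mul_inv_eq_iff_eq_mul.1 h1)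
  obtain ⟨z', hz'⟩ : ∃ z' : M, β eM = eM * z' := ⟨zM ^ c, by rw [hc, mul_comm]⟩
  have hz'eq : z' = zM ^ c := by
    rw [hc, mul_comm eM] at hz'
    exact (mul_right_cancel hz').symm
  have hz'Z : (z' : Ω) ∈ Z := by rw [hz'eq, Subgroup.coe_zpow]; exact zpow_mem hz c
  have hβz : β z' = z' := hzMfix z' hz'Z
  have hzz' : ∃ k : ℤ, zM = z' ^ k := by
    obtain ⟨u, v, huv⟩ := (Nat.prime_iff_prime_int.1 (Fact.out : p.Prime)).coprime_iff_not_dvd.2 hpc
    refine ⟨v, ?_⟩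
    rw [hz'eq, ← zpow_mul, show c * v = (p : ℤ) * (-u) + 1 by linear_combination huv, zpow_add, zpow_mul, hordM,
      one_zpow, one_mul, zpow_one]
  obtain ⟨d, hd⟩ := hβ'move z'
  have hiterx : ∀ (n : ℕ) (w : M), ((β ^ n) w : Ω) = x ^ n * w * (x ^ n)⁻¹ := by
    intro n
    induction n with
    | zero => intro w; simp
    | succ n ih =>
      intro w
      rw [pow_succ' β, MulAut.mul_apply, ← av_coe β, hβ _ ((β ^ n) w).2, ih, pow_succ' x]
      group
  by_cases hpd : (p : ℤ) ∣ d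
  · -- both transvections generate a `p`-group
    have hβ'z : β' z' = z' := by
      obtain ⟨k, rfl⟩ := hpd
      rw [hd, zpow_mul, hordM, one_zpow, one_mul]
    have hβ'zM : β' zM = zM := by
      obtain ⟨k, hk⟩ := hzz'
      rw [hk, map_zpow, hβ'z]
    set Y : Subgroup Ω := Subgroup.zpowers z ⊔ Subgroup.zpowers e with hYdef
    have hYM : Y ≤ M := sup_le (Subgroup.zpowers_le.2 (hZM hz)) (Subgroup.zpowers_le.2 heM)
    let C : ℕ → Subgroup Ω := fun i => if i = 0 then ⊥ else if i = 1 then Subgroup.zpowers z else if i = 2 then Y else M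
    let B := Subgroup.closure ({β, β'} : Set (MulAut M))
    have hstab : ∀ γ ∈ B, (∀ w : M, (w : Ω) ∈ Subgroup.zpowers z → γ w = w) ∧
        (∀ w : M, (w : Ω) ∈ Y → ((γ w : M) : Ω) * (w : Ω)⁻¹ ∈ Subgroup.zpowers z) ∧
        ∀ w : M, ((γ w : M) : Ω) * (w : Ω)⁻¹ ∈ Y := by
      have hbase : ∀ γ : MulAut M, γ zM = zM → (∃ i : ℤ, γ eM = zM ^ i * eM) →
          (∀ w : M, ((γ w : M) : Ω) * (w : Ω)⁻¹ ∈ Y) → (∀ w : M, (w : Ω) ∈ Subgroup.zpowers z → γ w = w) ∧
          (∀ w : M, (w : Ω) ∈ Y → ((γ w : M) : Ω) * (w : Ω)⁻¹ ∈ Subgroup.zpowers z) ∧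
          ∀ w : M, ((γ w : M) : Ω) * (w : Ω)⁻¹ ∈ Y := by
        intro γ h1 h2 h3
        have hz : ∀ w : M, (w : Ω) ∈ Subgroup.zpowers z → γ w = w := fun w hw => by
          obtain ⟨i, hi⟩ := Subgroup.mem_zpowers_iff.1 hw
          rw [show w = zM ^ i from Subtype.ext (by rw [Subgroup.coe_zpow]; exact hi.symm), map_zpow, h1]
        refine ⟨hz, fun w hw => ?_, h3⟩
        have hw' : w ∈ Subgroup.zpowers zM ⊔ Subgroup.zpowers eM := by
          refine (Subgroup.mem_map_iff_mem M.subtype_injective).1 ?_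
          rw [Subgroup.map_sup, MonoidHom.map_zpowers, MonoidHom.map_zpowers]
          exact hw
        obtain ⟨a, ha, b, hb, rfl⟩ := Subgroup.mem_sup.1 hw'
        obtain ⟨i, rfl⟩ := Subgroup.mem_zpowers_iff.1 ha
        obtain ⟨j, rfl⟩ := Subgroup.mem_zpowers_iff.1 hb
        obtain ⟨k, hk⟩ := h2
        rw [map_mul, map_zpow, map_zpow, h1, hk, ← Subgroup.coe_inv, ← Subgroup.coe_mul, mul_zpow, mul_inv,
          show zM ^ i * ((zM ^ k) ^ j * eM ^ j) * ((zM ^ i)⁻¹ * (eM ^ j)⁻¹) = (zM ^ k) ^ j by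
            rw [mul_comm (zM ^ i) _, mul_assoc, mul_inv_cancel_left, mul_inv_cancel_right]]
        rw [Subgroup.coe_zpow, Subgroup.coe_zpow]
        exact zpow_mem (zpow_mem (Subgroup.mem_zpowers _) _) _
      intro γ hγ
      induction hγ using Subgroup.closure_induction with
      | mem γ hγ =>
        rcases hγ with rfl | rfl
        · refine hbase _ (hzMfix zM hz) ⟨c, hc⟩ fun w => ?_
          obtain ⟨i, hi⟩ := hβmove w
          rw [hi, Subgroup.coe_mul, mul_inv_cancel_right, Subgroup.coe_zpow]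
          exact Subgroup.mem_sup_left (zpow_mem (Subgroup.mem_zpowers _) i)
        · refine hbase _ hβ'zM ⟨0, by rw [zpow_zero, one_mul]; exact hβ'e⟩ fun w => ?_
          obtain ⟨i, hi⟩ := hβ'move w
          rw [hi, Subgroup.coe_mul, mul_inv_cancel_right, Subgroup.coe_zpow]
          exact Subgroup.mem_sup_right (zpow_mem (Subgroup.mem_zpowers _) i)
      | one => exact ⟨fun w _ => rfl, fun w _ => by simp, fun w => by simp⟩
      | mul γ δ _ _ ihγ ihδ =>
        refine ⟨fun w hw => by rw [MulAut.mul_apply, ihδ.1 w hw, ihγ.1 w hw], fun w hw => ?_, fun w => ?_⟩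
        · have hδY : ((δ w : M) : Ω) ∈ Y := by
            have := mul_mem (Subgroup.mem_sup_left (ihδ.2.1 w hw) : _ ∈ Y) hw
            rwa [inv_mul_cancel_right] at this
          have := mul_mem (ihγ.2.1 (δ w) hδY) (ihδ.2.1 w hw)
          simpa [mul_assoc] using this
        · have := mul_mem (ihγ.2.2 (δ w)) (ihδ.2.2 w)
          simpa [mul_assoc] using this
      | inv γ _ ih =>
        have hz : ∀ w : M, (w : Ω) ∈ Subgroup.zpowers z → γ⁻¹ w = w := fun w hw =>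
          γ.injective ((γ.apply_symm_apply w).trans (ih.1 w hw).symm)
        have hgen2 : ∀ w : M, ((γ⁻¹ w : M) : Ω) * (w : Ω)⁻¹ ∈ Y := fun w => by
          have h1 := inv_mem (ih.2.2 (γ⁻¹ w))
          rw [show γ (γ⁻¹ w) = w from γ.apply_symm_apply w, mul_inv_rev, inv_inv] at h1
          exact h1
        refine ⟨hz, fun w hw => ?_, hgen2⟩
        have hwY : ((γ⁻¹ w : M) : Ω) ∈ Y := by
          have := mul_mem (hgen2 w) hw
          rwa [inv_mul_cancel_right] at this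
        have h1 := inv_mem (ih.2.1 (γ⁻¹ w) hwY)
        rwa [show γ (γ⁻¹ w) = w from γ.apply_symm_apply w, mul_inv_rev, inv_inv] at h1
    have hBp : IsPGroup p B := by
      rintro ⟨γ, hγ⟩
      obtain ⟨s1, s2, s3⟩ := hstab γ hγ
      suffices hh : ∀ i < 3, ∀ x ∈ M, x ∈ C (i + 1) → x⁻¹ * av γ x ∈ C i by
        obtain ⟨k, hk⟩ := exists_pow_eq_one_of_stabilizes (hS.to_le hMS) (α := γ) C 3 rfl le_rfl
          (monotone_nat_of_le_succ fun i => by
            rcases i with _ | _ | _ | i <;> simp [C]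
            · exact Subgroup.mem_sup_left (Subgroup.mem_zpowers z)
            · exact hYM) hh
        exact ⟨k, Subtype.ext hk⟩
      intro i hi w hw hwC
      rw [av_apply γ hw]
      have hcw : w⁻¹ * (γ ⟨w, hw⟩ : Ω) = (γ ⟨w, hw⟩ : Ω) * w⁻¹ := hMc _ (inv_mem hw) _ (γ ⟨w, hw⟩).2
      interval_cases i
      · rw [s1 ⟨w, hw⟩ (by simpa [C] using hwC)]; simp
      · rw [hcw]
        simpa [C] using s2 ⟨w, hw⟩ (by simpa [C] using hwC)
      · rw [hcw]
        simpa [C] using s3 ⟨w, hw⟩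
    -- both lie in one conjugate of the image of `P`
    have hfnM : F.IsFullyNormalized M := ⟨hMS, fun R hR => by rw [eq_of_isConj_stronglyClosed hMsc hR]⟩
    obtain ⟨hfcM, hfaM⟩ := fc_fa_of_fn hS hF hfnM
    obtain ⟨-, hsyl⟩ := fa_iff.1 hfaM
    have hBle : B ≤ F.autGroup M := (Subgroup.closure_le _).2 (by rintro _ (rfl | rfl) <;> assumption)
    obtain ⟨γ, hγF, hγB⟩ := hsyl.conj_le hBp hBle
    have hclaim : ∀ δ ∈ F.autGroup M, δ * β * δ⁻¹ ∈ autInducedBy S M → δ * β * δ⁻¹ ∈ Subgroup.zpowers β := by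
      intro δ hδ hδS
      obtain ⟨s, hs, hsv⟩ := mem_autInducedBy.1 hδS
      have hmδ := map_of_mem_autGroup hMS hδ
      obtain ⟨G₁, hG₁, hG₁M⟩ := (receptive_iff.1 (receptive_of_fc hS hF hfcM)).2 M _ hmδ (im_av δ)
      have hxN : x ∈ Nf S M (av δ) := by
        refine mem_Nf.2 ⟨hPS hxP, mem_normalizer_of_conj_mem hMS fun a ha => hMn x (hPS hxP) a ha, s, hs, fun a ha => ?_⟩
        rw [← hβ a ha, ← hsv _ (av_mem δ ha), av_mul _ _ (av_mem δ ha), av_mul _ _ (av_mem _ (av_mem δ ha))]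
        congr 2
        have h1 := av_av_inv δ⁻¹ ha
        rw [inv_inv] at h1
        exact h1.symm
      have hgx : G₁ x ∈ P := stronglyClosed_map hP hG₁ hxN hxP
      -- every element of `P` is a power of `x` times an element of `M`
      haveI := Solv.normal_of_index_prime hPp hMi
      have hqord : Subgroup.zpowers (QuotientGroup.mk' M₀ ⟨x, hxP⟩) = ⊤ := by
        refine Subgroup.eq_top_of_card_eq _ ?_
        rw [Nat.card_zpowers, ← Subgroup.index_eq_card, hMi]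
        refine orderOf_eq_prime ?_ fun h => hxM ((QuotientGroup.eq_one_iff (⟨x, hxP⟩ : P)).1 h)
        rw [← map_pow]
        exact (QuotientGroup.eq_one_iff _).2 (hZM (hpowΩ x hxP))
      obtain ⟨i, hi⟩ := Subgroup.mem_zpowers_iff.1 (hqord ▸ Subgroup.mem_top (QuotientGroup.mk' M₀ ⟨G₁ x, hgx⟩))
      rw [← map_zpow] at hi
      have hm : x ^ (-i) * G₁ x ∈ M := by
        have h1 := QuotientGroup.eq.1 hi
        have h2 : ((((⟨x, hxP⟩ : P) ^ i)⁻¹ * ⟨G₁ x, hgx⟩ : P) : Ω) ∈ M := h1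
        simpa [zpow_neg] using h2
      refine Subgroup.mem_zpowers_iff.2 ⟨i, MulEquiv.ext fun w => Subtype.ext ?_⟩
      have hpowβ : ∀ (k : ℤ) (w : M), ((β ^ k) w : Ω) = x ^ k * w * (x ^ k)⁻¹ := by
        intro k
        induction k with
        | zero => intro w; simp
        | succ k ih =>
          intro w
          rw [add_comm, zpow_add, zpow_one, MulAut.mul_apply, ← av_coe β, hβ _ ((β ^ (k : ℤ)) w).2, ih,
            zpow_add, zpow_one]
          group
        | pred k ih =>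
          intro w
          have h1 : (β ^ (-(k : ℤ) - 1)) w = β⁻¹ ((β ^ (-(k : ℤ))) w) := by
            rw [← MulAut.mul_apply, ← zpow_neg_one, ← zpow_add, sub_eq_neg_add]
          have h2 : x * ((β ^ (-(k : ℤ) - 1)) w : Ω) * x⁻¹ = ((β ^ (-(k : ℤ))) w : Ω) := by
            rw [← hβ _ ((β ^ (-(k : ℤ) - 1)) w).2, av_coe, h1]
            exact congrArg Subtype.val (β.apply_symm_apply _)
          rw [ih] at h2
          calc ((β ^ (-(k : ℤ) - 1)) w : Ω) = x⁻¹ * (x * ((β ^ (-(k : ℤ) - 1)) w : Ω) * x⁻¹) * x := by group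
            _ = _ := by rw [h2]; group
      rw [hpowβ]
      set v := δ⁻¹ w with hv
      have hwv : (w : Ω) = G₁ v := by
        rw [hG₁M v v.2, av_coe, hv]
        exact congrArg Subtype.val (δ.apply_symm_apply w).symm
      show x ^ i * (w : Ω) * (x ^ i)⁻¹ = ((δ (β v) : M) : Ω)
      have hvN : (v : Ω) ∈ Nf S M (av δ) := le_Nf hmδ v.2
      have h3 : ((δ (β v) : M) : Ω) = G₁ x * G₁ v * (G₁ x)⁻¹ := by
        rw [← hG₁.map_conj hxN hvN, ← hβ _ v.2, av_coe, hG₁M _ (β v).2, av_coe]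
      rw [h3, ← hwv]
      have hmc : (x ^ (-i) * G₁ x) * (w : Ω) = w * (x ^ (-i) * G₁ x) := hMc _ hm w w.2
      calc x ^ i * (w : Ω) * (x ^ i)⁻¹ = x ^ i * ((w : Ω) * (x ^ (-i) * G₁ x)) * (G₁ x)⁻¹ := by group
        _ = G₁ x * w * (G₁ x)⁻¹ := by rw [← hmc]; group
    have h1 := hclaim γ hγF (hγB (conj_mem_cj (Subgroup.subset_closure (by simp))))
    have h2 := hclaim (γ * α⁻¹) (Subgroup.mul_mem _ hγF (Subgroup.inv_mem _ hαF)) (by
      have := hγB (conj_mem_cj (g := γ) (show β' ∈ B from Subgroup.subset_closure (by simp)))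
      rw [hβ'def] at this
      simpa [mul_assoc] using this)
    have hβp : β ^ p = 1 := MulEquiv.ext fun w => Subtype.ext (by
      rw [hiterx, ← hZc (x ^ p) (hpowΩ x hxP) w (hMS w.2), mul_inv_cancel_right]; rfl)
    have hβ1 : β ≠ 1 := fun h => by
      have : (zM ^ c * eM : M) = eM := by rw [← hc, h]; rfl
      rw [mul_eq_right] at this
      obtain ⟨k, hk⟩ := hzz'
      refine hz1 ?_
      have : zM = 1 := by rw [hk, hz'eq, this, one_zpow]
      exact congrArg Subtype.val this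
    have hβo : orderOf β = p := orderOf_eq_prime hβp hβ1
    have hzp1 : Subgroup.zpowers (γ * β * γ⁻¹) = Subgroup.zpowers β := by
      haveI : Finite ↥(Subgroup.zpowers β) := inferInstance
      refine Subgroup.eq_of_le_of_card_ge (Subgroup.zpowers_le.2 h1) (le_of_eq ?_)
      rw [Nat.card_zpowers, Nat.card_zpowers]
      exact (orderOf_injective (MulAut.conj γ).toMonoidHom (MulAut.conj γ).injective β).symm
    have h2' : γ * β' * γ⁻¹ ∈ Subgroup.zpowers (γ * β * γ⁻¹) := by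
      rw [hzp1, hβ'def]
      simpa [mul_assoc] using h2
    obtain ⟨k, hk⟩ := Subgroup.mem_zpowers_iff.1 h2'
    rw [conj_zpow] at hk
    have hk' : β' = β ^ k := (mul_left_cancel (mul_right_cancel hk)).symm
    have hpk : ¬ (p : ℤ) ∣ k := by
      rintro ⟨l, rfl⟩
      rw [zpow_mul, zpow_natCast, hβp, one_zpow, hβ'def] at hk'
      refine hβ1 ?_
      calc β = α * (α⁻¹ * β * α) * α⁻¹ := by group
        _ = 1 := by rw [hk']; group
    -- fixes `e`, so the original fixes `e`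
    obtain ⟨u, v, huv⟩ := (Nat.prime_iff_prime_int.1 (Fact.out : p.Prime)).coprime_iff_not_dvd.2 hpk
    have hβe : β = β' ^ v := by
      rw [hk', ← zpow_mul, show k * v = (p : ℤ) * (-u) + 1 by linear_combination huv, zpow_add, zpow_mul,
        zpow_natCast, hβp, one_zpow, one_mul, zpow_one]
    have hfix : ∀ j : ℤ, (β' ^ j) eM = eM := by
      intro j
      induction j with
      | zero => simp
      | succ j ih => rw [zpow_add, zpow_one, MulAut.mul_apply, hβ'e, ih]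
      | pred j ih =>
        rw [zpow_sub, zpow_one, MulAut.mul_apply]
        nth_rewrite 1 [← hβ'e]
        rw [MulAut.inv_apply, MulEquiv.symm_apply_apply, ih]
    have : zM ^ c * eM = eM := by rw [← hc, hβe]; exact hfix v
    rw [mul_eq_right] at this
    refine hz1 ?_
    obtain ⟨k, hk⟩ := hzz'
    have : zM = 1 := by rw [hk, hz'eq, this, one_zpow]
    exact congrArg Subtype.val this
  -- the element inverting the plane
  obtain ⟨u₀, v₀, huv⟩ := (Nat.prime_iff_prime_int.1 (Fact.out : p.Prime)).coprime_iff_not_dvd.2 hpd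
  have hd' : β' z' = z' * eM ^ d := by rw [hd, mul_comm]
  have hpowz : ∀ n : ℕ, (β' ^ n) z' = z' * eM ^ (d * n) ∧ (β' ^ n) eM = eM := by
    intro n
    induction n with
    | zero => simp
    | succ n ih =>
      refine ⟨?_, by rw [pow_succ' β', MulAut.mul_apply, ih.2, hβ'e]⟩
      rw [pow_succ' β', MulAut.mul_apply, ih.1, map_mul, map_zpow, hβ'e, hd', mul_assoc, ← zpow_add]
      congr 2
      push_cast; ring
  obtain ⟨n, hn⟩ : ∃ n : ℕ, (p : ℤ) ∣ d * n + 1 := by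
    refine ⟨((-v₀) % (p : ℤ)).toNat, ?_⟩
    rw [Int.toNat_of_nonneg (Int.emod_nonneg _ (by exact_mod_cast (Fact.out : p.Prime).ne_zero))]
    refine ⟨u₀ - d * ((-v₀) / (p : ℤ)), ?_⟩
    rw [Int.emod_def]
    linear_combination -huv
  set γ := β' ^ n with hγdef
  have hγz : γ z' = z' * eM⁻¹ := by
    rw [hγdef, (hpowz n).1]
    obtain ⟨q, hq⟩ := hn
    rw [show d * n = p * q + (-1) by linarith, zpow_add, zpow_mul, hordM, one_zpow, one_mul, zpow_neg_one]
  have hγe : γ eM = eM := (hpowz n).2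
  set w := β * γ * β with hwdef
  have hwe : w eM = z' := by
    simp only [hwdef, MulAut.mul_apply]
    rw [hz', map_mul, hγe, hγz, mul_comm z', mul_inv_cancel_left, hβz]
  have hwz : w z' = eM⁻¹ := by
    simp only [hwdef, MulAut.mul_apply]
    rw [hβz, hγz, map_mul, map_inv, hz', hβz, mul_inv_rev, mul_inv_cancel_left]
  set t := w * w with htdef
  have hte : t eM = eM⁻¹ := by rw [htdef, MulAut.mul_apply, hwe, hwz]
  have htz : t z' = z'⁻¹ := by rw [htdef, MulAut.mul_apply, hwz, map_inv, hwe]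
  have htF : t ∈ F.autGroup M := by
    have hw : w ∈ F.autGroup M :=
      Subgroup.mul_mem _ (Subgroup.mul_mem _ hβF (Subgroup.pow_mem _ hβ'F _)) hβF
    exact Subgroup.mul_mem _ hw hw
  -- it commutes with the transvection
  have htcomm : ∀ q : M, t (β q) = β (t q) := by
    intro q
    obtain ⟨i, hi⟩ := hβmove q
    obtain ⟨k, hk⟩ := hzz'
    set q₁ := eM ^ (-(i * k)) * q with hq₁
    have hβq₁ : β q₁ = q₁ := by
      rw [hq₁, map_mul, map_zpow, hz', hi, hk, ← zpow_mul, mul_zpow, mul_assoc, ← mul_assoc (z' ^ (-(i * k))),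
        ← zpow_add, show -(i * k) + k * i = 0 by ring, zpow_zero, one_mul]
    obtain ⟨j, hj⟩ := hβ'move q₁
    set q₂ := z' ^ (v₀ * (-j)) * q₁ with hq₂
    have hβq₂ : β q₂ = q₂ := by rw [hq₂, map_mul, map_zpow, hβz, hβq₁]
    have hβ'q₂ : β' q₂ = q₂ := by
      rw [hq₂, map_mul, map_zpow, hd', hj, mul_zpow, ← zpow_mul, mul_assoc, ← mul_assoc (eM ^ (d * (v₀ * -j))),
        ← zpow_add, show d * (v₀ * -j) + j = (p : ℤ) * (u₀ * j) by linear_combination (-j) * huv, zpow_mul eM (p : ℤ),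
        hordM, one_zpow, one_mul]
    have hfixn : ∀ m : ℕ, (β' ^ m) q₂ = q₂ := fun m => by
      induction m with
      | zero => rfl
      | succ m ih => rw [pow_succ' β', MulAut.mul_apply, ih, hβ'q₂]
    have htq₂ : t q₂ = q₂ := by
      rw [htdef, hwdef]
      simp only [MulAut.mul_apply, hβq₂, hγdef, hfixn]
    have hq : q = eM ^ (i * k) * (z' ^ (v₀ * j) * q₂) := by
      rw [hq₂, ← mul_assoc (z' ^ (v₀ * j)), ← zpow_add, show v₀ * j + v₀ * -j = 0 by ring, zpow_zero, one_mul, hq₁,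
        ← mul_assoc, ← zpow_add, add_neg_cancel, zpow_zero, one_mul]
    rw [hq]
    simp only [map_mul, map_zpow, hte, htz, htq₂, hβq₂, hz', hβz, map_inv, mul_inv, inv_zpow', zpow_neg, mul_zpow]
  have hmt := map_of_mem_autGroup hMS htF
  have hfnM : F.IsFullyNormalized M := ⟨hMS, fun R hR => by rw [eq_of_isConj_stronglyClosed hMsc hR]⟩
  obtain ⟨G₁, hG₁, hG₁M⟩ := (receptive_iff.1 (receptive_of_fc hS hF (fc_fa_of_fn hS hF hfnM).1)).2 M _ hmt (im_av t)
  have hxN : x ∈ Nf S M (av t) := mem_Nf.2 ⟨hPS hxP,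
    mem_normalizer_of_conj_mem hMS fun a ha => hMn x (hPS hxP) a ha, x, hPS hxP, fun a ha => by
      rw [← hβ a ha, ← hβ _ (av_mem t ha), av_apply t ha, av_coe, av_apply β ha, av_coe]
      exact congrArg Subtype.val (htcomm ⟨a, ha⟩)⟩
  have hgx : G₁ x ∈ P := stronglyClosed_map hP hG₁ hxN hxP
  set y := x⁻¹ * G₁ x with hy
  have hyP : y ∈ P := mul_mem (inv_mem hxP) hgx
  have hycen : ∀ a ∈ M, y * a = a * y := by
    intro a ha
    -- write `a` as an image
    set v : M := t⁻¹ ⟨a, ha⟩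
    have hva : G₁ v = a := by
      rw [hG₁M v v.2, av_coe]
      exact congrArg Subtype.val (t.apply_symm_apply ⟨a, ha⟩)
    have hvN : (v : Ω) ∈ Nf S M (av t) := le_Nf hmt v.2
    have h3 : G₁ x * a * (G₁ x)⁻¹ = x * a * x⁻¹ := by
      rw [← hva, ← hG₁.map_conj hxN hvN, ← hβ _ v.2, av_coe, hG₁M _ (β v).2, av_coe, htcomm, ← av_coe β,
        hβ _ (t v).2, hG₁M v v.2, av_coe]
    calc y * a = x⁻¹ * (G₁ x * a * (G₁ x)⁻¹) * G₁ x := by rw [hy]; group
      _ = x⁻¹ * (x * a * x⁻¹) * G₁ x := by rw [h3]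
      _ = a * y := by rw [hy]; group
  have hyM : y ∈ M := ⟨hyP, Subgroup.mem_centralizer_singleton_iff.2 (hycen e heM)⟩
  -- the power of `x` is fixed and inverted
  have hxpM : x ^ p ∈ M := hZM (hpowΩ x hxP)
  have h1 : G₁ (x ^ p) = (x ^ p)⁻¹ := by
    rw [hG₁M _ hxpM, av_apply t hxpM]
    obtain ⟨i, hi⟩ := Subgroup.mem_zpowers_iff.1 (hZz ▸ hpowΩ x hxP : x ^ p ∈ Subgroup.zpowers z)
    obtain ⟨k, hk⟩ := hzz'
    have h2 : (⟨x ^ p, hxpM⟩ : M) = z' ^ (k * i) := by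
      rw [zpow_mul, ← hk]
      exact Subtype.ext (by rw [Subgroup.coe_zpow]; exact hi.symm)
    rw [h2, map_zpow, htz, inv_zpow, ← h2]
    rfl
  have h2' : G₁ (x ^ p) = x ^ p := by
    have hpowG : ∀ i : ℕ, G₁ (x ^ i) = G₁ x ^ i := fun i => by
      induction i with
      | zero => rw [pow_zero, pow_zero]; exact hG₁.map_one
      | succ i ih => rw [pow_succ, hG₁.map_mul (Subgroup.pow_mem _ hxN i) hxN, ih, pow_succ]
    rw [hpowG]
    have hc' : ∀ q : P, ⁅(⟨y, hyP⟩ : P), ⟨x, hxP⟩⁆ * q = q * ⁅(⟨y, hyP⟩ : P), ⟨x, hxP⟩⁆ := fun q =>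
      (Subgroup.mem_center_iff.1 (hZ₀c (hcomm _ _)) q).symm
    have hypp : (⟨y, hyP⟩ : P) ^ p = 1 := Subtype.ext (hMp y hyM)
    have h := congrArg Subtype.val (pow_prime_mul_of_class_two hp2 hc' (by rw [hypp, one_mul, mul_one]))
    rw [hypp, mul_one] at h
    simp only [Subgroup.coe_pow, Subgroup.coe_mul] at h
    rwa [hy, mul_inv_cancel_left] at h
  rw [h2'] at h1
  refine hex x hxP hxM ?_
  have h3 : (x ^ p) ^ 2 = 1 := by rw [pow_two]; nth_rewrite 1 [h1]; exact inv_mul_cancel _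
  exact orderOf_eq_one_iff.1 (Nat.eq_one_of_dvd_coprimes
    ((Nat.coprime_primes (Fact.out : p.Prime) Nat.prime_two).2 hp2) (orderOf_dvd_of_pow_eq_one (hMp _ hxpM))
    (orderOf_dvd_of_pow_eq_one h3))

end Cfsg.Agent.Local.FS
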