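import Cfsg.Agent.Lib.Solv.Extraspecial
import Cfsg.Agent.Lib.Fusion.OmegaClassTwo

/-!
Generalized extraspecial groups with an elementary abelian maximal subgroup split.
-/

set_option autoImplicit false

universe u

namespace Cfsg.Agent.Local.FS

open Cfsg Cfsg.Agent.Fusion
open scoped commutatorElement

variable {P : Type u} [Group P] [Finite P] {p : ℕ} [Fact p.Prime]

omit [Fact p.Prime] in
/-- A transported copy in the lowest universe. -/
theorem exists_small_copy (H : Type u) [Group H] [Finite H] :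
    ∃ (K : Type) (_ : Group K) (_ : Finite K), Nonempty (K ≃* H) := by
  let e : Fin (Nat.card H) ≃ H := (Finite.equivFin H).symm
  exact ⟨Fin (Nat.card H), e.group, inferInstance, ⟨Equiv.mulEquiv e⟩⟩

/-- The data of a splitting. -/
theorem exists_split (hP : IsPGroup p P) {Z M : Subgroup P} (hZc : Nat.card Z = p)
    (hZ : Z ≤ Subgroup.center P) (hcomm : ∀ a b : P, ⁅a, b⁆ ∈ Z) (hMi : M.index = p)
    (hMc : ∀ a ∈ M, ∀ b ∈ M, a * b = b * a) (hMp : ∀ a ∈ M, a ^ p = 1) (hZM : Z ≤ M)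
    {x : P} (hxM : x ∉ M) (hxp : x ^ p = 1) (hna : ∃ m ∈ M, m * x ≠ x * m) :
    ∃ (E A : Subgroup P) (y : P), y ∈ M ∧ y * x ≠ x * y ∧ E = Subgroup.closure {x, y} ∧ Z ≤ E ∧
      A ≤ Subgroup.center P ∧ A ≤ M ∧ Nat.card E = p ^ 3 ∧
      Function.Bijective (fun q : E × A => (q.1 : P) * q.2) := by
  classical
  obtain ⟨y, hy, hyx⟩ := hna
  haveI := Solv.normal_of_index_prime hP hMi
  set c := ⁅x, y⁆ with hc
  have hc1 : c ≠ 1 := fun h => hyx (commutatorElement_eq_one_iff_mul_comm.1 h).symm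
  have hcZ : c ∈ Z := hcomm x y
  have hZz : Z = Subgroup.zpowers c := (Subgroup.eq_of_le_of_card_ge (Subgroup.zpowers_le.2 hcZ) (by
    rw [hZc, Nat.card_zpowers, orderOf_eq_prime (hMp c (hZM hcZ)) hc1])).symm
  have hzc : ∀ z ∈ Z, ∀ g : P, g * z = z * g := fun z hz g => Subgroup.mem_center_iff.1 (hZ hz) g
  -- the map to the centre
  let φ : M →* Z := MonoidHom.mk' (fun m => ⟨⁅x, (m : P)⁆, hcomm _ _⟩) fun a b => Subtype.ext (by
    show ⁅x, (a : P) * b⁆ = ⁅x, (a : P)⁆ * ⁅x, (b : P)⁆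
    calc ⁅x, (a : P) * b⁆ = ⁅x, (a : P)⁆ * ((a : P) * ⁅x, (b : P)⁆ * (a : P)⁻¹) := by
          simp only [commutatorElement_def]; group
      _ = _ := by rw [hzc _ (hcomm x b) a, mul_inv_cancel_right])
  set H := φ.ker.map M.subtype with hHdef
  have hHM : H ≤ M := Subgroup.map_subtype_le _
  have hmemH : ∀ {m : P}, m ∈ H ↔ m ∈ M ∧ m * x = x * m := by
    intro m
    constructor
    · rintro ⟨m, hm, rfl⟩
      exact ⟨m.2, (commutatorElement_eq_one_iff_mul_comm.1 (congrArg Subtype.val hm)).symm⟩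
    · rintro ⟨hm, hmx⟩
      exact ⟨⟨m, hm⟩, Subtype.ext (commutatorElement_eq_one_iff_mul_comm.2 hmx.symm), rfl⟩
  -- everything is a power of `x` times an element of `M`
  have htop : Subgroup.zpowers x ⊔ M = ⊤ := by
    rw [← Subgroup.index_eq_one]
    have hd := Subgroup.index_dvd_of_le (le_sup_right : M ≤ Subgroup.zpowers x ⊔ M)
    rw [hMi] at hd
    refine ((Nat.dvd_prime Fact.out).1 hd).resolve_right fun h => hxM ?_
    have := Subgroup.eq_of_le_of_card_ge (le_sup_right : M ≤ Subgroup.zpowers x ⊔ M) (by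
      have h1 := M.card_mul_index
      have h2 := (Subgroup.zpowers x ⊔ M).card_mul_index
      rw [hMi] at h1; rw [h] at h2
      exact (Nat.eq_of_mul_eq_mul_right (Fact.out : p.Prime).pos (h2.trans h1.symm)).le)
    rw [this]
    exact Subgroup.mem_sup_left (Subgroup.mem_zpowers x)
  have hHc : H ≤ Subgroup.center P := by
    intro m hm
    refine Subgroup.mem_center_iff.2 fun g => ?_
    have hle : Subgroup.zpowers x ⊔ M ≤ Subgroup.centralizer {m} := sup_le
      (Subgroup.zpowers_le.2 (Subgroup.mem_centralizer_singleton_iff.2 (hmemH.1 hm).2.symm))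
      (fun a ha => Subgroup.mem_centralizer_singleton_iff.2 (hMc a ha m (hHM hm)))
    exact Subgroup.mem_centralizer_singleton_iff.1 (hle (htop ▸ Subgroup.mem_top g))
  have hZH : Z ≤ H := fun z hz => hmemH.2 ⟨hZM hz, (hzc z hz x).symm⟩
  have hφs : Function.Surjective φ := by
    rintro ⟨z, hz⟩
    obtain ⟨i, rfl⟩ := Subgroup.mem_zpowers_iff.1 (hZz ▸ hz : z ∈ Subgroup.zpowers c)
    refine ⟨⟨y, hy⟩ ^ i, ?_⟩
    rw [map_zpow]
    exact Subtype.ext (by rw [Subgroup.coe_zpow]; rfl)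
  have hHcard : Nat.card H * p = Nat.card M := by
    rw [hHdef, Subgroup.card_map_of_injective M.subtype_injective, ← φ.ker.card_mul_index,
      Subgroup.index_ker, MonoidHom.range_eq_top.2 hφs, Subgroup.card_top, hZc]
  -- a complement of the commutator in the centralizing part
  obtain ⟨A, ⟨hAH, hcA⟩, hmax⟩ := Set.exists_max_image {A : Subgroup P | A ≤ H ∧ c ∉ A}
    (fun A => Nat.card A) (Set.toFinite _) ⟨⊥, bot_le, fun h => hc1 (Subgroup.mem_bot.1 h)⟩
  have hAc : A ≤ Subgroup.center P := hAH.trans hHc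
  haveI hAn : A.Normal := ⟨fun a ha g => by
    rw [Subgroup.mem_center_iff.1 (hAc ha) g, mul_inv_cancel_right]; exact ha⟩
  have hHA : H ≤ Z ⊔ A := by
    intro h hh
    by_cases hhA : h ∈ A
    · exact Subgroup.mem_sup_right hhA
    have hlt : A < A ⊔ Subgroup.zpowers h := lt_of_le_not_ge le_sup_left fun hle =>
      hhA (hle (Subgroup.mem_sup_right (Subgroup.mem_zpowers h)))
    have hcm : c ∈ A ⊔ Subgroup.zpowers h := by
      by_contra hcm
      refine absurd (hmax _ ⟨sup_le hAH (Subgroup.zpowers_le.2 hh), hcm⟩) (not_le.2 ?_)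
      exact lt_of_le_of_ne (Subgroup.card_le_of_le hlt.le) fun he => hlt.ne
        (Subgroup.eq_of_le_of_card_ge hlt.le he.ge)
    obtain ⟨a, ha, v, hv, hav⟩ := Subgroup.mem_sup_of_normal_left.1 hcm
    obtain ⟨i, rfl⟩ := Subgroup.mem_zpowers_iff.1 hv
    have hpi : ¬ (p : ℤ) ∣ i := by
      rintro ⟨j, rfl⟩
      rw [zpow_mul, zpow_natCast, hMp h (hHM hh), one_zpow, mul_one] at hav
      exact hcA (hav ▸ ha)
    obtain ⟨s, t, hst⟩ := (Nat.prime_iff_prime_int.1 (Fact.out : p.Prime)).coprime_iff_not_dvd.2 hpi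
    have e : h = (h ^ i) ^ t := by
      rw [← zpow_mul]
      nth_rewrite 1 [← zpow_one h]
      rw [← hst, zpow_add, mul_comm s, zpow_mul, zpow_natCast, hMp h (hHM hh), one_zpow, one_mul, mul_comm]
    rw [e]
    refine zpow_mem ?_ t
    rw [show h ^ i = a⁻¹ * c by rw [← hav]; group]
    exact mul_mem (inv_mem (Subgroup.mem_sup_right ha)) (Subgroup.mem_sup_left hcZ)
  haveI hZn : Z.Normal := ⟨fun a ha g => by rw [hzc a ha g, mul_inv_cancel_right]; exact ha⟩
  have hAcard : Nat.card A * p = Nat.card H := by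
    refine le_antisymm ?_ ?_
    · -- the product is inside
      let ψ : A × Z → H := fun q => ⟨q.1 * q.2, mul_mem (hAH q.1.2) (hZH q.2.2)⟩
      have hinj : Function.Injective ψ := by
        rintro ⟨a, z⟩ ⟨a', z'⟩ he
        have he' : (a : P) * z = a' * z' := congrArg Subtype.val he
        have h1 : (a' : P)⁻¹ * a = z' * (z : P)⁻¹ := by
          calc (a' : P)⁻¹ * a = (a' : P)⁻¹ * (a * z) * (z : P)⁻¹ := by group
            _ = _ := by rw [he']; group
        have h2 : (a' : P)⁻¹ * a = 1 := by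
          by_contra h2
          refine hcA ?_
          have hmemA : (a' : P)⁻¹ * a ∈ A := mul_mem (inv_mem a'.2) a.2
          have hmemZ : (a' : P)⁻¹ * a ∈ Z := h1 ▸ mul_mem z'.2 (inv_mem z.2)
          have : Subgroup.zpowers ((a' : P)⁻¹ * a) = Z := Subgroup.eq_of_le_of_card_ge
            (Subgroup.zpowers_le.2 hmemZ) (by
              rw [hZc, Nat.card_zpowers, orderOf_eq_prime (hMp _ (hZM hmemZ)) h2])
          exact Subgroup.zpowers_le.2 hmemA (this ▸ hcZ)
        have ha : a = a' := Subtype.ext (inv_mul_eq_one.1 h2).symm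
        refine Prod.ext ha (Subtype.ext ?_)
        rw [ha] at he'
        exact mul_left_cancel he'
      have := Nat.card_le_card_of_injective ψ hinj
      rwa [Nat.card_prod, hZc] at this
    · refine (Subgroup.card_le_of_le hHA).trans (Nat.le_of_dvd (Nat.mul_pos Nat.card_pos (Fact.out : p.Prime).pos) ?_)
      exact hZc ▸ card_sup_dvd A Z |>.trans (by rw [mul_comm])
  set E := Subgroup.closure ({x, y} : Set P) with hE
  have hxE : x ∈ E := Subgroup.subset_closure (by simp)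
  have hyE : y ∈ E := Subgroup.subset_closure (by simp)
  have hcE : c ∈ E := by
    rw [hc, commutatorElement_def]
    exact mul_mem (mul_mem (mul_mem hxE hyE) (inv_mem hxE)) (inv_mem hyE)
  have hZE : Z ≤ E := hZz ▸ Subgroup.zpowers_le.2 hcE
  -- the centralizing part and `y` give all of `M`
  have hM : M ≤ E ⊔ A := by
    intro m hm
    obtain ⟨i, hi⟩ := Subgroup.mem_zpowers_iff.1 (hZz ▸ (φ ⟨m, hm⟩).2 : ((φ ⟨m, hm⟩ : Z) : P) ∈ Subgroup.zpowers c)
    have hker : m * y ^ (-i) ∈ H := by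
      refine ⟨⟨m, hm⟩ * ⟨y, hy⟩ ^ (-i), MonoidHom.mem_ker.2 (Subtype.ext ?_), rfl⟩
      rw [map_mul, map_zpow, Subgroup.coe_mul, Subgroup.coe_zpow, ← hi,
        show ((φ ⟨y, hy⟩ : Z) : P) = c from rfl, zpow_neg, mul_inv_cancel, Subgroup.coe_one]
    have h1 : m * y ^ (-i) ∈ E ⊔ A := (sup_le (hZE.trans le_sup_left) le_sup_right) (hHA hker)
    have := mul_mem h1 (Subgroup.mem_sup_left (zpow_mem hyE i) : y ^ i ∈ E ⊔ A)
    simpa [mul_assoc] using this
  have hsup : E ⊔ A = ⊤ := eq_top_iff.2 (htop ▸ sup_le (Subgroup.zpowers_le.2 (Subgroup.mem_sup_left hxE)) hM)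
  -- the two factors meet trivially
  let Y : Subgroup P := Subgroup.zpowers y ⊔ Z
  have hYM : Y ≤ M := sup_le (Subgroup.zpowers_le.2 hy) hZM
  haveI hYn : Y.Normal := ⟨fun a ha g => by
    have h1 : g * a * g⁻¹ * a⁻¹ ∈ Z := by rw [← commutatorElement_def]; exact hcomm g a
    simpa using mul_mem (Subgroup.mem_sup_right h1 : g * a * g⁻¹ * a⁻¹ ∈ Y) ha⟩
  have hEY : E ≤ Subgroup.zpowers x ⊔ Y := (Subgroup.closure_le _).2 (by
    rintro w (rfl | rfl)
    · exact Subgroup.mem_sup_left (Subgroup.mem_zpowers _)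
    · exact Subgroup.mem_sup_right (Subgroup.mem_sup_left (Subgroup.mem_zpowers _)))
  have hdisj : ∀ a ∈ E, a ∈ A → a = 1 := by
    intro a haE haA
    obtain ⟨u, hu, v, hv, rfl⟩ := Subgroup.mem_sup_of_normal_right.1 (hEY haE)
    obtain ⟨i, rfl⟩ := Subgroup.mem_zpowers_iff.1 hu
    obtain ⟨w, hw, z, hz, rfl⟩ := Subgroup.mem_sup_of_normal_right.1 hv
    obtain ⟨j, rfl⟩ := Subgroup.mem_zpowers_iff.1 hw
    have hxi : x ^ i = 1 := by
      have hxiM : x ^ i ∈ M := by
        have := mul_mem (hHM (hAH haA)) (inv_mem (hYM hv))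
        simpa [mul_assoc] using this
      by_contra hne
      refine hxM ?_
      have hpi : ¬ (p : ℤ) ∣ i := by
        rintro ⟨j, rfl⟩
        exact hne (by rw [zpow_mul, zpow_natCast, hxp, one_zpow])
      obtain ⟨s, t, hst⟩ := (Nat.prime_iff_prime_int.1 (Fact.out : p.Prime)).coprime_iff_not_dvd.2 hpi
      rw [← zpow_one x, ← hst, zpow_add, mul_comm s, zpow_mul, zpow_natCast, hxp, one_zpow, one_mul, mul_comm,
        zpow_mul]
      exact zpow_mem hxiM t
    rw [hxi, one_mul] at haA ⊢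
    have hyj : y ^ j = 1 := by
      have hyjH : y ^ j ∈ H := by
        have := mul_mem (hAH haA) (inv_mem (hZH hz))
        simpa [mul_assoc] using this
      by_contra hne
      refine hyx (hmemH.1 ?_).2
      have hpj : ¬ (p : ℤ) ∣ j := by
        rintro ⟨k, rfl⟩
        exact hne (by rw [zpow_mul, zpow_natCast, hMp y hy, one_zpow])
      obtain ⟨s, t, hst⟩ := (Nat.prime_iff_prime_int.1 (Fact.out : p.Prime)).coprime_iff_not_dvd.2 hpj
      rw [← zpow_one y, ← hst, zpow_add, mul_comm s, zpow_mul, zpow_natCast, hMp y hy, one_zpow, one_mul,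
        mul_comm, zpow_mul]
      exact zpow_mem hyjH t
    rw [hyj, one_mul] at haA ⊢
    by_contra hne
    refine hcA ?_
    have : Subgroup.zpowers z = Z := Subgroup.eq_of_le_of_card_ge (Subgroup.zpowers_le.2 hz) (by
      rw [hZc, Nat.card_zpowers, orderOf_eq_prime (hMp _ (hZM hz)) hne])
    exact Subgroup.zpowers_le.2 haA (this ▸ hcZ)
  have hbij : Function.Bijective (fun q : E × A => (q.1 : P) * q.2) := by
    refine ⟨fun q q' he => ?_, fun g => ?_⟩
    · have he' : (q.1 : P) * q.2 = q'.1 * q'.2 := he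
      have h1 : (q'.1 : P)⁻¹ * q.1 = q'.2 * (q.2 : P)⁻¹ := by
        calc (q'.1 : P)⁻¹ * q.1 = (q'.1 : P)⁻¹ * (q.1 * q.2) * (q.2 : P)⁻¹ := by group
          _ = _ := by rw [he']; group
      have h2 := hdisj _ (mul_mem (inv_mem q'.1.2) q.1.2) (h1 ▸ mul_mem q'.2.2 (inv_mem q.2.2))
      have h3 : q.1 = q'.1 := Subtype.ext (inv_mul_eq_one.1 h2).symm
      refine Prod.ext h3 (Subtype.ext ?_)
      rw [h3] at he'
      exact mul_left_cancel he'
    · obtain ⟨e, he, a, ha, hea⟩ := Subgroup.mem_sup_of_normal_right.1 (hsup ▸ Subgroup.mem_top g : g ∈ E ⊔ A)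
      exact ⟨(⟨e, he⟩, ⟨a, ha⟩), hea⟩
  refine ⟨E, A, y, hy, hyx, rfl, hZE, hAc, hAH.trans hHM, ?_, hbij⟩
  have h1 := Nat.card_eq_of_bijective _ hbij
  rw [Nat.card_prod] at h1
  have h2 := M.card_mul_index
  rw [hMi, ← hHcard, ← hAcard, ← h1] at h2
  refine Nat.eq_of_mul_eq_mul_right (Nat.card_pos (α := A)) ?_
  rw [← h2]; ring

omit [Finite P] [Fact p.Prime] in
/-- The splitting as a product. -/
theorem prod_equiv {E A : Subgroup P} (hA : A ≤ Subgroup.center P)
    (hbij : Function.Bijective (fun q : E × A => (q.1 : P) * q.2)) : Nonempty (P ≃* E × A) :=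
  ⟨(MulEquiv.ofBijective (MonoidHom.mk' (fun q : E × A => (q.1 : P) * q.2) fun q q' => by
    show (q.1 : P) * q'.1 * (q.2 * q'.2) = q.1 * q.2 * (q'.1 * q'.2)
    calc (q.1 : P) * q'.1 * (q.2 * q'.2) = q.1 * (q'.1 * q.2) * q'.2 := by group
      _ = q.1 * (q.2 * q'.1) * q'.2 := by rw [Subgroup.mem_center_iff.1 (hA q.2.2) q'.1]
      _ = _ := by group) hbij).symm⟩

/-- The odd case. -/
theorem exists_odd_split (hP : IsPGroup p P) (hp2 : p ≠ 2) {Z M : Subgroup P} (hZc : Nat.card Z = p)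
    (hZ : Z ≤ Subgroup.center P) (hcomm : ∀ a b : P, ⁅a, b⁆ ∈ Z) (hMi : M.index = p)
    (hMc : ∀ a ∈ M, ∀ b ∈ M, a * b = b * a) (hMp : ∀ a ∈ M, a ^ p = 1) (hZM : Z ≤ M)
    {x : P} (hxM : x ∉ M) (hxp : x ^ p = 1) (hna : ∃ m ∈ M, m * x ≠ x * m) :
    ∃ (E : Type) (_ : Group E) (A : Type) (_ : CommGroup A), IsExtraspecial p E ∧ Nat.card E = p ^ 3 ∧
      Monoid.exponent E = p ∧ (∀ a : A, a ^ p = 1) ∧ Nonempty (P ≃* E × A) := by
  obtain ⟨E, A, y, hy, hyx, hEdef, hZE, hAc, hAM, hEcard, hbij⟩ :=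
    exists_split hP hZc hZ hcomm hMi hMc hMp hZM hxM hxp hna
  obtain ⟨e⟩ := prod_equiv hAc hbij
  have hxE : x ∈ E := hEdef ▸ Subgroup.subset_closure (by simp)
  have hyE : y ∈ E := hEdef ▸ Subgroup.subset_closure (by simp)
  have hexp : ∀ a ∈ E, a ^ p = 1 := by
    intro a ha
    rw [hEdef] at ha
    induction ha using Subgroup.closure_induction with
    | mem w hw => rcases hw with rfl | rfl; exacts [hxp, hMp _ hy]
    | one => exact one_pow _
    | mul u v _ _ ihu ihv =>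
      rw [pow_prime_mul_of_class_two hp2 (fun g => (Subgroup.mem_center_iff.1 (hZ (hcomm v u)) g).symm)
        (by rw [ihv, one_mul, mul_one]), ihu, ihv, one_mul]
    | inv u _ ih => rw [inv_pow, ih, inv_one]
  obtain ⟨E', iE, iEf, ⟨fE⟩⟩ := exists_small_copy ↥E
  obtain ⟨A', iA, iAf, ⟨fA⟩⟩ := exists_small_copy ↥A
  let iA' : CommGroup A' := { iA with mul_comm := fun a b => fA.injective (by
    rw [map_mul, map_mul]
    exact Subtype.ext (Subgroup.mem_center_iff.1 (hAc (fA b).2) _)) }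
  have hE'p : IsPGroup p E' := (hP.to_subgroup E).of_equiv fE.symm
  have hne : (⟨x, hxE⟩ : E) * ⟨y, hyE⟩ ≠ ⟨y, hyE⟩ * ⟨x, hxE⟩ := fun h => hyx (congrArg Subtype.val h).symm
  -- the centre is the derived subgroup
  set ZE := Z.subgroupOf E
  have hZEc : Nat.card ZE = p := by rw [Nat.card_congr (Subgroup.subgroupOfEquivOfLe hZE).toEquiv, hZc]
  have hle : ZE ≤ Subgroup.center E := fun w hw => Subgroup.mem_center_iff.2 fun g =>
    Subtype.ext (Subgroup.mem_center_iff.1 (hZ hw) g)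
  have hcle : commutator E ≤ ZE := by
    rw [commutator_def]
    exact Subgroup.commutator_le.2 fun a _ b _ => hcomm (a : P) b
  have hcen : Nat.card (Subgroup.center E) = p := by
    obtain ⟨m, hm, -⟩ : ∃ m, Nat.card (Subgroup.center E) = p ^ m ∧ True := by
      obtain ⟨k, hk⟩ := ((hP.to_subgroup E).to_subgroup (Subgroup.center E)).exists_card_eq
      exact ⟨k, hk, trivial⟩
    have h1 : Nat.card (Subgroup.center E) ∣ p ^ 3 := hEcard ▸ Subgroup.card_subgroup_dvd_card _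
    rw [hm, Nat.pow_dvd_pow_iff_le_right (Fact.out : p.Prime).one_lt] at h1
    have h2 : 1 ≤ m := by
      have := Subgroup.card_le_of_le hle
      rw [hZEc, hm] at this
      exact Nat.one_le_iff_ne_zero.2 fun h => by
        rw [h, pow_zero] at this; exact absurd this (not_le.2 (Fact.out : p.Prime).one_lt)
    have h3 : m ≤ 1 := by
      by_contra h3
      have hcyc : IsCyclic (E ⧸ Subgroup.center E) := by
        have hq : Nat.card (E ⧸ Subgroup.center E) * p ^ m = p ^ 3 := by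
          rw [← hm, ← Subgroup.card_eq_card_quotient_mul_card_subgroup, hEcard]
        rcases (show m = 2 ∨ m = 3 by omega) with rfl | rfl
        · exact isCyclic_of_prime_card (p := p) (Nat.eq_of_mul_eq_mul_right (pow_pos (Fact.out : p.Prime).pos 2)
            (hq.trans (by ring)))
        · haveI : Subsingleton (E ⧸ Subgroup.center E) := (Nat.card_eq_one_iff_unique.1
            (Nat.eq_of_mul_eq_mul_right (pow_pos (Fact.out : p.Prime).pos 3) (hq.trans (one_mul _).symm))).1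
          infer_instance
      exact hne (commutative_of_cyclic_center_quotient (QuotientGroup.mk' (Subgroup.center E))
        (by rw [QuotientGroup.ker_mk']) _ _)
    rw [hm, show m = 1 by omega, pow_one]
  have hext : IsExtraspecial p E := by
    have heq : ZE = Subgroup.center E := Subgroup.eq_of_le_of_card_ge hle (by rw [hZEc, hcen])
    refine Solv.isExtraspecial_of (hP.to_subgroup E) hcen (le_antisymm (heq ▸ hcle) ?_) fun w => ?_
    · rw [← heq]
      have hc1 : ⁅(⟨x, hxE⟩ : E), (⟨y, hyE⟩ : E)⁆ ≠ 1 := fun h => hne (commutatorElement_eq_one_iff_mul_comm.1 h)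
      have hcm : ⁅(⟨x, hxE⟩ : E), (⟨y, hyE⟩ : E)⁆ ∈ commutator E :=
        Subgroup.commutator_mem_commutator (Subgroup.mem_top _) (Subgroup.mem_top _)
      have : Subgroup.zpowers ⁅(⟨x, hxE⟩ : E), (⟨y, hyE⟩ : E)⁆ = ZE :=
        Subgroup.eq_of_le_of_card_ge (Subgroup.zpowers_le.2 (hcle hcm)) (by
          rw [hZEc, Nat.card_zpowers, orderOf_eq_prime (Subtype.ext (hexp _ (Subtype.coe_prop _))) hc1])
      rw [← this]
      exact Subgroup.zpowers_le.2 hcm
    · rw [show w ^ p = 1 from Subtype.ext (hexp w w.2)]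
      exact one_mem _
  refine ⟨E', iE, A', iA', ?_, ?_, ?_, fun a => fA.injective (Subtype.ext ?_), ⟨e.trans (fE.symm.prodCongr fA.symm)⟩⟩
  · haveI := iEf
    have hcE' : Nat.card (Subgroup.center E') = p := by
      rw [Nat.card_congr (Subgroup.centerCongr fE).toEquiv, hcen]
    have hd : commutator E' = Subgroup.center E' := by
      have h1 := hext.1.2.2
      refine Subgroup.map_injective (f := fE.toMonoidHom) fE.injective ?_
      rw [commutator_def, Subgroup.map_commutator, Subgroup.map_top_of_surjective _ fE.surjective, ← commutator_def, h1]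
      ext w
      rw [Subgroup.mem_map_equiv, Subgroup.mem_center_iff, Subgroup.mem_center_iff]
      refine ⟨fun h g => fE.injective (by simpa using h (fE g)), fun h g => ?_⟩
      have := congrArg fE (h (fE.symm g))
      simpa using this
    refine Solv.isExtraspecial_of hE'p hcE' hd fun w => ?_
    rw [show w ^ p = 1 from fE.injective (Subtype.ext (by
      rw [map_pow, map_one, Subgroup.coe_pow, hexp _ (fE w).2]; rfl))]
    exact one_mem _
  · rw [Nat.card_congr fE.toEquiv, hEcard]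
  · rw [Monoid.exponent_eq_of_mulEquiv fE]
    refine ((Nat.dvd_prime Fact.out).1 (Monoid.exponent_dvd_iff_forall_pow_eq_one.2
      fun w => Subtype.ext (hexp w w.2))).resolve_left fun h => ?_
    haveI := Monoid.exp_eq_one_iff.1 h
    exact hne (Subsingleton.elim _ _)
  · rw [map_pow, map_one, Subgroup.coe_pow, hMp _ (hAM (fA a).2)]; rfl

/-- The case of two. -/
theorem exists_two_split {P : Type u} [Group P] [Finite P] (hP : IsPGroup 2 P) {Z M : Subgroup P}
    (hZc : Nat.card Z = 2) (hZ : Z ≤ Subgroup.center P) (hcomm : ∀ a b : P, ⁅a, b⁆ ∈ Z)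
    (hpow : ∀ a : P, a ^ 2 ∈ Z) (hMi : M.index = 2) (hMc : ∀ a ∈ M, ∀ b ∈ M, a * b = b * a)
    (hMp : ∀ a ∈ M, a ^ 2 = 1) (hZM : Z ≤ M) (hna : ∃ a b : P, a * b ≠ b * a) :
    ∃ (A : Type) (_ : CommGroup A), (∀ a : A, a ^ 2 = 1) ∧ Nonempty (P ≃* DihedralGroup 4 × A) := by
  classical
  haveI : Fact (Nat.Prime 2) := ⟨Nat.prime_two⟩
  obtain ⟨x₁, hx₁⟩ : ∃ x, x ∉ M := by
    by_contra h
    push Not at h
    rw [show M = ⊤ from eq_top_iff.2 fun a _ => h a, Subgroup.index_top] at hMi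
    omega
  have hxmy : ∃ m ∈ M, m * x₁ ≠ x₁ * m := by
    by_contra h
    push Not at h
    obtain ⟨a, b, hab⟩ := hna
    refine hab ?_
    have hdec : ∀ g, g ∈ M ∨ x₁⁻¹ * g ∈ M := fun g => by
      by_cases hg : g ∈ M
      · exact Or.inl hg
      · exact Or.inr ((Subgroup.mul_mem_iff_of_index_two hMi).2 (iff_of_false (fun h' => hx₁ (inv_mem_iff.1 h')) hg))
    rcases hdec a with ha | ha <;> rcases hdec b with hb | hb
    · exact hMc a ha b hb
    · have h1 := (show Commute a x₁ from h a ha).mul_right (show Commute a (x₁⁻¹ * b) from hMc a ha _ hb)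
      rwa [mul_inv_cancel_left] at h1
    · have h1 := (show Commute b x₁ from h b hb).mul_right (show Commute b (x₁⁻¹ * a) from hMc b hb _ ha)
      rw [mul_inv_cancel_left] at h1
      exact h1.eq.symm
    · have hab1 : Commute (x₁⁻¹ * a) (x₁⁻¹ * b) := hMc _ ha _ hb
      have ha1 : Commute (x₁⁻¹ * a) x₁ := h _ ha
      have hb1 : Commute (x₁⁻¹ * b) x₁ := h _ hb
      have h1 := (((Commute.refl x₁).mul_right hb1.symm).mul_left (ha1.mul_right hab1))
      rwa [mul_inv_cancel_left, mul_inv_cancel_left] at h1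
  obtain ⟨m₁, hm₁, hm₁x⟩ := hxmy
  -- an involution outside
  obtain ⟨u, huM, hu2⟩ : ∃ u, u ∉ M ∧ u ^ 2 = 1 := by
    by_cases h2 : x₁ ^ 2 = 1
    · exact ⟨x₁, hx₁, h2⟩
    refine ⟨x₁ * m₁, fun h => hx₁ ((mul_mem_cancel_right hm₁).1 h), ?_⟩
    have hz : x₁ ^ 2 = ⁅m₁, x₁⁆ := by
      have h3 : Subgroup.zpowers (x₁ ^ 2) = Z := Subgroup.eq_of_le_of_card_ge (Subgroup.zpowers_le.2 (hpow _)) (by
        rw [hZc, Nat.card_zpowers, orderOf_eq_prime (hMp _ (hZM (hpow _))) h2])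
      have hc : ⁅m₁, x₁⁆ ∈ Subgroup.zpowers (x₁ ^ 2) := h3 ▸ hcomm _ _
      obtain ⟨i, hi⟩ := Subgroup.mem_zpowers_iff.1 hc
      rcases Int.even_or_odd' i with ⟨k, rfl | rfl⟩
      · rw [zpow_mul, zpow_two, ← pow_two, hMp _ (hZM (hpow _)), one_zpow] at hi
        exact absurd (commutatorElement_eq_one_iff_mul_comm.1 hi.symm) hm₁x
      · rw [zpow_add, zpow_one, zpow_mul, zpow_two, ← pow_two, hMp _ (hZM (hpow _)), one_zpow, one_mul] at hi
        exact hi
    have hc2 : ⁅m₁, x₁⁆ * ⁅m₁, x₁⁆ = 1 := by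
      rw [← pow_two]; exact hMp _ (hZM (hcomm _ _))
    have hmm : m₁ * m₁ = 1 := by rw [← pow_two]; exact hMp _ hm₁
    calc (x₁ * m₁) ^ 2 = x₁ * (⁅m₁, x₁⁆ * (x₁ * m₁)) * m₁ := by
          rw [pow_two, commutatorElement_def]; group
      _ = x₁ * ((x₁ * m₁) * ⁅m₁, x₁⁆) * m₁ := by
          rw [Subgroup.mem_center_iff.1 (hZ (hcomm m₁ x₁)) (x₁ * m₁)]
      _ = x₁ * x₁ * (m₁ * m₁) * ⁅m₁, x₁⁆ := by
          rw [show x₁ * (x₁ * m₁ * ⁅m₁, x₁⁆) * m₁ = x₁ * x₁ * m₁ * (⁅m₁, x₁⁆ * m₁) by group,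
            ← Subgroup.mem_center_iff.1 (hZ (hcomm m₁ x₁)) m₁]
          group
      _ = 1 := by rw [hmm, mul_one, ← pow_two, hz, hc2]
  have hnu : ∃ m ∈ M, m * u ≠ u * m := by
    refine ⟨m₁, hm₁, fun h => hm₁x ?_⟩
    have hv : u⁻¹ * x₁ ∈ M := (Subgroup.mul_mem_iff_of_index_two hMi).2
      (iff_of_false (fun h' => huM (inv_mem_iff.1 h')) hx₁)
    have h1 := (show Commute m₁ u from h).mul_right (show Commute m₁ (u⁻¹ * x₁) from hMc _ hm₁ _ hv)
    rwa [mul_inv_cancel_left] at h1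
  obtain ⟨E, A, y, hy, hyu, hEdef, hZE, hAc, hAM, hEcard, hbij⟩ :=
    exists_split hP hZc hZ hcomm hMi hMc hMp hZM huM hu2 hnu
  obtain ⟨e⟩ := prod_equiv hAc hbij
  have huE : u ∈ E := hEdef ▸ Subgroup.subset_closure (by simp)
  have hyE : y ∈ E := hEdef ▸ Subgroup.subset_closure (by simp)
  have huu : u * u = 1 := by rw [← pow_two]; exact hu2
  have hyy : y * y = 1 := by rw [← pow_two]; exact hMp _ hy
  set r₀ : E := ⟨u * y, mul_mem huE hyE⟩ with hr₀
  set s₀ : E := ⟨u, huE⟩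
  have hs2 : s₀ * s₀ = 1 := Subtype.ext huu
  have hy2' : (⟨y, hyE⟩ : E) * ⟨y, hyE⟩ = 1 := Subtype.ext hyy
  have hrs : r₀ = s₀ * ⟨y, hyE⟩ := rfl
  have hsr : s₀ * r₀ * s₀⁻¹ = r₀⁻¹ := by
    rw [hrs, mul_inv_rev, inv_eq_of_mul_eq_one_right hy2', inv_eq_of_mul_eq_one_right hs2,
      ← mul_assoc, hs2, one_mul]
  have hr4 : r₀ ^ 4 = 1 := Subtype.ext (by
    rw [Subgroup.coe_pow, show (4 : ℕ) = 2 * 2 from rfl, pow_mul]
    exact hMp _ (hZM (hpow _)))
  have hcast : ∀ a b : ℕ, (a : ZMod 4) = b → r₀ ^ a = r₀ ^ b := fun a b h =>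
    pow_eq_pow_iff_modEq.2 (((ZMod.natCast_eq_natCast_iff a b 4).1 h).of_dvd (orderOf_dvd_of_pow_eq_one hr4))
  have hconj : ∀ k : ℕ, s₀ * r₀ ^ k * s₀⁻¹ = (r₀ ^ k)⁻¹ := fun k => by rw [← conj_pow, hsr, inv_pow]
  have hmulsr : ∀ i : ℕ, r₀ ^ i * s₀ = s₀ * (r₀ ^ i)⁻¹ := fun i => by
    rw [← hconj i, inv_eq_of_mul_eq_one_right hs2]
    rw [← mul_assoc, ← mul_assoc, hs2, one_mul]
  have hneg : ∀ i j : ZMod 4, (r₀ ^ i.val)⁻¹ * r₀ ^ j.val = r₀ ^ (j - i).val := fun i j => by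
    rw [inv_mul_eq_iff_eq_mul, ← pow_add]
    exact hcast _ _ (by push_cast; simp)
  let f : DihedralGroup 4 → E := fun d => match d with
    | DihedralGroup.r i => r₀ ^ i.val
    | DihedralGroup.sr i => s₀ * r₀ ^ i.val
  have hf : ∀ a b, f (a * b) = f a * f b := by
    rintro (i | i) (j | j)
    · show r₀ ^ (i + j).val = r₀ ^ i.val * r₀ ^ j.val
      rw [← pow_add]; exact hcast _ _ (by push_cast; simp)
    · show s₀ * r₀ ^ (j - i).val = r₀ ^ i.val * (s₀ * r₀ ^ j.val)
      rw [← mul_assoc, hmulsr, mul_assoc, hneg]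
    · show s₀ * r₀ ^ (i + j).val = s₀ * r₀ ^ i.val * r₀ ^ j.val
      rw [mul_assoc, ← pow_add]; exact congrArg _ (hcast _ _ (by push_cast; simp))
    · show r₀ ^ (j - i).val = s₀ * r₀ ^ i.val * (s₀ * r₀ ^ j.val)
      rw [← mul_assoc, mul_assoc s₀ _ s₀, hmulsr, ← mul_assoc, hs2, one_mul, hneg]
  let F := MonoidHom.mk' f hf
  have hFs : Function.Surjective F := by
    intro w
    have hle : E ≤ F.range.map E.subtype := by
      conv_lhs => rw [hEdef]
      refine (Subgroup.closure_le _).2 ?_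
      rintro v (rfl | rfl)
      · exact ⟨s₀, ⟨DihedralGroup.sr 0, by show s₀ * r₀ ^ (0 : ZMod 4).val = s₀; simp⟩, rfl⟩
      · refine ⟨⟨v, hyE⟩, ⟨DihedralGroup.sr 1, ?_⟩, rfl⟩
        show s₀ * r₀ ^ (1 : ZMod 4).val = _
        rw [show (1 : ZMod 4).val = 1 from rfl, pow_one, hrs, ← mul_assoc, hs2, one_mul]
    exact (Subgroup.mem_map_iff_mem E.subtype_injective).1 (hle w.2)
  have hFb : Function.Bijective F :=
    (Nat.bijective_iff_surjective_and_card _).2 ⟨hFs, by rw [DihedralGroup.nat_card, hEcard]; norm_num⟩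
  obtain ⟨A', iA, iAf, ⟨fA⟩⟩ := exists_small_copy ↥A
  let iA' : CommGroup A' := { iA with mul_comm := fun a b => fA.injective (by
    rw [map_mul, map_mul]
    exact Subtype.ext (Subgroup.mem_center_iff.1 (hAc (fA b).2) _)) }
  refine ⟨A', iA', fun a => fA.injective (Subtype.ext ?_),
    ⟨e.trans ((MulEquiv.ofBijective F hFb).symm.prodCongr fA.symm)⟩⟩
  rw [map_pow, map_one, Subgroup.coe_pow, hMp _ (hAM (fA a).2)]; rfl

end Cfsg.Agent.Local.FS
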