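import Cfsg.Agent.Lib.Local.FS.Constrained
import Cfsg.Agent.Lib.Local.FS.StableConstrained
import Cfsg.Agent.Lib.Local.FS.Transport
import Cfsg.Agent.Lib.Fusion.Reduction

/-!
Constrained fusion systems of groups pass to subnormal subgroups and to their central quotients.
-/

set_option autoImplicit false

namespace Cfsg.Agent.Local.FS

open Cfsg Cfsg.FusionSystem Cfsg.Agent.Fusion

universe u v

variable {G : Type u} [Group G] {p : ℕ} [Fact p.Prime]

omit [Fact p.Prime] in
theorem map_ofSubgroup_iff {H T P : Subgroup G} {hTH : T ≤ H} {f : G → G} :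
    Map (fusionSystemOfSubgroup H T hTH) P f ↔
      P ≤ T ∧ (∀ x ∈ P, f x ∈ T) ∧ ∃ g ∈ H, ∀ x ∈ P, f x = g * x * g⁻¹ := by
  constructor
  · intro h
    refine ⟨h.le, fun x hx => h.mem hx, ?_⟩
    obtain ⟨φ, ⟨-, -, g, hgH, hg⟩, he⟩ := h
    exact ⟨g, hgH, fun x hx => by rw [← he ⟨x, hx⟩, hg]⟩
  · rintro ⟨hP, hm, g, hgH, hg⟩
    refine ⟨conjHom P g, ⟨hP, fun x => ?_, g, hgH, fun x => rfl⟩, fun x => ?_⟩
    · show g * (x : G) * g⁻¹ ∈ T
      exact hg x x.2 ▸ hm x x.2
    · show g * (x : G) * g⁻¹ = _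
      exact (hg x x.2).symm

/-- A self-centralizing normal subgroup of the system of the group. -/
def GroupCons (P : Subgroup G) : Prop :=
  ∃ W : Subgroup G, (groupFusionSystem P).IsNormal W ∧ centralizerIn P W ≤ W

theorem groupCons_of_constrained {P : Subgroup G} (h : (groupFusionSystem P).IsConstrained p) : GroupCons P := by
  obtain ⟨-, W, hW, hC⟩ := h
  exact ⟨W, hW, hC.2 W (isConj_refl hW.1)⟩

theorem constrained_of_groupCons [Finite G] {P : Subgroup G} (hP : SylIn p P ⊤) (h : GroupCons P) :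
    (groupFusionSystem P).IsConstrained p := by
  obtain ⟨W, hW, hC⟩ := h
  refine ⟨group_saturated hP, W, hW, hW.1, fun R hR => ?_⟩
  rw [eq_of_isConj_stronglyClosed (normal_stronglyClosed hW) hR]
  exact hC

omit [Fact p.Prime] in
theorem groupCons_map [Finite G] {Y : Type v} [Group Y] [Finite Y] (e : G ≃* Y) {P : Subgroup G} (h : GroupCons P) :
    GroupCons (P.map e.toMonoidHom) := by
  obtain ⟨W, hW, hC⟩ := h
  refine ⟨W.map e.toMonoidHom, isNormal_of_conj (Subgroup.map_mono hW.1) fun A hA g hg => ?_, ?_⟩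
  · obtain ⟨g, rfl⟩ := e.surjective g
    obtain ⟨k, hk, hkA⟩ := exists_conj_of_isNormal hW (A := A.comap e.toMonoidHom)
      (fun a ha => (Subgroup.mem_map_iff_mem (f := e.toMonoidHom) e.injective).1 (hA ha)) (g := g) fun a ha =>
        (Subgroup.mem_map_iff_mem (f := e.toMonoidHom) e.injective).1 (by
          show e (g * a * g⁻¹) ∈ _
          rw [map_mul, map_mul, map_inv]; exact hg _ ha)
    refine ⟨e k, Subgroup.le_normalizer_map e.toMonoidHom ⟨k, hk, rfl⟩, fun a ha => ?_⟩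
    obtain ⟨a, rfl⟩ := e.surjective a
    rw [← map_inv, ← map_inv, ← map_mul, ← map_mul, ← map_mul, ← map_mul, hkA a ha]
  · intro y hy
    obtain ⟨⟨x, hx, rfl⟩, hc⟩ := mem_centralizerIn.1 hy
    refine ⟨x, hC (mem_centralizerIn.2 ⟨hx, fun w hw => e.injective ?_⟩), rfl⟩
    rw [map_mul, map_mul]
    exact hc _ ⟨w, hw, rfl⟩

variable [Finite G]

omit [Fact p.Prime] in
/-- The system of a normal subgroup, moved into the subgroup. -/
theorem sylIn_subgroupOf {T N : Subgroup G} (hT : SylIn p T N) : SylIn p (T.subgroupOf N) (⊤ : Subgroup N) :=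
  ⟨le_top, hT.isPGroup.comap_subtype, by rw [Subgroup.relIndex_top_right]; exact hT.not_dvd⟩

theorem ofSubgroup_saturated {T N : Subgroup G} (hT : SylIn p T N) :
    (fusionSystemOfSubgroup N T hT.le).IsSaturated p := by
  let i : T →* N := Subgroup.inclusion hT.le
  have hinj : Function.Injective i := Subgroup.inclusion_injective hT.le
  have hr : i.range = T.subgroupOf N := by
    ext x
    exact ⟨fun ⟨y, hy⟩ => hy ▸ y.2, fun hx => ⟨⟨x, hx⟩, rfl⟩⟩
  refine FIso.saturated (i := i) (F' := groupFusionSystem (T.subgroupOf N)) ⟨hinj, hr, fun P hP f hm => ?_⟩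
    hT.isPGroup (group_saturated (sylIn_subgroupOf hT))
  rw [map_ofSubgroup_iff, map_group_iff]
  have hv : ∀ x ∈ T, ve i (ue i x) = x := fun x hx => by
    rw [ue_apply hx, ve, Function.leftInverse_invFun hinj ⟨x, hx⟩]
  constructor
  · rintro ⟨-, -, g, hgN, hg⟩
    refine ⟨?_, ?_, ⟨g, hgN⟩, ?_⟩
    · rintro _ ⟨x, -, rfl⟩
      exact hr ▸ ⟨x, rfl⟩
    · rintro y hy
      obtain ⟨x, hx, rfl⟩ := (mem_up hP).1 hy
      show ue i (f (ve i (ue i x))) ∈ _
      rw [hv x (hP hx), ue_apply (hm x hx)]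
      exact hr ▸ ⟨_, rfl⟩
    · rintro y hy
      obtain ⟨x, hx, rfl⟩ := (mem_up hP).1 hy
      show ue i (f (ve i (ue i x))) = _
      rw [hv x (hP hx), ue_apply (hm x hx), ue_apply (hP hx)]
      exact Subtype.ext (hg x hx)
  · rintro ⟨-, -, g, hg⟩
    refine ⟨hP, hm, g, g.2, fun x hx => ?_⟩
    have h1 := hg (ue i x) (ue_mem_up hP hx)
    rw [hv x (hP hx), ue_apply (hm x hx), ue_apply (hP hx)] at h1
    exact congrArg Subtype.val h1

/-- Constrained systems of groups pass to normal subgroups. -/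
theorem groupCons_normal {P : Subgroup G} (hP : SylIn p P ⊤) (N : Subgroup G) [N.Normal]
    (h : (groupFusionSystem P).IsConstrained p) :
    (groupFusionSystem (P.subgroupOf N)).IsConstrained p := by
  have hT : SylIn p (P ⊓ N) N := hP.inf_normal le_top (by rw [Subgroup.normalizer_eq_top])
  have hsub : (fusionSystemOfSubgroup N (P ⊓ N) hT.le).IsSubsystemOf (groupFusionSystem P) := by
    rintro A φ ⟨hA, hm, g, -, hg⟩
    exact ⟨hA.trans inf_le_left, fun x => (hm x).1, g, hg⟩
  have hsc : (groupFusionSystem P).StronglyClosed (P ⊓ N) := by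
    refine stronglyClosed_iff.2 ⟨inf_le_left, fun A f hA hf x hx => ⟨hf.mem hx, ?_⟩⟩
    obtain ⟨-, -, g, hg⟩ := map_group_iff.1 hf
    rw [hg x hx]
    exact Subgroup.Normal.conj_mem inferInstance x (hA hx).2 g
  obtain ⟨-, W, hW, hC⟩ := constrained_of_sub hP.isPGroup h hsc hsub (ofSubgroup_saturated hT)
  have hPN : P.subgroupOf N = (P ⊓ N).subgroupOf N := (Subgroup.inf_subgroupOf_right P N).symm
  rw [hPN]
  refine constrained_of_groupCons (sylIn_subgroupOf hT) ⟨W.subgroupOf N, isNormal_of_conj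
    (fun x hx => hW.1 hx) fun A hA g hg => ?_, ?_⟩
  · obtain ⟨f, hf, hfA, hfW⟩ := (normal_iff.1 hW).2 (A.map N.subtype) (fun x => (g : G) * x * (g : G)⁻¹)
      (map_ofSubgroup_iff.2 ⟨by rintro _ ⟨a, ha, rfl⟩; exact hA ha,
        by rintro _ ⟨a, ha, rfl⟩; exact hg a ha, g, g.2, fun _ _ => rfl⟩)
    obtain ⟨-, -, k, hkN, hk⟩ := map_ofSubgroup_iff.1 hf
    have hkW : k ∈ Subgroup.normalizer (W : Set G) := mem_normalizer_of_cj_le (by
      rw [← im_conj, ← im_congr fun x hx => hk x (Subgroup.mem_sup_right hx)]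
      exact hfW.le)
    refine ⟨⟨k, hkN⟩, Subgroup.mem_normalizer_iff.2 fun w => ?_, fun a ha => Subtype.ext ?_⟩
    · exact Subgroup.mem_normalizer_iff.1 hkW (w : G)
    · show k * (a : G) * k⁻¹ = (g : G) * a * (g : G)⁻¹
      rw [← hk a (Subgroup.mem_sup_left ⟨a, ha, rfl⟩)]
      exact hfA a ⟨a, ha, rfl⟩
  · intro x hx
    obtain ⟨hxT, hc⟩ := mem_centralizerIn.1 hx
    exact hC.2 W (isConj_refl hW.1) (mem_centralizerIn.2 ⟨hxT, fun w hw =>
      congrArg Subtype.val (hc ⟨w, hT.le (hW.1 hw)⟩ hw)⟩)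

omit [Finite G] in
/-- Constrained systems of groups pass to subnormal subgroups. -/
theorem constrained_subnormal [Finite G] {P : Subgroup G} (hP : SylIn p P ⊤)
    (h : (groupFusionSystem P).IsConstrained p) {H : Subgroup G} (hH : H.IsSubnormal) :
    SylIn p (P ⊓ H) H ∧ (groupFusionSystem (P.subgroupOf H)).IsConstrained p := by
  induction hH with
  | top =>
    refine ⟨by rwa [inf_top_eq], ?_⟩
    have hs : SylIn p (P.subgroupOf ⊤) (⊤ : Subgroup (⊤ : Subgroup G)) := sylIn_subgroupOf hP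
    have he : P.map (Subgroup.topEquiv (G := G)).symm.toMonoidHom = P.subgroupOf ⊤ := by
      ext x
      exact Subgroup.mem_map_equiv
    exact constrained_of_groupCons hs (he ▸ groupCons_map _ (groupCons_of_constrained h))
  | step H K hle _ hN ih =>
    obtain ⟨hK, hKc⟩ := ih
    haveI := hN
    have hsK : SylIn p (P.subgroupOf K) (⊤ : Subgroup K) := by
      rw [← Subgroup.inf_subgroupOf_right P K]; exact sylIn_subgroupOf hK
    have hH : SylIn p (P ⊓ H) H := by
      have h := hK.inf_normal hle (Subgroup.normal_subgroupOf_iff_le_normalizer hle |>.1 hN)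
      rwa [inf_assoc, inf_eq_right.2 hle] at h
    refine ⟨hH, constrained_of_groupCons ?_ ?_⟩
    · rw [← Subgroup.inf_subgroupOf_right P H]; exact sylIn_subgroupOf hH
    have hc := groupCons_map (Subgroup.subgroupOfEquivOfLe hle)
      (groupCons_of_constrained (groupCons_normal hsK (H.subgroupOf K) hKc))
    convert hc using 1
    ext x
    rw [Subgroup.mem_map_equiv]
    rfl

/-- Constrained systems of groups pass to the quotient by the centre. -/
theorem constrained_mod_center {P : Subgroup G} (hP : SylIn p P ⊤)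
    (h : (groupFusionSystem P).IsConstrained p) :
    (groupFusionSystem (P.map (QuotientGroup.mk' (Subgroup.center G)))).IsConstrained p := by
  obtain ⟨hFs, W₀, hW₀, hW₀C⟩ := h
  have hS := hP.isPGroup
  obtain ⟨π, hπ⟩ : ∃ π, π = QuotientGroup.mk' (Subgroup.center G) := ⟨_, rfl⟩
  rw [← hπ]
  have hQ := core_normal hS hFs (F := groupFusionSystem P)
  have hQC : (groupFusionSystem P).IsCentric (groupFusionSystem P).core := centric_mono hW₀C (le_sSup hW₀) hQ.1
  generalize hQd : (groupFusionSystem P).core = Q at hQ hQC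
  have hcent : ∀ z ∈ Subgroup.center G, ∀ g : G, g * z * g⁻¹ = z := fun z hz g => by
    rw [Subgroup.mem_center_iff.1 hz g, mul_inv_cancel_right]
  have hZ : (groupFusionSystem P).StronglyClosed (P ⊓ Subgroup.center G) := by
    refine stronglyClosed_iff.2 ⟨inf_le_left, fun A f hA hf x hx => ?_⟩
    obtain ⟨-, -, g, hg⟩ := map_group_iff.1 hf
    rw [hg x hx, hcent x (hA hx).2]
    exact hA hx
  have hZQ : P ⊓ Subgroup.center G ≤ Q := fun x hx => hQC.2 Q (isConj_refl hQ.1)
    (mem_centralizerIn.2 ⟨hx.1, fun y _ => Subgroup.mem_center_iff.1 hx.2 y⟩)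
  have hker : ∀ x : G, π x = 1 ↔ x ∈ Subgroup.center G := fun x => by
    rw [hπ]; exact QuotientGroup.eq_one_iff x
  have hPp : ∀ x : G, π x ∈ P.map π → IsPGroup p (Subgroup.zpowers x) → x ∈ P := by
    rintro x ⟨y, hy, hyx⟩ hx
    have hxN : x ∈ Subgroup.normalizer (P : Set G) := by
      have hz : y⁻¹ * x ∈ Subgroup.center G := (hker _).1 (by rw [map_mul, map_inv, hyx, inv_mul_cancel])
      rw [show x = y * (y⁻¹ * x) by group]
      exact mul_mem (Subgroup.le_normalizer hy)
        (((Subgroup.center_le_centralizer (P : Set G)).trans (Subgroup.centralizer_le_normalizer _)) hz)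
    have hsup : IsPGroup p (P ⊔ Subgroup.zpowers x : Subgroup G) :=
      hS.to_sup_of_normal_left' hx (Subgroup.zpowers_le.2 hxN)
    rw [← hP.eq_of_le hsup le_sup_left le_top]
    exact Subgroup.mem_sup_right (Subgroup.mem_zpowers x)
  have hsyl : SylIn p (P.map π) ⊤ := hπ ▸ sylIn_map_mk hP
  refine constrained_of_groupCons hsyl ⟨Q.map π, isNormal_of_conj (Subgroup.map_mono hQ.1)
    fun A hA g hg => ?_, ?_⟩
  · obtain ⟨g, rfl⟩ := (hπ ▸ QuotientGroup.mk'_surjective _ : Function.Surjective π) g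
    obtain ⟨k, hk, hkA⟩ := exists_conj_of_isNormal hQ (A := P ⊓ A.comap π) inf_le_left (g := g) fun a ha => by
      refine hPp _ ?_ ?_
      · rw [map_mul, map_mul, map_inv]; exact hg _ ha.2
      · exact (hS.map (MulAut.conj g).toMonoidHom).to_le (Subgroup.zpowers_le.2 ⟨a, ha.1, rfl⟩)
    refine ⟨π k, Subgroup.le_normalizer_map π ⟨k, hk, rfl⟩, fun a ha => ?_⟩
    obtain ⟨b, hb, rfl⟩ := hA ha
    rw [← map_inv, ← map_inv, ← map_mul, ← map_mul, ← map_mul, ← map_mul, hkA b ⟨hb, ha⟩]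
  · intro y hy
    obtain ⟨⟨x, hx, rfl⟩, hc⟩ := mem_centralizerIn.1 hy
    refine ⟨x, ?_, rfl⟩
    have hle : chainStab P Q (P ⊓ Subgroup.center G) ≤ Q := by
      rw [← hQd]
      exact le_sSup (show chainStab P (groupFusionSystem P).core (P ⊓ Subgroup.center G) ∈
        {U : Subgroup G | (groupFusionSystem P).IsNormal U} from
          chainStab_normal hS hFs (hQd ▸ hQ) (hQd ▸ hQC) hZ (hQd ▸ hZQ))
    refine hle ⟨hx, fun q hq => hcent q hq.2 x, fun q hq => ⟨?_, (hker _).1 ?_⟩⟩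
    · exact P.mul_mem (P.inv_mem (hQ.1 hq)) (P.mul_mem (P.mul_mem hx (hQ.1 hq)) (P.inv_mem hx))
    · have h1 := hc (π q) ⟨q, hq, rfl⟩
      rw [map_mul, map_mul, map_mul, map_inv, map_inv, ← h1]
      group

end Cfsg.Agent.Local.FS
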