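import Cfsg.Agent.S5118
import Cfsg.Agent.Lib.Local.FS.Focal
import Cfsg.Agent.Lib.Local.FS.Sub

/-!
Two saturated subsystems on the same subgroup, with automizers between `O^p` of the ambient ones, are equal.
-/

set_option autoImplicit false

namespace Cfsg.Agent.Local.FS

open Cfsg Cfsg.FusionSystem Cfsg.Agent.Fusion

variable {Ω : Type*} [Group Ω] {S T : Subgroup Ω} [Finite S] {p : ℕ} [Fact p.Prime]

theorem map_of_residual_le {F : FusionSystem S} {D E : FusionSystem T} (hT : T ≤ S) (hTp : IsPGroup p T)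
    (hD : D.IsSaturated p) (hDF : D.IsSubsystemOf F)
    (hE : ∀ P : Subgroup Ω, P ≤ T → (pResidual p ↥(F.autGroup P)).map (F.autGroup P).subtype ≤ E.autGroup P)
    {P : Subgroup Ω} {f : Ω → Ω} (hf : Map D P f) : Map E P f := by
  haveI := finite_of_le hT
  refine alperin hTp hD (isClosedClass_map _) (fun R hR α hα => ?_) P f hf
  have hfn := gen_fn hR
  haveI := mulAut_finite_of_le hfn.1
  obtain ⟨β, hβ, γ, hγ, rfl⟩ := exists_autS_mul_residual hTp hD hfn hα
  refine map_of_mem_autGroup hfn.1 (Subgroup.mul_mem _ (autInducedBy_le_autGroup hfn.1 hβ) (hE R hfn.1 ?_))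
  have hle : D.autGroup R ≤ F.autGroup R := fun δ hδ =>
    mem_autGroup_of_map ((map_of_mem_autGroup hfn.1 hδ).of_sub hDF)
  have h1 : (pResidual p ↥(D.autGroup R)).map (Subgroup.inclusion hle) ≤ pResidual p ↥(F.autGroup R) := by
    rw [pResidual, pResidual, MonoidHom.map_closure]
    refine Subgroup.closure_mono ?_
    rintro _ ⟨g, hg, rfl⟩
    exact Nat.Coprime.coprime_dvd_left (orderOf_map_dvd _ g) hg
  exact ⟨Subgroup.inclusion hle γ, h1 ⟨γ, hγ, rfl⟩, rfl⟩

theorem residual_le_sub {G : Type*} [Group G] [Finite G] (S : Sylow p G) {P : Subgroup G}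
    (hP : P ≤ (S : Subgroup G) ⊓ pResidual p G) :
    (pResidual p ↥((groupFusionSystem (S : Subgroup G)).autGroup P)).map
        ((groupFusionSystem (S : Subgroup G)).autGroup P).subtype ≤
      (fusionSystemOfSubgroup (pResidual p G) ((S : Subgroup G) ⊓ pResidual p G) inf_le_right).autGroup P := by
  set N := pResidual p G with hN
  set F := groupFusionSystem (S : Subgroup G) with hF
  have hPS : P ≤ (S : Subgroup G) := hP.trans inf_le_left
  rintro _ ⟨a, ha, rfl⟩
  haveI := mulAut_finite_of_le hPS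
  have hmem : ∃ g ∈ N, ∀ y ∈ P, av (a : MulAut P) y = g * y * g⁻¹ := by
    induction ha using Subgroup.closure_induction with
    | mem a ha =>
      obtain ⟨-, -, g, hg⟩ := map_group_iff.1 (map_of_mem_autGroup hPS a.2)
      obtain ⟨k, m, hm, hkm⟩ := Nat.exists_eq_pow_mul_and_not_dvd (orderOf_pos g).ne' p (Nat.Prime.ne_one Fact.out)
      have hgn : g ^ p ^ k ∈ N := by
        refine Subgroup.subset_closure ?_
        show Nat.Coprime _ p
        rw [orderOf_pow' _ (pow_ne_zero _ (Nat.Prime.ne_zero Fact.out)), hkm, Nat.gcd_mul_right_left,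
          Nat.mul_div_cancel_left _ (pow_pos (Nat.Prime.pos Fact.out) k)]
        exact ((Nat.Prime.coprime_iff_not_dvd Fact.out).2 hm).symm
      obtain ⟨i, hi⟩ := exists_pow_eq_self_of_coprime (x := (a : MulAut P)) (n := p ^ k) (by
        rw [Subgroup.orderOf_coe]
        exact (Nat.Coprime.pow_right k ha).symm)
      have hpow : ∀ n : ℕ, ∀ y ∈ P, av ((a : MulAut P) ^ n) y = g ^ n * y * (g ^ n)⁻¹ := by
        intro n
        induction n with
        | zero => intro y hy; simp [av_one hy]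
        | succ n ih =>
          intro y hy
          rw [pow_succ', av_mul _ _ hy, hg _ (av_mem _ hy), ih y hy, pow_succ']; group
      refine ⟨(g ^ p ^ k) ^ i, N.pow_mem hgn i, fun y hy => ?_⟩
      rw [← pow_mul, ← hpow _ y hy, pow_mul, hi]
    | one => exact ⟨1, N.one_mem, fun y hy => by simp [av_one hy]⟩
    | mul a b _ _ iha ihb =>
      obtain ⟨g, hg, hga⟩ := iha
      obtain ⟨h, hh, hhb⟩ := ihb
      refine ⟨g * h, N.mul_mem hg hh, fun y hy => ?_⟩
      rw [Subgroup.coe_mul, av_mul _ _ hy, hga _ (av_mem _ hy), hhb y hy]; group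
    | inv a _ iha =>
      obtain ⟨g, hg, hga⟩ := iha
      refine ⟨g⁻¹, N.inv_mem hg, fun y hy => ?_⟩
      have h := hga _ (av_mem ((a : MulAut P))⁻¹ hy)
      rw [av_av_inv (a : MulAut P) hy] at h
      rw [Subgroup.coe_inv]
      calc av (a : MulAut P)⁻¹ y = g⁻¹ * (g * av (a : MulAut P)⁻¹ y * g⁻¹) * g⁻¹⁻¹ := by group
        _ = _ := by rw [← h]
  obtain ⟨g, hg, hga⟩ := hmem
  refine mem_autGroup_of_map ⟨MonoidHom.mk' (fun y : P => av (a : MulAut P) (y : G)) fun x y => ?_, ?_, fun y => rfl⟩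
  · show av _ ((x : G) * y) = _
    rw [hga _ (P.mul_mem x.2 y.2), hga _ x.2, hga _ y.2]; group
  · exact ⟨hP, fun y => hP (av_mem _ y.2), g, hg, fun y => hga y y.2⟩

theorem groupResidual_hom {G : Type*} [Group G] [Finite G] (S : Sylow p G) {T : Subgroup G}
    (hT : T = (S : Subgroup G) ⊓ pResidual p G) (E : FusionSystem T) (hE : E.IsSaturated p)
    (hEF : E.IsSubsystemOf (groupFusionSystem (S : Subgroup G)))
    (hres : ∀ P : Subgroup G, P ≤ T → (pResidual p ↥((groupFusionSystem (S : Subgroup G)).autGroup P)).map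
      ((groupFusionSystem (S : Subgroup G)).autGroup P).subtype ≤ E.autGroup P) (P : Subgroup G) :
    E.Hom P = (fusionSystemOfSubgroup (pResidual p G) ((S : Subgroup G) ⊓ pResidual p G) inf_le_right).Hom P := by
  subst hT
  haveI : (pResidual p G).Normal := Subgroup.normal_of_characteristic _
  obtain ⟨⟨hD, -, hDF, -⟩, -⟩ := Cfsg.Agent.S5118.result p S (pResidual p G)
  have hTp : IsPGroup p ↥((S : Subgroup G) ⊓ pResidual p G) := S.2.to_le inf_le_left
  ext φ
  refine mem_iff_map.trans (Iff.trans ⟨fun h => ?_, fun h => ?_⟩ mem_iff_map.symm)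
  · exact map_of_residual_le inf_le_left hTp hE hEF (fun Q hQ => residual_le_sub S hQ) h
  · exact map_of_residual_le inf_le_left hTp hD hDF hres h

end Cfsg.Agent.Local.FS
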