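import Cfsg.Agent.Lib.Local.FS.HSUnitaryData
import Cfsg.Agent.Lib.Classical.UnitaryOrders
import Cfsg.Prelude.Def_Classical

/-!
The action of the three-dimensional special unitary group over twenty-five elements on the 126 isotropic points.
-/

set_option autoImplicit false
set_option maxRecDepth 100000
set_option maxHeartbeats 2000000

namespace Cfsg.Agent.Local.FS.HSUnitary

open Matrix Cfsg.Agent.Classical

/-- the field used for computation -/
abbrev R25 := QuadraticAlgebra (ZMod 5) 2 0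

/-- the element with a given code -/
def dec25 (n : ℕ) : R25 := ⟨((n % 5 : ℕ) : ZMod 5), ((n / 5 : ℕ) : ZMod 5)⟩

/-- the code of a product -/
def m25 (a b : ℕ) : ℕ :=
  ((a % 5) * (b % 5) + 2 * ((a / 5) * (b / 5))) % 5 + 5 * (((a % 5) * (b / 5) + (a / 5) * (b % 5)) % 5)

/-- the code of a sum -/
def a25 (a b : ℕ) : ℕ := (a % 5 + b % 5) % 5 + 5 * ((a / 5 + b / 5) % 5)

/-- a digit in base twenty-five -/
def dig (n : ℕ) : ℕ → ℕ
  | 0 => n % 25
  | 1 => n / 25 % 25
  | _ => n / 625 % 25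

/-- the code of a sixth power -/
def n25 (a : ℕ) : ℕ := m25 a (m25 a (m25 a (m25 a (m25 a a))))

/-- the code of a form value -/
def iso25 (n : ℕ) : ℕ := a25 (a25 (n25 (dig n 0)) (n25 (dig n 1))) (n25 (dig n 2))

/-- a scalar multiple -/
def sm25 (c n : ℕ) : ℕ := m25 c (dig n 0) + 25 * m25 c (dig n 1) + 625 * m25 c (dig n 2)

/-- a value of a row -/
def row25 (r n : ℕ) : ℕ :=
  a25 (a25 (m25 (dig r 0) (dig n 0)) (m25 (dig r 1) (dig n 1))) (m25 (dig r 2) (dig n 2))

/-- the mask of a list -/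
def maskOf (l : List ℕ) : ℕ := l.foldr (fun a m => 2 ^ a ||| m) 0

/-- the multiples of the isotropic vectors -/
def isoMultiples : List ℕ := isoCodes.flatMap fun v => (List.range 24).map fun c => sm25 (c + 1) v

/-- the code of an isotropic point -/
def iv (j : Fin 126) : ℕ := isoCodes.getD j 0

/-- the rows of a generating matrix -/
def mrow (s : Fin 2) (i : Fin 3) : ℕ := (matCodes.getD s []).getD i 0

/-- the generating matrix over the field of computation -/
def matR (s : Fin 2) : Matrix (Fin 3) (Fin 3) R25 := fun i k => dec25 (dig (mrow s i) k)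

/-- the permutation of the points -/
def sigv (s : Fin 2) (j : Fin 126) : Fin 126 := Fin.ofNat 126 ((sig.getD s 0 >>> (7 * (j : ℕ))) % 128)

theorem testBit_maskOf : ∀ (l : List ℕ) (j : ℕ), (maskOf l).testBit j = true ↔ j ∈ l
  | [], j => by simp [maskOf]
  | a :: l, j => by
    show (2 ^ a ||| maskOf l).testBit j = true ↔ _
    rw [Nat.testBit_or, Bool.or_eq_true, Nat.testBit_two_pow, decide_eq_true_eq, testBit_maskOf l j,
      List.mem_cons]
    exact or_congr_left eq_comm

theorem arith_ok : ∀ a : Fin 25, ∀ b : Fin 25, dec25 (m25 a b) = dec25 a * dec25 b ∧ dec25 (a25 a b) = dec25 a + dec25 b ∧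
    m25 a b < 25 ∧ a25 a b < 25 ∧ (dec25 a = dec25 b → a = b) := by decide +kernel

theorem inv_exists : ∀ x y : ZMod 5, (⟨x, y⟩ : R25) ≠ 0 → ∃ u v : ZMod 5, (⟨x, y⟩ : R25) * ⟨u, v⟩ = 1 := by
  decide +kernel

theorem dec25_surj : ∀ x y : ZMod 5, ∃ n : Fin 25, dec25 n = (⟨x, y⟩ : R25) := by decide +kernel

theorem iso_cover : ((List.range 15625).all fun n =>
    !(iso25 n == 0) || n == 0 || (maskOf isoMultiples).testBit n) = true := by decide +kernel

theorem iso_points : ((List.range 126).all fun j =>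
    iso25 (isoCodes.getD j 0) == 0 && !(isoCodes.getD j 0 == 0) && Nat.blt (isoCodes.getD j 0) 15625) = true ∧
      isoCodes.length = 126 := by
  refine ⟨?_, ?_⟩ <;> decide +kernel

theorem iso_distinct : ((List.range 24).all fun c => isoCodes.all fun v =>
    !((maskOf isoCodes).testBit (sm25 (c + 1) v)) || (c == 0 && sm25 (c + 1) v == v)) = true ∧ isoCodes.Nodup := by
  refine ⟨?_, ?_⟩ <;> decide +kernel

theorem mat_det : ∀ s : Fin 2, (matR s).det = 1 := by decide +kernel

theorem mat_unitary : ∀ s : Fin 2, (matR s)ᵀ * (matR s).map (fun r => r * r * r * r * r) = 1 := by decide +kernel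

theorem mat_moves : ((List.range 2).all fun s => (List.range 126).all fun j =>
    Nat.blt ((sig.getD s 0 >>> (7 * j)) % 128) 126 && Nat.blt ((scal.getD s []).getD j 0) 25 &&
      (List.range 3).all fun i =>
        row25 ((matCodes.getD s []).getD i 0) (isoCodes.getD j 0) ==
          m25 ((scal.getD s []).getD j 0) (dig (isoCodes.getD ((sig.getD s 0 >>> (7 * j)) % 128) 0) i)) = true := by
  decide +kernel

section Field

variable {F : Type*} [Field F] [Fintype F]

theorem dig_lt (n k : ℕ) : dig n k < 25 := by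
  rcases k with _ | _ | k <;> exact Nat.mod_lt _ (by norm_num)

theorem dec_mul {a b : ℕ} (ha : a < 25) (hb : b < 25) : dec25 (m25 a b) = dec25 a * dec25 b :=
  (arith_ok ⟨a, ha⟩ ⟨b, hb⟩).1

theorem dec_add {a b : ℕ} (ha : a < 25) (hb : b < 25) : dec25 (a25 a b) = dec25 a + dec25 b :=
  (arith_ok ⟨a, ha⟩ ⟨b, hb⟩).2.1

theorem m25_lt {a b : ℕ} (ha : a < 25) (hb : b < 25) : m25 a b < 25 := (arith_ok ⟨a, ha⟩ ⟨b, hb⟩).2.2.1

theorem a25_lt {a b : ℕ} (ha : a < 25) (hb : b < 25) : a25 a b < 25 := (arith_ok ⟨a, ha⟩ ⟨b, hb⟩).2.2.2.1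

theorem dec_inj {a b : ℕ} (ha : a < 25) (hb : b < 25) (h : dec25 a = dec25 b) : a = b :=
  congrArg Fin.val ((arith_ok ⟨a, ha⟩ ⟨b, hb⟩).2.2.2.2 h)

theorem dig_sm25 (c n : ℕ) (hc : c < 25) (k : Fin 3) : dig (sm25 c n) k = m25 c (dig n k) := by
  have h0 := m25_lt hc (dig_lt n 0)
  have h1 := m25_lt hc (dig_lt n 1)
  have h2 := m25_lt hc (dig_lt n 2)
  fin_cases k <;> simp only [sm25, dig] at h0 h1 h2 ⊢ <;> omega

theorem exists_field_iso (hF : Fintype.card F = 25) : ∃ φ : R25 →+* F, Function.Bijective φ := by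
  haveI : Fact (Nat.Prime 5) := ⟨by norm_num⟩
  haveI : CharP F 5 := charP_of_card_eq_prime_pow (f := 2) (by rw [hF]; norm_num)
  have h2 : (2 : F) ≠ 0 := by
    have h := CharP.cast_eq_zero_iff F 5 2
    intro e
    exact absurd (h.1 (by exact_mod_cast e)) (by norm_num)
  obtain ⟨i, hi⟩ : IsSquare (2 : F) := by
    rw [FiniteField.isSquare_iff (by rw [ringChar.eq F 5]; norm_num) h2, hF]
    have h5 : ((5 : ℕ) : F) = 0 := CharP.cast_eq_zero F 5
    have h4 : (2 : F) ^ 4 = 1 := by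
      push_cast at h5
      linear_combination (3 : F) * h5
    rw [show 25 / 2 = 4 * 3 from rfl, pow_mul, h4, one_pow]
  let c : ZMod 5 →+* F := ZMod.castHom dvd_rfl F
  have hc2 : i * i = c 2 := by
    rw [← hi, map_ofNat]
  let φ : R25 →+* F :=
    { toFun := fun r => c r.re + c r.im * i
      map_one' := by show c 1 + c 0 * i = 1; simp
      map_zero' := by show c 0 + c 0 * i = 0; simp
      map_add' := fun r s => by simp; ring
      map_mul' := fun r s => by
        simp only [QuadraticAlgebra.re_mul, QuadraticAlgebra.im_mul, map_add, map_mul, zero_mul, add_zero]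
        linear_combination -(c r.im * c s.im) * hc2 }
  have hinj : Function.Injective φ := (injective_iff_map_eq_zero φ).2 fun r hr => by
    by_contra hne
    obtain ⟨u, v, hs⟩ := inv_exists r.re r.im hne
    simpa [hr] using (congrArg φ hs)
  have hn : Nat.card R25 = 25 := by
    rw [Nat.card_congr (QuadraticAlgebra.equivProd _ _), Nat.card_prod, Nat.card_zmod]
  haveI : Finite R25 := Nat.finite_of_card_ne_zero (by omega)
  exact ⟨φ, (Nat.bijective_iff_injective_and_card _).2 ⟨hinj, by rw [hn, Nat.card_eq_fintype_card, hF]⟩⟩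

/-- the vector with a given code -/
def vec (φ : R25 →+* F) (n : ℕ) : Fin 3 → F := fun k => φ (dec25 (dig n k))

theorem vec_smul (φ : R25 →+* F) {c : ℕ} (hc : c < 25) (n : ℕ) : vec φ (sm25 c n) = φ (dec25 c) • vec φ n :=
  funext fun k => by
    simp only [vec, Pi.smul_apply, smul_eq_mul]
    rw [dig_sm25 c n hc k, dec_mul hc (dig_lt _ _), map_mul]

theorem n25_spec {a : ℕ} (ha : a < 25) : n25 a < 25 ∧ dec25 (n25 a) = dec25 a * dec25 a ^ 5 := by
  have h1 := m25_lt ha ha
  have h2 := m25_lt ha h1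
  have h3 := m25_lt ha h2
  have h4 := m25_lt ha h3
  refine ⟨m25_lt ha h4, ?_⟩
  rw [n25, dec_mul ha h4, dec_mul ha h3, dec_mul ha h2, dec_mul ha h1, dec_mul ha ha]
  ring

theorem form_vec (φ : R25 →+* F) (n : ℕ) : Cfsg.hermForm 3 F 5 (vec φ n) (vec φ n) = φ (dec25 (iso25 n)) := by
  have hk : ∀ k, n25 (dig n k) < 25 := fun k => (n25_spec (dig_lt n k)).1
  have e : ∀ k, dec25 (n25 (dig n k)) = dec25 (dig n k) * dec25 (dig n k) ^ 5 := fun k => (n25_spec (dig_lt n k)).2
  rw [iso25, dec_add (a25_lt (hk 0) (hk 1)) (hk 2), dec_add (hk 0) (hk 1), e, e, e]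
  simp only [Cfsg.hermForm, Fin.sum_univ_three, vec, map_add, map_mul, map_pow]
  rfl

theorem exists_code {φ : R25 →+* F} (hφ : Function.Bijective φ) (w : Fin 3 → F) :
    ∃ n < 15625, vec φ n = w := by
  have h : ∀ k, ∃ d : Fin 25, φ (dec25 d) = w k := fun k => by
    obtain ⟨z, hz⟩ := hφ.2 (w k)
    obtain ⟨d, hd⟩ := dec25_surj z.re z.im
    exact ⟨d, by rw [hd]; exact hz⟩
  choose d hd using h
  refine ⟨(d 0 : ℕ) + 25 * d 1 + 625 * d 2, by omega, funext fun k => ?_⟩
  rw [vec, ← hd k]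
  congr 2
  have := (d 0).2; have := (d 1).2; have := (d 2).2
  fin_cases k <;> simp only [dig, Fin.zero_eta, Fin.mk_one, Fin.reduceFinMk] <;> omega

theorem iv_facts (j : Fin 126) : iso25 (iv j) = 0 ∧ iv j ≠ 0 ∧ iv j < 15625 ∧ iv j ∈ isoCodes := by
  have h := List.all_eq_true.1 iso_points.1 j (List.mem_range.2 j.2)
  simp only [Bool.and_eq_true, beq_iff_eq, Bool.not_eq_eq_eq_not, Bool.not_true, beq_eq_false_iff_ne, ne_eq,
    Nat.blt_eq] at h
  refine ⟨h.1.1, h.1.2, h.2, ?_⟩
  rw [iv, List.getD_eq_getElem _ _ (by rw [iso_points.2]; exact j.2)]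
  exact List.getElem_mem _

theorem iv_injective : Function.Injective iv := fun i j h => by
  rw [iv, iv, List.getD_eq_getElem _ _ (by rw [iso_points.2]; exact i.2),
    List.getD_eq_getElem _ _ (by rw [iso_points.2]; exact j.2)] at h
  exact Fin.ext (iso_distinct.2.getElem_inj_iff.1 h)

theorem vec_injective {φ : R25 →+* F} (hφ : Function.Bijective φ) {m n : ℕ} (hm : m < 15625) (hn : n < 15625)
    (h : vec φ m = vec φ n) : m = n := by
  have e : ∀ k : Fin 3, dig m k = dig n k := fun k => dec_inj (dig_lt _ _) (dig_lt _ _) (hφ.1 (congrFun h k))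
  have := e 0; have := e 1; have := e 2
  simp only [dig, Fin.val_zero, Fin.val_one, Fin.val_two] at *
  omega

/-- A group whose matrices permute a family of lines acts on the index set. -/
theorem exists_line_perm {G ι L : Type*} [Group G] [Fintype ι] [DecidableEq ι] [Field L] {n : ℕ}
    (M : G →* Matrix ι ι L) (v : Fin n → ι → L) (hne : ∀ a, v a ≠ 0) (huniq : ∀ a b, ∀ c : L, v a = c • v b → a = b)
    (hcl : ∀ g a, ∃ b, ∃ c : L, M g *ᵥ v a = c • v b) :
    ∃ ρ : G →* Equiv.Perm (Fin n), ∀ g a b, (∃ c : L, M g *ᵥ v a = c • v b) ↔ ρ g a = b := by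
  choose f c hf using hcl
  have hc : ∀ g a, c g a ≠ 0 := fun g a e => hne a (by
    have := hf g a
    rw [e, zero_smul] at this
    have e' := congrArg (fun w => M g⁻¹ *ᵥ w) this
    simpa [Matrix.mulVec_mulVec, ← map_mul] using e')
  have hu : ∀ g a b (d : L), M g *ᵥ v a = d • v b → f g a = b := fun g a b d e =>
    huniq _ _ ((c g a)⁻¹ * d) (by rw [← smul_smul, ← e, hf, smul_smul, inv_mul_cancel₀ (hc g a), one_smul])
  have hmul : ∀ g g' a, f (g * g') a = f g (f g' a) := fun g g' a => hu _ _ _ (c g' a * c g (f g' a)) (by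
    rw [map_mul, ← Matrix.mulVec_mulVec, hf, Matrix.mulVec_smul, hf, smul_smul])
  have h1 : ∀ a, f 1 a = a := fun a => hu _ _ _ 1 (by rw [map_one, Matrix.one_mulVec, one_smul])
  refine ⟨MonoidHom.mk' (fun g => ⟨f g, f g⁻¹, fun a => by rw [← hmul, inv_mul_cancel, h1],
    fun a => by rw [← hmul, mul_inv_cancel, h1]⟩) (fun g g' => Equiv.ext fun a => hmul g g' a),
    fun g a b => ⟨fun ⟨d, hd⟩ => hu g a b d hd, fun e => ⟨c g a, e ▸ hf g a⟩⟩⟩

local notation "SU35" => Cfsg.SU 3 F 5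

theorem card_psu35 (hF : Fintype.card F = 25) : Nat.card (Cfsg.PSU 3 F 5) = 126000 := by
  obtain ⟨p, e, σ, -, -, -, -, hσ⟩ := exists_usigma (F := F) (q := 5) (by rw [hF]; norm_num)
  have h := Subgroup.card_eq_card_quotient_mul_card_subgroup (Subgroup.center SU35)
  have hSU := UCount.card_SU hσ (n := 3) (by norm_num)
  rw [UCount.card_GU hσ 3, Finset.prod_range_succ, Finset.prod_range_succ,
    Finset.prod_range_succ, Finset.prod_range_zero] at hSU
  norm_num [Nat.even_iff] at hSU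
  have hSU' : Nat.card SU35 = 378000 := by omega
  rw [hSU', UCount.card_center_SU hσ (by norm_num), show Nat.gcd 3 (5 + 1) = 3 from rfl] at h
  show Nat.card (SU35 ⧸ Subgroup.center SU35) = 126000
  omega

/-- The projective unitary group acts on the isotropic points, and its image contains the three permutations. -/
theorem exists_psu_action (hF : Fintype.card F = 25) :
    Nat.card (Cfsg.PSU 3 F 5) = 126000 ∧
    ∃ Φ : Cfsg.PSU 3 F 5 →* Equiv.Perm (Fin 126), ∀ s : Fin 2, ∃ g, ∀ j, Φ g j = sigv s j := by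
  classical
  obtain ⟨φ, hφ⟩ := exists_field_iso hF
  obtain ⟨p, e, σ, -, -, -, -, hσ⟩ := exists_usigma (F := F) (q := 5) (by rw [hF]; norm_num)
  have hcard := card_psu35 hF
  refine ⟨hcard, ?_⟩
  have hne : ∀ a : Fin 126, vec φ (iv a) ≠ 0 := fun a h => (iv_facts a).2.1
    (vec_injective hφ (iv_facts a).2.2.1 (by norm_num) (h.trans (funext fun k => by
      have h0 : dec25 0 = 0 := by decide +kernel
      simp only [vec, Pi.zero_apply]
      fin_cases k <;> simp [dig, h0])))
  have huniq : ∀ a b : Fin 126, ∀ c : F, vec φ (iv a) = c • vec φ (iv b) → a = b := by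
    intro a b c h
    obtain ⟨z, rfl⟩ := hφ.2 c
    obtain ⟨d, hd⟩ := dec25_surj z.re z.im
    have hd' : dec25 d = z := hd
    rw [← hd', ← vec_smul φ d.2] at h
    have hlt : sm25 d (iv b) < 15625 := by
      have := m25_lt d.2 (dig_lt (iv b) 0); have := m25_lt d.2 (dig_lt (iv b) 1)
      have := m25_lt d.2 (dig_lt (iv b) 2)
      simp only [sm25]; omega
    have e := vec_injective hφ (iv_facts a).2.2.1 hlt h
    have hd0 : (d : ℕ) ≠ 0 := fun h0 => (iv_facts a).2.1 (by
      rw [e, h0]; simp [sm25, m25, dig])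
    have h' := List.all_eq_true.1 (List.all_eq_true.1 iso_distinct.1 (d - 1 : ℕ)
      (List.mem_range.2 (by omega))) _ (iv_facts b).2.2.2
    rw [show (d : ℕ) - 1 + 1 = d by omega, ← e, (testBit_maskOf _ _).2 (iv_facts a).2.2.2] at h'
    simp only [Bool.not_true, Bool.false_or, Bool.and_eq_true, beq_iff_eq] at h'
    exact iv_injective h'.2
  have hcl : ∀ (g : SU35) (a : Fin 126), ∃ b, ∃ c : F,
      ((Cfsg.slToMat 3 F).comp (Cfsg.SU 3 F 5).subtype) g *ᵥ vec φ (iv a) = c • vec φ (iv b) := by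
    intro g a
    obtain ⟨y, hy⟩ : ∃ y, y = ((Cfsg.slToMat 3 F).comp (Cfsg.SU 3 F 5).subtype) g *ᵥ vec φ (iv a) := ⟨_, rfl⟩
    obtain ⟨n, hn, hny⟩ := exists_code hφ y
    have hy0 : y ≠ 0 := fun h0 => hne a (by
      have := congrArg (fun w => ((Cfsg.slToMat 3 F).comp (Cfsg.SU 3 F 5).subtype) g⁻¹ *ᵥ w) (hy.symm.trans h0)
      simpa [Matrix.mulVec_mulVec, ← map_mul] using this)
    have hiso : dec25 (iso25 n) = 0 := hφ.1 (by
      rw [map_zero, ← form_vec, hny, hy]
      refine (g.2 _ _).trans ?_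
      rw [form_vec, (iv_facts a).1]
      rw [show dec25 0 = 0 by decide +kernel, map_zero])
    have hiso0 : iso25 n = 0 := by
      refine dec_inj ?_ (by norm_num) (hiso.trans (show dec25 0 = 0 by decide +kernel).symm)
      exact a25_lt (a25_lt (n25_spec (dig_lt _ _)).1 (n25_spec (dig_lt _ _)).1) (n25_spec (dig_lt _ _)).1
    have hn0 : n ≠ 0 := fun h0 => hy0 (by
      rw [← hny, h0]
      funext k
      have h00 : dec25 0 = 0 := by decide +kernel
      simp only [vec, Pi.zero_apply]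
      fin_cases k <;> simp [dig, h00])
    have hc := List.all_eq_true.1 iso_cover n (List.mem_range.2 hn)
    simp only [hiso0, beq_self_eq_true, Bool.not_true, Bool.false_or, Bool.or_eq_true, beq_iff_eq, hn0, false_or,
      testBit_maskOf, isoMultiples, List.mem_flatMap, List.mem_map, List.mem_range] at hc
    obtain ⟨v, hv, c, hc8, hcv⟩ := hc
    obtain ⟨i, hi, rfl⟩ := List.mem_iff_getElem.1 hv
    refine ⟨⟨i, iso_points.2 ▸ hi⟩, φ (dec25 (c + 1)), ?_⟩
    rw [← hy, ← hny, ← hcv, vec_smul φ (show c + 1 < 25 by omega)]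
    rw [iv, List.getD_eq_getElem _ _ hi]
  obtain ⟨ρ, hρ⟩ := exists_line_perm _ (fun a : Fin 126 => vec φ (iv a)) hne huniq hcl
  have hker : Subgroup.center SU35 ≤ ρ.ker := fun z hz => by
    obtain ⟨c, hc⟩ := UCount.scalar_of_commute hσ (n := 3) (by norm_num) (M := z.1.1) fun x =>
      congrArg (fun y : SU35 => y.1.1) (Subgroup.mem_center_iff.mp hz x)
    refine MonoidHom.mem_ker.2 (Equiv.ext fun a => (hρ z a a).1 ⟨c, ?_⟩)
    show z.1.1 *ᵥ _ = _
    rw [hc, Matrix.smul_mulVec, Matrix.one_mulVec]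
  refine ⟨QuotientGroup.lift (Subgroup.center SU35) ρ hker, fun s => ?_⟩
  have hdet : ((matR s).map φ).det = 1 := by
    rw [show (matR s).map φ = φ.mapMatrix (matR s) from rfl, ← RingHom.map_det, mat_det, map_one]
  have hmem : (⟨(matR s).map φ, hdet⟩ : Matrix.SpecialLinearGroup (Fin 3) F) ∈ Cfsg.SU 3 F 5 := by
    intro u v
    show Cfsg.hermForm 3 F 5 ((matR s).map φ *ᵥ u) ((matR s).map φ *ᵥ v) = _
    have hσ3 : ∀ a, σ a = a ^ 5 := hσ.apply_eq
    have hh : ∀ x y : Fin 3 → F, Cfsg.hermForm 3 F 5 x y = x ⬝ᵥ fun i => σ (y i) := fun x y => by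
      simp [Cfsg.hermForm, dotProduct, hσ3]
    have hg : ((matR s).map φ)ᵀ * ((matR s).map φ).map σ = 1 := by
      have hM : ((matR s).map φ).map σ = ((matR s).map fun r => r * r * r * r * r).map φ := by
        ext i k
        simp only [Matrix.map_apply, hσ3, map_mul]
        ring
      rw [hM, show ((matR s).map φ)ᵀ = (matR s)ᵀ.map φ from rfl, ← Matrix.map_mul, mat_unitary,
        Matrix.map_one _ (map_zero φ) (map_one φ)]
    rw [hh, hh]
    have e : (fun i => σ (((matR s).map φ *ᵥ v) i)) = ((matR s).map φ).map σ *ᵥ fun i => σ (v i) := by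
      funext i
      simp [Matrix.mulVec, dotProduct, map_sum, map_mul]
    rw [e, ← Matrix.vecMul_transpose, ← Matrix.dotProduct_mulVec, Matrix.mulVec_mulVec, hg, Matrix.one_mulVec]
  refine ⟨QuotientGroup.mk ⟨_, hmem⟩, fun j => ?_⟩
  show ρ _ j = _
  have hm := List.all_eq_true.1 (List.all_eq_true.1 mat_moves s (List.mem_range.2 s.2)) j (List.mem_range.2 j.2)
  simp only [Bool.and_eq_true, Nat.blt_eq, List.all_eq_true, List.mem_range, beq_iff_eq] at hm
  obtain ⟨⟨hlt, hc⟩, hrows⟩ := hm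
  refine (hρ _ j _).1 ⟨φ (dec25 ((scal.getD s []).getD j 0)), funext fun i => ?_⟩
  show ((matR s).map φ *ᵥ vec φ (iv j)) i = φ (dec25 ((scal.getD s []).getD j 0)) * φ (dec25 (dig (iv (sigv s j)) i))
  rw [← map_mul, ← dec_mul hc (dig_lt _ _), show iv (sigv s j) = isoCodes.getD ((sig.getD s 0 >>> (7 * (j : ℕ))) % 128) 0 by
    rw [iv, sigv]; congr 1; exact Nat.mod_eq_of_lt hlt, ← hrows i i.2]
  simp only [row25, iv, Matrix.mulVec, dotProduct, Fin.sum_univ_three, vec, Matrix.map_apply, matR, mrow, ← map_mul,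
    ← map_add]
  congr 1
  rw [dec_add (a25_lt (m25_lt (dig_lt _ _) (dig_lt _ _)) (m25_lt (dig_lt _ _) (dig_lt _ _))) (m25_lt (dig_lt _ _) (dig_lt _ _)),
    dec_add (m25_lt (dig_lt _ _) (dig_lt _ _)) (m25_lt (dig_lt _ _) (dig_lt _ _)), dec_mul (dig_lt _ _) (dig_lt _ _),
    dec_mul (dig_lt _ _) (dig_lt _ _), dec_mul (dig_lt _ _) (dig_lt _ _)]
  rfl

end Field

end Cfsg.Agent.Local.FS.HSUnitary
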