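import Cfsg.Agent.Lib.Local.FS.HSUnitaryStab
import Cfsg.Agent.Lib.Local.FS.HSUnitaryField

/-!
The Higman–Sims group on 352 vectors, with stabilizer the three-dimensional unitary group over twenty-five elements.
-/

set_option autoImplicit false
set_option maxRecDepth 100000

namespace Cfsg.Agent.Local.FS.HSUnitary

open Cfsg Cfsg.Agent.Spor Cfsg.Agent.Lie Cfsg.Agent.Lie.HigmanSimsMult Equiv

local notation "Zv" => GolayPt → ℤ

/-- The stabilizer as a projective unitary group. -/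
theorem gx_iso (F : Type) [Field F] [Fintype F] (hF : Fintype.card F = 25) :
    Nonempty (↥Gx ≃* Cfsg.PSU 3 F 5) := by
  classical
  obtain ⟨hcard, Φ, hΦ⟩ := exists_psu_action hF
  haveI : Finite (Cfsg.PSU 3 F 5) := Nat.finite_of_card_ne_zero (by rw [hcard]; norm_num)
  obtain ⟨e⟩ := gx_QQ
  have hle : QQ ≤ Φ.range := by
    rw [QQ, PP, MonoidHom.map_closure, Subgroup.closure_le]
    rintro _ ⟨_, ⟨s, rfl⟩, rfl⟩
    obtain ⟨g, hg⟩ := hΦ s
    refine ⟨g, Equiv.ext fun j => (hg j).trans ?_⟩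
    show sigv s j = sigPerm s j
    fin_cases s <;> rfl
  have h1 : Nat.card ↥QQ = 126000 := by rw [← Nat.card_congr e.toEquiv, card_Gx]
  have h2 : Nat.card Φ.range ≤ 126000 := hcard ▸ Finite.card_range_le Φ
  have heq : QQ = Φ.range := Subgroup.eq_of_le_of_card_ge hle (by rw [h1]; exact h2)
  have hbij : Function.Bijective Φ.rangeRestrict :=
    (Nat.bijective_iff_surjective_and_card _).2 ⟨Φ.rangeRestrict_surjective, by rw [hcard, ← heq, h1]⟩
  exact ⟨e.trans ((MulEquiv.subgroupCongr heq).trans (MulEquiv.ofBijective Φ.rangeRestrict hbij).symm)⟩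

theorem negVec_dot (y : ↥leechLattice) (z : Zv) : dotInt z ((-y : ↥leechLattice) : Zv) = -dotInt z (y : Zv) := by
  rw [AddSubgroup.coe_neg, dot_neg_right]

/-- The statement for the group on 352 vectors. -/
theorem hs_352 (v w : ↥leechLattice) (hv : sqNorm (v : Zv) = 48) (hw : sqNorm (w : Zv) = 48)
    (hvw : dotInt (v : Zv) (w : Zv) = -32) (F : Type) [Field F] [Fintype F] (hF : Fintype.card F = 25) :
    let X := {x : ↥leechLattice | sqNorm (x : Zv) = 32 ∧ dotInt (v : Zv) (x : Zv) = 16 ∧ dotInt (w : Zv) (x : Zv) = -24}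
    X.ncard = 352 ∧ (∀ x ∈ X, -w - x ∈ X) ∧
      (∀ x ∈ X, ∀ x' ∈ X, ∃ g : ↥Co0, g • v = v ∧ g • w = w ∧ g • x = x') ∧
      ∀ x ∈ X, Nonempty (↥(MulAction.stabilizer ↥Co0 v ⊓ MulAction.stabilizer ↥Co0 w ⊓ MulAction.stabilizer ↥Co0 x) ≃*
        Cfsg.PSU 3 F 5) := by
  intro X
  obtain ⟨k, k1, k2⟩ := hs_pair_map v w hv hw hvw
  set O := MulAction.orbit ↥HsRank.Stab Y with hO
  have hstab : HsRank.Stab = pairStab hsVec := by
    ext g
    rw [HsRank.mem_stab]
    exact Iff.rfl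
  have dsub : ∀ a b z : Zv, dotInt (a - b) z = dotInt a z - dotInt b z := fun a b z => by
    simp [dotInt, sub_mul, Finset.sum_sub_distrib]
  have hchar : ∀ y : ↥leechLattice, y ∈ O ↔
      sqNorm (y : Zv) = 32 ∧ dotInt uRef (y : Zv) = -16 ∧ dotInt (fourVec (-1)) (y : Zv) = 8 := by
    have hO' : O = HsRank.vecL '' {i | i < 11178 ∧ HsRank.lab i = 4} := HsRank.orbit_root (by norm_num)
    have hd : ∀ i, i < 11178 → dotInt (fun p => -fourVec (-1) p) (HsRank.vecL i : Zv) =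
        ([32, 16, 8, 0, -8] : List ℤ).getD (HsRank.lab i) 0 := fun i hi => by
      obtain ⟨ei, -, hl, oi⟩ := HsRank.vec_facts hi
      rw [ei, (HsRank.horb_facts oi).2.2.2]
      exact (HsRank.root_facts _ hl).2.2.2.2.2.1
    have hneg : ∀ z : Zv, dotInt (fun p => -fourVec (-1) p) z = -dotInt (fourVec (-1)) z := fun z => by
      simp [dotInt, Finset.sum_neg_distrib]
    intro y
    rw [hO']
    constructor
    · rintro ⟨i, ⟨hi, hl⟩, rfl⟩
      obtain ⟨-, hb, -, -⟩ := HsRank.vec_facts hi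
      have h := hd i hi
      rw [hl, hneg] at h
      refine ⟨hb.1, hb.2, ?_⟩
      simp at h
      omega
    · rintro ⟨h1, h2, h3⟩
      have hb : y ∈ HsRank.big := ⟨h1, h2⟩
      rw [HsRank.big_eq] at hb
      obtain ⟨i, hi, rfl⟩ := hb
      refine ⟨i, ⟨hi, ?_⟩, rfl⟩
      have h := hd i hi
      rw [hneg, h3] at h
      have hl := (HsRank.vec_facts hi).2.2.1
      have key : ∀ l < 5, ([32, 16, 8, 0, -8] : List ℤ).getD l 0 = -8 → l = 4 := by decide
      exact key _ hl h.symm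
  have hX : ∀ x : ↥leechLattice, x ∈ X ↔ -(k • x) ∈ O := by
    intro x
    have a := co0_dot k v x
    have b := co0_dot k w x
    rw [k1] at a
    rw [k2] at b
    change dotInt uRef _ = _ at a
    change dotInt (fourVec (-1) - uRef) _ = _ at b
    rw [dsub] at b
    rw [hchar, negVec_dot, negVec_dot, AddSubgroup.coe_neg, sqNorm_neg,
      show sqNorm ((k • x : ↥leechLattice) : Zv) = sqNorm (x : Zv) from k.2.2 x]
    constructor
    · rintro ⟨h1, h2, h3⟩
      exact ⟨h1, by omega, by omega⟩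
    · rintro ⟨h1, h2, h3⟩
      exact ⟨h1, by omega, by omega⟩
  have hmove : ∀ x ∈ X, ∃ c : ↥Co0, c • v = refU ∧ c • w = hsVec - refU ∧ -(c • x) = Y := by
    intro x hx
    obtain ⟨g, hg⟩ := (hX x).1 hx
    have hgf : (g : ↥Co0) • refU = refU ∧ (g : ↥Co0) • hsVec = hsVec := HsRank.mem_stab.1 g.2
    refine ⟨(g : ↥Co0)⁻¹ * k, ?_, ?_, ?_⟩
    · rw [mul_smul, k1, inv_smul_eq_iff, hgf.1]
    · rw [mul_smul, k2, inv_smul_eq_iff, sub_eq_add_neg, co0_add, co0_neg, hgf.1, hgf.2]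
    · rw [mul_smul, ← co0_neg, inv_smul_eq_iff]
      exact hg.symm
  refine ⟨?_, ?_, ?_, ?_⟩
  · have h352 : O.ncard = 352 := HsRank.orbit_card (by norm_num)
    rw [← h352, ← Set.ncard_image_of_injective X (f := fun x : ↥leechLattice => -(k • x))
      fun a b h => MulAction.injective k (neg_injective h)]
    congr 1
    ext y
    constructor
    · rintro ⟨x, hx, rfl⟩; exact (hX x).1 hx
    · intro hy
      exact ⟨k⁻¹ • -y, (hX _).2 (by rw [smul_inv_smul, neg_neg]; exact hy), by simp only [smul_inv_smul, neg_neg]⟩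
  · rintro x ⟨h1, h2, h3⟩
    have hsub : ∀ a b z : Zv, dotInt z (a - b) = dotInt z a - dotInt z b := fun a b z => by
      rw [sub_eq_add_neg, dot_add_right, dot_neg_right, sub_eq_add_neg]
    refine ⟨?_, ?_, ?_⟩
    · rw [AddSubgroup.coe_sub, AddSubgroup.coe_neg, sub_eq_add_neg, sqNorm_add, sqNorm_neg, sqNorm_neg,
        dot_neg_right, dot_comm', dot_neg_right, dot_comm']
      omega
    · rw [AddSubgroup.coe_sub, AddSubgroup.coe_neg, hsub, dot_neg_right]
      omega
    · rw [AddSubgroup.coe_sub, AddSubgroup.coe_neg, hsub, dot_neg_right, dot_self]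
      omega
  · intro x hx x' hx'
    obtain ⟨a, a1, a2, a3⟩ := hmove x hx
    obtain ⟨b, b1, b2, b3⟩ := hmove x' hx'
    have e : a • x = b • x' := neg_injective (a3.trans b3.symm)
    refine ⟨b⁻¹ * a, ?_, ?_, ?_⟩ <;> rw [mul_smul, inv_smul_eq_iff]
    exacts [a1.trans b1.symm, a2.trans b2.symm, e]
  · intro x hx
    obtain ⟨c, c1, c2, c3⟩ := hmove x hx
    obtain ⟨e⟩ := gx_iso F hF
    have hto : ∀ h : ↥Co0,
        h ∈ MulAction.stabilizer ↥Co0 v ⊓ MulAction.stabilizer ↥Co0 w ⊓ MulAction.stabilizer ↥Co0 x →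
          ∃ hk : c * h * c⁻¹ ∈ pairStab hsVec, (⟨_, hk⟩ : HG) ∈ Gx := by
      intro h hh
      simp only [Subgroup.mem_inf, MulAction.mem_stabilizer_iff] at hh
      obtain ⟨⟨a, b⟩, d⟩ := hh
      have key : ∀ z z' : ↥leechLattice, c • z = z' → h • z = z → (c * h * c⁻¹) • z' = z' := fun z z' hz hh => by
        rw [← hz, mul_smul, mul_smul, inv_smul_smul, hh]
      have e1 := key v _ c1 a
      have e2 := key w _ c2 b
      rw [sub_eq_add_neg, co0_add, co0_neg, e1, add_left_inj] at e2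
      refine ⟨⟨e1, e2⟩, mem_Gx.2 ?_⟩
      show (c * h * c⁻¹) • Y = Y
      rw [← c3, co0_neg, key x _ rfl d]
    have hfrom : ∀ h : ↥Gx, c⁻¹ * (h.1 : ↥Co0) * c ∈
        MulAction.stabilizer ↥Co0 v ⊓ MulAction.stabilizer ↥Co0 w ⊓ MulAction.stabilizer ↥Co0 x := by
      intro h
      have key : ∀ z z' : ↥leechLattice, c • z = z' → (h.1 : ↥Co0) • z' = z' →
          (c⁻¹ * (h.1 : ↥Co0) * c) • z = z := fun z z' hz hh => by
        rw [mul_smul, mul_smul, hz, hh, ← hz, inv_smul_smul]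
      have hh : (h.1 : ↥Co0) • refU = refU ∧ (h.1 : ↥Co0) • hsVec = hsVec := h.1.2
      simp only [Subgroup.mem_inf, MulAction.mem_stabilizer_iff]
      refine ⟨⟨key v _ c1 hh.1, key w _ c2 ?_⟩, key x _ rfl ?_⟩
      · rw [sub_eq_add_neg, co0_add, co0_neg, hh.1, hh.2]
      · have hY := mem_Gx.1 h.2
        rw [← c3, co0_neg, neg_inj] at hY
        exact hY
    exact ⟨MulEquiv.trans
      { toFun := fun h => ⟨⟨c * h.1 * c⁻¹, (hto h.1 h.2).1⟩, (hto h.1 h.2).2⟩
        invFun := fun h => ⟨c⁻¹ * (h.1 : ↥Co0) * c, hfrom h⟩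
        left_inv := fun h => Subtype.ext (by group)
        right_inv := fun h => Subtype.ext (Subtype.ext (by group))
        map_mul' := fun a b => Subtype.ext (Subtype.ext (by
          simp only [MulMemClass.coe_mul]
          group)) } e⟩

end Cfsg.Agent.Local.FS.HSUnitary
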