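import Cfsg.Agent.Lib.Local.FS.HSUnitaryData
import Cfsg.Agent.Lib.Lie.HigmanSimsMult.Points
import Cfsg.Agent.Lib.Spor.HsRankOrb

/-!
The stabilizer of a third vector in the Higman–Sims group and its action on 126 subgroups of order five.
-/

set_option autoImplicit false
set_option maxRecDepth 100000
set_option maxHeartbeats 1600000

namespace Cfsg.Agent.Local.FS.HSUnitary

open Cfsg Cfsg.Agent.Spor Cfsg.Agent.Lie Cfsg.Agent.Lie.HigmanSimsMult Equiv

local notation "Zv" => GolayPt → ℤ

/-- the identity code -/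
def idCode : ℕ := (List.range 100).foldr (fun k m => m * 128 + k) 0

/-- the identity code on the objects -/
def idCode' : ℕ := (List.range 126).foldr (fun k m => m * 128 + k) 0

/-- an element of the program -/
def hv (i : ℕ) : ℕ := ((idCode :: basePerms) ++ progVals).getD i idCode

/-- one step of the program is correct -/
def progStep (i : ℕ) : Bool :=
  Nat.blt (prog.getD i (0, 0)).1 (4 + i) && Nat.blt (prog.getD i (0, 0)).2 (4 + i) &&
    (List.range 100).all fun k => Nat.blt k 100 &&
      CentralTable.pget (hv (4 + i)) k == CentralTable.pget (hv (prog.getD i (0, 0)).1) (CentralTable.pget (hv (prog.getD i (0, 0)).2) k)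

/-- a generator of the stabilizer -/
def gcode (s : Fin 2) : ℕ := hv (genIdx.getD s 0)

/-- an element of the program on the objects -/
def sv (i : ℕ) : ℕ := ((idCode' :: sig) ++ svals).getD i idCode'

/-- one step of the program on the objects is correct -/
def sprogStep (i : ℕ) : Bool :=
  Nat.blt (sprog.getD i (0, 0)).1 (3 + i) && Nat.blt (sprog.getD i (0, 0)).2 (3 + i) &&
    (List.range 126).all fun k =>
      CentralTable.pget (sv (3 + i)) k == CentralTable.pget (sv (sprog.getD i (0, 0)).1) (CentralTable.pget (sv (sprog.getD i (0, 0)).2) k)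

/-- the images are distinct -/
def distinctB : ℕ → List ℕ → Bool
  | _, [] => true
  | seen, x :: l => !(seen.testBit x) && distinctB (seen ||| 2 ^ x) l

/-- the levels of the chain are correct -/
def chainOK : List ℕ → List (ℕ × List ℕ) → Bool
  | _, [] => true
  | fx, bl :: rest => Nat.blt bl.1 126 && (bl.2.all fun i => fx.all fun p => CentralTable.pget (sv i) p == p) &&
      distinctB 0 (bl.2.map fun i => CentralTable.pget (sv i) bl.1) && chainOK (bl.1 :: fx) rest

/-- the code of the third vector -/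
def yCode : ℕ := HsRank.cd (HsRank.rootAt.getD 4 0)

/-- the product of the third vector with a point -/
def dprof (p : ℕ) : ℤ :=
  ((List.range 24).map fun j => ((HsRank.dgt yCode (idx (pt j)) : ℤ) - 4) * (vecL p).getD (idx (pt j)) 0).sum

/-- the vectors of the left inverse -/
def spanVec (i : Fin 24) : Zv :=
  if spanIdx.getD i 0 < 100 then vecOf (vecL (spanIdx.getD i 0)) else fourVec (-1)

/-- a power of an element of order five -/
def zf (i : ℕ) (k : Fin 100) : Fin 100 := Fin.ofNat 100 (CentralTable.pget (zTab.getD i 0) k)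

/-- a key separating the powers -/
def zkey (i : ℕ) : ℕ := (43499 * (zf i 27 : ℕ) + 4473 * (zf i 9 : ℕ) + 21694 * (zf i 90 : ℕ) +
  12535 * (zf i 81 : ℕ)) % 15884

theorem prog_ok : (List.range prog.length).all progStep = true := by decide +kernel

theorem prog_len : prog.length = progVals.length ∧ basePerms.length = 3 ∧
    ∀ s : Fin 2, genIdx.getD s 0 < 4 + prog.length := by
  refine ⟨?_, ?_, ?_⟩ <;> decide +kernel

theorem sprog_ok0 : (List.range' 0 75).all sprogStep = true := by decide +kernel

theorem sprog_ok1 : (List.range' 75 75).all sprogStep = true := by decide +kernel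

theorem sprog_ok2 : (List.range' 150 75).all sprogStep = true := by decide +kernel

theorem sprog_ok3 : (List.range' 225 (sprog.length - 225)).all sprogStep = true := by decide +kernel

theorem sprog_len : sprog.length = svals.length ∧ sig.length = 2 ∧ 225 ≤ sprog.length ∧
    (levels.all fun p => p.2.all fun i => Nat.blt i (3 + sprog.length)) = true := by
  refine ⟨?_, ?_, ?_, ?_⟩ <;> decide +kernel

theorem chain_ok : chainOK [] levels = true := by decide +kernel

theorem chain_prod : (levels.map fun p => p.2.length).prod = 126000 := by decide +kernel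

theorem prof_ok : ∀ s : Fin 2, ((List.range 100).all fun p =>
    dprof (CentralTable.pget (gcode s) p) == dprof p) = true := by decide +kernel

theorem span_ok : ∀ k : Fin 24, ∀ q : GolayPt,
    (∑ i : Fin 24, (spanInv.getD k []).getD i 0 * spanVec i q) = if q = pt k then spanDen else 0 := by
  decide +kernel

theorem pt_cover : ∀ q : GolayPt, ∃ k : Fin 24, pt k = q := by decide +kernel

theorem den_ne : spanDen ≠ 0 := by decide +kernel

theorem span_lt : ∀ i : Fin 24, spanIdx.getD i 0 ≤ 100 := by decide +kernel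

theorem z_keys : distinctB 0 ((List.range 504).map zkey) = true := by decide +kernel

theorem sig_rel : ∀ s : Fin 2, ((List.range 126).all fun j => (List.range 4).all fun e => (List.range 4).any fun e' =>
    (List.range 100).all fun k => CentralTable.pget (gcode s) (CentralTable.pget (zTab.getD (4 * j + e) 0) k) ==
      CentralTable.pget (zTab.getD (4 * CentralTable.pget (sv ((s : ℕ) + 1)) j + e') 0) (CentralTable.pget (gcode s) k)) = true := by decide +kernel

theorem z_lt : (zTab.all fun z => (List.range 100).all fun k => Nat.blt (CentralTable.pget z k) 100) = true ∧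
    zTab.length = 504 ∧ (∀ s : Fin 2, (List.range 100).all fun k => Nat.blt (CentralTable.pget (gcode s) k) 100) ∧
    (∀ s : Fin 2, (List.range 126).all fun j => Nat.blt (CentralTable.pget (sv ((s : ℕ) + 1)) j) 126) := by
  refine ⟨?_, ?_, ?_, ?_⟩ <;> decide +kernel

theorem distinctB_nodup : ∀ (seen : ℕ) (l : List ℕ), distinctB seen l = true →
    l.Nodup ∧ ∀ x ∈ l, seen.testBit x = false
  | _, [], _ => ⟨List.nodup_nil, by simp⟩
  | seen, x :: l, h => by
    simp only [distinctB, Bool.and_eq_true, Bool.not_eq_eq_eq_not, Bool.not_true] at h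
    obtain ⟨h1, h2⟩ := distinctB_nodup (seen ||| 2 ^ x) l h.2
    refine ⟨List.nodup_cons.2 ⟨fun hx => by simpa [Nat.testBit_two_pow_self] using h2 x hx, h1⟩, ?_⟩
    intro y hy
    rcases List.mem_cons.1 hy with rfl | hy
    · exact h.1
    · have := h2 y hy
      simp only [Nat.testBit_or, Bool.or_eq_false_iff] at this
      exact this.1

theorem rep_idCode : ∀ k : Fin 100, CentralTable.pget idCode k = k := by decide +kernel

theorem rep_idCode' : ∀ k : Fin 126, CentralTable.pget idCode' k = k := by decide +kernel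

theorem exists_hv : ∀ i, i < 4 + prog.length → ∃ g : HG, CentralTable.Rep perm100 g (hv i) := by
  obtain ⟨hlen, hbase, -⟩ := prog_len
  obtain ⟨γ, -, hγ⟩ := exists_base
  intro i
  induction i using Nat.strong_induction_on with
  | _ i ih =>
    intro hi
    have hl : (idCode :: basePerms).length = 4 := by simp [hbase]
    rcases Nat.lt_or_ge i 4 with h4 | h4
    · rw [hv, List.getD_append _ _ _ _ (hl ▸ h4)]
      rcases i with _ | i
      · exact ⟨1, fun k => by rw [map_one]; exact (rep_idCode k).symm⟩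
      · refine ⟨γ.getD i 1, ?_⟩
        have hlt : i < basePerms.length := by rw [hbase]; omega
        rw [List.getD_cons_succ, show basePerms.getD i idCode = basePerms.getD i 0 by
          rw [List.getD_eq_getElem _ _ hlt, List.getD_eq_getElem _ _ hlt]]
        exact hγ i (by omega)
    · have h := List.all_eq_true.1 prog_ok (i - 4) (List.mem_range.2 (by omega))
      simp only [progStep, Bool.and_eq_true, Nat.blt_eq, List.all_eq_true, List.mem_range, beq_iff_eq,
        show 4 + (i - 4) = i by omega] at h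
      obtain ⟨⟨ha, hb⟩, hc⟩ := h
      obtain ⟨a, ha'⟩ := ih _ ha (by omega)
      obtain ⟨b, hb'⟩ := ih _ hb (by omega)
      refine ⟨a * b, fun k => ?_⟩
      rw [(hc k k.2).2, map_mul, Equiv.Perm.mul_apply, ha', hb']

/-- the third vector -/
noncomputable def Y : ↥leechLattice := HsRank.vecL (HsRank.rootAt.getD 4 0)

theorem Y_val : (Y : Zv) = HsRank.vecC yCode :=
  (HsRank.vec_facts (HsRank.root_facts 4 (by norm_num)).1).1

theorem sum_pts' (f : GolayPt → ℤ) : ∑ q, f q = ((List.range 24).map fun j => f (pt j)).sum := by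
  have e : (Finset.univ : Finset GolayPt) = ((List.range 24).map pt).toFinset := by decide +kernel
  have hn : ((List.range 24).map pt).Nodup := by decide +kernel
  rw [e, List.sum_toFinset _ hn, List.map_map]
  rfl

theorem dprof_eq (p : Fin 100) : dotInt (Y : Zv) (vecPt p : Zv) = dprof p := by
  rw [Y_val, dotInt, sum_pts']
  rfl

/-- the generators of the stabilizer -/
theorem exists_gen (s : Fin 2) : ∃ g : HG, CentralTable.Rep perm100 g (gcode s) :=
  exists_hv _ (prog_len.2.2 s)

/-- a generator -/
noncomputable def gen (s : Fin 2) : HG := (exists_gen s).choose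

theorem gen_rep (s : Fin 2) : CentralTable.Rep perm100 (gen s) (gcode s) := (exists_gen s).choose_spec

theorem gen_fix (s : Fin 2) : (gen s).1 • Y = Y := by
  set g := gen s
  have hg : g.1 • refU = refU ∧ g.1 • hsVec = hsVec := g.2
  obtain ⟨z, hz⟩ : ∃ z, z = g.1 • Y := ⟨_, rfl⟩
  have hdot : ∀ i : Fin 24, dotInt (spanVec i) (z : Zv) = dotInt (spanVec i) (Y : Zv) := by
    intro i
    unfold spanVec
    split_ifs with hi
    · obtain ⟨q, hq⟩ : ∃ q : Fin 100, (q : ℕ) = spanIdx.getD i 0 := ⟨⟨_, hi⟩, rfl⟩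
      obtain ⟨p, hp⟩ := (perm100 g).surjective q
      have he : g.1 • vecPt p = vecPt q := by
        rw [← hp]; exact actPt_spec g p
      have h1 := co0_dot g.1 (vecPt p) Y
      rw [he, ← hz] at h1
      rw [← hq]
      refine h1.trans ?_
      show _ = dotInt (vecPt q : Zv) (Y : Zv)
      rw [dot_comm', dprof_eq, dot_comm', dprof_eq]
      have hpq := gen_rep s p
      rw [hp] at hpq
      rw [hpq]
      exact (beq_iff_eq.1 (List.all_eq_true.1 (prof_ok s) p (List.mem_range.2 p.2))).symm
    · have h1 := co0_dot g.1 hsVec Y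
      rw [hg.2, ← hz] at h1
      exact h1
  rw [← hz]
  refine Subtype.ext (funext fun q => ?_)
  obtain ⟨k, rfl⟩ := pt_cover q
  have key : ∀ w : Zv, ∑ i : Fin 24, (spanInv.getD k []).getD i 0 * dotInt (spanVec i) w = spanDen * w (pt k) := by
    intro w
    simp only [dotInt, Finset.mul_sum]
    rw [Finset.sum_comm]
    simp only [← mul_assoc, ← Finset.sum_mul, span_ok, ite_mul, zero_mul]
    simp
  have h := key (z : Zv)
  simp only [hdot, key] at h
  exact (mul_left_cancel₀ den_ne h).symm

/-- the stabilizer -/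
noncomputable def Gx : Subgroup HG := (MulAction.stabilizer ↥Co0 Y).comap (pairStab hsVec).subtype

theorem mem_Gx {g : HG} : g ∈ Gx ↔ g.1 • Y = Y := Iff.rfl

theorem card_Gx : Nat.card ↥Gx = 126000 := by
  have h := HsRank.orbit_card (j := 4) (by norm_num)
  have e : HsRank.Stab = pairStab hsVec := by
    ext g
    rw [HsRank.mem_stab]
    exact Iff.rfl
  rw [e] at h
  have h' := Nat.card_congr (MulAction.orbitProdStabilizerEquivGroup HG Y)
  rw [Nat.card_prod, Nat.card_coe_set_eq] at h'
  have h352 : (MulAction.orbit HG Y).ncard = 352 := h.trans rfl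
  have hS : Nat.card (MulAction.stabilizer HG Y) = Nat.card ↥Gx := rfl
  rw [h352, hS, card_HG] at h'
  omega

/-- the relation between an element and a permutation of the objects -/
def RelZ (x : HG × Perm (Fin 126)) : Prop :=
  ∀ j : Fin 126, ∀ e : Fin 4, ∃ e' : Fin 4, ∀ k : Fin 100,
    perm100 x.1 (zf (4 * (j : ℕ) + e) k) = zf (4 * (x.2 j : ℕ) + e') (perm100 x.1 k)

theorem relZ_mul {x y : HG × Perm (Fin 126)} (hx : RelZ x) (hy : RelZ y) : RelZ (x * y) := by
  intro j e
  obtain ⟨e1, h1⟩ := hy j e
  obtain ⟨e2, h2⟩ := hx (y.2 j) e1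
  exact ⟨e2, fun k => by
    rw [Prod.fst_mul, Prod.snd_mul, map_mul, Equiv.Perm.mul_apply, Equiv.Perm.mul_apply, Equiv.Perm.mul_apply, h1, h2]⟩

theorem relZ_one : RelZ 1 := fun j e => ⟨e, fun k => by simp⟩

/-- the related pairs in the stabilizer -/
noncomputable def relGroup : Subgroup (HG × Perm (Fin 126)) where
  carrier := {x | x.1 ∈ Gx ∧ RelZ x}
  mul_mem' hx hy := ⟨mul_mem hx.1 hy.1, relZ_mul hx.2 hy.2⟩
  one_mem' := ⟨one_mem _, relZ_one⟩
  inv_mem' := fun {x} hx => by
    refine ⟨inv_mem hx.1, ?_⟩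
    have hp : ∀ n : ℕ, RelZ (x ^ n) := fun n => by
      induction n with
      | zero => exact relZ_one
      | succ n ih => rw [pow_succ]; exact relZ_mul ih hx.2
    have e : x⁻¹ = x ^ (orderOf x - 1) := by
      rw [eq_comm, eq_inv_iff_mul_eq_one, ← pow_succ, Nat.sub_add_cancel (orderOf_pos x), pow_orderOf_eq_one]
    rw [e]
    exact hp _

theorem relZ_unique {g : HG} {σ τ : Perm (Fin 126)} (h1 : RelZ (g, σ)) (h2 : RelZ (g, τ)) : σ = τ := by
  refine Equiv.ext fun j => ?_
  obtain ⟨a, ha⟩ := h1 j 0
  obtain ⟨b, hb⟩ := h2 j 0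
  have e : ∀ q, zf (4 * (σ j : ℕ) + a) q = zf (4 * (τ j : ℕ) + b) q := fun q => by
    obtain ⟨k, rfl⟩ := (perm100 g).surjective q
    exact (ha k).symm.trans (hb k)
  have hk : zkey (4 * (σ j : ℕ) + a) = zkey (4 * (τ j : ℕ) + b) := by
    rw [zkey, zkey, e, e, e, e]
  have h := (distinctB_nodup _ _ z_keys).1.getElem_inj_iff (i := 4 * (σ j : ℕ) + a) (j := 4 * (τ j : ℕ) + b)
    (hi := by simp; omega) (hj := by simp; omega)
  simp only [List.getElem_map, List.getElem_range] at h
  have := h.1 hk
  exact Fin.ext (by omega)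

/-- the permutation of a code -/
def sigPerm (s : Fin 2) (j : Fin 126) : Fin 126 := Fin.ofNat 126 (CentralTable.pget (sv ((s : ℕ) + 1)) j)

theorem sigPerm_val (s : Fin 2) (j : Fin 126) : (sigPerm s j : ℕ) = CentralTable.pget (sv ((s : ℕ) + 1)) j := by
  have h := List.all_eq_true.1 (z_lt.2.2.2 s) j (List.mem_range.2 j.2)
  simp only [Nat.blt_eq] at h
  exact Nat.mod_eq_of_lt h

theorem sigPerm_bijective : ∀ s, Function.Injective (sigPerm s) := by decide +kernel

/-- the permutation as a group element -/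
noncomputable def sigE (s : Fin 2) : Perm (Fin 126) :=
  Equiv.ofBijective (sigPerm s) (Finite.injective_iff_bijective.1 (sigPerm_bijective s))

/-- the pairs -/
noncomputable def PP : Subgroup (HG × Perm (Fin 126)) := Subgroup.closure (Set.range fun s => (gen s, sigE s))

theorem PP_le : PP ≤ relGroup := by
  refine (Subgroup.closure_le _).2 ?_
  rintro _ ⟨s, rfl⟩
  refine ⟨gen_fix s, fun j e => ?_⟩
  have h := List.all_eq_true.1 (List.all_eq_true.1 (sig_rel s) j (List.mem_range.2 j.2)) e (List.mem_range.2 e.2)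
  obtain ⟨e', he', hk⟩ := List.any_eq_true.1 h
  refine ⟨⟨e', List.mem_range.1 he'⟩, fun k => Fin.ext ?_⟩
  have hk' := beq_iff_eq.1 (List.all_eq_true.1 hk k (List.mem_range.2 k.2))
  have hval : ∀ i, i < 504 → ∀ q : Fin 100, (zf i q : ℕ) = CentralTable.pget (zTab.getD i 0) q := fun i hi q => by
    have hm := List.all_eq_true.1 (List.all_eq_true.1 z_lt.1 (zTab.getD i 0) (by
      rw [List.getD_eq_getElem _ _ (z_lt.2.1.symm ▸ hi)]; exact List.getElem_mem _)) q (List.mem_range.2 q.2)
    simp only [Nat.blt_eq] at hm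
    exact Nat.mod_eq_of_lt hm
  show (perm100 (gen s) _ : ℕ) = _
  rw [gen_rep s, hval _ (by omega), hk', hval _ (by
    have := (sigE s j).2
    have := List.mem_range.1 he'
    show 4 * (sigE s j : ℕ) + e' < 504
    omega), gen_rep s]
  show _ = CentralTable.pget (zTab.getD (4 * (sigPerm s j : ℕ) + e') 0) _
  rw [sigPerm_val]

theorem exists_sv (i : ℕ) (hi : i < 3 + sprog.length) : ∃ x ∈ PP, ∀ k : Fin 126, (x.2 k : ℕ) = CentralTable.pget (sv i) k := by
  obtain ⟨hlen, hsig, h225, -⟩ := sprog_len
  induction i using Nat.strong_induction_on with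
  | _ i ih =>
    have hl : (idCode' :: sig).length = 3 := by simp [hsig]
    rcases Nat.lt_or_ge i 3 with h3 | h3
    · rcases i with _ | i
      · exact ⟨1, one_mem _, fun k => (rep_idCode' k).symm⟩
      · exact ⟨_, Subgroup.subset_closure ⟨⟨i, by omega⟩, rfl⟩, fun k => sigPerm_val ⟨i, by omega⟩ k⟩
    · have hs : sprogStep (i - 3) = true := by
        by_cases h1 : i - 3 < 75
        · exact List.all_eq_true.1 sprog_ok0 _ (List.mem_range'_1.2 ⟨by omega, by omega⟩)
        by_cases h2 : i - 3 < 150
        · exact List.all_eq_true.1 sprog_ok1 _ (List.mem_range'_1.2 ⟨by omega, by omega⟩)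
        by_cases h4 : i - 3 < 225
        · exact List.all_eq_true.1 sprog_ok2 _ (List.mem_range'_1.2 ⟨by omega, by omega⟩)
        exact List.all_eq_true.1 sprog_ok3 _ (List.mem_range'_1.2 ⟨by omega, by omega⟩)
      simp only [sprogStep, Bool.and_eq_true, Nat.blt_eq, List.all_eq_true, List.mem_range, beq_iff_eq,
        show 3 + (i - 3) = i by omega] at hs
      obtain ⟨⟨ha, hb⟩, hc⟩ := hs
      obtain ⟨a, am, ha'⟩ := ih _ ha (by omega)
      obtain ⟨b, bm, hb'⟩ := ih _ hb (by omega)
      refine ⟨a * b, mul_mem am bm, fun k => ?_⟩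
      rw [hc k k.2, Prod.snd_mul, Equiv.Perm.mul_apply, ha', hb']

/-- the projection of the pairs to the objects -/
noncomputable def QQ : Subgroup (Perm (Fin 126)) := PP.map (MonoidHom.snd HG (Perm (Fin 126)))

theorem chain_card : ∀ (ls : List (ℕ × List ℕ)) (fx : List ℕ), chainOK fx ls = true →
    (∀ p ∈ ls, ∀ i ∈ p.2, i < 3 + sprog.length) →
    (ls.map fun p => p.2.length).prod ≤
      Nat.card {g : ↥QQ // ∀ p ∈ fx, ∀ hp : p < 126, g.1 ⟨p, hp⟩ = ⟨p, hp⟩}
  | [], fx, _, _ => by
    haveI : Nonempty {g : ↥QQ // ∀ p ∈ fx, ∀ hp : p < 126, g.1 ⟨p, hp⟩ = ⟨p, hp⟩} :=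
      ⟨⟨1, fun p _ hp => rfl⟩⟩
    exact Nat.card_pos
  | (b, l) :: rest, fx, hok, hr => by
    simp only [chainOK, Bool.and_eq_true, Nat.blt_eq, List.all_eq_true, beq_iff_eq] at hok
    obtain ⟨⟨⟨hb, hfix⟩, hd⟩, hrest⟩ := hok
    have hnd := (distinctB_nodup _ _ hd).1
    have ih := chain_card rest (b :: fx) hrest fun p hp => hr p (List.mem_cons_of_mem _ hp)
    rw [List.map_cons, List.prod_cons]
    refine le_trans (Nat.mul_le_mul_left _ ih) ?_
    rw [← Nat.card_fin l.length, ← Nat.card_prod]
    choose g hg hge using fun i : Fin l.length => exists_sv l[i] (hr _ List.mem_cons_self _ (List.getElem_mem i.2))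
    have hgQ : ∀ i, (g i).2 ∈ QQ := fun i => ⟨g i, hg i, rfl⟩
    refine Nat.card_le_card_of_injective (fun ih => ⟨⟨(g ih.1).2 * ih.2.1.1, mul_mem (hgQ ih.1) ih.2.1.2⟩,
      fun p hp hp' => ?_⟩) ?_
    · rw [Equiv.Perm.mul_apply, ih.2.2 p (List.mem_cons_of_mem _ hp) hp']
      refine Fin.ext ?_
      rw [hge]
      exact hfix _ (List.getElem_mem ih.1.2) p hp
    · rintro ⟨i, h⟩ ⟨i', h'⟩ e
      have e0 : (g i).2 * h.1.1 = (g i').2 * h'.1.1 := congrArg (fun z => z.1.1) e
      have e1 := congrArg (fun z : Perm (Fin 126) => (z ⟨b, hb⟩ : ℕ)) e0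
      simp only [Equiv.Perm.mul_apply, h.2 b List.mem_cons_self hb, h'.2 b List.mem_cons_self hb, hge] at e1
      have hii : i = i' := by
        have := hnd.getElem_inj_iff (i := i.1) (j := i'.1) (hi := by simp) (hj := by simp)
        simp only [List.getElem_map] at this
        exact Fin.ext (this.1 e1)
      subst hii
      exact Prod.ext rfl (Subtype.ext (Subtype.ext (mul_left_cancel e0)))

theorem card_QQ_ge : 126000 ≤ Nat.card ↥QQ := by
  rw [← chain_prod]
  refine le_trans (chain_card levels [] chain_ok fun p hp i hi => ?_) (Finite.card_subtype_le _)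
  have h := List.all_eq_true.1 (List.all_eq_true.1 sprog_len.2.2.2 p hp) i hi
  simpa using h

/-- The stabilizer is isomorphic to its image on the objects. -/
theorem gx_QQ : Nonempty (↥Gx ≃* ↥QQ) := by
  let f : ↥PP →* ↥Gx := ((MonoidHom.fst HG (Perm (Fin 126))).comp PP.subtype).codRestrict Gx fun x => (PP_le x.2).1
  let h : ↥PP →* ↥QQ := ((MonoidHom.snd HG (Perm (Fin 126))).comp PP.subtype).codRestrict QQ fun x => ⟨x.1, x.2, rfl⟩
  have hf : Function.Injective f := by
    intro x y e
    have e1 : x.1.1 = y.1.1 := congrArg Subtype.val e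
    have hx : RelZ (x.1.1, x.1.2) := (PP_le x.2).2
    have hy : RelZ (x.1.1, y.1.2) := by rw [e1]; exact (PP_le y.2).2
    exact Subtype.ext (Prod.ext e1 (relZ_unique hx hy))
  have hh : Function.Surjective h := by
    rintro ⟨q, x, hx, rfl⟩
    exact ⟨⟨x, hx⟩, rfl⟩
  have c1 : Nat.card ↥PP ≤ Nat.card ↥Gx := Nat.card_le_card_of_injective f hf
  have c2 : Nat.card ↥QQ ≤ Nat.card ↥PP := Nat.card_le_card_of_surjective h hh
  have c3 := card_QQ_ge
  have c4 := card_Gx
  have bf : Function.Bijective f := (Nat.bijective_iff_injective_and_card _).2 ⟨hf, by omega⟩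
  have bh : Function.Bijective h := (Nat.bijective_iff_surjective_and_card _).2 ⟨hh, by omega⟩
  exact ⟨(MulEquiv.ofBijective f bf).symm.trans (MulEquiv.ofBijective h bh)⟩

end Cfsg.Agent.Local.FS.HSUnitary
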