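import Cfsg.Agent.Lib.Local.FS.HundredEngine

/-!
Certificate data for the two-fusion system of the Hall–Janko group on a hundred points.
-/

set_option autoImplicit false
set_option maxRecDepth 100000

namespace Cfsg.Agent.Local.FS.Hundred

/-- words in the two generators -/
def words : List (List Bool) := [[false],
  [true],
  [false, false, false],
  [true, true],
  [false, true, false, false, false, true, false, false, false, false, true, true, false, false, false, false, true, false, false, false, true, false, false, false, false, true, true, false, false, false, false, true, false, false, false, true, false, false, false, false, true, true, false, false, false, false, true, false, false, false, true, false, false, false, false, true, true, false, false, false, false, true, false, false, false, true, false, false, false, false, true, true, false, false, false, false, true, false, false, false, true, false, false, false, false, true, true, false, false, false],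
  [true, true, true, true, false, false, false, false, true, false, true],
  [false, true, true, true, false, false, false, false, false, false, true, false, true, true, false, false, true, true, true, false, false, false, false, false, false, true, false, true, true, false],
  [true, true, true, false, true, false, false, true, true, true, false, true, false, false, false, true, true, true, false, false, false, false, false, false, true, false, true, true, false, true, true, true, false, true, false, false],
  [true, true, true, false, true, false, false],
  [true, true, true, false, true, false, false, true, true, true, false, true, false, false],
  [false, true, true, true, false, false, false, false, false, false, true, false, true, true, false],
  [true, true, true, true, false, false, false, false, true, false, true, true, true, true, false, true, false, false],
  [true, true, true, false, true, false, false, false, true, true, true, false, false, false, false, false, false, true, false, true, true, false],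
  [true, true, true, true, false, false, false, false, true, false, true, true, true, true, false, true, false, false, true, true, true, false, true, false, false],
  [true, true, true, true, false, false, false, false, true, false, true, false, true, true, true, false, false, false, false, false, false, true, false, true, true, false],
  [false, true, true, true, false, false, false, false, false, false, true, false, true, true, false, true, true, true, false, true, false, false, true, true, true, false, true, false, false],
  [false, true, true, true, false, false, false, false, false, false, true, false, true, true, false, true, true, true, true, false, false, false, false, true, false, true, true, true, true, false, true, false, false],
  [true, true, true, false, true, false, false, true, true, true, true, false, false, false, false, true, false, true, false, true, true, true, false, false, false, false, false, false, true, false, true, true, false],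
  [true, true, true, true, false, false, false, false, true, false, true, true, true, true, false, true, false, false, false, true, true, true, false, false, false, false, false, false, true, false, true, true, false],
  [true, true, true, false, true, false, false, false, true, true, true, false, false, false, false, false, false, true, false, true, true, false, true, true, true, false, true, false, false, true, true, true, false, true, false, false],
  [false, true, true, true, false, false, false, false, false, false, true, false, true, true, false, true, true, true, false, true, false, false, false, true, true, true, false, false, false, false, false, false, true, false, true, true, false],
  [true, true, true, true, false, false, false, false, true, false, true, false, true, true, true, false, false, false, false, false, false, true, false, true, true, false, true, true, true, false, true, false, false, true, true, true, false, true, false, false],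
  [true, true, true, true, false, false, false, false, true, false, true, true, true, true, true, false, false, false, false, true, false, true],
  [false, true, false, false, false, true, false, false, false, false, true, true, false, false, false, false, true, false, false, false, true, false, false, false, false, true, true, false, false, false, false, true, false, false, false, true, false, false, false, false, true, true, false, false, false, false, true, false, false, false, true, false, false, false, false, true, true, false, false, false, false, true, false, false, false, true, false, false, false, false, true, true, false, false, false, false, true, false, false, false, true, false, false, false, false, true, true, false, false, false, true, false, true, false, true, false, true, true, true, false, false, true, false, false, true, false, false, true, false, true, false, false, true, false, false, false, true, false, false, false, false, true, true, false, false, false, false, true, false, false, false, true, false, false, false, false, true, true, false, false, false, false, true, false, false, false, true, false, false, false, false, true, true, false, false, false, false, true, false, false, false, true, false, false, false, false, true, true, false, false, false, false, true, false, false, false, true, false, false, false, false, true, true, false, false, false, false, true, false, false, false, true, false, false, false, false, true, true, false, false, false, false, false, false, true, true, false, false, false, true, true, false, false, false, false, false, false, true, true, false, false, false, false, false, false, true, true, false, false, false, false, false, false, true, true, true, true, true, true, false, false, false, true, true, false, false, false, true, true,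 false, false, false, true, true, false, true, false, false, false, true, false, false, false, false, true, true, false, false, false, false, true, false, false, false, true, false, false, false, false, true, true, false, false, false, false, true, false, false, false, true, false, false, false, false, true, true, false, false, false, false, true, false, false, false, true, false, false, false, false, true, true, false, false, false, false, true, false, false, false, true, false, false, false, false, true, true, false, false, false, false, true, false, false, false, true, false, false, false, false, true, true, false, false, false, true, false, true, false, true, false, true, true, true, false, false, true, false, false, true, false, false, true, false, true, false, false, true, false, false, false, true, false, false, false, false, true, true, false, false, false, false, true, false, false, false, true, false, false, false, false, true, true, false, false, false, false, true, false, false, false, true, false, false, false, false, true, true, false, false, false, false, true, false, false, false, true, false, false, false, false, true, true, false, false, false, false, true, false, false, false, true, false, false, false, false, true, true, false, false, false, false, true, false, false, false, true, false, false, false, false, true, true, false, false, false, false, false, false, true, true, false, false, false, true, true, false, false, false, false, false, false, true, true, false, false, false, false, false, false, true, true, false, false, false, false, false, false, true, true, true, true, true, true, false, false, false, true, true, false, false, false, true, true, false, false, false, true, true],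
  [false, true, false, false, false, true, false, false, false, false, true, true, false, false, false, false, true, false, false, false, true, false, false, false, false, true, true, false, false, false, false, true, false, false, false, true, false, false, false, false, true, true, false, false, false, false, true, false, false, false, true, false, false, false, false, true, true, false, false, false, false, true, false, false, false, true, false, false, false, false, true, true, false, false, false, false, true, false, false, false, true, false, false, false, false, true, true, false, false, false, true, true, true, true, false, true, true, false, false, false, false, true, false, false, true, false, false, false, false, false, true, false, false, true, false, false, false, true, false, false, false, false, true, true, false, false, false, false, true, false, false, false, true, false, false, false, false, true, true, false, false, false, false, true, false, false, false, true, false, false, false, false, true, true, false, false, false, false, true, false, false, false, true, false, false, false, false, true, true, false, false, false, false, true, false, false, false, true, false, false, false, false, true, true, false, false, false, false, true, false, false, false, true, false, false, false, false, true, true, false, false, false, false, false, false, true, true, false, false, false, false, false, false, false, false, false, false, false, false, false, false, false, true, true, false, false, false, false, false, false, true, true, false, false, false, false, false, false, false, false, false, false, false, false, true, true, true, true, false, false, false, true, true, true, true, true, true, true, true, false, true, false, false, false, true, false, false, false, false, true, true,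 false, false, false, false, true, false, false, false, true, false, false, false, false, true, true, false, false, false, false, true, false, false, false, true, false, false, false, false, true, true, false, false, false, false, true, false, false, false, true, false, false, false, false, true, true, false, false, false, false, true, false, false, false, true, false, false, false, false, true, true, false, false, false, false, true, false, false, false, true, false, false, false, false, true, true, false, false, false, true, true, true, true, false, true, true, false, false, false, false, true, false, false, true, false, false, false, false, false, true, false, false, true, false, false, false, true, false, false, false, false, true, true, false, false, false, false, true, false, false, false, true, false, false, false, false, true, true, false, false, false, false, true, false, false, false, true, false, false, false, false, true, true, false, false, false, false, true, false, false, false, true, false, false, false, false, true, true, false, false, false, false, true, false, false, false, true, false, false, false, false, true, true, false, false, false, false, true, false, false, false, true, false, false, false, false, true, true, false, false, false, false, false, false, true, true, false, false, false, false, false, false, false, false, false, false, false, false, false, false, false, true, true, false, false, false, false, false, false, true, true, false, false, false, false, false, false, false, false, false, false, false, false, true, true, true, true, false, false, false, true, true, true, true, true, true, true, true],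
  [true, true, true, false, true, false, false, true, true, true, true, false, false, false, false, true, false, true, true, true, true, false, true, false, false, true, true, true, false, true, false, false],
  [false, true, false, false, false, true, false, false, false, false, true, true, false, false, false, false, true, false, false, false, true, false, false, false, false, true, true, false, false, false, false, true, false, false, false, true, false, false, false, false, true, true, false, false, false, false, true, false, false, false, true, false, false, false, false, true, true, false, false, false, false, true, false, false, false, true, false, false, false, false, true, true, false, false, false, false, true, false, false, false, true, false, false, false, false, true, true, false, false, false, true, true, true, true, false, true, true, false, false, false, false, true, false, false, true, false, false, false, false, false, true, false, false, true, false, false, false, true, false, false, false, false, true, true, false, false, false, false, true, false, false, false, true, false, false, false, false, true, true, false, false, false, false, true, false, false, false, true, false, false, false, false, true, true, false, false, false, false, true, false, false, false, true, false, false, false, false, true, true, false, false, false, false, true, false, false, false, true, false, false, false, false, true, true, false, false, false, false, true, false, false, false, true, false, false, false, false, true, true, false, false, false, false, false, false, true, true, false, false, false, false, false, false, false, false, false, false, false, false, false, false, false, true, true, false, false, false, false, false, false, true, true, false, false, false, false, false, false,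 false, false, false, false, false, false, true, true, true, true, false, false, false, true, true, true, true, true, true, true, true, false, true, false, false, false, true, false, false, false, false, true, true, false, false, false, false, true, false, false, false, true, false, false, false, false, true, true, false, false, false, false, true, false, false, false, true, false, false, false, false, true, true, false, false, false, false, true, false, false, false, true, false, false, false, false, true, true, false, false, false, false, true, false, false, false, true, false, false, false, false, true, true, false, false, false, false, true, false, false, false, true, false, false, false, false, true, true, false, false, false, true, true, true, true, false, true, true, false, false, false, false, true, false, false, true, false, false, false, false, false, true, false, false, true, false, false, false, true, false, false, false, false, true, true, false, false, false, false, true, false, false, false, true, false, false, false, false, true, true, false, false, false, false, true, false, false, false, true, false, false, false, false, true, true, false, false, false, false, true, false, false, false, true, false, false, false, false, true, true, false, false, false, false, true, false, false, false, true, false, false, false, false, true, true, false, false, false, false, true, false, false, false, true, false, false, false, false, true, true, false, false, false, false, false, false, true, true, false, false, false, false, false, false, false, false, false, false, false, false, false, false, false, true, true, false, false, false, false, false, false, true, true, false, false, false, false, false, false, false, false, false, false, false, false, true, true, true, true, false, false,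 false, true, true, true, true, true, true, true, true, true, true, true, true, false, false, false, false, true, false, true, true, true, true, false, true, false, false, true, true, true, true, false, false, false, false, true, false, true, false, true, true, true, false, false, false, false, false, false, true, false, true, true, false, true, true, true, true, false, false, false, false, true, false, true],
  [false, true, false, false, false, true, false, false, false, false, true, true, false, false, false, false, true, false, false, false, true, false, false, false, false, true, true, false, false, false, false, true, false, false, false, true, false, false, false, false, true, true, false, false, false, false, true, false, false, false, true, false, false, false, false, true, true, false, false, false, false, true, false, false, false, true, false, false, false, false, true, true, false, false, false, false, true, false, false, false, true, false, false, false, false, true, true, false, false, false, true, false, true, false, true, false, true, true, true, false, false, true, false, false, true, false, false, true, false, true, false, false, true, false, false, false, true, false, false, false, false, true, true, false, false, false, false, true, false, false, false, true, false, false, false, false, true, true, false, false, false, false, true, false, false, false, true, false, false, false, false, true, true, false, false, false, false, true, false, false, false, true, false, false, false, false, true, true, false, false, false, false, true, false, false, false, true, false, false, false, false, true, true, false, false, false, false, true, false, false, false, true, false, false, false, false, true, true, false, false, false, false, false, false, true, true, false, false, false,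 true, true, false, false, false, false, false, false, true, true, false, false, false, false, false, false, true, true, false, false, false, false, false, false, true, true, true, true, true, true, false, false, false, true, true, false, false, false, true, true, false, false, false, true, true, false, true, false, false, false, true, false, false, false, false, true, true, false, false, false, false, true, false, false, false, true, false, false, false, false, true, true, false, false, false, false, true, false, false, false, true, false, false, false, false, true, true, false, false, false, false, true, false, false, false, true, false, false, false, false, true, true, false, false, false, false, true, false, false, false, true, false, false, false, false, true, true, false, false, false, false, true, false, false, false, true, false, false, false, false, true, true, false, false, false, true, false, true, false, true, false, true, true, true, false, false, true, false, false, true, false, false, true, false, true, false, false, true, false, false, false, true, false, false, false, false, true, true, false, false, false, false, true, false, false, false, true, false, false, false, false, true, true, false, false, false, false, true, false, false, false, true, false, false, false, false, true, true, false, false, false, false, true, false, false, false, true, false, false, false, false, true, true, false, false, false, false, true, false, false, false, true, false, false, false, false, true, true, false, false, false, false, true, false, false, false, true, false, false, false, false, true, true, false, false, false, false, false, false, true, true, false, false, false, true, true, false, false, false, false, false, false, true, true, false, false, false, false, false, false, true, true,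 false, false, false, false, false, false, true, true, true, true, true, true, false, false, false, true, true, false, false, false, true, true, false, false, false, true, true, true, true, true, false, true, false, false, true, true, true, true, false, false, false, false, true, false, true, true, true, true, false, true, false, false, false, true, true, true, false, false, false, false, false, false, true, false, true, true, false, false, true, false, false, false, true, false, false, false, false, true, true, false, false, false, false, true, false, false, false, true, false, false, false, false, true, true, false, false, false, false, true, false, false, false, true, false, false, false, false, true, true, false, false, false, false, true, false, false, false, true, false, false, false, false, true, true, false, false, false, false, true, false, false, false, true, false, false, false, false, true, true, false, false, false, false, true, false, false, false, true, false, false, false, false, true, true, false, false, false, true, false, true, false, true, false, true, true, true, false, false, true, false, false, true, false, false, true, false, true, false, false, true, false, false, false, true, false, false, false, false, true, true, false, false, false, false, true, false, false, false, true, false, false, false, false, true, true, false, false, false, false, true, false, false, false, true, false, false, false, false, true, true, false, false, false, false, true, false, false, false, true, false, false, false, false, true, true, false, false, false, false, true, false, false, false, true, false, false, false, false, true, true, false, false, false, false, true, false, false, false, true, false, false, false, false, true, true, false, false, false, false, false, false, true, true,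 false, false, false, true, true, false, false, false, false, false, false, true, true, false, false, false, false, false, false, true, true, false, false, false, false, false, false, true, true, true, true, true, true, false, false, false, true, true, false, false, false, true, true, false, false, false, true, true, false, true, false, false, false, true, false, false, false, false, true, true, false, false, false, false, true, false, false, false, true, false, false, false, false, true, true, false, false, false, false, true, false, false, false, true, false, false, false, false, true, true, false, false, false, false, true, false, false, false, true, false, false, false, false, true, true, false, false, false, false, true, false, false, false, true, false, false, false, false, true, true, false, false, false, false, true, false, false, false, true, false, false, false, false, true, true, false, false, false, true, false, true, false, true, false, true, true, true, false, false, true, false, false, true, false, false, true, false, true, false, false, true, false, false, false, true, false, false, false, false, true, true, false, false, false, false, true, false, false, false, true, false, false, false, false, true, true, false, false, false, false, true, false, false, false, true, false, false, false, false, true, true, false, false, false, false, true, false, false, false, true, false, false, false, false, true, true, false, false, false, false, true, false, false, false, true, false, false, false, false, true, true, false, false, false, false, true, false, false, false, true, false, false, false, false, true, true, false, false, false, false, false, false, true, true, false, false, false, true, true, false, false, false, false, false, false, true, true, false, false, false, false, false,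 false, true, true, false, false, false, false, false, false, true, true, true, true, true, true, false, false, false, true, true, false, false, false, true, true, false, false, false, true, true],
  [true, false, false, true, true],
  [true, false, true, true, false, true, false],
  [false, true, true, false, false, true, false, false, false],
  [true, true, false, true, true, false, false, true, true],
  [false, false, true, false, false, true, false, false, false],
  [true, false, false, false, true, false, true, true, false, true, true, false, true, true]]

/-- inverse words -/
def iwords : List (List Bool) := [[false, false, false],
  [true, true],
  [false, false, false, false, false, false, false, false, false],
  [true, true, true, true],
  [false, false, false, false, false, false, false, false, false, true, true, true, true, false, false, false, false, false, false, false, false, false, false, false, false, true, true, false, false, false, false, false, false, false, false, false, true, true, false, false, false, false, false, false, false, false, false, false, false, false, true, true, true, true, false, false, false, false, false, false, false, false, false, false, false, false, true, true, false, false, false, false, false, false, false, false, false, true, true, false, false, false, false, false, false, false, false, false, false, false, false, true, true, true, true, false, false, false, false, false, false, false, false, false, false, false, false, true, true, false, false, false, false, false, false, false, false, false, true, true, false, false, false, false, false, false, false, false, false, false, false, false, true, true, true, true, false, false, false, false, false, false, false, false, false, false, false, false, true, true, false, false, false, false, false, false,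 false, false, false, true, true, false, false, false, false, false, false, false, false, false, false, false, false, true, true, true, true, false, false, false, false, false, false, false, false, false, false, false, false, true, true, false, false, false, false, false, false, false, false, false, true, true, false, false, false, false, false, false, false, false, false, false, false, false, true, true, true, true, false, false, false, false, false, false, false, false, false, false, false, false, true, true, false, false, false, false, false, false, false, false, false, true, true, false, false, false],
  [true, true, false, false, false, true, true, false, false, false, false, false, false, false, false, false, false, false, false, true, true, true, true, true, true, true, true],
  [false, false, false, true, true, true, true, false, false, false, true, true, false, false, false, false, false, false, false, false, false, false, false, false, false, false, false, false, false, false, true, true, true, true, true, true, false, false, false, false, false, false, true, true, true, true, false, false, false, true, true, false, false, false, false, false, false, false, false, false, false, false, false, false, false, false, false, false, false, true, true, true, true, true, true, false, false, false],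
  [false, false, false, false, false, false, true, true, false, false, false, true, true, true, true, true, true, false, false, false, true, true, true, true, false, false, false, true, true, false, false, false, false, false, false, false, false, false, false, false, false, false, false, false, false, false, false, true, true, true, true, true, true, false, false, false, false, false, false, false, false, false, true, true, false, false, false, true, true, true, true, true, true, false, false, false, false, false, false, true, true, false, false, false, true, true, true, true, true, true],
  [false, false, false, false, false, false, true, true, false, false, false, true, true, true, true, true, true],
  [false, false, false, false, false, false, true, true, false, false, false, true, true, true, true, true, true, false, false, false, false, false, false, true, true, false, false, false, true, true, true, true, true, true],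
  [false, false, false, true, true, true, true, false, false, false, true, true, false, false, false, false, false, false, false, false, false, false, false, false, false, false, false, false, false, false, true, true, true, true, true, true, false, false, false],
  [false, false, false, false, false, false, true, true, false, false, false, true, true, true, true, true, true, true, true, false, false, false, true, true, false, false, false, false, false, false, false, false, false, false, false, false, true, true, true, true, true, true, true, true],
  [false, false, false, true, true, true, true, false, false, false, true, true, false, false, false, false, false, false, false, false, false, false, false, false, false, false, false, false, false, false, true, true, true, true, true, true, false, false, false, false, false, false, false, false, false, true, true, false, false, false, true, true, true, true, true, true],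
  [false, false, false, false, false, false, true, true, false, false, false, true, true, true, true, true, true, false, false, false, false, false, false, true, true, false, false, false, true, true, true, true, true, true, true, true, false, false, false, true, true, false, false, false, false, false, false, false, false, false, false, false, false, true, true, true, true, true, true, true, true],
  [false, false, false, true, true, true, true, false, false, false, true, true, false, false, false, false, false, false, false, false, false, false, false, false, false, false, false, false, false, false, true, true, true, true, true, true, false, false, false, true, true, false, false, false, true, true, false, false, false, false, false, false, false, false, false, false, false, false, true, true, true, true, true, true, true, true],
  [false, false, false, false, false, false, true, true, false, false, false, true, true, true, true, true, true, false, false, false, false, false, false, true, true, false, false, false, true, true, true, true, true, true, false, false, false, true, true, true, true, false, false, false, true, true, false, false, false, false, false, false, false, false, false, false, false, false, false, false, false, false, false, false, true, true, true, true, true, true, false, false, false],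
  [false, false, false, false, false, false, true, true, false, false, false, true, true, true, true, true, true, true, true, false, false, false, true, true, false, false, false, false, false, false, false, false, false, false, false, false, true, true, true, true, true, true, true, true, false, false, false, true, true, true, true, false, false, false, true, true, false, false, false, false, false, false, false, false, false, false, false, false, false, false, false, false, false, false, true, true, true, true, true, true, false, false, false],
  [false, false, false, true, true, true, true, false, false, false, true, true, false, false, false, false, false, false, false, false, false, false, false, false, false, false, false, false, false, false, true, true, true, true, true, true, false, false, false, true, true, false, false, false, true, true, false, false, false, false, false, false, false, false, false, false, false, false, true, true, true, true, true, true, true, true, false, false, false, false, false, false, true, true, false, false, false, true, true, true, true, true, true],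
  [false, false, false, true, true, true, true, false, false, false, true, true, false, false, false, false, false, false, false, false, false, false, false, false, false, false, false, false, false, false, true, true, true, true, true, true, false, false, false, false, false, false, false, false, false, true, true, false, false, false, true, true, true, true, true, true, true, true, false, false, false, true, true, false, false, false, false, false, false, false, false, false, false, false, false, true, true, true, true, true, true, true, true],
  [false, false, false, false, false, false, true, true, false, false, false, true, true, true, true, true, true, false, false, false, false, false, false, true, true, false, false, false, true, true, true, true, true, true, false, false, false, true, true, true, true, false, false, false, true, true, false, false, false, false, false, false, false, false, false, false, false, false, false, false, false, false, false, false, true, true, true, true, true, true, false, false, false, false, false, false, false, false, false, true, true, false, false, false, true, true, true, true, true, true],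
  [false, false, false, true, true, true, true, false, false, false, true, true, false, false, false, false, false, false, false, false, false, false, false, false, false, false, false, false, false, false, true, true, true, true, true, true, false, false, false, false, false, false, false, false, false, true, true, false, false, false, true, true, true, true, true, true, false, false, false, true, true, true, true, false, false, false, true, true, false, false, false, false, false, false, false, false, false, false, false, false, false, false, false, false, false, false, true, true, true, true, true, true, false, false, false],
  [false, false, false, false, false, false, true, true, false, false, false, true, true, true, true, true, true, false, false, false, false, false, false, true, true, false, false, false, true, true, true, true, true, true, false, false, false, true, true, true, true, false, false, false, true, true, false, false, false, false, false, false, false, false, false, false, false, false, false, false, false, false, false, false, true, true, true, true, true, true, false, false, false, true, true, false, false, false, true, true, false, false, false, false, false, false, false, false, false, false, false, false, true, true, true, true, true, true, true, true],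
  [true, true, false, false, false, true, true, false, false, false, false, false, false, false, false, false, false, false, false, true, true, true, true, true, true, true, true, true, true, false, false, false, true, true, false, false, false, false, false, false, false, false, false, false, false, false, true, true, true, true, true, true, true, true],
  [true, true, true, true, false, false, false, false, false, false, false, false, false, true, true, true, true, false, false, false, false, false, false, false, false, false, true, true, true, true, false, false, false, false, false, false, false, false, false, true, true, true, true, true, true, true, true, true, true, true, true, false, false, false, false, false, false, false, false, false, false, false, false, false, false, false, false, false, false, true, true, true, true, false, false, false, false, false, false, false, false, false, false, false, false, false, false, false, false, false, false, true, true, true, true, false, false, false, false, false, false, false, false, false, false, false, false, false, false, false, false, false, false, true, true, true, true, false, false, false, false, false, false, false, false, false, true, true, true, true, false, false, false, false, false, false, false, false, false, false, false, false, false, false, false, false, false, false, true, true, true, true, false, false, false, false, false, false, false, false, false, false, false, false, true, true, false, false, false, false, false, false, false, false, false, true, true, false, false, false, false, false, false, false, false, false, false, false, false, true, true, true, true, false, false, false, false, false, false, false, false, false, false, false, false, true, true, false, false, false, false, false, false, false, false, false,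 true, true, false, false, false, false, false, false, false, false, false, false, false, false, true, true, true, true, false, false, false, false, false, false, false, false, false, false, false, false, true, true, false, false, false, false, false, false, false, false, false, true, true, false, false, false, false, false, false, false, false, false, false, false, false, true, true, true, true, false, false, false, false, false, false, false, false, false, false, false, false, true, true, false, false, false, false, false, false, false, false, false, true, true, false, false, false, false, false, false, false, false, false, false, false, false, true, true, true, true, false, false, false, false, false, false, false, false, false, false, false, false, true, true, false, false, false, false, false, false, false, false, false, true, true, false, false, false, false, false, false, false, false, false, false, false, false, true, true, true, true, false, false, false, false, false, false, false, false, false, false, false, false, true, true, false, false, false, false, false, false, false, false, false, true, true, false, false, false, false, false, false, true, true, false, false, false, true, true, false, false, false, false, false, false, true, true, false, false, false, false, false, false, true, true, false, false, false, false, false, false, true, true, true, true, true, true, false, false, false, true, true, false, false, false, true, true, false, false, false, true, true, false, false, false, false, false, false, false, false, false, true, true, true, true, false, false, false, false, false, false, false, false, false, false, false, false, true, true, false, false, false, false, false, false, false, false, false, true, true, false, false, false, false, false, false, false, false, false,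 false, false, false, true, true, true, true, false, false, false, false, false, false, false, false, false, false, false, false, true, true, false, false, false, false, false, false, false, false, false, true, true, false, false, false, false, false, false, false, false, false, false, false, false, true, true, true, true, false, false, false, false, false, false, false, false, false, false, false, false, true, true, false, false, false, false, false, false, false, false, false, true, true, false, false, false, false, false, false, false, false, false, false, false, false, true, true, true, true, false, false, false, false, false, false, false, false, false, false, false, false, true, true, false, false, false, false, false, false, false, false, false, true, true, false, false, false, false, false, false, false, false, false, false, false, false, true, true, true, true, false, false, false, false, false, false, false, false, false, false, false, false, true, true, false, false, false, false, false, false, false, false, false, true, true, false, false, false, false, false, false, false, false, false, false, false, false, true, true, true, true, false, false, false, false, false, false, false, false, false, false, false, false, true, true, false, false, false, false, false, false, false, false, false, true, true, false, false, false, true, true, true, true, false, false, false, false, false, false, false, false, false, true, true, true, true, false, false, false, false, false, false, false, false, false, true, true, true, true, false, false, false, false, false, false, false, false, false, true, true, true, true, true, true, true, true, true, true, true, true, false, false, false, false, false, false, false, false, false, false, false, false, false, false, false, false, false, false, true,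 true, true, true, false, false, false, false, false, false, false, false, false, false, false, false, false, false, false, false, false, false, true, true, true, true, false, false, false, false, false, false, false, false, false, false, false, false, false, false, false, false, false, false, true, true, true, true, false, false, false, false, false, false, false, false, false, true, true, true, true, false, false, false, false, false, false, false, false, false, false, false, false, false, false, false, false, false, false, true, true, true, true, false, false, false, false, false, false, false, false, false, false, false, false, true, true, false, false, false, false, false, false, false, false, false, true, true, false, false, false, false, false, false, false, false, false, false, false, false, true, true, true, true, false, false, false, false, false, false, false, false, false, false, false, false, true, true, false, false, false, false, false, false, false, false, false, true, true, false, false, false, false, false, false, false, false, false, false, false, false, true, true, true, true, false, false, false, false, false, false, false, false, false, false, false, false, true, true, false, false, false, false, false, false, false, false, false, true, true, false, false, false, false, false, false, false, false, false, false, false, false, true, true, true, true, false, false, false, false, false, false, false, false, false, false, false, false, true, true, false, false, false, false, false, false, false, false, false, true, true, false, false, false, false, false, false, false, false, false, false, false, false, true, true, true, true, false, false, false, false, false, false, false, false, false, false, false, false, true, true, false, false, false, false, false, false, false,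 false, false, true, true, false, false, false, false, false, false, false, false, false, false, false, false, true, true, true, true, false, false, false, false, false, false, false, false, false, false, false, false, true, true, false, false, false, false, false, false, false, false, false, true, true, false, false, false, false, false, false, true, true, false, false, false, true, true, false, false, false, false, false, false, true, true, false, false, false, false, false, false, true, true, false, false, false, false, false, false, true, true, true, true, true, true, false, false, false, true, true, false, false, false, true, true, false, false, false, true, true, false, false, false, false, false, false, false, false, false, true, true, true, true, false, false, false, false, false, false, false, false, false, false, false, false, true, true, false, false, false, false, false, false, false, false, false, true, true, false, false, false, false, false, false, false, false, false, false, false, false, true, true, true, true, false, false, false, false, false, false, false, false, false, false, false, false, true, true, false, false, false, false, false, false, false, false, false, true, true, false, false, false, false, false, false, false, false, false, false, false, false, true, true, true, true, false, false, false, false, false, false, false, false, false, false, false, false, true, true, false, false, false, false, false, false, false, false, false, true, true, false, false, false, false, false, false, false, false, false, false, false, false, true, true, true, true, false, false, false, false, false, false, false, false, false, false, false, false, true, true, false, false, false, false, false, false, false, false, false, true, true, false, false, false, false, false, false, false,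 false, false, false, false, false, true, true, true, true, false, false, false, false, false, false, false, false, false, false, false, false, true, true, false, false, false, false, false, false, false, false, false, true, true, false, false, false, false, false, false, false, false, false, false, false, false, true, true, true, true, false, false, false, false, false, false, false, false, false, false, false, false, true, true, false, false, false, false, false, false, false, false, false, true, true, false, false, false],
  [true, true, true, true, true, true, true, true, true, true, true, true, true, true, true, true, false, false, false, false, false, false, false, false, false, true, true, true, true, true, true, true, true, false, false, false, false, false, false, false, false, false, false, false, false, false, false, false, false, false, false, false, false, false, false, false, false, false, false, false, false, false, false, false, false, false, false, false, false, true, true, true, true, false, false, false, false, false, false, false, false, false, false, false, false, false, false, false, false, false, false, true, true, true, true, false, false, false, false, false, false, false, false, false, false, false, false, false, false, false, false, false, false, false, false, false, false, false, false, false, false, false, false, false, false, false, false, false, false, false, false, false, false, false, false, false, false, false, false, false, true, true, true, true, false, false, false, false, false, false, false, false, false, false, false, false, false, false, false, false, false, false, true, true, true, true, false, false, false, false, false, false, false, false, false, false, false, false, true, true, false, false, false, false, false, false, false, false, false, true,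 true, false, false, false, false, false, false, false, false, false, false, false, false, true, true, true, true, false, false, false, false, false, false, false, false, false, false, false, false, true, true, false, false, false, false, false, false, false, false, false, true, true, false, false, false, false, false, false, false, false, false, false, false, false, true, true, true, true, false, false, false, false, false, false, false, false, false, false, false, false, true, true, false, false, false, false, false, false, false, false, false, true, true, false, false, false, false, false, false, false, false, false, false, false, false, true, true, true, true, false, false, false, false, false, false, false, false, false, false, false, false, true, true, false, false, false, false, false, false, false, false, false, true, true, false, false, false, false, false, false, false, false, false, false, false, false, true, true, true, true, false, false, false, false, false, false, false, false, false, false, false, false, true, true, false, false, false, false, false, false, false, false, false, true, true, false, false, false, false, false, false, false, false, false, false, false, false, true, true, true, true, false, false, false, false, false, false, false, false, false, false, false, false, true, true, false, false, false, false, false, false, false, false, false, true, true, false, false, false, false, false, false, true, true, false, false, false, false, false, false, false, false, false, false, false, false, false, false, false, true, true, false, false, false, false, false, false, true, true, false, false, false, false, false, false, false, false, false, false, false, false, true, true, true, true, false, false, false, true, true, true, true, true, true, true, true, false, false,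 false, false, false, false, false, false, false, true, true, true, true, false, false, false, false, false, false, false, false, false, false, false, false, true, true, false, false, false, false, false, false, false, false, false, true, true, false, false, false, false, false, false, false, false, false, false, false, false, true, true, true, true, false, false, false, false, false, false, false, false, false, false, false, false, true, true, false, false, false, false, false, false, false, false, false, true, true, false, false, false, false, false, false, false, false, false, false, false, false, true, true, true, true, false, false, false, false, false, false, false, false, false, false, false, false, true, true, false, false, false, false, false, false, false, false, false, true, true, false, false, false, false, false, false, false, false, false, false, false, false, true, true, true, true, false, false, false, false, false, false, false, false, false, false, false, false, true, true, false, false, false, false, false, false, false, false, false, true, true, false, false, false, false, false, false, false, false, false, false, false, false, true, true, true, true, false, false, false, false, false, false, false, false, false, false, false, false, true, true, false, false, false, false, false, false, false, false, false, true, true, false, false, false, false, false, false, false, false, false, false, false, false, true, true, true, true, false, false, false, false, false, false, false, false, false, false, false, false, true, true, false, false, false, false, false, false, false, false, false, true, true, false, false, false, true, true, true, true, true, true, true, true, true, true, true, true, true, true, true, true, false, false, false, false, false, false, false, false, false,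 true, true, true, true, true, true, true, true, false, false, false, false, false, false, false, false, false, false, false, false, false, false, false, false, false, false, false, false, false, false, false, false, false, false, false, false, false, false, false, false, false, false, false, false, true, true, true, true, false, false, false, false, false, false, false, false, false, false, false, false, false, false, false, false, false, false, true, true, true, true, false, false, false, false, false, false, false, false, false, false, false, false, false, false, false, false, false, false, false, false, false, false, false, false, false, false, false, false, false, false, false, false, false, false, false, false, false, false, false, false, false, false, false, false, false, true, true, true, true, false, false, false, false, false, false, false, false, false, false, false, false, false, false, false, false, false, false, true, true, true, true, false, false, false, false, false, false, false, false, false, false, false, false, true, true, false, false, false, false, false, false, false, false, false, true, true, false, false, false, false, false, false, false, false, false, false, false, false, true, true, true, true, false, false, false, false, false, false, false, false, false, false, false, false, true, true, false, false, false, false, false, false, false, false, false, true, true, false, false, false, false, false, false, false, false, false, false, false, false, true, true, true, true, false, false, false, false, false, false, false, false, false, false, false, false, true, true, false, false, false, false, false, false, false, false, false, true, true, false, false, false, false, false, false, false, false, false, false, false, false, true, true, true, true, false, false, false,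 false, false, false, false, false, false, false, false, false, true, true, false, false, false, false, false, false, false, false, false, true, true, false, false, false, false, false, false, false, false, false, false, false, false, true, true, true, true, false, false, false, false, false, false, false, false, false, false, false, false, true, true, false, false, false, false, false, false, false, false, false, true, true, false, false, false, false, false, false, false, false, false, false, false, false, true, true, true, true, false, false, false, false, false, false, false, false, false, false, false, false, true, true, false, false, false, false, false, false, false, false, false, true, true, false, false, false, false, false, false, true, true, false, false, false, false, false, false, false, false, false, false, false, false, false, false, false, true, true, false, false, false, false, false, false, true, true, false, false, false, false, false, false, false, false, false, false, false, false, true, true, true, true, false, false, false, true, true, true, true, true, true, true, true, false, false, false, false, false, false, false, false, false, true, true, true, true, false, false, false, false, false, false, false, false, false, false, false, false, true, true, false, false, false, false, false, false, false, false, false, true, true, false, false, false, false, false, false, false, false, false, false, false, false, true, true, true, true, false, false, false, false, false, false, false, false, false, false, false, false, true, true, false, false, false, false, false, false, false, false, false, true, true, false, false, false, false, false, false, false, false, false, false, false, false, true, true, true, true, false, false, false, false, false, false, false, false, false,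 false, false, false, true, true, false, false, false, false, false, false, false, false, false, true, true, false, false, false, false, false, false, false, false, false, false, false, false, true, true, true, true, false, false, false, false, false, false, false, false, false, false, false, false, true, true, false, false, false, false, false, false, false, false, false, true, true, false, false, false, false, false, false, false, false, false, false, false, false, true, true, true, true, false, false, false, false, false, false, false, false, false, false, false, false, true, true, false, false, false, false, false, false, false, false, false, true, true, false, false, false, false, false, false, false, false, false, false, false, false, true, true, true, true, false, false, false, false, false, false, false, false, false, false, false, false, true, true, false, false, false, false, false, false, false, false, false, true, true, false, false, false],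
  [false, false, false, false, false, false, true, true, false, false, false, true, true, true, true, true, true, false, false, false, false, false, false, true, true, false, false, false, true, true, true, true, true, true, true, true, false, false, false, true, true, false, false, false, false, false, false, false, false, false, false, false, false, true, true, true, true, true, true, true, true, false, false, false, false, false, false, true, true, false, false, false, true, true, true, true, true, true],
  [true, true, false, false, false, true, true, false, false, false, false, false, false, false, false, false, false, false, false, true, true, true, true, true, true, true, true, false, false, false, true, true, true, true, false, false, false, true, true, false, false, false, false, false, false, false, false, false, false, false, false, false, false, false, false, false, false, true, true, true, true, true, true, false, false, false, true, true, false, false, false, true, true, false, false, false, false, false, false, false, false, false, false, false, false, true, true, true, true, true, true, true, true, false, false, false, false, false, false, true, true, false, false, false, true, true, true, true, true, true, true, true, false, false, false, true, true, false, false, false, false, false, false, false, false, false, false, false, false, true, true, true, true, true, true, true, true, true, true, true, true, true, true, true, true, true, true, true, true, true, true, true, true, false, false, false, false, false, false, false, false, false, true, true, true, true, true, true, true, true, false, false, false, false, false, false, false, false, false, false, false, false, false, false, false, false, false, false, false, false, false, false, false, false, false, false, false,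 false, false, false, false, false, false, false, false, false, true, true, true, true, false, false, false, false, false, false, false, false, false, false, false, false, false, false, false, false, false, false, true, true, true, true, false, false, false, false, false, false, false, false, false, false, false, false, false, false, false, false, false, false, false, false, false, false, false, false, false, false, false, false, false, false, false, false, false, false, false, false, false, false, false, false, false, false, false, false, false, true, true, true, true, false, false, false, false, false, false, false, false, false, false, false, false, false, false, false, false, false, false, true, true, true, true, false, false, false, false, false, false, false, false, false, false, false, false, true, true, false, false, false, false, false, false, false, false, false, true, true, false, false, false, false, false, false, false, false, false, false, false, false, true, true, true, true, false, false, false, false, false, false, false, false, false, false, false, false, true, true, false, false, false, false, false, false, false, false, false, true, true, false, false, false, false, false, false, false, false, false, false, false, false, true, true, true, true, false, false, false, false, false, false, false, false, false, false, false, false, true, true, false, false, false, false, false, false, false, false, false, true, true, false, false, false, false, false, false, false, false, false, false, false, false, true, true, true, true, false, false, false, false, false, false, false, false, false, false, false, false, true, true, false, false, false, false, false, false, false, false, false, true, true, false, false, false, false, false, false, false, false, false, false, false, false,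 true, true, true, true, false, false, false, false, false, false, false, false, false, false, false, false, true, true, false, false, false, false, false, false, false, false, false, true, true, false, false, false, false, false, false, false, false, false, false, false, false, true, true, true, true, false, false, false, false, false, false, false, false, false, false, false, false, true, true, false, false, false, false, false, false, false, false, false, true, true, false, false, false, false, false, false, true, true, false, false, false, false, false, false, false, false, false, false, false, false, false, false, false, true, true, false, false, false, false, false, false, true, true, false, false, false, false, false, false, false, false, false, false, false, false, true, true, true, true, false, false, false, true, true, true, true, true, true, true, true, false, false, false, false, false, false, false, false, false, true, true, true, true, false, false, false, false, false, false, false, false, false, false, false, false, true, true, false, false, false, false, false, false, false, false, false, true, true, false, false, false, false, false, false, false, false, false, false, false, false, true, true, true, true, false, false, false, false, false, false, false, false, false, false, false, false, true, true, false, false, false, false, false, false, false, false, false, true, true, false, false, false, false, false, false, false, false, false, false, false, false, true, true, true, true, false, false, false, false, false, false, false, false, false, false, false, false, true, true, false, false, false, false, false, false, false, false, false, true, true, false, false, false, false, false, false, false, false, false, false, false, false, true, true, true, true, false, false, false,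 false, false, false, false, false, false, false, false, false, true, true, false, false, false, false, false, false, false, false, false, true, true, false, false, false, false, false, false, false, false, false, false, false, false, true, true, true, true, false, false, false, false, false, false, false, false, false, false, false, false, true, true, false, false, false, false, false, false, false, false, false, true, true, false, false, false, false, false, false, false, false, false, false, false, false, true, true, true, true, false, false, false, false, false, false, false, false, false, false, false, false, true, true, false, false, false, false, false, false, false, false, false, true, true, false, false, false, true, true, true, true, true, true, true, true, true, true, true, true, true, true, true, true, false, false, false, false, false, false, false, false, false, true, true, true, true, true, true, true, true, false, false, false, false, false, false, false, false, false, false, false, false, false, false, false, false, false, false, false, false, false, false, false, false, false, false, false, false, false, false, false, false, false, false, false, false, true, true, true, true, false, false, false, false, false, false, false, false, false, false, false, false, false, false, false, false, false, false, true, true, true, true, false, false, false, false, false, false, false, false, false, false, false, false, false, false, false, false, false, false, false, false, false, false, false, false, false, false, false, false, false, false, false, false, false, false, false, false, false, false, false, false, false, false, false, false, false, true, true, true, true, false, false, false, false, false, false, false, false, false, false, false, false, false, false, false, false, false,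 false, true, true, true, true, false, false, false, false, false, false, false, false, false, false, false, false, true, true, false, false, false, false, false, false, false, false, false, true, true, false, false, false, false, false, false, false, false, false, false, false, false, true, true, true, true, false, false, false, false, false, false, false, false, false, false, false, false, true, true, false, false, false, false, false, false, false, false, false, true, true, false, false, false, false, false, false, false, false, false, false, false, false, true, true, true, true, false, false, false, false, false, false, false, false, false, false, false, false, true, true, false, false, false, false, false, false, false, false, false, true, true, false, false, false, false, false, false, false, false, false, false, false, false, true, true, true, true, false, false, false, false, false, false, false, false, false, false, false, false, true, true, false, false, false, false, false, false, false, false, false, true, true, false, false, false, false, false, false, false, false, false, false, false, false, true, true, true, true, false, false, false, false, false, false, false, false, false, false, false, false, true, true, false, false, false, false, false, false, false, false, false, true, true, false, false, false, false, false, false, false, false, false, false, false, false, true, true, true, true, false, false, false, false, false, false, false, false, false, false, false, false, true, true, false, false, false, false, false, false, false, false, false, true, true, false, false, false, false, false, false, true, true, false, false, false, false, false, false, false, false, false, false, false, false, false, false, false, true, true, false, false, false, false, false, false, true,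 true, false, false, false, false, false, false, false, false, false, false, false, false, true, true, true, true, false, false, false, true, true, true, true, true, true, true, true, false, false, false, false, false, false, false, false, false, true, true, true, true, false, false, false, false, false, false, false, false, false, false, false, false, true, true, false, false, false, false, false, false, false, false, false, true, true, false, false, false, false, false, false, false, false, false, false, false, false, true, true, true, true, false, false, false, false, false, false, false, false, false, false, false, false, true, true, false, false, false, false, false, false, false, false, false, true, true, false, false, false, false, false, false, false, false, false, false, false, false, true, true, true, true, false, false, false, false, false, false, false, false, false, false, false, false, true, true, false, false, false, false, false, false, false, false, false, true, true, false, false, false, false, false, false, false, false, false, false, false, false, true, true, true, true, false, false, false, false, false, false, false, false, false, false, false, false, true, true, false, false, false, false, false, false, false, false, false, true, true, false, false, false, false, false, false, false, false, false, false, false, false, true, true, true, true, false, false, false, false, false, false, false, false, false, false, false, false, true, true, false, false, false, false, false, false, false, false, false, true, true, false, false, false, false, false, false, false, false, false, false, false, false, true, true, true, true, false, false, false, false, false, false, false, false, false, false, false, false, true, true, false, false, false, false, false, false, false, false,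 false, true, true, false, false, false],
  [true, true, true, true, false, false, false, false, false, false, false, false, false, true, true, true, true, false, false, false, false, false, false, false, false, false, true, true, true, true, false, false, false, false, false, false, false, false, false, true, true, true, true, true, true, true, true, true, true, true, true, false, false, false, false, false, false, false, false, false, false, false, false, false, false, false, false, false, false, true, true, true, true, false, false, false, false, false, false, false, false, false, false, false, false, false, false, false, false, false, false, true, true, true, true, false, false, false, false, false, false, false, false, false, false, false, false, false, false, false, false, false, false, true, true, true, true, false, false, false, false, false, false, false, false, false, true, true, true, true, false, false, false, false, false, false, false, false, false, false, false, false, false, false, false, false, false, false, true, true, true, true, false, false, false, false, false, false, false, false, false, false, false, false, true, true, false, false, false, false, false, false, false, false, false, true, true, false, false, false, false, false, false, false, false, false, false, false, false, true, true, true, true, false, false, false, false, false, false, false, false, false, false, false, false, true, true, false, false, false, false, false, false, false, false, false, true, true, false, false, false, false, false, false, false, false, false, false, false, false, true, true, true, true, false, false, false, false, false, false, false, false, false, false, false, false, true, true, false, false, false, false, false, false, false, false, false, true, true, false, false, false, false,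 false, false, false, false, false, false, false, false, true, true, true, true, false, false, false, false, false, false, false, false, false, false, false, false, true, true, false, false, false, false, false, false, false, false, false, true, true, false, false, false, false, false, false, false, false, false, false, false, false, true, true, true, true, false, false, false, false, false, false, false, false, false, false, false, false, true, true, false, false, false, false, false, false, false, false, false, true, true, false, false, false, false, false, false, false, false, false, false, false, false, true, true, true, true, false, false, false, false, false, false, false, false, false, false, false, false, true, true, false, false, false, false, false, false, false, false, false, true, true, false, false, false, false, false, false, true, true, false, false, false, true, true, false, false, false, false, false, false, true, true, false, false, false, false, false, false, true, true, false, false, false, false, false, false, true, true, true, true, true, true, false, false, false, true, true, false, false, false, true, true, false, false, false, true, true, false, false, false, false, false, false, false, false, false, true, true, true, true, false, false, false, false, false, false, false, false, false, false, false, false, true, true, false, false, false, false, false, false, false, false, false, true, true, false, false, false, false, false, false, false, false, false, false, false, false, true, true, true, true, false, false, false, false, false, false, false, false, false, false, false, false, true, true, false, false, false, false, false, false, false, false, false, true, true, false, false, false, false, false, false, false, false, false, false, false, false, true, true, true,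 true, false, false, false, false, false, false, false, false, false, false, false, false, true, true, false, false, false, false, false, false, false, false, false, true, true, false, false, false, false, false, false, false, false, false, false, false, false, true, true, true, true, false, false, false, false, false, false, false, false, false, false, false, false, true, true, false, false, false, false, false, false, false, false, false, true, true, false, false, false, false, false, false, false, false, false, false, false, false, true, true, true, true, false, false, false, false, false, false, false, false, false, false, false, false, true, true, false, false, false, false, false, false, false, false, false, true, true, false, false, false, false, false, false, false, false, false, false, false, false, true, true, true, true, false, false, false, false, false, false, false, false, false, false, false, false, true, true, false, false, false, false, false, false, false, false, false, true, true, false, false, false, true, true, true, true, false, false, false, false, false, false, false, false, false, true, true, true, true, false, false, false, false, false, false, false, false, false, true, true, true, true, false, false, false, false, false, false, false, false, false, true, true, true, true, true, true, true, true, true, true, true, true, false, false, false, false, false, false, false, false, false, false, false, false, false, false, false, false, false, false, true, true, true, true, false, false, false, false, false, false, false, false, false, false, false, false, false, false, false, false, false, false, true, true, true, true, false, false, false, false, false, false, false, false, false, false, false, false, false, false, false, false, false, false, true, true, true, true,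 false, false, false, false, false, false, false, false, false, true, true, true, true, false, false, false, false, false, false, false, false, false, false, false, false, false, false, false, false, false, false, true, true, true, true, false, false, false, false, false, false, false, false, false, false, false, false, true, true, false, false, false, false, false, false, false, false, false, true, true, false, false, false, false, false, false, false, false, false, false, false, false, true, true, true, true, false, false, false, false, false, false, false, false, false, false, false, false, true, true, false, false, false, false, false, false, false, false, false, true, true, false, false, false, false, false, false, false, false, false, false, false, false, true, true, true, true, false, false, false, false, false, false, false, false, false, false, false, false, true, true, false, false, false, false, false, false, false, false, false, true, true, false, false, false, false, false, false, false, false, false, false, false, false, true, true, true, true, false, false, false, false, false, false, false, false, false, false, false, false, true, true, false, false, false, false, false, false, false, false, false, true, true, false, false, false, false, false, false, false, false, false, false, false, false, true, true, true, true, false, false, false, false, false, false, false, false, false, false, false, false, true, true, false, false, false, false, false, false, false, false, false, true, true, false, false, false, false, false, false, false, false, false, false, false, false, true, true, true, true, false, false, false, false, false, false, false, false, false, false, false, false, true, true, false, false, false, false, false, false, false, false, false, true, true, false, false,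 false, false, false, false, true, true, false, false, false, true, true, false, false, false, false, false, false, true, true, false, false, false, false, false, false, true, true, false, false, false, false, false, false, true, true, true, true, true, true, false, false, false, true, true, false, false, false, true, true, false, false, false, true, true, false, false, false, false, false, false, false, false, false, true, true, true, true, false, false, false, false, false, false, false, false, false, false, false, false, true, true, false, false, false, false, false, false, false, false, false, true, true, false, false, false, false, false, false, false, false, false, false, false, false, true, true, true, true, false, false, false, false, false, false, false, false, false, false, false, false, true, true, false, false, false, false, false, false, false, false, false, true, true, false, false, false, false, false, false, false, false, false, false, false, false, true, true, true, true, false, false, false, false, false, false, false, false, false, false, false, false, true, true, false, false, false, false, false, false, false, false, false, true, true, false, false, false, false, false, false, false, false, false, false, false, false, true, true, true, true, false, false, false, false, false, false, false, false, false, false, false, false, true, true, false, false, false, false, false, false, false, false, false, true, true, false, false, false, false, false, false, false, false, false, false, false, false, true, true, true, true, false, false, false, false, false, false, false, false, false, false, false, false, true, true, false, false, false, false, false, false, false, false, false, true, true, false, false, false, false, false, false, false, false, false, false, false, false,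 true, true, true, true, false, false, false, false, false, false, false, false, false, false, false, false, true, true, false, false, false, false, false, false, false, false, false, true, true, false, false, false, false, false, false, true, true, true, true, false, false, false, true, true, false, false, false, false, false, false, false, false, false, false, false, false, false, false, false, false, false, false, true, true, true, true, true, true, false, false, false, false, false, false, false, false, false, true, true, false, false, false, true, true, true, true, true, true, true, true, false, false, false, true, true, false, false, false, false, false, false, false, false, false, false, false, false, true, true, true, true, true, true, true, true, false, false, false, false, false, false, true, true, false, false, false, true, true, true, true, true, true, true, true, true, true, false, false, false, false, false, false, false, false, false, true, true, true, true, false, false, false, false, false, false, false, false, false, true, true, true, true, false, false, false, false, false, false, false, false, false, true, true, true, true, true, true, true, true, true, true, true, true, false, false, false, false, false, false, false, false, false, false, false, false, false, false, false, false, false, false, true, true, true, true, false, false, false, false, false, false, false, false, false, false, false, false, false, false, false, false, false, false, true, true, true, true, false, false, false, false, false, false, false, false, false, false, false, false, false, false, false, false, false, false, true, true, true, true, false, false, false, false, false, false, false, false, false, true, true, true, true, false, false, false, false, false, false, false, false, false, false,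 false, false, false, false, false, false, false, false, true, true, true, true, false, false, false, false, false, false, false, false, false, false, false, false, true, true, false, false, false, false, false, false, false, false, false, true, true, false, false, false, false, false, false, false, false, false, false, false, false, true, true, true, true, false, false, false, false, false, false, false, false, false, false, false, false, true, true, false, false, false, false, false, false, false, false, false, true, true, false, false, false, false, false, false, false, false, false, false, false, false, true, true, true, true, false, false, false, false, false, false, false, false, false, false, false, false, true, true, false, false, false, false, false, false, false, false, false, true, true, false, false, false, false, false, false, false, false, false, false, false, false, true, true, true, true, false, false, false, false, false, false, false, false, false, false, false, false, true, true, false, false, false, false, false, false, false, false, false, true, true, false, false, false, false, false, false, false, false, false, false, false, false, true, true, true, true, false, false, false, false, false, false, false, false, false, false, false, false, true, true, false, false, false, false, false, false, false, false, false, true, true, false, false, false, false, false, false, false, false, false, false, false, false, true, true, true, true, false, false, false, false, false, false, false, false, false, false, false, false, true, true, false, false, false, false, false, false, false, false, false, true, true, false, false, false, false, false, false, true, true, false, false, false, true, true, false, false, false, false, false, false, true, true, false, false, false, false, false,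 false, true, true, false, false, false, false, false, false, true, true, true, true, true, true, false, false, false, true, true, false, false, false, true, true, false, false, false, true, true, false, false, false, false, false, false, false, false, false, true, true, true, true, false, false, false, false, false, false, false, false, false, false, false, false, true, true, false, false, false, false, false, false, false, false, false, true, true, false, false, false, false, false, false, false, false, false, false, false, false, true, true, true, true, false, false, false, false, false, false, false, false, false, false, false, false, true, true, false, false, false, false, false, false, false, false, false, true, true, false, false, false, false, false, false, false, false, false, false, false, false, true, true, true, true, false, false, false, false, false, false, false, false, false, false, false, false, true, true, false, false, false, false, false, false, false, false, false, true, true, false, false, false, false, false, false, false, false, false, false, false, false, true, true, true, true, false, false, false, false, false, false, false, false, false, false, false, false, true, true, false, false, false, false, false, false, false, false, false, true, true, false, false, false, false, false, false, false, false, false, false, false, false, true, true, true, true, false, false, false, false, false, false, false, false, false, false, false, false, true, true, false, false, false, false, false, false, false, false, false, true, true, false, false, false, false, false, false, false, false, false, false, false, false, true, true, true, true, false, false, false, false, false, false, false, false, false, false, false, false, true, true, false, false, false, false, false, false,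 false, false, false, true, true, false, false, false, true, true, true, true, false, false, false, false, false, false, false, false, false, true, true, true, true, false, false, false, false, false, false, false, false, false, true, true, true, true, false, false, false, false, false, false, false, false, false, true, true, true, true, true, true, true, true, true, true, true, true, false, false, false, false, false, false, false, false, false, false, false, false, false, false, false, false, false, false, true, true, true, true, false, false, false, false, false, false, false, false, false, false, false, false, false, false, false, false, false, false, true, true, true, true, false, false, false, false, false, false, false, false, false, false, false, false, false, false, false, false, false, false, true, true, true, true, false, false, false, false, false, false, false, false, false, true, true, true, true, false, false, false, false, false, false, false, false, false, false, false, false, false, false, false, false, false, false, true, true, true, true, false, false, false, false, false, false, false, false, false, false, false, false, true, true, false, false, false, false, false, false, false, false, false, true, true, false, false, false, false, false, false, false, false, false, false, false, false, true, true, true, true, false, false, false, false, false, false, false, false, false, false, false, false, true, true, false, false, false, false, false, false, false, false, false, true, true, false, false, false, false, false, false, false, false, false, false, false, false, true, true, true, true, false, false, false, false, false, false, false, false, false, false, false, false, true, true, false, false, false, false, false, false, false, false, false, true, true, false, false,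 false, false, false, false, false, false, false, false, false, false, true, true, true, true, false, false, false, false, false, false, false, false, false, false, false, false, true, true, false, false, false, false, false, false, false, false, false, true, true, false, false, false, false, false, false, false, false, false, false, false, false, true, true, true, true, false, false, false, false, false, false, false, false, false, false, false, false, true, true, false, false, false, false, false, false, false, false, false, true, true, false, false, false, false, false, false, false, false, false, false, false, false, true, true, true, true, false, false, false, false, false, false, false, false, false, false, false, false, true, true, false, false, false, false, false, false, false, false, false, true, true, false, false, false, false, false, false, true, true, false, false, false, true, true, false, false, false, false, false, false, true, true, false, false, false, false, false, false, true, true, false, false, false, false, false, false, true, true, true, true, true, true, false, false, false, true, true, false, false, false, true, true, false, false, false, true, true, false, false, false, false, false, false, false, false, false, true, true, true, true, false, false, false, false, false, false, false, false, false, false, false, false, true, true, false, false, false, false, false, false, false, false, false, true, true, false, false, false, false, false, false, false, false, false, false, false, false, true, true, true, true, false, false, false, false, false, false, false, false, false, false, false, false, true, true, false, false, false, false, false, false, false, false, false, true, true, false, false, false, false, false, false, false, false, false, false, false, false,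 true, true, true, true, false, false, false, false, false, false, false, false, false, false, false, false, true, true, false, false, false, false, false, false, false, false, false, true, true, false, false, false, false, false, false, false, false, false, false, false, false, true, true, true, true, false, false, false, false, false, false, false, false, false, false, false, false, true, true, false, false, false, false, false, false, false, false, false, true, true, false, false, false, false, false, false, false, false, false, false, false, false, true, true, true, true, false, false, false, false, false, false, false, false, false, false, false, false, true, true, false, false, false, false, false, false, false, false, false, true, true, false, false, false, false, false, false, false, false, false, false, false, false, true, true, true, true, false, false, false, false, false, false, false, false, false, false, false, false, true, true, false, false, false, false, false, false, false, false, false, true, true, false, false, false],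
  [true, true, true, true, false, false, false, false, false, false, true, true],
  [false, false, false, true, true, false, false, false, true, true, true, true, false, false, false, true, true],
  [false, false, false, false, false, false, false, false, false, true, true, false, false, false, false, false, false, true, true, true, true, false, false, false],
  [true, true, true, true, false, false, false, false, false, false, true, true, true, true, false, false, false, true, true, true, true],
  [false, false, false, false, false, false, false, false, false, true, true, false, false, false, false, false, false, true, true, false, false, false, false, false, false],
  [true, true, true, true, false, false, false, true, true, true, true, false, false, false, true, true, true, true, false, false, false, true, true, false, false, false, false, false, false, false, false, false, true, true]]

def j2Cert : Cert where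
  N := 604800
  k := 7
  gl := [4096849162673724446988946149152029297868844793735987224639884856813247960595192128253453128245525207148457793040573307808899405194125495980136951488325700866924770691115453469252068284155246267318500420399169921, 3977113870174980274355461218629656127443179593476211249209313328812397797613697416387434913869003032348069077963703334160970263360798092702198322177033473128459852268838489372658354093591982528209098918663897602, 4099447588106160361473083512585143858918551834512510865560136470375020806458181139295879192402044148054243001881461405102186662685297401236681045945628016010700385115287906967160424753675020109140948992594575366, 4058350386486932587938515307225764794873838579616201357564777652240294405079831460642857493642594157601402226736683233328795163369318598942559125996771938571403975736139181545989256873432001772190921812825080837, 575777561217393728288544133558545609202500327229968514071726697439488437647664446004761846886141006572762408211675977292552454363579473039742204467748138021560903183828490681264266868377730520285237805134557440, 3976805024792561222763433221880527845359441033049135837863517409739405588812871803469290742703405364098822364532328010680237113587576031070344125432730397134156513670288291194368458324106032467293241099627479168, 3396871939007085805941931796908852035426640135094942010533635916086007821174170651343415381747666814974125431447888785344961424069593678175162514913431422467350379961087567892160413406926430515445077973091672359, 2946548064858997440791133316839667863151956931097555801729365947020197068607995825616414352693791198994643913551510975355630200269419098881361839593740803680862929116163857609581388696943574738960156991846770128, 4057674707042395902777996477425805930820775467572592894600750230834482572276498789259329550574395659745144274460506663716625557595275232823794754522061499701449584031201458764007430543466021576354302607954692107,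 3879818456258357731068823500082931766050359877629285353556461779963152010177571776672221042749338782384573030531069922446515661430986610527701779895741651963682058985964916321526956352757934828771609699987169416, 2070200752258880479891674040152332510501911394281605167679576579131975078443281721891576949016328053254654865826357607897681026608574596161098028360470704056085342121535724170331429201993614240616940981897464069, 4050636777766402437362523190982706160988679155292992163601379617588681922671378092607577849718410255118851905947100747053444728621706276525302060988444988548498491565555751854508878424543088375477488467205841847, 1458935473439342814129312380028929581309670740247680521860289504879428449278835631087305622015002117956986265377792962717183636466576973892461791160388582802319807695383341237399660820026962805459652078756645409, 2974058015976197966972524688329071989245220293767743234667507901656597039279880743812940732381820735766898677464367667989241222928822773388557680890794255380061662601740734880504863278355313351886194491477610892, 2413088037145540427185442462300630969440119470269984075731161922308937623275364822890869143932787283072681744856586176926201355952851490209720053949981604258053007323636038866249129656608800951330436403937134984, 685365885422222855243985823714100919593281222019111288770187631294068202333301479297882180046528948558097206430938381991747120649888230325135405325134637251693875364666908562307463157864976215303438897121006216, 1990615799581187401083746715467780181147125342444858337192449889446572457569117671855893471041675161008668841443106974034232773502215926733845702374101174931551131356251911216598783624874908665376154637936223908, 2617086355541878372893434079924011213604549301715912654646143716188689854553470366633032518484136549715491587087600187955929755560587726345051263848242884635069540986923067262449452007851503015419140146408541607,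 3379739175986020937118181625089696192802338531282586851865466241666327693550936594799137169602861181991852301782854282389434261235435540730805646609553347600770233215651100315105654364131292356181861841959944622, 2685111198713006332791008566484930452024900567262600210648124750745180266700797630841258290767411773067681762848415734420747186649025903309503217463239907348870105645918198010577629086380461197572246284555132327, 85167833480205751007880725324090482444588561067897004161272970260477908136552324019625499058065218225611307687714505202375110870844944411048920602664131247656557166992110821394361151170941272493961651549511607, 2934662428594943109479221628492380268237507747812538579400101927673943868859972419560734590930529948944054288855550069477213377497247635747633003322341080007434289528544591266946288168013323696815108984152940684, 3360380533218648730878108920393015608791881957655899779336578769326853574308345481924983325394866023774694667657645300583626612384069053462903577670047775545700228271131099517529262829689117591499735952234414208, 3584349696422515132430547977768805699803197085469989994222717350028575850617005443842393915000774488164879632472638402348997016024959079935247175551285180267865991829445819672182307528067219812616192384545625344, 1586403398312566351540845034603028020719676768668687205218853798024682085520731470034051496877658870368695604417540577850034923047331345282637546333378134373140736351195553862650688136116144280373645953650154535, 1055030162731902855433219857370726453739642514623717489390313096592743923031735924188912175960180956353352133218423082099300961306712506346372817807522059744218693643689222876538976627987749373205535498682094244, 1319386174175351987162979865997335801455654020855866723331642671189893840142169986909175234505327450155870497203264679822896250365187834065859696855320670042765875435756770480090398822429670704957365730813707008,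 2305958271299699792091187828522066353789180000857370020512847720122668629035203249749293002357633221293691819997245795512461015731906983467399000795911204552338485912289413426942131331488049040656545929594466776, 3679434787160518528357470156968414503055860711671899734012565676922133050573900742929551776596187554114130028790368305523370549026689632795012040661580922153418264266123542372054325438395649044926399066272812951, 4090023684666950123954351012250462892088109812438789952444069944704716882892627229935075519900861741158144529808790980911638620076691744744903323901879134115923097586239504715418418870358996427173689226475065095, 3396881971920107070908662522949406895417836153506777126981709853477241571315358298820818542848619659586768555170836770541729856394464255960079613630286563376822675322268345610866107939686302610368634435926737092, 3104673986411705403663527719008882844405461424890844054839224163576398945860183796389407710868750680009395969020715008230094116121683274184185115723078646056046872713436251231098186345232193454068131335051384911, 2820640009142414183165046960216889457253687086975243332338166019634732254691638298065014426452846667309561878999226641363251932338140084012013933980407350261701590747806714031488786122152363122373492876537186114, 893961281099827517905297058144151812785350558176701424418290214687849320430396574404539098789847215749437118433661844938227543960661035639447419992188871514782622432710216045031300358287189520734686943027158692]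
  gli := [4099447588106160361473083512585143858918551834512510865560136470375020806458181139295879192402044148054243001881461405102186662685297401236681045945628016010700385115287906967160424753675020109140948992594575366, 4058350386486932587938515307225764794873838579616201357564777652240294405079831460642857493642594157601402226736683233328795163369318598942559125996771938571403975736139181545989256873432001772190921812825080837, 4096849162673724446988946149152029297868844793735987224639884856813247960595192128253453128245525207148457793040573307808899405194125495980136951488325700866924770691115453469252068284155246267318500420399169921, 3977113870174980274355461218629656127443179593476211249209313328812397797613697416387434913869003032348069077963703334160970263360798092702198322177033473128459852268838489372658354093591982528209098918663897602, 575777561217393728288544133558545609202500327229968514071726697439488437647664446004761846886141006572762408211675977292552454363579473039742204467748138021560903183828490681264266868377730520285237805134557440, 3771273630094650581733593251980059906221537759655574629540629174095122979825643827293476738019476917098839125138020013647555881385284093044919593589307720383060453553033064846616753215419619690879052758733504640, 3396871939007085805941931796908852035426640135094942010533635916086007821174170651343415381747666814974125431447888785344961424069593678175162514913431422467350379961087567892160413406926430515445077973091672359, 2946548064858997440791133316839667863151956931097555801729365947020197068607995825616414352693791198994643913551510975355630200269419098881361839593740803680862929116163857609581388696943574738960156991846770128, 3853811739451667792432133545517469985932028598482139589778666305531065244717295620714882476533891463164038235234740441861514047933133307942657007704702448502518858432755247211190638364963131629631046725046159121,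 3687502719822812525157761380594857275481464096720874521014747504921110938176723242969763347719385069125951865817189010729061481668566075314237280037219004751225081930596959702666243312566175204846816650464677685, 3975834358455536662056649623606330425051858718685463952828691942728524008932445962181049752505869914486621854798155449940903445064796176932468770851244574729249659867682332719839190931686664700431399650721324556, 1798913172638946099878957535781528682832807825578300825190595549366549595150868098808591290596659446006197412499740639405776213566220759696532042856927546688958913434132482732875826019834771701827930460949284625, 3852864824341647794302928527941680642233489468115859925704468423681674438365653041070641563980001882228862484198194899148988174938476335103796064166025778075858802366542551155796042870941538946226710021459664657, 3564058662737444495574179204814961632289787803121988290838715801292371346489390554907604284070678661914716649533367846361695678925278101486641110643633741112882474260451757366621745857136638799866201766383013685, 1016935450858222194484607464831108191479816416701077120348836229345152530194082150155277137934083039743426662248436548131385947300100463137817617827749191262257596470428673812025085674156264268631914884473527820, 1786426685358204208006050993380578911434546503417824901210802748672736448131026767374561711677195203525854760843832375566172387118062601151680957750345519832822331281125689170863339645497946519324774214695137188, 3848641468978862964737862454970329041562414394615233052317370381556836692824651749154756774449596010913035325547066747514249768154564653466677635817730254096593665649475281879375434876560761371424899177403131659, 1733791906820646089585882019777680950431731368171793745105824399988562798606978891676457991980169818312760054056791365485738359646645911204656509048398916557857167381087753658166749835397454211999409591871735719,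 3359643156048390676154010342187704020634779843290746545149497323067313075166264906504356113955841085746792914887035894354398823923287219121650245079522887633045079057529148828613943132886855028868269586269806353, 2685111198713006332791008566484930452024900567262600210648124750745180266700797630841258290767411773067681762848415734420747186649025903309503217463239907348870105645918198010577629086380461197572246284555132327, 1015028373424716298992705933174567897568854077113908554307781358305698323173554378690262290638487830323222204632434959039995009482095112140371373989455213494077950576015340840876086809159471330732310400691922392, 389195101582234137544128218863889895663733085970509390935392899947211400029882445600023513037506017946769796484459071709142394024609248291825804324660251016726217821131867291565361212383054847016343191566872484, 3360380533218648730878108920393015608791881957655899779336578769326853574308345481924983325394866023774694667657645300583626612384069053462903577670047775545700228271131099517529262829689117591499735952234414208, 3584349696422515132430547977768805699803197085469989994222717350028575850617005443842393915000774488164879632472638402348997016024959079935247175551285180267865991829445819672182307528067219812616192384545625344, 1586403398312566351540845034603028020719676768668687205218853798024682085520731470034051496877658870368695604417540577850034923047331345282637546333378134373140736351195553862650688136116144280373645953650154535, 1055030162731902855433219857370726453739642514623717489390313096592743923031735924188912175960180956353352133218423082099300961306712506346372817807522059744218693643689222876538976627987749373205535498682094244, 3590390037152662934608535838757905695825493037982119270000541699084553648269857800563863597910314139664632174982033540892903988912811118620204032305686167984494138455833715049635318156135925645035168305603875200,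 52130339455445807854007948933638865421740407832814120238142260172449325354497079724412389653249920108721622916104639952547726895745396056904802785232326102495837793889369714259544579269240835904409405548221230, 3679434787160518528357470156968414503055860711671899734012565676922133050573900742929551776596187554114130028790368305523370549026689632795012040661580922153418264266123542372054325438395649044926399066272812951, 4085228265378442025898207839154705012399433293430608439796673571573244174354734518563483175970148827561496233230757334458789515588107995492366580689110048870070276305413049541918297168676027232516050235857489349, 3396881971920107070908662522949406895417836153506777126981709853477241571315358298820818542848619659586768555170836770541729856394464255960079613630286563376822675322268345610866107939686302610368634435926737092, 3638367430412571652924448948779288056219800601716003865700776663721791595314531584429887512420513028284872487117443992637860520182093634970592400457515320820960843303398303284041896425093781724023350583037284247, 3482353261011851971113521856984443353168632538258752905000256474929338882295803897617900600878165223543088120425965570565390414062987304970544003984908130240768818692505916649214937830693732973254221625066588234, 3881645681425851168376373892184300929806565199608107689290897777358496626019087896904886610707947900293840763410625432784445639936037203508053618085435748500442753107583806579757387822645604328795696100116857093]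
  sgen := [5, 6, 7]
  qgen := [22, 6, 23, 24]
  nelts := [(16, 25, 26), (20, 17, 27)]
  reps := [8, 9, 10, 11, 12, 13, 14, 15, 16, 17, 18, 19, 20, 21]
  z := 4
  sKids := [[[0, 1, 2]], [[0, 1, 2], [0, 2], [0, 1]], [[0, 1, 2], [0, 2], [0, 1], [0, 1, 2], [0, 1], [1, 2], [0, 2]], [[1, 2], [0, 2], [0, 1], [0, 1, 2], [0, 1], [1, 2], [0, 2], [0, 2], [2], [1], [1, 2], [0, 2], [0, 2], [1], [1, 2], [0, 1]], [[0, 2], [0, 1], [0, 1, 2], [0, 1], [1, 2], [0, 2], [0, 2], [2], [1], [1, 2], [2], [0, 2], [], [1, 2], [0, 1], [1], [1], [0], [0, 2], [0, 2], [1], [2], [0, 1], [1], [], [2], [], [1], [1, 2], [2]], [[1, 2], [0], [1, 2], [0, 2], [2], [2], [1], [1], [2], [0, 2], [], [1, 2], [0, 1], [1], [1], [], [2], [2], [1], [], [], [], [], [1], [1], [2], [], [], [], [], [], [], [], [], [], [], [], [], [], [], [], [], []], [[], [], [], [], [], [2], [0], [], [], [], [], [], [], [], [], [], [], [], [], [], [], [], [], [], [], []]]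
  qKids := [[[0, 1, 2, 3]], [[1, 2, 3], [0, 2, 3], [0, 1, 3], [0, 1, 2]], [[0, 2, 3], [0, 1, 3], [0, 1, 2], [1], [3], [2], [], [], [], [], [], []], [[1], [3], [2], [], [], [], [], [], [], [], [], []]]
  tree := (.node (.node (.node (.node (.node (.node (.node (.node .leaf 90593174096716506856330110712015419595963867829355305181129367595029633673183589907548813291818903546885116868415956477884051464528607218671825618507709319280135284449381983443409947875723378049833476062153383 .leaf) 106959074230726901983916050370089981759473937617576421052465996360079957038255657422662329080159280408946634857851913694406872156283462786388354568220867883253063803638229137083678695137895090198197125018524711 .leaf) 130095219948188515895616827749451590663116006208270611726979728035672398964720633152769193504918320311744998228720700229730911332991091923972619008519255478153995581724557465911537636596078701816387792298003792 (.node .leaf 132280810531771433028132727209073253028041972901261765547076483626244128956210269121749991496235016345750318169094189274559720693284607500862362779780670420144731130634251318845942166737090689009975452134495568 .leaf)) 167429551218385206929444258100746963686131522896694040640076645751948277809299382209852185058107107391404140791978033690391525806903974411362526136217734332241631466013718581541190664147797454248067305397657472 (.node (.node .leaf 189596063268235195015781006804708403869650402553944503593873851741504304952674526863840467793451990414874855032170212472327162670696141307789766496311958670982664443961871699795623930291130242304482539581319552 .leaf) 255019133983857163831127376892065517051035860664941342940258832340084098650195350968432351961928397249461169420729691863992681720207243329604626873632936682094993041288211667161617451977119030298879449695259303 (.node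 .leaf 267920413424303728373575262481632740858469569522101466305623725235337877565477724946186233806343291773820449089015294615234122166793447071133111604205929356390843130339746386224439099772672878113535846367373863 .leaf))) 312541155936390354509115253964165754590400567785033152835331809160848024422728741453071101659643937188261052864975988291711872110082368556026635992059653848270264053845720119510210805696790817521595423996058673 (.node (.node (.node .leaf 319221144862552007333500161801616414610041619817644236817040832729301832802374615620030410681626975571898497270675648396625266504936089199658946850216764933094525219551442700886424933694787424216649930434216113 .leaf) 541148881107184123450508663573725367583708899633743591381809705560157247648861374565935774638516196454745521344661146161939167085554098742998780564269184517407994130904982321099435964787732599444687097747705127 (.node .leaf 561252801963857594763804982626039126644623712605801034879742892309610817202311495612369727771434262802134557284818582690636625100399746393079910640694825354301875520771223169932916382743296149410732433489240359 .leaf)) 575777561217393728288544133558545609202500327229968514071726697439488437647664446004761846886141006572762408211675977292552454363579473039742204467748138021560903183828490681264266868377730520285237805134557440 (.node (.node .leaf 600444851005147141759529655102200578787463851462077683643596431757486396720858592368276188719633317010160639766332837890630950798132848413295016076704667201805667623663420697912162352887959986466635457852516736 .leaf) 619390260055347051203985015003158915106679310939307216771675243727980555345445241219749258414492560239981602518425680310163437877741654210270192718631782452183259895013801703240189948790534669796557201053917056 (.node .leaf 625581511284663222732312720669835443739524854328054109892209469366998288627003301400281786647637302791277820806707390509694507378099495355377483164146707129065810104760867285615455900756943320343064561232712960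 .leaf)))) 681845714006964819711319470548630546233638156757195809079726689502476416437795620667790447435180001276967919650428901913819937047580639942197184287190939644499176524410593668299528737093660523940306560526003408 (.node (.node (.node (.node .leaf 682765212171786222820216488243847263971396890253707868266303861239197596065694241708167722114667537077905195573876011072551132290997920833234144716038411503667079386931040759162208883327643853151529661727713744 .leaf) 748065834215863932871313302301197975571143574578440089720268206022434947929242895928814240302432146974081632913259990651861503297848598467081299869116616514768689048409222793236920200128462527254108544351767248 (.node .leaf 766388488779090097291089922450948664459093351815376711777039393654026824309985567367095717792317603216414165048765898863911290404239150987153958938391384796833641494025258878023667436301223683109420547528107856 .leaf)) 787582427038559389795753561434279880367180341033830984815781428058391815261305107051418963130658701902779323999898769758248008893471527417701372823069373651048269372446472925701897896827383850988196397407341904 (.node (.node .leaf 794372361859600176874061748177186177251723616409874128658419757937544079892403771503524704268816193404718094839771440772207850234020468730456756032755262991899428038924074348682164216927142654715615697328737872 .leaf) 830352092850307663288537165731556291577319840988983752747940614212851473653408587609024100741909207541103504555503450864306944057501967516771384889546620614756506095829191040203657662302499504305628123099138768 (.node .leaf 847053164521886104475884095235737457569408889113652252905508893726231043097467613704241315254806115919884032391365403122827720570413141968792814248953797814043215871368553302329968258981485847080327273696569808 .leaf))) 922103588022998662160420704677121368455163105559803557909962825055642010703877645594167788799170106509548764733948492937365551609516533299360230117037905633433976551102960087625451491030981231718316571887937201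 (.node (.node (.node .leaf 924408014277481325315311746914889539774558021747907122011043658699904468186525956568895645167981158516710853311130389649416495654476598960717260344092871391938767371172881324064599633679824200012750155342415025 .leaf) 999896357390781451520276302158900892209051705953355302018160112755796122210558823823820552439193176926766120885514723275502654373607329108028456341358294989839071078486754638070316320674945707096682573140610560 (.node .leaf 1006510517789180234375288513001388155232094787454584754803038893010760669642526053041709923765004801886515660616798640232659216127085123302393061889314429007206778068819268947595735715768105816476423461209654400 .leaf)) 1047613017129268031941996908332491412880143915694197922886129798121933635763548377914096689125427543938315790708958374317376613982997682240278275809864203977662081681314174450797615155033815262032538040001299633 (.node (.node .leaf 1054349389218061167148488871428137461335131563213384843483205487767414607580565697008524815900757334048927616169431155796381447484532732934015117010910355692128864930379190491176187403932824289314271324449743153 .leaf) 1112680240899335810858212734667276686719986571671305880834093865014984831241975187235398869363295474386303133895606620194951653119369390183520690611643690317396791256046965014911874192695897201018509495909949312 (.node .leaf 1123101227868407295911190884523975344693071596013711122982857274943158336017463075406557819744890899356869939583940278681778267108912717714746247495308573508016348903046443615711319837948174582447265419447438848 .leaf))))) 1212026528182417111398912957435319226474534159179675878342213870375095308270153495731962942742883899707921299389044240489945989258401900976219014365986865332683592325995339916204815364720672506885486584479171712 (.node (.node (.node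 (.node (.node .leaf 1218500432797464400420899911315105010883297901260390441939072115126657000116569148308970082331142629883400795880237211536268289395990048742931608437727097849810135675036250702117099062554978310817033623270156032 .leaf) 1259893897996128372745070058352625471235744685877466814025164421615993934571908597869259263397550788394580224936413295945562786991471765559813865111916490510663792716186892547414938578078134978136743233215062321 (.node .leaf 1264470744924851342043705565688296137260831141966189916890430149392518198930225989518492949946968135994054995376217503732652788679364787283557941357569470591863574683440733297820862098171004312671590266357989553 .leaf)) 1282505116508475903783880833503377058358524057901659439652927505100481378635617899923774767695457949262446669770952881889550647754601377165364706323111274135780745162497688271940788813069099507681736989910469328 (.node (.node .leaf 1287570057125853544535896635339828384346983680265799460895683748246753041823705846669179024843175889964280381923833241388936806080146478407392810386390882169249170240345716378922271097600038684237215947513368144 .leaf) 1315396366514425862874520091889991952919960418397547652819319818113663312725134423811253306026982885177247663841469489582131877588616049939039963677748647584109911582540337757661464926833237944190626717405655296 (.node .leaf 1341865339577999349492054293637601846063733383856024594164206885478882733165061931609284327375765429306257195513667293972078894393515600885033319297447820818717008488873530016871710373532615367018668860459558656 .leaf))) 1405739157650942815239436221891643110237483659977757902621678065050230598104192679533839315183797200915717876416993572864922567072463169202006188181026583066244641186866740414466417382232668562991441268368214695 (.node (.node (.node .leaf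 1415210837996599925398412309451710001809787493051650538497586324504321513990898003565814443841771500544972244074421076339031001383665821939332303041934822920726364526488363536152686219765952714032348078887413415 .leaf) 1462574008057644336832830362286680980995154595053560036401560990368389737486834110035646985651486724526634575929785377690361373803828121309770815077799337657758178323905105660066801362595495869185230454597020839 (.node .leaf 1463218341957913220460106555625226076164080375803187841321837805703737625954510431666703617156264689421955419748290522474649754632146276024492149284213584180990099545998184896000816751252447606240365589971000359 .leaf)) 1538638658581048730219567277921431746167412776939188787910582432799617344044542552541561495303311091405940892902450355607198703487849079449744531829450602688237379760979221696130238004749199668139431153079756455 (.node (.node .leaf 1544814259770339126476636860909646606388008264747378814043045595607521126657834941663743779410210428115703779462867589758913244932440428599175853802387650930952067087971414303277909038534106748247563209181047975 .leaf) 1568480673005607501402910526670993470805457770445356361418878159684643779936282276150059323971336104920651754025650837939712746372947037835773291750662644342384708762115197324278886685475514647097010586532465959 (.node .leaf 1586403398312566351540845034603028020719676768668687205218853798024682085520731470034051496877658870368695604417540577850034923047331345282637546333378134373140736351195553862650688136116144280373645953650154535 .leaf)))) 1646715613670077213950318610854998463641875967532377649469670872112571620909058607648673575174658764973707284207302545541722608826821226761382540209468206560087538947063914620897767389547268113011724215651917745 (.node (.node (.node (.node .leaf 1665056554988427980896487561001936920555382270469928225681173888477827578198553447188528120979299897373190325094806136805943153639348603975256917051518786816448370114802970476122430382299906318571776436300409393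 .leaf) 1687890497610644518145260440341006833226454796500561494269836356532666825955939906441820847420173144317842653318483330105172374172919961192846205573066194085024500515292590971518891282872123213757892315457920945 (.node .leaf 1712005084287522158693044870392955796106379421894851101841853938287955054876699428283646240208866203369828135075556316880202287957707517925173549366189893774515605629198760592196598843821086976562198349838688561 .leaf)) 1770087321572945505689395838895242437354261974379134361077351271195423835141834699340910903771132787327409191477274974750303971611130433302514252071714382140913438321154576653954321126527396455182972131581091712 (.node (.node .leaf 1793788981359164975819888399775267251601821387552462360892040700211589248457140136479956107975701066959963759316284411868334248872554344506328973980183173308514185229089985163853264965519523425794474266508125952 .leaf) 1811147260681873817988593446592836682017189846100347702734817960879810609812222702020656901244431320348708000704618815281103292484035709130328714710796161338231172332913785331149906544212959479624419291640078257 (.node .leaf 1832954788879020817269256418094981546969547728630268514782256706307855547786451914526891585252641949207280614954678811079155290435668090561571948995223673364917970874313962691578259044074418151251032459825355825 .leaf))) 1856072104123895780103611076731880337038139996903358082363620360164390208534074746394307728815568521429496809179190411693118678629861508601195290738957599405471442973598076873508355647996006270661446893820661031 (.node (.node (.node .leaf 1870502464531295266914863327544271629695295185312149123250316397334483076389158133605209860190306327076283656475915958943106942828378291933465625246280074678307799594017156064141476538813443316680734442651609639 .leaf) 1949616390695633376972152620184869418276873108391316067456744876925384322613451115683752211140253587468777566664131534362098694746870947686031803971029300674134964969378187803217481443162274348710367189040817831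 (.node .leaf 1960048729417818490778430818594345609468556066522831262114494037153848788050500713507670417304480363122625650622297994923260229308768309600517350355503607271668083891349208340996719171031448593487779980588803495 .leaf)) 1979366193931739576348578034827073491853558608750889459635817391422080725777368432746375414922257359914258453288108720877964540668902412212160071167653231791111773811709593766397794362967825524524393143458483536 (.node (.node .leaf 1997608489484670657217091425383960814196630334056642513062686916322091575358973338554662915002056365802525455612183583463591914012652695133090640080143193586060703871688013556215274305664643051852049239138789840 .leaf) 2063188975860016766243172664423011566306767448999225888330843923554269404155275427448270523083435337261290739284315774635346786105150276421179903772271928759002658095497006748667687545176947292425219536143698599 (.node .leaf 2081830485079441897614777679906888772191871624999516419279786063675844722176990006976972496458480987271280670311001888113237254807607034675783772083330323371666208656289944690961901020398691059544731540671357223 .leaf)))))) 2120119427043551972111151844159978531685494056529694875859351916393175910428730174009140026323386852557611590011263955209392194504728679580752885480692786613692153335734705907619827571204681553576406776114162896 (.node (.node (.node (.node (.node (.node .leaf 2122646204892907717770452901835170101071103869856237951112926214226957355623137737610641993250402885572086398313840483517048235326484770819566549977601148624100915195915808573212812528941036501128994771054733136 .leaf) 2161193040764791852938061675565911776436962915045852511138858793149566897262497092573467492552213712100495715441021385657014944480168530041154964459574852297136482168688202455285491040482539940993737620896230567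 (.node .leaf 2164134711523785636142523696078000011331169297018070611873270368189739799960321932550680817359981122836387079965562747255320122609335514287439398165575553455579056468333065076200844746178337360444976749315760423 .leaf)) 2222015139219455190412291821433110719852080519986622885416900739891558922039135366122332598474541361047934259762874263352923910601751050597834144583964709404669917710091286062467750705561512461448748733967130545 (.node (.node .leaf 2237318415858097207388141121343675116614641565275616332084539022120280209156492377138408657327228325330845335836117736062170097046909253151043116993898349502815605372887465491761468632212155494432909564210341553 .leaf) 2360537322306844790525481517385350635933726726611548129617893011540563386139999781359620303716428757981765136389533088710220908382561348803456984210432273424708744697427623028407117270119628079156874742551848625 (.node .leaf 2373955869740293605264513754405728574483527425928027897833766374915621495867916094462149234477024739842000229144472714433731765848687397807136941862876034835007880503804812051686414921271504569261152854799057073 .leaf))) 2390352445673616491998343559819121587479928886324418529474020038843692484367092734698922052915338496378263221400076259839692480793541415396168350133621092276238802752862708325870825589762009677863040402729782567 (.node (.node (.node .leaf 2401709749537370142780940503109211333570606846075703840145529143038762205726543091718551331599033252727829951365962615291820918915674350105209061920382603552011501564725897046662968359212575061715053044246832807 .leaf) 2444867100621723954055054635644333182042527752099631037950270839843277086566639053237479763987980497524741962205806287525363426545728504675677142807890106615176013825096670412097245524958635891040590476576605312 (.node .leaf 2449736651161502745871243647546891823787446611580671519356131574063076994521380379035468923547318198369516667635723702873060149238956879141152820326406277246691163155296377785795265715751973421605770119202007424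 .leaf)) 2479261104562814413510120218129064029498580729115724676956388944666451421535021520494626131069034485557736041433303665550450808747801181192204402011636331765491950127770315742152059658149016630988335804049919568 (.node (.node .leaf 2494492533142145768847569785386678356052460849715952559562979674874870382220602794871961408928363141309624952420017390735156542570044725749585335224098502924862275358127282911194224230491401990830448670596015568 .leaf) 2507282935221291403536150809509620176145651113046422687263952291533080631799265391557666889547835915641015577011044611190154623766861729281989557557531227883258406605329410370120185030129998444842243068254793984 (.node .leaf 2520285840834302768910971392689770304096246461272235502920525169448796380650401006631538344048664433856809750330495440211389075202032781165483606207052995699011808232978958747244869359698766126805458633729281536 .leaf)))) 2548350503816400706315418468470210698281103760344753777598407790242812564958373256249421145586483202961411845557586342712076141644455860901654343434514504455546074983163409361920309941189661352384374162428375296 (.node (.node (.node (.node .leaf 2557011090663476790934203682756219245103361067571217694478633612410038966802552154097542019783219719369154142680117551918896251675027160050669434543120205226746280547085957354279904685273605569301273046897759488 .leaf) 2636958116746018332588631654918632019239167117620515822811496920044446191851154821062594647880299674799354533923930194203866655518065653042675250167762458709356077757480203238641745748806202773855506525415656784 (.node .leaf 2656841788507818401103095608179431208945212023002637245018718736807299912513044629210923043967210338489496198451668788758811653156691405951539645832284548381788213137082752818982755446680271994328217194917390160 .leaf))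 2692392533943447439489780763445137565786736759277816910865395392159020077492328154791585552358186237722372100846801194522260779626664762471041661285590478624310171073081745061282982802298972020249470968799685159 (.node (.node .leaf 2699908752361359354299901167671252537693979077408447820999536641225138359905362360110344835181841207548815473871613012626648824738416710765871116776540331100068527210051825299352273500067467256423664541128451495 .leaf) 2773725575646299766465835153705704560516951981111788703391951237812920722246578588553006181555065583047354232941561625596257602255549707024128785397377618966901613207242364041047820002583063354964859106037122225 (.node .leaf 2778141352501018573144563072681946984308572727900939178127180888133208063543485372281758820857746243847779885252761024124520235766940422978062587958568840472847615092884306624772659022581384520786219308013116465 .leaf))) 2794960647117952083782950173060175069358893254717737601139480139422411434453116938941999332027556748879862824061177076950482601919371726689117485886456783278524867998904273697104216364595414518103591015104852273 (.node (.node (.node .leaf 2821664473032867409572912526368856499912550990064231038396411103234082530879361585719139305645956090086477110353485296806305150515261036251411452656407210376151957085174046510470273724251227148810875614155710769 .leaf) 2855894210416688486950545531478617648796106962315763308007009320307615332088419405633207850603581067116365717867580267285992989742999253935616211618823247982435263715515805931841236448000700242339394364292318385 (.node .leaf 2856840808194449749186994539563762151708095030997843918649946393154359550435789570316534283811814845164347548270444439116475745441283914413688749113622814169790472754933871988359019847899277285177433202783021617 .leaf)) 2877174926194070350205148335111311484940970249076380649560740387460909198516155555420061236359361192934160106795768180609581673176253891260189190984682443506440787945249549324473562600145271377303979197165744433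 (.node (.node .leaf 2894857024675844244342442457030660118972687009771212462307287534759791480739171641728952050654799275465192350457377947605940326598880171511534169444868047711805196797932143221375547840115681794856297099565213361 .leaf) 2926813986551566653158862351878780074673049025448947390568553090304986391113213230397978039178211663616494435644942836749483997162583013840732374612224718563929615008622489609240869140693808100071835596569072976 (.node .leaf 2946548064858997440791133316839667863151956931097555801729365947020197068607995825616414352693791198994643913551510975355630200269419098881361839593740803680862929116163857609581388696943574738960156991846770128 .leaf))))) 2972527003733278738755476169650365506324088382814498711700968662228935563927798395027761473960118185002888855943346927183260822958434735054673987667104359196159366220281632964843074987853210456731100099992702544 (.node (.node (.node (.node (.node .leaf 2983061957867575220575517176452949815745532862003850601984766993475465348688106954177669528669354411260663443574165286739052440753396247427081467263661132091333470514426260214323464777799664651055829130696289488 .leaf) 3021146672204683396848538655730457208143827179855698611825520090200842202849996043280712616970329712455225513267384814996218765390807918309991544907119814175641447548082781682977866970771501849318187091854944817 (.node .leaf 3031591268681573995516294035492787265672478173227211730701600663959583872462921598671955244632446741517137513204447924657283423129944516854592951673280251094791171283602391394627456687847860212501536322506506417 .leaf)) 3144639386557846148678424114457801130967108757311140773079343453587257307838298470944357932697060045382215211112639941773873943748120933881423562882830983150165186972247948434364322280581655485071258084049283623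 (.node (.node .leaf 3147360626288729353573043656186836687175453414712895115361261750478067660222465510369715696907385442848814180973531021313851079085870615022477304715560764436001001891714883838919318379609240200767511131223092391 .leaf) 3353893622915236859746865613039508394267259251869021551056176685077227062523253900014136745932578584866454692180193535965269097324131162403531586786844033210451495068271514370756186765569283838175566212058622336 (.node .leaf 3360380533218648730878108920393015608791881957655899779336578769326853574308345481924983325394866023774694667657645300583626612384069053462903577670047775545700228271131099517529262829689117591499735952234414208 .leaf))) 3396871939007085805941931796908852035426640135094942010533635916086007821174170651343415381747666814974125431447888785344961424069593678175162514913431422467350379961087567892160413406926430515445077973091672359 (.node (.node (.node .leaf 3398582485582253406326765117535901542821687668341989698251987622444637936395829837551169651568236792111928645848708459924806222006848579318575331908360323221899511932590923069147127914564098535857367771282597287 .leaf) 3559113230404114184548803906278872478834858345232687705784781376705218474908860791234300522062275273304538112940195751781152185220127319417811266646349942572643788284615748701823665708809537342860316865322245159 (.node .leaf 3562872135225326372841146313482845230747332108980802455728865389483987935031255600826526581893107042922284352293379725596011567554723051646730848989288201410413413625162235182869247759365635288550119099278517671 .leaf)) 3584349696422515132430547977768805699803197085469989994222717350028575850617005443842393915000774488164879632472638402348997016024959079935247175551285180267865991829445819672182307528067219812616192384545625344 (.node (.node .leaf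 3595523200905554687349351451469841628795698336859601787493972456858295035168249769475115597803096297212520012699526013849994799824506102942365157803908651285959594344459029729377130850741642294372485778828985472 .leaf) 3698973826169820658837034204875455830187225963973198017817410057251491298701633087916186142024335043225618751144594988612492944267590368041042924896864890055225551848474688433138700470357743429872582273148924209 (.node .leaf 3723483719338000265942136614184550141002474562256285723527248618278108120938079210171000884738800966126840736116426087192514327137786944243242834000429737721326969156979545612207482479673682307839191633701379121 .leaf)))) 3748794645167228743539690833674069615824913813447936570870442732837133090738909224419558030244389785487311672479493804971340958075730161070454535896306071228226677933846376001357210667563285295278100326917035264 (.node (.node (.node (.node .leaf 3771273630094650581733593251980059906221537759655574629540629174095122979825643827293476738019476917098839125138020013647555881385284093044919593589307720383060453553033064846616753215419619690879052758733504640 .leaf) 3789130658946798080926065677476558710457107041693894437651114453877506915943161817328008077993155266491403953382569526076165692052359751682108950324647616799260389899271792332290243667899251222645826005180238544 (.node .leaf 3789808878927524259332222075311525814997720479005679436433126760049828091911242448126325657378431063073423604512360898606820469650864930748436954530758053759493419385389791289812971501119909815623211720463504720 .leaf)) 3822270356999380489314569733605529633955250659806941079577262270141027606059901206616119174510157035980708701476544565796864658264696039501940641075857732063025280584849325791399279920548948362121404308676669745 (.node (.node .leaf 3843211528448017816737001130509926483648416863707286359147440357087729819611806884803242245941411179591223842577963680977558082271962944329901418107940831928916051203877076407519591965582746383924302267896293937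 .leaf) 3889751606875199055326497728895084644802150224341653065041702658470633263196449522025739663227586738405360961700785677349120790664430520844223576211876246143874677947362422360236497399358997186417925322638206800 (.node .leaf 3891522560195256515711501405132882628669780763263601347094704194110238324541362032925754214695539333787884232682656818755660640063135136201120455231257959734124558987631110511940380992781534318183681641316459984 .leaf))) 3913116299875849618051748266848524103457508783094976174020649799434132046543559825691050816418290128435927114207160569359564188997250587680957403171107784186450943517974867874555477238576916982057950447663469904 (.node (.node (.node .leaf 3928239436361581334056548891431094561613998108300581403562163180192557612652274036274734045938108606629829845188073628507054866327569828555812698634362275774468238824200524400495844310241448697634017790988283088 .leaf) 3958812380372345485409949559297251808900033849679679248878834992354792162049435985011068842933233251384295024168851148783744519402011019160360706513415076218403127721766127387976967952164641768453017996770889216 (.node .leaf 3976805024792561222763433221880527845359441033049135837863517409739405588812871803469290742703405364098822364532328010680237113587576031070344125432730397134156513670288291194368458324106032467293241099627479168 .leaf)) 4011370258262383203999516653160621183113788033964391129782233355189345675355993083640770739463879926763821039071782221033869773087424977710928303717488432909321812485953119509471347413996584506901662403696585168 (.node (.node .leaf 4014851927158323407966646881815185145271935714249398398753823325590450967779444070933162533528033251690747328154150450880715398641839188199961926556843366887379949738331158742698539208063556494280403419892082128 .leaf) 4095267618198638351257785652643775446572584658868919265750849560400187879270130029682995782053814434608755695362832307388609507768233089941406038720734774196057092378369039147947813002726728515776792962395055872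 (.node .leaf 4100094770554042515533122004313285236735003534074830538881045787921142082201184208296423565880205964959118971074454247199955378650214568923506906026203450061729621922836307612900092799561144844784840892852764800 .leaf)))))))
  cKids := [[[0, 1, 2, 3]], [[0, 1, 3], [], [1], [0, 2]], [[], [0, 2], [], [0, 2], [0, 1, 3], [1, 3]], [[0, 1, 3], [1, 3], [0, 1, 3], [1, 3], [1, 3], [0, 2], [0], [0, 2], [0]], [[1, 3], [2], [0, 2], [2], [0, 2], [1, 3], [0, 2], [0, 2], [0, 2], [0, 2], [2], [0, 2], [0, 3], [1, 3], [1, 3], [0, 3], [1, 3], [1, 3]], [[0, 2], [0], [1, 3], [0, 1, 3], [1, 3], [1, 3], [1, 3], [], [0, 2], [0, 2], [0, 1, 3], [1, 3], [0, 1, 3], [1, 3], [0, 1, 3], [1, 3], [0, 1, 3], [1, 3], [1, 3], [0, 1, 3], [1, 3], [], [0, 2], [0], [2], [0, 2], [2], [1, 3], [], [0, 2], [0, 2], [0, 2], [0, 2]], [[0, 1], [1, 3], [1, 3], [0, 2], [0, 2], [1, 3], [0, 2], [0, 2], [0], [], [0], [], [0], [2], [0, 1, 3], [1], [0, 3], [1, 3], [1], [0, 2], [0, 2], [0, 2], [0, 2], [3], [0, 2], [0], [0, 2], [0, 2], [], [0, 2], [], [2], [], [], [0, 2], [], [0, 2], [], [2], [2], [1, 3], [0, 2], [2], [], [], [0, 1, 3], [1], [1], [1, 3], [1], [], [], [], [0, 2], [0], [1], [0], [1, 3], [1, 3], [1], [0], [1, 3]], [[3], [], [0], [0], [], [], [0, 1], [], [], [1, 3], [0, 2], [], [0, 1], [], [], [], [], [], [1, 3], [3], [], [0, 2], [], [0], [], [2], [], [0, 2], [], [1, 3], [3], [0, 3], [3], [1, 3], [], [0, 1, 3], [1, 3], [], [], [], [], [1, 3], [], [1, 3], [1], [0, 3], [1, 3], [3], [0, 1, 3], [3], [0], [1], [], [], [], [], [], [1], [], [], [], [], [0], [], [], [0, 2], [], [3], [], [], [0, 2], [1], [], [], [2], [], [0, 2], [], [], [2]], [[], [], [], [3], [0], [], [0], [], [], [], [], [0, 2], [], [], [0, 1, 3], [3], [], [], [0, 1], [1, 3], [2], [2], [0, 2], [], [], [2], [], [], [], [], [], [2], [], [], [0], [0, 2], [],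 [], [], [], [], [0, 2], [0], [], [], [], [], [], [], [], [], [1], [3], [], [3], [1], [], [], [], [], []], [[], [], [1], [], [], [3], [], [], [], [], [], [], [], [3], [1, 3], [0, 1], [], [1, 3], [], [1], [], [], [], [], [1, 3], [], [], [], []]]
  cLen := 315
  steps := [.cj 28 0, .mu 0 1, .cj 29 0, .mu 0 3, .mu 1 3, .mu 1 4, .cj 30 0, .mu 0 7, .mu 1 7, .mu 1 8, .mu 3 7, .mu 3 8, .mu 3 9, .mu 3 10, .cj 31 0, .mu 0 15, .mu 1 15, .mu 1 16, .mu 3 15, .mu 3 16, .mu 3 17, .mu 3 18, .mu 7 15, .mu 7 16, .mu 7 17, .mu 7 18, .mu 7 19, .mu 7 20, .mu 7 21, .mu 7 22, .cj 32 5, .mu 0 31, .mu 1 31, .mu 1 32, .mu 3 31, .mu 3 32, .mu 3 33, .mu 3 34, .mu 7 31, .mu 7 32, .mu 7 33, .mu 7 34, .mu 7 35, .mu 7 36, .mu 7 37, .mu 7 38, .mu 15 31, .mu 15 32, .mu 15 33, .mu 15 34, .mu 15 35, .mu 15 36, .mu 15 37, .mu 15 38, .mu 15 39, .mu 15 40, .mu 15 41, .mu 15 42, .mu 15 43, .mu 15 44, .mu 15 45, .mu 15 46, .cj 33 5, .mu 0 63, .mu 1 63, .mu 1 64, .mu 3 63, .mu 3 64, .mu 3 65, .mu 3 66, .mu 7 63, .mu 7 64, .mu 7 65, .mu 7 66, .mu 7 67, .mu 7 68, .mu 7 69, .mu 7 70, .mu 15 63, .mu 15 64, .mu 15 65, .mu 15 66, .mu 15 67, .mu 15 68, .mu 15 69, .mu 15 70, .mu 15 71, .mu 15 72, .mu 15 73, .mu 15 74, .mu 15 75, .mu 15 76, .mu 15 77, .mu 15 78, .mu 31 63, .mu 31 64, .mu 31 65, .mu 31 66, .mu 31 67, .mu 31 68, .mu 31 69, .mu 31 70, .mu 31 71, .mu 31 72, .mu 31 73, .mu 31 74, .mu 31 75, .mu 31 76, .mu 31 77, .mu 31 78, .mu 31 79, .mu 31 80, .mu 31 81, .mu 31 82, .mu 31 83, .mu 31 84, .mu 31 85, .mu 31 86, .mu 31 87, .mu 31 88, .mu 31 89, .mu 31 90, .mu 31 91, .mu 31 92, .mu 31 93, .mu 31 94]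
  target := []

end Cfsg.Agent.Local.FS.Hundred
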