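import Cfsg.Agent.Lib.Lie.Ico.Hundred
import Cfsg.Agent.Lib.Local.FS.HallJankoData

/-!
The two-fusion system of the Hall–Janko group is simple.
-/

set_option autoImplicit false
set_option maxRecDepth 100000

noncomputable section

namespace Cfsg.Agent.Local.FS.Hundred

open Cfsg Cfsg.Spor Cfsg.Agent.Lie.J2Cert

/-- The code of one of the two generators. -/
def genCode (n : Bool) : ℕ := pack (if n then setActY else setActX)

/-- The code of a word. -/
def wordCode (w : List Bool) : ℕ := w.foldr (fun n r => pmul (genCode n) r) idC

theorem code_one : code 1 = idC := by decide +kernel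

theorem gen_lists : setActX.length = 100 ∧ setActY.length = 100 := by decide +kernel

theorem exists_code (n : Bool) : ∃ f : J2, code (setHomJ2 f) = genCode n := by
  obtain ⟨f, -, hact⟩ := exists_gen n
  refine ⟨proj f, ?_⟩
  show code (setHom f) = _
  rw [code, genCode]
  congr 1
  have hlen : (if n then setActY else setActX).length = 100 := by cases n; exacts [gen_lists.1, gen_lists.2]
  refine List.ext_getElem (by rw [hlen, lst, List.length_ofFn]) fun i h1 h2 => ?_
  have hi : i < 100 := by rwa [hlen] at h2
  simp only [lst, List.getElem_ofFn]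
  have hc := List.all_eq_true.1 set_ok i (List.mem_range.2 hi)
  simp only [setCheck, Bool.and_eq_true, Nat.blt_eq, List.all_eq_true, List.mem_range, beq_iff_eq] at hc
  obtain ⟨hx, hy, hall⟩ := hc
  show (setImage f ⟨i, hi⟩ : ℕ) = _
  cases n
  · rw [setImage_eq (q := ⟨i, hi⟩) (r := ⟨_, hx⟩) fun j => by rw [hact]; exact (hall j j.2).1]
    exact List.getD_eq_getElem _ _ _
  · rw [setImage_eq (q := ⟨i, hi⟩) (r := ⟨_, hy⟩) fun j => by rw [hact]; exact (hall j j.2).2]
    exact List.getD_eq_getElem _ _ _

theorem words_code : words.map wordCode = j2Cert.gl ∧ iwords.map wordCode = j2Cert.gli := by decide +kernel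

theorem words_inv : ((List.range (words.length + 1)).all fun i =>
    pmul (j2Cert.g i) (j2Cert.gi i) == idC) = true ∧ iwords.length = words.length := by decide +kernel

theorem j2_checkS : j2Cert.checkS = true := by decide +kernel
theorem j2_checkCenter : j2Cert.checkCenter = true := by decide +kernel
theorem j2_checkClass : j2Cert.checkClass = true := by decide +kernel
theorem j2_checkReps : j2Cert.checkReps = true := by decide +kernel
theorem j2_checkQ : j2Cert.checkQ = true := by decide +kernel
theorem j2_checkSteps : j2Cert.checkSteps = true := by decide +kernel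

theorem fusion_simple {G : Type*} [Group G] [Finite G] (hG : Cfsg.Spor.IsoJ2 G) (S : Sylow 2 G) :
    (Cfsg.groupFusionSystem (S : Subgroup G)).IsSimple 2 := by
  obtain ⟨e⟩ := hG
  let L : G → ℕ := fun x => code (setHomJ2 (e x))
  have hL : ∀ x y, L (x * y) = pmul (L x) (L y) := fun x y => by
    simp only [L, map_mul, code_mul]
  have hL1 : L 1 = idC := by simp only [L, map_one, code_one]
  have hinj : ∀ x y, L x = L y → x = y := fun x y h => e.injective (setHomJ2_injective (code_injective h))
  choose gen hgen using exists_code
  let ev : List Bool → G := fun w => w.foldr (fun n r => e.symm (gen n) * r) 1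
  have hev : ∀ w, L (ev w) = wordCode w := by
    intro w
    induction w with
    | nil => exact hL1
    | cons n w ih =>
      show L (e.symm (gen n) * ev w) = pmul (genCode n) (wordCode w)
      rw [hL, ih]
      simp only [L, MulEquiv.apply_symm_apply, hgen]
  let gs : ℕ → G := fun i => ev (words.getD i [])
  have hg : ∀ i, L (gs i) = j2Cert.g i := fun i => by
    show L (ev _) = j2Cert.gl.getD i idC
    rw [hev, ← words_code.1, show idC = wordCode [] from rfl, List.getD_map]
  have hg' : ∀ i, L (ev (iwords.getD i [])) = j2Cert.gi i := fun i => by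
    show L (ev _) = j2Cert.gli.getD i idC
    rw [hev, ← words_code.2, show idC = wordCode [] from rfl, List.getD_map]
  have hgi : ∀ i, L (gs i)⁻¹ = j2Cert.gi i := fun i => by
    rcases Nat.lt_or_ge i words.length with hi | hi
    · rw [← hg', inv_eq_of_mul_eq_one_right (hinj (gs i * ev (iwords.getD i [])) 1 ?_)]
      rw [hL, hg, hg', hL1]
      exact beq_iff_eq.1 (List.all_eq_true.1 words_inv.1 i (List.mem_range.2 (Nat.lt_succ_of_lt hi)))
    · have h0 : gs i = 1 := by
        show ev (words.getD i []) = 1
        rw [List.getD_eq_default _ _ hi]; rfl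
      rw [h0, inv_one, ← hg', List.getD_eq_default _ _ (by rw [words_inv.2]; exact hi)]
      rfl
  exact simple_of_cert j2Cert L hL hL1 hinj gs hg hgi ((Nat.card_congr e.toEquiv).trans card_J2)
    j2_checkS j2_checkCenter j2_checkClass j2_checkReps j2_checkQ j2_checkSteps S

end Cfsg.Agent.Local.FS.Hundred
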