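import Cfsg.Agent.Lib.Local.FS.Torus
import Cfsg.Agent.Lib.Fusion.RankTwoAut

/-!
Central products of an extraspecial group of order `p³`, exponent `p`, with a cyclic group, and a criterion for
a `p`-th root in the centre.
-/

set_option autoImplicit false

open scoped commutatorElement

universe u

namespace Cfsg.Agent.Local.FS.Heis

open Cfsg Cfsg.Agent.Fusion

variable {p : ℕ} [hp : Fact p.Prime]

theorem zpow_eq_one_of_coprime {G : Type*} [Group G] {D : Subgroup G} {x : G} {k : ℤ} (hk : ¬ (p : ℤ) ∣ k)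
    (hxk : x ^ k ∈ D) (hxp : x ^ p ∈ D) : x ∈ D := by
  obtain ⟨a, b, hab⟩ := ((Nat.prime_iff_prime_int.1 hp.out).coprime_iff_not_dvd).2 hk
  rw [← zpow_one x, ← hab, mul_comm a, mul_comm b, zpow_add, zpow_mul, zpow_mul, zpow_natCast]
  exact mul_mem (zpow_mem hxp _) (zpow_mem hxk _)

theorem not_dvd_sub {a b : ℕ} (h : ¬ a ≡ b [MOD p]) : ¬ (p : ℤ) ∣ (a : ℤ) - b := fun hd =>
  h (Nat.modEq_iff_dvd.2 hd).symm

/-- A torsion element of a cyclic subgroup lies in any non-trivial torsion subgroup. -/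
theorem mem_zpowers_of_cyclic {G : Type*} [Group G] [Finite G] {C : Subgroup G} (hC : IsCyclic C) {u c : G}
    (hu : u ∈ C) (hu1 : u ≠ 1) (hup : u ^ p = 1) (hc : c ∈ C) (hcp : c ^ p = 1) :
    c ∈ Subgroup.zpowers u := by
  haveI := hC
  letI : CommGroup C := IsCyclic.commGroup
  have ho : orderOf (⟨u, hu⟩ : C) = p := by rw [← Subgroup.orderOf_coe]; exact orderOf_eq_prime hup hu1
  set K := (powMonoidHom p : C →* C).ker
  have hKe : Subgroup.zpowers (⟨u, hu⟩ : C) = K := Subgroup.eq_of_le_of_card_ge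
    (Subgroup.zpowers_le.2 (show (⟨u, hu⟩ : C) ^ p = 1 from Subtype.ext hup))
    (by rw [IsCyclic.card_powMonoidHom_ker (G := C) p, Nat.card_zpowers, ho]
        exact Nat.le_of_dvd hp.out.pos (Nat.gcd_dvd_right _ _))
  have hm : (⟨c, hc⟩ : C) ∈ K := show (⟨c, hc⟩ : C) ^ p = 1 from Subtype.ext hcp
  rw [← hKe] at hm
  obtain ⟨i, hi⟩ := Subgroup.mem_zpowers_iff.1 hm
  exact ⟨i, congrArg Subtype.val hi⟩

/-- The setting. -/
structure Data (p : ℕ) {H : Type*} [Group H] (C : Subgroup H) : Prop where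
  central : ∀ c ∈ C, ∀ h : H, c * h = h * c
  cyclic : IsCyclic C
  lift : ∀ h : H, ∃ a c : H, a ^ p = 1 ∧ c ∈ C ∧ h = a * c
  index : C.index = p ^ 2
  nonab : ∃ x y : H, x * y ≠ y * x

namespace Data

variable {H : Type u} [Group H] {C : Subgroup H}

omit hp in
theorem normal (hD : Data p C) : C.Normal :=
  ⟨fun c hc h => by rw [← hD.central c hc h, mul_inv_cancel_right]; exact hc⟩

omit hp in
theorem card_quot (hD : Data p C) [C.Normal] : Nat.card (H ⧸ C) = p ^ 2 :=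
  (Subgroup.index_eq_card C).symm.trans hD.index

theorem quot_comm (hD : Data p C) [C.Normal] : ∀ x y : H ⧸ C, x * y = y * x :=
  (IsPGroup.isMulCommutative_of_card_eq_prime_sq hD.card_quot).is_comm.comm

omit hp in
theorem quot_exp (hD : Data p C) [C.Normal] : ∀ x : H ⧸ C, x ^ p = 1 := by
  intro x
  obtain ⟨h, rfl⟩ := QuotientGroup.mk'_surjective C x
  obtain ⟨a, c, ha, hc, rfl⟩ := hD.lift h
  rw [map_mul, show QuotientGroup.mk' C c = 1 from (QuotientGroup.eq_one_iff c).2 hc, mul_one, ← map_pow, ha,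
    map_one]

variable [Finite H]

theorem decompose (hD : Data p C) [C.Normal] {w f : H} (hw : w ∉ C)
    (hf : (f : H ⧸ C) ∉ Subgroup.zpowers (w : H ⧸ C)) (h : H) :
    ∃ i j : ℤ, ∃ c ∈ C, h = w ^ i * f ^ j * c := by
  have how : orderOf (w : H ⧸ C) = p :=
    orderOf_eq_prime (hD.quot_exp _) fun e => hw ((QuotientGroup.eq_one_iff w).1 e)
  haveI : Finite (H ⧸ C) := inferInstance
  have htop : Subgroup.zpowers (w : H ⧸ C) ⊔ Subgroup.zpowers (f : H ⧸ C) = ⊤ := by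
    refine Subgroup.eq_top_of_le_card _ ?_
    obtain ⟨k, hk⟩ := IsPGroup.iff_card.1 ((IsPGroup.of_card hD.card_quot).to_subgroup
      (Subgroup.zpowers (w : H ⧸ C) ⊔ Subgroup.zpowers (f : H ⧸ C)))
    have hlt : Nat.card (Subgroup.zpowers (w : H ⧸ C)) <
        Nat.card (Subgroup.zpowers (w : H ⧸ C) ⊔ Subgroup.zpowers (f : H ⧸ C) : Subgroup (H ⧸ C)) := by
      refine lt_of_le_of_ne (Subgroup.card_le_of_le le_sup_left) fun e => hf ?_
      rw [Subgroup.eq_of_le_of_card_ge le_sup_left e.ge]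
      exact Subgroup.mem_sup_right (Subgroup.mem_zpowers _)
    rw [Nat.card_zpowers, how, hk] at hlt
    rw [hD.card_quot, hk]
    exact Nat.pow_le_pow_right hp.out.pos ((Nat.pow_lt_pow_iff_right hp.out.one_lt).1 (by rwa [pow_one]))
  haveI : (Subgroup.zpowers (w : H ⧸ C)).Normal :=
    ⟨fun x hx g => by rw [hD.quot_comm g x, mul_inv_cancel_right]; exact hx⟩
  obtain ⟨_, ⟨i, rfl⟩, _, ⟨j, rfl⟩, e⟩ := Subgroup.mem_sup_of_normal_left.1 (htop ▸ Subgroup.mem_top (h : H ⧸ C))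
  refine ⟨i, j, (w ^ i * f ^ j)⁻¹ * h, ?_, by group⟩
  rw [← QuotientGroup.eq_one_iff, QuotientGroup.mk_mul, QuotientGroup.mk_inv, QuotientGroup.mk_mul,
    QuotientGroup.mk_zpow, QuotientGroup.mk_zpow, e, inv_mul_cancel]

/-- Two elements generating modulo `C` do not commute; their commutator has order `p` and lies in `C`. -/
theorem commutator_facts (hD : Data p C) [C.Normal] {w f : H} (hw : w ∉ C)
    (hf : (f : H ⧸ C) ∉ Subgroup.zpowers (w : H ⧸ C)) :
    ⁅f, w⁆ ≠ 1 ∧ ⁅f, w⁆ ∈ C ∧ ⁅f, w⁆ ^ p = 1 := by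
  have hmem : ⁅f, w⁆ ∈ C := by
    rw [← QuotientGroup.eq_one_iff, ← QuotientGroup.mk'_apply, map_commutatorElement,
      commutatorElement_eq_one_iff_mul_comm]
    exact hD.quot_comm _ _
  refine ⟨fun e => ?_, hmem, ?_⟩
  · have hwf : Commute w f := (commutatorElement_eq_one_iff_mul_comm.1 e).symm
    obtain ⟨x, y, hxy⟩ := hD.nonab
    obtain ⟨i, j, c, hc, rfl⟩ := hD.decompose hw hf x
    obtain ⟨k, l, d, hd, rfl⟩ := hD.decompose hw hf y
    have hcen : ∀ z ∈ C, ∀ h : H, Commute z h := hD.central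
    exact hxy ((((Commute.zpow_zpow_self w i k).mul_right (hwf.zpow_zpow i l)).mul_left
      ((hwf.symm.zpow_zpow j k).mul_right (Commute.zpow_zpow_self f j l))).mul_right (hcen d hd _).symm
      |>.mul_left (hcen c hc _))
  · have hfp : f ^ p ∈ C := by rw [← QuotientGroup.eq_one_iff, QuotientGroup.mk_pow]; exact hD.quot_exp _
    have hz : ∀ h : H, Commute ⁅f, w⁆ h := hD.central _ hmem
    have hit : ∀ k : ℕ, f ^ k * w = ⁅f, w⁆ ^ k * w * f ^ k := by
      intro k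
      induction k with
      | zero => simp
      | succ k ih =>
        calc f ^ (k + 1) * w = f * (f ^ k * w) := by rw [pow_succ', mul_assoc]
          _ = f * (⁅f, w⁆ ^ k * w * f ^ k) := by rw [ih]
          _ = (f * ⁅f, w⁆ ^ k) * w * f ^ k := by group
          _ = ⁅f, w⁆ ^ k * (f * w) * f ^ k := by rw [((hz f).pow_left k).symm.eq]; group
          _ = ⁅f, w⁆ ^ k * (⁅f, w⁆ * w * f) * f ^ k := by rw [commutatorElement_def]; group
          _ = _ := by rw [pow_succ, pow_succ' f]; group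
    have h := hit p
    rw [hD.central _ hfp w] at h
    exact (mul_eq_right (b := w)).1 (mul_right_cancel h).symm

theorem center_eq (hD : Data p C) : C = Subgroup.center H := by
  haveI := hD.normal
  refine le_antisymm (fun c hc => Subgroup.mem_center_iff.2 fun h => (hD.central c hc h).symm) fun z hz => ?_
  by_contra hzC
  obtain ⟨v, hv⟩ : ∃ v : H ⧸ C, v ∉ Subgroup.zpowers (z : H ⧸ C) := by
    by_contra hall
    push Not at hall
    have h1 : Nat.card (H ⧸ C) ≤ Nat.card (Subgroup.zpowers (z : H ⧸ C)) := by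
      rw [show Subgroup.zpowers (z : H ⧸ C) = ⊤ from eq_top_iff.2 fun x _ => hall x, Subgroup.card_top]
    rw [hD.card_quot, Nat.card_zpowers] at h1
    have h2 : orderOf (z : H ⧸ C) ≤ p := Nat.le_of_dvd hp.out.pos (orderOf_dvd_of_pow_eq_one (hD.quot_exp _))
    nlinarith [hp.out.two_le]
  obtain ⟨f, rfl⟩ := QuotientGroup.mk'_surjective C v
  exact (hD.commutator_facts hzC hv).1 (commutatorElement_eq_one_iff_mul_comm.2
    (Subgroup.mem_center_iff.1 hz f))

/-- A basis modulo `C` made of elements of order `p`. -/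
theorem exists_basis (hD : Data p C) [C.Normal] :
    ∃ w f : H, w ^ p = 1 ∧ f ^ p = 1 ∧ w ∉ C ∧ (f : H ⧸ C) ∉ Subgroup.zpowers (w : H ⧸ C) := by
  have h2 : 1 < Nat.card (H ⧸ C) := hD.card_quot ▸ Nat.one_lt_pow two_ne_zero hp.out.one_lt
  haveI := Finite.one_lt_card_iff_nontrivial.1 h2
  obtain ⟨x, hx⟩ := exists_ne (1 : H ⧸ C)
  obtain ⟨v, hv⟩ : ∃ v : H ⧸ C, v ∉ Subgroup.zpowers x := by
    by_contra hall
    push Not at hall
    have h1 : Nat.card (H ⧸ C) ≤ Nat.card (Subgroup.zpowers x) := by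
      rw [show Subgroup.zpowers x = ⊤ from eq_top_iff.2 fun y _ => hall y, Subgroup.card_top]
    rw [hD.card_quot, Nat.card_zpowers, orderOf_eq_prime (hD.quot_exp x) hx] at h1
    nlinarith [hp.out.two_le]
  obtain ⟨h, rfl⟩ := QuotientGroup.mk'_surjective C x
  obtain ⟨k, rfl⟩ := QuotientGroup.mk'_surjective C v
  obtain ⟨w, c, hw, hc, rfl⟩ := hD.lift h
  obtain ⟨f, d, hf, hd, rfl⟩ := hD.lift k
  simp only [QuotientGroup.mk'_apply, QuotientGroup.mk_mul, (QuotientGroup.eq_one_iff c).2 hc,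
    (QuotientGroup.eq_one_iff d).2 hd, mul_one] at hx hv
  exact ⟨w, f, hw, hf, fun e => hx ((QuotientGroup.eq_one_iff w).2 e), hv⟩

/-- An automorphism trivial on `C` and modulo `C` is inner. -/
theorem inner (hD : Data p C) (δ : MulAut H) (h1 : ∀ c ∈ C, δ c = c) (h2 : ∀ h : H, δ h * h⁻¹ ∈ C) :
    ∃ g : H, ∀ h : H, δ h = g * h * g⁻¹ := by
  haveI := hD.normal
  obtain ⟨w, f, hw, hf, hwC, hfw⟩ := hD.exists_basis
  obtain ⟨hu1, huC, hup⟩ := hD.commutator_facts hwC hfw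
  set u := ⁅f, w⁆ with hu
  have hz : ∀ h : H, Commute u h := hD.central _ huC
  have key : ∀ a : H, a ^ p = 1 → ∃ i : ℤ, δ a = u ^ i * a := by
    intro a ha
    obtain ⟨c, hcd⟩ : ∃ c, c = δ a * a⁻¹ := ⟨_, rfl⟩
    have hc : c ∈ C := hcd ▸ h2 a
    have hcp : c ^ p = 1 := by
      have e : δ a = c * a := by rw [hcd, inv_mul_cancel_right]
      have := congrArg (· ^ p) e
      simp only [(show Commute c a from hD.central c hc a).mul_pow, ← map_pow, ha, map_one, mul_one] at this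
      exact this.symm
    obtain ⟨i, hi⟩ := Subgroup.mem_zpowers_iff.1 (mem_zpowers_of_cyclic hD.cyclic huC hu1 hup hc hcp)
    exact ⟨i, by rw [hi, hcd, inv_mul_cancel_right]⟩
  obtain ⟨i, hi⟩ := key w hw
  obtain ⟨j, hj⟩ := key f hf
  have hfw' : f * w * f⁻¹ = u * w := by rw [hu, commutatorElement_def]; group
  have hwf' : w * f * w⁻¹ = u⁻¹ * f := by
    rw [hu, commutatorElement_def]; group
  have hpow : ∀ {a b v : H}, Commute v a → a * b * a⁻¹ = v * b → ∀ k : ℤ, a ^ k * b * (a ^ k)⁻¹ = v ^ k * b := by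
    intro a b v hva hab k
    have e1 : b⁻¹ * a * b = b⁻¹ * (a * b * a⁻¹) * a := by group
    have e2 : a * b = v * b * a := by rw [← hab, inv_mul_cancel_right]
    induction k using Int.induction_on with
    | zero => simp
    | succ n ih =>
      rw [zpow_add_one, zpow_add_one,
        show a ^ (n : ℤ) * a * b * (a ^ (n : ℤ) * a)⁻¹ = a ^ (n : ℤ) * (a * b * a⁻¹) * (a ^ (n : ℤ))⁻¹ by group,
        hab, show a ^ (n : ℤ) * (v * b) * (a ^ (n : ℤ))⁻¹ = (a ^ (n : ℤ) * v) * b * (a ^ (n : ℤ))⁻¹ by group,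
        (hva.zpow_right (n : ℤ)).symm.eq,
        show v * a ^ (n : ℤ) * b * (a ^ (n : ℤ))⁻¹ = v * (a ^ (n : ℤ) * b * (a ^ (n : ℤ))⁻¹) by group, ih]
      group
    | pred n ih =>
      have e3 : a⁻¹ * b * a = v⁻¹ * b := by
        calc a⁻¹ * b * a = v⁻¹ * (v * a⁻¹) * b * a := by group
          _ = v⁻¹ * (a⁻¹ * v) * b * a := by rw [hva.inv_right.eq]
          _ = v⁻¹ * a⁻¹ * (v * b) * a := by group
          _ = _ := by rw [← hab]; group
      rw [zpow_sub_one, zpow_sub_one,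
        show a ^ (-(n : ℤ)) * a⁻¹ * b * (a ^ (-(n : ℤ)) * a⁻¹)⁻¹ =
          a ^ (-(n : ℤ)) * (a⁻¹ * b * a) * (a ^ (-(n : ℤ)))⁻¹ by group,
        e3, show a ^ (-(n : ℤ)) * (v⁻¹ * b) * (a ^ (-(n : ℤ)))⁻¹ =
          (a ^ (-(n : ℤ)) * v⁻¹) * b * (a ^ (-(n : ℤ)))⁻¹ by group,
        (hva.inv_left.zpow_right (-(n : ℤ))).symm.eq,
        show v⁻¹ * a ^ (-(n : ℤ)) * b * (a ^ (-(n : ℤ)))⁻¹ = v⁻¹ * (a ^ (-(n : ℤ)) * b * (a ^ (-(n : ℤ)))⁻¹) by group,
        ih]
      group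
  obtain ⟨g, hg⟩ : ∃ g, g = f ^ i * w ^ (-j) := ⟨_, rfl⟩
  have hgw : g * w * g⁻¹ = δ w := by
    rw [hi, ← hpow (hz f) hfw' i, hg]; group
  have hgf : g * f * g⁻¹ = δ f := by
    have e := hpow (hz w).inv_left hwf' (-j)
    rw [inv_zpow, zpow_neg, inv_inv] at e
    calc g * f * g⁻¹ = f ^ i * (w ^ (-j) * f * (w ^ (-j))⁻¹) * (f ^ i)⁻¹ := by rw [hg]; group
      _ = f ^ i * (u ^ j * f) * (f ^ i)⁻¹ := by rw [zpow_neg, inv_inv, e, zpow_neg, inv_inv]
      _ = (f ^ i * u ^ j) * f * (f ^ i)⁻¹ := by group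
      _ = δ f := by rw [((hz (f ^ i)).zpow_left j).symm.eq, hj]; group
  refine ⟨g, fun h => ?_⟩
  obtain ⟨k, l, c, hc, rfl⟩ := hD.decompose hwC hfw h
  rw [map_mul, map_mul, map_zpow, map_zpow, h1 c hc, ← hgw, ← hgf, conj_zpow, conj_zpow]
  calc g * w ^ k * g⁻¹ * (g * f ^ l * g⁻¹) * c = g * w ^ k * f ^ l * (g⁻¹ * c) := by group
    _ = g * w ^ k * f ^ l * (c * g⁻¹) := by rw [← hD.central c hc g⁻¹]
    _ = _ := by group

/-- The action modulo `C`, with a `p`-group as kernel. -/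
theorem exists_quotient_action (hD : Data p C) (hp2 : p ≠ 2) (hH : IsPGroup p H) (A : Subgroup (MulAut H)) [C.Normal] :
    ∃ φ : A →* MulAut (H ⧸ C), (∀ (γ : A) (h : H), φ γ (h : H ⧸ C) = (((γ : MulAut H) h : H) : H ⧸ C)) ∧
      IsPGroup p φ.ker := by
  classical
  haveI : Finite (MulAut H) := Finite.of_injective (fun a : MulAut H => (a : H → H)) DFunLike.coe_injective
  have hinv : ∀ γ : MulAut H, C.map γ.toMonoidHom = C := fun γ => by
    rw [hD.center_eq]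
    exact Subgroup.characteristic_iff_map_eq.1 inferInstance γ
  let φ : A →* MulAut (H ⧸ C) :=
    { toFun := fun γ => QuotientGroup.congr C C (γ : MulAut H) (hinv γ)
      map_one' := MulEquiv.ext fun x => by
        obtain ⟨h, rfl⟩ := QuotientGroup.mk'_surjective C x
        rfl
      map_mul' := fun γ δ => MulEquiv.ext fun x => by
        obtain ⟨h, rfl⟩ := QuotientGroup.mk'_surjective C x
        rfl }
  have hφ : ∀ (γ : A) (h : H), φ γ (h : H ⧸ C) = (((γ : MulAut H) h : H) : H ⧸ C) := fun γ h => rfl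
  refine ⟨φ, hφ, IsPGroup.of_card (Nat.eq_prime_pow_of_unique_prime_dvd Nat.card_pos.ne' fun {q} hq hqd => ?_)⟩
  by_contra hne
  haveI := Fact.mk hq
  obtain ⟨⟨γ, hγk⟩, hγ⟩ := exists_prime_orderOf_dvd_card' q hqd
  have hγo : orderOf (γ : MulAut H) = q := by rw [← hγ, Subgroup.orderOf_coe]; exact Subgroup.orderOf_coe (⟨γ, hγk⟩ : φ.ker)
  have hmod : ∀ h : H, (γ : MulAut H) h * h⁻¹ ∈ C := fun h => by
    rw [← QuotientGroup.eq_one_iff, QuotientGroup.mk_mul, QuotientGroup.mk_inv, ← hφ γ h,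
      MonoidHom.mem_ker.1 hγk, MulAut.one_apply, mul_inv_cancel]
  obtain ⟨w, f, hw, hf, hwC, hfw⟩ := hD.exists_basis
  obtain ⟨hu1, huC, hup⟩ := hD.commutator_facts hwC hfw
  have hufix : (γ : MulAut H) ⁅f, w⁆ = ⁅f, w⁆ := by
    have ef : (γ : MulAut H) f = (γ : MulAut H) f * f⁻¹ * f := by group
    have ew : (γ : MulAut H) w = (γ : MulAut H) w * w⁻¹ * w := by group
    obtain ⟨c, hc, hcf⟩ : ∃ c ∈ C, (γ : MulAut H) f = c * f := ⟨_, hmod f, ef⟩
    obtain ⟨d, hd, hdw⟩ : ∃ d ∈ C, (γ : MulAut H) w = d * w := ⟨_, hmod w, ew⟩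
    rw [map_commutatorElement, hcf, hdw]
    simp only [commutatorElement_def, mul_inv_rev]
    calc c * f * (d * w) * (f⁻¹ * c⁻¹) * (w⁻¹ * d⁻¹)
        = c * (f * d) * w * f⁻¹ * (c⁻¹ * w⁻¹) * d⁻¹ := by group
      _ = c * (d * f) * w * f⁻¹ * (w⁻¹ * c⁻¹) * d⁻¹ := by
          rw [hD.central d hd f, hD.central c⁻¹ (inv_mem hc) w⁻¹]
      _ = c * d * (f * w * f⁻¹ * w⁻¹) * (c⁻¹ * d⁻¹) := by group
      _ = c * d * ((c⁻¹ * d⁻¹) * (f * w * f⁻¹ * w⁻¹)) := by
          rw [mul_assoc (c * d), ← hD.central (c⁻¹ * d⁻¹) (mul_mem (inv_mem hc) (inv_mem hd))]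
      _ = (c * d * c⁻¹) * d⁻¹ * (f * w * f⁻¹ * w⁻¹) := by group
      _ = _ := by rw [hD.central c hc d, mul_inv_cancel_right, mul_inv_cancel, one_mul]
  refine hq.ne_one ?_
  rw [← hγo, aut_eq_one_of_fix_omega hH (γ : MulAut H)
    (hγo ▸ (Nat.coprime_primes hq hp.out).2 hne) (fun x hx => ?_), orderOf_one]
  have hxp : x ^ p = 1 := hx.resolve_right fun h => hp2 h.1
  obtain ⟨c, hcd⟩ : ∃ c, c = (γ : MulAut H) x * x⁻¹ := ⟨_, rfl⟩
  have hcC : c ∈ C := hcd ▸ hmod x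
  have hcx : (γ : MulAut H) x = c * x := by rw [hcd, inv_mul_cancel_right]
  have hcp : c ^ p = 1 := by
    have := congrArg (· ^ p) hcx
    simp only [(show Commute c x from hD.central c hcC x).mul_pow, ← map_pow, hxp, map_one, mul_one] at this
    exact this.symm
  have hcfix : (γ : MulAut H) c = c := by
    obtain ⟨i, rfl⟩ := Subgroup.mem_zpowers_iff.1 (mem_zpowers_of_cyclic hD.cyclic huC hu1 hup hcC hcp)
    rw [map_zpow, hufix]
  have hit : ∀ k : ℕ, ((γ : MulAut H) ^ k) x = c ^ k * x := by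
    intro k
    induction k with
    | zero => simp
    | succ k ih => rw [pow_succ', MulAut.mul_apply, ih, map_mul, map_pow, hcfix, hcx, pow_succ, mul_assoc]
  have h5 := hit q
  rw [← hγo, pow_orderOf_eq_one, MulAut.one_apply, hγo, right_eq_mul] at h5
  have h7 := pow_gcd_eq_one.2 ⟨h5, hcp⟩
  rw [(Nat.coprime_primes hq hp.out).2 hne, pow_one] at h7
  rw [hcx, h7, one_mul]

end Data

/-- A `p`-th root in the centre from an endomorphism with unequal scalings. -/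
theorem exists_root {T : Type u} [Group T] [Finite T] (hT : IsPGroup p T) (hp3 : 3 < p) (C E : Subgroup T)
    (hC : ∀ c ∈ C, ∀ t : T, c * t = t * c) (hcyc : IsCyclic C)
    (hE : ∀ e ∈ E, ∃ a c : T, a ^ p = 1 ∧ c ∈ C ∧ e = a * c) (hEc : Nat.card E ≤ p ^ 2 * Nat.card C)
    (hTc : Nat.card T ≤ p * Nat.card E) (hder : commutator T ≤ E) {y : T} (hy : y ^ p ∈ E) {w : T}
    (hw : w ^ p = 1) (hwC : ∀ i : ℤ, w ^ i ∈ C → w ^ i = 1)
    (hfix : ∀ e ∈ E, y * e = e * y → ∃ i : ℤ, ∃ c ∈ C, e = w ^ i * c) (g : T →* T) {r l m : ℕ}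
    (hgw : ∃ c ∈ C, g w = w ^ r * c) (hgc : ∀ c ∈ C, g c = c ^ l) (hgy : ∃ e ∈ E, g y = y ^ m * e)
    (hrm : ¬ r ≡ m [MOD p]) (hlm : ¬ l ≡ m [MOD p]) : ∃ d ∈ C, y ^ p = d ^ p := by
  let D : Subgroup T :=
    { carrier := {t | ∃ d ∈ C, t = d ^ p}
      one_mem' := ⟨1, one_mem C, (one_pow p).symm⟩
      mul_mem' := by
        rintro _ _ ⟨a, ha, rfl⟩ ⟨b, hb, rfl⟩
        exact ⟨a * b, mul_mem ha hb, ((show Commute a b from hC a ha b).mul_pow p).symm⟩
      inv_mem' := by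
        rintro _ ⟨a, ha, rfl⟩
        exact ⟨a⁻¹, inv_mem ha, (inv_pow a p).symm⟩ }
  have hDle : D ≤ C := fun t ⟨d, hd, e⟩ => e ▸ pow_mem hd p
  haveI : D.Normal := ⟨fun t ht s => by rw [← hC t (hDle ht) s, mul_inv_cancel_right]; exact ht⟩
  have hCD : Nat.card C ≤ p * Nat.card D := by
    haveI := hcyc
    letI : CommGroup C := IsCyclic.commGroup
    let f : C →* C := powMonoidHom p
    have h1 : Nat.card f.ker * Nat.card f.range = Nat.card C := by
      rw [← Subgroup.index_ker, Subgroup.card_mul_index]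
    have h2 : Nat.card f.ker ≤ p := by
      rw [IsCyclic.card_powMonoidHom_ker (G := C) p]
      exact Nat.le_of_dvd hp.out.pos (Nat.gcd_dvd_right _ _)
    have h3 : Nat.card f.range ≤ Nat.card D := by
      refine Nat.card_le_card_of_injective (fun t => (⟨((t : C) : T), ?_⟩ : D))
        fun s t e => Subtype.ext (Subtype.ext (congrArg (fun z : D => (z : T)) e))
      obtain ⟨d, hd⟩ := t.2
      exact ⟨d, d.2, by rw [← hd]; rfl⟩
    rw [← h1]
    exact Nat.mul_le_mul h2 h3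
  have hQ : Nat.card (T ⧸ D) ≤ p ^ 4 := by
    have h1 := Subgroup.card_eq_card_quotient_mul_card_subgroup D
    have h2 : Nat.card T ≤ p ^ 4 * Nat.card D :=
      calc Nat.card T ≤ p * Nat.card E := hTc
        _ ≤ p * (p ^ 2 * Nat.card C) := Nat.mul_le_mul_left _ hEc
        _ ≤ p * (p ^ 2 * (p * Nat.card D)) := Nat.mul_le_mul_left _ (Nat.mul_le_mul_left _ hCD)
        _ = p ^ 4 * Nat.card D := by ring
    rw [h1] at h2
    exact Nat.le_of_mul_le_mul_right h2 Nat.card_pos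
  have hEp : ∀ e ∈ E, e ^ p ∈ D := by
    intro e he
    obtain ⟨a, c, ha, hc, rfl⟩ := hE e he
    rw [(show Commute a c from (hC c hc a).symm).mul_pow, ha, one_mul]
    exact ⟨c, hc, rfl⟩
  have hsm := smallClass_of_card_le hp3 (hT.to_quotient D) hQ
  have hder' : commutator (T ⧸ D) ≤ Subgroup.closure {x : T ⧸ D | x ^ p = 1} := by
    rw [commutator_def, Subgroup.commutator_le]
    intro a _ b _
    obtain ⟨a, rfl⟩ := QuotientGroup.mk'_surjective D a
    obtain ⟨b, rfl⟩ := QuotientGroup.mk'_surjective D b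
    rw [← map_commutatorElement]
    refine Subgroup.subset_closure ?_
    show (QuotientGroup.mk' D _) ^ p = 1
    rw [← map_pow]
    exact (QuotientGroup.eq_one_iff _).2
      (hEp _ (hder (Subgroup.commutator_mem_commutator (Subgroup.mem_top a) (Subgroup.mem_top b))))
  obtain ⟨i, c, hc, hyp⟩ := hfix _ hy (Commute.self_pow y p).eq
  obtain ⟨c', hc', hgw⟩ := hgw
  obtain ⟨e, he, hgy⟩ := hgy
  have hcw : ∀ (c : T), c ∈ C → ∀ k : ℤ, Commute (w ^ k) c := fun c hc k => (hC c hc (w ^ k)).symm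
  -- the two values of `g (y ^ p)`
  obtain ⟨d, hd, hval⟩ : ∃ d ∈ D, (y ^ m * e) ^ p = (y ^ p) ^ m * d := by
    refine ⟨((y ^ p) ^ m)⁻¹ * (y ^ m * e) ^ p, ?_, by group⟩
    rw [← QuotientGroup.eq_one_iff, QuotientGroup.mk_mul, QuotientGroup.mk_inv, QuotientGroup.mk_pow D (y ^ m * e),
      QuotientGroup.mk_mul, mul_pow_of_derived hsm hder', ← QuotientGroup.mk_pow D e p,
      (QuotientGroup.eq_one_iff _).2 (hEp e he), mul_one, ← QuotientGroup.mk_pow, ← pow_mul, ← pow_mul,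
      Nat.mul_comm m p, inv_mul_cancel]
  have h1 : g (y ^ p) = (w ^ ((r : ℤ) * i)) * (c' ^ i * c ^ l) := by
    rw [hyp, map_mul, map_zpow, hgw, (show Commute (w ^ r) c' from (hC c' hc' _).symm).mul_zpow, hgc c hc,
      ← zpow_natCast w r, ← zpow_mul, mul_assoc]
  have h2 : g (y ^ p) = (w ^ (i * (m : ℤ))) * (c ^ m * d) := by
    rw [map_pow, hgy, hval, hyp, (hcw c hc i).mul_pow, ← zpow_natCast (w ^ i), ← zpow_mul, mul_assoc]
  have hCd : c ^ m * d ∈ C := mul_mem (pow_mem hc _) (hDle hd)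
  have hwi : w ^ (((r : ℤ) - m) * i) = 1 := by
    refine hwC _ ?_
    have e3 : w ^ (((r : ℤ) - m) * i) = (c ^ m * d) * (c' ^ i * c ^ l)⁻¹ := by
      have e4 := h1.symm.trans h2
      rw [show ((r : ℤ) - m) * i = -(i * m) + r * i by ring, zpow_add, zpow_neg]
      calc (w ^ (i * (m : ℤ)))⁻¹ * w ^ ((r : ℤ) * i)
          = (w ^ (i * (m : ℤ)))⁻¹ * (w ^ ((r : ℤ) * i) * (c' ^ i * c ^ l)) * (c' ^ i * c ^ l)⁻¹ := by group
        _ = _ := by rw [e4]; group
    exact e3 ▸ mul_mem hCd (inv_mem (mul_mem (zpow_mem hc' _) (pow_mem hc _)))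
  have hi : w ^ i = 1 := Subgroup.mem_bot.1 (zpow_eq_one_of_coprime (not_dvd_sub hrm)
    (Subgroup.mem_bot.2 (by rw [← zpow_mul, mul_comm]; exact hwi))
    (Subgroup.mem_bot.2 (by rw [← zpow_natCast (w ^ i), ← zpow_mul, mul_comm i, zpow_mul, zpow_natCast, hw, one_zpow])))
  have hcD : c ∈ D := by
    refine zpow_eq_one_of_coprime (not_dvd_sub hlm) ?_ ⟨c, hc, rfl⟩
    have e5 : g c = c ^ m * d := by
      have := congrArg g (show c = y ^ p by rw [hyp, hi, one_mul])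
      rw [this, map_pow, hgy, hval, hyp, hi, one_mul]
    rw [hgc c hc] at e5
    rw [zpow_sub, zpow_natCast, zpow_natCast, e5, (show Commute (c ^ m) d from hC _ (pow_mem hc _) d).eq,
      mul_inv_cancel_right]
    exact hd
  obtain ⟨d', hd', hcd'⟩ := hcD
  exact ⟨d', hd', by rw [hyp, hi, one_mul, hcd']⟩

end Cfsg.Agent.Local.FS.Heis
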