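import Cfsg.Agent.Lib.Local.FS.Tate

/-!
The kernel of a stable homomorphism of `S` onto an elementary abelian `p`-group is the base of a saturated
subsystem: a map is kept when one of the permutations of a characteristic biset intertwining it has trivial
value.
-/

set_option autoImplicit false

namespace Cfsg.Agent.Local.FS

open Cfsg Cfsg.FusionSystem Cfsg.Agent.Fusion

universe u

variable {Ω : Type u} [Group Ω] {S : Subgroup Ω} {F : FusionSystem S} {p : ℕ}

/-- A homomorphism on `S` respected by all maps. -/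
def StableHom {A : Type*} [CommGroup A] (F : FusionSystem S) (χ : S →* A) : Prop :=
  ∀ (P : Subgroup Ω) (f : Ω → Ω), Map F P f → ∀ u v : S, (u : Ω) ∈ P → (v : Ω) = f u → χ v = χ u

namespace CharBiset

variable (b : CharBiset F p)

/-- The permutation commutes with the right action. -/
def REquiv (e : Equiv.Perm b.X) : Prop := ∀ t x, e (b.r x t) = b.r (e x) t

/-- The permutation intertwines the left action of `P` with that of its image. -/
def Intw (P : Subgroup Ω) (f : Ω → Ω) (e : Equiv.Perm b.X) : Prop :=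
  b.REquiv e ∧ ∀ u v : S, (u : Ω) ∈ P → (v : Ω) = f u → ∀ x, e (b.l u x) = b.l v (e x)

/-- Left translation. -/
def lmul (a : S) : Equiv.Perm b.X where
  toFun := b.l a
  invFun := b.l a⁻¹
  left_inv x := by rw [← b.l_mul, inv_mul_cancel, b.l_one]
  right_inv x := by rw [← b.l_mul, mul_inv_cancel, b.l_one]

variable {b}

theorem exists_intw {P : Subgroup Ω} {f : Ω → Ω} (hf : Map F P f) : ∃ e, b.Intw P f e := by
  obtain ⟨e, he⟩ := b.stable P f hf
  refine ⟨e, fun t x => ?_, fun u v hu hv x => ?_⟩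
  · have := he 1 1 P.one_mem hf.map_one.symm t x
    rwa [b.l_one, b.l_one] at this
  · have := he u v hu hv 1 x
    rwa [b.r_one, b.r_one] at this

theorem REquiv.mul {e e' : Equiv.Perm b.X} (h : b.REquiv e) (h' : b.REquiv e') : b.REquiv (e' * e) :=
  fun t x => by rw [Equiv.Perm.mul_apply, Equiv.Perm.mul_apply, h, h']

theorem REquiv.inv {e : Equiv.Perm b.X} (h : b.REquiv e) : b.REquiv e⁻¹ := fun t x => by
  apply e.injective
  rw [h]; simp

theorem REquiv.pow {e : Equiv.Perm b.X} (h : b.REquiv e) : ∀ n : ℕ, b.REquiv (e ^ n)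
  | 0 => fun _ _ => rfl
  | n + 1 => by rw [pow_succ]; exact h.mul (h.pow n)

theorem rEquiv_one : b.REquiv 1 := fun _ _ => rfl

theorem intw_congr {P : Subgroup Ω} {f g : Ω → Ω} {e : Equiv.Perm b.X} (h : b.Intw P f e)
    (he : ∀ x ∈ P, f x = g x) : b.Intw P g e :=
  ⟨h.1, fun u v hu hv x => h.2 u v hu (hv.trans (he _ hu).symm) x⟩

theorem intw_restrict {P R : Subgroup Ω} {f : Ω → Ω} {e : Equiv.Perm b.X} (h : b.Intw P f e) (hR : R ≤ P) :
    b.Intw R f e :=
  ⟨h.1, fun u v hu hv x => h.2 u v (hR hu) hv x⟩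

theorem intw_one (P : Subgroup Ω) : b.Intw P id 1 :=
  ⟨rEquiv_one, fun u v _ hv x => by rw [show v = u from Subtype.ext hv]; rfl⟩

theorem intw_mul {P Q : Subgroup Ω} {f g : Ω → Ω} {e e' : Equiv.Perm b.X} (hf : Map F P f)
    (h : b.Intw P f e) (h' : b.Intw Q g e') (hm : ∀ x ∈ P, f x ∈ Q) : b.Intw P (g ∘ f) (e' * e) := by
  refine ⟨h.1.mul h'.1, fun u v hu hv x => ?_⟩
  rw [Equiv.Perm.mul_apply, Equiv.Perm.mul_apply, h.2 u ⟨f u, hf.mem hu⟩ hu rfl, h'.2 ⟨f u, hf.mem hu⟩ v (hm _ hu) hv]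

theorem intw_inv {P : Subgroup Ω} {f g : Ω → Ω} {e : Equiv.Perm b.X} (hf : Map F P f)
    (h : b.Intw P f e) (hg : ∀ x ∈ P, g (f x) = x) : b.Intw (im P f) g e⁻¹ := by
  refine ⟨h.1.inv, fun u v hu hv x => ?_⟩
  obtain ⟨y, hy, hyu⟩ := hf.mem_im.1 hu
  apply e.injective
  rw [Equiv.Perm.coe_inv, Equiv.apply_symm_apply, h.2 v u (by rw [hv, ← hyu, hg y hy]; exact hy)
    (by rw [hv, ← hyu, hg y hy]), Equiv.apply_symm_apply]

theorem intw_pow {P : Subgroup Ω} {e : Equiv.Perm b.X} (h : b.Intw P id e) : ∀ n : ℕ, b.Intw P id (e ^ n)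
  | 0 => intw_one P
  | n + 1 => ⟨h.1.pow _, fun u v hu hv x => by
      rw [pow_succ', Equiv.Perm.mul_apply, Equiv.Perm.mul_apply, (intw_pow h n).2 u v hu hv,
        show v = u from Subtype.ext hv, h.2 u u hu rfl]⟩

theorem intw_lmul {P : Subgroup Ω} {a : S} :
    b.Intw P (fun x => (a : Ω) * x * (a : Ω)⁻¹) (b.lmul a) := by
  refine ⟨fun t x => b.l_r a x t, fun u v _ hv x => ?_⟩
  show b.l a (b.l u x) = b.l v (b.l a x)
  rw [← b.l_mul, ← b.l_mul, show v = a * u * a⁻¹ from Subtype.ext hv, inv_mul_cancel_right]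

/-- The orbit to which a permutation sends the base point of an orbit. -/
noncomputable def Sect.mv (s : b.Sect) (e : Equiv.Perm b.X) (q : b.Orb) : b.Orb := b.cl (e (s.σ q))

/-- The displacement of a base point. -/
noncomputable def Sect.disp (s : b.Sect) (e : Equiv.Perm b.X) (q : b.Orb) : S :=
  (b.exists_of_cl_eq (s.spec (b.cl (e (s.σ q))))).choose

theorem Sect.disp_spec (s : b.Sect) (e : Equiv.Perm b.X) (q : b.Orb) :
    b.r (s.σ (s.mv e q)) (s.disp e q) = e (s.σ q) :=
  (b.exists_of_cl_eq (s.spec (b.cl (e (s.σ q))))).choose_spec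

theorem Sect.disp_unique (s : b.Sect) {e : Equiv.Perm b.X} {q : b.Orb} {t : S}
    (h : b.r (s.σ (s.mv e q)) t = e (s.σ q)) : s.disp e q = t :=
  r_cancel ((s.disp_spec e q).trans h.symm)

theorem Sect.mv_r (s : b.Sect) {e : Equiv.Perm b.X} (he : b.REquiv e) (x : b.X) :
    s.mv e (b.cl x) = b.cl (e x) := by
  obtain ⟨t, ht⟩ := b.exists_of_cl_eq (s.spec (b.cl x))
  show b.cl (e _) = _
  conv_rhs => rw [← ht, he, b.cl_r]

theorem Sect.mv_mul (s : b.Sect) {e e' : Equiv.Perm b.X} (h' : b.REquiv e') (q : b.Orb) :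
    s.mv (e' * e) q = s.mv e' (s.mv e q) :=
  (s.mv_r h' (e (s.σ q))).symm

theorem Sect.disp_mul (s : b.Sect) {e e' : Equiv.Perm b.X} (h' : b.REquiv e') (q : b.Orb) :
    s.disp (e' * e) q = s.disp e' (s.mv e q) * s.disp e q := by
  refine s.disp_unique ?_
  rw [b.r_mul, s.mv_mul h', s.disp_spec, Equiv.Perm.mul_apply, ← s.disp_spec e q, h']

/-- The permutation of the orbits. -/
noncomputable def Sect.mvEquiv (s : b.Sect) (e : Equiv.Perm b.X) (he : b.REquiv e) : Equiv.Perm b.Orb where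
  toFun := s.mv e
  invFun := s.mv e⁻¹
  left_inv q := by
    rw [← s.mv_mul he.inv, inv_mul_cancel]
    exact s.spec q
  right_inv q := by
    rw [← s.mv_mul he, mul_inv_cancel]
    exact s.spec q

variable {A : Type*} [CommGroup A]

/-- The value of a permutation. -/
noncomputable def Sect.val (s : b.Sect) (χ : S →* A) (e : Equiv.Perm b.X) : A := ∏ q, χ (s.disp e q)

theorem Sect.val_mul (s : b.Sect) (χ : S →* A) {e e' : Equiv.Perm b.X} (h : b.REquiv e) (h' : b.REquiv e') :
    s.val χ (e' * e) = s.val χ e' * s.val χ e := by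
  show ∏ q, χ (s.disp (e' * e) q) = _
  simp only [s.disp_mul h', map_mul, Finset.prod_mul_distrib]
  congr 1
  exact Equiv.prod_comp (s.mvEquiv e h) (fun q => χ (s.disp e' q))

theorem Sect.val_one (s : b.Sect) (χ : S →* A) : s.val χ 1 = 1 := by
  have := s.val_mul χ (rEquiv_one (b := b)) rEquiv_one
  rwa [one_mul, left_eq_mul] at this

theorem Sect.val_inv (s : b.Sect) (χ : S →* A) {e : Equiv.Perm b.X} (h : b.REquiv e) :
    s.val χ e⁻¹ = (s.val χ e)⁻¹ := by
  refine eq_inv_of_mul_eq_one_left ?_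
  rw [← s.val_mul χ h h.inv, inv_mul_cancel, s.val_one]

theorem Sect.val_pow (s : b.Sect) (χ : S →* A) {e : Equiv.Perm b.X} (h : b.REquiv e) :
    ∀ n : ℕ, s.val χ (e ^ n) = s.val χ e ^ n
  | 0 => by rw [pow_zero, pow_zero, s.val_one]
  | n + 1 => by rw [pow_succ, pow_succ, s.val_mul χ h (h.pow n), s.val_pow χ h n]

theorem Sect.val_mem_range (s : b.Sect) (χ : S →* A) (e : Equiv.Perm b.X) : s.val χ e ∈ χ.range :=
  Subgroup.prod_mem _ fun _ _ => ⟨_, rfl⟩

theorem Sect.val_lmul [Finite S] (s : b.Sect) (χ : S →* A) (hs : ∀ a q, χ (s.coc a q) = χ a) (a : S) :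
    s.val χ (b.lmul a) = χ a ^ b.orbits := by
  have hmv : ∀ q, s.mv (b.lmul a) q = b.act a q := fun q => by
    conv_rhs => rw [← s.spec q, act_cl]
    rfl
  have hd : ∀ q, s.disp (b.lmul a) q = s.coc a q := fun q => s.disp_unique (by
    rw [hmv, s.coc_spec]; rfl)
  show ∏ q, χ (s.disp (b.lmul a) q) = _
  simp only [hd, hs, Finset.prod_const, Finset.card_univ, orbits_eq b]

/-- A section whose cocycle takes the values of a stable homomorphism. -/
theorem exists_sect_stable [Finite S] [Fact p.Prime] (b : CharBiset F p) (χ : S →* A) (hχ : StableHom F χ) :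
    ∃ s : b.Sect, ∀ a q, χ (s.coc a q) = χ a := by
  obtain ⟨s, hs⟩ := exists_good_section b χ.ker fun P f hf => ⟨1, fun u v hu hv => by
    rw [MonoidHom.mem_ker, map_mul, map_inv, map_mul, map_mul, map_inv, map_one, one_mul, inv_one, mul_one,
      inv_mul_eq_one]
    exact (hχ P f hf u v hu hv).symm⟩
  refine ⟨s, fun a q => ?_⟩
  have := QuotientGroup.eq.1 (hs a q)
  rw [MonoidHom.mem_ker, map_mul, map_inv, inv_mul_eq_one] at this
  exact this

/-- The values of the permutations commuting with a fully centralised subgroup in the kernel are values at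
its centraliser. -/
theorem Sect.val_fix [Finite S] [Fact p.Prime] [Finite A] (s : b.Sect) (χ : S →* A) (hS : IsPGroup p S)
    (hF : F.IsSaturated p) (hχ : StableHom F χ) (hA : ∀ a : A, a ^ p = 1)
    (hs : ∀ a q, χ (s.coc a q) = χ a) {P : Subgroup Ω} (hPS : P ≤ S)
    (hP : ∀ u : S, (u : Ω) ∈ P → χ u = 1) (hfc : F.IsFullyCentralized P) {e : Equiv.Perm b.X}
    (he : b.Intw P id e) : s.val χ e ∈ ((centralizerIn S P).subgroupOf S).map χ := by
  classical
  let P' : Subgroup S := P.subgroupOf S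
  let iA : MulAction P' b.Orb :=
    { smul := fun u q => b.act u q
      one_smul := fun q => b.act_one q
      mul_smul := fun u v q => b.act_mul u v q }
  have hP'p : IsPGroup p P' := hS.to_subgroup P'
  have hmv : ∀ (u : S), (u : Ω) ∈ P → ∀ q, s.mv e (b.act u q) = b.act u (s.mv e q) := by
    intro u hu q
    obtain ⟨x, rfl⟩ := Quotient.exists_rep q
    show s.mv e (b.cl (b.l u x)) = b.act u (s.mv e (b.cl x))
    rw [s.mv_r he.1, s.mv_r he.1, act_cl, he.2 u u hu rfl]
  have hd : ∀ (u : S), (u : Ω) ∈ P → ∀ q, χ (s.disp e (b.act u q)) = χ (s.disp e q) := by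
    intro u hu q
    have h1 : b.r (s.σ (s.mv e (b.act u q))) (s.disp e (b.act u q) * s.coc u q) =
        b.r (s.σ (s.mv e (b.act u q))) (s.coc u (s.mv e q) * s.disp e q) := by
      rw [b.r_mul, s.disp_spec, ← he.1, s.coc_spec, he.2 u u hu rfl, hmv u hu, b.r_mul, s.coc_spec,
        ← b.l_r, s.disp_spec]
    have h2 := congrArg χ (r_cancel h1)
    rwa [map_mul, map_mul, hs, hs, hP u hu, mul_one, one_mul] at h2
  set g : b.Orb → A := fun q => χ (s.disp e q)
  have hred : ∏ q, g q = ∏ q ∈ Finset.univ.filter (fun q => q ∈ MulAction.fixedPoints P' b.Orb), g q := by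
    haveI := Fintype.ofFinite A
    rw [← Finset.prod_fiberwise Finset.univ g g, ← Finset.prod_fiberwise
      (Finset.univ.filter (fun q => q ∈ MulAction.fixedPoints P' b.Orb)) g g]
    refine Finset.prod_congr rfl fun a _ => ?_
    rw [Finset.prod_eq_pow_card (s := Finset.univ.filter fun q => g q = a) (b := a) (fun q hq => (Finset.mem_filter.1 hq).2),
      Finset.prod_eq_pow_card (b := a) (fun q hq => (Finset.mem_filter.1 hq).2)]
    let Y := {q : b.Orb // g q = a}
    let iY : MulAction P' Y :=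
      { smul := fun u q => ⟨b.act u q.1, (hd u u.2 q.1).trans q.2⟩
        one_smul := fun q => Subtype.ext (b.act_one q.1)
        mul_smul := fun u v q => Subtype.ext (b.act_mul u v q.1) }
    have hmod := hP'p.card_modEq_card_fixedPoints Y
    have c1 : Nat.card Y = (Finset.univ.filter fun q => g q = a).card := by
      rw [Nat.card_eq_fintype_card, Fintype.card_subtype]
    have c2 : Nat.card (MulAction.fixedPoints P' Y) = ((Finset.univ.filter
        (fun q => q ∈ MulAction.fixedPoints P' b.Orb)).filter fun q => g q = a).card := by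
      rw [Finset.filter_filter, ← Fintype.card_subtype, ← Nat.card_eq_fintype_card]
      exact Nat.card_congr
        { toFun := fun y => ⟨y.1.1, fun u => congrArg Subtype.val (y.2 u), y.1.2⟩
          invFun := fun q => ⟨⟨q.1, q.2.2⟩, fun u => Subtype.ext (q.2.1 u)⟩
          left_inv := fun y => rfl
          right_inv := fun q => rfl }
    rw [c1, c2] at hmod
    exact pow_eq_pow_of_modEq hmod (hA a)
  show ∏ q, g q ∈ _
  rw [hred]
  set V := ((centralizerIn S P).subgroupOf S).map χ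
  rw [← QuotientGroup.eq_one_iff, ← QuotientGroup.mk'_apply, map_prod]
  rw [← Finset.prod_subtype_eq_prod_filter (fun q => QuotientGroup.mk' V (g q))]
  have hfix : ∀ q, q ∈ MulAction.fixedPoints P' b.Orb → s.mv e q ∈ MulAction.fixedPoints P' b.Orb :=
    fun q hq u => by
      show b.act u (s.mv e q) = s.mv e q
      rw [← hmv u u.2, show b.act u q = q from hq u]
  let π : Equiv.Perm {q // q ∈ MulAction.fixedPoints P' b.Orb} :=
    Equiv.ofBijective (fun q => ⟨s.mv e q.1, hfix q.1 q.2⟩) (Finite.injective_iff_bijective.1 fun q q' h =>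
      Subtype.ext ((s.mvEquiv e he.1).injective (congrArg Subtype.val h)))
  rw [Finset.subtype_univ]
  refine (prod_eq_pow_card π _ 1 fun q n hn => ?_).trans (one_pow _)
  rw [one_pow]
  have hpi : ∀ i : ℕ, ((π ^ i) q).1 = s.mv (e ^ i) q.1 := by
    intro i
    induction i with
    | zero => exact (s.spec q.1).symm
    | succ i ih =>
      rw [pow_succ', pow_succ', s.mv_mul he.1, ← ih]
      rfl
  have hprod : ∀ m : ℕ, ∏ i ∈ Finset.range m, g ((π ^ i) q).1 = χ (s.disp (e ^ m) q.1) := by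
    intro m
    induction m with
    | zero =>
      have : s.disp (1 : Equiv.Perm b.X) q.1 = 1 := s.disp_unique (by
        rw [b.r_one]; exact congrArg s.σ (s.spec q.1))
      rw [Finset.prod_range_zero, pow_zero, this, map_one]
    | succ m ih =>
      rw [Finset.prod_range_succ, ih, pow_succ', s.disp_mul he.1, map_mul, hpi, mul_comm]
  rw [← map_prod, hprod, QuotientGroup.mk'_apply, QuotientGroup.eq_one_iff]
  have hmvn : s.mv (e ^ n) q.1 = q.1 := by rw [← hpi, hn]
  obtain ⟨D, hD⟩ : ∃ D, D = s.disp (e ^ n) q.1 := ⟨_, rfl⟩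
  have hDs : b.r (s.σ q.1) D = (e ^ n) (s.σ q.1) := by
    have h := s.disp_spec (e ^ n) q.1
    rw [hmvn, ← hD] at h
    exact h
  rw [← hD]
  obtain ⟨P₀, f₀, hf₀, hst⟩ := b.stab (s.σ q.1)
  have hcoc : ∀ u : S, (u : Ω) ∈ P → b.l u (s.σ q.1) = b.r (s.σ q.1) (s.coc u q.1) := by
    intro u hu
    have h2 : b.act u q.1 = q.1 := q.2 ⟨u, hu⟩
    have h3 := s.coc_spec u q.1
    rw [h2] at h3
    exact h3.symm
  have hPP₀ : P ≤ P₀ := fun x hx => ((hst ⟨x, hPS hx⟩ _).1 (hcoc ⟨x, hPS hx⟩ hx)).1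
  have hcom : ∀ u : S, (u : Ω) ∈ P → D * s.coc u q.1 = s.coc u q.1 * D := by
    intro u hu
    refine r_cancel (x := s.σ q.1) ?_
    rw [b.r_mul, hDs, ← (he.1.pow n), ← hcoc u hu, (intw_pow he n).2 u u hu rfl, ← hDs,
      b.l_r, hcoc u hu, ← b.r_mul]
  have hQ := hf₀.restrict hPP₀
  have hDC : (D : Ω) ∈ centralizerIn S (im P f₀) := by
    refine mem_centralizerIn.2 ⟨D.2, fun y hy => ?_⟩
    obtain ⟨x, hx, rfl⟩ := hQ.mem_im.1 hy
    have h1 := ((hst ⟨x, hPS hx⟩ _).1 (hcoc ⟨x, hPS hx⟩ hx)).2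
    rw [← show ((s.coc ⟨x, hPS hx⟩ q.1 : S) : Ω) = f₀ x from h1]
    exact_mod_cast (congrArg Subtype.val (hcom ⟨x, hPS hx⟩ hx)).symm
  obtain ⟨k, hk, hki, -, hkim⟩ := hQ.exists_inv
  obtain ⟨k', hk', hk'k⟩ := (receptive_iff.1 (receptive_of_fc hS hF hfc)).2 (im P f₀) k hk hkim
  have hDN : (D : Ω) ∈ Nf S (im P f₀) k := centralizerIn_le_Nf hDC
  have hC := hk'.mem_centralizer (le_Nf hk) hDN (mem_centralizerIn.1 hDC).2
  rw [im_congr hk'k, hkim] at hC
  exact ⟨⟨k' D, hk'.mem hDN⟩, hC, hχ _ k' hk' D ⟨k' D, hk'.mem hDN⟩ hDN rfl⟩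

end CharBiset

end Cfsg.Agent.Local.FS
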