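import Cfsg.Agent.Lib.Local.FS.IndexKernel
import Cfsg.Agent.Lib.Local.FS.Essential

/-!
The saturated subsystem over the kernel of a stable homomorphism onto an elementary abelian `p`-group.
-/

set_option autoImplicit false

namespace Cfsg.Agent.Local.FS

open Cfsg Cfsg.FusionSystem Cfsg.Agent.Fusion

universe u

variable {Ω : Type u} [Group Ω] {S : Subgroup Ω} {F : FusionSystem S} {p : ℕ} {A : Type*} [CommGroup A]

theorem mem_kerBase {χ : S →* A} {x : Ω} :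
    x ∈ χ.ker.map S.subtype ↔ ∃ h : x ∈ S, χ ⟨x, h⟩ = 1 := by
  constructor
  · rintro ⟨y, hy, rfl⟩
    exact ⟨y.2, hy⟩
  · rintro ⟨h, h1⟩
    exact ⟨⟨x, h⟩, h1, rfl⟩

theorem kerBase_le {χ : S →* A} : χ.ker.map S.subtype ≤ S := Subgroup.map_subtype_le _

variable {b : CharBiset F p} (s : b.Sect) {χ : S →* A}

/-- The maps of trivial value between subgroups of the kernel. -/
def CharBiset.Sect.kerSys [Finite S] (hχ : StableHom F χ) (hs : ∀ a q, χ (s.coc a q) = χ a) :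
    FusionSystem (χ.ker.map S.subtype) where
  Hom P := {φ | φ ∈ F.Hom P ∧ P ≤ χ.ker.map S.subtype ∧ ∃ e, b.Intw P (fn φ) e ∧ s.val χ e = 1}
  le_of_mem {P φ} h := by
    refine ⟨h.2.1, fun x => ?_⟩
    obtain ⟨hxS, hx⟩ := mem_kerBase.1 (h.2.1 x.2)
    exact mem_kerBase.2 ⟨(F.le_of_mem h.1).2 x,
      (hχ P _ (map_of_mem h.1) ⟨x, hxS⟩ ⟨φ x, (F.le_of_mem h.1).2 x⟩ x.2 (fn_coe φ x).symm).trans hx⟩
  injective_of_mem h := F.injective_of_mem h.1
  conj_mem {P g} hP hg := by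
    obtain ⟨hgS, hgχ⟩ := mem_kerBase.1 hg
    refine ⟨F.conj_mem (hP.trans kerBase_le) hgS, hP, b.lmul ⟨g, hgS⟩,
      CharBiset.intw_congr CharBiset.intw_lmul fun x hx => (fn_apply (conjHom P g) hx).symm, ?_⟩
    rw [s.val_lmul χ hs, hgχ, one_pow]
  comp_mem {P Q φ ψ} hφ hψ h := by
    obtain ⟨e, he, hev⟩ := hφ.2.2
    obtain ⟨e', he', hev'⟩ := hψ.2.2
    refine ⟨F.comp_mem hφ.1 hψ.1 h, hφ.2.1, e' * e, ?_, by
      rw [s.val_mul χ he.1 he'.1, hev, hev', one_mul]⟩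
    refine CharBiset.intw_congr (CharBiset.intw_mul (map_of_mem hφ.1) he he'
      fun x hx => fn_apply φ hx ▸ h ⟨x, hx⟩) fun x hx => ?_
    show fn ψ (fn φ x) = _
    rw [fn_apply φ hx, fn_apply _ hx, fn_apply ψ (h ⟨x, hx⟩)]
    rfl
  inv_mem {P φ} hφ := by
    obtain ⟨ψ, hψ, hψφ⟩ := F.inv_mem hφ.1
    obtain ⟨e, he, hev⟩ := hφ.2.2
    have hM := map_of_mem hφ.1
    refine ⟨ψ, ⟨hψ, ?_, e⁻¹, ?_, by rw [s.val_inv χ he.1, hev, inv_one]⟩, hψφ⟩
    · rintro _ ⟨x, rfl⟩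
      obtain ⟨hxS, hx⟩ := mem_kerBase.1 (hφ.2.1 x.2)
      exact mem_kerBase.2 ⟨(F.le_of_mem hφ.1).2 x,
        (hχ P _ hM ⟨x, hxS⟩ ⟨φ x, (F.le_of_mem hφ.1).2 x⟩ x.2 (fn_coe φ x).symm).trans hx⟩
    · have hI : b.Intw (im P (fn φ)) (fn ψ) e⁻¹ := ?_
      · exact ⟨hI.1, fun u v hu hv z => hI.2 u v
          ((hM.im_eq_range (fun x => (fn_coe φ x).symm)).ge hu) hv z⟩
      refine CharBiset.intw_inv hM he fun x hx => ?_
      rw [fn_apply φ hx, fn_apply ψ (show φ ⟨x, hx⟩ ∈ φ.range from ⟨_, rfl⟩)]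
      exact hψφ ⟨x, hx⟩

variable {s} [Finite S] {hχ : StableHom F χ} {hs : ∀ a q, χ (s.coc a q) = χ a}
  {P Q R : Subgroup Ω} {f : Ω → Ω}

theorem map_kerSys : Map (s.kerSys hχ hs) P f ↔
    Map F P f ∧ P ≤ χ.ker.map S.subtype ∧ ∃ e, b.Intw P f e ∧ s.val χ e = 1 := by
  constructor
  · rintro ⟨φ, ⟨hφ, hP, e, he, hev⟩, h⟩
    exact ⟨⟨φ, hφ, h⟩, hP, e,
      CharBiset.intw_congr he fun x hx => (fn_apply φ hx).trans (h ⟨x, hx⟩), hev⟩
  · rintro ⟨⟨φ, hφ, h⟩, hP, e, he, hev⟩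
    exact ⟨φ, ⟨hφ, hP, e, CharBiset.intw_congr he fun x hx => ((fn_apply φ hx).trans (h ⟨x, hx⟩)).symm, hev⟩, h⟩

theorem kerSys_sub : (s.kerSys hχ hs).IsSubsystemOf F := fun _ _ h => h.1

/-- Automorphisms of order prime to `p` have trivial value. -/
theorem pResidual_le_kerSys (hp : p.Prime) (hA : ∀ a : A, a ^ p = 1) (hP : P ≤ χ.ker.map S.subtype) :
    (pResidual p ↥(F.autGroup P)).map (F.autGroup P).subtype ≤ (s.kerSys hχ hs).autGroup P := by
  rw [pResidual, MonoidHom.map_closure, Subgroup.closure_le]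
  rintro _ ⟨α, hα, rfl⟩
  haveI := finite_of_le (S := S) (kerBase_le (χ := χ))
  have hPS := hP.trans (kerBase_le (χ := χ))
  haveI := mulAut_finite_of_le hPS
  obtain ⟨m, hm⟩ : ∃ m, ∃ k, m = p * k ∧ α ^ m = α := by
    rcases Nat.lt_or_ge 1 (orderOf α) with h1 | h1
    · obtain ⟨k, -, hk⟩ := Nat.exists_mul_mod_eq_one_of_coprime (Nat.Coprime.symm hα) h1
      exact ⟨p * k, k, rfl, by rw [← pow_mod_orderOf, hk, pow_one]⟩
    · have : α = 1 := orderOf_eq_one_iff.1 (le_antisymm h1 (orderOf_pos α))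
      exact ⟨p, 1, (mul_one p).symm, by rw [this, one_pow]⟩
  obtain ⟨k, rfl, hαm⟩ := hm
  obtain ⟨e, he⟩ := b.exists_intw (map_of_mem_autGroup hPS α.2)
  have hpow : ∀ n : ℕ, b.Intw P (av ((α ^ n : F.autGroup P) : MulAut P)) (e ^ n) := by
    intro n
    induction n with
    | zero =>
      rw [pow_zero, pow_zero]
      exact CharBiset.intw_congr (CharBiset.intw_one P) fun x hx => (av_one hx).symm
    | succ n ih =>
      rw [pow_succ, pow_succ]
      exact CharBiset.intw_congr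
        (CharBiset.intw_mul (map_of_mem_autGroup hPS α.2) he ih fun x hx => av_mem _ hx)
        fun x hx => (av_mul _ _ hx).symm
  refine mem_autGroup_of_map (map_kerSys.2 ⟨map_of_mem_autGroup hPS α.2, hP, e ^ (p * k), ?_, ?_⟩)
  · have := hpow (p * k)
    rwa [hαm] at this
  · rw [s.val_pow χ he.1, pow_mul, hA, one_pow]

variable [Fact p.Prime]

/-- The kernel system is saturated. -/
theorem kerSys_saturated [Finite A] (hS : IsPGroup p S) (hF : F.IsSaturated p) (hA : ∀ a : A, a ^ p = 1) :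
    (s.kerSys hχ hs).IsSaturated p := by
  haveI := finite_of_le (S := S) (kerBase_le (χ := χ))
  obtain ⟨k, hk⟩ : ∃ k, ∀ a : A, (a ^ k) ^ b.orbits = a := by
    obtain ⟨k, -, hk⟩ := Nat.exists_mul_mod_eq_one_of_coprime
      ((Nat.Prime.coprime_iff_not_dvd Fact.out).2 b.not_dvd).symm (Fact.out : p.Prime).one_lt
    refine ⟨k, fun a => ?_⟩
    rw [← pow_mul, pow_eq_pow_mod _ (hA a), mul_comm, hk, pow_one]
  have hker : ∀ {Y : Subgroup Ω}, Y ≤ χ.ker.map S.subtype → ∀ u : S, (u : Ω) ∈ Y → χ u = 1 := by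
    intro Y hY u hu
    obtain ⟨h, h1⟩ := mem_kerBase.1 (hY hu)
    exact h1
  intro P hP
  obtain ⟨R, hPR, hR⟩ := exists_fullyNormalized (F := F) (hP.trans kerBase_le)
  obtain ⟨f, hf, hfi⟩ := isConj_iff.1 hPR
  obtain ⟨e, he⟩ := b.exists_intw hf
  obtain ⟨a, ha⟩ := s.val_mem_range χ e
  obtain ⟨t, ht⟩ : ∃ t : S, χ t ^ b.orbits = (s.val χ e)⁻¹ := ⟨(a⁻¹) ^ k, by
    rw [map_pow, hk, map_inv, ha]⟩
  have hc : Map F R (fun x => (t : Ω) * x * (t : Ω)⁻¹) := map_conjBy hR.1 t.2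
  set g : Ω → Ω := (fun x => (t : Ω) * x * (t : Ω)⁻¹) ∘ f with hgdef
  have hmR : ∀ x ∈ P, f x ∈ R := fun x hx => hfi.le (mem_im_of_mem hx)
  have hg : Map F P g := hf.comp hc hmR
  have hgE : Map (s.kerSys hχ hs) P g := map_kerSys.2 ⟨hg, hP, b.lmul t * e,
    CharBiset.intw_mul hf he CharBiset.intw_lmul hmR, by
      rw [s.val_mul χ he.1 (CharBiset.intw_lmul (P := P)).1, s.val_lmul χ hs, ht, inv_mul_cancel]⟩
  set R' := im R (fun x => (t : Ω) * x * (t : Ω)⁻¹) with hR'def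
  have hgi : im P g = R' := by rw [hgdef, hf.im_comp, hfi]
  have hR'T : R' ≤ χ.ker.map S.subtype := hgi ▸ hgE.im_le
  have hR'S : R' ≤ S := hc.im_le
  have hR'fn : F.IsFullyNormalized R' := by
    refine ⟨hR'S, fun Q hQ => (hR.2 Q (isConj_trans (isConj_iff.2 ⟨_, hc, rfl⟩) hQ)).trans ?_⟩
    have hN : Map F (normalizerIn S R) (fun x => (t : Ω) * x * (t : Ω)⁻¹) := map_conjBy inf_le_left t.2
    exact hN.card_le fun x hx => hN.mem_normalizer (le_normalizerIn hR.1) hx hx.2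
  obtain ⟨hfc, hfa⟩ := fc_fa_of_fn hS hF hR'fn
  refine ⟨R', isConj_iff.2 ⟨g, hgE, hgi⟩, ?_, ?_⟩
  · -- fully automised
    haveI := mulAut_finite_of_le hR'S
    refine fa_iff.2 ⟨hR'T, ?_⟩
    have hle : (s.kerSys hχ hs).autGroup R' ≤ F.autGroup R' := fun α hα =>
      mem_autGroup_of_map (map_kerSys.1 (map_of_mem_autGroup hR'T hα)).1
    have hN : F.autGroup R' ≤ Subgroup.normalizer
        (((s.kerSys hχ hs).autGroup R' : Subgroup (MulAut R')) : Set (MulAut R')) := by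
      have key : ∀ γ ∈ F.autGroup R', ∀ α ∈ (s.kerSys hχ hs).autGroup R',
          γ * α * γ⁻¹ ∈ (s.kerSys hχ hs).autGroup R' := by
        intro γ hγ α hα
        obtain ⟨hαF, -, d, hd, hdv⟩ := map_kerSys.1 (map_of_mem_autGroup hR'T hα)
        obtain ⟨c, hc'⟩ := b.exists_intw (map_of_mem_autGroup hR'S hγ)
        have hγi := map_of_mem_autGroup hR'S ((F.autGroup R').inv_mem hγ)
        have hci : b.Intw R' (av γ⁻¹) c⁻¹ := by
          have := CharBiset.intw_inv (g := av γ⁻¹) (map_of_mem_autGroup hR'S hγ) hc' fun x hx => av_inv_av γ hx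
          rwa [im_av] at this
        refine mem_autGroup_of_map (map_kerSys.2 ⟨map_of_mem_autGroup hR'S
          ((F.autGroup R').mul_mem ((F.autGroup R').mul_mem hγ (hle hα)) ((F.autGroup R').inv_mem hγ)),
          hR'T, c * (d * c⁻¹), ?_, ?_⟩)
        · refine CharBiset.intw_congr (CharBiset.intw_mul (hγi.comp hαF fun x hx => av_mem _ hx)
            (CharBiset.intw_mul hγi hci hd fun x hx => av_mem _ hx) hc'
            fun x hx => av_mem _ (av_mem _ hx)) fun x hx => ?_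
          show av γ (av α (av γ⁻¹ x)) = _
          rw [av_mul _ _ hx, av_mul _ _ (av_mem _ hx)]
        · rw [s.val_mul χ (hci.1.mul hd.1) hc'.1, s.val_mul χ hci.1 hd.1, s.val_inv χ hc'.1, hdv, one_mul,
            mul_inv_cancel]
      intro γ hγ
      refine Subgroup.mem_normalizer_iff.2 fun α => ⟨key γ hγ α, fun h => ?_⟩
      have := key γ⁻¹ ((F.autGroup R').inv_mem hγ) _ h
      simpa [mul_assoc] using this
    have heq : autInducedBy S R' ⊓ (s.kerSys hχ hs).autGroup R' =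
        autInducedBy (χ.ker.map S.subtype) R' := by
      refine le_antisymm (fun α hα => ?_) (le_inf (fun α hα => ?_) (autInducedBy_le_autGroup hR'T))
      · obtain ⟨hαS, hαE⟩ := hα
        obtain ⟨u, hu, huα⟩ := mem_autInducedBy.1 hαS
        obtain ⟨-, -, d, hd, hdv⟩ := map_kerSys.1 (map_of_mem_autGroup hR'T hαE)
        have hαm := map_of_mem_autGroup hR'S (hle hαE)
        have hdi : b.Intw R' (av α⁻¹) d⁻¹ := by
          have := CharBiset.intw_inv (g := av α⁻¹) hαm hd fun x hx => av_inv_av α hx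
          rwa [im_av] at this
        have hdl : b.Intw R' id (b.lmul ⟨u, hu⟩ * d⁻¹) := by
          refine CharBiset.intw_congr (CharBiset.intw_mul
            (map_of_mem_autGroup hR'S ((F.autGroup R').inv_mem (hle hαE))) hdi
            (CharBiset.intw_lmul (P := R')) fun x hx => av_mem _ hx) fun x hx => ?_
          show u * av α⁻¹ x * u⁻¹ = x
          rw [← huα _ (av_mem _ hx), av_av_inv α hx]
        have hv := s.val_fix χ hS hF hχ hA hs hR'S (hker hR'T) hfc hdl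
        rw [s.val_mul χ hdi.1 (CharBiset.intw_lmul (P := R')).1, s.val_lmul χ hs, s.val_inv χ hd.1, hdv,
          inv_one, mul_one] at hv
        obtain ⟨w, hw, hwv⟩ := hv
        have hwC : (w : Ω) ∈ centralizerIn S R' := hw
        refine mem_autInducedBy.2 ⟨((⟨u, hu⟩ * (w ^ k)⁻¹ : S) : Ω), mem_kerBase.2 ⟨SetLike.coe_mem _, ?_⟩,
          fun x hx => ?_⟩
        · rw [map_mul, map_inv, mul_inv_eq_one, map_pow]
          rw [hwv, ← pow_mul, mul_comm, pow_mul, hk]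
        · rw [huα x hx]
          have h1 : ((w ^ k : S) : Ω) ∈ centralizerIn S R' := by
            rw [SubmonoidClass.coe_pow]; exact Subgroup.pow_mem _ hwC k
          have h2 := (mem_centralizerIn.1 h1).2 x hx
          rw [Subgroup.coe_mul, Subgroup.coe_inv]
          show u * x * u⁻¹ = u * ((w ^ k : S) : Ω)⁻¹ * x * (u * ((w ^ k : S) : Ω)⁻¹)⁻¹
          calc u * x * u⁻¹ = u * ((w ^ k : S) : Ω)⁻¹ * (((w ^ k : S) : Ω) * x) * u⁻¹ := by group
            _ = u * ((w ^ k : S) : Ω)⁻¹ * (x * ((w ^ k : S) : Ω)) * u⁻¹ := by rw [h2]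
            _ = _ := by group
      · obtain ⟨u, hu, huα⟩ := mem_autInducedBy.1 hα
        exact mem_autInducedBy.2 ⟨u, kerBase_le hu, huα⟩
    rw [← heq]
    exact (fa_iff.1 hfa).2.inf_normal hle hN
  · -- receptive
    refine receptive_iff.2 ⟨hR'T, fun X h hh hhi => ?_⟩
    obtain ⟨hhF, hXT, d, hd, hdv⟩ := map_kerSys.1 hh
    obtain ⟨ψ, hψ, hψh⟩ := (receptive_iff.1 (receptive_of_fc hS hF hfc)).2 X h hhF hhi
    have hNle : Nf (χ.ker.map S.subtype) X h ≤ Nf S X h := fun y hy =>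
      ⟨kerBase_le hy.1, hy.2.1, hy.2.2.imp fun z hz => ⟨kerBase_le hz.1, hz.2⟩⟩
    obtain ⟨c, hc'⟩ := b.exists_intw (hψ.restrict hNle)
    have hXle : X ≤ Nf (χ.ker.map S.subtype) X h := le_Nf hh
    obtain ⟨h', hh', hh'h, hh'2, -⟩ := hhF.exists_inv
    have hdi := CharBiset.intw_inv hhF hd hh'h
    rw [hhi] at hdi hh' hh'2
    have hid : b.Intw R' id (c * d⁻¹) := by
      refine CharBiset.intw_congr (CharBiset.intw_mul hh' hdi (CharBiset.intw_restrict hc' hXle)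
        fun y hy => (hh'2 y hy).2) fun y hy => ?_
      show ψ (h' y) = y
      rw [hψh _ (hh'2 y hy).2, (hh'2 y hy).1]
    have hv := s.val_fix χ hS hF hχ hA hs hR'S (hker hR'T) hfc hid
    rw [s.val_mul χ hdi.1 hc'.1, s.val_inv χ hd.1, hdv, inv_one, mul_one] at hv
    obtain ⟨w, hw, hwv⟩ := hv
    have hwC : (((w ^ k)⁻¹ : S) : Ω) ∈ centralizerIn S R' := by
      rw [Subgroup.coe_inv, SubmonoidClass.coe_pow]
      exact Subgroup.inv_mem _ (Subgroup.pow_mem _ (show (w : Ω) ∈ centralizerIn S R' from hw) k)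
    set z : S := (w ^ k)⁻¹
    have hm := hψ.restrict hNle
    refine ⟨fun y => (z : Ω) * ψ y * (z : Ω)⁻¹, map_kerSys.2 ⟨?_, fun y hy => hy.1, b.lmul z * c, ?_, ?_⟩,
      fun x hx => ?_⟩
    · exact hm.comp (map_conjBy hm.im_le z.2) fun y hy => mem_im_of_mem hy
    · exact CharBiset.intw_mul hm hc' (CharBiset.intw_lmul (P := im (Nf (χ.ker.map S.subtype) X h) ψ))
        fun y hy => mem_im_of_mem hy
    · rw [s.val_mul χ hc'.1 (CharBiset.intw_lmul (P := R')).1, s.val_lmul χ hs, ← hwv,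
        show χ z = (χ w ^ k)⁻¹ by rw [← map_pow, ← map_inv], inv_pow, hk, inv_mul_cancel]
    · show (z : Ω) * ψ x * (z : Ω)⁻¹ = h x
      rw [hψh x hx, ← (mem_centralizerIn.1 hwC).2 (h x) (hhi.le (mem_im_of_mem hx))]
      group

end Cfsg.Agent.Local.FS
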