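import Cfsg.Agent.Lib.Local.FS.Normal
import Cfsg.Agent.Lib.Fusion.PGroupAux

/-!
# Extraspecial subgroups of index `p`: the centre of `S`

If `S = Q * Z(S)` with `Q` extraspecial of index `p`, `p` odd, and the system is saturated, then every
essential subgroup `P` is elementary abelian of index `p`, an involution in `Aut(P)` extends to `S`,
and its fixed points on `Z(S)` form a subgroup normal in the system.
-/

set_option autoImplicit false

namespace Cfsg.Agent.Local.FS.IndexPCenter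

open Cfsg Cfsg.FusionSystem Cfsg.Agent.Fusion

variable {Ω : Type*} [Group Ω] {P : Subgroup Ω}

theorem av_mul_elem (α : MulAut P) {x y : Ω} (hx : x ∈ P) (hy : y ∈ P) :
    av α (x * y) = av α x * av α y := by
  rw [av_apply _ hx, av_apply _ hy, av_apply _ (P.mul_mem hx hy)]
  exact congrArg Subtype.val (map_mul α ⟨x, hx⟩ ⟨y, hy⟩)

theorem av_one_elem (α : MulAut P) : av α 1 = 1 := by
  rw [av_apply _ P.one_mem]
  exact congrArg Subtype.val (map_one α)

theorem av_inv_elem (α : MulAut P) {x : Ω} (hx : x ∈ P) : av α x⁻¹ = (av α x)⁻¹ := by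
  rw [av_apply _ hx, av_apply _ (P.inv_mem hx)]
  exact congrArg Subtype.val (map_inv α ⟨x, hx⟩)

theorem av_zpow_elem (α : MulAut P) {x : Ω} (hx : x ∈ P) (n : ℤ) : av α (x ^ n) = av α x ^ n := by
  rw [av_apply _ hx, av_apply _ (P.zpow_mem hx n)]
  exact congrArg Subtype.val (map_zpow α ⟨x, hx⟩ n)

/-- The automorphisms stabilising the series `1 ≤ A ≤ B ≤ P` form a `p`-group. -/
theorem pow_of_stab {p : ℕ} [Fact p.Prime] [Finite P] (hP : IsPGroup p P) {A B : Subgroup Ω}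
    (hAB : A ≤ B) (hBP : B ≤ P) (K : Subgroup (MulAut P))
    (h : ∀ α ∈ K, (∀ x ∈ A, av α x = x) ∧ (∀ x ∈ B, x⁻¹ * av α x ∈ A) ∧
      ∀ x ∈ P, x⁻¹ * av α x ∈ B) : IsPGroup p K := by
  intro ⟨α, hα⟩
  obtain ⟨hA, hB, hP'⟩ := h α hα
  obtain ⟨k, hk⟩ := exists_pow_eq_one_of_stabilizes hP (α := α)
    (fun i => match i with | 0 => ⊥ | 1 => A | 2 => B | _ => P) 3 rfl le_rfl
    (monotone_nat_of_le_succ fun i => by
      match i with
      | 0 => exact bot_le
      | 1 => exact hAB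
      | 2 => exact hBP
      | _ + 3 => exact le_rfl)
    (fun i hi x hx hxC => by
      match i, hi with
      | 0, _ =>
        show x⁻¹ * av α x ∈ (⊥ : Subgroup Ω)
        rw [hA x hxC, inv_mul_cancel]; exact one_mem _
      | 1, _ => exact hB x hxC
      | 2, _ => exact hP' x hx)
  exact ⟨k, Subtype.ext hk⟩

/-- The subgroup of automorphisms stabilising the series `1 ≤ A ≤ B ≤ P`. -/
def stab (P A B : Subgroup Ω) [Finite (MulAut P)] (hAB : A ≤ B) (hBP : B ≤ P) :
    Subgroup (MulAut P) :=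
  Subgroup.closure {α | (∀ x ∈ A, av α x = x) ∧ (∀ x ∈ B, x⁻¹ * av α x ∈ A) ∧
      ∀ x ∈ P, x⁻¹ * av α x ∈ B}

theorem mem_stab [Finite (MulAut P)] {A B : Subgroup Ω} {hAB : A ≤ B} {hBP : B ≤ P} {α : MulAut P}
    (h : α ∈ stab P A B hAB hBP) : (∀ x ∈ A, av α x = x) ∧ (∀ x ∈ B, x⁻¹ * av α x ∈ A) ∧
      ∀ x ∈ P, x⁻¹ * av α x ∈ B := by
  rw [stab, ← Subgroup.mem_toSubmonoid, Subgroup.closure_toSubmonoid_of_finite] at h
  induction h using Submonoid.closure_induction with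
  | mem α h => exact h
  | one =>
    refine ⟨fun x hx => av_one (hBP (hAB hx)), fun x hx => ?_, fun x hx => ?_⟩ <;>
      rw [av_one (by first | exact hx | exact hBP hx), inv_mul_cancel] <;> exact one_mem _
  | mul a b _ _ iha ihb =>
    obtain ⟨a1, a2, a3⟩ := iha
    obtain ⟨b1, b2, b3⟩ := ihb
    refine ⟨fun x hx => by rw [av_mul _ _ (hBP (hAB hx)), b1 x hx, a1 x hx], fun x hx => ?_,
      fun x hx => ?_⟩
    · have hy : av b x ∈ B := by simpa using B.mul_mem hx (hAB (b2 x hx))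
      rw [av_mul _ _ (hBP hx), show x⁻¹ * av a (av b x) =
        x⁻¹ * av b x * ((av b x)⁻¹ * av a (av b x)) by group]
      exact A.mul_mem (b2 x hx) (a2 _ hy)
    · rw [av_mul _ _ hx, show x⁻¹ * av a (av b x) =
        x⁻¹ * av b x * ((av b x)⁻¹ * av a (av b x)) by group]
      exact B.mul_mem (b3 x hx) (a3 _ (av_mem b hx))

theorem isPGroup_stab {p : ℕ} [Fact p.Prime] [Finite P] [Finite (MulAut P)] (hP : IsPGroup p P)
    {A B : Subgroup Ω} (hAB : A ≤ B) (hBP : B ≤ P) : IsPGroup p (stab P A B hAB hBP) :=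
  pow_of_stab hP hAB hBP _ fun _ => mem_stab

variable {S : Subgroup Ω} [Finite S] {F : FusionSystem S} {p : ℕ} [Fact p.Prime]

/-- The hypotheses: commutators and `p`-th powers of `S` lie in `⟨z⟩`, and `z` is a commutator. -/
structure Data (S : Subgroup Ω) (p : ℕ) (z : Ω) : Prop where
  odd : Odd p
  order : orderOf z = p
  central : z ∈ centralizerIn S S
  comm : ∀ g ∈ S, ∀ x ∈ S, x⁻¹ * (g * x * g⁻¹) ∈ Subgroup.zpowers z
  pow : ∀ x ∈ S, x ^ p ∈ Subgroup.zpowers z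
  isCommutator : ∃ g ∈ S, ∃ x ∈ S, x⁻¹ * (g * x * g⁻¹) ≠ 1
  notCyclic : ∃ w ∈ centralizerIn S S, w ∉ Subgroup.zpowers z

variable {z : Ω}

theorem zpowers_eq (hD : Data S p z) {c : Ω} (hc : c ∈ Subgroup.zpowers z) (h1 : c ≠ 1) :
    Subgroup.zpowers c = Subgroup.zpowers z := by
  obtain ⟨i, rfl⟩ := hc
  haveI hf : Finite (Subgroup.zpowers z) := by
    apply Nat.finite_of_card_ne_zero
    rw [Nat.card_zpowers, hD.order]
    exact (Fact.out : p.Prime).ne_zero
  refine Subgroup.eq_of_le_of_card_ge (Subgroup.zpowers_le.2 ⟨i, rfl⟩) ?_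
  rw [Nat.card_zpowers, Nat.card_zpowers, hD.order]
  have hp : (z ^ i) ^ p = 1 := by
    rw [← zpow_natCast, ← zpow_mul, mul_comm, zpow_mul, zpow_natCast, ← hD.order,
      pow_orderOf_eq_one, one_zpow]
  exact (orderOf_eq_prime hp h1).ge

theorem pow_p_eq_one (hD : Data S p z) {c : Ω} (hc : c ∈ Subgroup.zpowers z) : c ^ p = 1 := by
  obtain ⟨i, rfl⟩ := hc
  rw [← zpow_natCast, ← zpow_mul, mul_comm, zpow_mul, zpow_natCast, ← hD.order, pow_orderOf_eq_one,
    one_zpow]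

theorem eq_one_of_sq {c : Ω} (hp : Odd p) (h1 : c ^ p = 1) (h2 : c * c = 1) : c = 1 := by
  obtain ⟨m, rfl⟩ := hp
  rwa [pow_succ, pow_mul, pow_two, h2, one_pow, one_mul] at h1

/-- A central element fixed by an automorphism of `S` inverting `z` is fixed by every such. -/
theorem axis_mem (hS : IsPGroup p S) (hF : F.IsSaturated p) (hD : Data S p z)
    {γ₁ γ₂ : MulAut S} (h₁ : γ₁ ∈ F.autGroup S) (h₁z : av γ₁ z = z⁻¹) (h₂ : γ₂ ∈ F.autGroup S)
    (h₂z : av γ₂ z = z⁻¹) {c c₂ : Ω} (hc : c ∈ centralizerIn S S) (hc₁ : av γ₁ c = c)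
    (hc₂ : c₂ ∈ centralizerIn S S) (hfix : av γ₂ c₂ = c₂) {i : ℤ} (hi : c = c₂ * z ^ i) :
    c = c₂ := by
  haveI := mulAut_finite_of_le (le_refl S)
  obtain ⟨-, hsyl⟩ := fa_iff.1 (fc_fa_of_fn hS hF (fn_self (F := F))).2
  have hzS : z ∈ S := hD.central.1
  set δ := γ₂ * γ₁ with hδ
  have hδz : av δ z = z := by
    rw [hδ, av_mul _ _ hzS, h₁z, av_inv_elem _ hzS, h₂z, inv_inv]
  set t := (z ^ i)⁻¹ * (z ^ i)⁻¹ with ht
  have htS : t ∈ S := S.mul_mem (S.inv_mem (S.zpow_mem hzS i)) (S.inv_mem (S.zpow_mem hzS i))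
  have hδc : av δ c = c * t := by
    rw [hδ, av_mul _ _ hc.1, hc₁, ht]
    conv_lhs => rw [hi, av_mul_elem _ hc₂.1 (S.zpow_mem hzS i), hfix, av_zpow_elem _ hzS, h₂z,
      inv_zpow]
    rw [hi]; group
  have hδt : av δ t = t := by
    rw [ht, av_mul_elem _ (S.inv_mem (S.zpow_mem hzS i)) (S.inv_mem (S.zpow_mem hzS i)),
      av_inv_elem _ (S.zpow_mem hzS i), av_zpow_elem _ hzS, hδz]
  have hn : ∀ n : ℕ, av (δ ^ n) c = c * t ^ n := by
    intro n
    induction n with
    | zero => rw [pow_zero, av_one hc.1, pow_zero, mul_one]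
    | succ n ih =>
      rw [pow_succ', av_mul _ _ hc.1, ih, av_mul_elem _ hc.1 (S.pow_mem htS n), hδc,
        ← zpow_natCast, av_zpow_elem _ htS, hδt, zpow_natCast, mul_assoc, ← pow_succ']
  obtain ⟨a, m, hm, hord⟩ := Nat.exists_eq_pow_mul_and_not_dvd (orderOf_pos δ).ne' p
    (Fact.out : p.Prime).ne_one
  have hH : IsPGroup p (Subgroup.zpowers (δ ^ m)) := by
    rintro ⟨x, hx⟩
    obtain ⟨j, rfl⟩ := hx
    refine ⟨a, Subtype.ext ?_⟩
    show ((δ ^ m) ^ j) ^ p ^ a = 1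
    rw [← zpow_natCast ((δ ^ m) ^ j), ← zpow_mul, mul_comm, zpow_mul, zpow_natCast, ← pow_mul,
      mul_comm m, ← hord, pow_orderOf_eq_one, one_zpow]
  obtain ⟨b, hb, hle⟩ := hsyl.conj_le hH
    (Subgroup.zpowers_le.2 (pow_mem (mul_mem h₂ h₁) m))
  have h0 : b * δ ^ m * b⁻¹ ∈ autInducedBy S S := hle (Fusion.mem_cj.2 (by
    rw [show b⁻¹ * (b * δ ^ m * b⁻¹) * b = δ ^ m by group]
    exact Subgroup.mem_zpowers _))
  obtain ⟨g, hg, hg'⟩ := mem_autInducedBy.1 h0
  have hfixm : av (δ ^ m) c = c := by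
    have hbc : av b c ∈ centralizerIn S S := mem_centralizerIn.2 ⟨av_mem b hc.1, fun y hy => by
      have h := (mem_centralizerIn.1 hc).2 _ (av_mem b⁻¹ hy)
      have h' := congrArg (av b) h
      rwa [av_mul_elem b (av_mem _ hy) hc.1, av_mul_elem b hc.1 (av_mem _ hy), av_av_inv b hy]
        at h'⟩
    have h1 := hg' _ (av_mem b hc.1)
    rw [(mem_centralizerIn.1 hbc).2 g hg, mul_inv_cancel_right, av_mul _ _ (av_mem b hc.1),
      av_inv_av b hc.1, av_mul _ _ hc.1] at h1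
    have := congrArg (av b⁻¹) h1
    rwa [av_inv_av b (av_mem _ hc.1), av_inv_av b hc.1] at this
  rw [hn m, mul_eq_left] at hfixm
  have htT : t ∈ Subgroup.zpowers z :=
    mul_mem (inv_mem ⟨i, rfl⟩) (inv_mem ⟨i, rfl⟩)
  have ht1 : t = 1 := by
    rw [← orderOf_eq_one_iff]
    have d1 := orderOf_dvd_of_pow_eq_one hfixm
    rcases (Nat.dvd_prime (Fact.out : p.Prime)).1
      (orderOf_dvd_of_pow_eq_one (pow_p_eq_one hD htT)) with h | h
    · exact h
    · exact absurd (h ▸ d1) hm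
  have hzi : (z ^ i)⁻¹ = 1 :=
    eq_one_of_sq hD.odd (pow_p_eq_one hD (inv_mem ⟨i, rfl⟩)) ht1
  rw [hi, inv_eq_one.1 hzi, mul_one]

/-- What an essential subgroup provides. -/
structure EssData (F : FusionSystem S) (z : Ω) (P C : Subgroup Ω) : Prop where
  le : C ≤ P
  le_center : C ≤ centralizerIn S S
  invariant : ∀ α ∈ F.autGroup P, ∀ c ∈ C, av α c ∈ C
  ext : ∃ γ ∈ F.autGroup S, av γ z = z⁻¹ ∧ (∀ c ∈ C, av γ c = c) ∧
    ∀ y ∈ centralizerIn S S, ∃ c ∈ C, ∃ i : ℤ, y = c * z ^ i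

theorem av_z_mem (hD : Data S p z) {α : MulAut P} {c : Ω} (hcP : c ∈ P)
    (hc : c ∈ Subgroup.zpowers z) (h1 : c ≠ 1) (h : av α c ∈ Subgroup.zpowers z) :
    av α z ∈ Subgroup.zpowers z := by
  have hz := (zpowers_eq hD hc h1).ge (Subgroup.mem_zpowers z)
  obtain ⟨i, hi⟩ := hz
  have e : av α z = av α c ^ i := by
    rw [← av_zpow_elem α hcP]
    exact congrArg (av α) hi.symm
  rw [e]
  exact Subgroup.zpow_mem _ h i

theorem essential_facts (hS : IsPGroup p S) (hF : F.IsSaturated p) (hD : Data S p z)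
    (hE : F.IsEssential p P) :
    P < S ∧ centralizerIn S S ≤ P ∧ centralizerIn S P ≤ P ∧ S ≤ Subgroup.normalizer (P : Set Ω) ∧
      (∃ α ∈ F.autGroup P, av α z ∉ Subgroup.zpowers z) ∧
      (∀ x ∈ P, ∀ y ∈ P, x * y = y * x) ∧ ∀ x ∈ P, x ^ p = 1 := by
  have hlt := lt_of_essential hS hF hE
  have hPS : P ≤ S := hlt.le
  have hrad := radical_of_essential hS hF hE
  have hCP : centralizerIn S P ≤ P := hE.1.2 P (isConj_refl hPS)
  have hZP : centralizerIn S S ≤ P := fun y hy => hCP <| mem_centralizerIn.2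
    ⟨hy.1, fun x hx => (mem_centralizerIn.1 hy).2 x (hPS hx)⟩
  have hzP : z ∈ P := hZP hD.central
  have hTP : Subgroup.zpowers z ≤ P := Subgroup.zpowers_le.2 hzP
  have hconjP : ∀ g ∈ S, ∀ x ∈ P, g * x * g⁻¹ ∈ P := fun g hg x hx => by
    simpa using P.mul_mem hx (hTP (hD.comm g hg x (hPS hx)))
  have hnor : S ≤ Subgroup.normalizer (P : Set Ω) := fun g hg =>
    mem_normalizer_of_conj_mem hPS (hconjP g hg)
  haveI := finite_of_le hPS
  haveI := mulAut_finite_of_le hPS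
  have hmove : ∃ α ∈ F.autGroup P, av α z ∉ Subgroup.zpowers z := by
    by_contra hcon
    push Not at hcon
    have hT : ∀ α ∈ F.autGroup P, ∀ c ∈ Subgroup.zpowers z, av α c ∈ Subgroup.zpowers z := by
      rintro α hα _ ⟨i, rfl⟩
      simp only [av_zpow_elem α hzP]
      exact Subgroup.zpow_mem _ (hcon α hα) i
    set K := (stab P (Subgroup.zpowers z) (Subgroup.zpowers z) le_rfl hTP).subgroupOf (F.autGroup P)
    have hKn : K.Normal := by
      refine ⟨fun β hβ α => ?_⟩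
      obtain ⟨h1, h2, h3⟩ := mem_stab (Subgroup.mem_subgroupOf.1 hβ)
      refine Subgroup.mem_subgroupOf.2 (Subgroup.subset_closure ?_)
      have hα : ∀ x ∈ P, av ((α : MulAut P) * (β : MulAut P) * (α : MulAut P)⁻¹) x =
          av (α : MulAut P) (av (β : MulAut P) (av (α : MulAut P)⁻¹ x)) := fun x hx => by
        rw [av_mul _ _ hx, av_mul _ _ (av_mem _ hx)]
      have hfix : ∀ x ∈ Subgroup.zpowers z, av ((α : MulAut P) * (β : MulAut P) * (α : MulAut P)⁻¹) x = x :=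
        fun x hx => by
          rw [hα x (hTP hx), h1 _ (hT _ ((F.autGroup P).inv_mem α.2) x hx), av_av_inv _ (hTP hx)]
      refine ⟨hfix, fun x hx => ?_, fun x hx => ?_⟩
      · show x⁻¹ * av ((α : MulAut P) * (β : MulAut P) * (α : MulAut P)⁻¹) x ∈ _
        rw [hfix x hx, inv_mul_cancel]; exact one_mem _
      · show x⁻¹ * av ((α : MulAut P) * (β : MulAut P) * (α : MulAut P)⁻¹) x ∈ _
        have hy := av_mem (α : MulAut P)⁻¹ hx
        have h4 := hT _ α.2 _ (h3 _ hy)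
        rw [av_mul_elem _ (P.inv_mem hy) (av_mem _ hy), av_inv_elem _ hy, av_av_inv _ hx] at h4
        rwa [hα x hx]
    have hKp : IsPGroup p K := (isPGroup_stab (hS.to_le hPS) _ _).comap_subtype
    refine hlt.not_ge fun g hg => ?_
    obtain ⟨β, hβ, hβS⟩ := exists_aut_conj (hnor hg)
    have hβF : β ∈ F.autGroup P := autInducedBy_le_autGroup hPS (hβS S hg)
    have hβK : (⟨β, hβF⟩ : F.autGroup P) ∈ K := by
      refine Subgroup.mem_subgroupOf.2 (Subgroup.subset_closure ?_)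
      have hfix : ∀ x ∈ Subgroup.zpowers z, av β x = x := by
        intro x hx
        rw [hβ x (hTP hx)]
        have hxc : x ∈ centralizerIn S S := Subgroup.zpowers_le.2 hD.central hx
        rw [(mem_centralizerIn.1 hxc).2 g hg, mul_inv_cancel_right]
      refine ⟨hfix, fun x hx => ?_, fun x hx => ?_⟩
      · show x⁻¹ * av β x ∈ _
        rw [hfix x hx, inv_mul_cancel]; exact one_mem _
      · show x⁻¹ * av β x ∈ _
        rw [hβ x hx]; exact hD.comm g hg x (hPS hx)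
    have hin : β ∈ Inn P := by
      rw [← hrad.2]
      exact ⟨⟨β, hβF⟩, le_pCore hKp hβK, rfl⟩
    obtain ⟨y, hy, hyβ⟩ := mem_Inn.1 hin
    have hc : y⁻¹ * g ∈ centralizerIn S P := by
      refine mem_centralizerIn.2 ⟨S.mul_mem (S.inv_mem (hPS hy)) hg, fun x hx => ?_⟩
      have h1 := (hβ x hx).symm.trans (hyβ x hx)
      calc x * (y⁻¹ * g) = y⁻¹ * (y * x * y⁻¹) * g := by group
        _ = y⁻¹ * (g * x * g⁻¹) * g := by rw [h1]
        _ = _ := by group
    simpa using P.mul_mem hy (hCP hc)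
  refine ⟨hlt, hZP, hCP, hnor, hmove, fun x hx y hy => ?_, fun x hx => ?_⟩
  · obtain ⟨α, hα, hαz⟩ := hmove
    by_contra hne
    set c := y⁻¹ * (x * y * x⁻¹) with hc
    have hcT : c ∈ Subgroup.zpowers z := hD.comm x (hPS hx) y (hPS hy)
    have hc1 : c ≠ 1 := fun e => hne (by
      rw [hc, inv_mul_eq_one, eq_mul_inv_iff_mul_eq] at e
      exact e.symm)
    refine hαz (av_z_mem hD (hTP hcT) hcT hc1 ?_)
    rw [hc, av_mul_elem α (P.inv_mem hy) (P.mul_mem (P.mul_mem hx hy) (P.inv_mem hx)),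
      av_mul_elem α (P.mul_mem hx hy) (P.inv_mem hx), av_mul_elem α hx hy, av_inv_elem α hy,
      av_inv_elem α hx]
    exact hD.comm _ (hPS (av_mem α hx)) _ (hPS (av_mem α hy))
  · obtain ⟨α, hα, hαz⟩ := hmove
    by_contra hne
    refine hαz (av_z_mem hD (P.pow_mem hx p) (hD.pow x (hPS hx)) hne ?_)
    rw [← zpow_natCast, av_zpow_elem α hx, zpow_natCast]
    exact hD.pow _ (hPS (av_mem α hx))

theorem exists_essData (hS : IsPGroup p S) (hF : F.IsSaturated p) (hD : Data S p z)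
    (hE : F.IsEssential p P) : ∃ C, EssData F z P C := by
  obtain ⟨hlt, hZP, hCP, hnor, ⟨α, hα, hαz⟩, hab, hexp⟩ := essential_facts hS hF hD hE
  have hPS : P ≤ S := hlt.le
  have hfn := hE.2.1
  obtain ⟨hfc, hfa⟩ := fc_fa_of_fn hS hF hfn
  haveI := finite_of_le hPS
  haveI := mulAut_finite_of_le hPS
  set Z := centralizerIn S S with hZ
  set U := autInducedBy S P with hU
  have hzP : z ∈ P := hZP hD.central
  have hTP : Subgroup.zpowers z ≤ P := Subgroup.zpowers_le.2 hzP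
  have hsyl : SylIn p U (F.autGroup P) := (fa_iff.1 hfa).2
  have hUF : U ≤ F.autGroup P := hsyl.le
  have huT : ∀ u ∈ U, ∀ x ∈ P, x⁻¹ * av u x ∈ Subgroup.zpowers z := fun u hu x hx => by
    obtain ⟨g, hg, h⟩ := mem_autInducedBy.1 hu
    rw [h x hx]; exact hD.comm g hg x (hPS hx)
  have huZ : ∀ u ∈ U, ∀ x ∈ Z, av u x = x := fun u hu x hx => by
    obtain ⟨g, hg, h⟩ := mem_autInducedBy.1 hu
    rw [h x (hZP hx), (mem_centralizerIn.1 hx).2 g hg, mul_inv_cancel_right]
  have hfixall : ∀ x ∈ P, (∀ u ∈ U, av u x = x) → x ∈ Z := fun x hx h =>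
    mem_centralizerIn.2 ⟨hPS hx, fun g hg => by
      obtain ⟨u, hu, huS⟩ := exists_aut_conj (hnor hg)
      have := h u (huS S hg)
      rw [hu x hx] at this
      exact mul_inv_eq_iff_eq_mul.1 this⟩
  have hT0 : ∀ u ∈ U, ∀ x ∈ P, av u x = x * (x⁻¹ * av u x) := fun u _ x _ => by group
  -- the value at a point is a homomorphism on `U`
  have hval : ∀ y ∈ P, ∀ u ∈ U, ∀ v ∈ U,
      y⁻¹ * av (u * v) y = (y⁻¹ * av u y) * (y⁻¹ * av v y) := by
    intro y hy u hu v hv
    have h1 := huT v hv y hy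
    rw [av_mul _ _ hy, hT0 v hv y hy, av_mul_elem u hy (hTP h1),
      huZ u hu _ (Subgroup.zpowers_le.2 hD.central h1)]
    group
  have hinj : ∀ (y : Ω) (hy : y ∈ P), (∀ u ∈ U, av u y = y → u = 1) →
      Function.Injective (fun u : U => (⟨y⁻¹ * av (u : MulAut P) y, huT u u.2 y hy⟩ :
        Subgroup.zpowers z)) := by
    intro y hy h u v he
    have he' : y⁻¹ * av (u : MulAut P) y = y⁻¹ * av (v : MulAut P) y := congrArg Subtype.val he
    have h1 := hval y hy _ ((U.inv_mem v.2)) _ u.2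
    have h2 := hval y hy _ ((U.inv_mem v.2)) _ v.2
    rw [inv_mul_cancel, av_one hy, inv_mul_cancel, ← he'] at h2
    rw [← h2] at h1
    have h3 : av ((v : MulAut P)⁻¹ * (u : MulAut P)) y = y := (inv_mul_eq_one.1 h1).symm
    exact Subtype.ext (inv_mul_eq_one.1 (h _ (U.mul_mem (U.inv_mem v.2) u.2) h3)).symm
  haveI hfT : Finite (Subgroup.zpowers z) := finite_of_le (hTP.trans hPS)
  have hUT : ∀ y ∈ P, (∀ u ∈ U, av u y = y → u = 1) → Nat.card U ≤ p := fun y hy h =>
    (Nat.card_le_card_of_injective _ (hinj y hy h)).trans_eq (by rw [Nat.card_zpowers, hD.order])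
  -- conjugates
  have hcj : ∀ β : MulAut P, ∀ u ∈ U, ∀ x ∈ P,
      av (β * u * β⁻¹) x = x * av β ((av β⁻¹ x)⁻¹ * av u (av β⁻¹ x)) := by
    intro β u hu x hx
    have hy := av_mem β⁻¹ hx
    rw [av_mul _ _ hx, av_mul _ _ hy, av_mul_elem β (P.inv_mem hy) (av_mem u hy),
      av_inv_elem β hy, av_av_inv β hx, mul_inv_cancel_left]
  have hne : ∀ u ∈ U, u ≠ 1 → ∃ x ∈ P, x⁻¹ * av u x ≠ 1 := fun u _ hu => by
    by_contra h
    push Not at h
    exact hu (aut_ext fun x hx => by rw [← inv_mul_eq_one.1 (h x hx), av_one hx])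
  -- two nontrivial elements with different centres lie in no common `p`-group
  have hkey : ∀ u ∈ U, u ≠ 1 → ∀ α ∈ F.autGroup P, av α z ∉ Subgroup.zpowers z → ∀ v ∈ U,
      v ≠ 1 → ∀ H : Subgroup (MulAut P), IsPGroup p H → H ≤ F.autGroup P → u ∈ H →
      α * v * α⁻¹ ∈ H → False := by
    intro u hu hu1 α hα hαz v hv hv1 H hH hHF huH hvH
    obtain ⟨β₀, -, hle⟩ := hsyl.conj_le hH hHF
    set β := β₀⁻¹ with hβ
    have hcent : ∀ γ ∈ H, ∀ x ∈ P, ∃ c ∈ Subgroup.zpowers z, x⁻¹ * av γ x = av β c := by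
      intro γ hγ x hx
      have h1 : β⁻¹ * γ * β ∈ U := hle (Fusion.mem_cj.2 (by
        rw [hβ, inv_inv, show β₀⁻¹ * (β₀ * γ * β₀⁻¹) * β₀ = γ by group]
        exact hγ))
      have h2 := hcj β _ h1 x hx
      rw [show β * (β⁻¹ * γ * β) * β⁻¹ = γ by group] at h2
      exact ⟨_, huT _ h1 _ (av_mem _ hx), inv_mul_eq_iff_eq_mul.2 h2⟩
    have hβz : ∀ c ∈ Subgroup.zpowers z, c ≠ 1 →
        ∀ c' ∈ Subgroup.zpowers z, av β c' ∈ Subgroup.zpowers (av β c) := by
      intro c hc hc1 c' hc'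
      rw [← zpowers_eq hD hc hc1] at hc'
      obtain ⟨i, rfl⟩ := hc'
      exact ⟨i, (av_zpow_elem β (hTP hc) i).symm⟩
    obtain ⟨x, hx, hx1⟩ := hne u hu hu1
    obtain ⟨c, hc, hce⟩ := hcent u huH x hx
    have hc1 : c ≠ 1 := fun e => hx1 (by rw [hce, e, av_one_elem])
    obtain ⟨y, hy, hy1⟩ := hne v hv hv1
    obtain ⟨d, hd, hde⟩ := hcent _ hvH (av α y) (av_mem α hy)
    rw [hcj α v hv _ (av_mem α hy), inv_mul_cancel_left, av_inv_av α hy] at hde
    set t := y⁻¹ * av v y with ht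
    have htT : t ∈ Subgroup.zpowers z := huT v hv y hy
    have h1 : av α t ∈ Subgroup.zpowers z := by
      rw [hde]
      refine Subgroup.zpowers_le.2 ?_ (hβz c hc hc1 d hd)
      rw [← hce]; exact huT u hu x hx
    exact hαz (av_z_mem hD (hTP htT) htT hy1 h1)
  -- `U` has order `p`
  obtain ⟨g₀, hg₀, hg₀P⟩ := SetLike.exists_of_lt hlt
  obtain ⟨u₀, hu₀, hu₀S⟩ := exists_aut_conj (hnor hg₀)
  have hu₀U : u₀ ∈ U := hu₀S S hg₀
  have hu₀1 : u₀ ≠ 1 := fun e => hg₀P (hCP (mem_centralizerIn.2 ⟨hg₀, fun x hx => by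
    have := hu₀ x hx
    rw [e, av_one hx] at this
    exact eq_mul_inv_iff_mul_eq.1 this⟩))
  have hpows : ∀ {u : MulAut P}, u ∈ U → u ≠ 1 → orderOf u = p := by
    intro u hu hu1
    refine orderOf_eq_prime (aut_ext fun x hx => ?_) hu1
    have h1 := huT u hu x hx
    have hn : ∀ n : ℕ, x⁻¹ * av (u ^ n) x = (x⁻¹ * av u x) ^ n := by
      intro n
      induction n with
      | zero => rw [pow_zero, pow_zero, av_one hx, inv_mul_cancel]
      | succ n ih => rw [pow_succ, hval x hx _ (U.pow_mem hu n) u hu, ih, pow_succ]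
    rw [av_one hx, eq_comm, ← inv_mul_eq_one, hn p, pow_p_eq_one hD h1]
  have hUp : Nat.card U = p := by
    refine le_antisymm ?_ ?_
    · by_contra hgt
      have hex : ∀ y ∈ P, ∃ u ∈ U, u ≠ 1 ∧ av u y = y := fun y hy => by
        by_contra h
        push Not at h
        exact hgt (hUT y hy fun u hu he => by_contra fun h1 => h u hu h1 he)
      obtain ⟨u, hu, hu1, hufix⟩ := hex _ (av_mem α hzP)
      obtain ⟨v, hv, hv1, hvfix⟩ := hex _ (av_mem α⁻¹ hzP)
      set w := α * v * α⁻¹ with hw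
      have hwz : av w z = z := by
        rw [hw, hcj α v hv z hzP, hvfix, inv_mul_cancel, av_one_elem, mul_one]
      have huz : av u z = z := huZ u hu z hD.central
      have hwT : ∀ x ∈ P, x⁻¹ * av w x ∈ Subgroup.zpowers (av α z) := fun x hx => by
        rw [hw, hcj α v hv x hx, inv_mul_cancel_left]
        obtain ⟨i, hi⟩ := huT v hv _ (av_mem α⁻¹ hx)
        change z ^ i = _ at hi
        exact ⟨i, by rw [← hi, av_zpow_elem α hzP]⟩
      have huw : Commute u w := by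
        refine aut_ext fun x hx => ?_
        obtain ⟨i, hi⟩ := huT u hu x hx
        obtain ⟨j, hj⟩ := hwT x hx
        change z ^ i = _ at hi
        change (av α z) ^ j = _ at hj
        have e1 : av u x = x * z ^ i := by rw [hi]; group
        have e2 : av w x = x * av α z ^ j := by rw [hj]; group
        have hαzP := P.zpow_mem (av_mem α hzP) j
        have hziP := P.zpow_mem hzP i
        rw [av_mul u w hx, av_mul w u hx, e1, e2, av_mul_elem u hx hαzP,
          av_mul_elem w hx hziP, e1, e2, av_zpow_elem u (av_mem α hzP), hufix,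
          av_zpow_elem w hzP, hwz, mul_assoc, mul_assoc, hab _ hziP _ hαzP]
      have hwF : w ∈ F.autGroup P :=
        mul_mem (mul_mem hα (hUF hv)) (inv_mem hα)
      refine hkey u hu hu1 α hα hαz v hv hv1 (Subgroup.zpowers u ⊔ Subgroup.zpowers w) ?_
        (sup_le (Subgroup.zpowers_le.2 (hUF hu)) (Subgroup.zpowers_le.2 hwF))
        (Subgroup.mem_sup_left (Subgroup.mem_zpowers u))
        (Subgroup.mem_sup_right (Subgroup.mem_zpowers w))
      have hou : orderOf u = p := hpows hu hu1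
      have how : orderOf w = p := by
        rw [hw, show α * v * α⁻¹ = MulAut.conj α v from rfl, MulEquiv.orderOf_eq, hpows hv hv1]
      have h1 : IsPGroup p (Subgroup.zpowers u) :=
        IsPGroup.of_card (n := 1) (by rw [Nat.card_zpowers, hou, pow_one])
      have h2 : IsPGroup p (Subgroup.zpowers w) :=
        IsPGroup.of_card (n := 1) (by rw [Nat.card_zpowers, how, pow_one])
      refine h1.to_sup_of_normal_right' h2 (Subgroup.zpowers_le.2 ?_)
      refine (Subgroup.mem_normalizer_iff.2 fun x => ?_)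
      constructor
      · rintro ⟨i, rfl⟩
        exact ⟨i, by rw [(huw.zpow_right i).eq, mul_inv_cancel_right]⟩
      · rintro ⟨i, hi⟩
        change w ^ i = _ at hi
        refine ⟨i, ?_⟩
        show w ^ i = x
        calc w ^ i = u⁻¹ * (u * w ^ i) := by group
          _ = u⁻¹ * (w ^ i * u) := by rw [(huw.zpow_right i).eq]
          _ = u⁻¹ * (u * x * u⁻¹ * u) := by rw [hi]
          _ = x := by group
    · calc p = Nat.card (Subgroup.zpowers u₀) := by rw [Nat.card_zpowers, hpows hu₀U hu₀1]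
        _ ≤ Nat.card U := Subgroup.card_le_of_le (Subgroup.zpowers_le.2 hu₀U)
  have hUgen : ∀ u ∈ U, u ≠ 1 → Subgroup.zpowers u = U := fun u hu hu1 =>
    Subgroup.eq_of_le_of_card_ge (Subgroup.zpowers_le.2 hu)
      (by rw [Nat.card_zpowers, hpows hu hu1, hUp])
  have hfix1 : ∀ u ∈ U, u ≠ 1 → ∀ x ∈ P, av u x = x → x ∈ Z := by
    intro u hu hu1 x hx he
    refine hfixall x hx fun v hv => ?_
    rw [← hUgen u hu hu1] at hv
    obtain ⟨n, rfl⟩ := mem_powers_iff_mem_zpowers.2 hv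
    show av (u ^ n) x = x
    induction n with
    | zero => rw [pow_zero, av_one hx]
    | succ n ih => rw [pow_succ, av_mul _ _ hx, he, ih (pow_mem (Subgroup.mem_zpowers u) n)]
  have hsurj : ∀ y ∈ P, y ∉ Z → ∀ c ∈ Subgroup.zpowers z, ∃ u ∈ U, y⁻¹ * av u y = c := by
    intro y hy hyZ c hc
    obtain ⟨u, hu⟩ := ((Nat.bijective_iff_injective_and_card _).2
      ⟨hinj y hy fun u hu he => by_contra fun h1 => hyZ (hfix1 u hu h1 y hy he),
        by rw [hUp, Nat.card_zpowers, hD.order]⟩).2 ⟨c, hc⟩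
    exact ⟨u, u.2, congrArg Subtype.val hu⟩
  have hz1 : z ≠ 1 := fun e => by
    have h := hD.order
    rw [e, orderOf_one] at h
    exact (Fact.out : p.Prime).ne_one h.symm
  have hTZ : Subgroup.zpowers z ≤ Z := Subgroup.zpowers_le.2 hD.central
  -- moving automorphisms move `z` out of the centre
  have hnotZ : ∀ a ∈ F.autGroup P, av a z ∉ Subgroup.zpowers z → av a z ∉ Z := by
    intro a ha haz haZ
    set A := Subgroup.zpowers (av a z) with hA
    set B := Subgroup.zpowers z ⊔ A with hB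
    have hBZ : B ≤ Z := sup_le hTZ (Subgroup.zpowers_le.2 haZ)
    have hAB : A ≤ B := le_sup_right
    have hBP : B ≤ P := hBZ.trans hZP
    have hwA : ∀ v ∈ U, ∀ x ∈ P, x⁻¹ * av (a * v * a⁻¹) x ∈ A := fun v hv x hx => by
      rw [hcj a v hv x hx, inv_mul_cancel_left]
      obtain ⟨i, hi⟩ := huT v hv _ (av_mem a⁻¹ hx)
      change z ^ i = _ at hi
      exact ⟨i, by rw [← hi, av_zpow_elem a hzP]⟩
    refine hkey u₀ hu₀U hu₀1 a ha haz u₀ hu₀U hu₀1 (stab P A B hAB hBP ⊓ F.autGroup P)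
      ((isPGroup_stab (hS.to_le hPS) _ _).to_le inf_le_left) inf_le_right ⟨?_, hUF hu₀U⟩
      ⟨?_, (F.autGroup P).mul_mem ((F.autGroup P).mul_mem ha (hUF hu₀U)) ((F.autGroup P).inv_mem ha)⟩
    · refine Subgroup.subset_closure ⟨fun x hx => huZ _ hu₀U x (hBZ (hAB hx)), fun x hx => ?_,
        fun x hx => le_sup_left (a := Subgroup.zpowers z) (b := A) (huT _ hu₀U x hx)⟩
      show x⁻¹ * av u₀ x ∈ A
      rw [huZ _ hu₀U x (hBZ hx), inv_mul_cancel]; exact one_mem _
    · refine Subgroup.subset_closure ⟨fun x hx => ?_, fun x hx => hwA _ hu₀U x (hBP hx),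
        fun x hx => hAB (hwA _ hu₀U x hx)⟩
      obtain ⟨i, rfl⟩ := hx
      show av (a * u₀ * a⁻¹) (av a z ^ i) = av a z ^ i
      rw [av_zpow_elem _ (av_mem a hzP), av_mul _ _ (av_mem a hzP), av_inv_av _ hzP,
        av_mul _ _ hzP, huZ _ hu₀U z hD.central]
  have hmov : ∀ a ∈ F.autGroup P, av a z ∉ Subgroup.zpowers z →
      av a⁻¹ z ∉ Subgroup.zpowers z := fun a _ haz h => by
    refine haz (av_z_mem hD (hTP h) h (fun e => hz1 ?_) ?_)
    · rw [← av_av_inv a hzP, e, av_one_elem]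
    · rw [av_av_inv a hzP]; exact Subgroup.mem_zpowers z
  -- the axis of a moving automorphism
  have hax : ∀ a ∈ F.autGroup P, av a z ∉ Subgroup.zpowers z →
      ∃ γ ∈ F.autGroup S, av γ z = z⁻¹ ∧
        (∀ c ∈ Z, av a⁻¹ c ∈ Z → av γ c = c) ∧
        ∀ y ∈ Z, ∃ c, (c ∈ Z ∧ av a⁻¹ c ∈ Z) ∧ ∃ i : ℤ, y = c * z ^ i := by
    intro a ha haz
    set z' := av a z with hz'
    have hz'P : z' ∈ P := av_mem a hzP
    obtain ⟨u, hu, hu'⟩ := hsurj z' hz'P (hnotZ a ha haz) z (Subgroup.mem_zpowers z)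
    obtain ⟨v, hv, hv'⟩ := hsurj _ (av_mem a⁻¹ hzP)
      (hnotZ _ (inv_mem ha) (hmov a ha haz)) z⁻¹ (inv_mem (Subgroup.mem_zpowers z))
    have huz' : av u z' = z' * z := inv_mul_eq_iff_eq_mul.1 hu'
    set w := a * v * a⁻¹ with hw
    have hwz : av w z = z * z'⁻¹ := by
      rw [hw, hcj a v hv z hzP, hv', av_inv_elem a hzP]
    have hwz' : av w z' = z' := by
      rw [hw, av_mul _ _ hz'P, hz', av_inv_av _ hzP, av_mul _ _ hzP, huZ v hv z hD.central]
    have huz : av u z = z := huZ u hu z hD.central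
    have hu1 : u ≠ 1 := fun e => hz1 (by rw [← hu', e, av_one hz'P, inv_mul_cancel])
    have hv1 : v ≠ 1 := fun e => hz1 (by
      rw [e, av_one (av_mem a⁻¹ hzP), inv_mul_cancel] at hv'
      exact inv_eq_one.1 hv'.symm)
    have hwfix : ∀ c ∈ Z, av a⁻¹ c ∈ Z → av w c = c := fun c hc hc' => by
      rw [hw, hcj a v hv c (hZP hc), huZ v hv _ hc', inv_mul_cancel, av_one_elem, mul_one]
    have hsplitZ : ∀ y ∈ Z, ∃ c, (c ∈ Z ∧ av a⁻¹ c ∈ Z) ∧ ∃ i : ℤ, y = c * z ^ i := by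
      intro y hy
      obtain ⟨i, hi⟩ := huT v hv _ (av_mem a⁻¹ (hZP hy))
      change z ^ i = _ at hi
      have hwy : av w y = y * z' ^ i := by
        rw [hw, hcj a v hv y (hZP hy), ← hi, av_zpow_elem a hzP]
      set c := y * z ^ i with hc
      have hcZ : c ∈ Z := mul_mem hy (Subgroup.zpow_mem _ hD.central i)
      have hwc : av w c = c := by
        rw [hc, av_mul_elem w (hZP hy) (P.zpow_mem hzP i), hwy, av_zpow_elem w hzP, hwz,
          (show Commute z z'⁻¹ from hab z hzP _ (P.inv_mem hz'P)).mul_zpow, inv_zpow, mul_assoc,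
          hab (z ^ i) (P.zpow_mem hzP i) _ (P.inv_mem (P.zpow_mem hz'P i)), mul_inv_cancel_left]
      refine ⟨c, ⟨hcZ, hfix1 v hv hv1 _ (av_mem a⁻¹ (hZP hcZ)) ?_⟩, -i, by rw [hc, zpow_neg]; group⟩
      have h1 := congrArg (av a⁻¹) hwc
      rwa [hw, av_mul _ _ (hZP hcZ), av_mul _ _ (av_mem _ (hZP hcZ)),
        av_inv_av a (av_mem v (av_mem _ (hZP hcZ)))] at h1
    have hsplit : ∀ x ∈ P, ∃ c, (c ∈ Z ∧ av a⁻¹ c ∈ Z) ∧ ∃ i j : ℤ, x = c * z ^ i * z' ^ j := by
      intro x hx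
      obtain ⟨j, hj⟩ := huT u hu x hx
      change z ^ j = _ at hj
      set y := x * (z' ^ j)⁻¹ with hy
      have hyP : y ∈ P := mul_mem hx (inv_mem (P.zpow_mem hz'P j))
      have huy : av u y = y := by
        rw [hy, av_mul_elem u hx (inv_mem (P.zpow_mem hz'P j)), av_inv_elem u (P.zpow_mem hz'P j),
          av_zpow_elem u hz'P, huz', (show Commute z' z from hab z' hz'P z hzP).mul_zpow,
          show av u x = x * z ^ j by rw [hj]; group]
        group
      obtain ⟨c, hc, i, hi⟩ := hsplitZ y (hfix1 u hu hu1 y hyP huy)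
      exact ⟨c, hc, i, j, by rw [← hi, hy]; group⟩
    set t := u * w * u with ht
    have htz : av t z = z'⁻¹ := by
      rw [ht, av_mul _ _ hzP, huz, av_mul _ _ hzP, hwz, av_mul_elem u hzP (P.inv_mem hz'P), huz,
        av_inv_elem u hz'P, huz', mul_inv_rev, mul_inv_cancel_left]
    have htz' : av t z' = z := by
      rw [ht, av_mul _ _ hz'P, huz', av_mul _ _ (P.mul_mem hz'P hzP), av_mul_elem w hz'P hzP, hwz',
        hwz, hab z hzP _ (P.inv_mem hz'P), mul_inv_cancel_left, huz]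
    set β := t * t with hβ
    have hβz : av β z = z⁻¹ := by
      rw [hβ, av_mul _ _ hzP, htz, av_inv_elem t hz'P, htz']
    have hβz' : av β z' = z'⁻¹ := by rw [hβ, av_mul _ _ hz'P, htz', htz]
    have hβc : ∀ c ∈ Z, av a⁻¹ c ∈ Z → av β c = c := fun c hc hc' => by
      have htc : av t c = c := by
        rw [ht, av_mul _ _ (hZP hc), huZ u hu c hc, av_mul _ _ (hZP hc), hwfix c hc hc',
          huZ u hu c hc]
      rw [hβ, av_mul _ _ (hZP hc), htc, htc]
    have hcomm : β * u * β⁻¹ = u := by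
      rw [mul_inv_eq_iff_eq_mul]
      refine aut_ext fun x hx => ?_
      obtain ⟨c, ⟨hc, hc'⟩, i, j, rfl⟩ := hsplit x hx
      have h1 : ∀ γ : MulAut P, av γ (c * z ^ i * z' ^ j) =
          av γ c * av γ z ^ i * av γ z' ^ j := fun γ => by
        rw [av_mul_elem γ (P.mul_mem (hZP hc) (P.zpow_mem hzP i)) (P.zpow_mem hz'P j),
          av_mul_elem γ (hZP hc) (P.zpow_mem hzP i), av_zpow_elem γ hzP, av_zpow_elem γ hz'P]
      rw [h1, h1, av_mul β u (hZP hc), av_mul β u hzP, av_mul β u hz'P, av_mul u β (hZP hc),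
        av_mul u β hzP, av_mul u β hz'P, huZ u hu c hc, hβc c hc hc', huZ u hu c hc, huz, huz',
        av_mul_elem β hz'P hzP, hβz, hβz', av_inv_elem u hzP, huz, av_inv_elem u hz'P, huz',
        hab z' hz'P z hzP, mul_inv_rev]
    have hβF : β ∈ F.autGroup P := by
      have hwF : w ∈ F.autGroup P := mul_mem (mul_mem ha (hUF hv)) (inv_mem ha)
      have htF : t ∈ F.autGroup P := mul_mem (mul_mem (hUF hu) hwF) (hUF hu)
      exact mul_mem htF htF
    have huI : u ∉ Inn P := fun h => hu1 (by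
      obtain ⟨g, hg, hgu⟩ := mem_Inn.1 h
      exact aut_ext fun x hx => by
        rw [hgu x hx, av_one hx, hab g hg x hx, mul_inv_cancel_right])
    obtain ⟨R, hPR, g, hg, hgβ⟩ := mem_extSet_of_conj (receptive_of_fc hS hF hfc) hβF hu huI
      (by rw [hcomm]; exact hu)
    have hcS : Nat.card S = p * Nat.card P := by
      have h := card_autS_mul (S := S) (P := P)
      rw [show centralizerIn S P = P from le_antisymm hCP fun x hx => mem_centralizerIn.2
          ⟨hPS hx, fun y hy => hab y hy x hx⟩,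
        show normalizerIn S P = S from le_antisymm inf_le_left (le_inf le_rfl hnor)] at h
      rw [← h, ← hU, hUp]
    have hRS : R = S := by
      haveI := finite_of_le hg.le
      refine Subgroup.eq_of_le_of_card_ge hg.le ?_
      obtain ⟨k, hk⟩ := Subgroup.card_dvd_of_le hPR.le
      have h2 := Subgroup.card_dvd_of_le hg.le
      rw [hcS, hk, mul_comm p] at h2
      have h3 : k ∣ p := Nat.dvd_of_mul_dvd_mul_left Nat.card_pos h2
      rcases (Nat.dvd_prime (Fact.out : p.Prime)).1 h3 with h4 | h4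
      · exfalso
        have h5 := card_lt_of_lt hPR hg.le
        rw [hk, h4, mul_one] at h5
        exact lt_irrefl _ h5
      · rw [hcS, hk, h4, mul_comm]
    rw [hRS] at hg
    obtain ⟨γ, hγ, hγg⟩ := exists_aut hg (Subgroup.eq_of_le_of_card_ge hg.im_le hg.card_im.ge)
    exact ⟨γ, hγ, by rw [hγg z hD.central.1, hgβ z hzP, hβz],
      fun c hc hc' => by rw [hγg c hc.1, hgβ c (hZP hc), hβc c hc hc'], hsplitZ⟩
  let C : Subgroup Ω :=
    { carrier := {c | c ∈ Z ∧ av α⁻¹ c ∈ Z}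
      one_mem' := ⟨one_mem _, by rw [av_one_elem]; exact one_mem _⟩
      mul_mem' := fun {x y} hx hy => ⟨mul_mem hx.1 hy.1, by
        rw [av_mul_elem _ (hZP hx.1) (hZP hy.1)]; exact mul_mem hx.2 hy.2⟩
      inv_mem' := fun {x} hx => ⟨inv_mem hx.1, by
        rw [av_inv_elem _ (hZP hx.1)]; exact inv_mem hx.2⟩ }
  obtain ⟨γ, hγ, hγz, hγC, hγs⟩ := hax α hα hαz
  have hall : ∀ δ ∈ F.autGroup P, ∀ c ∈ C, av δ c ∈ Z := by
    intro δ hδ c hc
    by_cases hm : av δ z ∈ Subgroup.zpowers z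
    · set w := δ * u₀ * δ⁻¹ with hw
      have hmemw : w ∈ stab P (Subgroup.zpowers z) (Subgroup.zpowers z) le_rfl hTP := by
        refine Subgroup.subset_closure ⟨?_, ?_, ?_⟩
        · rintro x hx
          rw [hw, hcj δ u₀ hu₀U x (hTP hx)]
          have hxx : av δ⁻¹ x ∈ Subgroup.zpowers z := by
            obtain ⟨i, rfl⟩ := hx
            simp only [av_zpow_elem δ⁻¹ hzP]
            refine Subgroup.zpow_mem _ (by_contra fun h => ?_) i
            have h2 := hmov _ (inv_mem hδ) h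
            rw [inv_inv] at h2
            exact h2 hm
          rw [huZ u₀ hu₀U _ (hTZ hxx), inv_mul_cancel, av_one_elem, mul_one]
        all_goals
          intro x hx
          rw [hw, hcj δ u₀ hu₀U x (by first | exact hx | exact hTP hx), inv_mul_cancel_left]
          obtain ⟨i, hi⟩ := huT u₀ hu₀U _ (av_mem δ⁻¹ (show x ∈ P by
            first | exact hx | exact hTP hx))
          change z ^ i = _ at hi
          rw [← hi, av_zpow_elem δ hzP]
          exact Subgroup.zpow_mem _ hm i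
      set H := stab P (Subgroup.zpowers z) (Subgroup.zpowers z) le_rfl hTP ⊓ F.autGroup P with hH
      have hUH : U ≤ H := fun v hv => by
        refine ⟨Subgroup.subset_closure ⟨fun x hx => huZ v hv x (hTZ hx), fun x hx => ?_,
          fun x hx => huT v hv x hx⟩, hUF hv⟩
        show x⁻¹ * av v x ∈ _
        rw [huZ v hv x (hTZ hx), inv_mul_cancel]; exact one_mem _
      have hUeq : U = H := by
        refine Subgroup.eq_of_le_of_card_ge hUH ?_
        obtain ⟨x, -, hx⟩ := hsyl.conj_le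
          ((isPGroup_stab (hS.to_le hPS) _ _).to_le (inf_le_left : H ≤ _)) inf_le_right
        rw [← Fusion.card_cj H x]
        exact Subgroup.card_le_of_le hx
      have hwU : w ∈ U := hUeq ▸ ⟨hmemw, (F.autGroup P).mul_mem ((F.autGroup P).mul_mem hδ (hUF hu₀U)) ((F.autGroup P).inv_mem hδ)⟩
      have hw1 : w ≠ 1 := fun e => hu₀1 (by rw [hw, conj_eq_one_iff] at e; exact e)
      refine hfix1 w hwU hw1 _ (av_mem δ (hZP hc.1)) ?_
      rw [hw, av_mul _ _ (av_mem δ (hZP hc.1)), av_inv_av _ (hZP hc.1), av_mul _ _ (hZP hc.1),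
        huZ u₀ hu₀U c hc.1]
    · have hm' := hmov δ hδ hm
      obtain ⟨γ', hγ', hγ'z, hγ'C, hγ's⟩ := hax δ⁻¹ (inv_mem hδ) hm'
      obtain ⟨c', hc', i, hi⟩ := hγ's c hc.1
      have hi1 := axis_mem hS hF hD hγ hγz hγ' hγ'z hc.1 (hγC c hc.1 hc.2)
        hc'.1 (hγ'C c' hc'.1 hc'.2) hi
      have := hc'.2
      rwa [inv_inv, ← hi1] at this
  refine ⟨C, fun c hc => hZP hc.1, fun c hc => hc.1, fun δ hδ c hc => ⟨hall δ hδ c hc, ?_⟩,
    γ, hγ, hγz, fun c hc => hγC c hc.1 hc.2, hγs⟩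
  rw [← av_mul _ _ (hZP hc.1)]
  exact hall _ (mul_mem (inv_mem hα) hδ) c hc

/-- The centre of `S` lies in `⟨z⟩` as soon as the core is trivial. -/
theorem core_ne_bot (hS : IsPGroup p S) (hF : F.IsSaturated p) (hD : Data S p z) :
    F.core ≠ ⊥ := by
  intro hbot
  have hnormal : ∀ C : Subgroup Ω, F.IsNormal C → C = ⊥ := fun C hC =>
    le_bot_iff.1 (hbot ▸ le_sSup hC)
  obtain ⟨w, hw, hwT⟩ := hD.notCyclic
  have hZinv : ∀ δ ∈ F.autGroup S, ∀ x ∈ centralizerIn S S, av δ x ∈ centralizerIn S S :=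
    fun δ _ x hx => mem_centralizerIn.2 ⟨av_mem δ hx.1, fun y hy => by
      have h := (mem_centralizerIn.1 hx).2 _ (av_mem δ⁻¹ hy)
      calc y * av δ x = av δ (av δ⁻¹ y * x) := by
            rw [av_mul_elem δ (av_mem _ hy) hx.1, av_av_inv δ hy]
        _ = av δ (x * av δ⁻¹ y) := by rw [h]
        _ = _ := by rw [av_mul_elem δ hx.1 (av_mem _ hy), av_av_inv δ hy]⟩
  have hTinv : ∀ δ ∈ F.autGroup S, av δ z ∈ Subgroup.zpowers z := by
    intro δ _
    obtain ⟨g, hg, x, hx, hne⟩ := hD.isCommutator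
    have hc := hD.comm g hg x hx
    refine av_z_mem hD (S.mul_mem (S.inv_mem hx) (S.mul_mem (S.mul_mem hg hx) (S.inv_mem hg)))
      hc hne ?_
    rw [av_mul_elem δ (S.inv_mem hx) (S.mul_mem (S.mul_mem hg hx) (S.inv_mem hg)),
      av_mul_elem δ (S.mul_mem hg hx) (S.inv_mem hg), av_mul_elem δ hg hx, av_inv_elem δ hx,
      av_inv_elem δ hg]
    exact hD.comm _ (av_mem δ hg) _ (av_mem δ hx)
  by_cases hess : ∃ P, F.IsEssential p P
  · obtain ⟨P, hP⟩ := hess
    obtain ⟨C, hC⟩ := exists_essData hS hF hD hP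
    obtain ⟨γ, hγ, hγz, hγC, hγs⟩ := hC.ext
    have hCn : F.IsNormal C := by
      refine normal_of_gen hS hF (hC.le_center.trans inf_le_left) fun R hR => ?_
      rcases hR with rfl | hR
      · refine ⟨hC.le_center.trans inf_le_left, fun δ hδ c hc => ?_⟩
        have hcS : c ∈ R := (hC.le_center hc).1
        have hcZ := hZinv δ hδ c (hC.le_center hc)
        obtain ⟨c', hc', i, hi⟩ := hγs _ hcZ
        have hzS : z ∈ R := hD.central.1
        have hγ'z : av (δ * γ * δ⁻¹) z = z⁻¹ := by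
          obtain ⟨j, hj⟩ := hTinv _ (inv_mem hδ)
          change z ^ j = _ at hj
          rw [av_mul _ _ hzS, av_mul _ _ (av_mem _ hzS), ← hj, av_zpow_elem γ hzS, hγz, inv_zpow,
            av_inv_elem δ (R.zpow_mem hzS j), hj, av_av_inv δ hzS]
        have hγ'c : av (δ * γ * δ⁻¹) (av δ c) = av δ c := by
          rw [av_mul _ _ (av_mem δ hcS), av_inv_av δ hcS, av_mul _ _ hcS, hγC c hc]
        rw [axis_mem hS hF hD (mul_mem (mul_mem hδ hγ) (inv_mem hδ)) hγ'z hγ hγz hcZ hγ'c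
          (hC.le_center hc') (hγC c' hc') hi]
        exact hc'
      · obtain ⟨C', hC'⟩ := exists_essData hS hF hD hR
        obtain ⟨γ', hγ', hγ'z, hγ'C, hγ's⟩ := hC'.ext
        have heq : C = C' := by
          refine le_antisymm (fun c hc => ?_) fun c hc => ?_
          · obtain ⟨c', hc', i, hi⟩ := hγ's c (hC.le_center hc)
            rw [axis_mem hS hF hD hγ hγz hγ' hγ'z (hC.le_center hc) (hγC c hc)
              (hC'.le_center hc') (hγ'C c' hc') hi]
            exact hc'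
          · obtain ⟨c', hc', i, hi⟩ := hγs c (hC'.le_center hc)
            rw [axis_mem hS hF hD hγ' hγ'z hγ hγz (hC'.le_center hc) (hγ'C c hc)
              (hC.le_center hc') (hγC c' hc') hi]
            exact hc'
        exact ⟨heq ▸ hC'.le, fun δ hδ c hc => heq ▸ hC'.invariant δ hδ c (heq ▸ hc)⟩
    obtain ⟨c, hc, i, hi⟩ := hγs w hw
    rw [hnormal C hCn, Subgroup.mem_bot] at hc
    exact hwT (by rw [hi, hc, one_mul]; exact Subgroup.zpow_mem _ (Subgroup.mem_zpowers z) i)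
  · have hZn : F.IsNormal (centralizerIn S S) := by
      refine normal_of_gen hS hF inf_le_left fun R hR => ?_
      rcases hR with rfl | hR
      · exact ⟨inf_le_left, fun δ hδ x hx => hZinv δ hδ x hx⟩
      · exact absurd ⟨R, hR⟩ hess
    rw [hnormal _ hZn, Subgroup.mem_bot] at hw
    exact hwT (hw ▸ one_mem _)

end Cfsg.Agent.Local.FS.IndexPCenter

namespace Cfsg.Agent.Local.FS.IndexPCenter

open Cfsg Cfsg.FusionSystem
open scoped commutatorElement

variable {Ω : Type*} [Group Ω] {S Q : Subgroup Ω} [Finite S] {F : FusionSystem S} {p : ℕ}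
  [Fact p.Prime]

theorem center_eq (hp : Odd p) (hS : IsPGroup p S) (hQS : Q ≤ S) (hQ : IsExtraspecial p Q)
    (hQi : (Q.subgroupOf S).index = p) (hF : F.IsSaturated p) (hO : F.core = ⊥) :
    S ⊓ Subgroup.centralizer (S : Set Ω) = Q ⊓ Subgroup.centralizer (Q : Set Ω) := by
  have hpr : p.Prime := Fact.out
  obtain ⟨⟨-, -, hcomm⟩, hcard⟩ := hQ
  haveI := finite_of_le hQS
  set T := Q ⊓ Subgroup.centralizer (Q : Set Ω) with hT
  have hTmem : ∀ x (hx : x ∈ Q), x ∈ T ↔ (⟨x, hx⟩ : Q) ∈ Subgroup.center Q := by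
    intro x hx
    rw [hT, Subgroup.mem_inf, Subgroup.mem_centralizer_iff, Subgroup.mem_center_iff]
    exact ⟨fun h y => Subtype.ext (h.2 y y.2),
      fun h => ⟨hx, fun y hy => congrArg Subtype.val (h ⟨y, hy⟩)⟩⟩
  have hTmap : T = (Subgroup.center Q).map Q.subtype := by
    ext x
    constructor
    · intro hx
      exact ⟨⟨x, hx.1⟩, (hTmem x hx.1).1 hx, rfl⟩
    · rintro ⟨y, hy, rfl⟩
      exact (hTmem y y.2).2 hy
  have hTcard : Nat.card T = p := by
    rw [hTmap, Nat.card_congr ((Subgroup.center Q).equivMapOfInjective _ Q.subtype_injective).symm.toEquiv,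
      hcard]
  -- `Q` is normal in `S`
  haveI hQn : (Q.subgroupOf S).Normal := by
    obtain ⟨k, hk⟩ := IsPGroup.iff_card.1 hS
    refine Subgroup.normal_of_index_eq_minFac_card ?_
    have hk0 : k ≠ 0 := fun h => by
      have hd := Subgroup.index_dvd_card (Q.subgroupOf S)
      rw [hQi, hk, h, pow_zero, Nat.dvd_one] at hd
      exact hpr.ne_one hd
    rw [hQi, hk, hpr.pow_minFac hk0]
  have hQc : ∀ s ∈ S, ∀ q ∈ Q, s * q * s⁻¹ ∈ Q := fun s hs q hq =>
    hQn.conj_mem ⟨q, hQS hq⟩ hq ⟨s, hs⟩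
  -- `T` is central in `S`
  have hTS : T ≤ S := inf_le_left.trans hQS
  have hTn : (T.subgroupOf S).Normal := by
    refine ⟨fun x hx g => ?_⟩
    have hxT : (x : Ω) ∈ T := hx
    refine ⟨hQc g g.2 x hxT.1, fun y hy => ?_⟩
    have h := hxT.2 ((g : Ω)⁻¹ * y * g) (by simpa using hQc _ (S.inv_mem g.2) y hy)
    show y * ((g : Ω) * x * (g : Ω)⁻¹) = (g : Ω) * x * (g : Ω)⁻¹ * y
    calc y * ((g : Ω) * x * (g : Ω)⁻¹) = g * ((g : Ω)⁻¹ * y * g * x) * (g : Ω)⁻¹ := by group
      _ = g * ((x : Ω) * ((g : Ω)⁻¹ * y * g)) * (g : Ω)⁻¹ := by rw [h]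
      _ = _ := by group
  have hTZ : T ≤ centralizerIn S S := by
    haveI := hTn
    have hTc : Nat.card (T.subgroupOf S) = p := by
      rw [Nat.card_congr (Subgroup.subgroupOfEquivOfLe hTS).toEquiv, hTcard]
    haveI : Finite (T.subgroupOf S) := inferInstance
    have hle : T.subgroupOf S ≤ Subgroup.center S := by
      have hne : T.subgroupOf S ⊓ Subgroup.center S ≠ ⊥ := by
        intro hbot
        obtain ⟨x, hxT, hx1, hxc⟩ := Cfsg.Agent.Fusion.exists_central_of_normal hS (T.subgroupOf S)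
          (fun h => by rw [h, Subgroup.card_bot] at hTc; exact hpr.ne_one hTc.symm)
        exact hx1 (Subgroup.mem_bot.1 (hbot ▸ ⟨hxT, hxc⟩))
      have hd := Subgroup.card_dvd_of_le (inf_le_left : T.subgroupOf S ⊓ Subgroup.center S ≤ _)
      rw [hTc] at hd
      rcases (Nat.dvd_prime hpr).1 hd with h | h
      · exact absurd (Subgroup.card_eq_one.1 h) hne
      · exact inf_eq_left.1 (Subgroup.eq_of_le_of_card_ge inf_le_left (by rw [hTc, h]))
    intro x hx
    refine mem_centralizerIn.2 ⟨hTS hx, fun y hy => ?_⟩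
    exact congrArg Subtype.val (Subgroup.mem_center_iff.1 (hle (show (⟨x, hTS hx⟩ : S) ∈ _ from hx))
      ⟨y, hy⟩)
  have hqcomm : ∀ a ∈ Q, ∀ b ∈ Q, b⁻¹ * (a * b * a⁻¹) ∈ T := by
    intro a ha b hb
    have h1 : ⁅(⟨b, hb⟩ : Q)⁻¹, (⟨a, ha⟩ : Q)⁆ ∈ Subgroup.center Q := by
      rw [← hcomm]
      exact Subgroup.commutator_mem_commutator (Subgroup.mem_top _) (Subgroup.mem_top _)
    have h2 := (hTmem _ _).2 h1
    simpa [commutatorElement_def, mul_assoc] using h2
  refine le_antisymm ?_ hTZ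
  by_contra hcon
  obtain ⟨w, hw, hwT⟩ := SetLike.not_le_iff_exists.1 hcon
  have hwS : w ∈ S := hw.1
  have hwc : ∀ y ∈ S, y * w = w * y := (mem_centralizerIn.1 hw).2
  have hwQ : w ∉ Q := fun h => hwT ⟨h, fun y hy => hwc y (hQS hy)⟩
  -- every element of `S` is `q * w ^ i`
  have hdec : ∀ s ∈ S, ∃ q ∈ Q, ∃ i : ℤ, s = q * w ^ i := by
    intro s hs
    haveI : Fact p.Prime := ⟨hpr⟩
    have hcardq : Nat.card (S ⧸ Q.subgroupOf S) = p := hQi
    have hgen : Subgroup.zpowers ((⟨w, hwS⟩ : S) : S ⧸ Q.subgroupOf S) = ⊤ :=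
      zpowers_eq_top_of_prime_card hcardq (by
        rw [Ne, QuotientGroup.eq_one_iff]; exact hwQ)
    have hmem : ((⟨s, hs⟩ : S) : S ⧸ Q.subgroupOf S) ∈
        Subgroup.zpowers ((⟨w, hwS⟩ : S) : S ⧸ Q.subgroupOf S) := by rw [hgen]; trivial
    obtain ⟨i, hi⟩ := hmem
    refine ⟨s * (w ^ i)⁻¹, ?_, i, by group⟩
    change ((⟨w, hwS⟩ : S) : S ⧸ Q.subgroupOf S) ^ i = _ at hi
    rw [← QuotientGroup.mk_zpow, QuotientGroup.eq] at hi
    have hi' : (w ^ i)⁻¹ * s ∈ Q := hi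
    have := hQc _ (S.zpow_mem hwS i) _ hi'
    simpa [mul_assoc] using this
  obtain ⟨z, hz⟩ : ∃ z, T = Subgroup.zpowers z := by
    haveI : IsCyclic T := isCyclic_of_prime_card hTcard
    obtain ⟨g, hg⟩ := IsCyclic.exists_generator (α := T)
    refine ⟨g, le_antisymm (fun x hx => ?_) (Subgroup.zpowers_le.2 g.2)⟩
    obtain ⟨i, hi⟩ := hg ⟨x, hx⟩
    exact ⟨i, congrArg Subtype.val hi⟩
  have hzT : z ∈ T := hz.symm ▸ Subgroup.mem_zpowers z
  have hwi : ∀ i : ℤ, ∀ y ∈ S, Commute (w ^ i) y := fun i y hy =>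
    (show Commute w y from (hwc y hy).symm).zpow_left i
  refine core_ne_bot hS hF (z := z) ⟨hp, ?_, hTZ hzT, ?_, ?_, ?_, ⟨w, hw, hz ▸ hwT⟩⟩ hO
  · rw [← Nat.card_zpowers, ← hz, hTcard]
  · intro g hg x hx
    obtain ⟨a, ha, i, rfl⟩ := hdec g hg
    obtain ⟨b, hb, j, rfl⟩ := hdec x hx
    rw [← hz]
    convert hqcomm a ha b hb using 1
    have e1 : w ^ i * (b * w ^ j) = b * w ^ j * w ^ i := (hwi i _ hx).eq
    calc (b * w ^ j)⁻¹ * (a * w ^ i * (b * w ^ j) * (a * w ^ i)⁻¹)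
        = (b * w ^ j)⁻¹ * (a * (w ^ i * (b * w ^ j)) * (w ^ i)⁻¹ * a⁻¹) := by group
      _ = (w ^ j)⁻¹ * b⁻¹ * (a * b * (w ^ j * a⁻¹)) := by rw [e1]; group
      _ = (w ^ j)⁻¹ * (b⁻¹ * (a * b * a⁻¹) * w ^ j) := by
          rw [(hwi j _ (S.inv_mem (hQS ha))).eq]; group
      _ = (w ^ j)⁻¹ * (w ^ j * (b⁻¹ * (a * b * a⁻¹))) := by
          rw [(hwi j _ (hQS (hqcomm a ha b hb).1)).eq]
      _ = _ := inv_mul_cancel_left _ _
  · intro x hx
    obtain ⟨a, ha, i, rfl⟩ := hdec x hx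
    rw [← hz, (hwi i a (hQS ha)).symm.mul_pow]
    refine mul_mem ⟨Q.pow_mem ha p, fun y hy => ?_⟩ ?_
    · have hc := hqcomm y hy a ha
      have hcy : ∀ t ∈ T, Commute a t := fun t ht => ht.2 a ha
      have e : y * a ^ p * y⁻¹ = a ^ p := by
        rw [← conj_pow, show y * a * y⁻¹ = a * (a⁻¹ * (y * a * y⁻¹)) by group,
          (hcy _ hc).mul_pow, show (a⁻¹ * (y * a * y⁻¹)) ^ p = 1 by
            have := pow_card_eq_one' (x := (⟨_, hc⟩ : T))
            rw [hTcard] at this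
            exact congrArg Subtype.val this, mul_one]
      exact mul_inv_eq_iff_eq_mul.1 e
    · refine ⟨?_, fun y hy => ((hwi i y (hQS hy)).pow_left p).symm.eq⟩
      have h1 := Subgroup.pow_index_mem (Q.subgroupOf S) (⟨w ^ i, S.zpow_mem hwS i⟩ : S)
      rw [hQi] at h1
      exact h1
  · by_contra hall
    push Not at hall
    have h1 : commutator Q = ⊥ := by
      rw [commutator_def, Subgroup.commutator_eq_bot_iff_le_centralizer]
      rintro ⟨a, ha⟩ -
      refine Subgroup.mem_centralizer_iff.2 fun b _ => Subtype.ext ?_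
      have h := hall a (hQS ha) b (hQS b.2)
      rw [inv_mul_eq_one, eq_mul_inv_iff_mul_eq] at h
      exact h
    rw [hcomm] at h1
    rw [h1, Subgroup.card_bot] at hcard
    exact hpr.ne_one hcard.symm

end Cfsg.Agent.Local.FS.IndexPCenter
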