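import Cfsg.Agent.Lib.Local.FS.IndexPCenter

/-!
# Extraspecial subgroups of index `p`: an essential subgroup inside `Q` equals `Q`

For an abelian essential `E < Q` two commuting transvections with different centres force the
strongly embedded subgroup to be everything.
-/

set_option autoImplicit false

namespace Cfsg.Agent.Local.FS.IndexPCenter

open Cfsg Cfsg.FusionSystem Cfsg.Agent.Fusion
open scoped commutatorElement

variable {Ω : Type*} [Group Ω] {S Q : Subgroup Ω} [Finite S] {p : ℕ} [Fact p.Prime]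

theorem extraspecial_generator (hS : IsPGroup p S) (hQS : Q ≤ S) (hQ : IsExtraspecial p Q)
    (hQi : (Q.subgroupOf S).index = p) :
    ∃ z, Q ⊓ Subgroup.centralizer (Q : Set Ω) = Subgroup.zpowers z ∧ orderOf z = p ∧
      z ∈ centralizerIn S S ∧ (∀ a ∈ Q, ∀ b ∈ Q, b⁻¹ * (a * b * a⁻¹) ∈ Subgroup.zpowers z) ∧
      ∀ a ∈ Q, a ^ p ∈ Subgroup.zpowers z := by
  have hpr : p.Prime := Fact.out
  obtain ⟨⟨-, -, hcomm⟩, hcard⟩ := hQ
  haveI := finite_of_le hQS
  set T := Q ⊓ Subgroup.centralizer (Q : Set Ω) with hT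
  have hTmem : ∀ x (hx : x ∈ Q), x ∈ T ↔ (⟨x, hx⟩ : Q) ∈ Subgroup.center Q := by
    intro x hx
    rw [hT, Subgroup.mem_inf, Subgroup.mem_centralizer_iff, Subgroup.mem_center_iff]
    exact ⟨fun h y => Subtype.ext (h.2 y y.2),
      fun h => ⟨hx, fun y hy => congrArg Subtype.val (h ⟨y, hy⟩)⟩⟩
  have hTmap : T = (Subgroup.center Q).map Q.subtype := by
    ext x
    constructor
    · intro hx
      exact ⟨⟨x, hx.1⟩, (hTmem x hx.1).1 hx, rfl⟩
    · rintro ⟨y, hy, rfl⟩
      exact (hTmem y y.2).2 hy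
  have hTcard : Nat.card T = p := by
    rw [hTmap, Nat.card_congr ((Subgroup.center Q).equivMapOfInjective _ Q.subtype_injective).symm.toEquiv,
      hcard]
  -- `Q` is normal in `S`
  haveI hQn : (Q.subgroupOf S).Normal := by
    obtain ⟨k, hk⟩ := IsPGroup.iff_card.1 hS
    refine Subgroup.normal_of_index_eq_minFac_card ?_
    have hk0 : k ≠ 0 := fun h => by
      have hd := Subgroup.index_dvd_card (Q.subgroupOf S)
      rw [hQi, hk, h, pow_zero, Nat.dvd_one] at hd
      exact hpr.ne_one hd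
    rw [hQi, hk, hpr.pow_minFac hk0]
  have hQc : ∀ s ∈ S, ∀ q ∈ Q, s * q * s⁻¹ ∈ Q := fun s hs q hq =>
    hQn.conj_mem ⟨q, hQS hq⟩ hq ⟨s, hs⟩
  -- `T` is central in `S`
  have hTS : T ≤ S := inf_le_left.trans hQS
  have hTn : (T.subgroupOf S).Normal := by
    refine ⟨fun x hx g => ?_⟩
    have hxT : (x : Ω) ∈ T := hx
    refine ⟨hQc g g.2 x hxT.1, fun y hy => ?_⟩
    have h := hxT.2 ((g : Ω)⁻¹ * y * g) (by simpa using hQc _ (S.inv_mem g.2) y hy)
    show y * ((g : Ω) * x * (g : Ω)⁻¹) = (g : Ω) * x * (g : Ω)⁻¹ * y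
    calc y * ((g : Ω) * x * (g : Ω)⁻¹) = g * ((g : Ω)⁻¹ * y * g * x) * (g : Ω)⁻¹ := by group
      _ = g * ((x : Ω) * ((g : Ω)⁻¹ * y * g)) * (g : Ω)⁻¹ := by rw [h]
      _ = _ := by group
  have hTZ : T ≤ centralizerIn S S := by
    haveI := hTn
    have hTc : Nat.card (T.subgroupOf S) = p := by
      rw [Nat.card_congr (Subgroup.subgroupOfEquivOfLe hTS).toEquiv, hTcard]
    haveI : Finite (T.subgroupOf S) := inferInstance
    have hle : T.subgroupOf S ≤ Subgroup.center S := by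
      have hne : T.subgroupOf S ⊓ Subgroup.center S ≠ ⊥ := by
        intro hbot
        obtain ⟨x, hxT, hx1, hxc⟩ := Cfsg.Agent.Fusion.exists_central_of_normal hS (T.subgroupOf S)
          (fun h => by rw [h, Subgroup.card_bot] at hTc; exact hpr.ne_one hTc.symm)
        exact hx1 (Subgroup.mem_bot.1 (hbot ▸ ⟨hxT, hxc⟩))
      have hd := Subgroup.card_dvd_of_le (inf_le_left : T.subgroupOf S ⊓ Subgroup.center S ≤ _)
      rw [hTc] at hd
      rcases (Nat.dvd_prime hpr).1 hd with h | h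
      · exact absurd (Subgroup.card_eq_one.1 h) hne
      · exact inf_eq_left.1 (Subgroup.eq_of_le_of_card_ge inf_le_left (by rw [hTc, h]))
    intro x hx
    refine mem_centralizerIn.2 ⟨hTS hx, fun y hy => ?_⟩
    exact congrArg Subtype.val (Subgroup.mem_center_iff.1 (hle (show (⟨x, hTS hx⟩ : S) ∈ _ from hx))
      ⟨y, hy⟩)
  have hqcomm : ∀ a ∈ Q, ∀ b ∈ Q, b⁻¹ * (a * b * a⁻¹) ∈ T := by
    intro a ha b hb
    have h1 : ⁅(⟨b, hb⟩ : Q)⁻¹, (⟨a, ha⟩ : Q)⁆ ∈ Subgroup.center Q := by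
      rw [← hcomm]
      exact Subgroup.commutator_mem_commutator (Subgroup.mem_top _) (Subgroup.mem_top _)
    have h2 := (hTmem _ _).2 h1
    simpa [commutatorElement_def, mul_assoc] using h2
  obtain ⟨z, hz⟩ : ∃ z, T = Subgroup.zpowers z := by
    haveI : IsCyclic T := isCyclic_of_prime_card hTcard
    obtain ⟨g, hg⟩ := IsCyclic.exists_generator (α := T)
    refine ⟨g, le_antisymm (fun x hx => ?_) (Subgroup.zpowers_le.2 g.2)⟩
    obtain ⟨i, hi⟩ := hg ⟨x, hx⟩
    exact ⟨i, congrArg Subtype.val hi⟩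
  have hzT : z ∈ T := hz.symm ▸ Subgroup.mem_zpowers z
  refine ⟨z, hz, ?_, hTZ hzT, fun a ha b hb => hz ▸ hqcomm a ha b hb, fun a ha => hz ▸ ?_⟩
  · rw [← Nat.card_zpowers, ← hz, hTcard]
  refine ⟨Q.pow_mem ha p, fun y hy => ?_⟩
  have hc := hqcomm y hy a ha
  have hcy : ∀ t ∈ T, Commute a t := fun t ht => ht.2 a ha
  have e : y * a ^ p * y⁻¹ = a ^ p := by
    rw [← conj_pow, show y * a * y⁻¹ = a * (a⁻¹ * (y * a * y⁻¹)) by group,
      (hcy _ hc).mul_pow, show (a⁻¹ * (y * a * y⁻¹)) ^ p = 1 by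
        have := pow_card_eq_one' (x := (⟨_, hc⟩ : T))
        rw [hTcard] at this
        exact congrArg Subtype.val this, mul_one]
  exact mul_inv_eq_iff_eq_mul.1 e

theorem zpowers_eq_self {z : Ω} (hz : orderOf z = p) {c : Ω} (hc : c ∈ Subgroup.zpowers z)
    (h1 : c ≠ 1) : z ∈ Subgroup.zpowers c := by
  obtain ⟨i, rfl⟩ := hc
  have hdvd : ¬ (p : ℤ) ∣ i := fun ⟨k, hk⟩ => h1 (by
    show z ^ i = 1
    rw [hk, zpow_mul, zpow_natCast, ← hz, pow_orderOf_eq_one, one_zpow])
  obtain ⟨a, b, hab⟩ := ((Nat.prime_iff_prime_int.1 (Fact.out : p.Prime)).coprime_iff_not_dvd).2 hdvd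
  refine ⟨b, ?_⟩
  show (z ^ i) ^ b = z
  have h := congrArg (fun n : ℤ => z ^ n) hab
  simp only [zpow_add, zpow_one] at h
  rw [mul_comm a, zpow_mul, zpow_natCast, ← hz, pow_orderOf_eq_one, one_zpow, one_mul] at h
  rw [← zpow_mul, mul_comm]
  exact h

theorem essential_eq {F : FusionSystem S} (hS : IsPGroup p S) (hQS : Q ≤ S)
    (hQ : IsExtraspecial p Q) (hQi : (Q.subgroupOf S).index = p) (h6 : p ^ 6 ≤ Nat.card S)
    (hF : F.IsSaturated p) {P : Subgroup Ω} (hPQ : P ≤ Q) (hE : F.IsEssential p P) : P = Q := by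
  obtain ⟨z, hT, hzo, hzS, hcomm, hpow⟩ := extraspecial_generator hS hQS hQ hQi
  by_contra hne
  have hlt := lt_of_essential hS hF hE
  have hPS : P ≤ S := hlt.le
  have hrad := radical_of_essential hS hF hE
  have hfn := hE.2.1
  have hCP : centralizerIn S P ≤ P := hE.1.2 P (isConj_refl hPS)
  haveI := finite_of_le hPS
  haveI := finite_of_le hQS
  haveI := mulAut_finite_of_le hPS
  have hzP : z ∈ P := hCP (mem_centralizerIn.2
    ⟨hzS.1, fun x hx => (mem_centralizerIn.1 hzS).2 x (hPS hx)⟩)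
  have hTP : Subgroup.zpowers z ≤ P := Subgroup.zpowers_le.2 hzP
  have hTQ : Subgroup.zpowers z ≤ Q := hT ▸ inf_le_left
  have hnor : Q ≤ Subgroup.normalizer (P : Set Ω) := fun g hg =>
    mem_normalizer_of_conj_mem hPS fun x hx => by
      simpa using P.mul_mem hx (hTP (hcomm g hg x (hPQ hx)))
  set V := autInducedBy Q P with hV
  have hVS : V ≤ autInducedBy S P := fun u hu => by
    obtain ⟨g, hg, h⟩ := mem_autInducedBy.1 hu
    exact mem_autInducedBy.2 ⟨g, hQS hg, h⟩
  have hVF : V ≤ F.autGroup P := hVS.trans (autInducedBy_le_autGroup hPS)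
  have huT : ∀ u ∈ V, ∀ x ∈ P, x⁻¹ * av u x ∈ Subgroup.zpowers z := fun u hu x hx => by
    obtain ⟨g, hg, h⟩ := mem_autInducedBy.1 hu
    rw [h x hx]; exact hcomm g hg x (hPQ hx)
  have huZ : ∀ u ∈ V, ∀ x ∈ Subgroup.zpowers z, av u x = x := fun u hu x hx => by
    obtain ⟨g, hg, h⟩ := mem_autInducedBy.1 hu
    have hxc : x ∈ centralizerIn S S := Subgroup.zpowers_le.2 hzS hx
    rw [h x (hTP hx), (mem_centralizerIn.1 hxc).2 g (hQS hg), mul_inv_cancel_right]
  have hzmem : ∀ {a : MulAut P} {c : Ω}, c ∈ P → c ∈ Subgroup.zpowers z → c ≠ 1 →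
      av a c ∈ Subgroup.zpowers z → av a z ∈ Subgroup.zpowers z := by
    intro a c hcP hc h1 h
    obtain ⟨i, hi⟩ := zpowers_eq_self hzo hc h1
    have e : av a z = av a c ^ i := by
      rw [← av_zpow_elem a hcP]
      exact congrArg (av a) hi.symm
    rw [e]
    exact Subgroup.zpow_mem _ h i
  -- some automorphism moves `T`
  obtain ⟨a₀, ha₀, ha₀z⟩ : ∃ a ∈ F.autGroup P, av a z ∉ Subgroup.zpowers z := by
    by_contra hcon
    push Not at hcon
    have hTi : ∀ a ∈ F.autGroup P, ∀ c ∈ Subgroup.zpowers z, av a c ∈ Subgroup.zpowers z := by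
      rintro a ha _ ⟨i, rfl⟩
      simp only [av_zpow_elem a hzP]
      exact Subgroup.zpow_mem _ (hcon a ha) i
    set K := (stab P (Subgroup.zpowers z) (Subgroup.zpowers z) le_rfl hTP).subgroupOf (F.autGroup P)
    have hKn : K.Normal := by
      refine ⟨fun b hb a => ?_⟩
      obtain ⟨h1, h2, h3⟩ := mem_stab (Subgroup.mem_subgroupOf.1 hb)
      refine Subgroup.mem_subgroupOf.2 (Subgroup.subset_closure ?_)
      have ha : ∀ x ∈ P, av ((a : MulAut P) * (b : MulAut P) * (a : MulAut P)⁻¹) x =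
          av (a : MulAut P) (av (b : MulAut P) (av (a : MulAut P)⁻¹ x)) := fun x hx => by
        rw [av_mul _ _ hx, av_mul _ _ (av_mem _ hx)]
      have hfix : ∀ x ∈ Subgroup.zpowers z,
          av ((a : MulAut P) * (b : MulAut P) * (a : MulAut P)⁻¹) x = x := fun x hx => by
        rw [ha x (hTP hx), h1 _ (hTi _ ((F.autGroup P).inv_mem a.2) x hx), av_av_inv _ (hTP hx)]
      refine ⟨hfix, fun x hx => ?_, fun x hx => ?_⟩
      · show x⁻¹ * av ((a : MulAut P) * (b : MulAut P) * (a : MulAut P)⁻¹) x ∈ _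
        rw [hfix x hx, inv_mul_cancel]; exact one_mem _
      · show x⁻¹ * av ((a : MulAut P) * (b : MulAut P) * (a : MulAut P)⁻¹) x ∈ _
        have hy := av_mem (a : MulAut P)⁻¹ hx
        have h4 := hTi _ a.2 _ (h3 _ hy)
        rw [av_mul_elem _ (P.inv_mem hy) (av_mem _ hy), av_inv_elem _ hy, av_av_inv _ hx] at h4
        rwa [ha x hx]
    have hKp : IsPGroup p K := (isPGroup_stab (hS.to_le hPS) _ _).comap_subtype
    refine hne (le_antisymm hPQ fun g hg => ?_)
    obtain ⟨b, hb, hbQ⟩ := exists_aut_conj (hnor hg)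
    have hbV : b ∈ V := hbQ Q hg
    have hbK : (⟨b, hVF hbV⟩ : F.autGroup P) ∈ K := by
      refine Subgroup.mem_subgroupOf.2 (Subgroup.subset_closure
        ⟨fun x hx => huZ b hbV x hx, fun x hx => ?_, fun x hx => huT b hbV x hx⟩)
      show x⁻¹ * av b x ∈ _
      rw [huZ b hbV x hx, inv_mul_cancel]; exact one_mem _
    have hin : b ∈ Inn P := by
      rw [← hrad.2]
      exact ⟨⟨b, hVF hbV⟩, le_pCore hKp hbK, rfl⟩
    obtain ⟨y, hy, hyb⟩ := mem_Inn.1 hin
    have hc : y⁻¹ * g ∈ centralizerIn S P := by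
      refine mem_centralizerIn.2 ⟨S.mul_mem (S.inv_mem (hPS hy)) (hQS hg), fun x hx => ?_⟩
      have h1 := (hb x hx).symm.trans (hyb x hx)
      calc x * (y⁻¹ * g) = y⁻¹ * (y * x * y⁻¹) * g := by group
        _ = y⁻¹ * (g * x * g⁻¹) * g := by rw [h1]
        _ = _ := by group
    simpa using P.mul_mem hy (hCP hc)
  have hab : ∀ x ∈ P, ∀ y ∈ P, x * y = y * x := by
    intro x hx y hy
    by_contra hxy
    refine ha₀z (hzmem (P.mul_mem (P.inv_mem hy) (P.mul_mem (P.mul_mem hx hy) (P.inv_mem hx)))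
      (hcomm x (hPQ hx) y (hPQ hy)) (fun e => hxy ?_) ?_)
    · rw [inv_mul_eq_one, eq_mul_inv_iff_mul_eq] at e
      exact e.symm
    · rw [av_mul_elem a₀ (P.inv_mem hy) (P.mul_mem (P.mul_mem hx hy) (P.inv_mem hx)),
        av_mul_elem a₀ (P.mul_mem hx hy) (P.inv_mem hx), av_mul_elem a₀ hx hy,
        av_inv_elem a₀ hy, av_inv_elem a₀ hx]
      exact hcomm _ (hPQ (av_mem a₀ hx)) _ (hPQ (av_mem a₀ hy))
  -- `Aut_Q(P)` has more than `p` elements
  have hVp : p < Nat.card V := by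
    by_contra hle
    push Not at hle
    have hPlt : P < Q := lt_of_le_of_ne hPQ hne
    have h := card_autS_mul (S := Q) (P := P)
    rw [show centralizerIn Q P = P from le_antisymm
        (fun x hx => hCP ⟨hQS hx.1, hx.2⟩) fun x hx => mem_centralizerIn.2
        ⟨hPQ hx, fun y hy => hab y hy x hx⟩,
      show normalizerIn Q P = Q from le_antisymm inf_le_left (le_inf le_rfl hnor), ← hV] at h
    obtain ⟨g, hgQ, hgP⟩ := SetLike.exists_of_lt hPlt
    set R := P ⊔ Subgroup.zpowers g with hR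
    have hRQ : R ≤ Q := sup_le hPQ (Subgroup.zpowers_le.2 hgQ)
    have hPR : P < R := lt_of_le_not_ge le_sup_left fun hle' =>
      hgP (hle' (Subgroup.mem_sup_right (Subgroup.mem_zpowers g)))
    haveI := finite_of_le (hRQ.trans hQS)
    have hRQe : R = Q := by
      refine Subgroup.eq_of_le_of_card_ge hRQ ?_
      obtain ⟨k, hk⟩ := Subgroup.card_dvd_of_le hPR.le
      have h1 := card_lt_of_lt hPR (hRQ.trans hQS)
      obtain ⟨i, hi⟩ := IsPGroup.iff_card.1 (hS.to_le (hRQ.trans hQS))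
      have hkd : k ∣ p ^ i := ⟨Nat.card P, by rw [← hi, hk, mul_comm]⟩
      obtain ⟨j, -, rfl⟩ := (Nat.dvd_prime_pow (Fact.out : p.Prime)).1 hkd
      have hj : j ≠ 0 := fun h => by rw [hk, h, pow_zero, mul_one] at h1; exact lt_irrefl _ h1
      calc Nat.card Q = Nat.card V * Nat.card P := h.symm
        _ ≤ p * Nat.card P := Nat.mul_le_mul_right _ hle
        _ ≤ Nat.card R := by
          rw [hk, mul_comm p]
          exact Nat.mul_le_mul_left _ (Nat.le_self_pow hj p)
    have hgP' : ∀ x ∈ P, x⁻¹ * (g * x * g⁻¹) ∈ Subgroup.zpowers z := fun x hx =>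
      hcomm g hgQ x (hPQ hx)
    let f : P →* Subgroup.zpowers z := MonoidHom.mk' (fun x => ⟨_, hgP' x x.2⟩) (by
      intro x y
      refine Subtype.ext ?_
      show ((x : Ω) * y)⁻¹ * (g * ((x : Ω) * y) * g⁻¹) =
        (x : Ω)⁻¹ * (g * x * g⁻¹) * ((y : Ω)⁻¹ * (g * y * g⁻¹))
      have hc := hab ((x : Ω)⁻¹ * (g * x * g⁻¹)) (hTP (hgP' x x.2)) _ (P.inv_mem y.2)
      calc ((x : Ω) * y)⁻¹ * (g * ((x : Ω) * y) * g⁻¹)
          = ((y : Ω)⁻¹ * ((x : Ω)⁻¹ * (g * x * g⁻¹))) * (g * y * g⁻¹) := by group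
        _ = (((x : Ω)⁻¹ * (g * x * g⁻¹)) * (y : Ω)⁻¹) * (g * y * g⁻¹) := by rw [hc]
        _ = _ := by group)
    have hker : f.ker.map P.subtype ≤ Subgroup.zpowers z := by
      rintro _ ⟨x, hx, rfl⟩
      rw [← hT]
      refine ⟨hPQ x.2, fun y hy => ?_⟩
      have hle' : R ≤ Subgroup.centralizer {(x : Ω)} := by
        refine sup_le (fun y hy => Subgroup.mem_centralizer_singleton_iff.2 (hab y hy x x.2))
          (Subgroup.zpowers_le.2 (Subgroup.mem_centralizer_singleton_iff.2 ?_))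
        have h1 : (x : Ω)⁻¹ * (g * x * g⁻¹) = 1 := congrArg Subtype.val hx
        rw [inv_mul_eq_one, eq_mul_inv_iff_mul_eq] at h1
        exact h1.symm
      exact Subgroup.mem_centralizer_singleton_iff.1 (hle' (hRQe.symm ▸ hy))
    haveI : Finite (Subgroup.zpowers z) := finite_of_le (hTP.trans hPS)
    have hTc : Nat.card (Subgroup.zpowers z) = p := by rw [Nat.card_zpowers, hzo]
    have hPc : Nat.card P ≤ p * p := by
      rw [← f.ker.card_mul_index, Subgroup.index_ker]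
      refine Nat.mul_le_mul ?_ ((Subgroup.card_le_card_group _).trans hTc.le)
      rw [Nat.card_congr (f.ker.equivMapOfInjective _ P.subtype_injective).toEquiv, ← hTc]
      exact Subgroup.card_le_of_le hker
    have hS' : Nat.card S = p * Nat.card Q := by
      rw [← (Q.subgroupOf S).index_mul_card, hQi,
        Nat.card_congr (Subgroup.subgroupOfEquivOfLe hQS).toEquiv]
    have hp2 := (Fact.out : p.Prime).two_le
    have hle4 : Nat.card S ≤ p * (p * (p * p)) := by
      rw [hS', ← h]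
      exact Nat.mul_le_mul_left _ (Nat.mul_le_mul hle hPc)
    have h5 : p * (p * (p * p)) < p ^ 6 := by
      rw [show p * (p * (p * p)) = p ^ 4 by ring]
      exact Nat.pow_lt_pow_right hp2 (by norm_num)
    omega
  -- each element is fixed by a non-trivial member of `Aut_Q(P)`
  have hval : ∀ y ∈ P, ∀ u ∈ V, ∀ v ∈ V,
      y⁻¹ * av (u * v) y = (y⁻¹ * av u y) * (y⁻¹ * av v y) := by
    intro y hy u hu v hv
    have h1 := huT v hv y hy
    rw [av_mul _ _ hy, show av v y = y * (y⁻¹ * av v y) by group, av_mul_elem u hy (hTP h1),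
      huZ u hu _ h1]
    group
  have hex : ∀ y ∈ P, ∃ u ∈ V, u ≠ 1 ∧ av u y = y := by
    intro y hy
    by_contra h
    push Not at h
    haveI : Finite (Subgroup.zpowers z) := finite_of_le (hTP.trans hPS)
    refine hVp.not_ge ((Nat.card_le_card_of_injective (fun u : V =>
      (⟨y⁻¹ * av (u : MulAut P) y, huT u u.2 y hy⟩ : Subgroup.zpowers z)) ?_).trans_eq
        (by rw [Nat.card_zpowers, hzo]))
    intro u v he
    have he' : y⁻¹ * av (u : MulAut P) y = y⁻¹ * av (v : MulAut P) y := congrArg Subtype.val he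
    have h1 := hval y hy _ (V.inv_mem v.2) _ u.2
    have h2 := hval y hy _ (V.inv_mem v.2) _ v.2
    rw [inv_mul_cancel, av_one hy, inv_mul_cancel, ← he'] at h2
    rw [← h2] at h1
    have h3 : av ((v : MulAut P)⁻¹ * (u : MulAut P)) y = y := (inv_mul_eq_one.1 h1).symm
    by_contra hne'
    exact h _ (V.mul_mem (V.inv_mem v.2) u.2)
      (fun e => hne' (Subtype.ext (inv_mul_eq_one.1 e).symm)) h3
  -- the strongly embedded subgroup
  obtain ⟨hn, hst⟩ := essential_data hS hF hE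
  haveI := hn
  obtain ⟨hTs, -, hΓ, -⟩ := out_data hS hF hlt hfn hE.1
  set π := QuotientGroup.mk' ((Inn P).subgroupOf (F.autGroup P)) with hπ
  set T' := ((autInducedBy S P).subgroupOf (F.autGroup P)).map π with hT'
  set H := ((Subgroup.closure (extSet F P)).subgroupOf (F.autGroup P)).map π with hH
  have hπ1 : ∀ a : F.autGroup P, π a = 1 → (a : MulAut P) = 1 := fun a ha => by
    obtain ⟨g, hg, hga⟩ := mem_Inn.1 (Subgroup.mem_subgroupOf.1 ((QuotientGroup.eq_one_iff a).1 ha))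
    exact aut_ext fun x hx => by rw [hga x hx, av_one hx, hab g hg x hx, mul_inv_cancel_right]
  have hmoving : ∀ a : F.autGroup P, av (a : MulAut P) z ∉ Subgroup.zpowers z → π a ∈ H := by
    intro a haz
    obtain ⟨u, hu, hu1, hufix⟩ := hex _ (av_mem (a : MulAut P) hzP)
    obtain ⟨v, hv, hv1, hvfix⟩ := hex _ (av_mem (a : MulAut P)⁻¹ hzP)
    set w := (a : MulAut P) * v * (a : MulAut P)⁻¹ with hw
    have hwz : av w z = z := by
      rw [hw, av_mul _ _ hzP, av_mul _ _ (av_mem _ hzP), hvfix, av_av_inv _ hzP]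
    have hwT : ∀ x ∈ P, x⁻¹ * av w x ∈ Subgroup.zpowers (av (a : MulAut P) z) := fun x hx => by
      have hy := av_mem (a : MulAut P)⁻¹ hx
      obtain ⟨i, hi⟩ := huT v hv _ hy
      change z ^ i = _ at hi
      refine ⟨i, ?_⟩
      show av (a : MulAut P) z ^ i = _
      rw [← av_zpow_elem _ hzP, hi, av_mul_elem _ (P.inv_mem hy) (av_mem v hy), av_inv_elem _ hy,
        av_av_inv _ hx, hw, av_mul _ _ hx, av_mul _ _ hy]
    have huw : Commute u w := by
      refine aut_ext fun x hx => ?_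
      obtain ⟨i, hi⟩ := huT u hu x hx
      obtain ⟨j, hj⟩ := hwT x hx
      change z ^ i = _ at hi
      change (av (a : MulAut P) z) ^ j = _ at hj
      have e1 : av u x = x * z ^ i := by rw [hi]; group
      have e2 : av w x = x * av (a : MulAut P) z ^ j := by rw [hj]; group
      have hαzP := P.zpow_mem (av_mem (a : MulAut P) hzP) j
      have hziP := P.zpow_mem hzP i
      rw [av_mul u w hx, av_mul w u hx, e1, e2, av_mul_elem u hx hαzP,
        av_mul_elem w hx hziP, e1, e2, av_zpow_elem u (av_mem (a : MulAut P) hzP), hufix,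
        av_zpow_elem w hzP, hwz, mul_assoc, mul_assoc, hab _ hziP _ hαzP]
    let u' : F.autGroup P := ⟨u, hVF hu⟩
    let v' : F.autGroup P := ⟨v, hVF hv⟩
    let w' : F.autGroup P := a * v' * a⁻¹
    have huw' : Commute u' w' := Subtype.ext huw.eq
    have huT' : π u' ∈ T' := ⟨u', hVS hu, rfl⟩
    have hvT' : π v' ∈ T' := ⟨v', hVS hv, rfl⟩
    have hwH : π w' ∈ H := by
      refine hΓ (Subgroup.zpowers (π u')) (Subgroup.zpowers_le.2 huT')
        (fun h => hu1 (hπ1 _ (Subgroup.zpowers_eq_bot.1 h))) ?_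
      have hc : Commute (π u') (π w') := huw'.map π
      refine Subgroup.mem_normalizer_iff.2 fun x => ⟨?_, fun hx => ?_⟩
      · rintro ⟨i, rfl⟩
        refine ⟨i, ?_⟩
        show π u' ^ i = π w' * π u' ^ i * (π w')⁻¹
        rw [(hc.zpow_left i).symm.eq, mul_inv_cancel_right]
      · obtain ⟨i, hi⟩ := hx
        change π u' ^ i = _ at hi
        refine ⟨i, ?_⟩
        show π u' ^ i = x
        calc π u' ^ i = (π w')⁻¹ * (π w' * π u' ^ i) := by group
          _ = (π w')⁻¹ * (π u' ^ i * π w') := by rw [(hc.zpow_left i).eq]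
          _ = (π w')⁻¹ * (π w' * x * (π w')⁻¹ * π w') := by rw [hi]
          _ = x := by group
    have hT'ne : T' ≠ ⊥ := fun h => hu1 (hπ1 _ (Subgroup.mem_bot.1 (h ▸ huT')))
    have hT'H : T' ≤ H := Subgroup.le_normalizer.trans (hΓ T' le_rfl hT'ne)
    have hTH : SylIn p T' H := ⟨hT'H, hTs.isPGroup, fun hd => hTs.not_dvd
      (hd.trans (Dvd.intro _ (Subgroup.relIndex_mul_relIndex T' H ⊤ hT'H le_top)))⟩
    have hwp : IsPGroup p (Subgroup.zpowers (π w')) := by
      obtain ⟨k, hk⟩ := hTs.isPGroup ⟨_, hvT'⟩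
      have hk' : π v' ^ p ^ k = 1 := congrArg Subtype.val hk
      rintro ⟨x, hx⟩
      obtain ⟨i, rfl⟩ := hx
      refine ⟨k, Subtype.ext ?_⟩
      show (π w' ^ i) ^ p ^ k = 1
      rw [← zpow_natCast (π w' ^ i), ← zpow_mul, mul_comm, zpow_mul, zpow_natCast,
        show π w' = π a * π v' * (π a)⁻¹ by simp [w'], conj_pow, hk', mul_one, mul_inv_cancel,
        one_zpow]
    obtain ⟨e, he, hle⟩ := hTH.conj_le hwp (Subgroup.zpowers_le.2 hwH)
    have hea : e * π a ∈ H := by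
      refine Cfsg.Agent.Local.mem_of_conj_le hTs hΓ (A := Subgroup.zpowers (π v'))
        (Subgroup.zpowers_le.2 hvT') (fun h => hv1 (hπ1 _ (Subgroup.zpowers_eq_bot.1 h))) ?_
      rw [cj_le_iff, Subgroup.zpowers_le, mem_cj, inv_inv,
        show e * π a * π v' * (e * π a)⁻¹ = e * π w' * e⁻¹ by simp [w']; group]
      exact hle (mem_cj.2 (by
        rw [show e⁻¹ * (e * π w' * e⁻¹) * e = π w' by group]
        exact Subgroup.mem_zpowers _))
    simpa using H.mul_mem (H.inv_mem he) hea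
  refine hst.2.1 (eq_top_iff.2 fun q _ => ?_)
  obtain ⟨b, rfl⟩ := QuotientGroup.mk'_surjective _ q
  by_cases hb : av (b : MulAut P) z ∈ Subgroup.zpowers z
  · let a' : F.autGroup P := ⟨a₀, ha₀⟩
    have h1 := hmoving a' ha₀z
    have h2 : π (a'⁻¹ * b) ∈ H := by
      refine hmoving _ fun h => ?_
      rw [Subgroup.coe_mul, av_mul _ _ hzP] at h
      have hz1 : z ≠ 1 := fun e => (Fact.out : p.Prime).ne_one (by rw [← hzo, e, orderOf_one])
      have hbz1 : av (b : MulAut P) z ≠ 1 := fun e => hz1 (by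
        rw [← av_inv_av (b : MulAut P) hzP, e, av_one_elem])
      have h3 : av ((a' : MulAut P))⁻¹ z ∈ Subgroup.zpowers z := hzmem (hTP hb) hb hbz1 h
      refine ha₀z (hzmem (hTP h3) h3 (fun e => hz1 ?_) ?_)
      · rw [← av_av_inv a₀ hzP, show av a₀⁻¹ z = 1 from e, av_one_elem]
      · rw [av_av_inv a₀ hzP]; exact Subgroup.mem_zpowers z
    have := H.mul_mem h1 h2
    rwa [← map_mul, mul_inv_cancel_left] at this
  · exact hmoving b hb

end Cfsg.Agent.Local.FS.IndexPCenter
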