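import Cfsg.Agent.Lib.Local.FS.Sparse

/-!
The inner property from a centralizer and a normalizer of two functor values, under section-freeness.
-/

set_option autoImplicit false

namespace Cfsg.Agent.Local.FS

open Cfsg Cfsg.FusionSystem Cfsg.Agent.Fusion

universe u

/-- Every automorphism of an overgroup of `U` fixing `U` pointwise is a `p`-element. -/
def CAt {Ω : Type*} [Group Ω] {S : Subgroup Ω} (F : FusionSystem S) (p : ℕ) (U : Subgroup Ω) : Prop :=
  ∀ A : Subgroup Ω, U ≤ A → A ≤ S → ∀ α ∈ F.autGroup A, (∀ x ∈ U, av α x = x) → ∃ k, α ^ p ^ k = 1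

theorem cAt_of_pAt {Ω : Type*} [Group Ω] {S : Subgroup Ω} {F : FusionSystem S} {p : ℕ} {U : Subgroup Ω}
    (hSU : S ≤ Subgroup.normalizer (U : Set Ω)) (h : PAt F p U) : CAt F p U :=
  fun A hUA hA α hα hx => h A hUA (le_inf hA (hA.trans hSU)) α hα ((im_congr hx).trans im_id)

theorem normalizer_le_normalizer_centralizer {G : Type*} [Group G] (H : Subgroup G) :
    Subgroup.normalizer (H : Set G) ≤ Subgroup.normalizer (Subgroup.centralizer (H : Set G) : Set G) := by
  have key : ∀ n ∈ Subgroup.normalizer (H : Set G), ∀ c ∈ Subgroup.centralizer (H : Set G),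
      n * c * n⁻¹ ∈ Subgroup.centralizer (H : Set G) := fun n hn c hc => Subgroup.mem_centralizer_iff.2 fun h hh => by
    have h1 : n⁻¹ * h * n ∈ H := by simpa using conj_mem_of_normalizer (inv_mem hn) hh
    calc h * (n * c * n⁻¹) = n * ((n⁻¹ * h * n) * c) * n⁻¹ := by group
      _ = n * (c * (n⁻¹ * h * n)) * n⁻¹ := by rw [Subgroup.mem_centralizer_iff.1 hc _ h1]
      _ = n * c * n⁻¹ * h := by group
  intro n hn
  refine Subgroup.mem_normalizer_iff.2 fun c => ⟨key n hn c, fun hc => ?_⟩
  have h1 := key n⁻¹ (inv_mem hn) _ hc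
  rwa [show n⁻¹ * (n * c * n⁻¹) * n⁻¹⁻¹ = c by group] at h1

variable {Ω : Type u} [Group Ω] {S : Subgroup Ω} [Finite S] {F : FusionSystem S} {p : ℕ} [Fact p.Prime]
variable {W₁ W₂ : ∀ (Q : Type u) [Group Q], Subgroup Q} {X : Type} [Group X]

/-- The model step for a pair of functors. -/
theorem isInner_of_pair_centric (hS : IsPGroup p S) (hF : F.IsSaturated p)
    (h21 : ∀ (Q R : Type u) [Group Q] [Group R] [Finite Q], IsPGroup p Q → ∀ φ : Q ≃* R,
      (W₁ Q).map φ.toMonoidHom = W₁ R)
    (h22 : ∀ (Q R : Type u) [Group Q] [Group R] [Finite Q], IsPGroup p Q → ∀ φ : Q ≃* R,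
      (W₂ Q).map φ.toMonoidHom = W₂ R)
    {n₀ : ℕ} (hn : Nat.card S ≤ n₀)
    (hG : ∀ (L : Type u) [Group L] [Finite L] (P : Sylow p L), Nat.card (P : Subgroup L) ≤ n₀ →
      Subgroup.centralizer ((pCore p L : Subgroup L) : Set L) ≤ pCore p L → ¬ Involves X L →
      Subgroup.centralizer ((inducedFunctor W₁ (P : Subgroup L) : Subgroup L) : Set L) ≤ P →
      Subgroup.normalizer ((inducedFunctor W₂ (P : Subgroup L) : Subgroup L) : Set L) ≤ P →
      (P : Subgroup L) = ⊤)
    (hX : F.IsSectionFree p X) {Q : Subgroup Ω} (hQn : F.IsNormal Q) (hQc : F.IsCentric Q)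
    (h₁ : CAt F p (inducedFunctor W₁ S)) (h₂ : PAt F p (inducedFunctor W₂ S)) : IsInner F := by
  have hQsc := normal_stronglyClosed hQn
  have hV : normalizerIn S Q = S := inf_eq_left.2 (stronglyClosed_le_normalizer hQsc)
  have hfn : F.IsFullyNormalized Q := ⟨hQn.1, fun R hR => by rw [eq_of_isConj_stronglyClosed hQsc hR]⟩
  obtain ⟨L, _, ι, hL⟩ := exists_model_fn hS hF hfn hQc
  haveI := hL.1
  obtain ⟨T, hT⟩ := hL.2.2.1
  have hSN : ∀ {W : ∀ (Q : Type u) [Group Q], Subgroup Q},
      (∀ (Q R : Type u) [Group Q] [Group R] [Finite Q], IsPGroup p Q → ∀ φ : Q ≃* R,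
        (W Q).map φ.toMonoidHom = W R) → S ≤ normalizerIn S (inducedFunctor W S) := fun hW =>
    (le_normalizerIn le_rfl).trans (normalizer_le_functor hS hW le_rfl)
  have hN := isPGroup_of_model hS hfn.1 hQc hV hL (Subgroup.map_subtype_le _)
    (Subgroup.normalizer (((inducedFunctor W₂ S).subgroupOf (normalizerIn S Q)).map ι : Set L)) le_rfl
    (pt := False) False.elim fun A hWA hA α hα hi _ => h₂ A hWA (hA.trans (hSN h22)) α hα hi
  set C := Subgroup.centralizer (((inducedFunctor W₁ S).subgroupOf (normalizerIn S Q)).map ι : Set L) with hC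
  have hCp : IsPGroup p C := isPGroup_of_model hS hfn.1 hQc hV hL (Subgroup.map_subtype_le _) C
    (Subgroup.centralizer_le_normalizer _) (pt := True) (fun _ => le_rfl)
    fun A hWA hA α hα _ hx => h₁ A hWA hA α hα (hx trivial)
  have hr : ι.range ≤ Subgroup.normalizer (C : Set L) :=
    (range_le_normalizer_image ι (hV.le.trans ((hSN h21).trans inf_le_right))).trans
      (normalizer_le_normalizer_centralizer _)
  refine isInner_of_model_top hQn hV hL (hT ▸ hG L T ?_ hL.2.2.2 (hX Q hfn hQc _ (fun _ => rfl) L ι hL) ?_ ?_)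
  · rw [hT, Nat.card_congr (MonoidHom.ofInjective hL.2.1.1).toEquiv.symm, hV]
    exact hn
  · rw [hT, functor_image hS h21 hV ι hL.2.1.1]
    have hsup : IsPGroup p (C ⊔ ι.range : Subgroup L) :=
      IsPGroup.to_sup_of_normal_left' hCp (by rw [← hT]; exact T.2) hr
    exact le_sup_left.trans (((T.is_maximal' hsup (hT.le.trans le_sup_right))).trans hT).le
  · rw [hT, functor_image hS h22 hV ι hL.2.1.1]
    exact ((T.is_maximal' hN (hT.le.trans (range_le_normalizer_image ι
      (hV.le.trans ((hSN h22).trans inf_le_right))))).trans hT).le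

set_option maxHeartbeats 1000000 in
/-- **The pair criterion**. -/
theorem isInner_of_pair
    (h11 : ∀ (Q : Type u) [Group Q] [Finite Q], IsPGroup p Q → Nontrivial Q → W₁ Q ≠ ⊥)
    (h21 : ∀ (Q R : Type u) [Group Q] [Group R] [Finite Q], IsPGroup p Q → ∀ φ : Q ≃* R,
      (W₁ Q).map φ.toMonoidHom = W₁ R)
    (h12 : ∀ (Q : Type u) [Group Q] [Finite Q], IsPGroup p Q → Nontrivial Q → W₂ Q ≠ ⊥)
    (h22 : ∀ (Q R : Type u) [Group Q] [Group R] [Finite Q], IsPGroup p Q → ∀ φ : Q ≃* R,
      (W₂ Q).map φ.toMonoidHom = W₂ R)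
    (n₀ : ℕ)
    (hG : ∀ (L : Type u) [Group L] [Finite L] (P : Sylow p L), Nat.card (P : Subgroup L) ≤ n₀ →
      Subgroup.centralizer ((pCore p L : Subgroup L) : Set L) ≤ pCore p L → ¬ Involves X L →
      Subgroup.centralizer ((inducedFunctor W₁ (P : Subgroup L) : Subgroup L) : Set L) ≤ P →
      Subgroup.normalizer ((inducedFunctor W₂ (P : Subgroup L) : Subgroup L) : Set L) ≤ P →
      (P : Subgroup L) = ⊤)
    (hS : IsPGroup p S) (hF : F.IsSaturated p) (hn : Nat.card S ≤ n₀) (hX : F.IsSectionFree p X)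
    (h₁ : CAt F p (inducedFunctor W₁ S)) (h₂ : PAt F p (inducedFunctor W₂ S)) : IsInner F := by
  suffices ∀ (k m : ℕ) (Ω : Type u) [Group Ω] (S : Subgroup Ω) [Finite S] (F : FusionSystem S),
      Nat.card S = k → (allMaps F).ncard = m → IsPGroup p S → F.IsSaturated p → k ≤ n₀ →
      F.IsSectionFree p X → CAt F p (inducedFunctor W₁ S) → PAt F p (inducedFunctor W₂ S) → IsInner F from
    this _ _ Ω S F rfl rfl hS hF hn hX h₁ h₂
  intro k
  induction k using Nat.strong_induction_on with
  | _ k ihk =>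
  intro m
  induction m using Nat.strong_induction_on with
  | _ m ihm =>
  intro Ω _ S _ F hk hm hS hF hn₀ hX h₁ h₂
  have hsub : ∀ U (hU : F.IsFullyNormalized U), normalizerIn S U = S → ¬ F.IsNormal U → PAt F p U := by
    intro U hU hVS hUn
    have hVp : IsPGroup p ↥(normalizerIn S U) := hS.to_le inf_le_left
    refine pAt_of_isInner hS (N := normSys F hU.1) (fun _ => rfl)
      (ihm _ ?_ Ω _ _ (by rw [hVS, hk]) rfl hVp (normSys_saturated hS hF hU) hn₀
        (sectionFree_normalizerSystem hS hF hX hU fun _ => rfl) ?_ ?_)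
    · rw [← hm]; exact allMaps_lt hU.1 hUn fun _ => rfl
    · intro A hWA hA α hα hx
      obtain ⟨-, -, g, hg, hgf, -⟩ := (map_normalizerSystem_iff fun _ => rfl).1 (map_of_mem_autGroup hA hα)
      rw [show inducedFunctor W₁ (normalizerIn S U) = inducedFunctor W₁ S by rw [hVS]] at hWA hx
      exact h₁ A hWA (hA.trans inf_le_left) α
        (mem_autGroup_of_map ((hg.restrict le_sup_left).congr hgf)) hx
    · intro A hWA hA α hα hi
      obtain ⟨-, -, g, hg, hgf, -⟩ := (map_normalizerSystem_iff fun _ => rfl).1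
        (map_of_mem_autGroup (hA.trans inf_le_left) hα)
      rw [show inducedFunctor W₂ (normalizerIn S U) = inducedFunctor W₂ S by rw [hVS]] at hWA hA hi
      exact h₂ A hWA (hA.trans (inf_le_inf_right _ inf_le_left)) α
        (mem_autGroup_of_map ((hg.restrict le_sup_left).congr hgf)) hi
  have hnQ := core_normal hS hF
  have hmax : ∀ R, F.IsNormal R → R ≤ F.core := fun R hR => le_sSup hR
  by_cases hbot : F.core = ⊥
  · have hnn : ∀ U : Subgroup Ω, U ≠ ⊥ → ¬ F.IsNormal U := fun U hU hn => hU (le_bot_iff.1 (hbot ▸ hmax U hn))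
    have hall : ∀ n, ∀ U, F.IsFullyNormalized U → U ≠ ⊥ →
        Nat.card S - Nat.card ↥(normalizerIn S U) = n → PAt F p U := by
      intro n
      induction n using Nat.strong_induction_on with
      | _ n ih =>
      intro U hU hne hn
      rcases eq_or_lt_of_le (show normalizerIn S U ≤ S from inf_le_left) with hVS | hVS
      · exact hsub U hU hVS (hnn U hne)
      have hVp : IsPGroup p ↥(normalizerIn S U) := hS.to_le inf_le_left
      set V := normalizerIn S U
      have hW : ∀ W : ∀ (Q : Type u) [Group Q], Subgroup Q,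
          (∀ (Q : Type u) [Group Q] [Finite Q], IsPGroup p Q → Nontrivial Q → W Q ≠ ⊥) →
          (∀ (Q R : Type u) [Group Q] [Group R] [Finite Q], IsPGroup p Q → ∀ φ : Q ≃* R,
            (W Q).map φ.toMonoidHom = W R) → PAt (normSys F hU.1) p (inducedFunctor W V) := by
        intro W hW1 hW2
        have hNW := normalizer_le_functor (S := S) hS hW2 (inf_le_left : V ≤ S)
        set R := inducedFunctor W V
        have hRS : R ≤ S := (Subgroup.map_subtype_le _).trans inf_le_left
        have hlt : V < normalizerIn S R := (lt_normalizerIn hS hVS).trans_le hNW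
        obtain ⟨R', hconj, hR'⟩ := exists_fullyNormalized (F := F) hRS
        obtain ⟨ψ, hψ, -, hψR⟩ := exists_map_normalizer_fn hS hF hR' hconj
        have hR1 : R ≠ ⊥ := fun h0 => by
          haveI : Nontrivial ↥V := (Subgroup.nontrivial_iff_ne_bot _).2 fun h1 =>
            hne (le_bot_iff.1 (h1 ▸ le_normalizerIn hU.1))
          exact hW1 _ hVp this ((Subgroup.map_eq_bot_iff_of_injective _ V.subtype_injective).1 h0)
        have hR'1 : R' ≠ ⊥ := fun h0 => by
          haveI := finite_of_le hRS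
          exact hR1 (Subgroup.eq_bot_of_card_eq _ (by rw [isConj_card hconj, h0, Subgroup.card_bot]))
        have hc1 : Nat.card ↥V < Nat.card ↥(normalizerIn S R) := card_lt_of_lt hlt inf_le_left
        have hc2 : Nat.card ↥(normalizerIn S R) ≤ Nat.card ↥(normalizerIn S R') := hR'.2 _ (isConj_symm hconj)
        have hc3 : Nat.card ↥(normalizerIn S R') ≤ Nat.card S := Subgroup.card_le_of_le inf_le_left
        have hR'P := pAt_transfer hψ hRS hψR (ih _ (by omega) R' hR' hR'1 rfl)
        intro A hRA hA α hα hi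
        obtain ⟨-, -, g, hg, hgf, -⟩ := (map_normalizerSystem_iff fun _ => rfl).1
          (map_of_mem_autGroup (hA.trans inf_le_left) hα)
        exact hR'P A hRA (hA.trans (inf_le_inf_right _ inf_le_left)) α
          (mem_autGroup_of_map ((hg.restrict le_sup_left).congr hgf)) hi
      exact pAt_of_isInner hS (N := normSys F hU.1) (fun _ => rfl)
        (ihk _ (hk ▸ card_lt_of_lt hVS le_rfl) _ Ω _ _ rfl rfl hVp (normSys_saturated hS hF hU)
          ((Subgroup.card_le_of_le inf_le_left).trans (hk.le.trans hn₀))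
          (sectionFree_normalizerSystem hS hF hX hU fun _ => rfl)
          (cAt_of_pAt (((le_normalizerIn le_rfl).trans (normalizer_le_functor hVp h21 le_rfl)).trans
            inf_le_right) (hW W₁ h11 h21)) (hW W₂ h12 h22))
    refine isInner_of_gen hS hF fun R hR => ?_
    rintro ⟨α, hα⟩
    suffices hp' : ∃ k, α ^ p ^ k = 1 from hp'.imp fun k hk => Subtype.ext hk
    rcases hR with rfl | hR
    · exact h₂ _ (Subgroup.map_subtype_le _) ((le_normalizerIn le_rfl).trans (normalizer_le_functor hS h22 le_rfl))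
        α hα (im_functor hS h22 (map_of_mem_autGroup le_rfl hα) (im_av α))
    · by_cases hne : R = ⊥
      · subst hne
        exact ⟨0, aut_ext fun x hx => by
          rw [av_one hx, Subgroup.mem_bot.1 hx]; exact (map_of_mem_autGroup hR.1.1 (by simpa using hα)).map_one⟩
      · exact hall _ R hR.2.1 hne rfl R le_rfl (le_normalizerIn hR.2.1.1) α hα (im_av α)
  by_cases hQc : F.IsCentric F.core
  · exact isInner_of_pair_centric hS hF h21 h22 (hk.le.trans hn₀) hG hX hnQ hQc h₁ h₂
  exact isInner_of_core hS hF hbot hQc hsub fun Ω' _ S' _ E hlt hp' hsat hP hX' =>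
    ihk _ (hk ▸ hlt) _ Ω' S' E rfl rfl hp' hsat (hlt.le.trans (hk.le.trans hn₀)) (hX' X hX)
      (cAt_of_pAt (((le_normalizerIn le_rfl).trans (normalizer_le_functor hp' h21 le_rfl)).trans inf_le_right)
        (hP W₁ h11 h21)) (hP W₂ h12 h22)

end Cfsg.Agent.Local.FS
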