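import Cfsg.Agent.Lib.Local.FS.Transfer

set_option autoImplicit false

namespace Cfsg.Agent.Local.FS

open Cfsg Cfsg.FusionSystem Cfsg.Agent.Fusion

universe u

variable {Ω : Type u} [Group Ω] {S : Subgroup Ω} [Finite S] {F : FusionSystem S}

theorem sq_eq_one_of_order_two {i : Ω} (h : orderOf i = 2) : i * i = 1 := by
  rw [← pow_two, ← h, pow_orderOf_eq_one]

theorem zpowers_order_two {i x : Ω} (h : orderOf i = 2) (hx : x ∈ Subgroup.zpowers i) :
    x = 1 ∨ x = i := by
  obtain ⟨k, rfl⟩ := Subgroup.mem_zpowers_iff.1 hx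
  rcases Int.even_or_odd' k with ⟨m, rfl | rfl⟩
  · exact Or.inl (by rw [zpow_mul, zpow_two, sq_eq_one_of_order_two h, one_zpow])
  · exact Or.inr (by rw [zpow_add, zpow_mul, zpow_two, sq_eq_one_of_order_two h, one_zpow, one_mul, zpow_one])

theorem normalizerIn_order_two {t : Ω} (ht : orderOf t = 2) (htS : t ∈ S) :
    normalizerIn S (Subgroup.zpowers t) = centralizerIn S (Subgroup.zpowers t) := by
  refine le_antisymm (fun g hg => mem_centralizerIn.2 ⟨hg.1, fun y hy => ?_⟩)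
    (centralizerIn_le_normalizerIn)
  rcases zpowers_order_two ht hy with rfl | rfl
  · simp
  · rcases zpowers_order_two ht (conj_mem_of_normalizer hg.2 hy) with h | h
    · exfalso
      rw [conj_eq_one_iff] at h
      simp [h] at ht
    · exact (mul_inv_eq_iff_eq_mul.1 h).symm

/-- Thompson's transfer lemma for fusion systems, in transfer form. -/
theorem transfer_ne_one_of_involution (hS : IsPGroup 2 S) (hF : F.IsSaturated 2) (b : CharBiset F 2)
    (s : b.Sect) {A : Type*} [CommGroup A] (χ : S →* A) {c : A} (hc2 : c * c = 1) (hc : c ≠ 1)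
    (hχ : ∀ x, χ x = 1 ∨ χ x = c) {i : S} (hi : orderOf (i : Ω) = 2)
    (h : ∀ t : S, F.IsConjElt (i : Ω) t → F.IsFullyNormalized (Subgroup.zpowers (t : Ω)) → χ t = c) :
    CharBiset.transfer s χ i ≠ 1 := by
  classical
  haveI : Fact (Nat.Prime 2) := ⟨Nat.prime_two⟩
  have hii : i * i = 1 := Subtype.ext (sq_eq_one_of_order_two hi)
  set Qf := Finset.univ.filter fun q : b.Orb => b.act i q = q with hQf
  set Qc := Finset.univ.filter fun q : b.Orb => ¬ b.act i q = q with hQc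
  have hinv : ∀ q, b.act i (b.act i q) = q := fun q => by rw [← b.act_mul, hii, b.act_one]
  have hone : ∀ q, s.coc (1 : S) q = 1 := fun q => s.coc_unique (by rw [b.act_one, b.r_one, b.l_one])
  have hfree : ∏ q ∈ Qc, χ (s.coc i q) = 1 := by
    refine Finset.prod_involution (fun q _ => b.act i q) (fun q _ => ?_) (fun q hq _ => ?_) (fun q hq => ?_)
      (fun q _ => hinv q)
    · rw [mul_comm, ← map_mul, ← CharBiset.Sect.coc_mul, hii, hone, map_one]
    · rw [hQc, Finset.mem_filter] at hq; exact hq.2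
    · rw [hQc, Finset.mem_filter] at hq ⊢
      exact ⟨Finset.mem_univ _, fun he => hq.2 (by rw [hinv q] at he; exact he.symm)⟩
  -- the bad points
  let bad : S → Prop := fun t => χ t = 1
  have hfix : ∀ q ∈ Qf, b.l i (s.σ q) = b.r (s.σ q) (s.coc i q) := by
    intro q hq
    rw [hQf, Finset.mem_filter] at hq
    have := s.coc_spec i q
    rw [hq.2] at this
    exact this.symm
  have hconjt : ∀ x t, b.l i x = b.r x t → F.IsConjElt (i : Ω) (t : Ω) ∧ orderOf (t : Ω) = 2 := by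
    intro x t hx
    obtain ⟨P, f, hf, hst⟩ := b.stab x
    obtain ⟨hiP, htf⟩ := (hst i t).1 hx
    refine ⟨isConjElt_iff.2 ⟨f, hf.restrict (Subgroup.zpowers_le.2 hiP), htf.symm⟩, ?_⟩
    refine orderOf_eq_prime ?_ fun h1 => ?_
    · rw [htf, pow_two, ← hf.map_mul hiP hiP, sq_eq_one_of_order_two hi, hf.map_one]
    · have := hf.injOn hiP P.one_mem (by rw [← htf, h1, hf.map_one])
      rw [this] at hi; simp at hi
  obtain ⟨Z, hZ, hZfn⟩ := exists_fullyNormalized (F := F) (Subgroup.zpowers_le.2 i.2)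
  obtain ⟨f₁, hf₁, hf₁i⟩ := isConj_iff.1 hZ
  set i' : S := ⟨f₁ i, hf₁.mem (Subgroup.mem_zpowers _)⟩ with hi'
  have hi'2 : orderOf (i' : Ω) = 2 := by
    refine orderOf_eq_prime ?_ fun h1 => ?_
    · show f₁ i ^ 2 = 1
      rw [pow_two, ← hf₁.map_mul (Subgroup.mem_zpowers _) (Subgroup.mem_zpowers _), sq_eq_one_of_order_two hi,
        hf₁.map_one]
    · have := hf₁.injOn (Subgroup.mem_zpowers _) (Subgroup.one_mem _) (h1.trans hf₁.map_one.symm)
      rw [this] at hi; simp at hi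
  have hZeq : Subgroup.zpowers (i' : Ω) = Z := by
    haveI := finite_of_le hZfn.1
    refine Subgroup.eq_of_le_of_card_ge (Subgroup.zpowers_le.2 (hf₁i.le (mem_im_of_mem (Subgroup.mem_zpowers _)))) ?_
    rw [← isConj_card hZ, Nat.card_zpowers, Nat.card_zpowers, hi, hi'2]
  obtain ⟨e, he⟩ := b.stable _ f₁ hf₁
  have he1 : ∀ x, e (b.l i x) = b.l i' (e x) := fun x => by
    have := he i i' (Subgroup.mem_zpowers _) rfl 1 x
    rwa [b.r_one, b.r_one] at this
  have her : ∀ x t, e (b.r x t) = b.r (e x) t := fun x t => by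
    have := he 1 1 (Subgroup.one_mem _) hf₁.map_one.symm t x
    rwa [b.l_one, b.l_one] at this
  let B : Type u := {x : b.X // ∃ t, b.l i' x = b.r x t ∧ bad t}
  haveI : Finite b.X := b.fin
  let C := centralizerIn S (Subgroup.zpowers (i' : Ω))
  have hC : ∀ a : C, (⟨(a : Ω), a.2.1⟩ : S) * i' = i' * ⟨(a : Ω), a.2.1⟩ := fun a =>
    Subtype.ext ((mem_centralizerIn.1 a.2).2 _ (Subgroup.mem_zpowers _)).symm
  have hbadconj : ∀ (g t : S), bad t → bad (g * t * g⁻¹) := by
    intro g t ht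
    show χ (g * t * g⁻¹) = 1
    rw [map_mul, map_mul, map_inv, mul_comm (χ g), mul_inv_cancel_right]
    exact ht
  have ht2 : ∀ (x : b.X) (t : S), b.l i' x = b.r x t → F.IsConjElt (i : Ω) t ∧ orderOf (t : Ω) = 2 := by
    intro x t hx
    refine hconjt (e.symm x) t (e.injective ?_)
    rw [he1, her, e.apply_symm_apply, hx]
  let act' : C × S → b.X → b.X := fun ab x => b.l ⟨(ab.1 : Ω), ab.1.2.1⟩ (b.r x ab.2⁻¹)
  have hBact : ∀ (ab : C × S) (x : B), ∃ t, b.l i' (act' ab x.1) = b.r (act' ab x.1) t ∧ bad t := by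
    rintro ⟨a, g⟩ ⟨x, t, hx, hbad⟩
    refine ⟨g * t * g⁻¹, ?_, hbadconj g t hbad⟩
    show b.l i' (b.l _ (b.r x g⁻¹)) = b.r (b.l _ (b.r x g⁻¹)) (g * t * g⁻¹)
    rw [← b.l_mul, ← hC a, b.l_mul, b.l_r i', hx, ← b.r_mul, ← b.l_r, ← b.r_mul]
    congr 2
    group
  letI : MulAction (C × S) B :=
    { smul := fun ab x => ⟨act' ab x.1, hBact ab x⟩
      one_smul := fun x => Subtype.ext (by
        show b.l (1 : S) (b.r x.1 (1 : S)⁻¹) = x.1
        rw [inv_one, b.r_one, b.l_one])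
      mul_smul := fun ab ab' x => Subtype.ext (by
        show b.l (⟨(ab.1 : Ω), ab.1.2.1⟩ * ⟨(ab'.1 : Ω), ab'.1.2.1⟩) (b.r x.1 (ab.2 * ab'.2)⁻¹) =
          b.l ⟨(ab.1 : Ω), ab.1.2.1⟩ (b.r (b.l ⟨(ab'.1 : Ω), ab'.1.2.1⟩ (b.r x.1 ab'.2⁻¹)) ab.2⁻¹)
        rw [mul_inv_rev, b.r_mul, ← b.l_r, b.l_mul]) }
  haveI : Finite B := Subtype.finite
  haveI : Finite C := finite_of_le inf_le_left
  have hdvd : 2 * Nat.card S ∣ Nat.card B := by
    haveI := Fintype.ofFinite (Quotient (MulAction.orbitRel (C × S) B))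
    rw [Nat.card_congr (MulAction.selfEquivSigmaOrbits (C × S) B), Nat.card_sigma]
    refine Finset.dvd_sum fun o _ => ?_
    rw [Nat.card_congr (MulAction.orbitEquivQuotientStabilizer (C × S) (Quotient.out o))]
    generalize Quotient.out o = y
    obtain ⟨x, t, hx, hbad⟩ := y
    set St := MulAction.stabilizer (C × S) (⟨x, t, hx, hbad⟩ : B) with hSt
    set Ct := centralizerIn S (Subgroup.zpowers (t : Ω))
    obtain ⟨hcj, ht⟩ := ht2 x t hx
    obtain ⟨P, f, hf, hst⟩ := b.stab x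
    have hmem : ∀ ab : C × S, ab ∈ St → (ab.1 : Ω) ∈ P ∧ (ab.2 : Ω) = f ab.1 := by
      intro ab hab
      refine (hst ⟨(ab.1 : Ω), ab.1.2.1⟩ ab.2).1 ?_
      have h1 : b.l ⟨(ab.1 : Ω), ab.1.2.1⟩ (b.r x ab.2⁻¹) = x := congrArg Subtype.val hab
      conv_rhs => rw [← h1]
      rw [← b.l_r, ← b.r_mul, inv_mul_cancel, b.r_one]
    have hcard : Nat.card St ∣ Nat.card Ct := by
      have hin : ∀ ab : St, (ab.1.2 : Ω) ∈ Ct := by
        intro ab
        obtain ⟨hP, hf2⟩ := hmem _ ab.2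
        obtain ⟨hiP, htf⟩ := (hst i' t).1 hx
        refine mem_centralizerIn.2 ⟨ab.1.2.2, fun y hy => ?_⟩
        rcases zpowers_order_two ht hy with rfl | rfl
        · simp
        · rw [hf2, htf, ← hf.map_mul hiP hP, ← hf.map_mul hP hiP]
          exact congrArg (fun z : S => f (z : Ω)) (hC ab.1.1).symm
      let φ : St →* Ct := MonoidHom.mk' (fun ab => ⟨(ab.1.2 : Ω), hin ab⟩) fun _ _ => rfl
      refine Subgroup.card_dvd_of_injective φ fun ab ab' he' => ?_
      have h2 : (ab.1.2 : Ω) = ab'.1.2 := congrArg (fun z : Ct => (z : Ω)) he'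
      obtain ⟨hP, hf2⟩ := hmem _ ab.2
      obtain ⟨hP', hf2'⟩ := hmem _ ab'.2
      refine Subtype.ext (Prod.ext (Subtype.ext (hf.injOn hP hP' ?_)) (Subtype.ext h2))
      rw [← hf2, ← hf2', h2]
    have hconjZ : F.IsConj Z (Subgroup.zpowers (t : Ω)) := by
      obtain ⟨g, hg, hgt⟩ := isConjElt_iff.1 hcj
      refine isConj_trans (isConj_symm hZ) (isConj_iff.2 ⟨g, hg, ?_⟩)
      refine hg.im_eq (fun y hy => ?_) fun y hy => ?_
      · rcases zpowers_order_two hi hy with rfl | rfl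
        · rw [hg.map_one]; exact Subgroup.one_mem _
        · rw [hgt]; exact Subgroup.mem_zpowers _
      · rcases zpowers_order_two ht hy with rfl | rfl
        · exact ⟨1, Subgroup.one_mem _, hg.map_one⟩
        · exact ⟨_, Subgroup.mem_zpowers _, hgt⟩
    have hlt : 2 * Nat.card Ct ∣ Nat.card C := by
      haveI : Finite Ct := finite_of_le inf_le_left
      obtain ⟨a, ha⟩ := IsPGroup.iff_card.1 (hS.to_le (show C ≤ S from inf_le_left))
      obtain ⟨d, hd⟩ := IsPGroup.iff_card.1 (hS.to_le (show Ct ≤ S from inf_le_left))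
      have hle := hZfn.2 _ hconjZ
      change Nat.card ↥(normalizerIn S (Subgroup.zpowers (t : Ω))) ≤ Nat.card ↥(normalizerIn S Z) at hle
      rw [← hZeq, normalizerIn_order_two hi'2 i'.2, normalizerIn_order_two ht t.2] at hle
      have hne : Nat.card Ct ≠ Nat.card C := by
        intro heq
        refine hc ((h t hcj ⟨Subgroup.zpowers_le.2 t.2, fun R hR => (hZfn.2 R (isConj_trans hconjZ hR)).trans ?_⟩).symm.trans hbad)
        show Nat.card ↥(normalizerIn S Z) ≤ Nat.card ↥(normalizerIn S (Subgroup.zpowers (t : Ω)))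
        rw [← hZeq, normalizerIn_order_two hi'2 i'.2, normalizerIn_order_two ht t.2]
        exact heq.ge
      rw [ha, hd, ← pow_succ']
      refine pow_dvd_pow 2 ?_
      have h2 : Nat.card Ct < Nat.card C := lt_of_le_of_ne hle hne
      rw [ha, hd] at h2
      exact (Nat.pow_lt_pow_iff_right Nat.one_lt_two).1 h2
    have h3 := Subgroup.index_mul_card St
    rw [Nat.card_prod] at h3
    rw [← Subgroup.index_eq_card]
    refine Nat.dvd_of_mul_dvd_mul_right (Nat.card_pos (α := St)) ?_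
    rw [h3, mul_comm (Nat.card C), mul_assoc, mul_comm 2, mul_assoc]
    exact Nat.mul_dvd_mul_left _ ((mul_comm _ 2).symm ▸ (Nat.mul_dvd_mul_left 2 hcard).trans hlt)
  -- count the bad fixed orbits
  set Qb := Qf.filter fun q => bad (s.coc i q) with hQb
  have hcardB : Nat.card B = Qb.card * Nat.card S := by
    rw [← Nat.card_congr (e.subtypeEquiv (p := fun x => ∃ t, b.l i x = b.r x t ∧ bad t) fun x => ?_),
      ← Fintype.card_coe, ← Nat.card_eq_fintype_card, ← Nat.card_prod]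
    · refine (Nat.card_congr (Equiv.ofBijective (fun qt : ↥Qb × S => (⟨b.r (s.σ qt.1.1) qt.2, ?_⟩ :
        {x // ∃ t, b.l i x = b.r x t ∧ bad t})) ⟨?_, ?_⟩)).symm
      · obtain ⟨hq1, hq2⟩ := Finset.mem_filter.1 qt.1.2
        refine ⟨qt.2⁻¹ * s.coc i qt.1.1 * qt.2⁻¹⁻¹, ?_, hbadconj _ _ hq2⟩
        rw [b.l_r, hfix _ hq1, ← b.r_mul, ← b.r_mul]
        congr 1
        group
      · rintro ⟨⟨q, hq⟩, t⟩ ⟨⟨q', hq'⟩, t'⟩ he'
        have h1 := congrArg Subtype.val he'
        obtain rfl : q = q' := by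
          have h2 := congrArg b.cl h1
          simpa only [CharBiset.cl_r, s.spec] using h2
        exact Prod.ext rfl (CharBiset.r_cancel h1)
      · rintro ⟨x, t, hx, hbad⟩
        obtain ⟨g, hg⟩ := b.exists_of_cl_eq (s.spec (b.cl x))
        have hq : b.act i (b.cl x) = b.cl x := by rw [b.act_cl, hx, b.cl_r]
        have hqf : b.cl x ∈ Qf := Finset.mem_filter.2 ⟨Finset.mem_univ _, hq⟩
        have hcoc : s.coc i (b.cl x) = g * t * g⁻¹ := s.coc_unique (by
          have hx' := hx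
          rw [← hg, b.l_r] at hx'
          rw [hq, show b.l i (s.σ (b.cl x)) = b.r (b.r (b.l i (s.σ (b.cl x))) g) g⁻¹ by
            rw [← b.r_mul, mul_inv_cancel, b.r_one], hx', ← b.r_mul, ← b.r_mul, mul_assoc])
        refine ⟨(⟨b.cl x, Finset.mem_filter.2 ⟨hqf, ?_⟩⟩, g), Subtype.ext hg⟩
        rw [hcoc]
        exact hbadconj g t hbad
    · constructor
      · rintro ⟨t, hx, hbad⟩; exact ⟨t, by rw [← he1, hx, her], hbad⟩
      · rintro ⟨t, hx, hbad⟩; exact ⟨t, e.injective (by rw [he1, hx, her]), hbad⟩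
  rw [hcardB, mul_comm 2] at hdvd
  have hbeven : 2 ∣ Qb.card := by
    rw [mul_comm (Qb.card)] at hdvd
    exact Nat.dvd_of_mul_dvd_mul_left Nat.card_pos hdvd
  -- the total
  have hval : ∀ q ∈ Qf, ¬ bad (s.coc i q) → χ (s.coc i q) = c := fun q _ hb => (hχ _).resolve_left hb
  have hceven : 2 ∣ Qc.card := by
    have h0 : ∏ q ∈ Qc, c = 1 := Finset.prod_involution (fun q _ => b.act i q) (fun _ _ => hc2)
      (fun q hq _ => (Finset.mem_filter.1 hq).2) (fun q hq => by
        rw [hQc, Finset.mem_filter] at hq ⊢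
        exact ⟨Finset.mem_univ _, fun he => hq.2 (by rw [hinv q] at he; exact he.symm)⟩) (fun q _ => hinv q)
    rw [Finset.prod_const] at h0
    have := orderOf_dvd_of_pow_eq_one h0
    rwa [orderOf_eq_prime (by rw [pow_two, hc2]) hc] at this
  have htot : Qf.card + Qc.card = b.orbits := by
    rw [← CharBiset.orbits_eq b, ← Finset.card_univ]
    exact Finset.card_filter_add_card_filter_not _
  set Qg := Qf.filter fun q => ¬ bad (s.coc i q) with hQg
  have hsplit : Qb.card + Qg.card = Qf.card := Finset.card_filter_add_card_filter_not _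
  show ∏ q, χ (s.coc i q) ≠ 1
  rw [← Finset.prod_filter_mul_prod_filter_not Finset.univ (fun q => b.act i q = q), hfree, mul_one,
    ← Finset.prod_filter_mul_prod_filter_not Qf (fun q => bad (s.coc i q))]
  have hgood : ∏ q ∈ Qg, χ (s.coc i q) = c ^ Qg.card := by
    rw [← Finset.prod_const]
    exact Finset.prod_congr rfl fun q hq => hval q (Finset.mem_filter.1 hq).1 (Finset.mem_filter.1 hq).2
  have hbadp : ∏ q ∈ Qb, χ (s.coc i q) = 1 := Finset.prod_eq_one fun q hq => (Finset.mem_filter.1 hq).2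
  rw [hbadp, hgood, one_mul]
  have hodd : Odd Qg.card := by
    have h1 := b.not_dvd
    rw [Nat.odd_iff]
    omega
  obtain ⟨k, hk⟩ := hodd
  rw [hk, pow_succ, pow_mul, pow_two, hc2, one_pow, one_mul]
  exact hc

end Cfsg.Agent.Local.FS
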