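import Cfsg.Prelude.Def_Spor_J3
import Mathlib

/-!
The third Janko group does not depend on the chosen field with four elements.
-/

set_option autoImplicit false

namespace Cfsg.Agent.Local.FS.JankoThree

open Cfsg Matrix
open Cfsg.Spor (F9 threeJ3 j3Gens j3A j3E j3D j3B j3C j3Lam omegaPow)

universe u

variable {F : Type*} {F' : Type*} [Field F] [Field F'] (ρ : F ≃+* F') (ω : F)

theorem map_omegaPow (n : ZMod 3) : ρ (omegaPow F ω n) = omegaPow F' (ρ ω) n := map_pow ρ ω _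

theorem map_A (Z : F9) : (j3A F ω Z).map ρ = j3A F' (ρ ω) Z := by
  rw [j3A, j3A, Matrix.diagonal_map (map_zero ρ)]
  congr 1
  funext z
  exact map_omegaPow ρ ω _

theorem map_E (Z : F9) : (j3E F ω Z).map ρ = j3E F' (ρ ω) Z := by
  rw [j3E, j3E, Matrix.diagonal_map (map_zero ρ)]
  congr 1
  funext z
  exact map_omegaPow ρ ω _

theorem map_D (Z : F9) : (j3D F ω Z).map ρ = j3D F' (ρ ω) Z := by
  ext w z
  simp only [j3D, j3Lam, Matrix.map_apply, Matrix.of_apply]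
  split_ifs <;> simp

theorem map_B (Z : F9) : (j3B F Z).map ρ = j3B F' Z := by
  ext w z
  simp only [j3B, Matrix.map_apply, Matrix.of_apply]
  split_ifs <;> simp

theorem map_C (Z : F9) : (j3C F Z).map ρ = j3C F' Z := by
  ext w z
  simp only [j3C, Matrix.map_apply, Matrix.of_apply]
  split_ifs <;> simp

theorem map_gens : (fun M => M.map ρ) '' j3Gens F ω = j3Gens F' (ρ ω) := by
  have h : ∀ {G G' : Type _} (M : G → Matrix F9 F9 F) (M' : G → Matrix F9 F9 F'), (∀ Z, (M Z).map ρ = M' Z) →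
      ((fun M => M.map ρ) '' Set.range M) = Set.range M' := fun {G G'} M M' h => by
    rw [← Set.range_comp]
    exact congrArg Set.range (funext h)
  have hB : ∀ (M : F9 → Matrix F9 F9 F) (M' : F9 → Matrix F9 F9 F'), (∀ Z, (M Z).map ρ = M' Z) →
      ((fun M => M.map ρ) '' {A | ∃ Z : F9, Z ≠ 0 ∧ A = M Z}) = {A | ∃ Z : F9, Z ≠ 0 ∧ A = M' Z} := by
    intro M M' h
    ext A
    constructor
    · rintro ⟨_, ⟨Z, hZ, rfl⟩, rfl⟩; exact ⟨Z, hZ, h Z⟩
    · rintro ⟨Z, hZ, rfl⟩; exact ⟨_, ⟨Z, hZ, rfl⟩, h Z⟩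
  simp only [j3Gens, Set.image_union]
  rw [h (G' := F9) _ _ (map_A ρ ω), h (G' := F9) _ _ (map_E ρ ω), h (G' := F9) _ _ (map_D ρ ω),
    hB _ _ (map_B ρ), hB _ _ (map_C ρ)]

/-- the groups over two fields are isomorphic -/
theorem nonempty_equiv : Nonempty (Spor.J3 F ω ≃* Spor.J3 F' (ρ ω)) := by
  let Φ : GL F9 F ≃* GL F9 F' := Units.mapEquiv ρ.mapMatrix.toMulEquiv
  have himg : (threeJ3 F ω).map Φ.toMonoidHom = threeJ3 F' (ρ ω) := by
    rw [threeJ3, threeJ3, MonoidHom.map_closure]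
    congr 1
    ext g
    constructor
    · rintro ⟨x, hx, rfl⟩
      show (Φ x : Matrix F9 F9 F') ∈ j3Gens F' (ρ ω)
      rw [← map_gens]
      exact ⟨_, hx, rfl⟩
    · intro hg
      obtain ⟨M, hM, e⟩ := (map_gens ρ ω).symm ▸ (show (g : Matrix F9 F9 F') ∈ j3Gens F' (ρ ω) from hg)
      refine ⟨Φ.symm g, ?_, Φ.apply_symm_apply g⟩
      show (Φ.symm g : Matrix F9 F9 F) ∈ j3Gens F ω
      have : M = (Φ.symm g : Matrix F9 F9 F) := by
        show M = ρ.mapMatrix.symm (g : Matrix F9 F9 F')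
        rw [← e]
        exact (ρ.mapMatrix.symm_apply_apply M).symm
      exact this ▸ hM
  let e : threeJ3 F ω ≃* threeJ3 F' (ρ ω) :=
    ((threeJ3 F ω).equivMapOfInjective Φ.toMonoidHom Φ.injective).trans (MulEquiv.subgroupCongr himg)
  refine ⟨QuotientGroup.congr _ _ e ?_⟩
  ext x
  obtain ⟨y, rfl⟩ := e.surjective x
  simp only [Subgroup.mem_map, MulEquiv.coe_toMonoidHom, MonoidHom.coe_coe, EmbeddingLike.apply_eq_iff_eq, exists_eq_right,
    Subgroup.mem_center_iff]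
  exact ⟨fun h a => by obtain ⟨b, rfl⟩ := e.surjective a; rw [← map_mul, h, map_mul],
    fun h b => e.injective (by rw [map_mul, map_mul, h])⟩

theorem exists_small {F : Type u} [Field F] [Fintype F] (hF : Fintype.card F = 4) (ω : F) (hω : ω ^ 2 + ω + 1 = 0) :
    ∃ (F' : Type) (_ : Field F') (_ : Fintype F') (ω' : F'), Fintype.card F' = 4 ∧ ω' ^ 2 + ω' + 1 = 0 ∧
      Nonempty (Spor.J3 F ω ≃* Spor.J3 F' ω') := by
  let σ : F ≃ Shrink.{0} F := equivShrink.{0} F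
  letI iF : Field (Shrink.{0} F) := σ.symm.field
  letI iFt : Fintype (Shrink.{0} F) := Fintype.ofEquiv F σ
  let ρ : F ≃+* Shrink.{0} F := (σ.symm.ringEquiv).symm
  refine ⟨_, iF, iFt, ρ ω, (Fintype.card_congr σ).symm.trans hF, ?_, nonempty_equiv ρ ω⟩
  rw [← map_pow, ← map_add, ← map_one ρ, ← map_add, hω, map_zero]

end Cfsg.Agent.Local.FS.JankoThree
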