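import Cfsg.Agent.Lib.Local.FS.JankoThreeLocal
import Cfsg.Agent.Lib.Local.FS.JankoThreeField

/-!
Codes for the third Janko group over an arbitrary field with four elements.
-/

set_option autoImplicit false

noncomputable section

namespace Cfsg.Agent.Local.FS.JankoThree

open Cfsg

universe u v

/-- Transport of a code along an isomorphism. -/
def Coded.comap {J : Type u} {J' : Type v} [Group J] [Group J'] (e : J ≃* J') (c : Coded J') : Coded J where
  L x := c.L (e x)
  mul x y := by rw [map_mul, c.mul]
  one := by rw [map_one, c.one]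
  inj x y h := e.injective (c.inj _ _ h)
  ev w := e.symm (c.ev w)
  ev_spec w := by rw [MulEquiv.apply_symm_apply, c.ev_spec]
  ev_cons a w := by rw [c.ev_cons, map_mul]
  card := (Nat.card_congr e.toEquiv).trans c.card

theorem exists_coded_any {F : Type u} [Field F] [Fintype F] (hF : Fintype.card F = 4) (ω : F)
    (hω : ω ^ 2 + ω + 1 = 0) : Nonempty (Coded (Spor.J3 F ω)) ∧ Finite (Spor.J3 F ω) := by
  classical
  obtain ⟨F', _, _, ω', hF', hω', ⟨e⟩⟩ := exists_small hF ω hω
  obtain ⟨c⟩ := exists_coded (F := F') hF' hω'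
  exact ⟨⟨Coded.comap e c⟩, Finite.of_equiv _ e.symm.toEquiv⟩

end Cfsg.Agent.Local.FS.JankoThree
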