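import Cfsg.Agent.Lib.Local.FS.JankoThreeLocal
import Cfsg.Agent.Lib.Solv.Extraspecial
import Cfsg.Prelude.Def_Transfer

/-!
The involution centraliser of the third Janko group is extraspecial of order 32 split by A₅.
-/

set_option autoImplicit false
set_option maxRecDepth 100000

noncomputable section

namespace Cfsg.Agent.Local.FS.JankoThree

open Cfsg Cfsg.Agent.Spor.J3Cert Cfsg.Agent.Local.FS.OpCert
open Cfsg.Spor (F9 threeJ3)
open scoped commutatorElement

theorem qSub_ok : subOK qGens qKidsC qTree 32 = true := by decide +kernel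
theorem hSub_ok : subOK hGens hKids hTree 60 = true := by decide +kernel

theorem q_inC : (qTree.flat.all fun a => cTree.mem a) = true ∧ (hTree.flat.all fun a => cTree.mem a) = true ∧
    (qGens.all fun a => cTree.mem a) = true ∧ (hGens.all fun a => cTree.mem a) = true := by decide +kernel

theorem q_normal : (cGens.all fun g => qGens.all fun q => (cTree.flat.all fun gi =>
    !(Nat.beq (mulC g gi) oneC) || qTree.mem (mulC g (mulC q gi)))) = true := by decide +kernel

theorem qh_trivial : (qTree.flat.all fun a => !(hTree.mem a) || Nat.beq a oneC) = true := by decide +kernel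

/-- squares and commutators lie in the centre -/
def qSpecialOK : Bool :=
  qTree.flat.all fun a => (Nat.beq (mulC a a) oneC || Nat.beq (mulC a a) (clsElt 0)) &&
    (qTree.flat.all fun b => Nat.beq (mulC a b) (mulC b a) || Nat.beq (mulC a b) (mulC (clsElt 0) (mulC b a))) &&
    (Nat.beq a oneC || Nat.beq a (clsElt 0) || qTree.flat.any fun b => !(Nat.beq (mulC a b) (mulC b a)))

theorem qSpecial_ok : qSpecialOK = true ∧ qTree.mem (clsElt 0) = true := by decide +kernel

/-- commuting involutions of the core span at most a four-group -/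
def qRankOK : Bool :=
  (fun l => l.all fun a => l.all fun b => Nat.beq a b || !(Nat.beq (mulC a b) (mulC b a)) || l.all fun c =>
      Nat.beq c a || Nat.beq c b || Nat.beq c (mulC a b) ||
        !(Nat.beq (mulC a c) (mulC c a)) || !(Nat.beq (mulC b c) (mulC c b)))
    (qTree.flat.filter fun a => Nat.beq (mulC a a) oneC && !(Nat.beq a oneC))

theorem qRank_ok : qRankOK = true := by decide +kernel

/-- the permutation code of an element of the complement -/
def permC (a : ℕ) : ℕ := ((hPerm.find? fun p => Nat.beq p.1 a).getD (0, 0)).2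

/-- the image of a point -/
def actC (a : ℕ) (k : Fin 5) : Fin 5 := ⟨Nat.mod (Nat.shiftRight (permC a) (3 * k.val)) 8 % 5, Nat.mod_lt _ (by norm_num)⟩

theorem act_ok : ((hTree.flat.all fun a => hTree.flat.all fun b =>
      (List.finRange 5).all fun k => actC (mulC a b) k == actC a (actC b k)) &&
    ((List.finRange 5).all fun k => actC oneC k == k) &&
    (hTree.flat.all fun a => Nat.beq a oneC || (List.finRange 5).any fun k => !(actC a k == k))) = true := by
  decide +kernel

theorem alt_five_of_embedding {H : Type*} [Group H] [Finite H] (f : H →* Equiv.Perm (Fin 5))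
    (hf : Function.Injective f) (hH : Nat.card H = 60) : Nonempty (H ≃* alternatingGroup (Fin 5)) := by
  have hrange : Nat.card f.range = 60 := by
    rw [← Nat.card_congr (MonoidHom.ofInjective hf).toEquiv, hH]
  have hidx : f.range.index = 2 := by
    have h := Subgroup.card_mul_index f.range
    rw [hrange, Nat.card_perm, Nat.card_eq_fintype_card, Fintype.card_fin] at h
    norm_num [Nat.factorial] at h
    omega
  exact ⟨(MonoidHom.ofInjective hf).trans
    (MulEquiv.subgroupCongr (Equiv.Perm.eq_alternatingGroup_of_index_eq_two hidx))⟩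

namespace Coded

variable {J : Type*} [Group J] [Finite J] (c : Coded J)

include c in
theorem centralizer_structure :
    ∃ t : J, orderOf t = 2 ∧ ∃ (Q : Subgroup ↥(Subgroup.centralizer ({t} : Set J))) (_ : Q.Normal),
      Cfsg.IsExtraspecial 2 Q ∧ Nat.card Q = 32 ∧
      (∀ E : Subgroup Q, Cfsg.IsElementaryAbelian 2 E → Nat.card E ≤ 2 ^ 2) ∧
      (∃ H : Subgroup ↥(Subgroup.centralizer ({t} : Set J)), Q.IsComplement' H) ∧
      Nonempty (↥(Subgroup.centralizer ({t} : Set J)) ⧸ Q ≃* ↥(alternatingGroup (Fin 5))) := by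
  classical
  haveI : Fact (Nat.Prime 2) := ⟨Nat.prime_two⟩
  obtain ⟨hcard, hCiff, hCex⟩ := c.centralizer_facts
  refine ⟨c.z, c.z_order, ?_⟩
  obtain ⟨hqC, hhC, hqgC, hhgC⟩ := q_inC
  simp only [List.all_eq_true] at hqC hhC hqgC hhgC
  obtain ⟨K, hK, hKcard, hKiff, hKex⟩ := c.exists_sub qSub_ok fun a ha => ⟨_, (hCex a (hqgC a ha)).choose_spec.2⟩
  obtain ⟨M, hM, hMcard, hMiff, -⟩ := c.exists_sub hSub_ok fun a ha => ⟨_, (hCex a (hhgC a ha)).choose_spec.2⟩
  have hKC : K ≤ c.C := fun x hx => (hCiff x).2 (hqC _ (Tr.mem_flat ((hKiff x).1 hx)))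
  have hMC : M ≤ c.C := fun x hx => (hCiff x).2 (hhC _ (Tr.mem_flat ((hMiff x).1 hx)))
  set Q : Subgroup c.C := K.subgroupOf c.C
  set H : Subgroup c.C := M.subgroupOf c.C
  have hQcard : Nat.card Q = 32 := by rw [Nat.card_congr (Subgroup.subgroupOfEquivOfLe hKC).toEquiv, hKcard]
  have hHcard : Nat.card H = 60 := by rw [Nat.card_congr (Subgroup.subgroupOfEquivOfLe hMC).toEquiv, hMcard]
  have hgenC : Subgroup.closure {x : J | c.L x ∈ cGens} = c.C := by
    obtain ⟨K', hK', hc', -, -⟩ := c.exists_sub cSub_ok fun a ha => by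
      rw [← cGens_facts.1] at ha
      obtain ⟨w, -, rfl⟩ := List.mem_map.1 ha
      exact ⟨_, c.ev_spec w⟩
    rw [← hK']
    refine Subgroup.eq_of_le_of_card_ge ?_ (by rw [hcard, hc'])
    rw [hK']
    refine (Subgroup.closure_le _).2 fun x hx => Subgroup.mem_centralizer_singleton_iff.2 (c.inj _ _ ?_)
    rw [c.mul, c.mul, c.z_code]
    exact beq_iff_eq.1 (List.all_eq_true.1 cGens_facts.2.1 _ hx)
  have hKnorm : ∀ g ∈ c.C, ∀ x ∈ K, g * x * g⁻¹ ∈ K := by
    have hle : c.C ≤ Subgroup.normalizer (K : Set J) := by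
      rw [← hgenC]
      refine (Subgroup.closure_le _).2 fun g hg => Subgroup.mem_normalizer_fintype ?_
      have : K ≤ K.comap (MulAut.conj g).toMonoidHom := by
        conv_lhs => rw [hK]
        refine (Subgroup.closure_le _).2 fun q hq => ?_
        show g * q * g⁻¹ ∈ K
        rw [hKiff, c.conj_code]
        have hgC : g ∈ c.C := hgenC ▸ Subgroup.subset_closure hg
        have h := List.all_eq_true.1 (List.all_eq_true.1 (List.all_eq_true.1 q_normal _ hg) _ hq) (c.L g⁻¹)
          (Tr.mem_flat ((hCiff _).1 (inv_mem hgC)))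
        simp only [Bool.or_eq_true, Bool.not_eq_eq_eq_not, Bool.not_true] at h
        rcases h with h | h
        · rw [← c.mul, mul_inv_cancel, c.one] at h
          simp at h
        · exact h
      exact fun x hx => this hx
    exact fun g hg x hx => (Subgroup.mem_normalizer_iff.1 (hle hg) x).1 hx
  haveI hQn : Q.Normal := ⟨fun x hx g => Subgroup.mem_subgroupOf.2 (hKnorm g g.2 x (Subgroup.mem_subgroupOf.1 hx))⟩
  obtain ⟨hspec, hzq⟩ := qSpecial_ok
  simp only [qSpecialOK, List.all_eq_true, List.any_eq_true, Bool.and_eq_true, Bool.or_eq_true,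
    Bool.not_eq_eq_eq_not, Bool.not_true] at hspec
  let ι : Q →* J := c.C.subtype.comp Q.subtype
  have hι : Function.Injective ι := c.C.subtype_injective.comp Q.subtype_injective
  have hin : ∀ q : Q, c.L (ι q) ∈ qTree.flat := fun q => Tr.mem_flat ((hKiff _).1 (Subgroup.mem_subgroupOf.1 q.2))
  let zq : Q := ⟨⟨c.z, Subgroup.mem_centralizer_singleton_iff.2 rfl⟩,
    Subgroup.mem_subgroupOf.2 ((hKiff _).2 (by rw [c.z_code]; exact hzq))⟩
  have hzq' : zq ∈ Subgroup.center Q := Subgroup.mem_center_iff.2 fun q => hι (by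
    rw [map_mul, map_mul]
    exact Subgroup.mem_centralizer_singleton_iff.1 (q : c.C).2)
  have hz1 : zq ≠ 1 := fun h => cGens_facts.2.2.2 (by
    rw [← c.z_code, show c.z = ι zq from rfl, h, map_one, c.one])
  have hcen : ∀ q : Q, q ∈ Subgroup.center Q → q = 1 ∨ q = zq := by
    intro q hq
    rcases (hspec _ (hin q)).2 with (h | h) | ⟨b, hb, h⟩
    · exact Or.inl (hι (by rw [map_one]; exact c.inj _ _ ((Nat.eq_of_beq_eq_true h).trans c.one.symm)))
    · exact Or.inr (hι (c.inj _ _ ((Nat.eq_of_beq_eq_true h).trans c.z_code.symm)))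
    · exfalso
      obtain ⟨y, hy, rfl⟩ := hKex b (by
        have h1 := qSub_ok
        simp only [subOK, Bool.and_eq_true, List.all_eq_true] at h1
        exact h1.1.1.1.2 b hb)
      have e := congrArg ι (Subgroup.mem_center_iff.1 hq ⟨⟨y, hKC hy⟩, Subgroup.mem_subgroupOf.2 hy⟩)
      rw [map_mul, map_mul] at e
      rw [← c.mul, ← c.mul, show ι q * y = y * ι q from e.symm] at h
      simp at h
  have hccard : Nat.card (Subgroup.center Q) = 2 := by
    have hset : (Subgroup.center Q : Set Q) = {1, zq} := by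
      ext q
      refine ⟨fun hq => hcen q hq, ?_⟩
      rintro (rfl | rfl)
      exacts [one_mem _, hzq']
    rw [← SetLike.coe_sort_coe, Nat.card_coe_set_eq, hset, Set.ncard_pair (Ne.symm hz1)]
  have hcomm : ∀ a b : Q, a * b = b * a ∨ a * b = zq * (b * a) := by
    intro a b
    rcases (hspec _ (hin a)).1.2 _ (hin b) with h | h
    · exact Or.inl (hι (by rw [map_mul, map_mul]; exact c.inj _ _ (by rw [c.mul, c.mul]; exact Nat.eq_of_beq_eq_true h)))
    · exact Or.inr (hι (by
        rw [map_mul, map_mul, map_mul]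
        exact c.inj _ _ (by rw [c.mul, c.mul, c.mul, show ι zq = c.z from rfl, c.z_code]; exact Nat.eq_of_beq_eq_true h)))
  have hd : commutator Q = Subgroup.center Q := by
    refine le_antisymm ?_ ?_
    · rw [commutator_def, Subgroup.commutator_le]
      intro a _ b _
      rcases hcomm a b with h | h
      · rw [commutatorElement_eq_one_iff_mul_comm.2 h]; exact one_mem _
      · have : ⁅a, b⁆ = zq := by
          rw [commutatorElement_def, h]; group
        rw [this]; exact hzq'
    · intro q hq
      rcases hcen q hq with rfl | rfl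
      · exact one_mem _
      by_contra hno
      have hall : ∀ a b : Q, a * b = b * a := fun a b => (hcomm a b).resolve_right fun h => hno (by
        have : ⁅a, b⁆ = zq := by rw [commutatorElement_def, h]; group
        rw [← this]
        exact Subgroup.commutator_mem_commutator (Subgroup.mem_top a) (Subgroup.mem_top b))
      have htop : Subgroup.center Q = ⊤ := eq_top_iff.2 fun x _ => Subgroup.mem_center_iff.2 fun g => hall g x
      rw [htop, Subgroup.card_top, hQcard] at hccard
      omega
  have hsq : ∀ a : Q, a ^ 2 ∈ Subgroup.center Q := by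
    intro a
    rcases (hspec _ (hin a)).1.1 with h | h
    · rw [show a ^ 2 = 1 from hι (by
        rw [map_one, map_pow, pow_two]; exact c.inj _ _ (by rw [c.mul, c.one]; exact Nat.eq_of_beq_eq_true h))]
      exact one_mem _
    · rw [show a ^ 2 = zq from hι (by
        rw [map_pow, pow_two]
        exact c.inj _ _ (by rw [c.mul, show ι zq = c.z from rfl, c.z_code]; exact Nat.eq_of_beq_eq_true h))]
      exact hzq'
  refine ⟨Q, hQn, Solv.isExtraspecial_of (IsPGroup.of_card (n := 5) (by rw [hQcard]; norm_num)) hccard hd hsq, hQcard,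
    ?_, ?_⟩
  · rintro E ⟨hEc, hE2⟩
    by_contra hlt
    let f : E → ℕ := fun e => c.L (ι e)
    have hfinj : Function.Injective f := fun a b h => Subtype.ext (hι (c.inj _ _ h))
    have key : ∀ a : E, a ≠ 1 → f a ∈ qTree.flat.filter fun a => Nat.beq (mulC a a) oneC && !(Nat.beq a oneC) := by
      intro a ha
      rw [List.mem_filter]
      refine ⟨hin _, ?_⟩
      simp only [Bool.and_eq_true, Bool.not_eq_eq_eq_not, Bool.not_true]
      refine ⟨?_, Bool.eq_false_iff.2 fun h => ha (Subtype.ext (hι (c.inj _ _ ?_)))⟩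
      · have h2 : a * a = 1 := by rw [← pow_two]; exact Subtype.ext (hE2 _ a.2)
        rw [← c.mul, ← map_mul, ← Subgroup.coe_mul, h2, Subgroup.coe_one, map_one, c.one]
        exact Nat.beq_refl oneC
      · have h' : c.L (ι (a : Q)) = oneC := Nat.eq_of_beq_eq_true h
        rw [h', Subgroup.coe_one, map_one, c.one]
    haveI : Fintype E := Fintype.ofFinite _
    have hfour : 4 < (Finset.univ : Finset E).card := by
      rw [Finset.card_univ, ← Nat.card_eq_fintype_card]; omega
    obtain ⟨a, -, ha⟩ := Finset.exists_mem_notMem_of_card_lt_card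
      (show ({1} : Finset E).card < (Finset.univ : Finset E).card by rw [Finset.card_singleton]; omega)
    obtain ⟨b, -, hb⟩ := Finset.exists_mem_notMem_of_card_lt_card
      (show ({1, a} : Finset E).card < (Finset.univ : Finset E).card from lt_of_le_of_lt Finset.card_le_two (by omega))
    obtain ⟨d, -, hd'⟩ := Finset.exists_mem_notMem_of_card_lt_card
      (show ({1, a, b, a * b} : Finset E).card < (Finset.univ : Finset E).card from
        lt_of_le_of_lt Finset.card_le_four hfour)
    simp only [Finset.mem_insert, Finset.mem_singleton, not_or] at ha hb hd'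
    have hr := qRank_ok
    simp only [qRankOK, List.all_eq_true, Bool.or_eq_true, Bool.not_eq_eq_eq_not, Bool.not_true] at hr
    have hfm : ∀ x y : E, mulC (f x) (f y) = f (x * y) := fun x y => by
      show mulC (c.L _) (c.L _) = c.L _
      rw [← c.mul, ← map_mul, ← Subgroup.coe_mul]
    have hcm : ∀ x y : E, x * y = y * x := fun x y => hEc.is_comm.comm x y
    rcases hr _ (key a ha) _ (key b hb.1) with (h | h) | h
    · exact hb.2 (hfinj (Nat.eq_of_beq_eq_true h)).symm
    · rw [hfm, hfm, hcm a b] at h; simp at h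
    rcases h _ (key d hd'.1) with (((h | h) | h) | h) | h
    · exact hd'.2.1 (hfinj (Nat.eq_of_beq_eq_true h))
    · exact hd'.2.2.1 (hfinj (Nat.eq_of_beq_eq_true h))
    · rw [hfm] at h; exact hd'.2.2.2 (hfinj (Nat.eq_of_beq_eq_true h))
    · rw [hfm, hfm, hcm a d] at h; simp at h
    · rw [hfm, hfm, hcm b d] at h; simp at h
  have hcompl : Q.IsComplement' H := by
    refine Subgroup.isComplement'_of_card_mul_and_disjoint (by rw [hQcard, hHcard, hcard]) (disjoint_iff.2 ((Subgroup.eq_bot_iff_forall _).2 ?_))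
    rintro x ⟨hx1, hx2⟩
    have h := List.all_eq_true.1 qh_trivial _ (Tr.mem_flat ((hKiff _).1 (Subgroup.mem_subgroupOf.1 hx1)))
    simp only [Bool.or_eq_true, Bool.not_eq_eq_eq_not, Bool.not_true] at h
    rcases h with h | h
    · rw [(hMiff _).1 (Subgroup.mem_subgroupOf.1 hx2)] at h
      exact absurd h (by decide)
    · exact Subtype.ext (c.inj _ _ ((Nat.eq_of_beq_eq_true h).trans c.one.symm))
  refine ⟨⟨H, hcompl⟩, ?_⟩
  obtain ⟨hmul, hone, hinj⟩ : (∀ a ∈ hTree.flat, ∀ b ∈ hTree.flat, ∀ k, actC (mulC a b) k = actC a (actC b k)) ∧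
      (∀ k, actC oneC k = k) ∧ (∀ a ∈ hTree.flat, a = oneC ∨ ∃ k, actC a k ≠ k) := by
    have h := act_ok
    simp only [Bool.and_eq_true, List.all_eq_true, List.any_eq_true, Bool.or_eq_true, beq_iff_eq,
      Bool.not_eq_eq_eq_not, Bool.not_true, beq_eq_false_iff_ne] at h
    refine ⟨fun a ha b hb k => h.1.1 a ha b hb k (List.mem_finRange k), fun k => h.1.2 k (List.mem_finRange k),
      fun a ha => (h.2 a ha).imp Nat.eq_of_beq_eq_true fun ⟨k, _, hk⟩ => ⟨k, hk⟩⟩
  have hmem : ∀ x : H, c.L ((x : c.C) : J) ∈ hTree.flat := fun x =>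
    Tr.mem_flat ((hMiff _).1 (Subgroup.mem_subgroupOf.1 x.2))
  let φ : H →* Equiv.Perm (Fin 5) :=
    MonoidHom.mk' (fun x => ⟨actC (c.L ((x : c.C) : J)), actC (c.L (((x⁻¹ : H) : c.C) : J)), fun k => by
        rw [← hmul _ (hmem _) _ (hmem _), ← c.mul, ← Subgroup.coe_mul, ← Subgroup.coe_mul, inv_mul_cancel,
          Subgroup.coe_one, Subgroup.coe_one, c.one, hone],
      fun k => by
        rw [← hmul _ (hmem _) _ (hmem _), ← c.mul, ← Subgroup.coe_mul, ← Subgroup.coe_mul, mul_inv_cancel,
          Subgroup.coe_one, Subgroup.coe_one, c.one, hone]⟩) fun x y => Equiv.ext fun k => by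
      show actC (c.L (((x * y : H) : c.C) : J)) k = _
      rw [Subgroup.coe_mul, Subgroup.coe_mul, c.mul, hmul _ (hmem _) _ (hmem _)]
      rfl
  have hφ : Function.Injective φ := (injective_iff_map_eq_one φ).2 fun x hx => by
    rcases hinj _ (hmem x) with h | ⟨k, hk⟩
    · exact Subtype.ext (Subtype.ext (c.inj _ _ (h.trans c.one.symm)))
    · exact absurd (congrFun (congrArg DFunLike.coe hx) k) hk
  obtain ⟨e⟩ := alt_five_of_embedding φ hφ hHcard
  exact ⟨(hcompl.symm.QuotientMulEquiv).trans e⟩

end Coded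

end Cfsg.Agent.Local.FS.JankoThree
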