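import Cfsg.Agent.Lib.Local.FS.JankoThreeClassDefs

/-!
A share of the checks of the table of involutions.
-/

set_option autoImplicit false
set_option maxRecDepth 100000

namespace Cfsg.Agent.Local.FS.JankoThree

theorem cls_1 : runOK clsOK 512 512 = true := by decide +kernel

theorem ord_1 : runOK ordOK 512 512 = true := by decide +kernel

theorem cls_5 : runOK clsOK 2560 512 = true := by decide +kernel

theorem ord_5 : runOK ordOK 2560 512 = true := by decide +kernel

theorem cls_9 : runOK clsOK 4608 512 = true := by decide +kernel

theorem ord_9 : runOK ordOK 4608 512 = true := by decide +kernel

theorem cls_13 : runOK clsOK 6656 512 = true := by decide +kernel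

theorem ord_13 : runOK ordOK 6656 512 = true := by decide +kernel

theorem cls_17 : runOK clsOK 8704 512 = true := by decide +kernel

theorem ord_17 : runOK ordOK 8704 512 = true := by decide +kernel

theorem cls_21 : runOK clsOK 10752 512 = true := by decide +kernel

theorem ord_21 : runOK ordOK 10752 512 = true := by decide +kernel

theorem cls_25 : runOK clsOK 12800 512 = true := by decide +kernel

theorem ord_25 : runOK ordOK 12800 512 = true := by decide +kernel

theorem cls_29 : runOK clsOK 14848 512 = true := by decide +kernel

theorem ord_29 : runOK ordOK 14848 512 = true := by decide +kernel

theorem cls_33 : runOK clsOK 16896 512 = true := by decide +kernel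

theorem ord_33 : runOK ordOK 16896 512 = true := by decide +kernel

theorem cls_37 : runOK clsOK 18944 512 = true := by decide +kernel

theorem ord_37 : runOK ordOK 18944 512 = true := by decide +kernel

theorem cls_41 : runOK clsOK 20992 512 = true := by decide +kernel

theorem ord_41 : runOK ordOK 20992 512 = true := by decide +kernel

theorem cls_45 : runOK clsOK 23040 512 = true := by decide +kernel

theorem ord_45 : runOK ordOK 23040 512 = true := by decide +kernel

theorem cls_49 : runOK clsOK 25088 512 = true := by decide +kernel

theorem ord_49 : runOK ordOK 25088 512 = true := by decide +kernel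

end Cfsg.Agent.Local.FS.JankoThree
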