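import Cfsg.Agent.Lib.Local.FS.JankoThreeClassDefs

/-!
A share of the checks of the table of involutions.
-/

set_option autoImplicit false
set_option maxRecDepth 100000

namespace Cfsg.Agent.Local.FS.JankoThree

theorem cls_2 : runOK clsOK 1024 512 = true := by decide +kernel

theorem ord_2 : runOK ordOK 1024 512 = true := by decide +kernel

theorem cls_6 : runOK clsOK 3072 512 = true := by decide +kernel

theorem ord_6 : runOK ordOK 3072 512 = true := by decide +kernel

theorem cls_10 : runOK clsOK 5120 512 = true := by decide +kernel

theorem ord_10 : runOK ordOK 5120 512 = true := by decide +kernel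

theorem cls_14 : runOK clsOK 7168 512 = true := by decide +kernel

theorem ord_14 : runOK ordOK 7168 512 = true := by decide +kernel

theorem cls_18 : runOK clsOK 9216 512 = true := by decide +kernel

theorem ord_18 : runOK ordOK 9216 512 = true := by decide +kernel

theorem cls_22 : runOK clsOK 11264 512 = true := by decide +kernel

theorem ord_22 : runOK ordOK 11264 512 = true := by decide +kernel

theorem cls_26 : runOK clsOK 13312 512 = true := by decide +kernel

theorem ord_26 : runOK ordOK 13312 512 = true := by decide +kernel

theorem cls_30 : runOK clsOK 15360 512 = true := by decide +kernel

theorem ord_30 : runOK ordOK 15360 512 = true := by decide +kernel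

theorem cls_34 : runOK clsOK 17408 512 = true := by decide +kernel

theorem ord_34 : runOK ordOK 17408 512 = true := by decide +kernel

theorem cls_38 : runOK clsOK 19456 512 = true := by decide +kernel

theorem ord_38 : runOK ordOK 19456 512 = true := by decide +kernel

theorem cls_42 : runOK clsOK 21504 512 = true := by decide +kernel

theorem ord_42 : runOK ordOK 21504 512 = true := by decide +kernel

theorem cls_46 : runOK clsOK 23552 512 = true := by decide +kernel

theorem ord_46 : runOK ordOK 23552 512 = true := by decide +kernel

theorem cls_50 : runOK clsOK 25600 512 = true := by decide +kernel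

theorem ord_50 : runOK ordOK 25600 512 = true := by decide +kernel

end Cfsg.Agent.Local.FS.JankoThree
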