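import Cfsg.Agent.Lib.Local.FS.JankoThreeClassDefs

/-!
A share of the checks of the table of involutions.
-/

set_option autoImplicit false
set_option maxRecDepth 100000

namespace Cfsg.Agent.Local.FS.JankoThree

theorem cls_3 : runOK clsOK 1536 512 = true := by decide +kernel

theorem ord_3 : runOK ordOK 1536 512 = true := by decide +kernel

theorem cls_7 : runOK clsOK 3584 512 = true := by decide +kernel

theorem ord_7 : runOK ordOK 3584 512 = true := by decide +kernel

theorem cls_11 : runOK clsOK 5632 512 = true := by decide +kernel

theorem ord_11 : runOK ordOK 5632 512 = true := by decide +kernel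

theorem cls_15 : runOK clsOK 7680 512 = true := by decide +kernel

theorem ord_15 : runOK ordOK 7680 512 = true := by decide +kernel

theorem cls_19 : runOK clsOK 9728 512 = true := by decide +kernel

theorem ord_19 : runOK ordOK 9728 512 = true := by decide +kernel

theorem cls_23 : runOK clsOK 11776 512 = true := by decide +kernel

theorem ord_23 : runOK ordOK 11776 512 = true := by decide +kernel

theorem cls_27 : runOK clsOK 13824 512 = true := by decide +kernel

theorem ord_27 : runOK ordOK 13824 512 = true := by decide +kernel

theorem cls_31 : runOK clsOK 15872 512 = true := by decide +kernel

theorem ord_31 : runOK ordOK 15872 512 = true := by decide +kernel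

theorem cls_35 : runOK clsOK 17920 512 = true := by decide +kernel

theorem ord_35 : runOK ordOK 17920 512 = true := by decide +kernel

theorem cls_39 : runOK clsOK 19968 512 = true := by decide +kernel

theorem ord_39 : runOK ordOK 19968 512 = true := by decide +kernel

theorem cls_43 : runOK clsOK 22016 512 = true := by decide +kernel

theorem ord_43 : runOK ordOK 22016 512 = true := by decide +kernel

theorem cls_47 : runOK clsOK 24064 512 = true := by decide +kernel

theorem ord_47 : runOK ordOK 24064 512 = true := by decide +kernel

theorem cls_51 : runOK clsOK 26112 51 = true := by decide +kernel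

theorem ord_51 : runOK ordOK 26112 51 = true := by decide +kernel

end Cfsg.Agent.Local.FS.JankoThree
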