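import Cfsg.Agent.Lib.Local.FS.JankoThreeClassCheck0
import Cfsg.Agent.Lib.Local.FS.JankoThreeClassCheck1
import Cfsg.Agent.Lib.Local.FS.JankoThreeClassCheck2
import Cfsg.Agent.Lib.Local.FS.JankoThreeClassCheck3

/-!
The table of involutions is correct.
-/

set_option autoImplicit false
set_option maxRecDepth 100000

namespace Cfsg.Agent.Local.FS.JankoThree

theorem cls_all (i : ℕ) (hi : i < 26163) : clsOK i = true := by
  rcases Nat.lt_or_ge i 13312 with h | h
  · skip
    rcases Nat.lt_or_ge i 6656 with h | h
    · skip
      rcases Nat.lt_or_ge i 3072 with h | h
      · skip
        rcases Nat.lt_or_ge i 1536 with h | h
        · skip
          rcases Nat.lt_or_ge i 512 with h | h
          · skip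
            exact runOK_spec cls_0 (by omega) (by omega)
          · skip
            rcases Nat.lt_or_ge i 1024 with h | h
            · skip
              exact runOK_spec cls_1 (by omega) (by omega)
            · skip
              exact runOK_spec cls_2 (by omega) (by omega)
        · skip
          rcases Nat.lt_or_ge i 2048 with h | h
          · skip
            exact runOK_spec cls_3 (by omega) (by omega)
          · skip
            rcases Nat.lt_or_ge i 2560 with h | h
            · skip
              exact runOK_spec cls_4 (by omega) (by omega)
            · skip
              exact runOK_spec cls_5 (by omega) (by omega)
      · skip
        rcases Nat.lt_or_ge i 4608 with h | h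
        · skip
          rcases Nat.lt_or_ge i 3584 with h | h
          · skip
            exact runOK_spec cls_6 (by omega) (by omega)
          · skip
            rcases Nat.lt_or_ge i 4096 with h | h
            · skip
              exact runOK_spec cls_7 (by omega) (by omega)
            · skip
              exact runOK_spec cls_8 (by omega) (by omega)
        · skip
          rcases Nat.lt_or_ge i 5632 with h | h
          · skip
            rcases Nat.lt_or_ge i 5120 with h | h
            · skip
              exact runOK_spec cls_9 (by omega) (by omega)
            · skip
              exact runOK_spec cls_10 (by omega) (by omega)
          · skip
            rcases Nat.lt_or_ge i 6144 with h | h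
            · skip
              exact runOK_spec cls_11 (by omega) (by omega)
            · skip
              exact runOK_spec cls_12 (by omega) (by omega)
    · skip
      rcases Nat.lt_or_ge i 9728 with h | h
      · skip
        rcases Nat.lt_or_ge i 8192 with h | h
        · skip
          rcases Nat.lt_or_ge i 7168 with h | h
          · skip
            exact runOK_spec cls_13 (by omega) (by omega)
          · skip
            rcases Nat.lt_or_ge i 7680 with h | h
            · skip
              exact runOK_spec cls_14 (by omega) (by omega)
            · skip
              exact runOK_spec cls_15 (by omega) (by omega)
        · skip
          rcases Nat.lt_or_ge i 8704 with h | h
          · skip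
            exact runOK_spec cls_16 (by omega) (by omega)
          · skip
            rcases Nat.lt_or_ge i 9216 with h | h
            · skip
              exact runOK_spec cls_17 (by omega) (by omega)
            · skip
              exact runOK_spec cls_18 (by omega) (by omega)
      · skip
        rcases Nat.lt_or_ge i 11264 with h | h
        · skip
          rcases Nat.lt_or_ge i 10240 with h | h
          · skip
            exact runOK_spec cls_19 (by omega) (by omega)
          · skip
            rcases Nat.lt_or_ge i 10752 with h | h
            · skip
              exact runOK_spec cls_20 (by omega) (by omega)
            · skip
              exact runOK_spec cls_21 (by omega) (by omega)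
        · skip
          rcases Nat.lt_or_ge i 12288 with h | h
          · skip
            rcases Nat.lt_or_ge i 11776 with h | h
            · skip
              exact runOK_spec cls_22 (by omega) (by omega)
            · skip
              exact runOK_spec cls_23 (by omega) (by omega)
          · skip
            rcases Nat.lt_or_ge i 12800 with h | h
            · skip
              exact runOK_spec cls_24 (by omega) (by omega)
            · skip
              exact runOK_spec cls_25 (by omega) (by omega)
  · skip
    rcases Nat.lt_or_ge i 19968 with h | h
    · skip
      rcases Nat.lt_or_ge i 16384 with h | h
      · skip
        rcases Nat.lt_or_ge i 14848 with h | h
        · skip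
          rcases Nat.lt_or_ge i 13824 with h | h
          · skip
            exact runOK_spec cls_26 (by omega) (by omega)
          · skip
            rcases Nat.lt_or_ge i 14336 with h | h
            · skip
              exact runOK_spec cls_27 (by omega) (by omega)
            · skip
              exact runOK_spec cls_28 (by omega) (by omega)
        · skip
          rcases Nat.lt_or_ge i 15360 with h | h
          · skip
            exact runOK_spec cls_29 (by omega) (by omega)
          · skip
            rcases Nat.lt_or_ge i 15872 with h | h
            · skip
              exact runOK_spec cls_30 (by omega) (by omega)
            · skip
              exact runOK_spec cls_31 (by omega) (by omega)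
      · skip
        rcases Nat.lt_or_ge i 17920 with h | h
        · skip
          rcases Nat.lt_or_ge i 16896 with h | h
          · skip
            exact runOK_spec cls_32 (by omega) (by omega)
          · skip
            rcases Nat.lt_or_ge i 17408 with h | h
            · skip
              exact runOK_spec cls_33 (by omega) (by omega)
            · skip
              exact runOK_spec cls_34 (by omega) (by omega)
        · skip
          rcases Nat.lt_or_ge i 18944 with h | h
          · skip
            rcases Nat.lt_or_ge i 18432 with h | h
            · skip
              exact runOK_spec cls_35 (by omega) (by omega)
            · skip
              exact runOK_spec cls_36 (by omega) (by omega)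
          · skip
            rcases Nat.lt_or_ge i 19456 with h | h
            · skip
              exact runOK_spec cls_37 (by omega) (by omega)
            · skip
              exact runOK_spec cls_38 (by omega) (by omega)
    · skip
      rcases Nat.lt_or_ge i 23040 with h | h
      · skip
        rcases Nat.lt_or_ge i 21504 with h | h
        · skip
          rcases Nat.lt_or_ge i 20480 with h | h
          · skip
            exact runOK_spec cls_39 (by omega) (by omega)
          · skip
            rcases Nat.lt_or_ge i 20992 with h | h
            · skip
              exact runOK_spec cls_40 (by omega) (by omega)
            · skip
              exact runOK_spec cls_41 (by omega) (by omega)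
        · skip
          rcases Nat.lt_or_ge i 22016 with h | h
          · skip
            exact runOK_spec cls_42 (by omega) (by omega)
          · skip
            rcases Nat.lt_or_ge i 22528 with h | h
            · skip
              exact runOK_spec cls_43 (by omega) (by omega)
            · skip
              exact runOK_spec cls_44 (by omega) (by omega)
      · skip
        rcases Nat.lt_or_ge i 24576 with h | h
        · skip
          rcases Nat.lt_or_ge i 23552 with h | h
          · skip
            exact runOK_spec cls_45 (by omega) (by omega)
          · skip
            rcases Nat.lt_or_ge i 24064 with h | h
            · skip
              exact runOK_spec cls_46 (by omega) (by omega)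
            · skip
              exact runOK_spec cls_47 (by omega) (by omega)
        · skip
          rcases Nat.lt_or_ge i 25600 with h | h
          · skip
            rcases Nat.lt_or_ge i 25088 with h | h
            · skip
              exact runOK_spec cls_48 (by omega) (by omega)
            · skip
              exact runOK_spec cls_49 (by omega) (by omega)
          · skip
            rcases Nat.lt_or_ge i 26112 with h | h
            · skip
              exact runOK_spec cls_50 (by omega) (by omega)
            · skip
              exact runOK_spec cls_51 (by omega) (by omega)

theorem ord_all (i : ℕ) (hi : i < 26163) : ordOK i = true := by
  rcases Nat.lt_or_ge i 13312 with h | h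
  · skip
    rcases Nat.lt_or_ge i 6656 with h | h
    · skip
      rcases Nat.lt_or_ge i 3072 with h | h
      · skip
        rcases Nat.lt_or_ge i 1536 with h | h
        · skip
          rcases Nat.lt_or_ge i 512 with h | h
          · skip
            exact runOK_spec ord_0 (by omega) (by omega)
          · skip
            rcases Nat.lt_or_ge i 1024 with h | h
            · skip
              exact runOK_spec ord_1 (by omega) (by omega)
            · skip
              exact runOK_spec ord_2 (by omega) (by omega)
        · skip
          rcases Nat.lt_or_ge i 2048 with h | h
          · skip
            exact runOK_spec ord_3 (by omega) (by omega)
          · skip
            rcases Nat.lt_or_ge i 2560 with h | h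
            · skip
              exact runOK_spec ord_4 (by omega) (by omega)
            · skip
              exact runOK_spec ord_5 (by omega) (by omega)
      · skip
        rcases Nat.lt_or_ge i 4608 with h | h
        · skip
          rcases Nat.lt_or_ge i 3584 with h | h
          · skip
            exact runOK_spec ord_6 (by omega) (by omega)
          · skip
            rcases Nat.lt_or_ge i 4096 with h | h
            · skip
              exact runOK_spec ord_7 (by omega) (by omega)
            · skip
              exact runOK_spec ord_8 (by omega) (by omega)
        · skip
          rcases Nat.lt_or_ge i 5632 with h | h
          · skip
            rcases Nat.lt_or_ge i 5120 with h | h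
            · skip
              exact runOK_spec ord_9 (by omega) (by omega)
            · skip
              exact runOK_spec ord_10 (by omega) (by omega)
          · skip
            rcases Nat.lt_or_ge i 6144 with h | h
            · skip
              exact runOK_spec ord_11 (by omega) (by omega)
            · skip
              exact runOK_spec ord_12 (by omega) (by omega)
    · skip
      rcases Nat.lt_or_ge i 9728 with h | h
      · skip
        rcases Nat.lt_or_ge i 8192 with h | h
        · skip
          rcases Nat.lt_or_ge i 7168 with h | h
          · skip
            exact runOK_spec ord_13 (by omega) (by omega)
          · skip
            rcases Nat.lt_or_ge i 7680 with h | h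
            · skip
              exact runOK_spec ord_14 (by omega) (by omega)
            · skip
              exact runOK_spec ord_15 (by omega) (by omega)
        · skip
          rcases Nat.lt_or_ge i 8704 with h | h
          · skip
            exact runOK_spec ord_16 (by omega) (by omega)
          · skip
            rcases Nat.lt_or_ge i 9216 with h | h
            · skip
              exact runOK_spec ord_17 (by omega) (by omega)
            · skip
              exact runOK_spec ord_18 (by omega) (by omega)
      · skip
        rcases Nat.lt_or_ge i 11264 with h | h
        · skip
          rcases Nat.lt_or_ge i 10240 with h | h
          · skip
            exact runOK_spec ord_19 (by omega) (by omega)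
          · skip
            rcases Nat.lt_or_ge i 10752 with h | h
            · skip
              exact runOK_spec ord_20 (by omega) (by omega)
            · skip
              exact runOK_spec ord_21 (by omega) (by omega)
        · skip
          rcases Nat.lt_or_ge i 12288 with h | h
          · skip
            rcases Nat.lt_or_ge i 11776 with h | h
            · skip
              exact runOK_spec ord_22 (by omega) (by omega)
            · skip
              exact runOK_spec ord_23 (by omega) (by omega)
          · skip
            rcases Nat.lt_or_ge i 12800 with h | h
            · skip
              exact runOK_spec ord_24 (by omega) (by omega)
            · skip
              exact runOK_spec ord_25 (by omega) (by omega)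
  · skip
    rcases Nat.lt_or_ge i 19968 with h | h
    · skip
      rcases Nat.lt_or_ge i 16384 with h | h
      · skip
        rcases Nat.lt_or_ge i 14848 with h | h
        · skip
          rcases Nat.lt_or_ge i 13824 with h | h
          · skip
            exact runOK_spec ord_26 (by omega) (by omega)
          · skip
            rcases Nat.lt_or_ge i 14336 with h | h
            · skip
              exact runOK_spec ord_27 (by omega) (by omega)
            · skip
              exact runOK_spec ord_28 (by omega) (by omega)
        · skip
          rcases Nat.lt_or_ge i 15360 with h | h
          · skip
            exact runOK_spec ord_29 (by omega) (by omega)
          · skip
            rcases Nat.lt_or_ge i 15872 with h | h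
            · skip
              exact runOK_spec ord_30 (by omega) (by omega)
            · skip
              exact runOK_spec ord_31 (by omega) (by omega)
      · skip
        rcases Nat.lt_or_ge i 17920 with h | h
        · skip
          rcases Nat.lt_or_ge i 16896 with h | h
          · skip
            exact runOK_spec ord_32 (by omega) (by omega)
          · skip
            rcases Nat.lt_or_ge i 17408 with h | h
            · skip
              exact runOK_spec ord_33 (by omega) (by omega)
            · skip
              exact runOK_spec ord_34 (by omega) (by omega)
        · skip
          rcases Nat.lt_or_ge i 18944 with h | h
          · skip
            rcases Nat.lt_or_ge i 18432 with h | h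
            · skip
              exact runOK_spec ord_35 (by omega) (by omega)
            · skip
              exact runOK_spec ord_36 (by omega) (by omega)
          · skip
            rcases Nat.lt_or_ge i 19456 with h | h
            · skip
              exact runOK_spec ord_37 (by omega) (by omega)
            · skip
              exact runOK_spec ord_38 (by omega) (by omega)
    · skip
      rcases Nat.lt_or_ge i 23040 with h | h
      · skip
        rcases Nat.lt_or_ge i 21504 with h | h
        · skip
          rcases Nat.lt_or_ge i 20480 with h | h
          · skip
            exact runOK_spec ord_39 (by omega) (by omega)
          · skip
            rcases Nat.lt_or_ge i 20992 with h | h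
            · skip
              exact runOK_spec ord_40 (by omega) (by omega)
            · skip
              exact runOK_spec ord_41 (by omega) (by omega)
        · skip
          rcases Nat.lt_or_ge i 22016 with h | h
          · skip
            exact runOK_spec ord_42 (by omega) (by omega)
          · skip
            rcases Nat.lt_or_ge i 22528 with h | h
            · skip
              exact runOK_spec ord_43 (by omega) (by omega)
            · skip
              exact runOK_spec ord_44 (by omega) (by omega)
      · skip
        rcases Nat.lt_or_ge i 24576 with h | h
        · skip
          rcases Nat.lt_or_ge i 23552 with h | h
          · skip
            exact runOK_spec ord_45 (by omega) (by omega)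
          · skip
            rcases Nat.lt_or_ge i 24064 with h | h
            · skip
              exact runOK_spec ord_46 (by omega) (by omega)
            · skip
              exact runOK_spec ord_47 (by omega) (by omega)
        · skip
          rcases Nat.lt_or_ge i 25600 with h | h
          · skip
            rcases Nat.lt_or_ge i 25088 with h | h
            · skip
              exact runOK_spec ord_48 (by omega) (by omega)
            · skip
              exact runOK_spec ord_49 (by omega) (by omega)
          · skip
            rcases Nat.lt_or_ge i 26112 with h | h
            · skip
              exact runOK_spec ord_50 (by omega) (by omega)
            · skip
              exact runOK_spec ord_51 (by omega) (by omega)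

end Cfsg.Agent.Local.FS.JankoThree
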