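import Cfsg.Agent.Lib.Local.FS.JankoThreeClassDefs

/-!
A share of the checks of the table of involutions.
-/

set_option autoImplicit false
set_option maxRecDepth 100000

namespace Cfsg.Agent.Local.FS.JankoThree

theorem cls_0 : runOK clsOK 0 512 = true := by decide +kernel

theorem ord_0 : runOK ordOK 0 512 = true := by decide +kernel

theorem cls_4 : runOK clsOK 2048 512 = true := by decide +kernel

theorem ord_4 : runOK ordOK 2048 512 = true := by decide +kernel

theorem cls_8 : runOK clsOK 4096 512 = true := by decide +kernel

theorem ord_8 : runOK ordOK 4096 512 = true := by decide +kernel

theorem cls_12 : runOK clsOK 6144 512 = true := by decide +kernel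

theorem ord_12 : runOK ordOK 6144 512 = true := by decide +kernel

theorem cls_16 : runOK clsOK 8192 512 = true := by decide +kernel

theorem ord_16 : runOK ordOK 8192 512 = true := by decide +kernel

theorem cls_20 : runOK clsOK 10240 512 = true := by decide +kernel

theorem ord_20 : runOK ordOK 10240 512 = true := by decide +kernel

theorem cls_24 : runOK clsOK 12288 512 = true := by decide +kernel

theorem ord_24 : runOK ordOK 12288 512 = true := by decide +kernel

theorem cls_28 : runOK clsOK 14336 512 = true := by decide +kernel

theorem ord_28 : runOK ordOK 14336 512 = true := by decide +kernel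

theorem cls_32 : runOK clsOK 16384 512 = true := by decide +kernel

theorem ord_32 : runOK ordOK 16384 512 = true := by decide +kernel

theorem cls_36 : runOK clsOK 18432 512 = true := by decide +kernel

theorem ord_36 : runOK ordOK 18432 512 = true := by decide +kernel

theorem cls_40 : runOK clsOK 20480 512 = true := by decide +kernel

theorem ord_40 : runOK ordOK 20480 512 = true := by decide +kernel

theorem cls_44 : runOK clsOK 22528 512 = true := by decide +kernel

theorem ord_44 : runOK ordOK 22528 512 = true := by decide +kernel

theorem cls_48 : runOK clsOK 24576 512 = true := by decide +kernel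

theorem ord_48 : runOK ordOK 24576 512 = true := by decide +kernel

end Cfsg.Agent.Local.FS.JankoThree
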