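import Cfsg.Agent.Lib.Local.FS.JankoThreeClassData

/-!
Checks for the table of involutions.
-/

set_option autoImplicit false
set_option maxRecDepth 100000

namespace Cfsg.Agent.Local.FS.JankoThree

/-- the four conjugating elements -/
def conjL : List ℕ := [1981808979188161952336623485613036038504817519354, 60194073933272771880835237029379353864458375227, 203916402471886113263081568491196377212297545257, 687478053518965163994118333408169159572245850948]

/-- their inverses -/
def conjR : List ℕ := [203916402471886113263081568491196377212297545257, 687478053518965163994118333408169159572245850948, 1981808979188161952336623485613036038504817519354, 60194073933272771880835237029379353864458375227]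

/-- one entry is a conjugate of an earlier one -/
def clsOK (i : ℕ) : Bool :=
  bif Nat.beq i 0 then Nat.beq (clsElt 0) 2624073653865705923673256078388601416447680724080 else
    Nat.blt (Nat.shiftRight (clsPar i) 2) i &&
      Nat.beq (clsElt i) (mulC (conjL.getD (Nat.land (clsPar i) 3) oneC)
        (mulC (clsElt (Nat.shiftRight (clsPar i) 2)) (conjR.getD (Nat.land (clsPar i) 3) oneC)))

/-- the sorted order is strict -/
def ordOK (i : ℕ) : Bool :=
  Nat.blt (clsOrd i) 26163 && (Nat.ble 26162 i || Nat.blt (clsElt (clsOrd i)) (clsElt (clsOrd (Nat.add i 1))))

/-- a run of the checks -/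
def runOK (f : ℕ → Bool) (lo n : ℕ) : Bool := (List.range n).all fun i => f (Nat.add lo i)

theorem runOK_spec {f : ℕ → Bool} {lo n : ℕ} (h : runOK f lo n = true) {i : ℕ} (h1 : lo ≤ i) (h2 : i < lo + n) :
    f i = true := by
  have := List.all_eq_true.1 h (i - lo) (List.mem_range.2 (by omega))
  rwa [show Nat.add lo (i - lo) = i from Nat.add_sub_cancel' h1] at this

end Cfsg.Agent.Local.FS.JankoThree
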