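import Cfsg.Agent.Lib.Local.FS.JankoThreeSimple

/-!
The semilinear automorphism of the third Janko group is not inner.
-/

set_option autoImplicit false
set_option maxRecDepth 100000

noncomputable section

namespace Cfsg.Agent.Local.FS.JankoThree

open Cfsg Matrix Cfsg.Agent.Spor.J3Cert
open Cfsg.Spor (F9 threeJ3 j3Gens)

/-- conjugation of the nine indices -/
def barIdx : F9 ≃ F9 := ⟨fun z => (z.1, -z.2), fun z => (z.1, -z.2), fun z => by simp, fun z => by simp⟩

/-- two matrices correspond under the semilinear map -/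
def barOK (k M : ℕ) : Bool :=
  (List.range 9).all fun w => (List.range 9).all fun z =>
    (fun e => entB M (pt w) (pt z) == (xor e.1 e.2, e.2)) (entB (onePMat k) (barIdx.symm (pt w)) (barIdx.symm (pt z)))

theorem bar_gens : ((List.range 43).all fun k => (List.range 43).any fun j =>
    barOK k (onePMat j) || barOK k (mulM (onePMat j) (onePMat j))) = true := by decide +kernel

variable {F : Type} [Field F] [Fintype F] [DecidableEq F] {ω : F}
variable (hF : Fintype.card F = 4) (hω : ω ^ 2 + ω + 1 = 0)

include hF hω in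
theorem exists_outer : ∃ φ : MulAut (Spor.J3 F ω), ∀ g, φ ≠ MulAut.conj g := by
  have h2 := two_zero hF
  let fr : F →+* F :=
    { toFun := fun x => x ^ 2
      map_one' := one_pow 2
      map_mul' := fun a b => mul_pow a b 2
      map_zero' := zero_pow two_ne_zero
      map_add' := fun a b => by linear_combination a * b * h2 }
  have hfr : Function.Bijective fr := Finite.injective_iff_bijective.1 fr.injective
  let ρ : F ≃+* F := RingEquiv.ofBijective fr hfr
  let Φm : Matrix F9 F9 F ≃+* Matrix F9 F9 F :=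
    ρ.mapMatrix.trans (Matrix.reindexAlgEquiv F F barIdx).toRingEquiv
  let Φ : GL F9 F ≃* GL F9 F := Units.mapEquiv Φm.toMulEquiv
  have hΦm : ∀ M w z, Φm M w z = (M (barIdx.symm w) (barIdx.symm z)) ^ 2 := fun M w z => rfl
  have hpair : ∀ a b : Bool, (pairF ω a b) ^ 2 = pairF ω (xor a b) b := by
    intro a b
    cases a <;> cases b <;> simp only [pairF, bitF, Bool.xor_false, Bool.xor_true, Bool.not_false, Bool.not_true,
      cond_true, cond_false, one_mul, zero_mul, add_zero, zero_add] <;>
      first
      | linear_combination hω - (ω + 1) * h2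
      | linear_combination hω
      | norm_num
  have hbar : ∀ k M, barOK k M = true → Φm (matF ω (onePMat k)) = matF ω M := by
    intro k M h
    ext w z
    simp only [barOK, List.all_eq_true, beq_iff_eq] at h
    have e := h (idx w) (List.mem_range.2 (idx_lt w)) (idx z) (List.mem_range.2 (idx_lt z))
    rw [pt_idx, pt_idx] at e
    rw [hΦm, matF_entry, matF_entry, e]
    exact hpair _ _
  have hle : (threeJ3 F ω).map Φ.toMonoidHom ≤ threeJ3 F ω := by
    rw [Subgroup.map_le_iff_le_comap]
    refine (Subgroup.closure_le _).2 fun g hg => ?_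
    obtain ⟨k, hk, e⟩ := of_gens hF hω (show (g : Matrix F9 F9 F) ∈ j3Gens F ω from hg)
    obtain ⟨j, hj, h⟩ := List.any_eq_true.1 (List.all_eq_true.1 bar_gens k (List.mem_range.2 hk))
    obtain ⟨x, hx⟩ := def_in hF hω (mem_gens hF hω (List.mem_range.1 hj))
    rcases Bool.or_eq_true _ _ ▸ h with h | h
    · have : Φ g = (x : GL F9 F) := Units.ext (by
        show Φm (g : Matrix F9 F9 F) = _
        rw [e, hbar _ _ h, hx])
      show Φ g ∈ threeJ3 F ω
      rw [this]; exact x.2
    · have : Φ g = ((x * x : threeJ3 F ω) : GL F9 F) := Units.ext (by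
        show Φm (g : Matrix F9 F9 F) = _
        rw [e, hbar _ _ h, matF_mulM hF hω, Subgroup.coe_mul, Units.val_mul, hx])
      show Φ g ∈ threeJ3 F ω
      rw [this]; exact (x * x).2
  have hcard : Nat.card (threeJ3 F ω) = 150698880 := (cards hF hω).1
  haveI : Finite (threeJ3 F ω) := Nat.finite_of_card_ne_zero (by rw [hcard]; norm_num)
  have hmap : (threeJ3 F ω).map Φ.toMonoidHom = threeJ3 F ω := by
    refine Subgroup.eq_of_le_of_card_ge hle (le_of_eq ?_)
    exact Nat.card_congr ((threeJ3 F ω).equivMapOfInjective Φ.toMonoidHom Φ.injective).toEquiv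
  let e : threeJ3 F ω ≃* threeJ3 F ω :=
    ((threeJ3 F ω).equivMapOfInjective Φ.toMonoidHom Φ.injective).trans (MulEquiv.subgroupCongr hmap)
  have he : (Subgroup.center (threeJ3 F ω)).map e.toMonoidHom = Subgroup.center (threeJ3 F ω) := by
    ext x
    obtain ⟨y, rfl⟩ := e.surjective x
    simp only [Subgroup.mem_map, MulEquiv.coe_toMonoidHom, EmbeddingLike.apply_eq_iff_eq, exists_eq_right,
      Subgroup.mem_center_iff]
    exact ⟨fun h a => by obtain ⟨b, rfl⟩ := e.surjective a; rw [← map_mul, h, map_mul],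
      fun h b => e.injective (by rw [map_mul, map_mul, h])⟩
  refine ⟨QuotientGroup.congr _ _ e he, fun q hq => ?_⟩
  obtain ⟨g, rfl⟩ := QuotientGroup.mk_surjective q
  have hdiff : ∀ x, e x * (g * x * g⁻¹)⁻¹ ∈ Subgroup.center (threeJ3 F ω) := by
    intro x
    have h := congrFun (congrArg DFunLike.coe hq) (QuotientGroup.mk x)
    rw [show QuotientGroup.congr _ _ e he (QuotientGroup.mk x) = QuotientGroup.mk (e x) from rfl, MulAut.conj_apply, ← QuotientGroup.mk_mul, ← QuotientGroup.mk_inv,
      ← QuotientGroup.mk_mul] at h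
    have h' := QuotientGroup.eq.1 h.symm
    have := Subgroup.Normal.conj_mem inferInstance _ h' (g * x * g⁻¹)
    rwa [show g * x * g⁻¹ * ((g * x * g⁻¹)⁻¹ * e x) * (g * x * g⁻¹)⁻¹ = e x * (g * x * g⁻¹)⁻¹ by group] at this
  have hz := center_card hF hω
  have hgen : ∀ x ∈ gset ω, e x = g * x * g⁻¹ := by
    intro x hx
    set c := e x * (g * x * g⁻¹)⁻¹ with hc
    have hx19 := gset_pow hF hω hx
    have hex : e x = c * (g * x * g⁻¹) := by rw [hc]; group
    have hc19 : c ^ 19 = 1 := by
      have h : (c * (g * x * g⁻¹)) ^ 19 = 1 := by rw [← hex, ← map_pow, hx19, map_one]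
      have hcomm : Commute c (g * x * g⁻¹) := (Subgroup.mem_center_iff.1 (hdiff x) _).symm
      rw [hcomm.mul_pow, conj_pow, hx19] at h
      simpa using h
    have hc3 : c ^ 3 = 1 := by
      have h := pow_card_eq_one' (x := (⟨c, hdiff x⟩ : Subgroup.center (threeJ3 F ω)))
      rw [hz] at h
      exact congrArg Subtype.val h
    have hc1 : c = 1 := by
      calc c = (c ^ 3) ^ 6 * c := by rw [hc3, one_pow, one_mul]
        _ = c ^ 19 := by group
        _ = 1 := hc19
    rw [hex, hc1, one_mul]
  have hall : e.toMonoidHom = (MulAut.conj g).toMonoidHom :=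
    MonoidHom.eq_of_eqOn_top fun x _ => by
      have hx : x ∈ Subgroup.closure (gset ω) := by rw [gset_closure hF hω]; trivial
      exact MonoidHom.eqOn_closure (f := e.toMonoidHom) (g := (MulAut.conj g).toMonoidHom)
        (fun y hy => (hgen y hy).trans (MulAut.conj_apply g y).symm) hx
  obtain ⟨s, hs, -⟩ := omega_elt hF hω
  have hsc : ∀ h : threeJ3 F ω, h * s = s * h := fun h => Subtype.ext (Units.ext (by
    show ((h : GL F9 F) : Matrix F9 F9 F) * ((s : GL F9 F) : Matrix F9 F9 F) = _ * ((h : GL F9 F) : Matrix F9 F9 F)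
    rw [hs, Matrix.mul_smul, Matrix.smul_mul, Matrix.mul_one, Matrix.one_mul]))
  have h : e s = s := by
    have := DFunLike.congr_fun hall s
    rw [MulEquiv.coe_toMonoidHom, MulEquiv.coe_toMonoidHom, MulAut.conj_apply, hsc g] at this
    rwa [mul_inv_cancel_right] at this
  have h' : Φm ((s : GL F9 F) : Matrix F9 F9 F) 0 0 = ((s : GL F9 F) : Matrix F9 F9 F) 0 0 :=
    congrArg (fun y : threeJ3 F ω => ((y : GL F9 F) : Matrix F9 F9 F) 0 0) h
  rw [hΦm, hs, show barIdx.symm (0 : F9) = 0 by decide] at h'
  simp only [Matrix.smul_apply, Matrix.one_apply_eq, smul_eq_mul, mul_one] at h'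
  exact one_ne_zero (α := F) (by linear_combination hω - h' - ω * h2)

end Cfsg.Agent.Local.FS.JankoThree
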