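import Cfsg.Agent.Lib.Local.FS.JankoThreeLocalData
import Cfsg.Agent.Lib.Local.FS.JankoThreeClassDefs

/-!
Checks for an involution centraliser and the automorphisms of the third Janko group.
-/

set_option autoImplicit false
set_option maxRecDepth 100000

namespace Cfsg.Agent.Local.FS.JankoThree

open Cfsg.Agent.Local.FS.OpCert

/-- a listed set is the subgroup generated by its generators -/
def subOK (gens : List ℕ) (kids : List (List (List ℕ))) (tree : Tr) (n : ℕ) : Bool :=
  (mergeAll 15 ((layers (opMul mulC oneC gens) [oneC] kids).map fun x => [x]) == tree.flat) &&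
    sortedB tree.flat && (tree.flat.all fun v => tree.mem v) && (tree.flat.length == n) && tree.mem oneC &&
    (layers (opMul mulC oneC gens) [oneC] kids).all fun x => gens.all fun s => tree.mem (mulC s x)

/-- a code of order dividing three when multiplied by the central involution is listed -/
def scanOK (i : ℕ) : Bool :=
  (fun e => (fun t => !(Nat.beq (mulC t (mulC t t)) oneC) || uTree.mem e || Nat.beq e (clsElt 0)) (mulC (clsElt 0) e)) (clsElt i)

/-- tenth power -/
def pow10 (x : ℕ) : ℕ := (fun a => mulC a a) ((fun a => mulC (mulC a a) x) (mulC x x))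

/-- seventeenth power -/
def pow17 (x : ℕ) : ℕ :=
  (fun a => mulC (mulC a a) x) ((fun a => mulC a a) ((fun a => mulC a a) (mulC x x)))

/-- the two relations imposed on the third element -/
def relOK (v u : ℕ) : Bool :=
  Nat.beq (pow10 (mulC v u)) oneC && Nat.beq (pow17 (mulC (clsElt 0) (mulC v u))) oneC

/-- one involution of the centraliser -/
def invOK (d : ℕ × ℕ × ℕ × ℕ × ℕ) : Bool :=
  Nat.blt d.2.1 26163 && Nat.beq (clsElt d.2.1) d.1 &&
    (Nat.beq d.1 (clsElt 0) || (Nat.blt d.2.2.1 2 && cTree.mem d.2.2.2.1 && cTree.mem d.2.2.2.2 &&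
      Nat.beq (mulC d.2.2.2.1 d.2.2.2.2) oneC &&
      Nat.beq (mulC d.2.2.2.1 (mulC (vReps.getD d.2.2.1 0) d.2.2.2.2)) d.1))

/-- all involutions of the centraliser are listed -/
def invAllOK : Bool :=
  cTree.flat.all fun x => !(Nat.beq (mulC x x) oneC) || Nat.beq x oneC || invData.any fun d => Nat.beq d.1 x

/-- one surviving choice -/
def survOK (u : ℕ) : Bool :=
  !(relOK (vReps.getD 1 0) u) && (!(relOK (vReps.getD 0 0) u) || uData.any fun d => Nat.beq d.1 u &&
    (Nat.blt d.2.1 2 && cTree.mem d.2.2.1 && cTree.mem d.2.2.2 && Nat.beq (mulC d.2.2.1 d.2.2.2) oneC &&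
      Nat.beq (mulC d.2.2.1 (mulC (vReps.getD 0 0) d.2.2.2)) (vReps.getD 0 0) &&
      Nat.beq (mulC d.2.2.1 (mulC u d.2.2.2)) (uReps.getD d.2.1 0)))

/-- a word in the three involutions -/
def genWord (w : List ℕ) : ℕ :=
  w.foldr (fun i r => mulC ([clsElt 0, vReps.getD 0 0, uReps.getD 0 0].getD i oneC) r) oneC

end Cfsg.Agent.Local.FS.JankoThree
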