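import Cfsg.Agent.Lib.Local.FS.JankoThreeSimple
import Cfsg.Agent.Lib.Local.FS.JankoThreeLocalDefs

/-!
The coded third Janko group: its class of involutions and an involution centraliser.
-/

set_option autoImplicit false
set_option maxRecDepth 100000

noncomputable section

namespace Cfsg.Agent.Local.FS.JankoThree

open Cfsg Cfsg.Agent.Spor.J3Cert Cfsg.Agent.Local.FS.OpCert
open Cfsg.Spor (F9 threeJ3)

theorem cSub_ok : subOK cGens cKids cTree 1920 = true := by decide +kernel

theorem cGens_facts : cWords.map wordC = cGens ∧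
    (cGens.all fun g => mulC g (clsElt 0) == mulC (clsElt 0) g) = true ∧
    mulC (clsElt 0) (clsElt 0) = oneC ∧ clsElt 0 ≠ oneC := by decide +kernel

theorem inv_ok : invData.all invOK = true := by decide +kernel

theorem invAll_ok : invAllOK = true := by decide +kernel

/-- An injective code with its evaluation of words. -/
structure Coded (J : Type*) [Group J] where
  L : J → ℕ
  mul : ∀ x y, L (x * y) = mulC (L x) (L y)
  one : L 1 = oneC
  inj : ∀ x y, L x = L y → x = y
  ev : List ℕ → J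
  ev_spec : ∀ w, L (ev w) = wordC w
  ev_cons : ∀ a w, ev (a :: w) = ev [a] * ev w
  card : Nat.card J = 50232960

theorem exists_coded {F : Type} [Field F] [Fintype F] [DecidableEq F] {ω : F} (hF : Fintype.card F = 4)
    (hω : ω ^ 2 + ω + 1 = 0) : Nonempty (Coded (Spor.J3 F ω)) := by
  obtain ⟨L, hmul, hone, hinj, hgen⟩ := exists_hom (F := F) hF hω
  obtain ⟨a, ha⟩ := hgen 0 (by norm_num)
  obtain ⟨b, hb⟩ := hgen 1 (by norm_num)
  have hpw : ∀ (x : Spor.J3 F ω) (c : ℕ), L x = c → ∀ n, L (x ^ n) = (List.replicate n c).foldr mulC oneC := by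
    intro x c h n
    induction n with
    | zero => rw [pow_zero]; exact hone
    | succ n ih => rw [pow_succ', hmul, h, ih]; rfl
  have hlet : ∀ i, ∃ x, L x = letC i := by
    intro i
    unfold letC
    split_ifs
    exacts [⟨a, ha⟩, ⟨b, hb⟩, ⟨_, hpw a _ ha 18⟩, ⟨_, hpw b _ hb 18⟩, ⟨1, hone⟩]
  choose gen hgen' using hlet
  refine ⟨⟨L, hmul, hone, hinj, fun w => w.foldr (fun n r => gen n * r) 1, fun w => ?_, fun n w => ?_,
    (J3_facts hF hω).1⟩⟩
  · induction w with
    | nil => exact hone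
    | cons n w ih =>
      show L (gen n * _) = mulC (letC n) (wordC w)
      rw [hmul, ih, hgen']
  · show gen n * _ = gen n * 1 * _
    rw [mul_one]

namespace Coded

variable {J : Type*} [Group J] [Finite J] (c : Coded J)

/-- the central involution -/
def z : J := c.ev (words.getD j3Cert.z [])

theorem z_code : c.L c.z = clsElt 0 := by
  rw [z, c.ev_spec, cls_base.1]
  show wordC _ = j3Cert.gl.getD j3Cert.z oneC
  rw [← words_code.1, show oneC = wordC [] from rfl, List.getD_map]

theorem inv_code {x : J} {a b : ℕ} (ha : c.L x = a) (hb : ∃ y, c.L y = b) (h : mulC a b = oneC) : c.L x⁻¹ = b := by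
  obtain ⟨y, rfl⟩ := hb
  rw [← ha, ← c.mul, ← c.one] at h
  rw [inv_eq_of_mul_eq_one_right (c.inj _ _ h)]

theorem conj_code (g y : J) : c.L (g * y * g⁻¹) = mulC (c.L g) (mulC (c.L y) (c.L g⁻¹)) := by
  rw [mul_assoc, c.mul, c.mul]

theorem exists_cls : ∀ i, i < 26163 → ∃ y, _root_.IsConj c.z y ∧ c.L y = clsElt i := by
  intro i
  induction i using Nat.strong_induction_on with
  | _ i ih =>
    intro hi
    rcases Nat.eq_zero_or_pos i with rfl | hpos
    · exact ⟨_, _root_.IsConj.refl _, c.z_code⟩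
    have h := cls_all i hi
    rw [clsOK, show Nat.beq i 0 = false from Bool.eq_false_iff.2 fun e => by
      have := Nat.eq_of_beq_eq_true e; omega, cond_false, Bool.and_eq_true] at h
    have hp : Nat.shiftRight (clsPar i) 2 < i := Nat.le_of_ble_eq_true h.1
    obtain ⟨y, hy, ey⟩ := ih _ hp (hp.trans hi)
    generalize hk : Nat.land (clsPar i) 3 = k at h
    have hj : k < 4 := hk ▸ Nat.lt_succ_of_le Nat.and_le_right
    have e1 := List.all_eq_true.1 conj_lists.1 k (List.mem_range.2 (Nat.lt_succ_of_lt hj))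
    have e2 := List.all_eq_true.1 conj_lists.2 k (List.mem_range.2 (Nat.lt_succ_of_lt hj))
    simp only [Bool.or_eq_true, beq_iff_eq, decide_eq_true_eq] at e1 e2
    have e1 := e1.resolve_right (by omega)
    have e2 := e2.resolve_right (by omega)
    have hg : c.L (c.ev (words.getD k [])) = j3Cert.g k := by
      show _ = j3Cert.gl.getD k oneC
      rw [c.ev_spec, ← words_code.1, show oneC = wordC [] from rfl, List.getD_map]
    have hg' : c.L (c.ev (iwords.getD k [])) = j3Cert.gi k := by
      show _ = j3Cert.gli.getD k oneC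
      rw [c.ev_spec, ← words_code.2, show oneC = wordC [] from rfl, List.getD_map]
    have hlen : k < words.length + 1 := lt_of_lt_of_le hj (by decide +kernel)
    have hgi := c.inv_code hg ⟨_, hg'⟩ (beq_iff_eq.1 (List.all_eq_true.1 words_inv.1 k (List.mem_range.2 hlen)))
    refine ⟨c.ev (words.getD k []) * y * (c.ev (words.getD k []))⁻¹,
      hy.trans (_root_.isConj_iff.2 ⟨_, rfl⟩), ?_⟩
    rw [c.conj_code, hg, hgi, ey, Nat.eq_of_beq_eq_true h.2, e1, e2]

theorem class_le : 26163 ≤ Nat.card {y // _root_.IsConj c.z y} := by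
  choose y hy hyL using c.exists_cls
  have hord : ∀ k < 26163, clsOrd k < 26163 := fun k hk => by
    have h := ord_all k hk
    rw [ordOK, Bool.and_eq_true] at h
    exact Nat.le_of_ble_eq_true h.1
  have hstep : ∀ k, k + 1 < 26163 → clsElt (clsOrd k) < clsElt (clsOrd (k + 1)) := fun k hk => by
    have h := ord_all k (by omega)
    simp only [ordOK, Bool.and_eq_true, Bool.or_eq_true] at h
    rcases h.2 with h | h
    · have := Nat.le_of_ble_eq_true h; omega
    · exact Nat.le_of_ble_eq_true h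
  refine le_of_eq_of_le (Nat.card_fin 26163).symm ?_
  refine Nat.card_le_card_of_injective (fun k : Fin 26163 =>
    (⟨y _ (hord k k.2), hy _ (hord k k.2)⟩ : {y // _root_.IsConj c.z y})) fun a b h => Fin.ext ?_
  refine step_inj (f := fun k => clsElt (clsOrd k)) (n := 26163) hstep a.2 b.2 ?_
  show clsElt (clsOrd a) = clsElt (clsOrd b)
  rw [← hyL _ (hord a a.2), ← hyL _ (hord b b.2)]
  exact congrArg c.L (congrArg Subtype.val h)

theorem exists_sub {gens : List ℕ} {kids : List (List (List ℕ))} {tree : Tr} {n : ℕ}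
    (h : subOK gens kids tree n = true) (hg : ∀ a ∈ gens, ∃ x, c.L x = a) :
    ∃ K : Subgroup J, K = Subgroup.closure {x | c.L x ∈ gens} ∧ Nat.card K = n ∧
      (∀ x, x ∈ K ↔ tree.mem (c.L x) = true) ∧ ∀ a, tree.mem a = true → ∃ x ∈ K, c.L x = a := by
  classical
  simp only [subOK, Bool.and_eq_true, List.all_eq_true, beq_iff_eq] at h
  obtain ⟨⟨⟨⟨⟨hflat, hsorted⟩, hall⟩, hlen⟩, hone⟩, hclosed⟩ := h
  set K := Subgroup.closure {x | c.L x ∈ gens}
  have hlist : ∀ a ∈ layers (opMul mulC oneC gens) [oneC] kids, ∃ x ∈ K, c.L x = a := by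
    refine layers_all (fun i a ha => ?_) kids _ (fun a ha => ?_)
    · obtain ⟨x, hx, rfl⟩ := ha
      rcases lt_or_ge i gens.length with hi | hi
      · obtain ⟨s, hs⟩ := hg gens[i] (List.getElem_mem _)
        refine ⟨s * x, mul_mem (Subgroup.subset_closure (show c.L s ∈ gens from hs ▸ List.getElem_mem _)) hx, ?_⟩
        rw [c.mul, hs, opMul, List.getD_eq_getElem _ _ hi]
      · exact ⟨1 * x, mul_mem (one_mem _) hx, by rw [c.mul, c.one, opMul, List.getD_eq_default _ _ hi]⟩
    · exact ⟨1, one_mem _, c.one.trans (List.mem_singleton.1 ha).symm⟩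
  have hmem : ∀ a, tree.mem a = true → a ∈ layers (opMul mulC oneC gens) [oneC] kids := by
    intro a ha
    have h1 := Tr.mem_flat ha
    rw [← hflat] at h1
    obtain ⟨k, hk, hak⟩ := List.mem_flatten.1 (mergeAll_subset _ _ a h1)
    obtain ⟨x, hx, rfl⟩ := List.mem_map.1 hk
    exact List.mem_singleton.1 hak ▸ hx
  have hiff : ∀ x, x ∈ K ↔ tree.mem (c.L x) = true := by
    refine fun x => ⟨fun hx => ?_, fun hx => ?_⟩
    · have hx' : x ∈ Submonoid.closure {x | c.L x ∈ gens} := by
        have : x ∈ (Subgroup.closure {x | c.L x ∈ gens}).toSubmonoid := hx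
        rwa [Subgroup.closure_toSubmonoid_of_finite] at this
      clear hx
      refine (Submonoid.closure_induction (motive := fun t _ => ∀ r, tree.mem (c.L r) = true → tree.mem (c.L (t * r)) = true)
        ?_ ?_ ?_ hx' 1 (by rwa [c.one])) |> (fun e => by rwa [mul_one] at e)
      · intro s hs r hr
        rw [c.mul]
        exact hclosed _ (hmem _ hr) _ hs
      · intro r hr; rwa [one_mul]
      · intro a b _ _ ia ib r hr
        rw [mul_assoc]
        exact ia _ (ib _ hr)
    · obtain ⟨y, hy, e⟩ := hlist _ (hmem _ hx)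
      exact c.inj _ _ e ▸ hy
  refine ⟨K, rfl, ?_, hiff, fun a ha => hlist a (hmem a ha)⟩
  have hnd : tree.flat.Nodup := (nodup_of_sortedB hsorted).imp fun h => ne_of_lt h
  rw [← hlen, ← List.toFinset_card_of_nodup hnd, ← Nat.card_eq_finsetCard]
  refine Nat.card_congr (Equiv.ofBijective (fun x : K =>
    (⟨c.L x, List.mem_toFinset.2 (Tr.mem_flat ((hiff _).1 x.2))⟩ : tree.flat.toFinset)) ⟨?_, ?_⟩)
  · intro x y e
    exact Subtype.ext (c.inj _ _ (congrArg Subtype.val e))
  · rintro ⟨a, ha⟩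
    obtain ⟨x, hx, rfl⟩ := hlist a (hmem a (hall a (List.mem_toFinset.1 ha)))
    exact ⟨⟨x, hx⟩, rfl⟩

/-- The centraliser of the central involution. -/
abbrev C : Subgroup J := Subgroup.centralizer {c.z}

theorem centralizer_facts : Nat.card c.C = 1920 ∧ (∀ x, x ∈ c.C ↔ cTree.mem (c.L x) = true) ∧
    ∀ a, cTree.mem a = true → ∃ x ∈ c.C, c.L x = a := by
  obtain ⟨hw, hcomm, -, -⟩ := cGens_facts
  obtain ⟨K, hK, hcard, hiff, hex⟩ := c.exists_sub cSub_ok fun a ha => by
    rw [← hw] at ha
    obtain ⟨w, -, rfl⟩ := List.mem_map.1 ha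
    exact ⟨_, c.ev_spec w⟩
  have hle : K ≤ c.C := by
    rw [hK]
    refine (Subgroup.closure_le _).2 fun x hx => Subgroup.mem_centralizer_singleton_iff.2 (c.inj _ _ ?_)
    rw [c.mul, c.mul, c.z_code]
    exact beq_iff_eq.1 (List.all_eq_true.1 hcomm _ hx)
  have hC : Nat.card c.C ≤ 1920 := by
    have horb : Nat.card (MulAction.orbit (ConjAct J) c.z) * Nat.card (MulAction.stabilizer (ConjAct J) c.z) =
        Nat.card J := by
      rw [← Nat.card_prod]
      exact Nat.card_congr (MulAction.orbitProdStabilizerEquivGroup (ConjAct J) c.z)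
    have e1 : Nat.card (MulAction.orbit (ConjAct J) c.z) = Nat.card {y // _root_.IsConj c.z y} :=
      Nat.card_congr (Equiv.subtypeEquivRight fun y => by rw [ConjAct.mem_orbit_conjAct]; exact isConj_comm)
    have e2 : Nat.card (MulAction.stabilizer (ConjAct J) c.z) = Nat.card c.C := by
      rw [ConjAct.stabilizer_eq_centralizer]
      exact Nat.card_congr (Equiv.refl _)
    rw [e1, e2, c.card] at horb
    have := Nat.mul_le_mul_right (Nat.card c.C) c.class_le
    omega
  obtain rfl : K = c.C := Subgroup.eq_of_le_of_card_ge hle (by rw [hcard]; exact hC)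
  exact ⟨hcard, hiff, hex⟩

theorem z_order : orderOf c.z = 2 := by
  obtain ⟨-, -, hsq, hne⟩ := cGens_facts
  refine orderOf_eq_prime (c.inj _ _ ?_) fun h => hne ?_
  · rw [pow_two, c.mul, c.one, c.z_code, hsq]
  · rw [← c.z_code, h, c.one]

theorem inv_data {x : J} (hx : x ∈ c.C) (hx2 : orderOf x = 2) :
    ∃ d ∈ invData, d.1 = c.L x ∧ invOK d = true := by
  have h := List.all_eq_true.1 invAll_ok (c.L x) (Tr.mem_flat ((c.centralizer_facts.2.1 x).1 hx))
  simp only [Bool.or_eq_true, Bool.not_eq_eq_eq_not, Bool.not_true, List.any_eq_true] at h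
  rcases h with (h | h) | ⟨d, hd, h⟩
  · have e : x ^ 2 = 1 := hx2 ▸ pow_orderOf_eq_one x
    rw [pow_two] at e
    rw [← c.mul, e, c.one] at h
    simp at h
  · rw [c.inj x 1 ((Nat.eq_of_beq_eq_true h).trans c.one.symm), orderOf_one] at hx2
    omega
  · exact ⟨d, hd, Nat.eq_of_beq_eq_true h, List.all_eq_true.1 inv_ok d hd⟩

theorem isConj_z {x : J} (hx : orderOf x = 2) : _root_.IsConj c.z x := by
  haveI : Fact (Nat.Prime 2) := ⟨Nat.prime_two⟩
  obtain ⟨P⟩ : Nonempty (Sylow 2 c.C) := inferInstance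
  let Q : Subgroup J := (P : Subgroup c.C).map c.C.subtype
  have hQ : Nat.card Q = 2 ^ 7 := by
    rw [Nat.card_congr ((P : Subgroup c.C).equivMapOfInjective _ c.C.subtype_injective).toEquiv.symm,
      P.card_eq_multiplicity, c.centralizer_facts.1,
      show (1920 : ℕ) = 2 ^ 7 * 15 by norm_num, Nat.factorization_mul (by norm_num) (by norm_num),
      Finsupp.add_apply, Nat.factorization_pow_self Nat.prime_two,
      Nat.factorization_eq_zero_of_not_dvd (by norm_num : ¬ 2 ∣ 15)]
  let S : Sylow 2 J := Sylow.ofCard Q (by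
    rw [hQ, c.card, show (50232960 : ℕ) = 2 ^ 7 * 392445 by norm_num, Nat.factorization_mul (by norm_num) (by norm_num),
      Finsupp.add_apply, Nat.factorization_pow_self Nat.prime_two,
      Nat.factorization_eq_zero_of_not_dvd (by norm_num : ¬ 2 ∣ 392445)])
  obtain ⟨T, hT⟩ := (IsPGroup.of_card (p := 2) (n := 1) ((Nat.card_zpowers x).trans (by rw [hx, pow_one]))).exists_le_sylow
  obtain ⟨g, hg⟩ := MulAction.exists_smul_eq J T S
  have hy : g * x * g⁻¹ ∈ Q := by
    have h1 : g * x * g⁻¹ ∈ ((g • T : Sylow 2 J) : Subgroup J) := by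
      rw [Sylow.coe_subgroup_smul, Subgroup.mem_pointwise_smul_iff_inv_smul_mem]
      simpa [MulAut.smul_def, MulAut.conj_inv_apply, mul_assoc] using hT (Subgroup.mem_zpowers x)
    rw [hg] at h1
    exact h1
  obtain ⟨q, -, hq⟩ := hy
  obtain ⟨d, -, hd, hok⟩ := c.inv_data (x := g * x * g⁻¹) (hq ▸ q.2) (by
    rw [show g * x * g⁻¹ = MulAut.conj g x from rfl, MulEquiv.orderOf_eq, hx])
  simp only [invOK, Bool.and_eq_true] at hok
  obtain ⟨y, hy, ey⟩ := c.exists_cls d.2.1 (Nat.le_of_ble_eq_true hok.1.1)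
  rw [Nat.eq_of_beq_eq_true hok.1.2, hd] at ey
  rw [c.inj _ _ ey] at hy
  exact hy.trans (_root_.isConj_iff.2 ⟨g⁻¹, by group⟩)

include c in
theorem all_conj (x y : J) (hx : orderOf x = 2) (hy : orderOf y = 2) : _root_.IsConj x y :=
  (c.isConj_z hx).symm.trans (c.isConj_z hy)

end Coded

end Cfsg.Agent.Local.FS.JankoThree
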