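import Cfsg.Agent.Lib.Spor.J3CosetCheck

/-!
Products of packed nine by nine matrices over the field with four elements, up to scalars.
-/

set_option autoImplicit false
set_option maxRecDepth 100000

namespace Cfsg.Agent.Local.FS.JankoThree

open Cfsg.Agent.Spor.J3Cert

/-- packing of columns -/
def packC (l : List ℕ) : ℕ := l.foldr (fun x r => Nat.lor x (Nat.shiftLeft r 18)) 0

/-- the product of two packed matrices -/
def mulM (A B : ℕ) : ℕ := packC ((List.range 9).map fun z => mvN A (colN B z))

/-- the multiple by the cube root of unity -/
def sclM (A : ℕ) : ℕ := packC ((List.range 9).map fun z => wmN (colN A z))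

/-- the least of the three multiples -/
def canN (A : ℕ) : ℕ := (fun B => min A (min B (sclM B))) (sclM A)

/-- the product up to scalars -/
def mulC (A B : ℕ) : ℕ := canN (mulM A B)

/-- the identity up to scalars -/
def oneC : ℕ := canN idN

end Cfsg.Agent.Local.FS.JankoThree
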