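import Cfsg.Agent.Lib.Lie.CentralCoded
import Cfsg.Agent.Lib.Local.FS.JankoThreeOp

/-!
Central table on the normaliser of a Sylow subgroup of the third Janko group (generated).
-/

set_option autoImplicit false
set_option maxRecDepth 100000
set_option maxHeartbeats 0

namespace Cfsg.Agent.Local.FS.JankoThree.Mult

open Cfsg.Agent.Lie

def threeElt0 : Janko.Tree (ℕ) :=
  (.node (.node (.node (.node (.node (.node (.node (.node (.leaf 5709001659880350221312270831439550521480314881) (.leaf 855553595588348956748387329240248117974961592639)) (.node (.leaf 39166216811406484771011036533170661204734559469) (.leaf 275597313095837146419874278784839060485015065165))) (.node (.node (.leaf 968735131518274014064444411543667740461685169304) (.leaf 643030301167743371725943439963454492997293019939)) (.node (.leaf 551516986844475348473379476690634559982406518508) (.leaf 784561189005527670610626945913033405700920391076)))) (.node (.node (.node (.leaf 1459753480762116224735179815560579503691295525784) (.leaf 1091109592062279450887493710957013355249088635036))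 (.node (.leaf 1307381171367223543522575003416073379464204126643) (.leaf 2646091890231193055899210521808973448653754997841))) (.node (.node (.leaf 1880808247625668729313433612721382342390743115862) (.leaf 1309106737971103069687170943011739134663000525438)) (.node (.leaf 1023104118526270286230282203172790448762935941496) (.leaf 957636404585128023077616613272161337208169293092))))) (.node (.node (.node (.node (.leaf 1879628614432439220070345157556425214964726949018) (.leaf 2396513426993045452647755059088390765949259194572)) (.node (.leaf 1800337025849580949678499547605523243146817609661) (.leaf 2165560483334533227538539378461850145753322035682))) (.node (.node (.leaf 142402365187504560159726195850058445611592076311) (.leaf 1156605576207338532033536027658409870615224274534)) (.node (.leaf 94001534674451474369514674403590119129558925621) (.leaf 2313174189952423844110859238011946941694066500827)))) (.node (.node (.node (.leaf 723498280945045209782168300552985961115680060904) (.leaf 420772523039047848641501587898845556675373545419)) (.node (.leaf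 935684455178183754791738565220401475401682111164) (.leaf 626329808294865276524755574445718621480282635841))) (.node (.node (.leaf 1044014029261617053454329692592235838220559060099) (.leaf 199411783203764412604440100404609656338553429149)) (.leaf 623086422219004250157080478078207417384698832590))))) (.node (.node (.node (.node (.node (.leaf 2770285871733264437627239852742333789685448636249) (.leaf 1442777947830674487902480574419084790972557209096)) (.node (.leaf 2178354190590336103691874780211633584712997638449) (.leaf 1401062540927602370423560860424505957089933716694))) (.node (.node (.leaf 2336600917011937368779545943599804416023348611825) (.leaf 588395597270012560185749082511075518450030980512)) (.node (.leaf 2440728883235113743823163890584615869315954472372) (.leaf 875281423975324572649871356117654234930347554555)))) (.node (.node (.node (.leaf 350297117885272401064206004702476505800511843899) (.leaf 110434670016548413948552456363919858774504362673)) (.node (.leaf 390509949128450684507281557435344537452631022004) (.leaf 1286124401552164775102262582942743448713879923738)))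 (.node (.node (.leaf 1665377040087099480097511190220079719253275851291) (.leaf 7507607884290431588381917427701313863513774223)) (.leaf 804779619548021927684056840287146875519962306703)))) (.node (.node (.node (.node (.leaf 2792090113829341107098323732740851882535419885164) (.leaf 2096982327197233348498233564574687909478504612041)) (.node (.leaf 291560346388232200460969706853882219387926310190) (.leaf 21354319693373896693041466187434232033044418021))) (.node (.node (.leaf 462813818951339133843232215960432572902293208073) (.leaf 42022911742236460659696127183610527038956264930)) (.node (.leaf 141322405014548136770655998729257325809380363420) (.leaf 1357617969107069439533973470115175152098482808902)))) (.node (.node (.node (.leaf 414532211128508077237746982061669101334269157664) (.leaf 1935506542001773055749937338744744374830506399086)) (.node (.leaf 58939185901687895419836828861166361938674062087) (.leaf 1985250500778234239169648356424075290195423260723))) (.node (.node (.leaf 1495470354093551302307222244712607546468085457447) (.leaf 1352990142174674631734200891235247277810338792343))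 (.leaf 1183411969026667659267344945238074934429694576566)))))) (.node (.node (.node (.node (.node (.node (.leaf 121352163238215919810684106244014310645846353919) (.leaf 1282434164423122207794175730923096103308588427299)) (.node (.leaf 1742266109017262684144775928724731660082891896247) (.leaf 2132881787610881448818896738499965952908589289006))) (.node (.node (.leaf 2564366763837578122855459549499752734467785858878) (.leaf 421507064786419842739752582504186972629487557242)) (.node (.leaf 1081960988275398395741767637076063604694074445008) (.leaf 739022141746604628976468738757539475830600100258)))) (.node (.node (.node (.leaf 888070909607863100651447695170762785818994553498) (.leaf 1286565087099145329201717262027476271956183969755)) (.node (.leaf 647212902995932147365239250741964226008109541570) (.leaf 2839610352395885510532397349076446742892259562881))) (.node (.node (.leaf 186625309869104595459749449061115416968404016804) (.leaf 109582140231308364142093270260935193428437021357)) (.node (.leaf 2178608919016647381086568728122321230795126436887)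 (.leaf 604206834644724326798016473610829914850955303892))))) (.node (.node (.node (.node (.leaf 809507590738408171682400299899616680691814064895) (.leaf 1000189718557662710627575049610677724309495528389)) (.node (.leaf 60466791360416221015000017512456399869903175287) (.leaf 1113746144972211905336634186153139048136138769438))) (.node (.node (.leaf 35293028030452159145883232267407581491347057080) (.leaf 1777938351816138575905317999062724068003760881012)) (.node (.leaf 947059045595105059485809028566683567944191428199) (.leaf 2189319385317068058981273936215969883781100200012)))) (.node (.node (.node (.leaf 2370951077250336480579847616433536376994809352780) (.leaf 2064364012895878943983568698356642392503357003125)) (.node (.leaf 1331004524415215175871820894863843460822541525924) (.leaf 2233918579048661743936598511601528112634749618546))) (.node (.node (.leaf 1127377731907267779086994281637087554290497147570) (.leaf 604721742936939052893625660727659798358216761454)) (.leaf 1068168657036672996716494633349031276800081765070))))) (.node (.node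 (.node (.node (.node (.leaf 307545633997038841114605113038687224147956270446) (.leaf 1110483351398200719420366291059042820859282606515)) (.node (.leaf 2621452595806681093716593029563454301205564205792) (.leaf 2808226143064983411198540703202915913661143141861))) (.node (.node (.leaf 2646960475599255918778376949874263016048518836382) (.leaf 844605936822101080884004110939703635443653911683)) (.node (.leaf 174195162746015126330313326478728063860500401180) (.leaf 2703200905666383792049381454120484960209511203658)))) (.node (.node (.node (.leaf 943374004472491394409985321271714471994079621408) (.leaf 2636248127655621135908695911067468318912258917579)) (.node (.leaf 1151779169319038705738899587406494580879368981861) (.leaf 860205810017885560937734515942173556803657940449))) (.node (.node (.leaf 392100797641976809768848429443293500335505565440) (.leaf 1743144098569004213473223108992545059951313471432)) (.leaf 2225995952882584548621053517463690881758321305693)))) (.node (.node (.node (.node (.leaf 2028520748850332392119141037968916352650745087927)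 (.leaf 1356254333178703777445369310968047769041544888828)) (.node (.leaf 2852753872478125792468289195503313880316812068057) (.leaf 2724801086972824388397734266881642224546372348813))) (.node (.node (.leaf 430967312087736303706345502316877427988929043086) (.leaf 2235687925118679485090556872829887366626543068374)) (.node (.leaf 1031870080241283230251175475869943165943198644999) (.leaf 1655030672192741937880352077539235562552805070924)))) (.node (.node (.node (.leaf 1821292085931471320747259095572882955244564846777) (.leaf 290530613895887742724822135101871446017334256514)) (.node (.leaf 1092532035174546922261832911673455327748071103402) (.leaf 519448840640916073051698577969196319362381869876))) (.node (.node (.leaf 906815480878628884749587598644035596289097922330) (.leaf 353553804762800632276914630160735995839189972349)) (.leaf 1001621419805999592036322447946628489574542181276))))))) (.node (.node (.node (.node (.node (.node (.node (.leaf 495655586235978025891663267155768677880080450705) (.leaf 224052959262700394487470617433084498036553763678))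 (.node (.leaf 699759963682454224277110381830989947788617766196) (.leaf 1597885433155778094881845676586196646841982557319))) (.node (.node (.leaf 2203531271178386845735694595903023894953035545322) (.leaf 1575348426114514005460832702173588279525929963392)) (.node (.leaf 1472648448515485302001646260802788367699198607670) (.leaf 2808720766185433777969595885850769192354958191985)))) (.node (.node (.node (.leaf 1215501807807803058713435910556253959410168063765) (.leaf 2269846460802506024494738263835090015893168583704)) (.node (.leaf 96959692666537555870529835451588876073219388209) (.leaf 1231955979382130946826366344567804424182452269184))) (.node (.node (.leaf 2335742232984297783238981297149378051000037711871) (.leaf 356565717466246293347503958829764626013804951162)) (.node (.leaf 229314761859970258387844507420656386857221340245) (.leaf 234432419174967218823176480946802709620503352215))))) (.node (.node (.node (.node (.leaf 2624044080228250063606292708381709743592389311497) (.leaf 2610536006321676463748562535328808645367034223568)) (.node (.leaf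 2850178652209563621982285746375533670480073955527) (.leaf 1537937910081170803561530039682986561859778960101))) (.node (.node (.leaf 1047482973413839878273909352651297215673096368795) (.leaf 2169214633822607637120913285903872250912766391789)) (.node (.leaf 1130162507217408063451781302968711713598350610851) (.leaf 760612034184365393138426447384829109814102433741)))) (.node (.node (.node (.leaf 2609182445451665078170169326557271563984066528625) (.leaf 989648893357103941687734989564327926126206808501)) (.node (.leaf 293602761002821204123397473848199393772882730412) (.leaf 806220508710800490455726328166202903391104940244))) (.node (.node (.leaf 908167688982904238505884830709877671591648534228) (.leaf 704828659851649269175883253446768559299917602770)) (.leaf 764343489743968703305949254605943194356826186714))))) (.node (.node (.node (.node (.node (.leaf 2717180162325021135640469266488882276533706996128) (.leaf 1492039963408737897286740564164033211995850481697)) (.node (.leaf 2222260096128873108855354131602309360586200296946) (.leaf 2690376799094559570401666742605848332649572526582)))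 (.node (.node (.leaf 1721872364308302495022260469500745430978251732044) (.leaf 2439688758267761933056841630086104985573430598040)) (.node (.leaf 477563465158162359357315357789940352423657096612) (.leaf 2237632599157306934520244393423369247165350178215)))) (.node (.node (.node (.leaf 467419152179095345667382226435499487143658863823) (.leaf 1649903932456715553882230002330596554707504201729)) (.node (.leaf 74313210629620541888927523915971663536285540485) (.leaf 396582095522472018097634833473622673849167181179))) (.node (.node (.leaf 1175620421395536359114165258878445557634218010384) (.leaf 2176423823994283027955189804694032495533608195731)) (.leaf 1893021122054570191692592480950788416841107537054)))) (.node (.node (.node (.node (.leaf 1215871514726289992586527503964620544043590500641) (.leaf 2232718922768071928640808684526819322053235615102)) (.node (.leaf 2726443179583049363329101877394918814490589896724) (.leaf 1045897762974789960933672389607613728801477614961))) (.node (.node (.leaf 1812992319135677940107331251989706810825183229976) (.leaf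 232689719861221418533579286683623420862436292607)) (.node (.leaf 1804036329619964692272218012679902861115846153722) (.leaf 2797170464304394387147576526288167574723358550610)))) (.node (.node (.node (.leaf 604492210492892462066507244571334750363015751890) (.leaf 1260139299239375988264056097878393369915383123080)) (.node (.leaf 2007540116661420854634434700583357900915220622884) (.leaf 2086627883893080803234687391866735505832819966957))) (.node (.node (.leaf 378951855587816881525383538285863256396932604594) (.leaf 859714401903112066263743257387592687767249197710)) (.leaf 2438928747721965565245926968860835831952156068614)))))) (.node (.node (.node (.node (.node (.node (.leaf 1214636349797217668213118583744823334069602554165) (.leaf 2346645510092041751891026888694517041771980453680)) (.node (.leaf 1926586743277262014121746651409959968259098317331) (.leaf 1265981573716652211553930003952746605174842021764))) (.node (.node (.leaf 1838056888661497390943487359768638613594676573563) (.leaf 656427772920203634903696101496621907863847504069)) (.node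 (.leaf 2518353707080130299652837053200665857509541933675) (.leaf 91750188897449547523022345658047581827348663339)))) (.node (.node (.node (.leaf 564281278848757424226028316354120167181179705220) (.leaf 2152349321457888059190208236858067635357697376531)) (.node (.leaf 2323690650447185711602667411390881591571988715809) (.leaf 469684829956063037087538661279281533199240944464))) (.node (.node (.leaf 1993118027977334017958546273038163708153533393039) (.leaf 1409668440595296539237925554097803593667399504355)) (.leaf 718884210824790712003650015653469277347395204475)))) (.node (.node (.node (.node (.leaf 1285788024786056217205368299883045957188434471055) (.leaf 277069765513028464662892284202469470209765676268)) (.node (.leaf 1378615561690112052824519493536280357384726528944) (.leaf 2382612639584172086098210267681013575114290478041))) (.node (.node (.leaf 1632068975964785256389842238211468700796098197716) (.leaf 2510545414928817339536416804687747736302364994568)) (.node (.leaf 2918362050601476170660926641045375156125865676066) (.leaf 832509992538286466268671577114035454407783197761))))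 (.node (.node (.node (.leaf 1407836504677303425555418089838272913270994335774) (.leaf 2313554543046302778672863035974582366613671534723)) (.node (.leaf 66868778757672057317892464930810887345931177789) (.leaf 1755863960206486100072484155915801639040213284042))) (.node (.node (.leaf 327941281552583897827375257318251597602355559725) (.leaf 920521918691974589408997920460799180573578548532)) (.leaf 8758931314571220728765596791483200460154429460))))) (.node (.node (.node (.node (.node (.leaf 1461349601902797642542440056526841608631228947655) (.leaf 965864392380992708909989788518698241654494173696)) (.node (.leaf 1070122310418624675592791619010357754744156262345) (.leaf 988160271553994663033946020759115674826995025099))) (.node (.node (.leaf 2851147748212063547305350438166933873260443337945) (.leaf 1536779077772098643310922316321438208768970404870)) (.node (.leaf 1363431318016905979680715204036841425589907704908) (.leaf 87652257137969039195536033398767744844482805078)))) (.node (.node (.node (.leaf 739583289372930746358796359797184699838387206574)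 (.leaf 549618882766903420052251669524587914612564407857)) (.node (.leaf 124174157955529996844074175838808157355798882731) (.leaf 396699613814277089855355210426513746600389632821))) (.node (.node (.leaf 2792039053404320964859260554732333794358415633563) (.leaf 2018221231499124138838163128801282706594827446271)) (.leaf 478693716840897977117489734666896063557338514160)))) (.node (.node (.node (.node (.leaf 261715513450777866821448214715112248459049109017) (.leaf 2784268197566244699254802282184706758980632889069)) (.node (.leaf 1158059073992782592410789878512343074058451080497) (.leaf 549725221299116390490654843810588157333607748564))) (.node (.node (.leaf 806811959811512265157438900981946090144708014842) (.leaf 2222745733699908312566410497852085578435415318604)) (.node (.leaf 1606322648552978449799666980670309691677497418165) (.leaf 273872038376632990590971020368336872262217985773)))) (.node (.node (.node (.leaf 257037600061365512347062859671991137378882993950) (.leaf 980705558620330478921676206790704847161060770303)) (.node (.leaf 1608891451391823773989555718361911644570873036806)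 (.leaf 653109105092086283182783377971295798858062156264))) (.node (.node (.leaf 426342523460255050786073258229894977704090062936) (.leaf 495183770334440327631936499789335130799027361753)) (.leaf 819434898530941213775608915685482233333164720763))))))))

def threeElt1 : Janko.Tree (ℕ) :=
  (.node (.node (.node (.node (.node (.node (.node (.node (.leaf 2840850409901209155900439298303552211809251889310) (.leaf 1937084311195326892047075469974067402639247437650)) (.node (.leaf 513387746480192961868992149270040176375580408008) (.leaf 998257185338758898169224835457451743513422013990))) (.node (.node (.leaf 1010732761427128945994032345640037064052470324176) (.leaf 1070270170163320703679390897093963660868486236540)) (.node (.leaf 1695819532942521614738337493718113285823635659763) (.leaf 1344163334665073846505350979427369457412265139228)))) (.node (.node (.node (.leaf 158899862955448515560022641895800003780598103103) (.leaf 76882479237263906067009953090028842645520603490)) (.node (.leaf 2907079033421133925092809653901935770220752464243) (.leaf 946486783823297356792753961270137307177605434979)))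 (.node (.node (.leaf 2852923332107950023209144809099548569816131772187) (.leaf 176561981297829391409435676924162892324517511528)) (.node (.leaf 2850786681347125182216283739428320309885217341928) (.leaf 1982307668698191944540866503282660286064842683118))))) (.node (.node (.node (.node (.leaf 1193622069516482529938418716934596070123545314808) (.leaf 1400044008484175270720698818455075624521708843058)) (.node (.leaf 2648134148832982266899586482955125846546791209145) (.leaf 944650343435340990560707563514750606424611035689))) (.node (.node (.leaf 2654864270970766100694635158645972551993009126329) (.leaf 427794980763246793948302700672813455753948908570)) (.node (.leaf 2266473657146832467545561648232485776431786456557) (.leaf 667375443267004096061303323854191316465771361356)))) (.node (.node (.node (.leaf 2111594368856601038520937586764159390066625569558) (.leaf 643196648773801995764128074688533528635224437231)) (.node (.leaf 2429383140431535529593242114808133321605213390922) (.leaf 428013752169638578766107715821282506551664838160))) (.node (.node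 (.leaf 515982307583694409579301074464396724665825370628) (.leaf 293371728446438912746052650928221350392231518969)) (.leaf 1824595719674568161778922150555149788300822312194))))) (.node (.node (.node (.node (.node (.leaf 273961136836560011526095737699065136342999679835) (.leaf 1650274351942832890512976061471560980912580130586)) (.node (.leaf 808702084841268975208086132780444890042743606588) (.leaf 2773954887561632502497533287825130654405408481992))) (.node (.node (.leaf 585799143416822263778478684360729677504962967920) (.leaf 246912769591389989847522258791051000346058006253)) (.node (.leaf 282318502437295786012810430817648325851246109512) (.leaf 951820335203953597300730595630346522248779507567)))) (.node (.node (.node (.leaf 257085855257505789780255678615244715534391484915) (.leaf 2202119095343815596631804569151718773957638855373)) (.node (.leaf 346890919814110523773492474168843258283793272308) (.leaf 2645578009508386296390011470528973269616403790381))) (.node (.node (.leaf 2381328169089297031684460319901639800614724090537) (.leaf 1353357778431569045022329872966304972985723763528))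 (.leaf 735123427632991052767729703660542583974664995843)))) (.node (.node (.node (.node (.leaf 2918675126025161836900251054315128163966604449426) (.leaf 656420790234243362997789670161029353388210074421)) (.node (.leaf 2042694657348607773782651428682042842930586785444) (.leaf 1320413393784011302045253189064666576540216811051))) (.node (.node (.leaf 451633559295658815168768436730216137313609764266) (.leaf 2281064389692536476398132198829497320466706397002)) (.node (.leaf 2180637979546118161383015201540281376086905124219) (.leaf 1174080297158341157790172807829895239035952004226)))) (.node (.node (.node (.leaf 1870213704914843495906845302221760511118630574735) (.leaf 1789220299386470180367026198921649092894728045111)) (.node (.leaf 1801429604601371708402342844157616611699142404189) (.leaf 12244949111915893223333619584128626021421062011))) (.node (.node (.leaf 2212415832397181925461082764450598560616366413476) (.leaf 437563689560205842053402733504216201987056589230)) (.leaf 598248442608619219495621469228686285478225017131)))))) (.node (.node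 (.node (.node (.node (.node (.leaf 1787653330753100654520600992887642528819301342289) (.leaf 2644072776865449331887043444070050089504227131335)) (.node (.leaf 2050420389434021783341990225757945067592800958617) (.leaf 1156722128430157660309899761515827585204674533519))) (.node (.node (.leaf 80902829708236721741808312245894647345147732410) (.leaf 2849862173198013444258841162346909574742181118928)) (.node (.leaf 653895089320242974592954019700469878550167519211) (.leaf 50425330773014194387889654573934113463020598157)))) (.node (.node (.node (.leaf 619720207446651911716217607516239626099325182108) (.leaf 87207646009683767317116595038464662869174513994)) (.node (.leaf 509143060565337017738114123382873256577436418009) (.leaf 165352448236345126345230079626855315862704604364))) (.node (.node (.leaf 1174185862224606153670477624842635737734293929814) (.leaf 28353246385688889923205198336839041970698913989)) (.node (.leaf 2051293243936173266801886230442314225667724980713) (.leaf 1791707800511901302041015116498731382745838834716))))) (.node (.node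 (.node (.node (.leaf 1746171587399956134925436045260773445936910656984) (.leaf 1299500682932635047405445484517816199069763462918)) (.node (.leaf 69557653044146139435090798465122907178945039795) (.leaf 2919403844951352481757566258742251227565025940717))) (.node (.node (.leaf 2556943426316958632318083004793984038457898905194) (.leaf 1997250273336091134432081996978216105091460731512)) (.node (.leaf 1890024465096106928120967889771792406286345690602) (.leaf 1552258942438051399952392104597661542952776808813)))) (.node (.node (.node (.leaf 2358767960293675571366175172020551867500316098112) (.leaf 828756201050584249666936719292678862517038697558)) (.node (.leaf 1447058041700530785975225227833299515016987807548) (.leaf 2225658969264496302415674783646518077202266398529))) (.node (.node (.leaf 2110947611326194555283132227984803860853100861995) (.leaf 2557437950569549439005537526337028913202980006980)) (.leaf 647154197491452980172157361325406720115016048794))))) (.node (.node (.node (.node (.node (.leaf 2554586945889037127291933425458485711836965545382)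 (.leaf 2084930971381413943241176240689883592202839431301)) (.node (.leaf 1868161801574080032805605577836950480474092155813) (.leaf 79255108561098403143251234525889599668763667809))) (.node (.node (.leaf 2770980895961566400224693919605283671510218169644) (.leaf 561229926483192514369215025107164956704220899483)) (.node (.leaf 2815299608544613641955167303889300989931803227409) (.leaf 1344861650583878564146572955139358038907848290338)))) (.node (.node (.node (.leaf 2631933321257207356740428472155220357840408229082) (.leaf 700790427801834355305218353751569939115197696426)) (.node (.leaf 2921953769563249308911948793971006063776981340154) (.leaf 2281232950148567647772920649282005529285225201524))) (.node (.node (.leaf 877645998417443735450539904440880319755920544053) (.leaf 541055320258085682432338681710078631980521535227)) (.leaf 2315192751090827178897196090984245009209701263519)))) (.node (.node (.node (.node (.leaf 1963153154668779772249140350936690391617036784346) (.leaf 1380550897935664021406362367946720514147329207376)) (.node (.leaf 2360564601264525813357615682566513553821049806741)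 (.leaf 1386160664148350899835676398651959423835823932035))) (.node (.node (.leaf 667559203645707112982211741500902969142622395985) (.leaf 1380537792290784118305031423178271705722196241419)) (.node (.leaf 623565413603633066786508552711618016090830496506) (.leaf 531939400917804442320394558497660554735300973052)))) (.node (.node (.node (.leaf 460284091502156637372940507910771395635378311698) (.leaf 208866931475871472175605244299824486482587353575)) (.node (.leaf 1616511528350838668864234087204132603735721764953) (.leaf 1036810971445094151945571889756786958451858784021))) (.node (.node (.leaf 338306976507291613784832537254159264791780889911) (.leaf 2874609465556803077896852133367873705243618167024)) (.leaf 48457615469015086397881406795301566277961025485))))))) (.node (.node (.node (.node (.node (.node (.node (.leaf 1287950986450441195124229754800832483888614335910) (.leaf 1035735612429858274667582072605026997351676108368)) (.node (.leaf 2702318676428750319201277849622910183626940951732) (.leaf 1141200220306558131384452527314670782324942188150)))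 (.node (.node (.leaf 191691114166888952518183925580085217395960415132) (.leaf 204339369151128228887384857756430174055138501929)) (.node (.leaf 2796830718982904534461101917358549559924785786862) (.leaf 93113284535228330724210934553746282335600417922)))) (.node (.node (.node (.leaf 78590666343395280898631832636855537493104385393) (.leaf 384752696598398395474649716926508184126666060279)) (.node (.leaf 197720757523394532668497163081764925338481266047) (.leaf 129847247666183693290659234247340101358054745638))) (.node (.node (.leaf 1856166306905164117900196861771665971182048694778) (.leaf 1162472032749942234240317565010482453522249212341)) (.node (.leaf 1584512595622186056823249880318280237277153611606) (.leaf 1387547559768734804597417375006561833110149066085))))) (.node (.node (.node (.node (.leaf 2429854465480502736045245617169472680984789555417) (.leaf 2405520244011420948884722394921510212861902359096)) (.node (.leaf 769494294829356747876106459522159988371839581603) (.leaf 18244223416700533837418169278437902165967272663))) (.node (.node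 (.leaf 2324473407180709816227526514705110392384743876638) (.leaf 757037941844217708126742022228018762520953861195)) (.node (.leaf 1916541359394780218306085711256701550851516588469) (.leaf 1183529741365011429296751466317515069487927056527)))) (.node (.node (.node (.leaf 1857989855782437230610500325300972577073741841410) (.leaf 33360283763463072135421426417989579333523837731)) (.node (.leaf 1560045735067729184372805456496436030686803330011) (.leaf 2418488762569565617142495637275384669918658925289))) (.node (.node (.leaf 1367619410123731009833720901537685942048914381286) (.leaf 2486397708537448156450277565501337559606014038986)) (.leaf 1320110352874031961957367879059626136491311669246))))) (.node (.node (.node (.node (.node (.leaf 170942549522489537727063682691797320471576501332) (.leaf 2199006243341505563155064512517549515442003640525)) (.node (.leaf 1248191765184084074180554028215845665843740161468) (.leaf 2590201726894936112934326158363888673398314767510))) (.node (.node (.leaf 28947946523845281322204598579456126175034756119) (.leaf 1312778107203696370090781567343495819618528789792))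 (.node (.leaf 2416544802144548658259298636182545221129504193218) (.leaf 1950772911115993304997721864247884412401350768111)))) (.node (.node (.node (.leaf 1643844744760583188140838703663846484494211794014) (.leaf 2076650527111874230297109230423168904887925749968)) (.node (.leaf 796951069100228863460078305300555290258383434058) (.leaf 1296794907924230319080255438012018564619007312968))) (.node (.node (.leaf 473166012181533477250238760070633840585552969714) (.leaf 2692286863258183387460897785385218465045426853283)) (.leaf 2453838876824279838402903494679709524402391442904)))) (.node (.node (.node (.node (.leaf 1431010474648610233240224607828489865387907258033) (.leaf 759148812663675053284083910524847554765442841719)) (.node (.leaf 395214789373523048505312339655901983383594892656) (.leaf 2521188417661000867722152904452603911093626336434))) (.node (.node (.leaf 1323008854924547005735133754823510788098645086357) (.leaf 719273372578297061606071358259503525395598991358)) (.node (.leaf 912193693913795312116932169510326614669216366366) (.leaf 1343672113771017409233576695793284217409459017912))))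 (.node (.node (.node (.leaf 544807973171493708261620134766482914941998046239) (.leaf 2543405915420640652611599198414273792062690311649)) (.node (.leaf 2487663885433290199121986260186593804595384296105) (.leaf 150033166505641063857420386297176787451716884697))) (.node (.node (.leaf 2669459740229524895877898546030892682719693062462) (.leaf 2336804062781079585527867147976072673586886176507)) (.leaf 976331043920427365140046219948190457330051040871)))))) (.node (.node (.node (.node (.node (.node (.leaf 2774446592297358666837272859033829777702761314306) (.leaf 580462402572069087144380784173231325535484792422)) (.node (.leaf 1072523847848389961209719420430220680098171229675) (.leaf 2885258273715116981766007041556957679032620800513))) (.node (.node (.leaf 1208656258328663297236604885607642912348104624574) (.leaf 702556962739547150387156721339167960143608613167)) (.node (.leaf 109070575117750834135971351194462684195176645371) (.leaf 315581837469300222331695848303688927142084389020)))) (.node (.node (.node (.leaf 683534305087571819815518334544793578785068221035)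 (.leaf 71302463380608097316462332781468177607252346004)) (.node (.leaf 2395153517132441104425353516588034859070937973010) (.leaf 954055321476691370160943843039571266619758001214))) (.node (.node (.leaf 2544849516017216387396300201512133103690124494919) (.leaf 2382542857780277007460421060471935974451439297359)) (.leaf 328964612353411246692028278321629253315598352585)))) (.node (.node (.node (.node (.leaf 1665740302184250203431053047171168982381367931606) (.leaf 2328241834077517454444060663261821548533564127231)) (.node (.leaf 1392086149662943549549302307525694981851105881398) (.leaf 1095570078549825853819775226055773394964428974938))) (.node (.node (.leaf 2769015271658430613482896612557430042445911866787) (.leaf 2840084923190615890525531574277816963945075264594)) (.node (.leaf 590409372088551600640518557150675367928227207185) (.leaf 1259295145934830254192092540452798721307480177746)))) (.node (.node (.node (.leaf 2579743514798761662610726899750575236473308209512) (.leaf 2553250017518643710805025793836009158180779682007)) (.node (.leaf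 1031826002416054212637501659973551895328730041107) (.leaf 722358464537467242079186986399537402115901085144))) (.node (.node (.leaf 2601328887846558336688040071207990959203522891792) (.leaf 381162525399896584826907662800257500608769807065)) (.leaf 490127490630173539207530647003808933804325495019))))) (.node (.node (.node (.node (.node (.leaf 1814716580808662336241767344485190430649316581694) (.leaf 596985181977229040434450593934204954289173001012)) (.node (.leaf 95950512886071525283949765784332108647158624507) (.leaf 707820423556623023869584569056691000792193074637))) (.node (.node (.leaf 762329182650117172562225357701857009611476364584) (.leaf 1273308324397188409246321588804895196909393926120)) (.node (.leaf 1174101985285181506065859838591431562456638880276) (.leaf 1204103146048911375831222929004154731909042106201)))) (.node (.node (.node (.leaf 1205713369538618995307877839810356901778608322698) (.leaf 1901386896177360308072166721960595681469885011779)) (.node (.leaf 1289525982214254660372428729334477730081761582021) (.leaf 668711797504507848578204248953025287594682592449)))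 (.node (.node (.leaf 279277429416219572233379568457025425992740102453) (.leaf 2028892668451780970177603416302637059400680795577)) (.leaf 475706698623604618117571571247614536181420265230)))) (.node (.node (.node (.node (.leaf 2658331514775602291596487501839304342070381850752) (.leaf 1459958301257254134779197718684070330551427630924)) (.node (.leaf 621451455785955626643587664388468184801426283712) (.leaf 1418729721920079499916930175437147049779635770988))) (.node (.node (.leaf 2529653753201143528588701975898008557043002902657) (.leaf 977609547184839319395674584125597422647528218576)) (.node (.leaf 1357922088317971308183092792889493971261244064918) (.leaf 1982115624412895439639675271526472405026073327916)))) (.node (.node (.node (.leaf 2370430411243067354424056282977628609917732492110) (.leaf 2761426474290303424172848820239613638601778124149)) (.node (.leaf 1419360278187979951344670386820879075484474579760) (.leaf 804686247591242278043215915429821620486814235213))) (.node (.node (.leaf 1229740485909439103066555835223957812192019754350) (.leaf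 2671802032046925504284898473252003334656827286556)) (.leaf 786986660454499811091741930729085962176137379629))))))))

def threeElt2 : Janko.Tree (ℕ) :=
  (.node (.node (.node (.node (.node (.node (.node (.node (.leaf 57803101054241896052095627510444235020673702242) (.leaf 2245868679157348831540103147407019169141710363335)) (.node (.leaf 570617189801255604224821347750068994665709987379) (.leaf 2518227058209727786291605998756017007374807691357))) (.node (.node (.leaf 1274556943495243374717160858279140849695289075746) (.leaf 1138829854174324179308226401877213164591589217112)) (.node (.leaf 1768210210856019893298378119764374749651122117111) (.leaf 2886499205419051556494245919649196044968870781005)))) (.node (.node (.node (.leaf 392980617615100078189161484375237724221731398506) (.leaf 2815744729406405911128314224445552976532865303969)) (.node (.leaf 1848302675389960347171877388930587738918863834480) (.leaf 464793735284365486786106679903091911670601426081))) (.node (.node (.leaf 2829842406410566526328641070078755661115061215731) (.leaf 1483653639775118045153275647250635535388119170349))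 (.node (.leaf 16470043614374516238058833744846054786222412635) (.leaf 2119043412152034939871940448641585352428463326302))))) (.node (.node (.node (.node (.leaf 2806779503228136533530122886397787190006145860812) (.leaf 1175904051437063391392659635177120452863641368113)) (.node (.leaf 101366868796960924021366917671319251260404672518) (.leaf 1490594559677467847338617101842253407560026199242))) (.node (.node (.leaf 186078122363741479154542074924556835329996750852) (.leaf 553787798100010389082424183411653214181043185753)) (.node (.leaf 1307875565891549923058161222579214076653262262288) (.leaf 1247901325768028855500574770816016206029368217022)))) (.node (.node (.node (.leaf 93600030207644124913343764731126254053918148045) (.leaf 2819934486013390536059005321272748217467423301280)) (.node (.leaf 1191084107021502887206789614128689591804775113309) (.leaf 954670518071901877719193393145204692223704083467))) (.node (.node (.leaf 1505018214250468210275250283265880955312946995132) (.leaf 2842786883872073721115160998890505286452258991584)) (.leaf 1328296633445755990796731376607300030782334371020)))))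 (.node (.node (.node (.node (.node (.leaf 676691089009206961812748306386618296583709026134) (.leaf 2152875806273090049773718678019094810332416638713)) (.node (.leaf 2144841898068216516552781470347426026334555690407) (.leaf 1430916689264280655557809721182546777483518777081))) (.node (.node (.leaf 173047339037129358598228010282902356049496393949) (.leaf 1206477400819530678343492116800982522896188037831)) (.node (.leaf 246241109102346587728098834564872596101003373052) (.leaf 40536114237843157574776178040324528775392690814)))) (.node (.node (.node (.leaf 178772524120501957823702812598959134955300311662) (.leaf 603171417596517651445265554676190676371194720276)) (.node (.leaf 2602676140159414428685083004533277511801888384689) (.leaf 275005930059157890058203659556258864809275030199))) (.node (.node (.leaf 2442746117972198362322664749461214755369872067712) (.leaf 1403048219844022360193317723335533743436062338366)) (.leaf 437695000642424669765005052625187824962535058373)))) (.node (.node (.node (.node (.leaf 1733565551821852126949616837185259331961142577579)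 (.leaf 1583677951851303763961583037204926321533717908837)) (.node (.leaf 2292268624180648488662204971869570181980043627738) (.leaf 225345193973550827035203093356723705849091560989))) (.node (.node (.leaf 317982423947986626992008877354251461357645389233) (.leaf 897019022169098415980654291814860903111058613014)) (.node (.leaf 1902707620601746421730265053983767146270423537542) (.leaf 1745074802312953071411362635077465896247124203959)))) (.node (.node (.node (.leaf 1103264784924592376321109782702703753437396389977) (.leaf 911753011602288120532271362908928925662161513403)) (.node (.leaf 1003720145553999292255453880052874626320266616300) (.leaf 1339767951304487423184045109564221244147623753140))) (.node (.node (.leaf 1060850092699905487359299420324695221929180135312) (.leaf 381848038211831263945794327232291602655262988154)) (.leaf 364761197589297231083213059930237811035626857769)))))) (.node (.node (.node (.node (.node (.node (.leaf 1641026184271252902235334197681147327959205975246) (.leaf 798158877756970687518380768485801463513840831860))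 (.node (.leaf 296288261243577087134781430505896535762491562480) (.leaf 2370856451770866085635032880880618125848611332938))) (.node (.node (.leaf 2854134215555491031976571256037270294495391968776) (.leaf 8938452826582907636505716081734810620196814849)) (.node (.leaf 569568791757037154623885242829606348640838893930) (.leaf 353412792904535554849033576152470608078944609457)))) (.node (.node (.node (.leaf 2074162068533291212370573845251687815169384486873) (.leaf 888901565318980102950409565629938895523847005679)) (.node (.leaf 2522249737380737229338336077278522037543515539815) (.leaf 827445645467661794892578286567517441780279300222))) (.node (.node (.leaf 2670184232789981435518929472567660650389515398337) (.leaf 1838206244325893472479476690244800943946972158962)) (.node (.leaf 1228423494598874577278541075015022010638537919789) (.leaf 771400750245471897550366407770466180941821349643))))) (.node (.node (.node (.node (.leaf 2450442242764992568926868367865229857743885820950) (.leaf 1699119184464378688077896328249828790770483553752)) (.node (.leaf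 415308372993591196220624664064641535414268084657) (.leaf 2587654258602787716279753569922129565878981925007))) (.node (.node (.leaf 692600357968257296346381667039644691614218150657) (.leaf 596212751261901420617388565164562974044105274240)) (.node (.leaf 28905263826090754332290329617236354584933234997) (.leaf 171713246535442960807962746677941814148838716249)))) (.node (.node (.node (.leaf 1353905519873361182213193953886211388768279263065) (.leaf 130348661964640094405837525610860318151178987357)) (.node (.leaf 1881774679976219362570378775572203598937745176047) (.leaf 2918453762743669714911505881355275308157049579409))) (.node (.node (.leaf 2039497982441294916186737125955599221110512114624) (.leaf 1305111070871272510385436289447871105547921946318)) (.leaf 707626867911491818902887307101628612906485122542))))) (.node (.node (.node (.node (.node (.leaf 1114617686648225287311060073017666090589690311800) (.leaf 74607681870458864717400751661253758296521646850)) (.node (.leaf 1572196462046792191751043335005621941646848390566) (.leaf 7830143290943778787258403722226348855627729361)))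 (.node (.node (.leaf 223704084937499717138085628749071616884624833150) (.leaf 943479039759145426561235205425158100864184126600)) (.node (.leaf 1373124286345466775511598314223002770285580265193) (.leaf 2385860826400747655989855737363024957852667125110)))) (.node (.node (.node (.leaf 1192902695980818993380356476810277153430601723088) (.leaf 2324970356554507086092168742502362002287327950682)) (.node (.leaf 2658056637297727090183771700834695473132874079302) (.leaf 75719765953733018721153578496544835483421234008))) (.node (.node (.leaf 361047148665164332613041489046061006221524601210) (.leaf 2245397723874263840396534119752206591559489061503)) (.leaf 867508420027974182202178140828497788560825366400)))) (.node (.node (.node (.node (.leaf 2210004063552129266733865045223825016481016706301) (.leaf 2038435870702487439947873236440259682611227804819)) (.node (.leaf 1255936352516470926949943591670302709752475054572) (.leaf 1905149071473898511676128520817329752664376734258))) (.node (.node (.leaf 1437374491552871529728672697464922063418718174652) (.leaf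 974523099880725303210780962159392434644675563885)) (.node (.leaf 1158879969904512871015301827142145871063324591741) (.leaf 1757056089551060520460973936421110617823415115795)))) (.node (.node (.node (.leaf 954697891847425024580952158645451131912582634518) (.leaf 1982273871097993926888670907156661842979435482788)) (.node (.leaf 1100032695519273574960775283966360878422081750786) (.leaf 1536948572264634555273842855208817486305552284385))) (.node (.node (.leaf 848939067568342895259876191675445271290761142961) (.leaf 878043803513428723648293582974420906570019662564)) (.leaf 1409841532457313497343299251053506972566403367440))))))) (.node (.node (.node (.node (.node (.node (.node (.leaf 1575078190428047519870880219111119590838384981669) (.leaf 2624789629028534840563577262346841531956086365212)) (.node (.leaf 1540473450836694029781426584984110112455524558664) (.leaf 2007643370866778782061364832183178137604278846384))) (.node (.node (.leaf 734431628311728500874906465788721995529837309012) (.leaf 1293237637871520530746820109805488494784620678632))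 (.node (.leaf 1168469670206456951825039487488693864886850092539) (.leaf 1881243800150794709293242834727091839431808903323)))) (.node (.node (.node (.leaf 1267007777925378002789087171303712274839755248036) (.leaf 2803571384934886032138839244992104867433144271946)) (.node (.leaf 2179846256565436513287146184155800068077655964151) (.leaf 2043341916837548559164698815320730507296796685491))) (.node (.node (.leaf 54080278672279856542454924733716874297145256140) (.leaf 1058810511976131301022602520011007383708162531584)) (.node (.leaf 509457067295946795412316262949233382904208885378) (.leaf 16617117173110560080175177323695495555451302874))))) (.node (.node (.node (.node (.leaf 518326751517871248336928190884145927788798391059) (.leaf 940483190458037691767024814605870063650053403541)) (.node (.leaf 1209156096321203014177114565401754795342053615471) (.leaf 1003420982386190423215237939164483333267050946737))) (.node (.node (.leaf 1389838880733829486931096454133967584966816170495) (.leaf 1182709726267472933826221844101547554036189605067)) (.node (.leaf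 2083810862761477760289343702088665313168941560961) (.leaf 1128486710834251034688421922619057866618498268147)))) (.node (.node (.node (.leaf 1781024867916938978770547008589876123396929661283) (.leaf 117670633572499356685729972507418941754666407149)) (.node (.leaf 466343643602029942384592003931281780946221923397) (.leaf 2213405018906060347177837921823312170866202634322))) (.node (.node (.leaf 257382574097069686571227649683469314401420781179) (.leaf 1572419268250106263855324269571164216586956658102)) (.leaf 343534318605919565076998870494570524182098178130))))) (.node (.node (.node (.node (.node (.leaf 1204951437123808838007724447203304553805879467904) (.leaf 1214878523951947058190283036437974776093081285429)) (.node (.leaf 1205748084309125998593063682373994878401762021191) (.leaf 305497404197528257856715432951091621707944553680))) (.node (.node (.leaf 1310712251220503385388473931149273306678765778851) (.leaf 929727840838017907003786217215688501130666293)) (.node (.leaf 551130744954322126467692116509879355548448117426) (.leaf 1574293260601787103004891341413944626797123660))))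 (.node (.node (.node (.leaf 465966522127525141436253875021721237563512288637) (.leaf 2004184425850323061454987529305944749505709031496)) (.node (.leaf 1149993092871897853863930188545461469669495342443) (.leaf 963107397697479405211919745977439890621902417249))) (.node (.node (.leaf 1894550372285949056720314228578799336598481485216) (.leaf 1742462940893030501294208751891973860106171409513)) (.leaf 2840213298569127777577900852082725531865060165449)))) (.node (.node (.node (.node (.leaf 342156563734985698013550519154736696739292672727) (.leaf 945521725038874554732082295069473030523121001439)) (.node (.leaf 2500351630037981906202014025786874066714004319655) (.leaf 2749674698981288012967838558437318146320191782984))) (.node (.node (.leaf 1550997315864393089052134796692211191834297778320) (.leaf 701082615351509233745210538859961906927732337982)) (.node (.leaf 161348355321787246998302293793855464352316458350) (.leaf 2271586098747772039139860611746504941410384292474)))) (.node (.node (.node (.leaf 69980459836980998872602807080027599574156183624)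 (.leaf 1947484155865892056643767737152510014205949537181)) (.node (.leaf 725752083819461314999951724668182426032766047064) (.leaf 117098048494654523164655502875983137364587268585))) (.node (.node (.leaf 1030774344007567339114739764770329223440889096027) (.leaf 264507790400554077053292537855210741655632291145)) (.leaf 430347007388760397934301818346325298267597918573)))))) (.node (.node (.node (.node (.node (.node (.leaf 934345605708871995362601576900775594931855356675) (.leaf 643561961993197909736707995112408700555590699837)) (.node (.leaf 1317967412837770141523417278472493095368800075637) (.leaf 2632681121322721510238951012410936164636035941214))) (.node (.node (.leaf 2862525930827032191008524094059583461025634898139) (.leaf 1810056274927760466432494341679722189588641034461)) (.node (.leaf 468011211751825200362542123553585670208808427651) (.leaf 2600105551213703863264301528324370400630756238171)))) (.node (.node (.node (.leaf 654020157410430116086348241705549967569254910166) (.leaf 360902751611247030261780997481732149606111332783)) (.node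 (.leaf 236306525691172109980002344773026045234765056314) (.leaf 408655800940172266607598258279639408910199722515))) (.node (.node (.leaf 515334205430884487061182182684337087435339464592) (.leaf 94401416548433610224783841021019127258644815643)) (.leaf 2119005957091507619528524126537373923723672341272)))) (.node (.node (.node (.node (.leaf 1938683819922897453909112394889400630221290141111) (.leaf 372437696242277714809205629017749562271310595620)) (.node (.leaf 527792871294377648180069425132163678216483643044) (.leaf 2110021287676754586040263607443443946491650582676))) (.node (.node (.leaf 956405997572393830808181608711899170761657470992) (.leaf 2259209023115068102085190572150288737814311732952)) (.node (.leaf 135496905165040961468450991230543322302309758253) (.leaf 1014328919509540970612059760916650982034273038356)))) (.node (.node (.node (.leaf 956388531311429337701708570141168147335968022785) (.leaf 935764112148035301596534575119581071688666751475)) (.node (.leaf 1526807346800612885705734261249637114124112992016) (.leaf 418297860547189855846866319222543896836871505209)))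 (.node (.node (.leaf 1983952069037393806208491371133487318774737752831) (.leaf 449575821673908925329697345465460021739928091156)) (.leaf 2601559381578087889380230963479954561484086264483))))) (.node (.node (.node (.node (.node (.leaf 252581695790721256321881016717183077208858826906) (.leaf 2474305316989159317367903547062228977657685711351)) (.node (.leaf 1526073438420747029348038459339439838399323066229) (.leaf 1042792548805623552705316488721464512555068725278))) (.node (.node (.leaf 625889481504521143990045299823038136028623546089) (.leaf 2247847206493755108058863685156674216114901482565)) (.node (.leaf 1711801935828385880448370165904365098913666561282) (.leaf 698598524264534543959962721535784031348398116220)))) (.node (.node (.node (.leaf 553679256133043806936922110069594355501686867448) (.leaf 1420952749949195942760310384215420337832028641358)) (.node (.leaf 1000146410322744997944569116423008441214273345480) (.leaf 328624740912203285091262722653310107262424074556))) (.node (.node (.leaf 664502062351073245055943726243715216374263724406)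 (.leaf 2224064132700675884213302085468229525990999113066)) (.leaf 1586246098405326108949521118909435851629463603578)))) (.node (.node (.node (.node (.leaf 1539038067188978819581105711789890771455905287594) (.leaf 661025229844616265313389845026389515857022927615)) (.node (.leaf 2348731994167733426113221516988489610932771693561) (.leaf 2681039870169177403982442859954406077481333491546))) (.node (.node (.leaf 633886645279094360855694052640921970947634092518) (.leaf 230880820306392084068020838950964548980569586573)) (.node (.leaf 722429779353077948738108486764009350822414725137) (.leaf 60300758623113021488129531187165268462431595548)))) (.node (.node (.node (.leaf 770324534481449203243261318988111473462674542003) (.leaf 1146325357342424134180556076860828181664091903264)) (.node (.leaf 1060276276546890620670766833743873452181237221694) (.leaf 1584793438128817842515781208150513567195708547291))) (.node (.node (.leaf 61572528408231916271462026821545783686069481545) (.leaf 2863043908695005401662745193835225214829333842848)) (.leaf 2111715941549911574341461036851565594639299253143))))))))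

def threeElt3 : Janko.Tree (ℕ) :=
  (.node (.node (.node (.node (.node (.node (.node (.node (.leaf 2510295195969267009165673614168798057231736348692) (.leaf 395451957457180709455558209539081447439253024803)) (.node (.leaf 1168113682958761451885409810106833207807343361089) (.leaf 608112163804266457645067728852392989657049094992))) (.node (.node (.leaf 333796149332186186180319996611212630082535287611) (.leaf 2152587369542801857284205042117094980667940728249)) (.node (.leaf 2257051096742070155132400837645518198387355361614) (.leaf 631028818583192050982316912949154659510152594644)))) (.node (.node (.node (.leaf 1213505888141317675426102086341185078496748307050) (.leaf 760415687564683958510979516133717269929324071841)) (.node (.leaf 128563780105520425528045559047410092860154326444) (.leaf 413572185362427556355974495051593643061675277034))) (.node (.node (.leaf 2131073971072239950832883960406208827546755941595) (.leaf 1264275867181318345602238560970731311822575276454)) (.node (.leaf 2202456955833368425226794368909092272768455593025) (.leaf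 225913433148818150483447437625710084535524028242))))) (.node (.node (.node (.node (.leaf 2085817462344514022193083927800370232193476232087) (.leaf 1902745644586119660225087022142151836355844064899)) (.node (.leaf 951189140643138606700843871921653569018578236548) (.leaf 1701071482546248857321630388857127242672362214426))) (.node (.node (.leaf 2885730475616486258398506516476752888955036504191) (.leaf 146306810006212934414519977262140239751505808354)) (.node (.leaf 712781233238374749956912601651155327722208931918) (.leaf 1891874639760552632480885900993073336698558693681)))) (.node (.node (.node (.leaf 918963201914476891308787086227590986389906927574) (.leaf 762295955977075697226683812791719074415640157478)) (.node (.leaf 2454124835568949548796000181512708205279976753373) (.leaf 989372889162947149278979293454807294221783165830))) (.node (.node (.leaf 2760001245993882504897105085302078861687115540428) (.leaf 725691446452964928308156648582256799266241473203)) (.leaf 555810452123275845521651582130264615374160404773))))) (.node (.node (.node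 (.node (.node (.leaf 497884148109547988135957635190070526923537599982) (.leaf 1163978313103586171157752897789009409174636705683)) (.node (.leaf 2602128102876838028080127265202757476977350302801) (.leaf 425525645332708249983187136911842230304132365431))) (.node (.node (.leaf 2453881881244537118866753265304982275672440042674) (.leaf 2772498821007939739993777168458870147930584662306)) (.node (.leaf 2040090741178995717128849143789186174197431075232) (.leaf 747548302763272873719833195622988830974423592066)))) (.node (.node (.node (.leaf 2621360773185616126862332938716146894916669899728) (.leaf 2394955087098779587527791792385331716784777629896)) (.node (.leaf 2782137525758855589304775573823256085061522558389) (.leaf 527893271893766763136729756055361650468620312959))) (.node (.node (.leaf 121136369061499839121295658026565936231254068020) (.leaf 1800995530919311425514058728576501494009524741866)) (.leaf 2622026200270259877311350941250110824189990641818)))) (.node (.node (.node (.node (.leaf 688574620766807302048957156809082153584331560552) (.leaf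 816008026228488339939295652478139783606034383946)) (.node (.leaf 554608585409545181762032068307944864926129421298) (.leaf 1744622639740730853313340427933809148084128314546))) (.node (.node (.leaf 2612658444108643649728820285629313924770903653728) (.leaf 2121004647160816767890831069433335155199140088371)) (.node (.leaf 1963236513208256973716082197416725523425123620280) (.leaf 911777530395545262687253950488302866357206822184)))) (.node (.node (.node (.leaf 753033006646763808532541309724343010568315005064) (.leaf 37414252622596547296799477231491327034728865547)) (.node (.leaf 644699713494211737629738748134374206670323283994) (.leaf 1083695926680173895530946668777725531289080659081))) (.node (.node (.leaf 1206509904194390117632005682637025046539631623235) (.leaf 1913998837940486683252099548103099543643790723784)) (.leaf 973409850404601129790755541138985554118843796136)))))) (.node (.node (.node (.node (.node (.node (.leaf 1621054447681297090008610291626910664845867923989) (.leaf 262314613603322559246159458353650108112573040712)) (.node (.leaf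 1995596711249587447276276495794762472223984675587) (.leaf 729490806686068148013238108981990807749731194859))) (.node (.node (.leaf 1821572360411808692378126764934720973976756302116) (.leaf 1503378000526003998252571916968909169739180819459)) (.node (.leaf 1161188950318330589835627486259609478647465794327) (.leaf 1949958429889935696305109627085280852541525823017)))) (.node (.node (.node (.leaf 603993998276535753900418159789699915186099636366) (.leaf 1176049092713130228393656281145280471558885509315)) (.node (.leaf 1356139585805131625054799073840004768889234570805) (.leaf 1867626754484877984301875654461312528119296422362))) (.node (.node (.leaf 1538046848769341734458067779007668440347683024277) (.leaf 1629264356805250868682873358674104286493201248507)) (.node (.leaf 901536795329154960809545376504424863633976909822) (.leaf 1461327477842749083752101048319772871808891878151))))) (.node (.node (.node (.node (.leaf 167635818586341741966145186581409693402359875307) (.leaf 206566128585540674454029410597444765529228440600)) (.node (.leaf 954886215786209640833193612967949973548292684461)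 (.leaf 1323053539987478102384573260315104695711295881727))) (.node (.node (.leaf 968878903462249850940453016333648086166741227524) (.leaf 1901734874750011014652384637941268685114533524421)) (.node (.leaf 106896578338835039847673741839103760266186827172) (.leaf 1345666864059516732505917744828754270943170273993)))) (.node (.node (.node (.leaf 1073194276360101733864223007049838071347073524393) (.leaf 1778294704374721118169556705770485422053883166012)) (.node (.leaf 712103846981543541939850038684758499744673128207) (.leaf 1539579471043920474104823635144576448281274048544))) (.node (.node (.leaf 1265453013020273702290437392711537006164427147642) (.leaf 905811397063254646983801620383158381874507864009)) (.leaf 804401534101947602476572519376416736907444773353))))) (.node (.node (.node (.node (.node (.leaf 1777748136039776601658635688454237741744893709927) (.leaf 2774348790625292374789012816828605192474430641625)) (.node (.leaf 1551791057319307564571969945697461634537620992082) (.leaf 746362211629466955260641890417261142102943167780))) (.node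 (.node (.leaf 1848864576847220623928658944440801381910573938357) (.leaf 246295999818315041642811408309109041261248442804)) (.node (.leaf 1481178293877521650843759918543881104455520765345) (.leaf 1124821231101928703297343348732690531051289470750)))) (.node (.node (.node (.leaf 1182820518110118764134798378872963845789421855495) (.leaf 785420398005228674840873907033532221904807928648)) (.node (.leaf 1322640394019485976581510075625091291975666152115) (.leaf 934180442812002651243085113103805019267956114382))) (.node (.node (.leaf 1799581033078399286222689784552745653652713623367) (.leaf 556928892297914885607325919455284232251010151917)) (.leaf 2192000853192131999340370417812374836702999994501)))) (.node (.node (.node (.node (.leaf 1216740198856711451149422090781922888575936680155) (.leaf 2346758208586338251042585929165730322043247520698)) (.node (.leaf 996574305878043223597862945941480077721629035955) (.leaf 448289442217720217170060718301306640365290395396))) (.node (.node (.leaf 2633458241809956104931592741802867199639481901713) (.leaf 611834068845278051754906176233833767693948139257))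 (.node (.leaf 875437399868281530569063466204405289633653903448) (.leaf 427995848034896222175737789412115557625776467709)))) (.node (.node (.node (.leaf 1985130169406527107758146227401835392401240617862) (.leaf 2711885455710812274439272660496402498065780511287)) (.node (.leaf 604844437293747082003482621304128008722719719410) (.leaf 1480431979260514715085625262096526455057543641997))) (.node (.node (.leaf 2716659252451845040232662416618220315792838137051) (.leaf 964690457394245950874336307279745569490575685452)) (.leaf 175219901454786527473607743724294657354069497323))))))) (.node (.node (.node (.node (.node (.node (.node (.leaf 511752119822906916749211240397321275533301751508) (.leaf 219369318180995303980216490632885643297566512876)) (.node (.leaf 1676132805640136288620975272857909438520828261666) (.leaf 543668136828967165667530396484077085842368405951))) (.node (.node (.leaf 84911333179557266998851929659111396845293933406) (.leaf 341226889048002719592001493325374171500106219364)) (.node (.leaf 1102361213396838824050473155570784505631460448823)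 (.leaf 87710225135627302266412733940894416823972110464)))) (.node (.node (.node (.leaf 1697364971698853436437076790600453604293340430080) (.leaf 1105969162510173106282326858196618150938393192337)) (.node (.leaf 476910459672115173539025588980322245432600867488) (.leaf 2762068243932884787762274475923395881157587641981))) (.node (.node (.leaf 1191982238662766826585237877451583590747605631392) (.leaf 1539507716414999511515774606537422967645335893610)) (.node (.leaf 2089069951598293621000329103354070785256756954131) (.leaf 1627507391974167333258049197023320444947256933256))))) (.node (.node (.node (.node (.leaf 408481249525243072510652691924867155175027365083) (.leaf 1012375816782252657618267884404764303301274761532)) (.node (.leaf 1396407805032406939218146251707477680608644464991) (.leaf 458329328175717195555677281891355757490872469572))) (.node (.node (.leaf 584099932869929592152598385488090278600031451097) (.leaf 211233561599416457339584109465688108133283882601)) (.node (.leaf 1347213615280589569869552153603741793339369695231) (.leaf 423939186234708642326844534508496186967422820841))))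 (.node (.node (.node (.leaf 1502972296303835004633593979244770426360094466946) (.leaf 1321961948579271153421522446402960117993150565957)) (.node (.leaf 1202357474112582128786068524305589680381139418742) (.leaf 96369652025805183316961772540706942819863524055))) (.node (.node (.leaf 805670393762341809731298602197560973949697830553) (.leaf 861150032362315732397284827882580443615479774300)) (.leaf 166844154612696645745714445229683157806203979914))))) (.node (.node (.node (.node (.node (.leaf 1330210338542745132823781700934842653714317278835) (.leaf 1236779869424868428737588916029255062852409002464)) (.node (.leaf 1350503112546523344358119512355855536533993036752) (.leaf 511353080647450266054970339286609673351223147248))) (.node (.node (.leaf 327578242246679336306843017859750312732673070286) (.leaf 618451630585158474798937474892783948276491356654)) (.node (.leaf 1594596200501069181671952664738988363841591486529) (.leaf 922109206764288009524910583497646299586434689218)))) (.node (.node (.node (.leaf 1380602152080612936406550618769630863330261608676)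 (.leaf 1789753022251918829636069412364704497746125529769)) (.node (.leaf 710851453578287962149182517175020839698559618078) (.leaf 1013251329860462300943061260318439189294307034648))) (.node (.node (.leaf 2325322996693870135439938970589377984416364950362) (.leaf 2167843107685607096349745190834309481379014642822)) (.leaf 499117689450445931166214690736385092477857027494)))) (.node (.node (.node (.node (.leaf 2590134514405024315057170913691177039641124227446) (.leaf 1077699596590604708550458073167505826843907961307)) (.node (.leaf 1294380702532960657089735438114606890813692093735) (.leaf 1335089688940400652512678216122079534418990605062))) (.node (.node (.leaf 231525136151108833411275406392149153761113831778) (.leaf 569827199609278874834602595694665432573883430784)) (.node (.leaf 2323991917253305303833630950234604421029608776081) (.leaf 161692568494943746548419868189142713142328702448)))) (.node (.node (.node (.leaf 1026612709833888463848924039375580522762968850818) (.leaf 509781175004500339898672167033124509292006057091)) (.node (.leaf 123066837969494488097402945108335176211806795648)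 (.leaf 1700021601205273729383549276855543866441997671620))) (.node (.node (.leaf 2703271936719999364106437287737793812534013319367) (.leaf 652591221758722386921665697835138560734738090354)) (.leaf 1067826000078325923239052712460956406047092927488)))))) (.node (.node (.node (.node (.node (.node (.leaf 356753437821231825551792762461338318793216284617) (.leaf 2328556416800823560321727434395677120205700248467)) (.node (.leaf 477284583517483359207868753683590190567427203070) (.leaf 690664883753814080871211441432380594707086416375))) (.node (.node (.leaf 256384670984558943791444556269578186157910897410) (.leaf 1173556697219014967974695494174547425677896392780)) (.node (.leaf 630391599612462210103686197986344232405254129260) (.leaf 882720769659061752940241714256409551544985143723)))) (.node (.node (.node (.leaf 573265955589841446573003252355550223497603914042) (.leaf 2534782484436289085820652365260351659494719987133)) (.node (.leaf 1168757199747580178935010497460337412148303603778) (.leaf 409193548144473261408080285525059079139228951014))) (.node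 (.node (.leaf 1700153729504538020447419542006133270804518962813) (.leaf 1471128187487007132968675374390028086195675316924)) (.leaf 213784077372712926075468267747816544498851874526)))) (.node (.node (.node (.node (.leaf 2647420549017286363839807707528802322118489347028) (.leaf 2180106518461034421448234048062023236535305951671)) (.node (.leaf 829802856452527579953175967284592473456114193503) (.leaf 2860909877557751492458605014555684327884236362233))) (.node (.node (.leaf 237872844511169631855944830492648155620411200972) (.leaf 113224239250100504188213080986079002775176462140)) (.node (.leaf 2603003528535486665013256050607194531820553722816) (.leaf 2666323340821165466381261084601829585084705970043)))) (.node (.node (.node (.leaf 2040329504745508383303207197051890790503306497908) (.leaf 239189224993153460626078024193172628713493231493)) (.node (.leaf 413023528962847444530294730589381834475444889598) (.leaf 1642085789081371434859535675030650785549842445262))) (.node (.node (.leaf 2579265835997043441349876340923515676632679058650) (.leaf 1722847422790993959705807054805507798129395617607))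 (.leaf 2145626738714726756984212266193576649571135532602))))) (.node (.node (.node (.node (.node (.leaf 241733389501256634195507610736112119709947644202) (.leaf 955996331657537312488774128794943163227948293657)) (.node (.leaf 1902884048733619671871205747189785702702218517237) (.leaf 1112044309470106687038699885081408965953165777113))) (.node (.node (.leaf 562111118668662801336203130899393000452627779006) (.leaf 17647986016653899725997995168019350171504055258)) (.node (.leaf 2921581866642435668161393095774191319438312971988) (.leaf 991916585595166887665834053121753439354404368876)))) (.node (.node (.node (.leaf 781665006490297548627561721204001591748770906532) (.leaf 1924152627021885738196735664843768528781378243792)) (.node (.leaf 1060431960280997502302686947048056960699105581546) (.leaf 417299213058269209546000959753939763417648077905))) (.node (.node (.leaf 1573563121976582593661114715133086544356967380824) (.leaf 1550943876657534662527823979533532263327318918699)) (.leaf 1203362463464559231988447226609956613953112572392)))) (.node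 (.node (.node (.node (.leaf 890103995037981870734014980988443748989138104393) (.leaf 760941065474649256523448378822589895942902596587)) (.node (.leaf 984900714703063741252023209055819283572969631832) (.leaf 1076621393092698062783505344867304850172452930767))) (.node (.node (.leaf 1312815139809751387725107315510392419767764322791) (.leaf 1677386970076361655840620604100751151672362438805)) (.node (.leaf 2680749429960223763745984404476464039857685425917) (.leaf 2255956448261845084635710889317019845427039794198)))) (.node (.node (.node (.leaf 1148812053176256233728254147560756147292694460322) (.leaf 941944848542735332902476881513099201743592951529)) (.node (.leaf 178216497377130624428692304172213054737988144156) (.leaf 507399754627036616589058279449900480462796485667))) (.node (.node (.leaf 1891405458860043859834140468844263741444595093176) (.leaf 742087494531001447657041468405730644129585905060)) (.leaf 2679367257253412600095166354622313118216621320402))))))))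

def threeElt4 : Janko.Tree (ℕ) :=
  (.node (.node (.node (.node (.node (.node (.node (.node (.leaf 1241911862586372609334122469059991049493116281988) (.leaf 734233883113114944623439453422664737625519687425)) (.node (.leaf 1272678050937269324256534348710166077528139210229) (.leaf 2738711440343581177217674242367581875700577971811))) (.node (.node (.leaf 740078481365721152312635808104434355639054178489) (.leaf 380501813424067747657065797437166127136707672486)) (.node (.leaf 2906302786221708413095138084562059021726169522130) (.leaf 498257533005806270563381183819512242247912547178)))) (.node (.node (.node (.leaf 2655843440609112542397869316206775536950713696450) (.leaf 2349718759857713360622200336445991469304137416831)) (.node (.leaf 1446739173506351852949809527890790529451107661713) (.leaf 396164892110545827975616290216350571469806739839))) (.node (.node (.leaf 992484525124435069551815948394872384513553969924) (.leaf 1855757551736807792884947413411770336453873151170)) (.node (.leaf 2694641430331449275641714454594353345324541923633) (.leaf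 2739436230391681331906503503970303414180875761135))))) (.node (.node (.node (.node (.leaf 1912905803203798127787511186535551348397174309506) (.leaf 2746297437932040057875869321803765454132829541595)) (.node (.leaf 2805580365252716929639670524848084402905118494079) (.leaf 61659924041640678664799702128554097921512026985))) (.node (.node (.leaf 2315556681246381896008802798008206567632744561688) (.leaf 540843876864285514154157961082442058332754356482)) (.node (.leaf 1516493610556780176099609789364996008275554259888) (.leaf 623599809581708330896167927341739230587069465916)))) (.node (.node (.node (.leaf 144457290967194123689853423133774148812371265551) (.leaf 413279691234195099773029293415607006812552930310)) (.node (.leaf 1069433688502882622269768279481645464407566751080) (.leaf 667347145025498182732585018364777891060906627221))) (.node (.node (.leaf 71057986788167841108567711262914508206940199967) (.leaf 2909077297020321586566555742803714136400168495465)) (.leaf 740117176834666958382501513172689004163876800216))))) (.node (.node (.node (.node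 (.node (.leaf 735399613593966363288942474940329617299879789406) (.leaf 941791337284841528370459891163410523577134135981)) (.node (.leaf 42998124493753828061566467973598116285061357678) (.leaf 1220780317702914502830317989987289814247611138839))) (.node (.node (.leaf 1272393273444481731057634941928198005451876865485) (.leaf 516236139414865339989841407298320795986040174854)) (.node (.leaf 861945098906969404813199114070592858016136561440) (.leaf 1259472422015965683198452511654439619478291779658)))) (.node (.node (.node (.leaf 791949173919067908478603486044152827033220751904) (.leaf 1020624093366141111801734116056685352708871611749)) (.node (.leaf 405242556608128431588238176885496801088630309376) (.leaf 1321137123782073962340459806210705799353951140888))) (.node (.node (.leaf 1082788307468638386537495630470563403210413324442) (.leaf 214520564496237700933945942291438002529173138876)) (.leaf 236856501656226534823915026040958055509706248500)))) (.node (.node (.node (.node (.leaf 2096329875262832423318966635384113860075241296022) (.leaf 1516286055060611608625335909127163520353831985461))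 (.node (.leaf 512014748193693736406777255302017886852504512685) (.leaf 2541126002800517005725771092548477598590750678709))) (.node (.node (.leaf 2862656365338906075241663827853579664428751799825) (.leaf 1158157738896567404797356242687281715390381721548)) (.node (.leaf 2785561027013396490942520172726216132308094381140) (.leaf 1023068106528069344126959074102200214771966425591)))) (.node (.node (.node (.leaf 152421047806224743504649176990979808937376956944) (.leaf 2531457405776108681337185517135156834529161672199)) (.node (.leaf 2579761126297765084803422370577683163408888033769) (.leaf 1996857066541854360001157359131712885404216462966))) (.node (.node (.leaf 356239476020726401349389860694190766483928622214) (.leaf 2380701953799046565781247503457942170808989838689)) (.leaf 1844616698363099740580561922231892627376716084132)))))) (.node (.node (.node (.node (.node (.node (.leaf 2020472838878588077036746903789304514190173669081) (.leaf 2853785129266622688873930358139598924703664449424)) (.node (.leaf 2042049550343144134822794449179141742301253783771)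 (.leaf 463725114533101606365056470004908056154882940343))) (.node (.node (.leaf 333178280492546974344852130427384361075968454143) (.leaf 420129065007265966467439447751108829861675113559)) (.node (.leaf 505000205298703896448829528171543380830502797619) (.leaf 1948662673779578781790606253260541520291244159357)))) (.node (.node (.node (.leaf 1254017246214071511950329639963286590167012439421) (.leaf 451777264739527520460843528676927447933795125333)) (.node (.leaf 212340677104797432051852772451265241741497770654) (.leaf 2623737347238374282106622013133156957968897041922))) (.node (.node (.leaf 1021941232406313749978216747012195954678085039066) (.leaf 13488294411803450388969762576767155512197773512)) (.node (.leaf 941326528635176449374755331043502079828722466003) (.leaf 1517611090875292928324429070163132428700288288789))))) (.node (.node (.node (.node (.leaf 1915237155418491342794638847835131774057327116595) (.leaf 1408010686533295837262257821653682590301494777142)) (.node (.leaf 417938610284796825892154691160003378508023661330) (.leaf 1341912797552024452988942560202444236280749502014)))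 (.node (.node (.leaf 517261173116829886717321260446640231665967303748) (.leaf 681950867966179767720589950540536259052633249409)) (.node (.leaf 682060582063340774903096864815545174989567805036) (.leaf 1460260375851857382024997772035748815055275267833)))) (.node (.node (.node (.leaf 2415665350245090252380267477418501071039950628384) (.leaf 2042847783462603477392680723734982445597845125129)) (.node (.leaf 1775606212327727603629306262534387110143004635466) (.leaf 1769433628576810829375031392390527659150751346776))) (.node (.node (.leaf 462400745125040764710331741697026784172991162578) (.leaf 1213622074173814208027401123867409900476061085774)) (.leaf 2039569625747718191476495728614652127317548025885))))) (.node (.node (.node (.node (.node (.leaf 305722311264570818036063247227759936148943246281) (.leaf 1317948491842459517293721110897295938933762253852)) (.node (.leaf 1102784470947867482391305829431389621095409919153) (.leaf 440426336081866488114721224654161024951819368297))) (.node (.node (.leaf 656117623954542076492142664024038691188761800682)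 (.leaf 1665822764821905775744949339326349931625187742184)) (.node (.leaf 1122011790537135337816329375455232515743144030926) (.leaf 589061456085453182673271086524884775125854296439)))) (.node (.node (.node (.leaf 992575127319637514659677282622339380949352021001) (.leaf 2887936147866603898022250664814571801472081061357)) (.node (.leaf 584545595688189304366192567489235208559676404204) (.leaf 566609244563559133671407864660115857313802570215))) (.node (.node (.leaf 493035898806750255383378788547937732899876813474) (.leaf 2383548295415731419051716637626239154448542880311)) (.leaf 636721817117650176004681359567618277057799984862)))) (.node (.node (.node (.node (.leaf 1027598883562394341113121612190871143118998601449) (.leaf 1249715251585838564149301963340913993907651234947)) (.node (.leaf 197743855145154079219463744823773015247813561426) (.leaf 614585186668743849847476077480915356580479124683))) (.node (.node (.leaf 112918066539002926490455933021222914369585554635) (.leaf 646866776513643712017980033319853630460870055570)) (.node (.leaf 1298000997278887985604402890981284701385487680433)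 (.leaf 586223449366917830903246566125328838216044964050)))) (.node (.node (.node (.leaf 1172358400218447848618291877566443390441472061371) (.leaf 1441533276887067226631744896457522124693981664896)) (.node (.leaf 25874492664770170199829935112963370562434149876) (.leaf 1537399364835451706749800046863099009799092808635))) (.node (.node (.leaf 385157262421447191698059777696506718589168167921) (.leaf 2670646958555460212254637299595169688018592220081)) (.leaf 1320034836844180406452794878772611075445369452548))))))) (.node (.node (.node (.node (.node (.node (.node (.leaf 1803177281849114058077866478137362263460084288555) (.leaf 544848833977013468766624386643986999522182126528)) (.node (.leaf 2750588699997074643878348354640784880082750876684) (.leaf 1049285184865176809038068967113269991302680275366))) (.node (.node (.leaf 962836023109115839795858534214371656455421321977) (.leaf 570732771480755075172177280139523296096546902144)) (.node (.leaf 2246165862239670530688855027348893676845704826344) (.leaf 2484336752174556068614804644642439002589187556442))))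 (.node (.node (.node (.leaf 2806808621056578845999731204427039169056250035497) (.leaf 1502649245753426498178939882397555637352565450302)) (.node (.leaf 2839493142694467683358746533066514515181260318750) (.leaf 2886177747944164779791239930096709322375706782876))) (.node (.node (.leaf 2054958042506967982886842668018442174671227412015) (.leaf 549696829217034668931250704220296746449700760992)) (.node (.leaf 114014548351502097830904135605642906394643581719) (.leaf 1835366468220808709263117438302014439394292768989))))) (.node (.node (.node (.node (.leaf 2315159185133438562828923620716099652397516641921) (.leaf 2374585635943134573644990958023317405852429386897)) (.node (.leaf 2166579071986224097988054765771086069111905576138) (.leaf 314041892738985676975119789770062601239081834695))) (.node (.node (.leaf 304491147360120986064412735021287859021271134259) (.leaf 2499219886908363630628555526996229569879247897969)) (.node (.leaf 872364034166785478342554625296178747921415407543) (.leaf 698881528577635313920599353820051997064290438456)))) (.node (.node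 (.node (.leaf 1480277917979583247877078235058616043520919941248) (.leaf 2772140358762255949415744870171896600123714723499)) (.node (.leaf 547250499048646492137379559701036980979180803712) (.leaf 2454246071096465158447437356541245461654746998936))) (.node (.node (.leaf 488693125933752382860512168862813739074515314903) (.leaf 2248274210453382099409224779621305631934185070007)) (.leaf 415355694553258255895175157528043252099016294064))))) (.node (.node (.node (.node (.node (.leaf 160982443842516035802339080062632190915661640355) (.leaf 734170107123252550557145482607736551542986984831)) (.node (.leaf 2088518138170092579151819160502611377018203767708) (.leaf 2668218473176084200593373012060529241608290120118))) (.node (.node (.leaf 2499182979731849019764423347698602261476491365330) (.leaf 717236646327263710219153788459984595874113980307)) (.node (.leaf 2510277115671184319942236130556350047131743631215) (.leaf 632729513393525114941050245267294960871216625555)))) (.node (.node (.node (.leaf 665994216414718974763702037985235393644801145389) (.leaf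 2326573118798226539789717161643665113080200085630)) (.node (.leaf 1995668630153229711530261206488547461620257002111) (.leaf 1171746940409737355930850884545226759980410701476))) (.node (.node (.leaf 1350968802138815697747969992634774666138365320391) (.leaf 2519976134629538640940681754273503096122627487086)) (.leaf 387038301724671427498481778180984515123888417296)))) (.node (.node (.node (.node (.leaf 1266297899761956372730509813130826601630241382045) (.leaf 1652538595285528496221504339367833330077591027040)) (.node (.leaf 957889923060140893695104914391747697292182015018) (.leaf 470536370629706136894585261307084895901339192814))) (.node (.node (.leaf 486934856375239240838675225840966985736161565839) (.leaf 1420166614505140090860308484121523139085336922599)) (.node (.leaf 2212891725763480121532979294808988197761683977711) (.leaf 616556314909537425711932161075368242245699575919)))) (.node (.node (.node (.leaf 1236076635591875576338690890084890929436453390169) (.leaf 657101768095736856058264008847898777505656788187)) (.node (.leaf 2875703128133916879544381014356887892327550759407)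 (.leaf 1077973028256345462367278003622175765871515535795))) (.node (.node (.leaf 2557170033533750037317767198287285821285719371175) (.leaf 290713515179287570478179717272639856225808696680)) (.leaf 361357681779984360745800326646906731006531925537)))))) (.node (.node (.node (.node (.node (.node (.leaf 2906358279346192683844591506644469927680937031644) (.leaf 2575472025667952703788497229212296231258106731534)) (.node (.leaf 2397017264009792838645847641963384167094291133698) (.leaf 1195685998311489597038001606938010359308659569557))) (.node (.node (.leaf 129359856336105722595594067045338977347030895996) (.leaf 2234622717942305548540867381906829094319927376837)) (.node (.leaf 1493761366396182490321310651327161446958513727746) (.leaf 2785628343092614069249602403819068388946778808870)))) (.node (.node (.node (.leaf 1870029582212960272731430403195176016529561317124) (.leaf 1575512993384425803244783832331322574835195318823)) (.node (.leaf 353725232815753719999039979193288428714188956504) (.leaf 2385326222008461697415301986984053517652929584446)))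 (.node (.node (.leaf 1860129784545241136938676540401377058522098892350) (.leaf 2065249766732698858937888858636871666784670233817)) (.leaf 217857578351315940966525828570470546582301832956)))) (.node (.node (.node (.node (.leaf 2922333485169240434246267333341470321324041378360) (.leaf 2417992994676697675454545740293188624898603713020)) (.node (.leaf 513018504573554760899282440949502825055807540653) (.leaf 438706300132719346678935232557819550623156029812))) (.node (.node (.leaf 1327408336451842750725854785523133888191867697000) (.leaf 1080494825059130449902916765461769891008355604053)) (.node (.leaf 864644209810108775268398640794614024312491057229) (.leaf 1415810321530955172185889146618519593872758915222)))) (.node (.node (.node (.leaf 1379961105025037595977017187069370392231930709609) (.leaf 1111918076992858232437595855523486044018928739071)) (.node (.leaf 2028581608705261652509024575851610371672373180967) (.leaf 395725783729344023541558838953126224492872973125))) (.node (.node (.leaf 1927672593588048033422369287125802669167419810480) (.leaf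 2591450034165547785289150640272127466282517784770)) (.leaf 1540836067204813206470816351516077533845437033032))))) (.node (.node (.node (.node (.node (.leaf 1982656010207467098422592483361697548726143634917) (.leaf 1627980171271511390466663829674209004611900367638)) (.node (.leaf 1506574254535298738499487482078550461228795380881) (.leaf 1300275542942399721435826575714035655896972133681))) (.node (.node (.leaf 151604078409053399062347802922016235339117424096) (.leaf 1460722702321731737865371873936572052800913383068)) (.node (.leaf 730216047892555486340679354713582128687139121848) (.leaf 544647879715320607097799465252051870393776643091)))) (.node (.node (.node (.leaf 992095511296755506054872372412177681876812689954) (.leaf 338233224502605988637355130992826908943358780377)) (.node (.leaf 191003057740170223318985920803573815351597582047) (.leaf 1001945611906956939148403831708159307569361134753))) (.node (.node (.leaf 517882001544940047103388990943688157777704227490) (.leaf 2540517778588274674743771087075299238178922360249)) (.leaf 2110151556174729657882130828469849610803362603395))))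 (.node (.node (.node (.node (.leaf 2294760498548772717000563088423410124351927676928) (.leaf 2740232602419069034831503169556397140051295504598)) (.node (.leaf 614611645727064626784652027374703412237853630959) (.leaf 2177132435053014165221104590874693056199390523940))) (.node (.node (.leaf 1583267378067042318383118296014483222009479355109) (.leaf 917460638325337779524605054858235226741534487147)) (.node (.leaf 1479322356119709517039919955403636513572277294392) (.leaf 1030822729258160531122019605139524696851082079981)))) (.node (.node (.node (.leaf 2154713501391265135648847099652886388469090035742) (.leaf 1147133074095233485330864465531816373701105013280)) (.node (.leaf 211041612203295837466475121045353886384070152948) (.leaf 170691395585596683963226972167380238408303122381))) (.node (.node (.leaf 1146907108161327487811778155881582324394012908216) (.leaf 2016529169061687423953473839232308952260530359100)) (.leaf 1180821475583680339802665367250252633475811347184))))))))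

def threeElt5 : Janko.Tree (ℕ) :=
  (.node (.node (.node (.node (.node (.node (.node (.node (.leaf 575939631109713171293162794776167261148522423846) (.leaf 401983118293717808521017327524338499970356306688)) (.node (.leaf 1926455298844699111140816828021943200763080878252) (.leaf 467746218358698715216901388595672415784843701198))) (.node (.node (.leaf 2394671143155183543805875309764748174584612135956) (.leaf 209915374993612349349851801909202430449221933988)) (.node (.leaf 1803932286452404265390484249835448582108846612497) (.leaf 2233973892221842564047319012077613221293235447257)))) (.node (.node (.node (.leaf 672609471345711806395545199343841993210195164184) (.leaf 2783194033402592396530049726962042215668712837248)) (.node (.leaf 1118395794680167587927875358307475831858341799044) (.leaf 2613279171002998486164049566448575028195329085928))) (.node (.node (.leaf 402427701424668349999110059040343376389985876850) (.leaf 952245208887688734902824891554656380986142240228)) (.node (.leaf 2038362443031060786114628165622363283195776833855) (.leaf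 776358154820391742406201392238918878274023957654))))) (.node (.node (.node (.node (.leaf 1244140268269904287364763673462612665720690154182) (.leaf 1390084795348102904046387856836719584173757148091)) (.node (.leaf 1271988645149048728998329027965458621811384035393) (.leaf 2404753922994196781229738923286576687267054092376))) (.node (.node (.leaf 652434101628406225329646194011110349339862331701) (.leaf 612845334272938144561887488665910264587155387411)) (.node (.leaf 1539273664990388914633755625186882706701989445577) (.leaf 143812294981402563855806257917787169850797211200)))) (.node (.node (.node (.leaf 1571851233279546033319583116393677861619743736450) (.leaf 2258767648694736291371921949957641592061689618667)) (.node (.leaf 1860028066490812864768027384745977991863522447165) (.leaf 1069062808129316419918616778478044233062467946039))) (.node (.node (.leaf 425931121290201719397679116942874835275580937305) (.leaf 1365655243038701146568846380342215768674849517339)) (.leaf 618213291001229470653736355039642261013831093333))))) (.node (.node (.node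 (.node (.node (.leaf 955225976131597716693816938679412362136744955237) (.leaf 278704474330572689464431737356781444111437213990)) (.node (.leaf 2009387563291410549113959465443959756284375784528) (.leaf 1214491957698578567048157699458658681041650243069))) (.node (.node (.leaf 1459989935439994520039667943882871368951395179660) (.leaf 563936506371884870099862307426626643622010141028)) (.node (.leaf 212810390096482661026622501665945249397446023307) (.leaf 229953083358008379586321913842371226486251183460)))) (.node (.node (.node (.leaf 2637082582902027480612799139592978933158479653304) (.leaf 760529255517652706164197042804245746909839266523)) (.node (.leaf 1320013893496854917778087770115570253737091704190) (.leaf 2164175819696437796152229460431121130576264111265))) (.node (.node (.leaf 2796529564113027125368848847500786465608994131096) (.leaf 2917364660676948740220963616757622639003156410801)) (.leaf 2085512625732024379698107286855159511629672805593)))) (.node (.node (.node (.node (.leaf 2484286865395367371949232375171197067047954888787) (.leaf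 910658848900529411212226826348765164530192283257)) (.node (.leaf 2782499618253544923783163750046281068874431555727) (.leaf 1948722320921326912184680376743682029685553094676))) (.node (.node (.leaf 55531970423014310264341007621306991643635106168) (.leaf 1058126325094247008964561830988914956090419073222)) (.node (.leaf 1335794317207371949137373402557127646313782966012) (.leaf 1037129216325787733710988312364126876023375708510)))) (.node (.node (.node (.leaf 804344341079723232397046387364538652839471122180) (.leaf 624489159905441189788909736006847724796234008286)) (.node (.leaf 219763826811533441457399055118780210153482287717) (.leaf 2009314427476794109681485395400732014646776446249))) (.node (.node (.leaf 712381620008768577649889740348013756926095891030) (.leaf 664555855274849271700962880937061571191324878720)) (.leaf 931519399707914816931250207644588844708253217926)))))) (.node (.node (.node (.node (.node (.node (.leaf 1320359447287272724573501533033945496811825784686) (.leaf 431371858415627704911406422982543425627134285090)) (.node (.leaf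 2498523407046478106025564330670727998146937945507) (.leaf 448797379835311069755886195537969062065249747974))) (.node (.node (.leaf 706065169911311410197697711938918676164320317790) (.leaf 341296310633001449207896870770766092975092377814)) (.node (.leaf 2096065225379590906429821954657780052597722070227) (.leaf 962882884371686070194551674262768525417914863978)))) (.node (.node (.node (.leaf 1676869406309719537443880587468247151682460016395) (.leaf 2041224264814753950848026529195828492513585664863)) (.node (.leaf 2074989974807620409523944110201835425697232774582) (.leaf 1981254977349099201480141253188312005687748032930))) (.node (.node (.leaf 363230584715741910709646028274777896350725219768) (.leaf 1857097409015271774957849164823861744888260739272)) (.node (.leaf 126130480192147904990632451469563608561279602781) (.leaf 1424827485115273883712829981446200194931393769781))))) (.node (.node (.node (.node (.leaf 2739320168971648026604098469774643727290444237684) (.leaf 610775464039472858807166304146898210117251588770)) (.node (.leaf 2015885857301233919371775251794665923642621848516)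 (.leaf 2884469889237561242194164892979339282785096253771))) (.node (.node (.leaf 26665918411017146647596250680205597028548748038) (.leaf 2655512015855276564930348840598868222725059904891)) (.node (.leaf 714825482908874715489224858127580007993406205332) (.leaf 1711696776179011298375437980143222339845859344735)))) (.node (.node (.node (.leaf 886081609101157125204767341022258252935220949124) (.leaf 2918549648638512731684294058572851232860816970954)) (.node (.leaf 2839542512500591399505582346204242507263719187587) (.leaf 1135909698774397151191944243762213942196860274830))) (.node (.node (.leaf 2270080488849265125233467906598516130255310358035) (.leaf 2659050012981848562923766011030969528919050007427)) (.leaf 668906556577794747692243427302381260167371783482))))) (.node (.node (.node (.node (.node (.leaf 979602385199384829544647037945770589253417933342) (.leaf 1529776022909431131072972525603649030284133779954)) (.node (.leaf 2666208295698599616033558412991383276822018716963) (.leaf 82629251905619266457043487328486035933026883717))) (.node (.node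 (.leaf 2406614601619999815250807345103271142484886528495) (.leaf 922309734194344998453378090678952444546019137021)) (.node (.leaf 1316057100444742878260592138925885346364650235864) (.leaf 2167576227178998304356937071283895581229936544786)))) (.node (.node (.node (.leaf 397347188367699526235039131999870760076536463871) (.leaf 259564610055075106038213981467268333145121799587)) (.node (.leaf 1745290657719147021546331264286739612681649563962) (.leaf 2153668187219772682552953463998340705726039074307))) (.node (.node (.leaf 273101492918350577559320923539328580350123980198) (.leaf 265894362103864466746374016604207632247178782809)) (.leaf 1357063851746981289296068863779867722561343216721)))) (.node (.node (.node (.node (.leaf 2120318361287071479517572054399020250069075086289) (.leaf 721501936495103183522373928469819440187495896899)) (.node (.leaf 235422435291423441000780427009484025121960231056) (.leaf 688808541618787642509443326097142564905926499767))) (.node (.node (.leaf 2671765503917575197721194417986297010080569596334) (.leaf 678718185988468252343921944580429463120094831506))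 (.node (.leaf 533368356079184174652543673383634126241617716742) (.leaf 712615028307635146525490868650707799351139527274)))) (.node (.node (.node (.leaf 381032562681404366224353028240398800910246375870) (.leaf 1912881420886583262113380427882596811128237069548)) (.node (.leaf 1914071167258644835226961366185862036980639635091) (.leaf 1058193176600638748100674693818057595594298840799))) (.node (.node (.leaf 1049223736709309314226086257454048714536526068300) (.leaf 518146278048863784495006624285451386930776578530)) (.leaf 543672535904130264657692337057572598223870578108))))))) (.node (.node (.node (.node (.node (.node (.node (.leaf 1350243456832764591396273183987338150713547885880) (.leaf 1346018191828725069874756226119106407356574700633)) (.node (.leaf 14870279995984584331809808526775338342837579798) (.leaf 1550972625869740901011597601925467153793547837616))) (.node (.node (.leaf 1271941655631390796713243043566751787978262837620) (.leaf 348404533330992429214793543658748919311416604274)) (.node (.leaf 1743984525511002526997490422221644988690495884218)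 (.leaf 324998762048013873980851884066154693663495283407)))) (.node (.node (.node (.leaf 2220874663218819047200893381427526594617066116568) (.leaf 463293051248089767869824637537021287241959894810)) (.node (.leaf 2350089209743538282896772027509502756435867652241) (.leaf 599026480700390723322442499541652746873610554321))) (.node (.node (.leaf 380209292393750682097300437341046257330916289208) (.leaf 774384149161420228838602715839021335606656304805)) (.node (.leaf 1538851043259605501017673008911140081221760535011) (.leaf 688734682353861838351091033730544324505446766074))))) (.node (.node (.node (.node (.leaf 883305677040374427290852936313610817648473360816) (.leaf 2386220788876840565319189642851631625736623313205)) (.node (.leaf 109690305933708531667713519138082654451816308196) (.leaf 751606880564829777153338172179278494989394652588))) (.node (.node (.leaf 666634829329685326697340532159026415817734177296) (.leaf 135687525201801930618259314242644492967983207076)) (.node (.leaf 32915081361255325427108697636703084876699006224) (.leaf 1103677792131278235552574371990323192520582603572))))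 (.node (.node (.node (.leaf 735322888882140429110677538621218382129858583162) (.leaf 1414364708475956995806726760039608826725068176055)) (.node (.leaf 422297603296940775235202551104458137162756982451) (.leaf 2783172869187287807255371245505966838956113168036))) (.node (.node (.leaf 2831562329516959148768675783629237052360518473380) (.leaf 2009370665627729197903344337319145039621401358650)) (.leaf 909647225136552759909587045253715064608465561417))))) (.node (.node (.node (.node (.node (.leaf 1262911410102928271841131012454710801457024533649) (.leaf 346994274622940965877840085557584991658879056624)) (.node (.leaf 1412482443792999213098978352378242846024063056494) (.leaf 1391531984236290214281005611891417134765284600573))) (.node (.node (.leaf 2188495718424694677479112063818400142740660120293) (.leaf 1283996773086885391124300831560790217167294626349)) (.node (.leaf 2875538292077902503206733512705410868308023801945) (.leaf 9409271861268364085591454321150131365534233448)))) (.node (.node (.node (.leaf 1994814910155139083404113073018350196934382327556)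 (.leaf 681169760256069686889791982595991014237030579269)) (.node (.leaf 1435487819649001737468935743661964869345331771002) (.leaf 929604765344658357972088445077312298753428251593))) (.node (.node (.leaf 147286910339082116240952577521124061296573562274) (.leaf 989298661156836498293735967701505983830908231915)) (.leaf 1080394584328503882726839979638905720244895031696)))) (.node (.node (.node (.node (.leaf 2260357590392230548902838587981002787792018393875) (.leaf 1226430954108963040746456484704789377759130067381)) (.node (.leaf 1950725862781331456993481280821110082462373184884) (.leaf 495363731261097712329869413153638532603075998389))) (.node (.node (.leaf 720988906492287618871573653453283346736370820530) (.leaf 1067048604178750903408841177637553241264134567430)) (.node (.leaf 227665504380688491452967329352057929660865083546) (.leaf 2247625192151405892310613915752870128663720998729)))) (.node (.node (.node (.leaf 1113151521894534973480389067158217008161725632507) (.leaf 783673026616867599240802890750700089996624673)) (.node (.leaf 310929727065585204525659187918020819861480528015)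 (.leaf 1904634069709343653635415778972722160786860274723))) (.node (.node (.leaf 1410005439925197384418837862118440110124030174312) (.leaf 168519974509960933312770800296105629811638723716)) (.leaf 1271946923553769931608956997858767737186611979087)))))) (.node (.node (.node (.node (.node (.node (.leaf 712956863736351668855762334442698257253440177369) (.leaf 356425183993101624599495815751892748836311005222)) (.node (.leaf 1182162821514150634416111221343593557874524556373) (.leaf 645506499001192825616587497600354518986652627731))) (.node (.node (.leaf 1100352586524922581441123776991796284623314034817) (.leaf 1044416477425101011083581953627756548120276958494)) (.node (.leaf 1871318517845416725398654312035282364464479019553) (.leaf 2748306604035684036880385257650626140777691934742)))) (.node (.node (.node (.leaf 978461852361291290695049733606577475242390566802) (.leaf 353464357702272327008384266597379127641900100254)) (.node (.leaf 15720473884613116957797972744638447164860598699) (.leaf 126889102388221528088739602293171941396335343464))) (.node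 (.node (.leaf 2611639398238753131912794741469956099007965892164) (.leaf 1904211549910963184153447645118662575729983385374)) (.leaf 2225302308253714649877931128323407207284669388392)))) (.node (.node (.node (.node (.leaf 1059609420404492358183101947412373132983014561185) (.leaf 1283154268861675239729323958367272921974792532694)) (.node (.leaf 522288277602707288873529661632297890825800993876) (.leaf 837661392208207389921666940779459551900161624423))) (.node (.node (.leaf 1481059549594677261649916377241409753948062179545) (.leaf 1008218272007938907564566149412282731959703784534)) (.node (.leaf 344974118081696766358920677694195499779092276400) (.leaf 1255266181910856400667127704280344788792384433240)))) (.node (.node (.node (.leaf 1298243033169420970442636215927366138108588517456) (.leaf 253054091366525328428555738289756597773201077601)) (.node (.leaf 5615647938819404385454182607258530736190407457) (.leaf 763514659116388824808469166099920092428803644497))) (.node (.node (.leaf 2382943767035591694257400490981427848277132944872) (.leaf 762827392407681121522676989876918508666513197487))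 (.leaf 2340506858360179696897290566992444933819108978514))))) (.node (.node (.node (.node (.node (.leaf 2624169862344241323852353675337788166317218519018) (.leaf 2099817086536353548425341976224641309697418802394)) (.node (.leaf 723281460696790831852203076785233085919735793676) (.leaf 488801324738665196147911986739750245532914758874))) (.node (.node (.leaf 304871191147681441726950660751378990835893954733) (.leaf 849948124785377787832954482581599733140809697980)) (.node (.leaf 2792331312051029081909894869532287990261173035941) (.leaf 2439916930176961379157267376033054973445230332114)))) (.node (.node (.node (.leaf 2337074532238721510906683456681553833555172002845) (.leaf 1054176754897559239455725537049228087951900883027)) (.node (.leaf 158588900002265732168900041581460195996035710640) (.leaf 488739463276043240067854788021032835465536614903))) (.node (.node (.leaf 42038584422376648769849014223521392453265170640) (.leaf 1102944948470186250354889945853133644761106066852)) (.leaf 1152199629663841448463641674949323941261874697960)))) (.node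 (.node (.node (.node (.leaf 277243567331586866744432901689769652266389735424) (.leaf 2440228534873881037111822942900395285179357213175)) (.node (.leaf 2075408341419575867199285458699965968933516665274) (.leaf 164420888932024598890947570933600231878361382465))) (.node (.node (.leaf 650095782947940095169158111231711793120027333949) (.leaf 195191688160282733868029887730778006872012101642)) (.node (.leaf 1265858798119005342762569999963079962413764376409) (.leaf 24874379774795061785864004860741686593681633946)))) (.node (.node (.node (.leaf 34458423757614306838349105061133973224270909589) (.leaf 163393504863158963767978865023813148506876490549)) (.node (.leaf 2313698905552577713210897896530383551927539108889) (.leaf 1698480914310383031690907539807420943920175763459))) (.node (.node (.leaf 2417737818012479417839249407883245618101653125485) (.leaf 1574698367468584937170732920192269377530028548598)) (.leaf 1310796686426294812923228226362770682919035592790))))))))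

def threeElt6 : Janko.Tree (ℕ) :=
  (.node (.node (.node (.node (.node (.node (.node (.node (.leaf 1778347060577395730865979931446068570836649359107) (.leaf 2144823411011779815972574816289840745394513313074)) (.node (.leaf 688644208099236616829329220340361890324437955058) (.leaf 2759916071534290652861314282930276242910192065905))) (.node (.node (.leaf 188576461427533788128820599431300577518378659857) (.leaf 562200420057546299855151906928522415092020697655)) (.node (.leaf 721601227846261942399251788052941060851673698131) (.leaf 376708856604535006972397497220091722127827486443)))) (.node (.node (.node (.leaf 821531441414453855246369058430069446153200528753) (.leaf 1001362507188260596334335528048029585331946807172)) (.node (.leaf 584497656323424280668002080460104322636494691337) (.leaf 384849363513036170211296224368341529082033210585))) (.node (.node (.leaf 2043195886600474524192579991595739168856156915303) (.leaf 2694142796783888159914522520093549023387435895708)) (.node (.leaf 207425270987775224164516184597128087144452225178) (.leaf 1707913231338673712032583427561636966693820105135)))))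 (.node (.node (.node (.node (.leaf 289061656410091544209094591500555246243604756963) (.leaf 630365154098118934799714749329276259146173851521)) (.node (.leaf 1135006967967338854865757133692974123722708606252) (.leaf 1148592884943878134695525053405151782715119949309))) (.node (.node (.leaf 1572239591481386393207474964646226903230126884047) (.leaf 2449197502621437883940504344636714200265554338424)) (.node (.leaf 2838493489296836339941016912586834078775709959912) (.leaf 922457916138140986434443415176094018394984412706)))) (.node (.node (.node (.leaf 2234193771787928763959666798493313150753537774948) (.leaf 1317489458326252903161803420324493295540060472887)) (.node (.leaf 2188985701526714246024412097702956197343332147937) (.leaf 1537300819802029055891547146756663056020885808888))) (.node (.node (.leaf 2921919209826788088629817222986710804452392173398) (.leaf 41550015282473189271384155373313751548086552286)) (.leaf 464478728266492786592422154429762925844184445791))))) (.node (.node (.node (.node (.node (.leaf 382283776786397295056217852744840881281767062968)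 (.leaf 21473897074671664434421975112004610810690102837)) (.node (.leaf 1101090163723496715003838580188320195620398965040) (.leaf 2784562237498962123325665919888346767984587203250))) (.node (.node (.leaf 1264327412508013923556452248512661614733543715579) (.leaf 933234600528360580595850849797959658777315312121)) (.node (.leaf 2416285801079770706724555336591001554947676661903) (.leaf 2922607062257076907688268620833583238682660933163)))) (.node (.node (.node (.leaf 1239105285282408441783807363131910745657402771124) (.leaf 1732147504403917324619952253912914146094109728757)) (.node (.leaf 1481207247266388238206202865034929204802587412203) (.leaf 1124524852083462720797232207883813955861050341792))) (.node (.node (.leaf 894427472771530894496200940724902412828373069859) (.leaf 350074757836649139952392061306379300687947184217)) (.leaf 426769783461593211861166103696832039520512622381)))) (.node (.node (.node (.node (.leaf 1430735825348760885908861002075807063827102057679) (.leaf 2270282643271279126717090220496760257636151604720)) (.node (.leaf 505489534183118016873549997359284967656193849966)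 (.leaf 1307119196759305631053225405816508185288384989255))) (.node (.node (.leaf 142584013301276720330785195820018986325891712418) (.leaf 356580288813812421527957083963471174943802880422)) (.node (.leaf 1272499562351099837441361325253150385761365955290) (.leaf 862320905226361276243808886065418561207939503565)))) (.node (.node (.node (.leaf 2121507357739814897318013455601274452600971458598) (.leaf 1535758615200676980129858752736130700908334315712)) (.node (.leaf 663861878593817903980086518173739116504406429246) (.leaf 421273323592348396295591036202784789742244201619))) (.node (.node (.leaf 2454302595380578967579970989217226106399560865792) (.leaf 793077920848631210728408172254128471714285211235)) (.leaf 698975826943381801037530370741820528185186599960)))))) (.node (.node (.node (.node (.node (.node (.leaf 576803496883648832658775871692182085494129870792) (.leaf 1732186665954156385952115308015811975599053986222)) (.node (.leaf 1229665728866115738641696004155399242243005136727) (.leaf 2576008307654562216427761288093807774575866226560)))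 (.node (.node (.leaf 862758813843656534401501946785438712612667036179) (.leaf 2338692000568378706615836271165523397540200429020)) (.node (.leaf 1381459215261221675001564413099229662997260681344) (.leaf 394913929677226220821829830629573782222856296830)))) (.node (.node (.node (.leaf 1181517081968437397214178978767663283193232614197) (.leaf 284137059379817345607756955197704595835754860016)) (.node (.leaf 770009640817645156575639979243379898985488592837) (.leaf 1148260915990482269430171940197780664436905804421))) (.node (.node (.leaf 443038185960788550125699369352364474445558006265) (.leaf 1768626734548591375095874141180610800697740180486)) (.node (.leaf 1396605615404259046081535240628744880350753402897) (.leaf 1150105174748327251157377891523417607670185873403))))) (.node (.node (.node (.node (.leaf 1547176814271301975713419324767433900940195482117) (.leaf 280850583924323260925862143266330659755831687261)) (.node (.leaf 464018658627068287976936763637490496238208088901) (.leaf 401694668202560854165302731321725059096346180758))) (.node (.node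 (.leaf 451020350117142308368891623638079061235147105075) (.leaf 977477749957522853517645308643488337660553354003)) (.node (.leaf 1676929174035849722061490335870849750771865497812) (.leaf 806215348118318432860612170455385941721546018905)))) (.node (.node (.node (.leaf 585198318158272239239602311733049211226244239648) (.leaf 219421285399002201038527465157120708183567742737)) (.node (.leaf 2633590455469870679899866016057009398550975971307) (.leaf 575670944766400946019485797803517796865836020959))) (.node (.node (.leaf 618730088161517655732674805774871974084048072365) (.leaf 2806096042506662151601255241107962433907880260359)) (.leaf 935640806363957423993609335010256451588602760690))))) (.node (.node (.node (.node (.node (.leaf 764885482759961165801258870029700313989371872342) (.leaf 504649540971634923124463544926741866946556386737)) (.node (.leaf 711433686432133541992551108960386377906539767224) (.leaf 1810647402704310744001281488121142100832918190292))) (.node (.node (.leaf 942675816766246125536772123716598023448009402018) (.leaf 1198632420310810274699012725085832592603244159195))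 (.node (.leaf 1403295340022942794110928822158928561936203257995) (.leaf 481908141191024799404186955436538779571451019569)))) (.node (.node (.node (.leaf 7230146417499054634098451126318947533545107549) (.leaf 2884033265343732404373648626521812387857588519888)) (.node (.leaf 687647818543638414397685428780973875777204892491) (.leaf 2806320906591340857413428234963222057705815793741))) (.node (.node (.leaf 319090081606964317028767138019338239965962409690) (.leaf 337794773810054069350024136969393119958743693677)) (.leaf 1460453350929896857150295598130715818269698779395)))) (.node (.node (.node (.node (.leaf 1247799843721226356815470186847436613281997382948) (.leaf 1607990673321418267443511652320696826660267127966)) (.node (.leaf 278407950529105814121098699765137139168631718658) (.leaf 2018168992780108454729063185653395062351720877068))) (.node (.node (.leaf 1343702807112080399547800827430071806103676279536) (.leaf 2681457189901658632307758997311789771528407161146)) (.node (.leaf 2051587468801100247251354474941327454717119689747) (.leaf 1460841194904072822435287425754418391951174420638))))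 (.node (.node (.node (.leaf 907239564663446137540985435738795755207745674563) (.leaf 1950668732618307002355773697992082133474367618917)) (.node (.leaf 2645361493301757312076093528860546704840975307650) (.leaf 592670071451274982442475823453184196960138897057))) (.node (.node (.leaf 360955941810760651852762364767185487222929082123) (.leaf 2727473764593813124838900093578257587875023381664)) (.leaf 106400316314045908583969376682818876785585663396))))))) (.node (.node (.node (.node (.node (.node (.node (.leaf 343788830001584150580470991746366317262036350986) (.leaf 112619235480279079652020017238841281889467289002)) (.node (.leaf 1157448191850846116043637662451990070545141568216) (.leaf 176057305105896037622041067707078586261632252802))) (.node (.node (.leaf 1483898010166169112573150649124601744952231236529) (.leaf 2841996735637980142694617160986699379824867287880)) (.node (.leaf 392572166449014913490670662010947225352526907318) (.leaf 2545008005311568785988454981749172421629743214253)))) (.node (.node (.node (.leaf 511051271281410391242162998383093202159742644716)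 (.leaf 1334897427640764164519382564834116158421943557252)) (.node (.leaf 967409608355235713834117994052111708868065030144) (.leaf 1179382828050570246411622435316309866494068059561))) (.node (.node (.leaf 87630977651457346640285263388872296456461811792) (.leaf 38532266541591595882035523293398787589328666175)) (.node (.leaf 47230319141067144461207195606039161538048904686) (.leaf 1609581859716045146612504699283699884794521113307))))) (.node (.node (.node (.node (.leaf 2107654920902382977771688475420487946269898393741) (.leaf 990310678817138119112244388859429358053337323092)) (.node (.leaf 534044397066681319189110228136959757567219912778) (.leaf 2769084936645888906148085832903009120821768482867))) (.node (.node (.leaf 2864315536239930078952536746491983015118928881501) (.leaf 930089592744822937653617184164402701892313506338)) (.node (.leaf 1194658297021530118462657633160821936089988888875) (.leaf 785769173127532932794271507002762501178391909142)))) (.node (.node (.node (.leaf 1847959736800718648809378572471201742819663811590) (.leaf 430721872620446414383005361830019911301635165392))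 (.node (.leaf 1722014150437890730831086576866049469419818378597) (.leaf 1049854085018893117074120976493607806496037419450))) (.node (.node (.leaf 555255103366745716184366407816762313179522271158) (.leaf 1868015232568500610656130732969417921580345398783)) (.leaf 1035560855858054408119358604773754393268063056084))))) (.node (.node (.node (.node (.node (.leaf 1219198815997382122230969746905744192832745758583) (.leaf 1339164620989098933508693392030478065807197239305)) (.node (.leaf 1139191505407924062918509843575116125927024524216) (.leaf 2814897025136449410536445062396729760330745469680))) (.node (.node (.leaf 2623254876431507916463357114114093302171614402156) (.leaf 2762152614089594165797346050827416984890419250976)) (.node (.leaf 2279178189025464857195416974985595491636077922798) (.leaf 2920956701883824655017003423537830114644954947604)))) (.node (.node (.node (.leaf 716531044006075002643183757644311922899355883137) (.leaf 1561154569465394033574757821270351537640202992794)) (.node (.leaf 1193832791843652706072174800221643665575961313699)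 (.leaf 2781324673731985383423987405981809781744973227139))) (.node (.node (.leaf 1068587535033839613776278641753857788653418306916) (.leaf 981182054960286993488716454356437979757779277545)) (.leaf 2750435614332892285346969725501424105949995204756)))) (.node (.node (.node (.node (.leaf 1156821429973179293186601347712472635570650846992) (.leaf 2601395949572007735858162312800574438606533689166)) (.node (.leaf 2073372015940756410016379752625953352045536410980) (.leaf 1810965745234036219224250072169622887974134155557))) (.node (.node (.leaf 1460627508892341338215078019418288001222197207714) (.leaf 1082303840059395688647527999579287770949100135035)) (.node (.leaf 420203473704514885414745306071449875382591922330) (.leaf 1003343843206472716125894220448641712613559673124)))) (.node (.node (.node (.leaf 636004227257333303055491059339618980098077922594) (.leaf 2613593300951065656199812066766036025163602937184)) (.node (.leaf 1366344418457523305822712768110992709840094840252) (.leaf 2166197320565456633309779287674503505779257432805))) (.node (.node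 (.leaf 1924993203708258126309459667007200455063228573191) (.leaf 2076558973081181098874330955662754256085368189371)) (.leaf 82218312837827334339390143287680388699351360032)))))) (.node (.node (.node (.node (.node (.node (.leaf 734563167502603082641601921136114727974715079883) (.leaf 507089788258136717520396687692691858737112322122)) (.node (.leaf 1983138883358262058737478222374773290749240884779) (.leaf 2004689435536621812641634713190563213388457023051))) (.node (.node (.leaf 1032760953291265158426907618649575537389923011798) (.leaf 21040849929975140083135074242069371213020837434)) (.node (.leaf 94246440596691912114473486939128810931179784387) (.leaf 975060322090351569073556813746633303844361123110)))) (.node (.node (.node (.leaf 37052235389050119273274618368176643418211486624) (.leaf 1071465392809554551006161027592254794951545904263)) (.node (.leaf 2728418621513014588926048765906795725177706957240) (.leaf 366842659365783598377412101695045671755048895026))) (.node (.node (.leaf 1003843405600962520331939387132933115049003729923) (.leaf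 2073479088341324939348618779376731899991297848399)) (.leaf 2054206954533096641959206824885139570279502491049)))) (.node (.node (.node (.node (.leaf 127960708265806171886812413924098520692578457549) (.leaf 2269070392526359706434863666493167044430307305624)) (.node (.leaf 2887397004646561437984987130516769133336125144561) (.leaf 484458534666937982052433906405849254905431204658))) (.node (.node (.leaf 2428647216514623222211870234381013942093698494464) (.leaf 2774247335695440071692627430716136581397012470693)) (.node (.leaf 2473306596112173790312124474828384661378004399179) (.leaf 1159588964094351503467875678301087729457379680912)))) (.node (.node (.node (.leaf 1837465876589606767122632357646787793975384099637) (.leaf 100464868322030954658922217676637652455425544960)) (.node (.leaf 2463464103521077522423879133036291643136440550403) (.leaf 292439218867102190801686555202912881689091589489))) (.node (.node (.leaf 567473901338283935851333961424094785359344095321) (.leaf 2666662406235663518947582273168946460356741844470)) (.leaf 2917718275653822864122967759801835975445647682741)))))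 (.node (.node (.node (.node (.node (.leaf 1205057833008911914722072504006783163865431679946) (.leaf 759222601545842731732737486396711495778084619414)) (.node (.leaf 2564953551416631484190151387962848729743503135639) (.leaf 1424843683350014688580244621697090284218392823021))) (.node (.node (.leaf 385993376507494435493957117130624711423491580722) (.leaf 407367613703050259258574673592226610411568309352)) (.node (.leaf 1629532060826034644646916280476692279545795432762) (.leaf 2397250890010158105562584351144658616751493811414)))) (.node (.node (.node (.leaf 2554462170170184376730785418007240234060205534993) (.leaf 2258671626635239556732327054587707651631774746568)) (.node (.leaf 595512445012533988135182312775460000253489457097) (.leaf 1342762899713938522818750407313737326177639718184))) (.node (.node (.leaf 1574121436145506453385409395637821717114555023451) (.leaf 486692689741406237421117598197914580685773450242)) (.leaf 79372733287520723595146611729168738349161081884)))) (.node (.node (.node (.node (.leaf 494325833732452029609788194075496114516805584962)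 (.leaf 2689131052518191936560018795233157849557394189522)) (.node (.leaf 163345879256101214281849242812609007250019357586) (.leaf 976930664838714293493470094627329084236057991034))) (.node (.node (.leaf 1778523346935855824659134761177302950242450133362) (.leaf 1758162705556715852496244279947544480260733335272)) (.node (.leaf 2349125860552130312060556032402855847166428549603) (.leaf 810200527498673384105897078093667553649978720900)))) (.node (.node (.node (.leaf 1674576491110769055697385610007613881502224466229) (.leaf 82134313820610635642490355836918404272902650064)) (.node (.leaf 121399844690303795938101112994563611755331515264) (.leaf 2807525789854650048100273795948051343436325538224))) (.node (.node (.leaf 1230109112184158109312081515943053434864807860787) (.leaf 250403296779183328558324244875561264358879662431)) (.leaf 820662837462951939168187004193137629805513737522))))))))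

def threeElt7 : Janko.Tree (ℕ) :=
  (.node (.node (.node (.node (.node (.node (.node (.node (.leaf 854487462137188991215737421764456301789263966420) (.leaf 505698347144828348653975309355263132263937306933)) (.node (.leaf 1867839346653796050604955658156926298506010271821) (.leaf 979841116705133429304102507501542771760981873205))) (.node (.node (.leaf 1254245072716264533319847193708117666195982888016) (.leaf 619676115947606521587729144170762611436428447872)) (.node (.leaf 339164071879565620333298763371193064043193937731) (.leaf 1307167866066212058352701054930823124140098813555)))) (.node (.node (.node (.leaf 2429278202496929855838353678035837762482037705552) (.leaf 284635157935034197413408600638260455015713716580)) (.node (.leaf 49085844518436805177822895921792546803482819890) (.leaf 2303545406629904084562560380344834748067805838843))) (.node (.node (.leaf 2017140041429809006070010796344758415023305128973) (.leaf 2087901566530774670524199449608440922132731851897)) (.node (.leaf 2851859971784072940623343891835195541392807442806) (.leaf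 2599110537844115163664329313567176483050399766193))))) (.node (.node (.node (.node (.leaf 1321717578606137219596104805395978245615978494632) (.leaf 1753447721916678448747667879235111473713629078551)) (.node (.leaf 631784956594395629294121217846212623926367981652) (.leaf 1482038229351496290385398093334378847666236387421))) (.node (.node (.leaf 361452805122314202029496413988910237845301730683) (.leaf 348162110730429924993795779008974071367535332377)) (.node (.leaf 1984969761506516999413146930475478474907167083472) (.leaf 2293688091190638282229933447904766890083524585970)))) (.node (.node (.node (.leaf 1802470028899518886188975653721926329115438634078) (.leaf 1110587494938165382124094963055607464755003113078)) (.node (.leaf 1186817582428142749839371130565821054517660794275) (.leaf 807199157096339171960401554819223727877010794648))) (.node (.node (.leaf 1203518985619232330334206958433817259928268777507) (.leaf 893553103974394070135032557016325612687168632285)) (.leaf 2416789850458578759636197401775330766002363049137))))) (.node (.node (.node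 (.node (.node (.leaf 1162073870222700446951072463367799826893399990083) (.leaf 2921895555149528387587049381875115122930904454817)) (.node (.leaf 1527322098156576991994296172925417616265617519226) (.leaf 2418331767726276080996217532678307297621319510189))) (.node (.node (.leaf 459588123423060944842192371038403237773433929001) (.leaf 35012187010433662052883074242092743172475585312)) (.node (.leaf 1367562046621363172361624893136340025172244976251) (.leaf 2360782969827987224248731649898868546989864509660)))) (.node (.node (.node (.leaf 1220564356778719345438318464850195270676141571933) (.leaf 532446806225883884310730719655792711728645622310)) (.node (.leaf 1925749643529859114915181619401008295710801986705) (.leaf 78854915833478551315225335099337599725768244083))) (.node (.node (.leaf 2689426675117683966119796502124032731714931889571) (.leaf 2758489577526338642118238576538383364586471430283)) (.leaf 633021731989376402595334885423710827663885063057)))) (.node (.node (.node (.node (.leaf 1490108264257180027430061966121690725064474537317) (.leaf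 2793168609134828258464502357574930265805270303951)) (.node (.leaf 2578753077677926773902080988337129513457005431613) (.leaf 1103489482266525041788499681498092709664192013380))) (.node (.node (.leaf 871061981502847719728985401464886388657099350837) (.leaf 512498683781409299688672599991046303614457140443)) (.node (.leaf 2245497511210316495883014349442593277933573299228) (.leaf 405192837649053991633684093406640077989992293120)))) (.node (.node (.node (.leaf 475269158436973225768602063525707973961501934357) (.leaf 821442813101744148206709078969490874636832345244)) (.node (.leaf 2816306673543021303378152944860635362111897051631) (.leaf 883151967552772350116404595334349614732838594139))) (.node (.node (.leaf 2111103498607554318800492084200218699172072553838) (.leaf 713224094751763352262519270923529527522603510510)) (.leaf 2155890784612851348685426861647253404165492142570)))))) (.node (.node (.node (.node (.node (.node (.leaf 2050446171914498651087612101934836615568800524180) (.leaf 1551808077115290908735480083614899389645175674605)) (.node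 (.leaf 2554068458467251159709085263896244538081491503116) (.leaf 576210700278806659425959828468351330973027466359))) (.node (.node (.leaf 642291952768718111119334022831381863335606880385) (.leaf 553984305784523792119180392068920143380950688715)) (.node (.leaf 199591723957451268587740883031616786389824107641) (.leaf 1168089892097069590678859148753994965359582396432)))) (.node (.node (.node (.leaf 1320394321119186019670045518763572898224894630401) (.leaf 1743287957254114069872102533190140692136832519779)) (.node (.leaf 2909842713156194587211951618413980113380904580913) (.leaf 1396181896159815895976949410538610305485883003871))) (.node (.node (.leaf 1379354275239106759955443729322942813136899014517) (.leaf 850222174107930653251053395592831415493170125720)) (.node (.leaf 2430689405920338487445041999631536344039220031819) (.leaf 1180864940392492793505290542233056326180497544884))))) (.node (.node (.node (.node (.leaf 2247699803868303437840177869012922069167025957260) (.leaf 1377978686848766693254555247584210424180126784954)) (.node (.leaf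 2361394115600589907976500062956585022705342520542) (.leaf 412571681960163641422300483122223404535203048660))) (.node (.node (.leaf 82723798545789282332892200868152771475564282861) (.leaf 1089492379516995579883010082879184408686575109540)) (.node (.leaf 508133780191779532381373829219851690407900355593) (.leaf 1952295353785478061520658062041260407726972762558)))) (.node (.node (.node (.leaf 492461339899375284364680260395257820250938773176) (.leaf 2589197460190233878046237629191085780499944482174)) (.node (.leaf 1583953206810598163068499515905124962130934672880) (.leaf 2476289604327030880127979551966872193269825609857))) (.node (.node (.leaf 1870496392127494380637705494405272241587073215049) (.leaf 2316581160568927515165368015818916110428002137805)) (.leaf 2517870479253512955817016559122203442068819784424))))) (.node (.node (.node (.node (.node (.leaf 2235153145868368179918201972841446953059951118097) (.leaf 848512629502043664550649007577047971871750710889)) (.node (.leaf 368809925920485142017429796384755210164579309767) (.leaf 230551248685314630619567542177978065025150720430)))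 (.node (.node (.leaf 2466171132744567232918734801117887941362593136846) (.leaf 436427861981655199013909939668996364455524395096)) (.node (.leaf 633372299517559201849247652826503337094788319124) (.leaf 1115733567211587388546290333933074613875537622398)))) (.node (.node (.node (.leaf 2109543118707398932031852433531380560682472691360) (.leaf 1284426255081459532100764726788090877813089882115)) (.node (.leaf 202785259051114504923909300787330259074558104298) (.leaf 1311313616879456819671569527158343059469338493490))) (.node (.node (.leaf 1605934539832114388029139318753488008395234158791) (.leaf 1834311307872453153087553636437713403601226814665)) (.leaf 1049392319538705610992509828331716960917652594642)))) (.node (.node (.node (.node (.leaf 1607967297756751097473144484502341287845260214037) (.leaf 2085306730963216203349712528453956553703218245119)) (.node (.leaf 939794697815138563130369956951913468098852201548) (.leaf 2465031429050145007111449452855732834660543355393))) (.node (.node (.leaf 1048979508559871874006504767597434874181651529471)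 (.leaf 450732142965442518876936004454425938905222091615)) (.node (.leaf 533864878942000101571701185332960000680952229966) (.leaf 1492116563355977033923284480091422789696184303390)))) (.node (.node (.node (.leaf 290855234465540512867930089472791922678940728688) (.leaf 324847233241048219130699004240352675308226673477)) (.node (.leaf 1890819436787411830059353585151428193690492754859) (.leaf 424492154808475223348042985116623653313514368296))) (.node (.node (.leaf 523440259070864906033657729249264381499917512102) (.leaf 2609924706794407051557742066354620752709116049612)) (.leaf 1939394985348448323755276389825792767932301060625))))))) (.node (.node (.node (.node (.node (.node (.node (.leaf 2693217071901582109433342434582988463678546359913) (.leaf 730206907456929550236843280431064719939558015543)) (.node (.leaf 945442556737782335840322130178926568290316035206) (.leaf 715729219151765924137420271118095263014336675258))) (.node (.node (.leaf 944492383408241083487649069669264032923519332352) (.leaf 2816262004203456449922064390718564860111195463813))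 (.node (.leaf 448918359126658362335344982080895464529475843363) (.leaf 232788419760803782060435382688001014940361930418)))) (.node (.node (.node (.leaf 203356597561936080285399712406286188205106473710) (.leaf 1186194842669740614908109107467992156072454913853)) (.node (.leaf 179102859886083740360780384241444210006818820) (.leaf 426197711791892438562596170530297066527391089883))) (.node (.node (.leaf 1552225376221286540152660717955081539984645317125) (.leaf 1849426893185664862181009632656945868584641437772)) (.node (.leaf 2705641124823872554788072775139014423550745003641) (.leaf 664678061634927659814689859225092093295485411709))))) (.node (.node (.node (.node (.leaf 305322269690125380337282791317558583407783997270) (.leaf 2135040236405257948975667080408267122480864209931)) (.node (.leaf 2637253902761507223676713576601954677564208395414) (.leaf 15146697044673860445135406637272956496867423865))) (.node (.node (.leaf 450560699277523330949219037408948991761573916169) (.leaf 509690936410293292008735124269256875484202420659)) (.node (.leaf 1435314241802391549013994438705750284312925065021)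 (.leaf 626492666136499578557324137577168205604969167522)))) (.node (.node (.node (.leaf 2038225125186066217049136462758902574729222964641) (.leaf 599063451228398703727273408354676564408874395370)) (.node (.leaf 1502152508839351585321914836300016902853323261345) (.leaf 1461012146299357292220335553251428752665480783284))) (.node (.node (.leaf 901501327156911727921607777556660535778458335495) (.leaf 2839245544253474548422935441754917141414345848556)) (.leaf 1951586572702625298923318366326813723944652289992))))) (.node (.node (.node (.node (.node (.leaf 2290953732893873813286452899377202440534648766895) (.leaf 171254107859300804313186530450193478451348421573)) (.node (.leaf 218262233293018654084668872498636329887923768688) (.leaf 709954074735816721615469290456481448669589209706))) (.node (.node (.leaf 1742788438141623304020338061507337547488955728515) (.leaf 642190010485104686253329214639066142621136973931)) (.node (.leaf 1076446462853155945163114376780113431855271775028) (.leaf 2293764072895990163605875408737300770436674263540)))) (.node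 (.node (.node (.leaf 2100107594991797708663264715288590968245025514347) (.leaf 1856981445547570542967711532070639600351787521226)) (.node (.leaf 2623582700132147785388555340283049753494770231296) (.leaf 626127685277345909574683362677123938159417161554))) (.node (.node (.leaf 93275121442398421347033265286835269966555882984) (.leaf 609706240491120771675358437512845697070545438917)) (.leaf 872017293452882920918572034266207613416702845958)))) (.node (.node (.node (.node (.leaf 2134499685578220165787914538752912702935784183430) (.leaf 1664279807318808985596059143668393100365595137610)) (.node (.leaf 1186663023158885691842575254419522483758738530414) (.leaf 1013848873396434305857856891250945291601841561410))) (.node (.node (.leaf 1013061016715168070913301546060051682020788598255) (.leaf 538543566396191553866210413631185154766616398040)) (.node (.leaf 1275279562923040636541584634715514970260839624438) (.leaf 2758021139206355758085004320296941302687018272989)))) (.node (.node (.node (.leaf 71743150017957188764287321825522675695352965573) (.leaf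 911998920034794614031362996067545804757591845162)) (.node (.leaf 1515407448676064837030965696242468910129623184035) (.leaf 2679765085625764073212980963622135842323929308259))) (.node (.node (.leaf 15687072396668287119483367404972425467155117601) (.leaf 2830135496387200756307270870756070390608833988634)) (.leaf 1420505060857462097901311659443393912113127530429)))))) (.node (.node (.node (.node (.node (.node (.leaf 976579657631483144113953648038061999231679517770) (.leaf 123854083242784356616077264360874710354126048387)) (.node (.leaf 378691794194552846806063194242795681658651471803) (.leaf 436472247521181197261560984117181640681151895069))) (.node (.node (.leaf 1115794012419736041333174038874112017035687673621) (.leaf 2632351164570070273101897129692377370141711163611)) (.node (.leaf 131155641475579435405386101669306564992671792528) (.leaf 229086206066621944666860779652254812299782263646)))) (.node (.node (.node (.leaf 733805705207245251153406394780843286779630809908) (.leaf 441076608676211106940978830604993217184773179608)) (.node (.leaf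 1402153639032467314155916796301003065109454901395) (.leaf 424514059952357189127711878457798411662734696934))) (.node (.node (.leaf 1859636127578311697650610396655405544552329260604) (.leaf 2602259298378543268353765274317016823697610729008)) (.leaf 2169236924175567701144562921280120961721282203198)))) (.node (.node (.node (.node (.leaf 1058724947762351089916576623727631308753285776895) (.leaf 1070186741637961638657370350742211111787036643894)) (.node (.leaf 380138410684665496436372836861035787117484014064) (.leaf 413659531097015696816164778341130837064550228415))) (.node (.node (.leaf 1595842718909363095280795170968536940456226899404) (.leaf 245648188154946050965811087505135096396665173777)) (.node (.leaf 577035716659266305348038865861119965532733294407) (.leaf 1824012689499070736722094682620430405785789949696)))) (.node (.node (.node (.leaf 929490896088518009241586631242812792088815153169) (.leaf 2863179751668421892431824185924541721020389405154)) (.node (.leaf 409202265455285304096725711477858937459963112075) (.leaf 1046488610448135439798543269586326057313198827973)))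 (.node (.node (.leaf 96434383639379999028251684266590252570826200487) (.leaf 2212967695217218233247783030209101027269521300859)) (.leaf 399314032253886329664051700953465179326399366567))))) (.node (.node (.node (.node (.node (.leaf 1083744112312734942053556219248071057496079874551) (.leaf 1826688251575910925851794288923075944947076814197)) (.node (.leaf 49843757978885158237810513513474192017879410723) (.leaf 321955627230026915559556090486507646801568938352))) (.node (.node (.leaf 224781657588866018056785909480569159250171274387) (.leaf 184423418905144712968296833882648065328351214072)) (.node (.leaf 1424495878336922337688967127636851739245062293252) (.leaf 2854151220226136085122683855018416350999033349631)))) (.node (.node (.node (.leaf 1145799427892976094590062031403115021813798736439) (.leaf 2041015553240508723332388441552473794546410354102)) (.node (.leaf 1243348282879530442509086170717868470246230096187) (.leaf 2588909056836258184852282811381748618907262009986))) (.node (.node (.leaf 625095335020965522517909731560087747372386249389)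 (.leaf 209127758554286137934804279146206061836113701449)) (.leaf 235836410470343469318942389184921588662961134914)))) (.node (.node (.node (.node (.leaf 2030537879421690261232763818669902724580872187869) (.leaf 977796036496015652008929629937813148969958887840)) (.node (.leaf 1814957912995612292870043724782912610434977667516) (.leaf 998461985128001610858828276110642824415859955868))) (.node (.node (.leaf 1411241943641596891573406692312187177543955866512) (.leaf 1159749783202320612630351298488758337097962985791)) (.node (.leaf 299799248460600753138978919445259601448562221691) (.leaf 1123925792340076496379901763036873796093493940298)))) (.node (.node (.node (.leaf 2747935287002477288133665844953061799947529588883) (.leaf 613051358363350554012547005845771671735694589558)) (.node (.leaf 371245163917694976214962323887684176072681646289) (.leaf 2815385416678097231008612136000807338993224515197))) (.node (.node (.leaf 987875516501131031138380288861179085628810708406) (.leaf 2121293984976375762088432149392077430139022660114)) (.leaf 2043131919699123396751036880329977989293905110147))))))))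

def threeElt : Janko.Tree (ℕ) := (.node (.node (.node threeElt0 threeElt4) (.node threeElt2 threeElt6)) (.node (.node threeElt1 threeElt5) (.node threeElt3 threeElt7)))

def threeNext0 : Janko.Tree (ℕ) :=
  (.node (.node (.node (.node (.node (.node (.node (.node (.node (.leaf 1) (.leaf 205)) (.node (.leaf 854) (.leaf 590))) (.node (.node (.leaf 461) (.leaf 271)) (.node (.leaf 1207) (.leaf 1680)))) (.node (.node (.node (.leaf 240) (.leaf 1604)) (.node (.leaf 827) (.leaf 891))) (.node (.node (.leaf 657) (.leaf 1775)) (.node (.leaf 1357) (.leaf 1785))))) (.node (.node (.node (.node (.leaf 123) (.leaf 1526)) (.node (.leaf 952) (.leaf 1488))) (.node (.node (.leaf 560) (.leaf 691)) (.node (.leaf 983) (.leaf 1204)))) (.node (.node (.node (.leaf 349) (.leaf 1655)) (.node (.leaf 1108) (.leaf 1910))) (.node (.node (.leaf 540) (.leaf 704)) (.leaf 1420))))) (.node (.node (.node (.node (.node (.leaf 63) (.leaf 1491)) (.node (.leaf 904) (.leaf 1859))) (.node (.node (.leaf 513) (.leaf 285)) (.node (.leaf 143) (.leaf 1713)))) (.node (.node (.node (.leaf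 297) (.leaf 1530)) (.node (.leaf 1070) (.leaf 1911))) (.node (.node (.leaf 64) (.leaf 1789)) (.leaf 174)))) (.node (.node (.node (.node (.leaf 182) (.leaf 1561)) (.node (.leaf 831) (.leaf 568))) (.node (.node (.leaf 608) (.leaf 1755)) (.node (.leaf 1098) (.leaf 1932)))) (.node (.node (.node (.leaf 403) (.leaf 1581)) (.node (.leaf 1165) (.leaf 1872))) (.node (.node (.leaf 807) (.leaf 1816)) (.leaf 1442)))))) (.node (.node (.node (.node (.node (.node (.leaf 32) (.leaf 734)) (.node (.leaf 875) (.leaf 1849))) (.node (.node (.leaf 39) (.leaf 277)) (.node (.leaf 1234) (.leaf 676)))) (.node (.node (.node (.leaf 268) (.leaf 1620)) (.node (.leaf 462) (.leaf 1902))) (.node (.node (.leaf 685) (.leaf 338)) (.node (.leaf 1179) (.leaf 1436))))) (.node (.node (.node (.node (.leaf 152) (.leaf 241)) (.node (.leaf 974) (.leaf 506))) (.node (.node (.leaf 584) (.leaf 1595)) (.node (.leaf 185) (.leaf 1462)))) (.node (.node (.node (.leaf 29) (.leaf 656)) (.node (.leaf 1140) (.leaf 548))) (.node (.node (.leaf 785) (.leaf 725)) (.leaf 684))))) (.node (.node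 (.node (.node (.node (.leaf 94) (.leaf 1508)) (.node (.leaf 895) (.leaf 618))) (.node (.node (.leaf 44) (.leaf 293)) (.node (.leaf 1280) (.leaf 1844)))) (.node (.node (.node (.leaf 321) (.leaf 350)) (.node (.leaf 1097) (.leaf 1575))) (.node (.node (.leaf 735) (.leaf 1771)) (.leaf 1405)))) (.node (.node (.node (.node (.leaf 66) (.leaf 1584)) (.node (.leaf 998) (.leaf 517))) (.node (.node (.leaf 630) (.leaf 1106)) (.node (.leaf 1339) (.leaf 1933)))) (.node (.node (.node (.leaf 433) (.leaf 1631)) (.node (.leaf 1187) (.leaf 1587))) (.node (.node (.leaf 754) (.leaf 1832)) (.leaf 1334))))))) (.node (.node (.node (.node (.node (.node (.node (.leaf 16) (.leaf 1418)) (.node (.leaf 864) (.leaf 404))) (.node (.node (.leaf 473) (.leaf 291)) (.node (.leaf 1220) (.leaf 1656)))) (.node (.node (.node (.leaf 254) (.leaf 239)) (.node (.leaf 882) (.leaf 1886))) (.node (.node (.leaf 670) (.leaf 1779)) (.node (.leaf 1365) (.leaf 1270))))) (.node (.node (.node (.node (.leaf 138) (.leaf 1535)) (.node (.leaf 962) (.leaf 1820))) (.node (.node (.leaf 572) (.leaf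 1742)) (.node (.leaf 1308) (.leaf 1342)))) (.node (.node (.node (.leaf 363) (.leaf 1661)) (.node (.leaf 1130) (.leaf 648))) (.node (.node (.leaf 773) (.leaf 1802)) (.leaf 767))))) (.node (.node (.node (.node (.node (.leaf 78) (.leaf 234)) (.node (.leaf 917) (.leaf 438))) (.node (.node (.leaf 527) (.leaf 289)) (.node (.leaf 1269) (.leaf 1934)))) (.node (.node (.node (.leaf 310) (.leaf 1639)) (.node (.leaf 1084) (.leaf 1758))) (.node (.node (.leaf 674) (.leaf 358)) (.leaf 1396)))) (.node (.node (.node (.node (.leaf 198) (.leaf 1573)) (.node (.leaf 999) (.leaf 446))) (.node (.node (.leaf 605) (.leaf 598)) (.node (.leaf 698) (.leaf 787)))) (.node (.node (.node (.leaf 418) (.leaf 580)) (.node (.leaf 1175) (.leaf 1862))) (.node (.node (.leaf 820) (.leaf 1808)) (.leaf 1450)))))) (.node (.node (.node (.node (.node (.node (.leaf 47) (.leaf 472)) (.node (.leaf 890) (.leaf 652))) (.node (.node (.leaf 500) (.leaf 1250)) (.node (.leaf 1247) (.leaf 855)))) (.node (.node (.node (.leaf 284) (.leaf 1628)) (.node (.leaf 1059) (.leaf 1893))) (.node (.node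 (.leaf 163) (.leaf 1786)) (.leaf 1242)))) (.node (.node (.node (.node (.leaf 167) (.leaf 1551)) (.node (.leaf 984) (.leaf 1633))) (.node (.node (.leaf 262) (.leaf 1009)) (.node (.leaf 1320) (.leaf 1897)))) (.node (.node (.node (.leaf 207) (.leaf 1536)) (.node (.leaf 1152) (.leaf 1810))) (.node (.node (.leaf 794) (.leaf 1013)) (.leaf 662))))) (.node (.node (.node (.node (.node (.leaf 108) (.leaf 1516)) (.node (.leaf 941) (.leaf 1840))) (.node (.node (.leaf 549) (.leaf 1441)) (.node (.leaf 1186) (.leaf 1014)))) (.node (.node (.node (.leaf 335) (.leaf 251)) (.node (.leaf 1109) (.leaf 929))) (.node (.node (.leaf 749) (.leaf 1669)) (.leaf 1413)))) (.node (.node (.node (.node (.leaf 226) (.leaf 236)) (.node (.leaf 1017) (.leaf 1880))) (.node (.node (.leaf 642) (.leaf 1632)) (.node (.leaf 1347) (.leaf 961)))) (.node (.node (.node (.leaf 35) (.leaf 1060)) (.node (.leaf 1196) (.leaf 1917))) (.node (.node (.leaf 844) (.leaf 976)) (.leaf 1416)))))))) (.node (.node (.node (.node (.node (.node (.node (.node (.leaf 9) (.leaf 1468)) (.node (.leaf 858)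 (.leaf 593))) (.node (.node (.leaf 408) (.leaf 1404)) (.node (.leaf 1213) (.leaf 957)))) (.node (.node (.node (.leaf 246) (.leaf 1599)) (.node (.leaf 1030) (.leaf 1898))) (.node (.node (.leaf 283) (.leaf 1777)) (.node (.leaf 166) (.leaf 1926))))) (.node (.node (.node (.node (.leaf 131) (.leaf 356)) (.node (.leaf 958) (.leaf 428))) (.node (.node (.leaf 567) (.leaf 1611)) (.node (.leaf 1304) (.leaf 985)))) (.node (.node (.node (.leaf 355) (.leaf 707)) (.node (.leaf 141) (.leaf 1766))) (.node (.node (.leaf 768) (.leaf 1792)) (.leaf 1423))))) (.node (.node (.node (.node (.node (.leaf 4) (.leaf 1496)) (.node (.leaf 911) (.leaf 530))) (.node (.node (.leaf 519) (.leaf 1681)) (.node (.leaf 1262) (.leaf 1430)))) (.node (.node (.node (.leaf 304) (.leaf 1635)) (.node (.leaf 1076) (.leaf 484))) (.node (.node (.leaf 716) (.leaf 354)) (.leaf 1393)))) (.node (.node (.node (.node (.leaf 190) (.leaf 1566)) (.node (.leaf 995) (.leaf 1869))) (.node (.node (.leaf 400) (.leaf 1649)) (.node (.leaf 771) (.leaf 1419)))) (.node (.node (.node (.leaf 411) (.leaf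 370)) (.node (.leaf 1104) (.leaf 557))) (.node (.node (.leaf 814) (.leaf 1821)) (.leaf 1380)))))) (.node (.node (.node (.node (.node (.node (.leaf 40) (.leaf 211)) (.node (.leaf 563) (.leaf 1853))) (.node (.node (.leaf 493) (.leaf 1313)) (.node (.leaf 1241) (.leaf 1371)))) (.node (.node (.node (.leaf 276) (.leaf 1625)) (.node (.leaf 1051) (.leaf 1809))) (.node (.node (.leaf 692) (.leaf 1236)) (.node (.leaf 1378) (.leaf 1118))))) (.node (.node (.node (.node (.leaf 160) (.leaf 1537)) (.node (.leaf 980) (.leaf 434))) (.node (.node (.leaf 575) (.leaf 1748)) (.node (.leaf 1122) (.leaf 1805)))) (.node (.node (.node (.leaf 385) (.leaf 1671)) (.node (.leaf 1148) (.leaf 543))) (.node (.node (.leaf 73) (.leaf 940)) (.leaf 839))))) (.node (.node (.node (.node (.node (.leaf 79) (.leaf 1512)) (.node (.leaf 894) (.leaf 1346))) (.node (.node (.leaf 544) (.leaf 1732)) (.node (.leaf 193) (.leaf 1399)))) (.node (.node (.node (.leaf 329) (.leaf 1119)) (.node (.leaf 1103) (.leaf 1883))) (.node (.node (.leaf 742) (.leaf 1796)) (.leaf 1409)))) (.node (.node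 (.node (.node (.leaf 218) (.leaf 1591)) (.node (.leaf 1010) (.leaf 1719))) (.node (.node (.leaf 636) (.leaf 1529)) (.node (.leaf 1343) (.leaf 1801)))) (.node (.node (.node (.leaf 441) (.leaf 1694)) (.node (.leaf 1192) (.leaf 1672))) (.node (.node (.leaf 837) (.leaf 1834)) (.leaf 202))))))) (.node (.node (.node (.node (.node (.node (.node (.leaf 24) (.leaf 1231)) (.node (.leaf 869) (.leaf 1846))) (.node (.node (.leaf 479) (.leaf 1115)) (.node (.leaf 1226) (.leaf 1366)))) (.node (.node (.node (.leaf 261) (.leaf 1079)) (.node (.leaf 1039) (.leaf 1900))) (.node (.node (.leaf 677) (.leaf 333)) (.node (.leaf 1370) (.leaf 1197))))) (.node (.node (.node (.node (.leaf 146) (.leaf 1540)) (.node (.leaf 967) (.leaf 1877))) (.node (.node (.leaf 579) (.leaf 340)) (.node (.leaf 1111) (.leaf 1804)))) (.node (.node (.node (.leaf 371) (.leaf 256)) (.node (.leaf 124) (.leaf 665))) (.node (.node (.leaf 91) (.leaf 397)) (.leaf 187))))) (.node (.node (.node (.node (.node (.leaf 86) (.leaf 217)) (.node (.leaf 925) (.leaf 1865))) (.node (.node (.leaf 533) (.leaf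 1460)) (.node (.leaf 145) (.leaf 750)))) (.node (.node (.node (.leaf 316) (.leaf 247)) (.node (.leaf 1091) (.leaf 1826))) (.node (.node (.leaf 728) (.leaf 1698)) (.leaf 1162)))) (.node (.node (.node (.node (.leaf 204) (.leaf 1578)) (.node (.leaf 1002) (.leaf 1848))) (.node (.node (.leaf 625) (.leaf 318)) (.node (.leaf 729) (.leaf 920)))) (.node (.node (.node (.leaf 425) (.leaf 1690)) (.node (.leaf 1182) (.leaf 570))) (.node (.node (.leaf 826) (.leaf 1021)) (.leaf 947)))))) (.node (.node (.node (.node (.node (.node (.leaf 55) (.leaf 402)) (.node (.leaf 896) (.leaf 644))) (.node (.node (.leaf 41) (.leaf 1717)) (.node (.leaf 1254) (.leaf 765)))) (.node (.node (.node (.leaf 21) (.leaf 243)) (.node (.leaf 1065) (.leaf 1908))) (.node (.node (.leaf 705) (.leaf 1716)) (.leaf 1386)))) (.node (.node (.node (.node (.leaf 12) (.leaf 1556)) (.node (.leaf 101) (.leaf 857))) (.node (.node (.leaf 602) (.leaf 1744)) (.node (.leaf 1206) (.leaf 1812)))) (.node (.node (.node (.leaf 85) (.leaf 1679)) (.node (.leaf 1159) (.leaf 1861))) (.node (.node (.leaf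 802) (.leaf 1433)) (.leaf 1150))))) (.node (.node (.node (.node (.node (.leaf 116) (.leaf 1521)) (.node (.leaf 948) (.leaf 1499))) (.node (.node (.leaf 555) (.leaf 1736)) (.node (.leaf 1294) (.leaf 1914)))) (.node (.node (.node (.leaf 342) (.leaf 1563)) (.node (.leaf 1114) (.leaf 607))) (.node (.node (.leaf 755) (.leaf 1421)) (.leaf 1410)))) (.node (.node (.node (.node (.leaf 233) (.leaf 1598)) (.node (.leaf 1020) (.leaf 494))) (.node (.node (.leaf 649) (.leaf 1695)) (.node (.leaf 956) (.leaf 1807)))) (.node (.node (.node (.leaf 454) (.leaf 1589)) (.node (.leaf 1201) (.leaf 1692))) (.node (.node (.leaf 849) (.leaf 401)) (.leaf 1463)))))))))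

def threeNext1 : Janko.Tree (ℕ) :=
  (.node (.node (.node (.node (.node (.node (.node (.node (.node (.leaf 2) (.leaf 1446)) (.node (.leaf 651) (.leaf 1545))) (.node (.node (.leaf 462) (.leaf 154)) (.node (.leaf 1012) (.leaf 1157)))) (.node (.node (.node (.leaf 241) (.leaf 1605)) (.node (.leaf 1026) (.leaf 1567))) (.node (.node (.leaf 658) (.leaf 1687)) (.node (.leaf 1358) (.leaf 890))))) (.node (.node (.node (.node (.leaf 124) (.leaf 893)) (.node (.leaf 254) (.leaf 1059))) (.node (.node (.leaf 561) (.leaf 1468)) (.node (.leaf 1300) (.leaf 513)))) (.node (.node (.node (.leaf 350) (.leaf 1422)) (.node (.leaf 1120) (.leaf 1101))) (.node (.node (.leaf 259) (.leaf 1799)) (.leaf 1421))))) (.node (.node (.node (.node (.node (.leaf 64) (.leaf 1492)) (.node (.leaf 905) (.leaf 1694))) (.node (.node (.leaf 514) (.leaf 1719)) (.node (.leaf 1257) (.leaf 860)))) (.node (.node (.node (.leaf 298) (.leaf 1277)) (.node (.leaf 1071) (.leaf 1912))) (.node (.node (.leaf 711) (.leaf 1790)) (.leaf 1391)))) (.node (.node (.node (.node (.leaf 183) (.leaf 1562))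 (.node (.leaf 990) (.leaf 1677))) (.node (.node (.leaf 375) (.leaf 1756)) (.node (.leaf 1327) (.leaf 1005)))) (.node (.node (.node (.leaf 404) (.leaf 1683)) (.node (.leaf 1166) (.leaf 657))) (.node (.node (.leaf 808) (.leaf 1796)) (.leaf 1443)))))) (.node (.node (.node (.node (.node (.node (.leaf 33) (.leaf 1480)) (.node (.leaf 876) (.leaf 1547))) (.node (.node (.leaf 487) (.leaf 1697)) (.node (.leaf 1224) (.leaf 1927)))) (.node (.node (.node (.leaf 269) (.leaf 1621)) (.node (.leaf 1045) (.leaf 1777))) (.node (.node (.leaf 555) (.leaf 1256)) (.node (.leaf 42) (.leaf 1018))))) (.node (.node (.node (.node (.leaf 153) (.leaf 1394)) (.node (.leaf 975) (.leaf 357))) (.node (.node (.leaf 585) (.leaf 1747)) (.node (.leaf 913) (.leaf 1923)))) (.node (.node (.node (.leaf 379) (.leaf 1668)) (.node (.leaf 1141) (.leaf 1919))) (.node (.node (.leaf 786) (.leaf 1806)) (.leaf 1430))))) (.node (.node (.node (.node (.node (.leaf 95) (.leaf 1509)) (.node (.leaf 820) (.leaf 1869))) (.node (.node (.leaf 538) (.leaf 1730)) (.node (.leaf 1281) (.leaf 588))))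 (.node (.node (.node (.leaf 322) (.leaf 1644)) (.node (.leaf 1098) (.leaf 342))) (.node (.node (.leaf 736) (.leaf 751)) (.leaf 842)))) (.node (.node (.node (.node (.leaf 212) (.leaf 1585)) (.node (.leaf 224) (.leaf 1506))) (.node (.node (.leaf 631) (.leaf 702)) (.node (.leaf 1041) (.leaf 886)))) (.node (.node (.node (.leaf 434) (.leaf 1685)) (.node (.leaf 1188) (.leaf 385))) (.node (.node (.leaf 831) (.leaf 1783)) (.leaf 454))))))) (.node (.node (.node (.node (.node (.node (.node (.leaf 17) (.leaf 1472)) (.node (.leaf 564) (.leaf 1825))) (.node (.node (.leaf 288) (.leaf 1386)) (.node (.leaf 1221) (.leaf 856)))) (.node (.node (.node (.leaf 233) (.leaf 1578)) (.node (.leaf 1035) (.leaf 1528))) (.node (.node (.leaf 671) (.leaf 1780)) (.node (.leaf 1366) (.leaf 112))))) (.node (.node (.node (.node (.leaf 139) (.leaf 1536)) (.node (.leaf 963) (.leaf 63))) (.node (.node (.leaf 573) (.leaf 1470)) (.node (.leaf 416) (.leaf 619)))) (.node (.node (.node (.leaf 364) (.leaf 1662)) (.node (.leaf 1131) (.leaf 1094))) (.node (.node (.leaf 774) (.leaf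 1456)) (.leaf 566))))) (.node (.node (.node (.node (.node (.leaf 79) (.leaf 1500)) (.node (.leaf 918) (.leaf 280))) (.node (.node (.leaf 528) (.leaf 1540)) (.node (.leaf 1270) (.leaf 456)))) (.node (.node (.node (.leaf 311) (.leaf 712)) (.node (.leaf 807) (.leaf 38))) (.node (.node (.leaf 721) (.leaf 206)) (.leaf 1397)))) (.node (.node (.node (.node (.leaf 199) (.leaf 1355)) (.node (.leaf 310) (.leaf 608))) (.node (.node (.leaf 618) (.leaf 675)) (.node (.leaf 1334) (.leaf 1943)))) (.node (.node (.node (.leaf 419) (.leaf 196)) (.node (.leaf 1176) (.leaf 1582))) (.node (.node (.leaf 7) (.leaf 1824)) (.leaf 516)))))) (.node (.node (.node (.node (.node (.node (.leaf 48) (.leaf 1484)) (.node (.leaf 891) (.leaf 1573))) (.node (.node (.leaf 477) (.leaf 898)) (.node (.leaf 1248) (.leaf 1922)))) (.node (.node (.node (.leaf 285) (.leaf 1550)) (.node (.leaf 1060) (.leaf 1906))) (.node (.node (.leaf 699) (.leaf 888)) (.leaf 1382)))) (.node (.node (.node (.node (.leaf 168) (.leaf 1552)) (.node (.leaf 864) (.leaf 1526))) (.node (.node (.leaf 596) (.leaf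 645)) (.node (.leaf 781) (.leaf 663)))) (.node (.node (.node (.leaf 391) (.leaf 69)) (.node (.leaf 102) (.leaf 1574))) (.node (.node (.leaf 795) (.leaf 1810)) (.leaf 1251))))) (.node (.node (.node (.node (.node (.leaf 109) (.leaf 152)) (.node (.leaf 586) (.leaf 1726))) (.node (.node (.leaf 550) (.leaf 1734)) (.node (.leaf 1291) (.leaf 1037)))) (.node (.node (.node (.leaf 336) (.leaf 1152)) (.node (.leaf 1110) (.leaf 579))) (.node (.node (.leaf 750) (.leaf 1245)) (.leaf 110)))) (.node (.node (.node (.node (.leaf 227) (.leaf 1594)) (.node (.leaf 433) (.leaf 1364))) (.node (.node (.leaf 643) (.leaf 1388)) (.node (.leaf 1348) (.leaf 1833)))) (.node (.node (.node (.leaf 449) (.leaf 1614)) (.node (.leaf 1197) (.leaf 1736))) (.node (.node (.leaf 493) (.leaf 1752)) (.leaf 229)))))))) (.node (.node (.node (.node (.node (.node (.node (.node (.leaf 10) (.leaf 1469)) (.node (.leaf 859) (.leaf 1609))) (.node (.node (.leaf 467) (.leaf 1704)) (.node (.leaf 1214) (.leaf 649)))) (.node (.node (.node (.leaf 247) (.leaf 1608)) (.node (.leaf 349) (.leaf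 1129))) (.node (.node (.leaf 665) (.leaf 1708)) (.node (.leaf 1273) (.leaf 1494))))) (.node (.node (.node (.node (.leaf 132) (.leaf 1530)) (.node (.leaf 959) (.leaf 1863))) (.node (.node (.leaf 568) (.leaf 1362)) (.node (.leaf 9) (.leaf 638)))) (.node (.node (.node (.leaf 356) (.leaf 1396)) (.node (.leaf 1125) (.leaf 1199))) (.node (.node (.leaf 304) (.leaf 545)) (.leaf 468))))) (.node (.node (.node (.node (.node (.leaf 71) (.leaf 1497)) (.node (.leaf 912) (.leaf 1130))) (.node (.node (.leaf 520) (.leaf 1294)) (.node (.leaf 1263) (.leaf 1925)))) (.node (.node (.node (.leaf 305) (.leaf 1116)) (.node (.leaf 1077) (.leaf 1544))) (.node (.node (.leaf 213) (.leaf 1610)) (.leaf 1383)))) (.node (.node (.node (.node (.leaf 191) (.leaf 1400)) (.node (.leaf 525) (.leaf 1618))) (.node (.node (.leaf 614) (.leaf 984)) (.node (.leaf 884) (.leaf 353)))) (.node (.node (.node (.leaf 412) (.leaf 837)) (.node (.leaf 1170) (.leaf 1754))) (.node (.node (.leaf 815) (.leaf 371)) (.leaf 970)))))) (.node (.node (.node (.node (.node (.node (.leaf 41) (.leaf 685))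 (.node (.leaf 883) (.leaf 1522))) (.node (.node (.leaf 494) (.leaf 1165)) (.node (.leaf 1242) (.leaf 915)))) (.node (.node (.node (.leaf 277) (.leaf 1209)) (.node (.leaf 1052) (.leaf 250))) (.node (.node (.leaf 693) (.leaf 1092)) (.node (.leaf 1379) (.leaf 1742))))) (.node (.node (.node (.node (.leaf 161) (.leaf 1546)) (.node (.leaf 642) (.leaf 1875))) (.node (.node (.leaf 590) (.leaf 1749)) (.node (.leaf 1316) (.leaf 1879)))) (.node (.node (.node (.leaf 386) (.leaf 1591)) (.node (.leaf 667) (.leaf 1904))) (.node (.node (.leaf 792) (.leaf 1809)) (.leaf 867))))) (.node (.node (.node (.node (.node (.leaf 101) (.leaf 165)) (.node (.leaf 935) (.leaf 1871))) (.node (.node (.leaf 329) (.leaf 1298)) (.node (.leaf 1286) (.leaf 1937)))) (.node (.node (.node (.leaf 330) (.leaf 1218)) (.node (.leaf 1104) (.leaf 1646))) (.node (.node (.leaf 743) (.leaf 1080)) (.leaf 1410)))) (.node (.node (.node (.node (.leaf 219) (.leaf 1114)) (.node (.leaf 1011) (.leaf 1381))) (.node (.node (.leaf 637) (.leaf 1201)) (.node (.leaf 790) (.leaf 1873)))) (.node (.node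 (.node (.leaf 442) (.leaf 1695)) (.node (.leaf 881) (.leaf 1243))) (.node (.node (.leaf 838) (.leaf 1835)) (.leaf 1460))))))) (.node (.node (.node (.node (.node (.node (.node (.leaf 25) (.leaf 916)) (.node (.leaf 870) (.leaf 131))) (.node (.node (.leaf 480) (.leaf 804)) (.node (.leaf 1227) (.leaf 840)))) (.node (.node (.node (.leaf 262) (.leaf 1211)) (.node (.leaf 1040) (.leaf 294))) (.node (.node (.leaf 678) (.leaf 1782)) (.node (.leaf 1254) (.leaf 869))))) (.node (.node (.node (.node (.leaf 147) (.leaf 1117)) (.node (.leaf 968) (.leaf 1690))) (.node (.node (.leaf 580) (.leaf 1745)) (.node (.leaf 788) (.leaf 1491)))) (.node (.node (.node (.leaf 372) (.leaf 1606)) (.node (.leaf 1137) (.leaf 1287))) (.node (.node (.leaf 780) (.leaf 1805)) (.leaf 1406))))) (.node (.node (.node (.node (.node (.leaf 87) (.leaf 1505)) (.node (.leaf 926) (.leaf 531))) (.node (.node (.leaf 534) (.leaf 703)) (.node (.leaf 1275) (.leaf 511)))) (.node (.node (.node (.leaf 156) (.leaf 1069)) (.node (.leaf 40) (.leaf 1761))) (.node (.node (.leaf 729) (.leaf 937))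 (.leaf 1399)))) (.node (.node (.node (.node (.leaf 205) (.leaf 1579)) (.node (.leaf 1003) (.leaf 1857))) (.node (.node (.leaf 171) (.leaf 1155)) (.node (.leaf 927) (.leaf 581)))) (.node (.node (.node (.leaf 426) (.leaf 86)) (.node (.leaf 737) (.leaf 1894))) (.node (.node (.leaf 827) (.leaf 1829)) (.leaf 431)))))) (.node (.node (.node (.node (.node (.node (.leaf 56) (.leaf 1488)) (.node (.leaf 897) (.leaf 1753))) (.node (.node (.leaf 422) (.leaf 1374)) (.node (.leaf 766) (.leaf 1532)))) (.node (.node (.node (.leaf 292) (.leaf 1631)) (.node (.leaf 1066) (.leaf 1055))) (.node (.node (.leaf 706) (.leaf 1329)) (.leaf 1387)))) (.node (.node (.node (.node (.leaf 175) (.leaf 1325)) (.node (.leaf 987) (.leaf 1819))) (.node (.node (.leaf 603) (.leaf 1584)) (.node (.leaf 1323) (.leaf 1942)))) (.node (.node (.node (.leaf 398) (.leaf 1680)) (.node (.leaf 45) (.leaf 1535))) (.node (.node (.leaf 803) (.leaf 1813)) (.leaf 1440))))) (.node (.node (.node (.node (.node (.leaf 117) (.leaf 72)) (.node (.leaf 949) (.leaf 136))) (.node (.node (.leaf 237) (.leaf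 1378)) (.node (.leaf 1295) (.leaf 1838)))) (.node (.node (.node (.leaf 343) (.leaf 1232)) (.node (.leaf 1115) (.leaf 1755))) (.node (.node (.leaf 756) (.leaf 1266)) (.leaf 1416)))) (.node (.node (.node (.node (.leaf 234) (.leaf 1599)) (.node (.leaf 1021) (.leaf 1897))) (.node (.node (.leaf 650) (.leaf 1771)) (.node (.leaf 1353) (.leaf 1924)))) (.node (.node (.node (.leaf 455) (.leaf 36)) (.node (.leaf 1202) (.leaf 1764))) (.node (.node (.leaf 850) (.leaf 977)) (.leaf 1335)))))))))

def threeNext2 : Janko.Tree (ℕ) :=
  (.node (.node (.node (.node (.node (.node (.node (.node (.node (.leaf 3) (.leaf 1246)) (.node (.leaf 81) (.leaf 1472))) (.node (.node (.leaf 37) (.leaf 1699)) (.node (.leaf 1208) (.leaf 1134)))) (.node (.node (.node (.leaf 17) (.leaf 1606)) (.node (.leaf 109) (.leaf 633))) (.node (.node (.leaf 659) (.leaf 328)) (.node (.leaf 1359) (.leaf 945))))) (.node (.node (.node (.node (.leaf 125) (.leaf 221)) (.node (.leaf 953) (.leaf 585))) (.node (.node (.leaf 562) (.leaf 1169)) (.node (.leaf 1124) (.leaf 1938)))) (.node (.node (.node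 (.leaf 351) (.leaf 711)) (.node (.leaf 1121) (.leaf 918))) (.node (.node (.leaf 762) (.leaf 1464)) (.leaf 1281))))) (.node (.node (.node (.node (.node (.leaf 65) (.leaf 1493)) (.node (.leaf 906) (.leaf 415))) (.node (.node (.leaf 515) (.leaf 1720)) (.node (.leaf 1258) (.leaf 987)))) (.node (.node (.node (.leaf 299) (.leaf 1045)) (.node (.leaf 1072) (.leaf 1913))) (.node (.node (.leaf 712) (.leaf 1706)) (.leaf 1300)))) (.node (.node (.node (.node (.leaf 184) (.leaf 617)) (.node (.leaf 991) (.leaf 1885))) (.node (.node (.leaf 609) (.leaf 1757)) (.node (.leaf 1328) (.leaf 845)))) (.node (.node (.node (.leaf 405) (.leaf 1684)) (.node (.leaf 128) (.leaf 554))) (.node (.node (.leaf 809) (.leaf 1817)) (.leaf 1438)))))) (.node (.node (.node (.node (.node (.node (.leaf 34) (.leaf 1190)) (.node (.leaf 877) (.leaf 1831))) (.node (.node (.leaf 469) (.leaf 1712)) (.node (.leaf 1235) (.leaf 793)))) (.node (.node (.node (.leaf 270) (.leaf 1622)) (.node (.leaf 305) (.leaf 1852))) (.node (.node (.leaf 686) (.leaf 1703)) (.node (.leaf 1374) (.leaf 1439)))))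 (.node (.node (.node (.node (.leaf 154) (.leaf 1545)) (.node (.leaf 966) (.leaf 1839))) (.node (.node (.leaf 586) (.leaf 664)) (.node (.leaf 1314) (.leaf 1088)))) (.node (.node (.node (.leaf 360) (.leaf 1075)) (.node (.leaf 1142) (.leaf 1864))) (.node (.node (.leaf 721) (.leaf 924)) (.leaf 1154))))) (.node (.node (.node (.node (.node (.leaf 96) (.leaf 1006)) (.node (.leaf 930) (.leaf 1693))) (.node (.node (.leaf 539) (.leaf 1568)) (.node (.leaf 1164) (.leaf 1195)))) (.node (.node (.node (.leaf 323) (.leaf 1645)) (.node (.leaf 1099) (.leaf 1090))) (.node (.node (.leaf 737) (.leaf 934)) (.leaf 1406)))) (.node (.node (.node (.node (.leaf 213) (.leaf 1586)) (.node (.leaf 870) (.leaf 1782))) (.node (.node (.leaf 632) (.leaf 492)) (.node (.leaf 161) (.leaf 795)))) (.node (.node (.node (.leaf 435) (.leaf 1524)) (.node (.leaf 1189) (.leaf 1925))) (.node (.node (.leaf 832) (.leaf 1353)) (.leaf 1392))))))) (.node (.node (.node (.node (.node (.node (.node (.leaf 18) (.leaf 1473)) (.node (.leaf 865) (.leaf 1845))) (.node (.node (.leaf 424) (.leaf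 1708)) (.node (.leaf 589) (.leaf 1788)))) (.node (.node (.node (.leaf 255) (.leaf 1613)) (.node (.leaf 1036) (.leaf 1896))) (.node (.node (.leaf 672) (.leaf 1750)) (.node (.leaf 723) (.leaf 1248))))) (.node (.node (.node (.node (.leaf 140) (.leaf 1052)) (.node (.leaf 964) (.leaf 1878))) (.node (.node (.leaf 574) (.leaf 680)) (.node (.leaf 1167) (.leaf 714)))) (.node (.node (.node (.leaf 365) (.leaf 596)) (.node (.leaf 1073) (.leaf 1918))) (.node (.node (.leaf 775) (.leaf 1295)) (.leaf 1299))))) (.node (.node (.node (.node (.node (.leaf 80) (.leaf 1054)) (.node (.leaf 919) (.leaf 455))) (.node (.node (.leaf 43) (.leaf 1176)) (.node (.leaf 1271) (.leaf 1341)))) (.node (.node (.node (.leaf 230) (.leaf 1509)) (.node (.leaf 1085) (.leaf 487))) (.node (.node (.leaf 722) (.leaf 1259)) (.leaf 177)))) (.node (.node (.node (.node (.leaf 200) (.leaf 1574)) (.node (.leaf 412) (.leaf 1533))) (.node (.node (.leaf 619) (.leaf 1762)) (.node (.leaf 1166) (.leaf 1800)))) (.node (.node (.node (.leaf 420) (.leaf 1689)) (.node (.leaf 1131) (.leaf 1924)))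 (.node (.node (.leaf 821) (.leaf 1825)) (.leaf 199)))))) (.node (.node (.node (.node (.node (.node (.leaf 49) (.leaf 212)) (.node (.leaf 440) (.leaf 1670))) (.node (.node (.leaf 501) (.leaf 573)) (.node (.leaf 1249) (.leaf 1734)))) (.node (.node (.node (.leaf 286) (.leaf 627)) (.node (.leaf 1061) (.leaf 736))) (.node (.node (.leaf 700) (.leaf 1449)) (.leaf 1383)))) (.node (.node (.node (.node (.leaf 169) (.leaf 1553)) (.node (.leaf 897) (.leaf 1534))) (.node (.node (.leaf 597) (.leaf 1751)) (.node (.leaf 1321) (.leaf 1471)))) (.node (.node (.node (.leaf 392) (.leaf 1675)) (.node (.leaf 1153) (.leaf 1920))) (.node (.node (.leaf 796) (.leaf 1811)) (.leaf 1435))))) (.node (.node (.node (.node (.node (.leaf 110) (.leaf 1517)) (.node (.leaf 942) (.leaf 818))) (.node (.node (.leaf 551) (.leaf 635)) (.node (.leaf 727) (.leaf 899)))) (.node (.node (.node (.leaf 337) (.leaf 1651)) (.node (.leaf 779) (.leaf 1884))) (.node (.node (.leaf 68) (.leaf 1636)) (.leaf 1414)))) (.node (.node (.node (.node (.leaf 228) (.leaf 1038)) (.node (.leaf 1018) (.leaf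 457))) (.node (.node (.leaf 115) (.leaf 326)) (.node (.leaf 1349) (.leaf 1928)))) (.node (.node (.node (.leaf 113) (.leaf 643)) (.node (.leaf 1198) (.leaf 1373))) (.node (.node (.leaf 214) (.leaf 1838)) (.leaf 203)))))))) (.node (.node (.node (.node (.node (.node (.node (.node (.leaf 11) (.leaf 1470)) (.node (.leaf 860) (.leaf 1344))) (.node (.node (.leaf 468) (.leaf 1705)) (.node (.leaf 1215) (.leaf 1137)))) (.node (.node (.node (.leaf 248) (.leaf 1609)) (.node (.leaf 1031) (.leaf 1033))) (.node (.node (.leaf 666) (.leaf 330)) (.node (.leaf 345) (.leaf 950))))) (.node (.node (.node (.node (.leaf 133) (.leaf 1531)) (.node (.leaf 960) (.leaf 1352))) (.node (.node (.leaf 48) (.leaf 1739)) (.node (.leaf 150) (.leaf 1794)))) (.node (.node (.node (.leaf 357) (.leaf 1310)) (.node (.leaf 1126) (.leaf 528))) (.node (.node (.leaf 769) (.leaf 1363)) (.leaf 1214))))) (.node (.node (.node (.node (.node (.leaf 72) (.leaf 1498)) (.node (.leaf 913) (.leaf 885))) (.node (.node (.leaf 521) (.leaf 287)) (.node (.leaf 1264) (.leaf 1385)))) (.node (.node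 (.node (.leaf 232) (.leaf 245)) (.node (.leaf 1078) (.leaf 981))) (.node (.node (.leaf 717) (.leaf 1686)) (.leaf 1394)))) (.node (.node (.node (.node (.leaf 192) (.leaf 1567)) (.node (.leaf 103) (.leaf 444))) (.node (.node (.leaf 615) (.leaf 1759)) (.node (.leaf 1330) (.leaf 1931)))) (.node (.node (.node (.leaf 413) (.leaf 1687)) (.node (.leaf 1171) (.leaf 1596))) (.node (.node (.leaf 816) (.leaf 552)) (.leaf 197)))))) (.node (.node (.node (.node (.node (.node (.leaf 42) (.leaf 442)) (.node (.leaf 884) (.leaf 410))) (.node (.node (.leaf 495) (.leaf 713)) (.node (.leaf 1243) (.leaf 1485)))) (.node (.node (.node (.leaf 278) (.leaf 1147)) (.node (.leaf 1053) (.leaf 836))) (.node (.node (.leaf 694) (.leaf 1564)) (.node (.leaf 1193) (.leaf 1323))))) (.node (.node (.node (.node (.leaf 162) (.leaf 1547)) (.node (.leaf 565) (.leaf 1881))) (.node (.node (.leaf 591) (.leaf 308)) (.node (.leaf 1317) (.leaf 1487)))) (.node (.node (.node (.leaf 170) (.leaf 281)) (.node (.leaf 1149) (.leaf 1505))) (.node (.node (.leaf 669) (.leaf 387)) (.leaf 815)))))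 (.node (.node (.node (.node (.node (.leaf 102) (.leaf 1513)) (.node (.leaf 901) (.leaf 522))) (.node (.node (.leaf 545) (.leaf 295)) (.node (.leaf 147) (.leaf 693)))) (.node (.node (.node (.leaf 331) (.leaf 1647)) (.node (.leaf 1105) (.leaf 502))) (.node (.node (.leaf 744) (.leaf 1683)) (.leaf 1297)))) (.node (.node (.node (.node (.leaf 220) (.leaf 1504)) (.node (.leaf 1012) (.leaf 868))) (.node (.node (.leaf 638) (.leaf 1083)) (.node (.leaf 710) (.leaf 1943)))) (.node (.node (.node (.leaf 443) (.leaf 1696)) (.node (.leaf 132) (.leaf 1642))) (.node (.node (.leaf 786) (.leaf 610)) (.leaf 1272))))))) (.node (.node (.node (.node (.node (.node (.node (.leaf 26) (.leaf 1447)) (.node (.leaf 871) (.leaf 637))) (.node (.node (.leaf 481) (.leaf 1623)) (.node (.leaf 1228) (.leaf 1322)))) (.node (.node (.node (.leaf 263) (.leaf 1257)) (.node (.leaf 1041) (.leaf 1901))) (.node (.node (.leaf 679) (.leaf 1783)) (.node (.leaf 191) (.leaf 1461))))) (.node (.node (.node (.node (.leaf 148) (.leaf 1541)) (.node (.leaf 969) (.leaf 1040))) (.node (.node (.leaf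 581) (.leaf 448)) (.node (.leaf 1188) (.leaf 1023)))) (.node (.node (.node (.leaf 373) (.leaf 499)) (.node (.leaf 279) (.leaf 536))) (.node (.node (.leaf 781) (.leaf 1202)) (.leaf 1428))))) (.node (.node (.node (.node (.node (.leaf 88) (.leaf 436)) (.node (.leaf 927) (.leaf 1866))) (.node (.node (.leaf 535) (.leaf 292)) (.node (.leaf 1263) (.leaf 912)))) (.node (.node (.node (.leaf 317) (.leaf 1638)) (.node (.leaf 1092) (.leaf 1770))) (.node (.node (.leaf 730) (.leaf 1265)) (.leaf 1400)))) (.node (.node (.node (.node (.leaf 206) (.leaf 1580)) (.node (.leaf 872) (.leaf 450))) (.node (.node (.leaf 626) (.leaf 1548)) (.node (.leaf 1337) (.leaf 789)))) (.node (.node (.node (.leaf 427) (.leaf 1691)) (.node (.leaf 303) (.leaf 892))) (.node (.node (.leaf 77) (.leaf 1830)) (.leaf 1454)))))) (.node (.node (.node (.node (.node (.node (.leaf 57) (.leaf 695)) (.node (.leaf 898) (.leaf 1858))) (.node (.node (.leaf 507) (.leaf 324)) (.node (.leaf 1136) (.leaf 673)))) (.node (.node (.node (.leaf 273) (.leaf 1577)) (.node (.leaf 157) (.leaf 1008))) (.node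 (.node (.leaf 374) (.leaf 348)) (.leaf 1388)))) (.node (.node (.node (.node (.leaf 176) (.leaf 1557)) (.node (.leaf 910) (.leaf 1882))) (.node (.node (.leaf 604) (.leaf 1753)) (.node (.leaf 1288) (.leaf 1255)))) (.node (.node (.node (.leaf 399) (.leaf 1546)) (.node (.leaf 1160) (.leaf 1909))) (.node (.node (.leaf 804) (.leaf 1814)) (.leaf 746))))) (.node (.node (.node (.node (.node (.leaf 118) (.leaf 1522)) (.node (.leaf 741) (.leaf 1046))) (.node (.node (.leaf 460) (.leaf 1086)) (.node (.leaf 1296) (.leaf 701)))) (.node (.node (.node (.leaf 344) (.leaf 1369)) (.node (.leaf 1116) (.leaf 1835))) (.node (.node (.leaf 757) (.leaf 1797)) (.leaf 1324)))) (.node (.node (.node (.node (.leaf 235) (.leaf 1600)) (.node (.leaf 1022) (.leaf 697))) (.node (.node (.leaf 651) (.leaf 1772)) (.node (.leaf 1354) (.leaf 1874)))) (.node (.node (.node (.leaf 456) (.leaf 1700)) (.node (.leaf 1203) (.leaf 1011))) (.node (.node (.leaf 851) (.leaf 1841)) (.leaf 678)))))))))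

def threeNext3 : Janko.Tree (ℕ) :=
  (.node (.node (.node (.node (.node (.node (.node (.node (.node (.leaf 4) (.leaf 481)) (.node (.leaf 427) (.leaf 1047))) (.node (.node (.leaf 463) (.leaf 1395)) (.node (.leaf 98) (.leaf 919)))) (.node (.node (.node (.leaf 242) (.leaf 1370)) (.node (.leaf 571) (.leaf 1523))) (.node (.node (.leaf 660) (.leaf 1590)) (.node (.leaf 1319) (.leaf 272))))) (.node (.node (.node (.node (.leaf 126) (.leaf 127)) (.node (.leaf 954) (.leaf 1720))) (.node (.node (.leaf 563) (.leaf 865)) (.node (.leaf 1301) (.leaf 1916)))) (.node (.node (.node (.leaf 352) (.leaf 1656)) (.node (.leaf 1122) (.leaf 327))) (.node (.node (.leaf 763) (.leaf 1800)) (.leaf 955))))) (.node (.node (.node (.node (.node (.leaf 66) (.leaf 409)) (.node (.leaf 896) (.leaf 1830))) (.node (.node (.leaf 367) (.leaf 1721)) (.node (.leaf 1259) (.leaf 1351)))) (.node (.node (.node (.leaf 300) (.leaf 1633)) (.node (.leaf 694) (.leaf 1772))) (.node (.node (.leaf 713) (.leaf 1602)) (.leaf 1392)))) (.node (.node (.node (.node (.leaf 185) (.leaf 1563)) (.node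 (.leaf 992) (.leaf 1886))) (.node (.node (.leaf 610) (.leaf 1758)) (.node (.leaf 683) (.leaf 1901)))) (.node (.node (.node (.leaf 406) (.leaf 1655)) (.node (.leaf 76) (.leaf 1921))) (.node (.node (.leaf 403) (.leaf 1818)) (.leaf 773)))))) (.node (.node (.node (.node (.node (.node (.leaf 35) (.leaf 1001)) (.node (.leaf 878) (.leaf 1645))) (.node (.node (.leaf 488) (.leaf 906)) (.node (.leaf 1236) (.leaf 1928)))) (.node (.node (.node (.leaf 271) (.leaf 1623)) (.node (.leaf 1046) (.leaf 1306))) (.node (.node (.leaf 687) (.leaf 1293)) (.node (.leaf 1121) (.leaf 479))))) (.node (.node (.node (.node (.leaf 155) (.leaf 74)) (.node (.leaf 976) (.leaf 1757))) (.node (.node (.leaf 587) (.leaf 1226)) (.node (.leaf 798) (.leaf 930)))) (.node (.node (.node (.leaf 380) (.leaf 1669)) (.node (.leaf 1143) (.leaf 1637))) (.node (.node (.leaf 787) (.leaf 1807)) (.leaf 735))))) (.node (.node (.node (.node (.node (.leaf 97) (.leaf 1510)) (.node (.leaf 931) (.leaf 1561))) (.node (.node (.leaf 540) (.leaf 1182)) (.node (.leaf 1282) (.leaf 925)))) (.node (.node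 (.node (.leaf 324) (.leaf 186)) (.node (.leaf 1100) (.leaf 1778))) (.node (.node (.leaf 738) (.leaf 1794)) (.leaf 1407)))) (.node (.node (.node (.node (.leaf 214) (.leaf 1587)) (.node (.leaf 1007) (.leaf 1622))) (.node (.node (.leaf 633) (.leaf 1593)) (.node (.leaf 1315) (.leaf 1900)))) (.node (.node (.node (.leaf 436) (.leaf 1442)) (.node (.leaf 690) (.leaf 1598))) (.node (.node (.leaf 833) (.leaf 1061)) (.leaf 1457))))))) (.node (.node (.node (.node (.node (.node (.node (.leaf 19) (.leaf 1474)) (.node (.leaf 866) (.leaf 1846))) (.node (.node (.leaf 474) (.leaf 716)) (.node (.leaf 1222) (.leaf 1478)))) (.node (.node (.node (.leaf 256) (.leaf 1357)) (.node (.leaf 485) (.leaf 1816))) (.node (.node (.leaf 673) (.leaf 796)) (.node (.leaf 1367) (.leaf 819))))) (.node (.node (.node (.node (.leaf 141) (.leaf 1537)) (.node (.leaf 965) (.leaf 252))) (.node (.node (.leaf 575) (.leaf 405)) (.node (.leaf 853) (.leaf 1302)))) (.node (.node (.node (.leaf 366) (.leaf 1639)) (.node (.leaf 1132) (.leaf 1728))) (.node (.node (.leaf 776) (.leaf 1803))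 (.leaf 1425))))) (.node (.node (.node (.node (.node (.leaf 81) (.leaf 1501)) (.node (.leaf 920) (.leaf 1862))) (.node (.node (.leaf 529) (.leaf 907)) (.node (.leaf 1272) (.leaf 742)))) (.node (.node (.node (.leaf 312) (.leaf 32)) (.node (.leaf 1086) (.leaf 1914))) (.node (.node (.leaf 723) (.leaf 1792)) (.leaf 1398)))) (.node (.node (.node (.node (.leaf 201) (.leaf 626)) (.node (.leaf 1000) (.leaf 1235))) (.node (.node (.leaf 620) (.leaf 1390)) (.node (.leaf 1015) (.leaf 1845)))) (.node (.node (.node (.leaf 421) (.leaf 1684)) (.node (.leaf 1177) (.leaf 1689))) (.node (.node (.leaf 55) (.leaf 1826)) (.leaf 1184)))))) (.node (.node (.node (.node (.node (.node (.leaf 50) (.leaf 1465)) (.node (.leaf 892) (.leaf 331))) (.node (.node (.leaf 502) (.leaf 337)) (.node (.leaf 1250) (.leaf 783)))) (.node (.node (.node (.leaf 287) (.leaf 1629)) (.node (.leaf 1062) (.leaf 1822))) (.node (.node (.leaf 701) (.leaf 1304)) (.leaf 1340)))) (.node (.node (.node (.node (.leaf 170) (.leaf 1475)) (.node (.leaf 985) (.leaf 1553))) (.node (.node (.leaf 598)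 (.leaf 1583)) (.node (.leaf 1322) (.leaf 496)))) (.node (.node (.node (.leaf 393) (.leaf 381)) (.node (.leaf 1154) (.leaf 1667))) (.node (.node (.leaf 797) (.leaf 447)) (.leaf 1436))))) (.node (.node (.node (.node (.node (.leaf 111) (.leaf 1434)) (.node (.leaf 943) (.leaf 286))) (.node (.node (.leaf 552) (.leaf 1107)) (.node (.leaf 877) (.leaf 606)))) (.node (.node (.node (.leaf 338) (.leaf 1652)) (.node (.leaf 418) (.leaf 1078))) (.node (.node (.leaf 672) (.leaf 863)) (.leaf 705)))) (.node (.node (.node (.node (.leaf 146) (.leaf 1595)) (.node (.leaf 623) (.leaf 278))) (.node (.node (.leaf 644) (.leaf 1559)) (.node (.leaf 604) (.leaf 1939)))) (.node (.node (.node (.leaf 450) (.leaf 1699)) (.node (.leaf 420) (.leaf 997))) (.node (.node (.leaf 845) (.leaf 1839)) (.leaf 1461)))))))) (.node (.node (.node (.node (.node (.node (.node (.node (.leaf 12) (.leaf 473)) (.node (.leaf 261) (.leaf 1844))) (.node (.node (.leaf 469) (.leaf 1706)) (.node (.leaf 1216) (.leaf 1444)))) (.node (.node (.node (.leaf 249) (.leaf 666)) (.node (.leaf 1032) (.leaf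 1899))) (.node (.node (.leaf 90) (.leaf 1189)) (.node (.leaf 1363) (.leaf 1934))))) (.node (.node (.node (.node (.leaf 134) (.leaf 778)) (.node (.leaf 944) (.leaf 1834))) (.node (.node (.leaf 471) (.leaf 1740)) (.node (.leaf 1305) (.leaf 1030)))) (.node (.node (.node (.leaf 358) (.leaf 1658)) (.node (.leaf 1127) (.leaf 1775))) (.node (.node (.leaf 770) (.leaf 1801)) (.leaf 1049))))) (.node (.node (.node (.node (.node (.leaf 73) (.leaf 1499)) (.node (.leaf 914) (.leaf 1861))) (.node (.node (.leaf 522) (.leaf 1657)) (.node (.leaf 1265) (.leaf 964)))) (.node (.node (.node (.leaf 306) (.leaf 1600)) (.node (.leaf 1079) (.leaf 1653))) (.node (.node (.leaf 407) (.leaf 1314)) (.leaf 1320)))) (.node (.node (.node (.node (.leaf 193) (.leaf 1568)) (.node (.leaf 939) (.leaf 1858))) (.node (.node (.leaf 125) (.leaf 1696)) (.node (.leaf 946) (.leaf 1850)))) (.node (.node (.node (.leaf 392) (.leaf 1072)) (.node (.leaf 539) (.leaf 1065))) (.node (.node (.leaf 216) (.leaf 1791)) (.leaf 1343)))))) (.node (.node (.node (.node (.node (.node (.leaf 43) (.leaf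 1482)) (.node (.leaf 885) (.leaf 1516))) (.node (.node (.leaf 118) (.leaf 1713)) (.node (.leaf 34) (.leaf 958)))) (.node (.node (.node (.leaf 279) (.leaf 1626)) (.node (.leaf 1054) (.leaf 176))) (.node (.node (.leaf 695) (.leaf 1192)) (.node (.leaf 1380) (.leaf 1935))))) (.node (.node (.node (.node (.leaf 163) (.leaf 1548)) (.node (.leaf 981) (.leaf 1234))) (.node (.node (.leaf 592) (.leaf 1312)) (.node (.leaf 1318) (.leaf 1814)))) (.node (.node (.node (.leaf 387) (.leaf 190)) (.node (.leaf 1150) (.leaf 1722))) (.node (.node (.leaf 793) (.leaf 1802)) (.leaf 1432))))) (.node (.node (.node (.node (.node (.leaf 103) (.leaf 1514)) (.node (.leaf 936) (.leaf 1175))) (.node (.node (.leaf 503) (.leaf 1724)) (.node (.leaf 1239) (.leaf 1044)))) (.node (.node (.node (.leaf 332) (.leaf 1271)) (.node (.leaf 1106) (.leaf 1541))) (.node (.node (.leaf 724) (.leaf 1330)) (.leaf 1411)))) (.node (.node (.node (.node (.leaf 221) (.leaf 1592)) (.node (.leaf 1013) (.leaf 359))) (.node (.node (.leaf 639) (.leaf 851)) (.node (.leaf 1344) (.leaf 558)))) (.node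 (.node (.node (.leaf 444) (.leaf 1180)) (.node (.leaf 677) (.leaf 1435))) (.node (.node (.leaf 839) (.leaf 1836)) (.leaf 681))))))) (.node (.node (.node (.node (.node (.node (.node (.leaf 27) (.leaf 1477)) (.node (.leaf 872) (.leaf 1847))) (.node (.node (.leaf 482) (.leaf 1709)) (.node (.leaf 1229) (.leaf 57)))) (.node (.node (.node (.leaf 264) (.leaf 1463)) (.node (.leaf 1042) (.leaf 1902))) (.node (.node (.leaf 680) (.leaf 1665)) (.node (.leaf 686) (.leaf 1786))))) (.node (.node (.node (.node (.leaf 149) (.leaf 1542)) (.node (.leaf 282) (.leaf 498))) (.node (.node (.leaf 515) (.leaf 597)) (.node (.leaf 1311) (.leaf 1628)))) (.node (.node (.node (.leaf 374) (.leaf 1666)) (.node (.leaf 94) (.leaf 1918))) (.node (.node (.leaf 782) (.leaf 822)) (.leaf 1429))))) (.node (.node (.node (.node (.node (.leaf 89) (.leaf 144)) (.node (.leaf 321) (.leaf 347))) (.node (.node (.leaf 361) (.leaf 1729)) (.node (.leaf 1276) (.leaf 1908)))) (.node (.node (.node (.leaf 318) (.leaf 80)) (.node (.leaf 1093) (.leaf 1617))) (.node (.node (.leaf 731) (.leaf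 1493)) (.leaf 739)))) (.node (.node (.node (.node (.leaf 207) (.leaf 1581)) (.node (.leaf 1004) (.leaf 1893))) (.node (.node (.leaf 627) (.leaf 1205)) (.node (.leaf 1331) (.leaf 1817)))) (.node (.node (.node (.leaf 428) (.leaf 1413)) (.node (.leaf 1183) (.leaf 1613))) (.node (.node (.leaf 49) (.leaf 1671)) (.leaf 1455)))))) (.node (.node (.node (.node (.node (.node (.leaf 58) (.leaf 846)) (.node (.leaf 899) (.leaf 1503))) (.node (.node (.leaf 508) (.leaf 1718)) (.node (.leaf 1255) (.leaf 1933)))) (.node (.node (.node (.leaf 293) (.leaf 1632)) (.node (.leaf 1067) (.leaf 1909))) (.node (.node (.leaf 707) (.leaf 1185)) (.leaf 1389)))) (.node (.node (.node (.node (.leaf 177) (.leaf 148)) (.node (.leaf 988) (.leaf 1883))) (.node (.node (.leaf 605) (.leaf 1194)) (.node (.leaf 1324) (.leaf 817)))) (.node (.node (.node (.leaf 400) (.leaf 1681)) (.node (.leaf 82) (.leaf 1354))) (.node (.node (.leaf 414) (.leaf 1751)) (.leaf 609))))) (.node (.node (.node (.node (.node (.leaf 119) (.leaf 133)) (.node (.leaf 521) (.leaf 1700))) (.node (.node (.leaf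 505) (.leaf 1737)) (.node (.leaf 1297) (.leaf 1450)))) (.node (.node (.node (.leaf 345) (.leaf 1084)) (.node (.leaf 458) (.leaf 78))) (.node (.node (.leaf 758) (.leaf 1349)) (.leaf 1417)))) (.node (.node (.node (.node (.leaf 236) (.leaf 1601)) (.node (.leaf 1023) (.leaf 835))) (.node (.node (.leaf 652) (.leaf 1773)) (.node (.leaf 192) (.leaf 1905)))) (.node (.node (.node (.leaf 457) (.leaf 160)) (.node (.leaf 1204) (.leaf 1247))) (.node (.node (.leaf 441) (.leaf 630)) (.leaf 1464)))))))))

def threeNext4 : Janko.Tree (ℕ) :=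
  (.node (.node (.node (.node (.node (.node (.node (.node (.node (.leaf 5) (.leaf 905)) (.node (.leaf 843) (.leaf 520))) (.node (.node (.leaf 464) (.leaf 1358)) (.node (.leaf 1209) (.leaf 1379)))) (.node (.node (.node (.leaf 223) (.leaf 343)) (.node (.leaf 1027) (.leaf 1842))) (.node (.node (.leaf 661) (.leaf 1773)) (.node (.leaf 1360) (.leaf 1332))))) (.node (.node (.node (.node (.leaf 127) (.leaf 1518)) (.node (.leaf 955) (.leaf 887))) (.node (.node (.leaf 564) (.leaf 719)) (.node (.leaf 1302) (.leaf 706)))) (.node (.node (.node (.leaf 27) (.leaf 1657)) (.node (.leaf 1123) (.leaf 1870))) (.node (.node (.leaf 764) (.leaf 841)) (.leaf 1422))))) (.node (.node (.node (.node (.node (.leaf 67) (.leaf 1494)) (.node (.leaf 907) (.leaf 743))) (.node (.node (.leaf 516) (.leaf 1722)) (.node (.leaf 1222) (.leaf 823)))) (.node (.node (.node (.leaf 117) (.leaf 275)) (.node (.leaf 175) (.leaf 1607))) (.node (.node (.leaf 87) (.leaf 1791)) (.leaf 1268)))) (.node (.node (.node (.node (.leaf 186) (.leaf 1145)) (.node (.leaf 682) (.leaf 1887))) (.node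 (.node (.leaf 611) (.leaf 313)) (.node (.leaf 1329) (.leaf 965)))) (.node (.node (.node (.leaf 407) (.leaf 1685)) (.node (.leaf 1156) (.leaf 1643))) (.node (.node (.leaf 810) (.leaf 1819)) (.leaf 1444)))))) (.node (.node (.node (.node (.node (.node (.leaf 36) (.leaf 780)) (.node (.leaf 879) (.leaf 1850))) (.node (.node (.leaf 489) (.leaf 1597)) (.node (.leaf 1237) (.leaf 908)))) (.node (.node (.node (.leaf 272) (.leaf 1616)) (.node (.leaf 1047) (.leaf 1803))) (.node (.node (.leaf 688) (.leaf 1784)) (.node (.leaf 1375) (.leaf 1290))))) (.node (.node (.node (.node (.leaf 156) (.leaf 1368)) (.node (.leaf 977) (.leaf 1474))) (.node (.node (.leaf 588) (.leaf 1552)) (.node (.leaf 1315) (.leaf 1426)))) (.node (.node (.node (.leaf 381) (.leaf 883)) (.node (.leaf 1144) (.leaf 601))) (.node (.node (.leaf 788) (.leaf 417)) (.leaf 992))))) (.node (.node (.node (.node (.node (.leaf 98) (.leaf 1466)) (.node (.leaf 93) (.leaf 1469))) (.node (.node (.leaf 393) (.leaf 1731)) (.node (.leaf 1283) (.leaf 1935)))) (.node (.node (.node (.leaf 325) (.leaf 1646))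 (.node (.leaf 119) (.leaf 1765))) (.node (.node (.leaf 739) (.leaf 1411)) (.leaf 179)))) (.node (.node (.node (.node (.leaf 15) (.leaf 1588)) (.node (.leaf 963) (.leaf 452))) (.node (.node (.leaf 634) (.leaf 532)) (.node (.leaf 1340) (.leaf 1016)))) (.node (.node (.node (.leaf 437) (.leaf 658)) (.node (.leaf 149) (.leaf 1674))) (.node (.node (.leaf 421) (.leaf 398)) (.leaf 993))))))) (.node (.node (.node (.node (.node (.node (.node (.leaf 20) (.leaf 1475)) (.node (.leaf 867) (.leaf 559))) (.node (.node (.leaf 475) (.leaf 1562)) (.node (.leaf 534) (.leaf 1603)))) (.node (.node (.node (.leaf 257) (.leaf 1614)) (.node (.leaf 1037) (.leaf 1043))) (.node (.node (.leaf 60) (.leaf 687)) (.node (.leaf 654) (.leaf 1790))))) (.node (.node (.node (.node (.leaf 142) (.leaf 1538)) (.node (.leaf 848) (.leaf 1879))) (.node (.node (.leaf 576) (.leaf 975)) (.node (.leaf 151) (.leaf 1929)))) (.node (.node (.node (.leaf 367) (.leaf 1663)) (.node (.leaf 1133) (.leaf 1619))) (.node (.node (.leaf 71) (.leaf 1348)) (.leaf 1240))))) (.node (.node (.node (.node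 (.node (.leaf 82) (.leaf 1502)) (.node (.leaf 921) (.leaf 1863))) (.node (.node (.leaf 514) (.leaf 1727)) (.node (.leaf 1273) (.leaf 1453)))) (.node (.node (.node (.leaf 249) (.leaf 1640)) (.node (.leaf 1087) (.leaf 954))) (.node (.node (.leaf 724) (.leaf 1183)) (.leaf 1356)))) (.node (.node (.node (.node (.leaf 14) (.leaf 1490)) (.node (.leaf 797) (.leaf 1892))) (.node (.node (.leaf 621) (.leaf 1511)) (.node (.leaf 159) (.leaf 1930)))) (.node (.node (.node (.leaf 422) (.leaf 614)) (.node (.leaf 1178) (.leaf 1919))) (.node (.node (.leaf 822) (.leaf 1827)) (.leaf 838)))))) (.node (.node (.node (.node (.node (.node (.leaf 51) (.leaf 1279)) (.node (.leaf 893) (.leaf 1857))) (.node (.node (.leaf 503) (.leaf 620)) (.node (.leaf 1251) (.leaf 914)))) (.node (.node (.node (.leaf 288) (.leaf 1630)) (.node (.leaf 526) (.leaf 1432))) (.node (.node (.leaf 702) (.leaf 497)) (.leaf 1384)))) (.node (.node (.node (.node (.leaf 171) (.leaf 227)) (.node (.leaf 986) (.leaf 1520))) (.node (.node (.leaf 599) (.leaf 1752)) (.node (.leaf 155) (.leaf 1477))))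 (.node (.node (.node (.leaf 394) (.leaf 1676)) (.node (.leaf 1155) (.leaf 1818))) (.node (.node (.leaf 798) (.leaf 1740)) (.leaf 1437))))) (.node (.node (.node (.node (.node (.leaf 112) (.leaf 1484)) (.node (.leaf 944) (.leaf 1873))) (.node (.node (.leaf 46) (.leaf 1572)) (.node (.leaf 932) (.leaf 1292)))) (.node (.node (.node (.leaf 339) (.leaf 1081)) (.node (.leaf 362) (.leaf 508))) (.node (.node (.leaf 751) (.leaf 395)) (.leaf 1336)))) (.node (.node (.node (.node (.leaf 229) (.leaf 1026)) (.node (.leaf 951) (.leaf 1071))) (.node (.node (.leaf 645) (.leaf 1662)) (.node (.leaf 1350) (.leaf 1316)))) (.node (.node (.node (.leaf 451) (.leaf 1621)) (.node (.leaf 1199) (.leaf 1260))) (.node (.node (.leaf 846) (.leaf 1836)) (.leaf 1227)))))))) (.node (.node (.node (.node (.node (.node (.node (.node (.leaf 13) (.leaf 1429)) (.node (.leaf 861) (.leaf 432))) (.node (.node (.leaf 470) (.leaf 1612)) (.node (.leaf 801) (.leaf 1507)))) (.node (.node (.node (.leaf 250) (.leaf 1610)) (.node (.leaf 320) (.leaf 903))) (.node (.node (.leaf 667) (.leaf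 1763)) (.node (.leaf 1364) (.leaf 1398))))) (.node (.node (.node (.node (.leaf 135) (.leaf 1532)) (.node (.leaf 689) (.leaf 876))) (.node (.node (.leaf 569) (.leaf 1741)) (.node (.leaf 1306) (.leaf 1937)))) (.node (.node (.node (.leaf 359) (.leaf 1659)) (.node (.leaf 1128) (.leaf 1749))) (.node (.node (.leaf 70) (.leaf 1560)) (.leaf 1100))))) (.node (.node (.node (.node (.node (.leaf 74) (.leaf 430)) (.node (.leaf 915) (.leaf 1217))) (.node (.node (.leaf 523) (.leaf 1723)) (.node (.leaf 1266) (.leaf 1210)))) (.node (.node (.node (.leaf 307) (.leaf 382)) (.node (.leaf 1080) (.leaf 1745))) (.node (.node (.leaf 718) (.leaf 1539)) (.leaf 1125)))) (.node (.node (.node (.node (.leaf 194) (.leaf 1569)) (.node (.leaf 774) (.leaf 1888))) (.node (.node (.leaf 616) (.leaf 1760)) (.node (.leaf 1331) (.leaf 770)))) (.node (.node (.node (.leaf 414) (.leaf 264)) (.node (.leaf 671) (.leaf 1922))) (.node (.node (.leaf 817) (.leaf 1822)) (.leaf 1445)))))) (.node (.node (.node (.node (.node (.node (.leaf 2) (.leaf 830)) (.node (.leaf 886) (.leaf 1854)))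 (.node (.node (.leaf 496) (.leaf 1177)) (.node (.leaf 1244) (.leaf 1738)))) (.node (.node (.node (.leaf 280) (.leaf 1361)) (.node (.leaf 1055) (.leaf 624))) (.node (.node (.leaf 696) (.leaf 1737)) (.node (.leaf 1282) (.leaf 1927))))) (.node (.node (.node (.node (.leaf 164) (.leaf 1549)) (.node (.leaf 982) (.leaf 1823))) (.node (.node (.leaf 510) (.leaf 1747)) (.node (.leaf 1319) (.leaf 731)))) (.node (.node (.node (.leaf 388) (.leaf 298)) (.node (.leaf 126) (.leaf 1678))) (.node (.node (.leaf 189) (.leaf 1212)) (.leaf 922))))) (.node (.node (.node (.node (.node (.leaf 104) (.leaf 219)) (.node (.leaf 937) (.leaf 1497))) (.node (.node (.leaf 546) (.leaf 1585)) (.node (.leaf 1287) (.leaf 1455)))) (.node (.node (.node (.leaf 25) (.leaf 1648)) (.node (.leaf 1107) (.leaf 1907))) (.node (.node (.leaf 745) (.leaf 1382)) (.leaf 1412)))) (.node (.node (.node (.node (.leaf 222) (.leaf 979)) (.node (.leaf 748) (.leaf 1890))) (.node (.node (.leaf 122) (.leaf 1769)) (.node (.leaf 459) (.leaf 1941)))) (.node (.node (.node (.leaf 445) (.leaf 1697)) (.node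 (.leaf 1181) (.leaf 996))) (.node (.node (.leaf 840) (.leaf 1594)) (.leaf 1327))))))) (.node (.node (.node (.node (.node (.node (.node (.leaf 28) (.leaf 852)) (.node (.leaf 215) (.leaf 504))) (.node (.node (.leaf 483) (.leaf 1579)) (.node (.leaf 1230) (.leaf 1780)))) (.node (.node (.node (.leaf 19) (.leaf 1617)) (.node (.leaf 309) (.leaf 1743))) (.node (.node (.leaf 681) (.leaf 336)) (.node (.leaf 209) (.leaf 1626))))) (.node (.node (.node (.node (.leaf 10) (.leaf 622)) (.node (.leaf 970) (.leaf 1492))) (.node (.node (.leaf 582) (.leaf 1729)) (.node (.leaf 1170) (.leaf 1427)))) (.node (.node (.node (.leaf 375) (.leaf 1667)) (.node (.leaf 1064) (.leaf 1326))) (.node (.node (.leaf 783) (.leaf 1151)) (.leaf 1261))))) (.node (.node (.node (.node (.node (.leaf 90) (.leaf 306)) (.node (.leaf 928) (.leaf 1483))) (.node (.node (.leaf 260) (.leaf 1605)) (.node (.leaf 1277) (.leaf 936)))) (.node (.node (.node (.leaf 319) (.leaf 1555)) (.node (.leaf 1094) (.leaf 1915))) (.node (.node (.leaf 732) (.leaf 1102)) (.leaf 1401)))) (.node (.node (.node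 (.node (.leaf 208) (.leaf 1582)) (.node (.leaf 1005) (.leaf 1813))) (.node (.node (.leaf 137) (.leaf 1764)) (.node (.leaf 1216) (.leaf 1476)))) (.node (.node (.node (.leaf 429) (.leaf 267)) (.node (.leaf 1184) (.leaf 1921))) (.node (.node (.leaf 813) (.leaf 1824)) (.leaf 1301)))))) (.node (.node (.node (.node (.node (.node (.leaf 59) (.leaf 931)) (.node (.leaf 900) (.leaf 1063))) (.node (.node (.leaf 509) (.leaf 1514)) (.node (.leaf 1223) (.leaf 943)))) (.node (.node (.node (.leaf 294) (.leaf 368)) (.node (.leaf 1068) (.leaf 561))) (.node (.node (.leaf 89) (.leaf 628)) (.leaf 1113)))) (.node (.node (.node (.node (.leaf 178) (.leaf 1558)) (.node (.leaf 763) (.leaf 989))) (.node (.node (.leaf 606) (.leaf 312)) (.node (.leaf 1172) (.leaf 1806)))) (.node (.node (.node (.leaf 31) (.leaf 1402)) (.node (.leaf 1161) (.leaf 1847))) (.node (.node (.leaf 805) (.leaf 1035)) (.leaf 1397))))) (.node (.node (.node (.node (.node (.leaf 120) (.leaf 1523)) (.node (.leaf 95) (.leaf 426))) (.node (.node (.leaf 556) (.leaf 1702)) (.node (.leaf 1298) (.leaf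 1940)))) (.node (.node (.node (.leaf 346) (.leaf 1654)) (.node (.leaf 1117) (.leaf 512))) (.node (.node (.leaf 759) (.leaf 1798)) (.leaf 799)))) (.node (.node (.node (.node (.leaf 237) (.leaf 1602)) (.node (.leaf 1024) (.leaf 1025))) (.node (.node (.leaf 653) (.leaf 1774)) (.node (.leaf 1355) (.leaf 1828)))) (.node (.node (.node (.leaf 458) (.leaf 1701)) (.node (.leaf 134) (.leaf 1668))) (.node (.node (.leaf 99) (.leaf 862)) (.leaf 1110)))))))))

def threeNext5 : Janko.Tree (ℕ) :=
  (.node (.node (.node (.node (.node (.node (.node (.node (.node (.leaf 6) (.leaf 1466)) (.node (.leaf 855) (.leaf 1010))) (.node (.node (.leaf 465) (.leaf 1703)) (.node (.leaf 1210) (.leaf 814)))) (.node (.node (.node (.leaf 243) (.leaf 1112)) (.node (.leaf 1028) (.leaf 1556))) (.node (.node (.leaf 662) (.leaf 1230)) (.node (.leaf 1361) (.leaf 1841))))) (.node (.node (.node (.node (.leaf 128) (.leaf 1527)) (.node (.leaf 956) (.leaf 341))) (.node (.node (.leaf 565) (.leaf 574)) (.node (.leaf 875) (.leaf 435)))) (.node (.node (.node (.leaf 263) (.leaf 1135))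 (.node (.leaf 1124) (.leaf 1647))) (.node (.node (.leaf 765) (.leaf 28)) (.leaf 923))))) (.node (.node (.node (.node (.node (.leaf 68) (.leaf 1495)) (.node (.leaf 908) (.leaf 1860))) (.node (.node (.leaf 517) (.leaf 1723)) (.node (.leaf 1260) (.leaf 1885)))) (.node (.node (.node (.leaf 301) (.leaf 1241)) (.node (.leaf 1073) (.leaf 1701))) (.node (.node (.leaf 714) (.leaf 1267)) (.leaf 692)))) (.node (.node (.node (.node (.leaf 187) (.leaf 1564)) (.node (.leaf 993) (.leaf 1888))) (.node (.node (.leaf 612) (.leaf 180)) (.node (.leaf 858) (.leaf 129)))) (.node (.node (.node (.leaf 408) (.leaf 1408)) (.node (.leaf 1167) (.leaf 1712))) (.node (.node (.leaf 811) (.leaf 1820)) (.leaf 1445)))))) (.node (.node (.node (.node (.node (.node (.leaf 37) (.leaf 509)) (.node (.leaf 880) (.leaf 1604))) (.node (.node (.leaf 490) (.leaf 1153)) (.node (.leaf 1238) (.leaf 740)))) (.node (.node (.node (.leaf 273) (.leaf 1296)) (.node (.leaf 1048) (.leaf 1051))) (.node (.node (.leaf 689) (.leaf 1424)) (.node (.leaf 745) (.leaf 222))))) (.node (.node (.node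 (.node (.leaf 157) (.leaf 1215)) (.node (.leaf 978) (.leaf 1769))) (.node (.node (.leaf 589) (.leaf 1161)) (.node (.leaf 768) (.leaf 1002)))) (.node (.node (.node (.leaf 382) (.leaf 616)) (.node (.leaf 1145) (.leaf 634))) (.node (.node (.leaf 789) (.leaf 1036)) (.leaf 826))))) (.node (.node (.node (.node (.node (.leaf 99) (.leaf 653)) (.node (.leaf 932) (.leaf 544))) (.node (.node (.leaf 541) (.leaf 1651)) (.node (.leaf 1284) (.leaf 1936)))) (.node (.node (.node (.leaf 326) (.leaf 1196)) (.node (.leaf 173) (.leaf 960))) (.node (.node (.leaf 26) (.leaf 501)) (.leaf 1372)))) (.node (.node (.node (.node (.leaf 215) (.leaf 1589)) (.node (.leaf 1008) (.leaf 1889))) (.node (.node (.leaf 635) (.leaf 1766)) (.node (.leaf 1341) (.leaf 307)))) (.node (.node (.node (.leaf 438) (.leaf 1091)) (.node (.leaf 1190) (.leaf 1317))) (.node (.node (.leaf 834) (.leaf 1473)) (.leaf 1458))))))) (.node (.node (.node (.node (.node (.node (.node (.leaf 21) (.leaf 757)) (.node (.leaf 868) (.leaf 59))) (.node (.node (.leaf 476) (.leaf 1347)) (.node (.leaf 1223)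 (.leaf 162)))) (.node (.node (.node (.leaf 258) (.leaf 1615)) (.node (.leaf 1038) (.leaf 661))) (.node (.node (.leaf 674) (.leaf 437)) (.node (.leaf 1368) (.leaf 1452))))) (.node (.node (.node (.node (.leaf 143) (.leaf 1089)) (.node (.leaf 966) (.leaf 299))) (.node (.node (.leaf 577) (.leaf 1743)) (.node (.leaf 1309) (.leaf 451)))) (.node (.node (.node (.leaf 368) (.leaf 1664)) (.node (.leaf 1134) (.leaf 1797))) (.node (.node (.leaf 777) (.leaf 941)) (.leaf 1426))))) (.node (.node (.node (.node (.node (.leaf 83) (.leaf 1082)) (.node (.leaf 922) (.leaf 1864))) (.node (.node (.leaf 530) (.leaf 1423)) (.node (.leaf 1274) (.leaf 314)))) (.node (.node (.node (.leaf 313) (.leaf 1126)) (.node (.leaf 1088) (.leaf 1859))) (.node (.node (.leaf 725) (.leaf 1793)) (.leaf 1198)))) (.node (.node (.node (.node (.leaf 202) (.leaf 1575)) (.node (.leaf 11) (.leaf 1531))) (.node (.node (.leaf 622) (.leaf 1763)) (.node (.leaf 809) (.leaf 576)))) (.node (.node (.node (.leaf 423) (.leaf 1640)) (.node (.leaf 1179) (.leaf 1508))) (.node (.node (.leaf 823) (.leaf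 1525)) (.leaf 1451)))))) (.node (.node (.node (.node (.node (.node (.leaf 52) (.leaf 1485)) (.node (.leaf 894) (.leaf 1258))) (.node (.node (.leaf 504) (.leaf 1588)) (.node (.leaf 1252) (.leaf 1931)))) (.node (.node (.node (.leaf 289) (.leaf 377)) (.node (.leaf 1063) (.leaf 1907))) (.node (.node (.leaf 231) (.leaf 369)) (.leaf 1385)))) (.node (.node (.node (.node (.leaf 172) (.leaf 1513)) (.node (.leaf 257) (.leaf 1779))) (.node (.node (.leaf 600) (.leaf 1676)) (.node (.leaf 717) (.leaf 578)))) (.node (.node (.node (.leaf 395) (.leaf 1095)) (.node (.leaf 1156) (.leaf 535))) (.node (.node (.leaf 799) (.leaf 902)) (.leaf 1438))))) (.node (.node (.node (.node (.node (.leaf 113) (.leaf 1518)) (.node (.leaf 945) (.leaf 1057))) (.node (.node (.leaf 553) (.leaf 1244)) (.node (.leaf 1292) (.leaf 1027)))) (.node (.node (.node (.leaf 340) (.leaf 1253)) (.node (.leaf 1111) (.leaf 1832))) (.node (.node (.leaf 752) (.leaf 967)) (.leaf 1415)))) (.node (.node (.node (.node (.leaf 230) (.leaf 1596)) (.node (.leaf 1019) (.leaf 812))) (.node (.node (.leaf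 646) (.leaf 1770)) (.node (.leaf 1039) (.leaf 629)))) (.node (.node (.node (.leaf 452) (.leaf 1375)) (.node (.leaf 1187) (.leaf 709))) (.node (.node (.leaf 527) (.leaf 1620)) (.leaf 844)))))))) (.node (.node (.node (.node (.node (.node (.node (.node (.leaf 14) (.leaf 861)) (.node (.leaf 862) (.leaf 1580))) (.node (.node (.leaf 248) (.leaf 1280)) (.node (.leaf 1217) (.leaf 1776)))) (.node (.node (.node (.leaf 251) (.leaf 1611)) (.node (.leaf 1033) (.leaf 1815))) (.node (.node (.leaf 668) (.leaf 1337)) (.node (.leaf 394) (.leaf 1798))))) (.node (.node (.node (.node (.leaf 96) (.leaf 1533)) (.node (.leaf 961) (.leaf 1877))) (.node (.node (.leaf 570) (.leaf 108)) (.node (.leaf 1200) (.leaf 591)))) (.node (.node (.node (.leaf 360) (.leaf 1144)) (.node (.leaf 730) (.leaf 1405))) (.node (.node (.leaf 771) (.leaf 744)) (.leaf 755))))) (.node (.node (.node (.node (.node (.leaf 75) (.leaf 246)) (.node (.leaf 20) (.leaf 854))) (.node (.node (.leaf 524) (.leaf 1725)) (.node (.leaf 824) (.leaf 1498)))) (.node (.node (.node (.leaf 308) (.leaf 1636))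 (.node (.leaf 1081) (.leaf 1249))) (.node (.node (.leaf 719) (.leaf 1789)) (.leaf 753)))) (.node (.node (.node (.node (.leaf 195) (.leaf 1570)) (.node (.leaf 996) (.leaf 1890))) (.node (.node (.leaf 617) (.leaf 1208)) (.node (.leaf 1332) (.leaf 1496)))) (.node (.node (.node (.leaf 415) (.leaf 1688)) (.node (.leaf 1172) (.leaf 1837))) (.node (.node (.leaf 818) (.leaf 1569)) (.leaf 1447)))))) (.node (.node (.node (.node (.node (.node (.leaf 44) (.leaf 632)) (.node (.leaf 887) (.leaf 1855))) (.node (.node (.leaf 497) (.leaf 1203)) (.node (.leaf 733) (.leaf 235)))) (.node (.node (.node (.leaf 281) (.leaf 16)) (.node (.leaf 1056) (.leaf 1554))) (.node (.node (.leaf 697) (.leaf 1486)) (.node (.leaf 879) (.leaf 1811))))) (.node (.node (.node (.node (.leaf 140) (.leaf 670)) (.node (.leaf 5) (.leaf 1517))) (.node (.node (.leaf 593) (.leaf 784)) (.node (.leaf 464) (.leaf 613)))) (.node (.node (.node (.leaf 0) (.leaf 1672)) (.node (.leaf 1070) (.leaf 1333))) (.node (.node (.leaf 396) (.leaf 500)) (.leaf 1433))))) (.node (.node (.node (.node (.node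 (.leaf 105) (.leaf 317)) (.node (.leaf 938) (.leaf 319))) (.node (.node (.leaf 547) (.leaf 728)) (.node (.leaf 1288) (.leaf 1938)))) (.node (.node (.node (.leaf 333) (.leaf 1649)) (.node (.leaf 1108) (.leaf 1917))) (.node (.node (.leaf 746) (.leaf 1020)) (.leaf 84)))) (.node (.node (.node (.node (.leaf 223) (.leaf 537)) (.node (.leaf 1014) (.leaf 1787))) (.node (.node (.leaf 640) (.leaf 1641)) (.node (.leaf 1345) (.leaf 116)))) (.node (.node (.node (.leaf 446) (.leaf 1698)) (.node (.leaf 1193) (.leaf 621))) (.node (.node (.leaf 841) (.leaf 1731)) (.leaf 1339))))))) (.node (.node (.node (.node (.node (.node (.node (.leaf 29) (.leaf 1053)) (.node (.leaf 873) (.leaf 1848))) (.node (.node (.leaf 484) (.leaf 1710)) (.node (.leaf 1231) (.leaf 1926)))) (.node (.node (.node (.leaf 265) (.leaf 688)) (.node (.leaf 1043) (.leaf 1903))) (.node (.node (.leaf 682) (.leaf 1774)) (.node (.leaf 1371) (.leaf 1034))))) (.node (.node (.node (.node (.leaf 150) (.leaf 1543)) (.node (.leaf 971) (.leaf 1068))) (.node (.node (.leaf 3) (.leaf 208)) (.node (.leaf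 952) (.leaf 641)))) (.node (.node (.node (.leaf 376) (.leaf 92)) (.node (.leaf 1099) (.leaf 1428))) (.node (.node (.leaf 483) (.leaf 1467)) (.leaf 810))))) (.node (.node (.node (.node (.node (.leaf 91) (.leaf 351)) (.node (.leaf 523) (.leaf 1867))) (.node (.node (.leaf 536) (.leaf 184)) (.node (.leaf 413) (.leaf 572)))) (.node (.node (.node (.leaf 198) (.leaf 1642)) (.node (.leaf 1076) (.leaf 1393))) (.node (.node (.leaf 569) (.leaf 1278)) (.leaf 1402)))) (.node (.node (.node (.node (.leaf 209) (.leaf 61)) (.node (.leaf 1006) (.leaf 1538))) (.node (.node (.leaf 628) (.leaf 200)) (.node (.leaf 904) (.leaf 602)))) (.node (.node (.node (.leaf 430) (.leaf 1692)) (.node (.leaf 769) (.leaf 1892))) (.node (.node (.leaf 828) (.leaf 1831)) (.leaf 582)))))) (.node (.node (.node (.node (.node (.node (.leaf 60) (.leaf 1489)) (.node (.leaf 901) (.leaf 1691))) (.node (.node (.leaf 510) (.leaf 1376)) (.node (.leaf 388) (.leaf 443)))) (.node (.node (.node (.leaf 295) (.leaf 1133)) (.node (.leaf 302) (.leaf 1576))) (.node (.node (.leaf 708) (.leaf 1625))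 (.leaf 599)))) (.node (.node (.node (.node (.leaf 179) (.leaf 1409)) (.node (.leaf 549) (.leaf 1675))) (.node (.node (.leaf 339) (.leaf 1746)) (.node (.leaf 999) (.leaf 325)))) (.node (.node (.node (.leaf 401) (.leaf 1213)) (.node (.leaf 1162) (.leaf 1715))) (.node (.node (.leaf 806) (.leaf 1659)) (.leaf 411))))) (.node (.node (.node (.node (.node (.leaf 121) (.leaf 1524)) (.node (.leaf 950) (.leaf 1874))) (.node (.node (.leaf 557) (.leaf 1738)) (.node (.leaf 1299) (.leaf 1843)))) (.node (.node (.node (.leaf 323) (.leaf 933)) (.node (.leaf 1118) (.leaf 296))) (.node (.node (.leaf 519) (.leaf 696)) (.leaf 1418)))) (.node (.node (.node (.node (.leaf 238) (.leaf 1163)) (.node (.leaf 583) (.leaf 297))) (.node (.node (.leaf 654) (.leaf 1739)) (.node (.leaf 800) (.leaf 182)))) (.node (.node (.node (.leaf 459) (.leaf 210)) (.node (.leaf 1149) (.leaf 1178))) (.node (.node (.leaf 852) (.leaf 1842)) (.leaf 794)))))))))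

def threeNext6 : Janko.Tree (ℕ) :=
  (.node (.node (.node (.node (.node (.node (.node (.node (.node (.leaf 7) (.leaf 1467)) (.node (.leaf 856) (.leaf 612))) (.node (.node (.leaf 390) (.leaf 1143)) (.node (.leaf 1211) (.leaf 1709)))) (.node (.node (.node (.leaf 244) (.leaf 238)) (.node (.leaf 482) (.leaf 971))) (.node (.node (.leaf 663) (.leaf 1776)) (.node (.leaf 1362) (.leaf 935))))) (.node (.node (.node (.node (.leaf 129) (.leaf 1528)) (.node (.leaf 825) (.leaf 1875))) (.node (.node (.leaf 566) (.leaf 301)) (.node (.leaf 803) (.leaf 866)))) (.node (.node (.node (.leaf 353) (.leaf 1066)) (.node (.leaf 595) (.leaf 524))) (.node (.node (.leaf 766) (.leaf 379)) (.leaf 201))))) (.node (.node (.node (.node (.node (.leaf 69) (.leaf 1174)) (.node (.leaf 909) (.leaf 1481))) (.node (.node (.leaf 518) (.leaf 1724)) (.node (.leaf 1229) (.leaf 1221)))) (.node (.node (.node (.leaf 302) (.leaf 1634)) (.node (.leaf 1074) (.leaf 1912))) (.node (.node (.leaf 107) (.leaf 1718)) (.leaf 668)))) (.node (.node (.node (.node (.leaf 188) (.leaf 1565)) (.node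 (.leaf 994) (.leaf 1889))) (.node (.node (.leaf 613) (.leaf 1756)) (.node (.leaf 1276) (.leaf 756)))) (.node (.node (.node (.leaf 409) (.leaf 1048)) (.node (.leaf 1168) (.leaf 577))) (.node (.node (.leaf 812) (.leaf 1029)) (.leaf 1446)))))) (.node (.node (.node (.node (.node (.node (.leaf 38) (.leaf 1415)) (.node (.leaf 881) (.leaf 1851))) (.node (.node (.leaf 491) (.leaf 777)) (.node (.leaf 1239) (.leaf 1139)))) (.node (.node (.node (.leaf 274) (.leaf 1305)) (.node (.leaf 1049) (.leaf 1904))) (.node (.node (.leaf 690) (.leaf 1391)) (.node (.leaf 1376) (.leaf 1704))))) (.node (.node (.node (.node (.leaf 158) (.leaf 225)) (.node (.leaf 776) (.leaf 1501))) (.node (.node (.leaf 50) (.leaf 1629)) (.node (.leaf 153) (.leaf 1480)))) (.node (.node (.node (.leaf 383) (.leaf 258)) (.node (.leaf 1146) (.leaf 1868))) (.node (.node (.leaf 790) (.leaf 1407)) (.leaf 465))))) (.node (.node (.node (.node (.node (.leaf 6) (.leaf 631)) (.node (.leaf 933) (.leaf 1458))) (.node (.node (.leaf 542) (.leaf 364)) (.node (.leaf 1285) (.leaf 1311)))) (.node (.node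 (.node (.leaf 327) (.leaf 1608)) (.node (.leaf 1101) (.leaf 1916))) (.node (.node (.leaf 740) (.leaf 1440)) (.leaf 1408)))) (.node (.node (.node (.node (.leaf 216) (.leaf 1590)) (.node (.leaf 834) (.leaf 1894))) (.node (.node (.leaf 56) (.leaf 1767)) (.node (.leaf 463) (.leaf 1799)))) (.node (.node (.node (.leaf 439) (.leaf 587)) (.node (.leaf 1191) (.leaf 1906))) (.node (.node (.leaf 835) (.leaf 1833)) (.leaf 1459))))))) (.node (.node (.node (.node (.node (.node (.node (.leaf 22) (.leaf 1219)) (.node (.leaf 83) (.leaf 406))) (.node (.node (.leaf 477) (.leaf 352)) (.node (.leaf 1224) (.leaf 792)))) (.node (.node (.node (.leaf 259) (.leaf 1542)) (.node (.leaf 111) (.leaf 466))) (.node (.node (.leaf 675) (.leaf 1781)) (.node (.leaf 168) (.leaf 1711))))) (.node (.node (.node (.node (.leaf 144) (.leaf 334)) (.node (.leaf 480) (.leaf 1855))) (.node (.node (.leaf 578) (.leaf 322)) (.node (.leaf 1238) (.leaf 1425)))) (.node (.node (.node (.leaf 369) (.leaf 1665)) (.node (.leaf 1135) (.leaf 1515))) (.node (.node (.leaf 778) (.leaf 1793)) (.leaf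 782))))) (.node (.node (.node (.node (.node (.leaf 84) (.leaf 1503)) (.node (.leaf 923) (.leaf 603))) (.node (.node (.leaf 531) (.leaf 1728)) (.node (.leaf 1093) (.leaf 880)))) (.node (.node (.node (.leaf 314) (.leaf 1641)) (.node (.leaf 1089) (.leaf 490))) (.node (.node (.leaf 726) (.leaf 378)) (.leaf 1309)))) (.node (.node (.node (.node (.leaf 183) (.leaf 1576)) (.node (.leaf 1001) (.leaf 1829))) (.node (.node (.leaf 623) (.leaf 1664)) (.node (.leaf 1335) (.leaf 1867)))) (.node (.node (.node (.leaf 33) (.leaf 1500)) (.node (.leaf 1180) (.leaf 1903))) (.node (.node (.leaf 824) (.leaf 889)) (.leaf 1452)))))) (.node (.node (.node (.node (.node (.node (.leaf 53) (.leaf 1486)) (.node (.leaf 384) (.leaf 1058))) (.node (.node (.leaf 505) (.leaf 1715)) (.node (.leaf 1253) (.leaf 1658)))) (.node (.node (.node (.leaf 290) (.leaf 1527)) (.node (.leaf 139) (.leaf 592))) (.node (.node (.leaf 703) (.leaf 1787)) (.leaf 172)))) (.node (.node (.node (.node (.leaf 173) (.leaf 1554)) (.node (.leaf 828) (.leaf 811))) (.node (.node (.leaf 547) (.leaf 1721))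 (.node (.leaf 1318) (.leaf 1936)))) (.node (.node (.node (.leaf 396) (.leaf 1677)) (.node (.leaf 1157) (.leaf 550))) (.node (.node (.leaf 800) (.leaf 1714)) (.leaf 1077))))) (.node (.node (.node (.node (.node (.leaf 114) (.leaf 1519)) (.node (.leaf 946) (.leaf 541))) (.node (.node (.leaf 419) (.leaf 1725)) (.node (.leaf 1293) (.leaf 761)))) (.node (.node (.node (.leaf 341) (.leaf 1653)) (.node (.leaf 1112) (.leaf 1871))) (.node (.node (.leaf 753) (.leaf 376)) (.leaf 181)))) (.node (.node (.node (.node (.leaf 231) (.leaf 1570)) (.node (.leaf 529) (.leaf 476))) (.node (.node (.leaf 647) (.leaf 1510)) (.node (.leaf 1351) (.leaf 1942)))) (.node (.node (.node (.leaf 453) (.leaf 1056)) (.node (.leaf 1200) (.leaf 1860))) (.node (.node (.leaf 847) (.leaf 1627)) (.leaf 699)))))))) (.node (.node (.node (.node (.node (.node (.node (.node (.leaf 0) (.leaf 1451)) (.node (.leaf 863) (.leaf 1000))) (.node (.node (.leaf 471) (.leaf 1707)) (.node (.leaf 1218) (.leaf 1443)))) (.node (.node (.node (.leaf 252) (.leaf 1062)) (.node (.leaf 1034) (.leaf 973)))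 (.node (.node (.leaf 366) (.leaf 1778)) (.node (.leaf 1120) (.leaf 1710))))) (.node (.node (.node (.node (.leaf 136) (.leaf 1032)) (.node (.leaf 97) (.leaf 1003))) (.node (.node (.leaf 571) (.leaf 1387)) (.node (.leaf 1225) (.leaf 1367)))) (.node (.node (.node (.leaf 361) (.leaf 311)) (.node (.leaf 1129) (.leaf 1666))) (.node (.node (.leaf 758) (.leaf 1067)) (.leaf 1424))))) (.node (.node (.node (.node (.node (.leaf 76) (.leaf 833)) (.node (.leaf 916) (.leaf 949))) (.node (.node (.leaf 525) (.leaf 1726)) (.node (.leaf 1267) (.leaf 926)))) (.node (.node (.node (.leaf 23) (.leaf 1637)) (.node (.leaf 1082) (.leaf 1899))) (.node (.node (.leaf 720) (.leaf 1615)) (.leaf 1395)))) (.node (.node (.node (.node (.leaf 196) (.leaf 1571)) (.node (.leaf 997) (.leaf 1891))) (.node (.node (.leaf 54) (.leaf 1761)) (.node (.leaf 1333) (.leaf 878)))) (.node (.node (.node (.leaf 416) (.leaf 1624)) (.node (.leaf 1173) (.leaf 1923))) (.node (.node (.leaf 819) (.leaf 1489)) (.leaf 1448)))))) (.node (.node (.node (.node (.node (.node (.leaf 45) (.leaf 806))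 (.node (.leaf 888) (.leaf 1856))) (.node (.node (.leaf 498) (.leaf 1158)) (.node (.leaf 1245) (.leaf 1479)))) (.node (.node (.node (.leaf 282) (.leaf 242)) (.node (.leaf 1057) (.leaf 1905))) (.node (.node (.leaf 62) (.leaf 738)) (.node (.leaf 1381) (.leaf 1377))))) (.node (.node (.node (.node (.leaf 165) (.leaf 1550)) (.node (.leaf 100) (.leaf 640))) (.node (.node (.leaf 594) (.leaf 1132)) (.node (.leaf 1141) (.leaf 1303)))) (.node (.node (.node (.leaf 389) (.leaf 1673)) (.node (.leaf 332) (.leaf 772))) (.node (.node (.leaf 708) (.leaf 715)) (.leaf 1434))))) (.node (.node (.node (.node (.node (.leaf 106) (.leaf 486)) (.node (.leaf 939) (.leaf 423))) (.node (.node (.leaf 474) (.leaf 1733)) (.node (.leaf 1289) (.leaf 1939)))) (.node (.node (.node (.leaf 315) (.leaf 1650)) (.node (.leaf 386) (.leaf 1050))) (.node (.node (.leaf 747) (.leaf 372)) (.leaf 1252)))) (.node (.node (.node (.node (.leaf 224) (.leaf 1593)) (.node (.leaf 1015) (.leaf 1895))) (.node (.node (.leaf 641) (.leaf 1592)) (.node (.leaf 988) (.leaf 808)))) (.node (.node (.node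 (.leaf 447) (.leaf 269)) (.node (.leaf 1194) (.leaf 1028))) (.node (.node (.leaf 842) (.leaf 1837)) (.leaf 1233))))))) (.node (.node (.node (.node (.node (.node (.node (.leaf 30) (.leaf 1478)) (.node (.leaf 874) (.leaf 1019))) (.node (.node (.leaf 485) (.leaf 1127)) (.node (.leaf 1232) (.leaf 1307)))) (.node (.node (.node (.leaf 266) (.leaf 1618)) (.node (.leaf 1044) (.leaf 467))) (.node (.node (.leaf 683) (.leaf 1601)) (.node (.leaf 1372) (.leaf 1735))))) (.node (.node (.node (.node (.leaf 130) (.leaf 1544)) (.node (.leaf 972) (.leaf 650))) (.node (.node (.leaf 583) (.leaf 1746)) (.node (.leaf 1312) (.leaf 859)))) (.node (.node (.node (.leaf 377) (.leaf 380)) (.node (.leaf 1138) (.leaf 1417))) (.node (.node (.leaf 784) (.leaf 1286)) (.leaf 538))))) (.node (.node (.node (.node (.node (.leaf 92) (.leaf 1506)) (.node (.leaf 791) (.leaf 1495))) (.node (.node (.leaf 537) (.leaf 1644)) (.node (.leaf 1278) (.leaf 873)))) (.node (.node (.node (.leaf 265) (.leaf 639)) (.node (.leaf 1095) (.leaf 1688))) (.node (.node (.leaf 733) (.leaf 1389))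 (.leaf 1403)))) (.node (.node (.node (.node (.leaf 210) (.leaf 1583)) (.node (.leaf 105) (.leaf 968))) (.node (.node (.leaf 629) (.leaf 1730)) (.node (.leaf 1338) (.leaf 1007)))) (.node (.node (.node (.leaf 431) (.leaf 1660)) (.node (.leaf 1185) (.leaf 1004))) (.node (.node (.leaf 829) (.leaf 990)) (.leaf 1456)))))) (.node (.node (.node (.node (.node (.node (.leaf 61) (.leaf 600)) (.node (.leaf 902) (.leaf 1457))) (.node (.node (.leaf 511) (.leaf 1096)) (.node (.leaf 1256) (.leaf 1345)))) (.node (.node (.node (.leaf 296) (.leaf 1543)) (.node (.leaf 1069) (.leaf 959))) (.node (.node (.leaf 709) (.leaf 1768)) (.leaf 1390)))) (.node (.node (.node (.node (.leaf 180) (.leaf 1559)) (.node (.leaf 850) (.leaf 478))) (.node (.node (.leaf 488) (.leaf 1754)) (.node (.leaf 1325) (.leaf 752)))) (.node (.node (.node (.leaf 52) (.leaf 1682)) (.node (.leaf 1163) (.leaf 553))) (.node (.node (.leaf 75) (.leaf 1815)) (.leaf 195))))) (.node (.node (.node (.node (.node (.leaf 8) (.leaf 1525)) (.node (.leaf 938) (.leaf 1431))) (.node (.node (.leaf 558) (.leaf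 300)) (.node (.leaf 1291) (.leaf 1482)))) (.node (.node (.node (.leaf 347) (.leaf 253)) (.node (.leaf 121) (.leaf 1876))) (.node (.node (.leaf 760) (.leaf 1274)) (.leaf 1284)))) (.node (.node (.node (.node (.leaf 58) (.leaf 660)) (.node (.leaf 449) (.leaf 1042))) (.node (.node (.leaf 655) (.leaf 1275)) (.node (.leaf 646) (.leaf 1795)))) (.node (.node (.node (.leaf 391) (.leaf 1652)) (.node (.leaf 1205) (.leaf 978))) (.node (.node (.leaf 853) (.leaf 1843)) (.leaf 1465)))))))))

def threeNext7 : Janko.Tree (ℕ) :=
  (.node (.node (.node (.node (.node (.node (.node (.node (.node (.leaf 8) (.leaf 986)) (.node (.leaf 857) (.leaf 1717))) (.node (.node (.leaf 466) (.leaf 909)) (.node (.leaf 1212) (.leaf 1781)))) (.node (.node (.node (.leaf 245) (.leaf 1607)) (.node (.leaf 1029) (.leaf 1759))) (.node (.node (.leaf 664) (.leaf 700)) (.node (.leaf 1283) (.leaf 461))))) (.node (.node (.node (.node (.leaf 130) (.leaf 1529)) (.node (.leaf 957) (.leaf 1876))) (.node (.node (.leaf 255) (.leaf 1732)) (.node (.leaf 1303) (.leaf 584)))) (.node (.node (.node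 (.leaf 354) (.leaf 991)) (.node (.leaf 365) (.leaf 1512))) (.node (.node (.leaf 767) (.leaf 1565)) (.leaf 1173))))) (.node (.node (.node (.node (.node (.leaf 70) (.leaf 266)) (.node (.leaf 910) (.leaf 142))) (.node (.node (.leaf 169) (.leaf 1109)) (.node (.leaf 1261) (.leaf 495)))) (.node (.node (.node (.leaf 303) (.leaf 1142)) (.node (.leaf 1075) (.leaf 1571))) (.node (.node (.leaf 715) (.leaf 726)) (.leaf 948)))) (.node (.node (.node (.node (.leaf 189) (.leaf 1365)) (.node (.leaf 560) (.leaf 363))) (.node (.node (.leaf 284) (.leaf 1727)) (.node (.leaf 1017) (.leaf 453)))) (.node (.node (.node (.leaf 410) (.leaf 1686)) (.node (.leaf 1169) (.leaf 1767))) (.node (.node (.leaf 813) (.leaf 1074)) (.leaf 760)))))) (.node (.node (.node (.node (.node (.node (.leaf 39) (.leaf 1481)) (.node (.leaf 882) (.leaf 1852))) (.node (.node (.leaf 492) (.leaf 1123)) (.node (.leaf 1240) (.leaf 1929)))) (.node (.node (.node (.leaf 275) (.leaf 1624)) (.node (.leaf 1050) (.leaf 1557))) (.node (.node (.leaf 691) (.leaf 1220)) (.node (.leaf 1377) (.leaf 507)))))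 (.node (.node (.node (.node (.leaf 159) (.leaf 178)) (.node (.leaf 979) (.leaf 1760))) (.node (.node (.leaf 220) (.leaf 1207)) (.node (.leaf 1264) (.leaf 1911)))) (.node (.node (.node (.leaf 384) (.leaf 1670)) (.node (.leaf 1147) (.leaf 1519))) (.node (.node (.leaf 791) (.leaf 1808)) (.leaf 1431))))) (.node (.node (.node (.node (.node (.leaf 100) (.leaf 1511)) (.node (.leaf 934) (.leaf 1870))) (.node (.node (.leaf 543) (.leaf 1138)) (.node (.leaf 1269) (.leaf 1865)))) (.node (.node (.node (.leaf 328) (.leaf 1328)) (.node (.leaf 1102) (.leaf 1521))) (.node (.node (.leaf 741) (.leaf 1795)) (.leaf 1289)))) (.node (.node (.node (.node (.leaf 217) (.leaf 722)) (.node (.leaf 1009) (.leaf 1630))) (.node (.node (.leaf 567) (.leaf 1768)) (.node (.leaf 1342) (.leaf 1459)))) (.node (.node (.node (.leaf 440) (.leaf 1693)) (.node (.leaf 47) (.leaf 1285))) (.node (.node (.leaf 836) (.leaf 1661)) (.leaf 13))))))) (.node (.node (.node (.node (.node (.node (.node (.leaf 23) (.leaf 1476)) (.node (.leaf 805) (.leaf 316))) (.node (.node (.leaf 478) (.leaf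 1105)) (.node (.leaf 1225) (.leaf 1454)))) (.node (.node (.node (.leaf 260) (.leaf 1616)) (.node (.leaf 995) (.leaf 980))) (.node (.node (.leaf 676) (.leaf 24)) (.node (.leaf 1369) (.leaf 874))))) (.node (.node (.node (.node (.leaf 145) (.leaf 1539)) (.node (.leaf 647) (.leaf 1880))) (.node (.node (.leaf 123) (.leaf 1744)) (.node (.leaf 1310) (.leaf 1941)))) (.node (.node (.node (.leaf 370) (.leaf 1403)) (.node (.leaf 1136) (.leaf 1733))) (.node (.node (.leaf 779) (.leaf 1804)) (.leaf 1427))))) (.node (.node (.node (.node (.node (.leaf 85) (.leaf 1504)) (.node (.leaf 924) (.leaf 120))) (.node (.node (.leaf 532) (.leaf 1171)) (.node (.leaf 764) (.leaf 1705)))) (.node (.node (.node (.leaf 315) (.leaf 1412)) (.node (.leaf 1090) (.leaf 1913))) (.node (.node (.leaf 727) (.leaf 1338)) (.leaf 1384)))) (.node (.node (.node (.node (.leaf 203) (.leaf 1577)) (.node (.leaf 542) (.leaf 274))) (.node (.node (.leaf 624) (.leaf 30)) (.node (.leaf 1336) (.leaf 1650)))) (.node (.node (.node (.leaf 424) (.leaf 1103)) (.node (.leaf 1181) (.leaf 65))) (.node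 (.node (.leaf 825) (.leaf 1828)) (.leaf 1453)))))) (.node (.node (.node (.node (.node (.node (.leaf 54) (.leaf 1487)) (.node (.leaf 895) (.leaf 1707))) (.node (.node (.leaf 506) (.leaf 1716)) (.node (.leaf 475) (.leaf 1932)))) (.node (.node (.node (.leaf 291) (.leaf 1191)) (.node (.leaf 1064) (.leaf 1551))) (.node (.node (.leaf 704) (.leaf 1159)) (.leaf 1359)))) (.node (.node (.node (.node (.leaf 174) (.leaf 1555)) (.node (.leaf 615) (.leaf 491))) (.node (.node (.leaf 601) (.leaf 1168)) (.node (.leaf 53) (.leaf 1849)))) (.node (.node (.node (.leaf 397) (.leaf 1678)) (.node (.leaf 1158) (.leaf 1586))) (.node (.node (.leaf 801) (.leaf 1812)) (.leaf 1439))))) (.node (.node (.node (.node (.node (.leaf 115) (.leaf 1520)) (.node (.leaf 947) (.leaf 355))) (.node (.node (.leaf 554) (.leaf 1735)) (.node (.leaf 439) (.leaf 556)))) (.node (.node (.node (.leaf 67) (.leaf 1648)) (.node (.leaf 1113) (.leaf 1634))) (.node (.node (.leaf 754) (.leaf 1762)) (.leaf 104)))) (.node (.node (.node (.node (.leaf 232) (.leaf 1597)) (.node (.leaf 655) (.leaf 1896)))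 (.node (.node (.leaf 648) (.leaf 1237)) (.node (.leaf 1352) (.leaf 1895)))) (.node (.node (.node (.leaf 138) (.leaf 135)) (.node (.leaf 802) (.leaf 1915))) (.node (.node (.leaf 848) (.leaf 1840)) (.leaf 1462)))))))) (.node (.node (.node (.node (.node (.node (.node (.node (.leaf 15) (.leaf 1471)) (.node (.leaf 849) (.leaf 373))) (.node (.node (.leaf 472) (.leaf 344)) (.node (.leaf 1219) (.leaf 829)))) (.node (.node (.node (.leaf 253) (.leaf 1612)) (.node (.leaf 1022) (.leaf 1866))) (.node (.node (.leaf 669) (.leaf 921)) (.node (.leaf 546) (.leaf 1321))))) (.node (.node (.node (.node (.leaf 137) (.leaf 1534)) (.node (.leaf 911) (.leaf 228))) (.node (.node (.leaf 244) (.leaf 425)) (.node (.leaf 1307) (.leaf 917)))) (.node (.node (.node (.leaf 362) (.leaf 1660)) (.node (.leaf 1097) (.leaf 1784))) (.node (.node (.leaf 772) (.leaf 679)) (.leaf 1350))))) (.node (.node (.node (.node (.node (.leaf 77) (.leaf 518)) (.node (.leaf 489) (.leaf 1821))) (.node (.node (.leaf 526) (.leaf 1360)) (.node (.leaf 1268) (.leaf 114)))) (.node (.node (.node (.leaf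 309) (.leaf 1638)) (.node (.leaf 1083) (.leaf 1140))) (.node (.node (.leaf 445) (.leaf 51)) (.leaf 389)))) (.node (.node (.node (.node (.leaf 197) (.leaf 1572)) (.node (.leaf 998) (.leaf 1663))) (.node (.node (.leaf 268) (.leaf 158)) (.node (.leaf 821) (.leaf 346)))) (.node (.node (.node (.leaf 417) (.leaf 1448)) (.node (.leaf 1174) (.leaf 659))) (.node (.node (.leaf 759) (.leaf 1823)) (.leaf 1449)))))) (.node (.node (.node (.node (.node (.node (.leaf 46) (.leaf 1483)) (.node (.leaf 889) (.leaf 1851))) (.node (.node (.leaf 499) (.leaf 1714)) (.node (.leaf 1246) (.leaf 1930)))) (.node (.node (.node (.leaf 283) (.leaf 1627)) (.node (.leaf 1058) (.leaf 290))) (.node (.node (.leaf 698) (.leaf 1785)) (.node (.leaf 1128) (.leaf 1024))))) (.node (.node (.node (.node (.leaf 166) (.leaf 1146)) (.node (.leaf 983) (.leaf 383))) (.node (.node (.leaf 595) (.leaf 1750)) (.node (.leaf 18) (.leaf 1856)))) (.node (.node (.node (.leaf 390) (.leaf 1674)) (.node (.leaf 1151) (.leaf 1031))) (.node (.node (.leaf 749) (.leaf 429)) (.leaf 1087))))) (.node (.node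 (.node (.node (.node (.leaf 107) (.leaf 1515)) (.node (.leaf 940) (.leaf 1872))) (.node (.node (.leaf 548) (.leaf 1308)) (.node (.leaf 1290) (.leaf 594)))) (.node (.node (.node (.leaf 334) (.leaf 1160)) (.node (.leaf 762) (.leaf 1827))) (.node (.node (.leaf 748) (.leaf 1148)) (.leaf 22)))) (.node (.node (.node (.node (.leaf 225) (.leaf 1228)) (.node (.leaf 1016) (.leaf 1679))) (.node (.node (.leaf 240) (.leaf 942)) (.node (.leaf 1346) (.leaf 1940)))) (.node (.node (.node (.leaf 448) (.leaf 1673)) (.node (.leaf 1195) (.leaf 1920))) (.node (.node (.leaf 843) (.leaf 1748)) (.leaf 562))))))) (.node (.node (.node (.node (.node (.node (.node (.leaf 31) (.leaf 1479)) (.node (.leaf 399) (.leaf 276))) (.node (.node (.leaf 486) (.leaf 1711)) (.node (.leaf 1233) (.leaf 871)))) (.node (.node (.node (.leaf 267) (.leaf 1619)) (.node (.leaf 551) (.leaf 270))) (.node (.node (.leaf 684) (.leaf 1741)) (.node (.leaf 1373) (.leaf 816))))) (.node (.node (.node (.node (.leaf 151) (.leaf 194)) (.node (.leaf 973) (.leaf 1420))) (.node (.node (.leaf 226) (.leaf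 1558)) (.node (.leaf 1313) (.leaf 636)))) (.node (.node (.node (.leaf 378) (.leaf 785)) (.node (.leaf 1139) (.leaf 969))) (.node (.node (.leaf 747) (.leaf 962)) (.leaf 775))))) (.node (.node (.node (.node (.node (.leaf 93) (.leaf 1507)) (.node (.leaf 929) (.leaf 1868))) (.node (.node (.leaf 1) (.leaf 1654)) (.node (.leaf 1279) (.leaf 533)))) (.node (.node (.node (.leaf 320) (.leaf 1643)) (.node (.leaf 1096) (.leaf 1566))) (.node (.node (.leaf 734) (.leaf 994)) (.leaf 1404)))) (.node (.node (.node (.node (.leaf 211) (.leaf 1085)) (.node (.leaf 470) (.leaf 1854))) (.node (.node (.leaf 611) (.leaf 1765)) (.node (.leaf 732) (.leaf 1882)))) (.node (.node (.node (.leaf 432) (.leaf 1549)) (.node (.leaf 1186) (.leaf 1881))) (.node (.node (.leaf 830) (.leaf 164)) (.leaf 832)))))) (.node (.node (.node (.node (.node (.node (.leaf 62) (.leaf 1490)) (.node (.leaf 903) (.leaf 982))) (.node (.node (.leaf 512) (.leaf 847)) (.node (.leaf 900) (.leaf 1878)))) (.node (.node (.node (.leaf 88) (.leaf 1437)) (.node (.leaf 106) (.leaf 1910))) (.node (.node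 (.leaf 710) (.leaf 1788)) (.leaf 720)))) (.node (.node (.node (.node (.leaf 181) (.leaf 1560)) (.node (.leaf 989) (.leaf 1884))) (.node (.node (.leaf 607) (.leaf 204)) (.node (.leaf 1326) (.leaf 953)))) (.node (.node (.node (.leaf 402) (.leaf 1502)) (.node (.leaf 1164) (.leaf 1887))) (.node (.node (.leaf 718) (.leaf 335)) (.leaf 1441))))) (.node (.node (.node (.node (.node (.leaf 122) (.leaf 1401)) (.node (.leaf 951) (.leaf 625))) (.node (.node (.leaf 559) (.leaf 188)) (.node (.leaf 972) (.leaf 1682)))) (.node (.node (.node (.leaf 348) (.leaf 1635)) (.node (.leaf 1119) (.leaf 1262))) (.node (.node (.leaf 761) (.leaf 928)) (.leaf 1419)))) (.node (.node (.node (.node (.leaf 239) (.leaf 1603)) (.node (.leaf 1025) (.leaf 1898))) (.node (.node (.leaf 656) (.leaf 1414)) (.node (.leaf 1356) (.leaf 1853)))) (.node (.node (.node (.leaf 460) (.leaf 1702)) (.node (.leaf 1206) (.leaf 1891))) (.node (.node (.leaf 218) (.leaf 167)) (.leaf 974)))))))))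

def threeNext : Janko.Tree (ℕ) := (.node (.node (.node threeNext0 threeNext4) (.node threeNext2 threeNext6)) (.node (.node threeNext1 threeNext5) (.node threeNext3 threeNext7)))

def threeWord0 : Janko.Tree (ℕ) :=
  (.node (.node (.node (.node (.node (.node (.node (.node (.leaf 1) (.leaf 1960)) (.node (.leaf 727) (.leaf 4495))) (.node (.node (.leaf 327) (.leaf 2744)) (.node (.leaf 1258) (.leaf 7539)))) (.node (.node (.node (.leaf 151) (.leaf 2388)) (.node (.leaf 983) (.leaf 5229))) (.node (.node (.leaf 503) (.leaf 3410)) (.node (.leaf 1574) (.leaf 12916))))) (.node (.node (.node (.node (.leaf 73) (.leaf 2231)) (.node (.leaf 858) (.leaf 4764))) (.node (.node (.leaf 419) (.leaf 3035)) (.node (.leaf 1402) (.leaf 9156)))) (.node (.node (.node (.leaf 230) (.leaf 2537)) (.node (.leaf 1145) (.leaf 5866))) (.node (.node (.leaf 623) (.leaf 3963)) (.leaf 1732))))) (.node (.node (.node (.node (.node (.leaf 36) (.leaf 2031)) (.node (.leaf 798) (.leaf 4663))) (.node (.node (.leaf 364) (.leaf 2888)) (.node (.leaf 1352) (.leaf 8857)))) (.node (.node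 (.node (.leaf 188) (.leaf 2462)) (.node (.leaf 1102) (.leaf 5452))) (.node (.node (.leaf 584) (.leaf 3687)) (.leaf 1656)))) (.node (.node (.node (.node (.leaf 108) (.leaf 2291)) (.node (.leaf 926) (.leaf 4915))) (.node (.node (.leaf 463) (.leaf 3244)) (.node (.leaf 1478) (.leaf 9881)))) (.node (.node (.node (.leaf 282) (.leaf 2659)) (.node (.leaf 1207) (.leaf 6542))) (.node (.node (.leaf 681) (.leaf 4399)) (.leaf 1865)))))) (.node (.node (.node (.node (.node (.node (.leaf 18) (.leaf 2003)) (.node (.leaf 749) (.leaf 4557))) (.node (.node (.leaf 344) (.leaf 2792)) (.node (.leaf 1314) (.leaf 8125)))) (.node (.node (.node (.leaf 170) (.leaf 2420)) (.node (.leaf 1005) (.leaf 5305))) (.node (.node (.leaf 559) (.leaf 3512)) (.node (.leaf 1615) (.leaf 17975))))) (.node (.node (.node (.node (.leaf 90) (.leaf 2261)) (.node (.leaf 885) (.leaf 4825))) (.node (.node (.leaf 437) (.leaf 3180)) (.node (.leaf 1445) (.leaf 9457)))) (.node (.node (.node (.leaf 248) (.leaf 2620)) (.node (.leaf 1182) (.leaf 6285))) (.node (.node (.leaf 658) (.leaf 4055))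 (.leaf 1779))))) (.node (.node (.node (.node (.node (.leaf 53) (.leaf 2206)) (.node (.leaf 838) (.leaf 4702))) (.node (.node (.leaf 392) (.leaf 2968)) (.node (.leaf 1372) (.leaf 8949)))) (.node (.node (.node (.leaf 210) (.leaf 2502)) (.node (.leaf 1126) (.leaf 5586))) (.node (.node (.leaf 603) (.leaf 3818)) (.leaf 1702)))) (.node (.node (.node (.node (.leaf 126) (.leaf 2351)) (.node (.leaf 953) (.leaf 5030))) (.node (.node (.leaf 483) (.leaf 3319)) (.node (.leaf 1511) (.leaf 10638)))) (.node (.node (.node (.leaf 302) (.leaf 2716)) (.node (.leaf 1235) (.leaf 6838))) (.node (.node (.leaf 700) (.leaf 4443)) (.leaf 1913))))))) (.node (.node (.node (.node (.node (.node (.node (.leaf 9) (.leaf 1981)) (.node (.leaf 739) (.leaf 4520))) (.node (.node (.leaf 335) (.leaf 2773)) (.node (.leaf 1271) (.leaf 7933)))) (.node (.node (.node (.leaf 162) (.leaf 2408)) (.node (.leaf 995) (.leaf 5271))) (.node (.node (.leaf 550) (.leaf 3443)) (.node (.leaf 1596) (.leaf 16255))))) (.node (.node (.node (.node (.leaf 82) (.leaf 2247)) (.node (.leaf 874) (.leaf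 4787))) (.node (.node (.leaf 427) (.leaf 3063)) (.node (.leaf 1422) (.leaf 9373)))) (.node (.node (.node (.leaf 238) (.leaf 2598)) (.node (.leaf 1170) (.leaf 6052))) (.node (.node (.leaf 634) (.leaf 4007)) (.leaf 1757))))) (.node (.node (.node (.node (.node (.leaf 44) (.leaf 2189)) (.node (.leaf 815) (.leaf 4682))) (.node (.node (.leaf 374) (.leaf 2920)) (.node (.leaf 1363) (.leaf 8886)))) (.node (.node (.node (.leaf 201) (.leaf 2478)) (.node (.leaf 1111) (.leaf 5503))) (.node (.node (.leaf 593) (.leaf 3768)) (.leaf 1687)))) (.node (.node (.node (.node (.leaf 118) (.leaf 2334)) (.node (.leaf 942) (.leaf 4968))) (.node (.node (.leaf 473) (.leaf 3278)) (.node (.leaf 1493) (.leaf 10381)))) (.node (.node (.node (.leaf 293) (.leaf 2702)) (.node (.leaf 1220) (.leaf 6741))) (.node (.node (.leaf 691) (.leaf 4428)) (.leaf 1887)))))) (.node (.node (.node (.node (.node (.node (.leaf 26) (.leaf 2015)) (.node (.leaf 765) (.leaf 4579))) (.node (.node (.leaf 354) (.leaf 2814)) (.node (.leaf 1329) (.leaf 8798)))) (.node (.node (.node (.leaf 180) (.leaf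 2441)) (.node (.leaf 1019) (.leaf 5361))) (.node (.node (.leaf 569) (.leaf 3579)) (.leaf 1635)))) (.node (.node (.node (.node (.leaf 100) (.leaf 2278)) (.node (.leaf 905) (.leaf 4853))) (.node (.node (.leaf 446) (.leaf 3209)) (.node (.leaf 1460) (.leaf 9583)))) (.node (.node (.node (.leaf 274) (.leaf 2639)) (.node (.leaf 1194) (.leaf 6436))) (.node (.node (.leaf 669) (.leaf 4078)) (.leaf 1810))))) (.node (.node (.node (.node (.node (.leaf 61) (.leaf 2218)) (.node (.leaf 847) (.leaf 4731))) (.node (.node (.leaf 405) (.leaf 2997)) (.node (.leaf 1388) (.leaf 9101)))) (.node (.node (.node (.leaf 218) (.leaf 2520)) (.node (.leaf 1134) (.leaf 5778))) (.node (.node (.leaf 615) (.leaf 3915)) (.leaf 1716)))) (.node (.node (.node (.node (.leaf 142) (.leaf 2376)) (.node (.leaf 972) (.leaf 5079))) (.node (.node (.leaf 493) (.leaf 3388)) (.node (.leaf 1524) (.leaf 10905)))) (.node (.node (.node (.leaf 312) (.leaf 2729)) (.node (.leaf 1244) (.leaf 7066))) (.node (.node (.leaf 717) (.leaf 4468)) (.leaf 1935))))))))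

def threeWord1 : Janko.Tree (ℕ) :=
  (.node (.node (.node (.node (.node (.node (.node (.node (.leaf 2) (.leaf 1963)) (.node (.leaf 728) (.leaf 4505))) (.node (.node (.leaf 328) (.leaf 2745)) (.node (.leaf 1260) (.leaf 7549)))) (.node (.node (.node (.leaf 152) (.leaf 2390)) (.node (.leaf 984) (.leaf 5230))) (.node (.node (.leaf 506) (.leaf 3416)) (.node (.leaf 1575) (.leaf 13105))))) (.node (.node (.node (.node (.leaf 74) (.leaf 2232)) (.node (.leaf 859) (.leaf 4765))) (.node (.node (.leaf 420) (.leaf 3037)) (.node (.leaf 1403) (.leaf 9166)))) (.node (.node (.node (.leaf 231) (.leaf 2539)) (.node (.leaf 1146) (.leaf 5905))) (.node (.node (.leaf 625) (.leaf 3966)) (.leaf 1741))))) (.node (.node (.node (.node (.node (.leaf 37) (.leaf 2036)) (.node (.leaf 802) (.leaf 4664))) (.node (.node (.leaf 365) (.leaf 2889)) (.node (.leaf 1353) (.leaf 8860)))) (.node (.node (.node (.leaf 189) (.leaf 2468)) (.node (.leaf 1103) (.leaf 5454))) (.node (.node (.leaf 585) (.leaf 3729)) (.leaf 1659)))) (.node (.node (.node (.node (.leaf 109) (.leaf 2292))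 (.node (.leaf 932) (.leaf 4937))) (.node (.node (.leaf 466) (.leaf 3245)) (.node (.leaf 1484) (.leaf 9884)))) (.node (.node (.node (.leaf 283) (.leaf 2662)) (.node (.leaf 1208) (.leaf 6552))) (.node (.node (.leaf 682) (.leaf 4401)) (.leaf 1867)))))) (.node (.node (.node (.node (.node (.node (.leaf 19) (.leaf 2004)) (.node (.leaf 753) (.leaf 4558))) (.node (.node (.leaf 345) (.leaf 2793)) (.node (.leaf 1316) (.leaf 8127)))) (.node (.node (.node (.leaf 171) (.leaf 2421)) (.node (.leaf 1006) (.leaf 5309))) (.node (.node (.leaf 561) (.leaf 3517)) (.node (.leaf 1620) (.leaf 18067))))) (.node (.node (.node (.node (.leaf 91) (.leaf 2262)) (.node (.leaf 889) (.leaf 4830))) (.node (.node (.leaf 438) (.leaf 3181)) (.node (.leaf 1446) (.leaf 9506)))) (.node (.node (.node (.leaf 249) (.leaf 2621)) (.node (.leaf 1187) (.leaf 6295))) (.node (.node (.leaf 659) (.leaf 4059)) (.leaf 1780))))) (.node (.node (.node (.node (.node (.leaf 54) (.leaf 2211)) (.node (.leaf 839) (.leaf 4703))) (.node (.node (.leaf 393) (.leaf 2970)) (.node (.leaf 1374) (.leaf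 8978)))) (.node (.node (.node (.leaf 211) (.leaf 2508)) (.node (.leaf 1127) (.leaf 5615))) (.node (.node (.leaf 604) (.leaf 3831)) (.leaf 1703)))) (.node (.node (.node (.node (.leaf 127) (.leaf 2353)) (.node (.leaf 954) (.leaf 5031))) (.node (.node (.leaf 486) (.leaf 3362)) (.node (.leaf 1512) (.leaf 10712)))) (.node (.node (.node (.leaf 303) (.leaf 2717)) (.node (.leaf 1236) (.leaf 6852))) (.node (.node (.leaf 701) (.leaf 4444)) (.leaf 1915))))))) (.node (.node (.node (.node (.node (.node (.node (.leaf 10) (.leaf 1983)) (.node (.leaf 742) (.leaf 4524))) (.node (.node (.leaf 337) (.leaf 2774)) (.node (.leaf 1297) (.leaf 7995)))) (.node (.node (.node (.leaf 163) (.leaf 2410)) (.node (.leaf 998) (.leaf 5276))) (.node (.node (.leaf 551) (.leaf 3451)) (.node (.leaf 1597) (.leaf 16317))))) (.node (.node (.node (.node (.leaf 83) (.leaf 2252)) (.node (.leaf 875) (.leaf 4788))) (.node (.node (.leaf 428) (.leaf 3067)) (.node (.leaf 1423) (.leaf 9384)))) (.node (.node (.node (.leaf 239) (.leaf 2599)) (.node (.leaf 1171) (.leaf 6055))) (.node (.node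 (.leaf 635) (.leaf 4015)) (.leaf 1758))))) (.node (.node (.node (.node (.node (.leaf 45) (.leaf 2190)) (.node (.leaf 817) (.leaf 4683))) (.node (.node (.leaf 376) (.leaf 2922)) (.node (.leaf 1364) (.leaf 8916)))) (.node (.node (.node (.leaf 202) (.leaf 2483)) (.node (.leaf 1114) (.leaf 5512))) (.node (.node (.leaf 594) (.leaf 3769)) (.leaf 1688)))) (.node (.node (.node (.node (.leaf 119) (.leaf 2338)) (.node (.leaf 943) (.leaf 4970))) (.node (.node (.leaf 474) (.leaf 3279)) (.node (.leaf 1495) (.leaf 10391)))) (.node (.node (.node (.leaf 294) (.leaf 2705)) (.node (.leaf 1222) (.leaf 6754))) (.node (.node (.leaf 692) (.leaf 4430)) (.leaf 1896)))))) (.node (.node (.node (.node (.node (.node (.leaf 27) (.leaf 2024)) (.node (.leaf 766) (.leaf 4582))) (.node (.node (.leaf 355) (.leaf 2833)) (.node (.leaf 1331) (.leaf 8802)))) (.node (.node (.node (.leaf 181) (.leaf 2445)) (.node (.leaf 1021) (.leaf 5410))) (.node (.node (.leaf 570) (.leaf 3581)) (.leaf 1638)))) (.node (.node (.node (.node (.leaf 101) (.leaf 2279)) (.node (.leaf 909) (.leaf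 4858))) (.node (.node (.leaf 447) (.leaf 3217)) (.node (.leaf 1461) (.leaf 9682)))) (.node (.node (.node (.leaf 275) (.leaf 2644)) (.node (.leaf 1195) (.leaf 6458))) (.node (.node (.leaf 670) (.leaf 4079)) (.leaf 1819))))) (.node (.node (.node (.node (.node (.leaf 62) (.leaf 2219)) (.node (.leaf 850) (.leaf 4750))) (.node (.node (.leaf 407) (.leaf 3012)) (.node (.leaf 1389) (.leaf 9114)))) (.node (.node (.node (.leaf 219) (.leaf 2522)) (.node (.leaf 1135) (.leaf 5779))) (.node (.node (.leaf 616) (.leaf 3918)) (.leaf 1718)))) (.node (.node (.node (.node (.leaf 143) (.leaf 2377)) (.node (.leaf 973) (.leaf 5080))) (.node (.node (.leaf 494) (.leaf 3400)) (.node (.leaf 1525) (.leaf 10908)))) (.node (.node (.node (.leaf 313) (.leaf 2732)) (.node (.leaf 1245) (.leaf 7135))) (.node (.node (.leaf 718) (.leaf 4469)) (.leaf 1944))))))))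

def threeWord2 : Janko.Tree (ℕ) :=
  (.node (.node (.node (.node (.node (.node (.node (.node (.leaf 3) (.leaf 1967)) (.node (.leaf 729) (.leaf 4506))) (.node (.node (.leaf 329) (.leaf 2749)) (.node (.leaf 1261) (.leaf 7663)))) (.node (.node (.node (.leaf 153) (.leaf 2391)) (.node (.leaf 986) (.leaf 5235))) (.node (.node (.leaf 507) (.leaf 3417)) (.node (.leaf 1590) (.leaf 13458))))) (.node (.node (.node (.node (.leaf 75) (.leaf 2233)) (.node (.leaf 860) (.leaf 4766))) (.node (.node (.leaf 421) (.leaf 3039)) (.node (.leaf 1405) (.leaf 9176)))) (.node (.node (.node (.leaf 232) (.leaf 2540)) (.node (.leaf 1147) (.leaf 5937))) (.node (.node (.leaf 627) (.leaf 3967)) (.leaf 1748))))) (.node (.node (.node (.node (.node (.leaf 38) (.leaf 2037)) (.node (.leaf 804) (.leaf 4665))) (.node (.node (.leaf 366) (.leaf 2892)) (.node (.leaf 1354) (.leaf 8861)))) (.node (.node (.node (.leaf 190) (.leaf 2469)) (.node (.leaf 1105) (.leaf 5455))) (.node (.node (.leaf 586) (.leaf 3730)) (.leaf 1678)))) (.node (.node (.node (.node (.leaf 110) (.leaf 2293))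 (.node (.leaf 933) (.leaf 4940))) (.node (.node (.leaf 467) (.leaf 3256)) (.node (.leaf 1485) (.leaf 9907)))) (.node (.node (.node (.leaf 284) (.leaf 2663)) (.node (.leaf 1209) (.leaf 6558))) (.node (.node (.leaf 683) (.leaf 4410)) (.leaf 1868)))))) (.node (.node (.node (.node (.node (.node (.leaf 20) (.leaf 2005)) (.node (.leaf 755) (.leaf 4562))) (.node (.node (.leaf 346) (.leaf 2794)) (.node (.leaf 1317) (.leaf 8157)))) (.node (.node (.node (.leaf 172) (.leaf 2425)) (.node (.leaf 1007) (.leaf 5316))) (.node (.node (.leaf 563) (.leaf 3533)) (.node (.leaf 1621) (.leaf 18099))))) (.node (.node (.node (.node (.leaf 92) (.leaf 2263)) (.node (.leaf 890) (.leaf 4838))) (.node (.node (.leaf 439) (.leaf 3182)) (.node (.leaf 1447) (.leaf 9521)))) (.node (.node (.node (.leaf 250) (.leaf 2628)) (.node (.leaf 1188) (.leaf 6300))) (.node (.node (.leaf 661) (.leaf 4061)) (.leaf 1781))))) (.node (.node (.node (.node (.node (.leaf 55) (.leaf 2212)) (.node (.leaf 840) (.leaf 4706))) (.node (.node (.leaf 397) (.leaf 2980)) (.node (.leaf 1375) (.leaf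 8987)))) (.node (.node (.node (.leaf 212) (.leaf 2509)) (.node (.leaf 1128) (.leaf 5627))) (.node (.node (.leaf 605) (.leaf 3837)) (.leaf 1704)))) (.node (.node (.node (.node (.leaf 136) (.leaf 2362)) (.node (.leaf 956) (.leaf 5032))) (.node (.node (.leaf 487) (.leaf 3364)) (.node (.leaf 1513) (.leaf 10723)))) (.node (.node (.node (.leaf 305) (.leaf 2718)) (.node (.leaf 1237) (.leaf 6878))) (.node (.node (.leaf 702) (.leaf 4456)) (.leaf 1918))))))) (.node (.node (.node (.node (.node (.node (.node (.leaf 11) (.leaf 1988)) (.node (.leaf 743) (.leaf 4531))) (.node (.node (.leaf 338) (.leaf 2775)) (.node (.leaf 1298) (.leaf 8014)))) (.node (.node (.node (.leaf 164) (.leaf 2411)) (.node (.leaf 999) (.leaf 5277))) (.node (.node (.leaf 552) (.leaf 3453)) (.node (.leaf 1604) (.leaf 17593))))) (.node (.node (.node (.node (.leaf 84) (.leaf 2253)) (.node (.leaf 876) (.leaf 4790))) (.node (.node (.leaf 429) (.leaf 3140)) (.node (.leaf 1432) (.leaf 9386)))) (.node (.node (.node (.leaf 241) (.leaf 2614)) (.node (.leaf 1173) (.leaf 6063))) (.node (.node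 (.leaf 648) (.leaf 4023)) (.leaf 1766))))) (.node (.node (.node (.node (.node (.leaf 46) (.leaf 2191)) (.node (.leaf 819) (.leaf 4686))) (.node (.node (.leaf 377) (.leaf 2923)) (.node (.leaf 1366) (.leaf 8918)))) (.node (.node (.node (.leaf 203) (.leaf 2484)) (.node (.leaf 1115) (.leaf 5513))) (.node (.node (.leaf 595) (.leaf 3774)) (.leaf 1689)))) (.node (.node (.node (.node (.leaf 120) (.leaf 2340)) (.node (.leaf 947) (.leaf 4981))) (.node (.node (.leaf 475) (.leaf 3282)) (.node (.leaf 1496) (.leaf 10457)))) (.node (.node (.node (.leaf 295) (.leaf 2706)) (.node (.leaf 1223) (.leaf 6803))) (.node (.node (.leaf 693) (.leaf 4431)) (.leaf 1898)))))) (.node (.node (.node (.node (.node (.node (.leaf 28) (.leaf 2025)) (.node (.leaf 785) (.leaf 4583))) (.node (.node (.leaf 358) (.leaf 2834)) (.node (.leaf 1338) (.leaf 8803)))) (.node (.node (.node (.leaf 182) (.leaf 2446)) (.node (.leaf 1092) (.leaf 5418))) (.node (.node (.leaf 571) (.leaf 3618)) (.leaf 1639)))) (.node (.node (.node (.node (.leaf 102) (.leaf 2280)) (.node (.leaf 910) (.leaf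 4861))) (.node (.node (.leaf 452) (.leaf 3218)) (.node (.leaf 1464) (.leaf 9782)))) (.node (.node (.node (.leaf 276) (.leaf 2645)) (.node (.leaf 1196) (.leaf 6484))) (.node (.node (.leaf 675) (.leaf 4084)) (.leaf 1820))))) (.node (.node (.node (.node (.node (.leaf 63) (.leaf 2220)) (.node (.leaf 851) (.leaf 4753))) (.node (.node (.leaf 408) (.leaf 3020)) (.node (.leaf 1390) (.leaf 9124)))) (.node (.node (.node (.leaf 220) (.leaf 2523)) (.node (.leaf 1137) (.leaf 5784))) (.node (.node (.leaf 617) (.leaf 3935)) (.leaf 1719)))) (.node (.node (.node (.node (.leaf 145) (.leaf 2378)) (.node (.leaf 974) (.leaf 5087))) (.node (.node (.leaf 495) (.leaf 3401)) (.node (.leaf 1530) (.leaf 11025)))) (.node (.node (.node (.leaf 314) (.leaf 2733)) (.node (.leaf 1250) (.leaf 7158))) (.node (.node (.leaf 719) (.leaf 4473)) (.leaf 1946))))))))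

def threeWord3 : Janko.Tree (ℕ) :=
  (.node (.node (.node (.node (.node (.node (.node (.node (.leaf 4) (.leaf 1972)) (.node (.leaf 730) (.leaf 4509))) (.node (.node (.leaf 330) (.leaf 2750)) (.node (.leaf 1265) (.leaf 7677)))) (.node (.node (.node (.leaf 154) (.leaf 2392)) (.node (.leaf 987) (.leaf 5236))) (.node (.node (.leaf 509) (.leaf 3419)) (.node (.leaf 1591) (.leaf 13480))))) (.node (.node (.node (.node (.leaf 76) (.leaf 2234)) (.node (.leaf 862) (.leaf 4775))) (.node (.node (.leaf 422) (.leaf 3048)) (.node (.leaf 1406) (.leaf 9326)))) (.node (.node (.node (.leaf 233) (.leaf 2541)) (.node (.leaf 1161) (.leaf 5960))) (.node (.node (.leaf 628) (.leaf 3976)) (.leaf 1749))))) (.node (.node (.node (.node (.node (.leaf 39) (.leaf 2038)) (.node (.leaf 805) (.leaf 4666))) (.node (.node (.leaf 367) (.leaf 2894)) (.node (.leaf 1355) (.leaf 8862)))) (.node (.node (.node (.leaf 191) (.leaf 2470)) (.node (.leaf 1106) (.leaf 5465))) (.node (.node (.leaf 587) (.leaf 3731)) (.leaf 1679)))) (.node (.node (.node (.node (.leaf 111) (.leaf 2294))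 (.node (.leaf 934) (.leaf 4942))) (.node (.node (.leaf 468) (.leaf 3257)) (.node (.leaf 1486) (.leaf 9912)))) (.node (.node (.node (.leaf 285) (.leaf 2676)) (.node (.leaf 1210) (.leaf 6565))) (.node (.node (.leaf 684) (.leaf 4411)) (.leaf 1870)))))) (.node (.node (.node (.node (.node (.node (.leaf 21) (.leaf 2007)) (.node (.leaf 756) (.leaf 4563))) (.node (.node (.leaf 347) (.leaf 2795)) (.node (.leaf 1319) (.leaf 8158)))) (.node (.node (.node (.leaf 173) (.leaf 2426)) (.node (.leaf 1012) (.leaf 5319))) (.node (.node (.leaf 564) (.leaf 3535)) (.node (.leaf 1622) (.leaf 18154))))) (.node (.node (.node (.node (.leaf 93) (.leaf 2264)) (.node (.leaf 891) (.leaf 4839))) (.node (.node (.leaf 440) (.leaf 3187)) (.node (.leaf 1448) (.leaf 9550)))) (.node (.node (.node (.leaf 251) (.leaf 2632)) (.node (.leaf 1189) (.leaf 6361))) (.node (.node (.leaf 663) (.leaf 4062)) (.leaf 1783))))) (.node (.node (.node (.node (.node (.leaf 56) (.leaf 2213)) (.node (.leaf 841) (.leaf 4707))) (.node (.node (.leaf 398) (.leaf 2982)) (.node (.leaf 1378) (.leaf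 8988)))) (.node (.node (.node (.leaf 213) (.leaf 2510)) (.node (.leaf 1129) (.leaf 5686))) (.node (.node (.leaf 606) (.leaf 3838)) (.leaf 1705)))) (.node (.node (.node (.node (.leaf 137) (.leaf 2363)) (.node (.leaf 957) (.leaf 5044))) (.node (.node (.leaf 488) (.leaf 3370)) (.node (.leaf 1515) (.leaf 10837)))) (.node (.node (.node (.leaf 307) (.leaf 2724)) (.node (.leaf 1238) (.leaf 6886))) (.node (.node (.leaf 703) (.leaf 4458)) (.leaf 1919))))))) (.node (.node (.node (.node (.node (.node (.node (.leaf 12) (.leaf 1991)) (.node (.leaf 744) (.leaf 4536))) (.node (.node (.leaf 339) (.leaf 2777)) (.node (.leaf 1299) (.leaf 8031)))) (.node (.node (.node (.leaf 165) (.leaf 2412)) (.node (.leaf 1000) (.leaf 5288))) (.node (.node (.leaf 553) (.leaf 3455)) (.node (.leaf 1608) (.leaf 17607))))) (.node (.node (.node (.node (.leaf 85) (.leaf 2254)) (.node (.leaf 877) (.leaf 4791))) (.node (.node (.leaf 430) (.leaf 3142)) (.node (.leaf 1433) (.leaf 9389)))) (.node (.node (.node (.leaf 243) (.leaf 2615)) (.node (.leaf 1175) (.leaf 6100))) (.node (.node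 (.leaf 649) (.leaf 4029)) (.leaf 1767))))) (.node (.node (.node (.node (.node (.leaf 47) (.leaf 2199)) (.node (.leaf 820) (.leaf 4687))) (.node (.node (.leaf 378) (.leaf 2933)) (.node (.leaf 1367) (.leaf 8919)))) (.node (.node (.node (.leaf 204) (.leaf 2485)) (.node (.leaf 1116) (.leaf 5544))) (.node (.node (.leaf 596) (.leaf 3797)) (.leaf 1692)))) (.node (.node (.node (.node (.leaf 121) (.leaf 2341)) (.node (.leaf 948) (.leaf 5001))) (.node (.node (.leaf 476) (.leaf 3283)) (.node (.leaf 1498) (.leaf 10487)))) (.node (.node (.node (.leaf 296) (.leaf 2707)) (.node (.leaf 1228) (.leaf 6807))) (.node (.node (.leaf 694) (.leaf 4435)) (.leaf 1899)))))) (.node (.node (.node (.node (.node (.node (.leaf 29) (.leaf 2026)) (.node (.leaf 786) (.leaf 4585))) (.node (.node (.leaf 359) (.leaf 2843)) (.node (.leaf 1339) (.leaf 8820)))) (.node (.node (.node (.leaf 183) (.leaf 2447)) (.node (.leaf 1094) (.leaf 5422))) (.node (.node (.leaf 572) (.leaf 3638)) (.leaf 1640)))) (.node (.node (.node (.node (.leaf 103) (.leaf 2281)) (.node (.leaf 911) (.leaf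 4881))) (.node (.node (.leaf 454) (.leaf 3223)) (.node (.leaf 1465) (.leaf 9783)))) (.node (.node (.node (.leaf 277) (.leaf 2646)) (.node (.leaf 1197) (.leaf 6488))) (.node (.node (.leaf 676) (.leaf 4085)) (.leaf 1841))))) (.node (.node (.node (.node (.node (.leaf 68) (.leaf 2221)) (.node (.leaf 852) (.leaf 4755))) (.node (.node (.leaf 409) (.leaf 3022)) (.node (.leaf 1391) (.leaf 9126)))) (.node (.node (.node (.leaf 221) (.leaf 2530)) (.node (.leaf 1139) (.leaf 5785))) (.node (.node (.leaf 618) (.leaf 3944)) (.leaf 1720)))) (.node (.node (.node (.node (.leaf 146) (.leaf 2379)) (.node (.leaf 975) (.leaf 5190))) (.node (.node (.leaf 497) (.leaf 3402)) (.node (.leaf 1531) (.leaf 11162)))) (.node (.node (.node (.leaf 315) (.leaf 2737)) (.node (.leaf 1251) (.leaf 7276))) (.node (.node (.leaf 722) (.leaf 4474)) (.leaf 1949))))))))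

def threeWord4 : Janko.Tree (ℕ) :=
  (.node (.node (.node (.node (.node (.node (.node (.node (.leaf 5) (.leaf 1973)) (.node (.leaf 732) (.leaf 4510))) (.node (.node (.leaf 331) (.leaf 2751)) (.node (.leaf 1267) (.leaf 7714)))) (.node (.node (.node (.leaf 155) (.leaf 2393)) (.node (.leaf 989) (.leaf 5241))) (.node (.node (.leaf 510) (.leaf 3426)) (.node (.leaf 1592) (.leaf 13508))))) (.node (.node (.node (.node (.leaf 77) (.leaf 2236)) (.node (.leaf 863) (.leaf 4776))) (.node (.node (.leaf 423) (.leaf 3049)) (.node (.leaf 1407) (.leaf 9331)))) (.node (.node (.node (.leaf 234) (.leaf 2542)) (.node (.leaf 1165) (.leaf 5966))) (.node (.node (.leaf 629) (.leaf 3983)) (.leaf 1750))))) (.node (.node (.node (.node (.node (.leaf 40) (.leaf 2039)) (.node (.leaf 807) (.leaf 4667))) (.node (.node (.leaf 369) (.leaf 2903)) (.node (.leaf 1356) (.leaf 8871)))) (.node (.node (.node (.leaf 196) (.leaf 2471)) (.node (.leaf 1107) (.leaf 5480))) (.node (.node (.leaf 588) (.leaf 3736)) (.leaf 1681)))) (.node (.node (.node (.node (.leaf 113) (.leaf 2295))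 (.node (.leaf 935) (.leaf 4951))) (.node (.node (.leaf 469) (.leaf 3261)) (.node (.leaf 1487) (.leaf 9962)))) (.node (.node (.node (.leaf 286) (.leaf 2677)) (.node (.leaf 1212) (.leaf 6616))) (.node (.node (.leaf 685) (.leaf 4412)) (.leaf 1879)))))) (.node (.node (.node (.node (.node (.node (.leaf 22) (.leaf 2008)) (.node (.leaf 757) (.leaf 4564))) (.node (.node (.leaf 348) (.leaf 2805)) (.node (.leaf 1322) (.leaf 8171)))) (.node (.node (.node (.leaf 174) (.leaf 2429)) (.node (.leaf 1013) (.leaf 5324))) (.node (.node (.leaf 565) (.leaf 3538)) (.node (.leaf 1628) (.leaf 18280))))) (.node (.node (.node (.node (.leaf 94) (.leaf 2265)) (.node (.leaf 893) (.leaf 4840))) (.node (.node (.leaf 441) (.leaf 3188)) (.node (.leaf 1451) (.leaf 9551)))) (.node (.node (.node (.leaf 253) (.leaf 2633)) (.node (.leaf 1190) (.leaf 6376))) (.node (.node (.leaf 664) (.leaf 4063)) (.leaf 1786))))) (.node (.node (.node (.node (.node (.leaf 57) (.leaf 2214)) (.node (.leaf 842) (.leaf 4724))) (.node (.node (.leaf 399) (.leaf 2983)) (.node (.leaf 1382) (.leaf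 9033)))) (.node (.node (.node (.leaf 214) (.leaf 2511)) (.node (.leaf 1130) (.leaf 5687))) (.node (.node (.leaf 607) (.leaf 3857)) (.leaf 1708)))) (.node (.node (.node (.node (.leaf 138) (.leaf 2364)) (.node (.leaf 959) (.leaf 5045))) (.node (.node (.leaf 489) (.leaf 3374)) (.node (.leaf 1516) (.leaf 10850)))) (.node (.node (.node (.leaf 308) (.leaf 2725)) (.node (.leaf 1239) (.leaf 6887))) (.node (.node (.leaf 708) (.leaf 4459)) (.leaf 1928))))))) (.node (.node (.node (.node (.node (.node (.node (.leaf 13) (.leaf 1996)) (.node (.leaf 745) (.leaf 4537))) (.node (.node (.leaf 340) (.leaf 2781)) (.node (.leaf 1307) (.leaf 8059)))) (.node (.node (.node (.leaf 166) (.leaf 2413)) (.node (.leaf 1001) (.leaf 5290))) (.node (.node (.leaf 554) (.leaf 3464)) (.node (.leaf 1609) (.leaf 17641))))) (.node (.node (.node (.node (.leaf 86) (.leaf 2255)) (.node (.leaf 878) (.leaf 4793))) (.node (.node (.leaf 431) (.leaf 3147)) (.node (.leaf 1434) (.leaf 9401)))) (.node (.node (.node (.leaf 244) (.leaf 2616)) (.node (.leaf 1176) (.leaf 6101))) (.node (.node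 (.leaf 653) (.leaf 4031)) (.leaf 1768))))) (.node (.node (.node (.node (.node (.leaf 49) (.leaf 2200)) (.node (.leaf 826) (.leaf 4692))) (.node (.node (.leaf 379) (.leaf 2937)) (.node (.leaf 1368) (.leaf 8921)))) (.node (.node (.node (.leaf 205) (.leaf 2488)) (.node (.leaf 1117) (.leaf 5548))) (.node (.node (.leaf 597) (.leaf 3798)) (.leaf 1693)))) (.node (.node (.node (.node (.leaf 122) (.leaf 2343)) (.node (.leaf 949) (.leaf 5005))) (.node (.node (.leaf 477) (.leaf 3304)) (.node (.leaf 1499) (.leaf 10580)))) (.node (.node (.node (.leaf 297) (.leaf 2709)) (.node (.leaf 1229) (.leaf 6808))) (.node (.node (.leaf 695) (.leaf 4436)) (.leaf 1901)))))) (.node (.node (.node (.node (.node (.node (.leaf 30) (.leaf 2027)) (.node (.leaf 787) (.leaf 4587))) (.node (.node (.leaf 360) (.leaf 2844)) (.node (.leaf 1340) (.leaf 8821)))) (.node (.node (.node (.leaf 184) (.leaf 2456)) (.node (.leaf 1095) (.leaf 5425))) (.node (.node (.leaf 573) (.leaf 3639)) (.leaf 1641)))) (.node (.node (.node (.node (.leaf 104) (.leaf 2282)) (.node (.leaf 920) (.leaf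 4882))) (.node (.node (.leaf 455) (.leaf 3228)) (.node (.leaf 1466) (.leaf 9827)))) (.node (.node (.node (.leaf 278) (.leaf 2652)) (.node (.leaf 1198) (.leaf 6489))) (.node (.node (.leaf 677) (.leaf 4379)) (.leaf 1843))))) (.node (.node (.node (.node (.node (.leaf 69) (.leaf 2222)) (.node (.leaf 854) (.leaf 4757))) (.node (.node (.leaf 410) (.leaf 3026)) (.node (.leaf 1395) (.leaf 9127)))) (.node (.node (.node (.leaf 222) (.leaf 2531)) (.node (.leaf 1140) (.leaf 5788))) (.node (.node (.leaf 619) (.leaf 3946)) (.leaf 1721)))) (.node (.node (.node (.node (.leaf 147) (.leaf 2380)) (.node (.leaf 978) (.leaf 5195))) (.node (.node (.leaf 499) (.leaf 3403)) (.node (.leaf 1533) (.leaf 11372)))) (.node (.node (.node (.leaf 316) (.leaf 2739)) (.node (.leaf 1254) (.leaf 7367))) (.node (.node (.leaf 723) (.leaf 4488)) (.leaf 1956))))))))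

def threeWord5 : Janko.Tree (ℕ) :=
  (.node (.node (.node (.node (.node (.node (.node (.node (.leaf 6) (.leaf 1975)) (.node (.leaf 733) (.leaf 4516))) (.node (.node (.leaf 332) (.leaf 2756)) (.node (.leaf 1268) (.leaf 7894)))) (.node (.node (.node (.leaf 156) (.leaf 2394)) (.node (.leaf 990) (.leaf 5243))) (.node (.node (.leaf 546) (.leaf 3432)) (.node (.leaf 1593) (.leaf 13704))))) (.node (.node (.node (.node (.leaf 78) (.leaf 2237)) (.node (.leaf 866) (.leaf 4777))) (.node (.node (.leaf 424) (.leaf 3050)) (.node (.leaf 1416) (.leaf 9337)))) (.node (.node (.node (.leaf 235) (.leaf 2543)) (.node (.leaf 1166) (.leaf 5992))) (.node (.node (.leaf 630) (.leaf 3997)) (.leaf 1751))))) (.node (.node (.node (.node (.node (.leaf 41) (.leaf 2042)) (.node (.leaf 810) (.leaf 4668))) (.node (.node (.leaf 371) (.leaf 2904)) (.node (.leaf 1358) (.leaf 8873)))) (.node (.node (.node (.leaf 198) (.leaf 2472)) (.node (.leaf 1108) (.leaf 5484))) (.node (.node (.leaf 589) (.leaf 3737)) (.leaf 1682)))) (.node (.node (.node (.node (.leaf 115) (.leaf 2331))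 (.node (.leaf 936) (.leaf 4952))) (.node (.node (.leaf 470) (.leaf 3268)) (.node (.leaf 1490) (.leaf 10033)))) (.node (.node (.node (.leaf 290) (.leaf 2678)) (.node (.leaf 1213) (.leaf 6627))) (.node (.node (.leaf 686) (.leaf 4413)) (.leaf 1880)))))) (.node (.node (.node (.node (.node (.node (.leaf 23) (.leaf 2011)) (.node (.leaf 758) (.leaf 4568))) (.node (.node (.leaf 349) (.leaf 2807)) (.node (.leaf 1323) (.leaf 8759)))) (.node (.node (.node (.leaf 175) (.leaf 2430)) (.node (.leaf 1014) (.leaf 5326))) (.node (.node (.leaf 566) (.leaf 3539)) (.node (.leaf 1630) (.leaf 18779))))) (.node (.node (.node (.node (.leaf 95) (.leaf 2268)) (.node (.leaf 894) (.leaf 4841))) (.node (.node (.leaf 442) (.leaf 3192)) (.node (.leaf 1452) (.leaf 9561)))) (.node (.node (.node (.leaf 254) (.leaf 2634)) (.node (.leaf 1191) (.leaf 6377))) (.node (.node (.leaf 665) (.leaf 4072)) (.leaf 1789))))) (.node (.node (.node (.node (.node (.leaf 58) (.leaf 2215)) (.node (.leaf 843) (.leaf 4725))) (.node (.node (.leaf 401) (.leaf 2984)) (.node (.leaf 1384) (.leaf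 9048)))) (.node (.node (.node (.leaf 215) (.leaf 2514)) (.node (.leaf 1131) (.leaf 5688))) (.node (.node (.leaf 610) (.leaf 3889)) (.leaf 1709)))) (.node (.node (.node (.node (.leaf 139) (.leaf 2365)) (.node (.leaf 964) (.leaf 5060))) (.node (.node (.leaf 490) (.leaf 3375)) (.node (.leaf 1517) (.leaf 10899)))) (.node (.node (.node (.leaf 309) (.leaf 2726)) (.node (.leaf 1240) (.leaf 6910))) (.node (.node (.leaf 710) (.leaf 4460)) (.leaf 1929))))))) (.node (.node (.node (.node (.node (.node (.node (.leaf 14) (.leaf 1998)) (.node (.leaf 746) (.leaf 4538))) (.node (.node (.leaf 341) (.leaf 2782)) (.node (.leaf 1308) (.leaf 8063)))) (.node (.node (.node (.leaf 167) (.leaf 2414)) (.node (.leaf 1002) (.leaf 5292))) (.node (.node (.leaf 555) (.leaf 3465)) (.node (.leaf 1610) (.leaf 17649))))) (.node (.node (.node (.node (.leaf 87) (.leaf 2258)) (.node (.leaf 879) (.leaf 4820))) (.node (.node (.leaf 433) (.leaf 3148)) (.node (.leaf 1437) (.leaf 9405)))) (.node (.node (.node (.leaf 245) (.leaf 2617)) (.node (.leaf 1178) (.leaf 6120))) (.node (.node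 (.leaf 654) (.leaf 4051)) (.leaf 1769))))) (.node (.node (.node (.node (.node (.leaf 50) (.leaf 2202)) (.node (.leaf 827) (.leaf 4693))) (.node (.node (.leaf 381) (.leaf 2952)) (.node (.leaf 1369) (.leaf 8934)))) (.node (.node (.node (.leaf 206) (.leaf 2489)) (.node (.leaf 1118) (.leaf 5565))) (.node (.node (.leaf 598) (.leaf 3799)) (.leaf 1694)))) (.node (.node (.node (.node (.leaf 123) (.leaf 2346)) (.node (.leaf 950) (.leaf 5016))) (.node (.node (.leaf 478) (.leaf 3305)) (.node (.leaf 1506) (.leaf 10584)))) (.node (.node (.node (.leaf 298) (.leaf 2711)) (.node (.leaf 1230) (.leaf 6809))) (.node (.node (.leaf 696) (.leaf 4438)) (.leaf 1902)))))) (.node (.node (.node (.node (.node (.node (.leaf 31) (.leaf 2028)) (.node (.leaf 795) (.leaf 4588))) (.node (.node (.leaf 361) (.leaf 2865)) (.node (.leaf 1341) (.leaf 8824)))) (.node (.node (.node (.leaf 185) (.leaf 2457)) (.node (.leaf 1099) (.leaf 5449))) (.node (.node (.leaf 580) (.leaf 3640)) (.leaf 1652)))) (.node (.node (.node (.node (.leaf 105) (.leaf 2284)) (.node (.leaf 921) (.leaf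 4891))) (.node (.node (.leaf 460) (.leaf 3229)) (.node (.leaf 1468) (.leaf 9874)))) (.node (.node (.node (.leaf 279) (.leaf 2654)) (.node (.leaf 1204) (.leaf 6490))) (.node (.node (.leaf 678) (.leaf 4381)) (.leaf 1851))))) (.node (.node (.node (.node (.node (.leaf 70) (.leaf 2228)) (.node (.leaf 855) (.leaf 4759))) (.node (.node (.leaf 412) (.leaf 3027)) (.node (.leaf 1396) (.leaf 9128)))) (.node (.node (.node (.leaf 223) (.leaf 2534)) (.node (.leaf 1141) (.leaf 5811))) (.node (.node (.leaf 620) (.leaf 3947)) (.leaf 1725)))) (.node (.node (.node (.node (.leaf 148) (.leaf 2382)) (.node (.leaf 979) (.leaf 5196))) (.node (.node (.leaf 500) (.leaf 3404)) (.node (.leaf 1570) (.leaf 11463)))) (.node (.node (.node (.leaf 317) (.leaf 2740)) (.node (.leaf 1255) (.leaf 7374))) (.node (.node (.leaf 724) (.leaf 4489)) (.leaf 1957))))))))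

def threeWord6 : Janko.Tree (ℕ) :=
  (.node (.node (.node (.node (.node (.node (.node (.node (.leaf 7) (.leaf 1978)) (.node (.leaf 734) (.leaf 4517))) (.node (.node (.leaf 333) (.leaf 2765)) (.node (.leaf 1269) (.leaf 7900)))) (.node (.node (.node (.leaf 157) (.leaf 2395)) (.node (.leaf 991) (.leaf 5265))) (.node (.node (.leaf 547) (.leaf 3436)) (.node (.leaf 1594) (.leaf 16223))))) (.node (.node (.node (.node (.leaf 79) (.leaf 2244)) (.node (.leaf 870) (.leaf 4780))) (.node (.node (.leaf 425) (.leaf 3060)) (.node (.leaf 1417) (.leaf 9367)))) (.node (.node (.node (.leaf 236) (.leaf 2595)) (.node (.leaf 1167) (.leaf 5995))) (.node (.node (.leaf 632) (.leaf 4004)) (.leaf 1753))))) (.node (.node (.node (.node (.node (.leaf 42) (.leaf 2043)) (.node (.leaf 811) (.leaf 4676))) (.node (.node (.leaf 372) (.leaf 2905)) (.node (.leaf 1359) (.leaf 8876)))) (.node (.node (.node (.leaf 199) (.leaf 2475)) (.node (.leaf 1109) (.leaf 5487))) (.node (.node (.leaf 590) (.leaf 3740)) (.leaf 1683)))) (.node (.node (.node (.node (.leaf 116) (.leaf 2332))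 (.node (.leaf 939) (.leaf 4953))) (.node (.node (.leaf 471) (.leaf 3271)) (.node (.leaf 1491) (.leaf 10088)))) (.node (.node (.node (.leaf 291) (.leaf 2680)) (.node (.leaf 1214) (.leaf 6729))) (.node (.node (.leaf 687) (.leaf 4423)) (.leaf 1881)))))) (.node (.node (.node (.node (.node (.node (.leaf 24) (.leaf 2013)) (.node (.leaf 759) (.leaf 4570))) (.node (.node (.leaf 350) (.leaf 2810)) (.node (.leaf 1326) (.leaf 8762)))) (.node (.node (.node (.leaf 177) (.leaf 2431)) (.node (.leaf 1015) (.leaf 5353))) (.node (.node (.leaf 567) (.leaf 3559)) (.node (.leaf 1631) (.leaf 19655))))) (.node (.node (.node (.node (.leaf 98) (.leaf 2269)) (.node (.leaf 895) (.leaf 4842))) (.node (.node (.leaf 444) (.leaf 3193)) (.node (.leaf 1454) (.leaf 9576)))) (.node (.node (.node (.leaf 255) (.leaf 2635)) (.node (.leaf 1192) (.leaf 6391))) (.node (.node (.leaf 666) (.leaf 4074)) (.leaf 1790))))) (.node (.node (.node (.node (.node (.leaf 59) (.leaf 2216)) (.node (.leaf 844) (.leaf 4726))) (.node (.node (.leaf 402) (.leaf 2987)) (.node (.leaf 1386) (.leaf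 9049)))) (.node (.node (.node (.leaf 216) (.leaf 2515)) (.node (.leaf 1132) (.leaf 5731))) (.node (.node (.leaf 611) (.leaf 3899)) (.leaf 1713)))) (.node (.node (.node (.node (.leaf 140) (.leaf 2374)) (.node (.leaf 966) (.leaf 5070))) (.node (.node (.leaf 491) (.leaf 3377)) (.node (.leaf 1518) (.leaf 10903)))) (.node (.node (.node (.leaf 310) (.leaf 2727)) (.node (.leaf 1241) (.leaf 6929))) (.node (.node (.leaf 711) (.leaf 4462)) (.leaf 1933))))))) (.node (.node (.node (.node (.node (.node (.node (.leaf 15) (.leaf 1999)) (.node (.leaf 747) (.leaf 4550))) (.node (.node (.leaf 342) (.leaf 2790)) (.node (.leaf 1309) (.leaf 8111)))) (.node (.node (.node (.leaf 168) (.leaf 2415)) (.node (.leaf 1003) (.leaf 5293))) (.node (.node (.leaf 557) (.leaf 3496)) (.node (.leaf 1611) (.leaf 17772))))) (.node (.node (.node (.node (.leaf 88) (.leaf 2259)) (.node (.leaf 883) (.leaf 4822))) (.node (.node (.leaf 435) (.leaf 3149)) (.node (.leaf 1438) (.leaf 9415)))) (.node (.node (.node (.leaf 246) (.leaf 2618)) (.node (.leaf 1180) (.leaf 6126))) (.node (.node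 (.leaf 655) (.leaf 4052)) (.leaf 1770))))) (.node (.node (.node (.node (.node (.leaf 51) (.leaf 2204)) (.node (.leaf 828) (.leaf 4694))) (.node (.node (.leaf 382) (.leaf 2953)) (.node (.leaf 1370) (.leaf 8938)))) (.node (.node (.node (.leaf 207) (.leaf 2490)) (.node (.leaf 1122) (.leaf 5581))) (.node (.node (.leaf 599) (.leaf 3804)) (.leaf 1700)))) (.node (.node (.node (.node (.leaf 124) (.leaf 2347)) (.node (.leaf 951) (.leaf 5018))) (.node (.node (.leaf 479) (.leaf 3308)) (.node (.leaf 1507) (.leaf 10585)))) (.node (.node (.node (.leaf 299) (.leaf 2712)) (.node (.leaf 1231) (.leaf 6812))) (.node (.node (.leaf 697) (.leaf 4441)) (.leaf 1903)))))) (.node (.node (.node (.node (.node (.node (.leaf 34) (.leaf 2029)) (.node (.leaf 796) (.leaf 4590))) (.node (.node (.leaf 362) (.leaf 2867)) (.node (.leaf 1350) (.leaf 8846)))) (.node (.node (.node (.leaf 186) (.leaf 2458)) (.node (.leaf 1100) (.leaf 5450))) (.node (.node (.leaf 582) (.leaf 3641)) (.leaf 1653)))) (.node (.node (.node (.node (.leaf 106) (.leaf 2285)) (.node (.leaf 922) (.leaf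 4892))) (.node (.node (.leaf 461) (.leaf 3240)) (.node (.leaf 1469) (.leaf 9875)))) (.node (.node (.node (.leaf 280) (.leaf 2655)) (.node (.leaf 1205) (.leaf 6491))) (.node (.node (.leaf 679) (.leaf 4382)) (.leaf 1853))))) (.node (.node (.node (.node (.node (.leaf 71) (.leaf 2229)) (.node (.leaf 856) (.leaf 4760))) (.node (.node (.leaf 413) (.leaf 3031)) (.node (.leaf 1397) (.leaf 9140)))) (.node (.node (.node (.leaf 226) (.leaf 2535)) (.node (.leaf 1142) (.leaf 5816))) (.node (.node (.leaf 621) (.leaf 3950)) (.leaf 1726)))) (.node (.node (.node (.node (.leaf 149) (.leaf 2383)) (.node (.leaf 980) (.leaf 5197))) (.node (.node (.leaf 501) (.leaf 3406)) (.node (.leaf 1571) (.leaf 12110)))) (.node (.node (.node (.leaf 324) (.leaf 2742)) (.node (.leaf 1256) (.leaf 7375))) (.node (.node (.leaf 725) (.leaf 4493)) (.leaf 1958))))))))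

def threeWord7 : Janko.Tree (ℕ) :=
  (.node (.node (.node (.node (.node (.node (.node (.node (.leaf 8) (.leaf 1980)) (.node (.leaf 738) (.leaf 4519))) (.node (.node (.leaf 334) (.leaf 2772)) (.node (.leaf 1270) (.leaf 7927)))) (.node (.node (.node (.leaf 158) (.leaf 2396)) (.node (.leaf 994) (.leaf 5266))) (.node (.node (.leaf 549) (.leaf 3439)) (.node (.leaf 1595) (.leaf 16251))))) (.node (.node (.node (.node (.leaf 81) (.leaf 2246)) (.node (.leaf 872) (.leaf 4785))) (.node (.node (.leaf 426) (.leaf 3062)) (.node (.leaf 1421) (.leaf 9372)))) (.node (.node (.node (.leaf 237) (.leaf 2597)) (.node (.leaf 1169) (.leaf 6045))) (.node (.node (.leaf 633) (.leaf 4005)) (.leaf 1756))))) (.node (.node (.node (.node (.node (.leaf 43) (.leaf 2185)) (.node (.leaf 814) (.leaf 4681))) (.node (.node (.leaf 373) (.leaf 2908)) (.node (.leaf 1362) (.leaf 8883)))) (.node (.node (.node (.leaf 200) (.leaf 2476)) (.node (.leaf 1110) (.leaf 5499))) (.node (.node (.leaf 591) (.leaf 3763)) (.leaf 1685)))) (.node (.node (.node (.node (.leaf 117) (.leaf 2333))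 (.node (.leaf 940) (.leaf 4956))) (.node (.node (.leaf 472) (.leaf 3276)) (.node (.leaf 1492) (.leaf 10148)))) (.node (.node (.node (.leaf 292) (.leaf 2683)) (.node (.leaf 1215) (.leaf 6740))) (.node (.node (.leaf 689) (.leaf 4427)) (.leaf 1884)))))) (.node (.node (.node (.node (.node (.node (.leaf 25) (.leaf 2014)) (.node (.leaf 762) (.leaf 4578))) (.node (.node (.leaf 351) (.leaf 2813)) (.node (.leaf 1327) (.leaf 8796)))) (.node (.node (.node (.leaf 179) (.leaf 2440)) (.node (.leaf 1018) (.leaf 5356))) (.node (.node (.leaf 568) (.leaf 3567)) (.node (.leaf 1634) (.leaf 20763))))) (.node (.node (.node (.node (.leaf 99) (.leaf 2275)) (.node (.leaf 904) (.leaf 4843))) (.node (.node (.leaf 445) (.leaf 3195)) (.node (.leaf 1459) (.leaf 9580)))) (.node (.node (.node (.leaf 273) (.leaf 2638)) (.node (.leaf 1193) (.leaf 6434))) (.node (.node (.leaf 668) (.leaf 4075)) (.leaf 1809))))) (.node (.node (.node (.node (.node (.leaf 60) (.leaf 2217)) (.node (.leaf 846) (.leaf 4728))) (.node (.node (.leaf 403) (.leaf 2996)) (.node (.leaf 1387) (.leaf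 9077)))) (.node (.node (.node (.leaf 217) (.leaf 2516)) (.node (.leaf 1133) (.leaf 5777))) (.node (.node (.leaf 614) (.leaf 3912)) (.leaf 1715)))) (.node (.node (.node (.node (.leaf 141) (.leaf 2375)) (.node (.leaf 967) (.leaf 5074))) (.node (.node (.leaf 492) (.leaf 3387)) (.node (.leaf 1519) (.leaf 10904)))) (.node (.node (.node (.leaf 311) (.leaf 2728)) (.node (.leaf 1242) (.leaf 6930))) (.node (.node (.leaf 716) (.leaf 4467)) (.leaf 1934))))))) (.node (.node (.node (.node (.node (.node (.node (.leaf 17) (.leaf 2002)) (.node (.leaf 748) (.leaf 4556))) (.node (.node (.leaf 343) (.leaf 2791)) (.node (.leaf 1310) (.leaf 8119)))) (.node (.node (.node (.leaf 169) (.leaf 2419)) (.node (.leaf 1004) (.leaf 5304))) (.node (.node (.leaf 558) (.leaf 3500)) (.node (.leaf 1614) (.leaf 17974))))) (.node (.node (.node (.node (.leaf 89) (.leaf 2260)) (.node (.leaf 884) (.leaf 4823))) (.node (.node (.leaf 436) (.leaf 3150)) (.node (.leaf 1444) (.leaf 9449)))) (.node (.node (.node (.leaf 247) (.leaf 2619)) (.node (.leaf 1181) (.leaf 6281))) (.node (.node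 (.leaf 657) (.leaf 4053)) (.leaf 1771))))) (.node (.node (.node (.node (.node (.leaf 52) (.leaf 2205)) (.node (.leaf 829) (.leaf 4700))) (.node (.node (.leaf 383) (.leaf 2957)) (.node (.leaf 1371) (.leaf 8939)))) (.node (.node (.node (.leaf 209) (.leaf 2500)) (.node (.leaf 1123) (.leaf 5583))) (.node (.node (.leaf 602) (.leaf 3805)) (.leaf 1701)))) (.node (.node (.node (.node (.leaf 125) (.leaf 2350)) (.node (.leaf 952) (.leaf 5028))) (.node (.node (.leaf 482) (.leaf 3313)) (.node (.leaf 1510) (.leaf 10587)))) (.node (.node (.node (.leaf 301) (.leaf 2713)) (.node (.leaf 1234) (.leaf 6820))) (.node (.node (.leaf 698) (.leaf 4442)) (.leaf 1909)))))) (.node (.node (.node (.node (.node (.node (.leaf 35) (.leaf 2030)) (.node (.leaf 797) (.leaf 4662))) (.node (.node (.leaf 363) (.leaf 2875)) (.node (.leaf 1351) (.leaf 8855)))) (.node (.node (.node (.leaf 187) (.leaf 2461)) (.node (.leaf 1101) (.leaf 5451))) (.node (.node (.leaf 583) (.leaf 3683)) (.leaf 1654)))) (.node (.node (.node (.node (.leaf 107) (.leaf 2289)) (.node (.leaf 925) (.leaf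 4913))) (.node (.node (.leaf 462) (.leaf 3242)) (.node (.leaf 1476) (.leaf 9880)))) (.node (.node (.node (.leaf 281) (.leaf 2658)) (.node (.leaf 1206) (.leaf 6536))) (.node (.node (.leaf 680) (.leaf 4398)) (.leaf 1864))))) (.node (.node (.node (.node (.node (.leaf 72) (.leaf 2230)) (.node (.leaf 857) (.leaf 4761))) (.node (.node (.leaf 414) (.leaf 3032)) (.node (.leaf 1401) (.leaf 9141)))) (.node (.node (.node (.leaf 227) (.leaf 2536)) (.node (.leaf 1144) (.leaf 5846))) (.node (.node (.leaf 622) (.leaf 3961)) (.leaf 1727)))) (.node (.node (.node (.node (.leaf 150) (.leaf 2387)) (.node (.leaf 981) (.leaf 5228))) (.node (.node (.leaf 502) (.leaf 3407)) (.node (.leaf 1573) (.leaf 12571)))) (.node (.node (.node (.leaf 326) (.leaf 2743)) (.node (.leaf 1257) (.leaf 7460))) (.node (.node (.leaf 726) (.leaf 4494)) (.leaf 1959))))))))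

def threeWord : Janko.Tree (ℕ) := (.node (.node (.node threeWord0 threeWord4) (.node threeWord2 threeWord6)) (.node (.node threeWord1 threeWord5) (.node threeWord3 threeWord7)))

def threePar0 : Janko.Tree (ℕ) :=
  (.node (.node (.node (.node (.node (.node (.node (.node (.leaf 0) (.leaf 1276)) (.node (.leaf 575) (.leaf 2193))) (.node (.node (.leaf 275) (.leaf 1632)) (.node (.leaf 904) (.leaf 2899)))) (.node (.node (.node (.leaf 133) (.leaf 1456)) (.node (.leaf 749) (.leaf 2453))) (.node (.node (.leaf 423) (.leaf 1894)) (.node (.leaf 1080) (.leaf 3506))))) (.node (.node (.node (.node (.leaf 65) (.leaf 1365)) (.node (.leaf 660) (.leaf 2298))) (.node (.node (.leaf 351) (.leaf 1771)) (.node (.leaf 994) (.leaf 3118)))) (.node (.node (.node (.leaf 202) (.leaf 1547)) (.node (.leaf 823) (.leaf 2646))) (.node (.node (.leaf 495) (.leaf 2065)) (.leaf 1162))))) (.node (.node (.node (.node (.node (.leaf 32) (.leaf 1325)) (.node (.leaf 616) (.leaf 2251))) (.node (.node (.leaf 308) (.leaf 1694)) (.node (.leaf 950) (.leaf 3025)))) (.node (.node (.node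 (.leaf 168) (.leaf 1500)) (.node (.leaf 786) (.leaf 2538))) (.node (.node (.leaf 462) (.leaf 1977)) (.leaf 1116)))) (.node (.node (.node (.node (.leaf 98) (.leaf 1409)) (.node (.leaf 704) (.leaf 2363))) (.node (.node (.leaf 387) (.leaf 1830)) (.node (.leaf 1040) (.leaf 3269)))) (.node (.node (.node (.leaf 238) (.leaf 1585)) (.node (.leaf 865) (.leaf 2764))) (.node (.node (.leaf 537) (.leaf 2135)) (.leaf 1219)))))) (.node (.node (.node (.node (.node (.node (.leaf 16) (.leaf 1305)) (.node (.leaf 593) (.leaf 2225))) (.node (.node (.leaf 292) (.leaf 1658)) (.node (.leaf 926) (.leaf 2983)))) (.node (.node (.node (.leaf 150) (.leaf 1478)) (.node (.leaf 767) (.leaf 2489))) (.node (.node (.leaf 443) (.leaf 1934)) (.node (.leaf 1097) (.leaf 3685))))) (.node (.node (.node (.node (.leaf 82) (.leaf 1385)) (.node (.leaf 683) (.leaf 2327))) (.node (.node (.leaf 369) (.leaf 1796)) (.node (.leaf 1015) (.leaf 3183)))) (.node (.node (.node (.leaf 220) (.leaf 1566)) (.node (.leaf 846) (.leaf 2711))) (.node (.node (.leaf 516) (.leaf 2105)) (.leaf 1187)))))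 (.node (.node (.node (.node (.node (.leaf 49) (.leaf 1346)) (.node (.leaf 640) (.leaf 2272))) (.node (.node (.leaf 328) (.leaf 1730)) (.node (.leaf 970) (.leaf 3063)))) (.node (.node (.node (.leaf 186) (.leaf 1526)) (.node (.leaf 804) (.leaf 2594))) (.node (.node (.leaf 479) (.leaf 2014)) (.leaf 1140)))) (.node (.node (.node (.node (.leaf 116) (.leaf 1431)) (.node (.leaf 727) (.leaf 2412))) (.node (.node (.leaf 405) (.leaf 1859)) (.node (.leaf 1061) (.leaf 3366)))) (.node (.node (.node (.leaf 256) (.leaf 1610)) (.node (.leaf 885) (.leaf 2822))) (.node (.node (.leaf 556) (.leaf 2167)) (.leaf 1253))))))) (.node (.node (.node (.node (.node (.node (.node (.leaf 7) (.leaf 1291)) (.node (.leaf 585) (.leaf 2206))) (.node (.node (.leaf 283) (.leaf 1645)) (.node (.leaf 915) (.leaf 2947)))) (.node (.node (.node (.leaf 142) (.leaf 1466)) (.node (.leaf 759) (.leaf 2477))) (.node (.node (.leaf 434) (.leaf 1913)) (.node (.leaf 1088) (.leaf 3619))))) (.node (.node (.node (.node (.leaf 74) (.leaf 1375)) (.node (.leaf 672) (.leaf 2313))) (.node (.node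 (.leaf 359) (.leaf 1783)) (.node (.leaf 1004) (.leaf 3157)))) (.node (.node (.node (.leaf 210) (.leaf 1558)) (.node (.leaf 834) (.leaf 2680))) (.node (.node (.leaf 506) (.leaf 2081)) (.leaf 1177))))) (.node (.node (.node (.node (.node (.leaf 40) (.leaf 1335)) (.node (.leaf 627) (.leaf 2262))) (.node (.node (.leaf 318) (.leaf 1712)) (.node (.leaf 961) (.leaf 3040)))) (.node (.node (.node (.leaf 177) (.leaf 1512)) (.node (.leaf 795) (.leaf 2569))) (.node (.node (.leaf 471) (.leaf 1998)) (.leaf 1131)))) (.node (.node (.node (.node (.leaf 108) (.leaf 1420)) (.node (.leaf 716) (.leaf 2388))) (.node (.node (.leaf 397) (.leaf 1844)) (.node (.leaf 1051) (.leaf 3319)))) (.node (.node (.node (.leaf 247) (.leaf 1598)) (.node (.leaf 874) (.leaf 2791))) (.node (.node (.leaf 547) (.leaf 2152)) (.leaf 1235)))))) (.node (.node (.node (.node (.node (.node (.leaf 24) (.leaf 1317)) (.node (.leaf 605) (.leaf 2239))) (.node (.node (.leaf 300) (.leaf 1672)) (.node (.leaf 937) (.leaf 3008)))) (.node (.node (.node (.leaf 160) (.leaf 1489)) (.node (.leaf 775)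 (.leaf 2509))) (.node (.node (.leaf 453) (.leaf 1963)) (.leaf 1107)))) (.node (.node (.node (.node (.leaf 90) (.leaf 1398)) (.node (.leaf 693) (.leaf 2343))) (.node (.node (.leaf 378) (.leaf 1813)) (.node (.leaf 1030) (.leaf 3223)))) (.node (.node (.node (.leaf 230) (.leaf 1575)) (.node (.leaf 856) (.leaf 2740))) (.node (.node (.leaf 527) (.leaf 2120)) (.leaf 1200))))) (.node (.node (.node (.node (.node (.leaf 57) (.leaf 1356)) (.node (.leaf 649) (.leaf 2283))) (.node (.node (.leaf 339) (.leaf 1751)) (.node (.leaf 982) (.leaf 3101)))) (.node (.node (.node (.leaf 194) (.leaf 1538)) (.node (.leaf 812) (.leaf 2626))) (.node (.node (.leaf 487) (.leaf 2043)) (.leaf 1152)))) (.node (.node (.node (.node (.leaf 124) (.leaf 1444)) (.node (.leaf 738) (.leaf 2435))) (.node (.node (.leaf 413) (.leaf 1882)) (.node (.leaf 1070) (.leaf 3393)))) (.node (.node (.node (.leaf 266) (.leaf 1619)) (.node (.leaf 894) (.leaf 2852))) (.node (.node (.leaf 565) (.leaf 2182)) (.leaf 1263))))))))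

def threePar1 : Janko.Tree (ℕ) :=
  (.node (.node (.node (.node (.node (.node (.node (.node (.leaf 0) (.leaf 1279)) (.node (.leaf 576) (.leaf 2195))) (.node (.node (.leaf 276) (.leaf 1633)) (.node (.leaf 906) (.leaf 2901)))) (.node (.node (.node (.leaf 134) (.leaf 1458)) (.node (.leaf 750) (.leaf 2454))) (.node (.node (.leaf 424) (.leaf 1896)) (.node (.leaf 1081) (.leaf 3523))))) (.node (.node (.node (.node (.leaf 66) (.leaf 1366)) (.node (.leaf 661) (.leaf 2299))) (.node (.node (.leaf 352) (.leaf 1773)) (.node (.leaf 995) (.leaf 3124)))) (.node (.node (.node (.leaf 203) (.leaf 1549)) (.node (.leaf 824) (.leaf 2651))) (.node (.node (.leaf 497) (.leaf 2066)) (.leaf 1165))))) (.node (.node (.node (.node (.node (.leaf 33) (.leaf 1326)) (.node (.leaf 618) (.leaf 2252))) (.node (.node (.leaf 309) (.leaf 1695)) (.node (.leaf 951) (.leaf 3026)))) (.node (.node (.node (.leaf 169) (.leaf 1502)) (.node (.leaf 787) (.leaf 2540))) (.node (.node (.leaf 463) (.leaf 1983)) (.leaf 1119)))) (.node (.node (.node (.node (.leaf 99) (.leaf 1410)) (.node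 (.leaf 706) (.leaf 2371))) (.node (.node (.leaf 390) (.leaf 1831)) (.node (.leaf 1042) (.leaf 3270)))) (.node (.node (.node (.leaf 239) (.leaf 1586)) (.node (.leaf 866) (.leaf 2766))) (.node (.node (.leaf 538) (.leaf 2137)) (.leaf 1221)))))) (.node (.node (.node (.node (.node (.node (.leaf 17) (.leaf 1306)) (.node (.leaf 595) (.leaf 2226))) (.node (.node (.leaf 293) (.leaf 1659)) (.node (.leaf 928) (.leaf 2985)))) (.node (.node (.node (.leaf 151) (.leaf 1479)) (.node (.leaf 768) (.leaf 2491))) (.node (.node (.leaf 445) (.leaf 1939)) (.node (.leaf 1098) (.leaf 3689))))) (.node (.node (.node (.node (.leaf 83) (.leaf 1386)) (.node (.leaf 685) (.leaf 2332))) (.node (.node (.leaf 370) (.leaf 1797)) (.node (.leaf 1016) (.leaf 3188)))) (.node (.node (.node (.leaf 221) (.leaf 1567)) (.node (.leaf 849) (.leaf 2713))) (.node (.node (.leaf 517) (.leaf 2109)) (.leaf 1188))))) (.node (.node (.node (.node (.node (.leaf 50) (.leaf 1349)) (.node (.leaf 641) (.leaf 2273))) (.node (.node (.leaf 329) (.leaf 1732)) (.node (.leaf 972) (.leaf 3066)))) (.node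 (.node (.node (.leaf 187) (.leaf 1528)) (.node (.leaf 805) (.leaf 2603))) (.node (.node (.leaf 480) (.leaf 2019)) (.leaf 1141)))) (.node (.node (.node (.node (.leaf 117) (.leaf 1433)) (.node (.leaf 728) (.leaf 2413))) (.node (.node (.leaf 406) (.leaf 1864)) (.node (.leaf 1062) (.leaf 3374)))) (.node (.node (.node (.leaf 257) (.leaf 1611)) (.node (.leaf 886) (.leaf 2824))) (.node (.node (.leaf 557) (.leaf 2168)) (.leaf 1255))))))) (.node (.node (.node (.node (.node (.node (.node (.leaf 8) (.leaf 1293)) (.node (.leaf 586) (.leaf 2210))) (.node (.node (.leaf 285) (.leaf 1646)) (.node (.leaf 917) (.leaf 2955)))) (.node (.node (.node (.leaf 143) (.leaf 1468)) (.node (.leaf 760) (.leaf 2478))) (.node (.node (.leaf 435) (.leaf 1915)) (.node (.leaf 1089) (.leaf 3623))))) (.node (.node (.node (.node (.leaf 75) (.leaf 1376)) (.node (.leaf 673) (.leaf 2314))) (.node (.node (.leaf 360) (.leaf 1785)) (.node (.leaf 1005) (.leaf 3160)))) (.node (.node (.node (.leaf 211) (.leaf 1559)) (.node (.leaf 835) (.leaf 2683))) (.node (.node (.leaf 507) (.leaf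 2087)) (.leaf 1178))))) (.node (.node (.node (.node (.node (.leaf 41) (.leaf 1336)) (.node (.leaf 629) (.leaf 2263))) (.node (.node (.leaf 320) (.leaf 1714)) (.node (.leaf 962) (.leaf 3046)))) (.node (.node (.node (.leaf 178) (.leaf 1517)) (.node (.leaf 796) (.leaf 2570))) (.node (.node (.leaf 472) (.leaf 1999)) (.leaf 1132)))) (.node (.node (.node (.node (.leaf 109) (.leaf 1422)) (.node (.leaf 717) (.leaf 2390))) (.node (.node (.leaf 398) (.leaf 1845)) (.node (.leaf 1053) (.leaf 3321)))) (.node (.node (.node (.leaf 248) (.leaf 1601)) (.node (.leaf 876) (.leaf 2796))) (.node (.node (.leaf 548) (.leaf 2154)) (.leaf 1238)))))) (.node (.node (.node (.node (.node (.node (.leaf 25) (.leaf 1318)) (.node (.leaf 606) (.leaf 2240))) (.node (.node (.leaf 301) (.leaf 1675)) (.node (.leaf 939) (.leaf 3010)))) (.node (.node (.node (.leaf 161) (.leaf 1491)) (.node (.leaf 777) (.leaf 2514))) (.node (.node (.leaf 454) (.leaf 1965)) (.leaf 1108)))) (.node (.node (.node (.node (.leaf 91) (.leaf 1399)) (.node (.leaf 695) (.leaf 2344))) (.node (.node (.leaf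 379) (.leaf 1815)) (.node (.leaf 1031) (.leaf 3242)))) (.node (.node (.node (.leaf 231) (.leaf 1576)) (.node (.leaf 857) (.leaf 2746))) (.node (.node (.leaf 528) (.leaf 2121)) (.leaf 1203))))) (.node (.node (.node (.node (.node (.leaf 58) (.leaf 1357)) (.node (.leaf 652) (.leaf 2286))) (.node (.node (.leaf 341) (.leaf 1754)) (.node (.leaf 983) (.leaf 3104)))) (.node (.node (.node (.leaf 195) (.leaf 1540)) (.node (.leaf 813) (.leaf 2627))) (.node (.node (.leaf 488) (.leaf 2046)) (.leaf 1154)))) (.node (.node (.node (.node (.leaf 125) (.leaf 1445)) (.node (.leaf 739) (.leaf 2436))) (.node (.node (.leaf 414) (.leaf 1884)) (.node (.leaf 1071) (.leaf 3394)))) (.node (.node (.node (.leaf 267) (.leaf 1620)) (.node (.leaf 895) (.leaf 2863))) (.node (.node (.leaf 566) (.leaf 2183)) (.leaf 1264))))))))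

def threePar2 : Janko.Tree (ℕ) :=
  (.node (.node (.node (.node (.node (.node (.node (.node (.leaf 1) (.leaf 1281)) (.node (.leaf 577) (.leaf 2196))) (.node (.node (.leaf 277) (.leaf 1635)) (.node (.leaf 907) (.leaf 2915)))) (.node (.node (.node (.leaf 135) (.leaf 1459)) (.node (.leaf 752) (.leaf 2459))) (.node (.node (.leaf 425) (.leaf 1897)) (.node (.leaf 1082) (.leaf 3532))))) (.node (.node (.node (.node (.leaf 67) (.leaf 1367)) (.node (.leaf 662) (.leaf 2300))) (.node (.node (.leaf 353) (.leaf 1775)) (.node (.leaf 997) (.leaf 3130)))) (.node (.node (.node (.leaf 204) (.leaf 1550)) (.node (.leaf 825) (.leaf 2657))) (.node (.node (.leaf 499) (.leaf 2067)) (.leaf 1168))))) (.node (.node (.node (.node (.node (.leaf 34) (.leaf 1327)) (.node (.leaf 620) (.leaf 2253))) (.node (.node (.leaf 310) (.leaf 1698)) (.node (.leaf 952) (.leaf 3027)))) (.node (.node (.node (.leaf 170) (.leaf 1503)) (.node (.leaf 789) (.leaf 2541))) (.node (.node (.leaf 464) (.leaf 1984)) (.leaf 1122)))) (.node (.node (.node (.node (.leaf 100) (.leaf 1411)) (.node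 (.leaf 707) (.leaf 2374))) (.node (.node (.leaf 391) (.leaf 1832)) (.node (.leaf 1043) (.leaf 3277)))) (.node (.node (.node (.leaf 240) (.leaf 1587)) (.node (.leaf 867) (.leaf 2770))) (.node (.node (.leaf 539) (.leaf 2142)) (.leaf 1222)))))) (.node (.node (.node (.node (.node (.node (.leaf 18) (.leaf 1307)) (.node (.leaf 597) (.leaf 2230))) (.node (.node (.leaf 294) (.leaf 1660)) (.node (.leaf 929) (.leaf 2993)))) (.node (.node (.node (.leaf 152) (.leaf 1481)) (.node (.leaf 769) (.leaf 2494))) (.node (.node (.leaf 447) (.leaf 1941)) (.node (.leaf 1099) (.leaf 3693))))) (.node (.node (.node (.node (.leaf 84) (.leaf 1387)) (.node (.leaf 686) (.leaf 2334))) (.node (.node (.leaf 371) (.leaf 1798)) (.node (.leaf 1017) (.leaf 3197)))) (.node (.node (.node (.leaf 222) (.leaf 1568)) (.node (.leaf 850) (.leaf 2718))) (.node (.node (.leaf 519) (.leaf 2111)) (.leaf 1189))))) (.node (.node (.node (.node (.node (.leaf 51) (.leaf 1350)) (.node (.leaf 642) (.leaf 2274))) (.node (.node (.leaf 331) (.leaf 1738)) (.node (.leaf 973) (.leaf 3069)))) (.node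 (.node (.node (.leaf 188) (.leaf 1529)) (.node (.leaf 806) (.leaf 2607))) (.node (.node (.leaf 481) (.leaf 2021)) (.leaf 1142)))) (.node (.node (.node (.node (.leaf 118) (.leaf 1438)) (.node (.leaf 730) (.leaf 2414))) (.node (.node (.leaf 407) (.leaf 1866)) (.node (.leaf 1063) (.leaf 3377)))) (.node (.node (.node (.leaf 259) (.leaf 1612)) (.node (.leaf 887) (.leaf 2830))) (.node (.node (.leaf 558) (.leaf 2170)) (.leaf 1256))))))) (.node (.node (.node (.node (.node (.node (.node (.leaf 9) (.leaf 1294)) (.node (.leaf 587) (.leaf 2217))) (.node (.node (.leaf 286) (.leaf 1647)) (.node (.leaf 918) (.leaf 2960)))) (.node (.node (.node (.leaf 144) (.leaf 1469)) (.node (.leaf 761) (.leaf 2479))) (.node (.node (.leaf 436) (.leaf 1917)) (.node (.leaf 1090) (.leaf 3631))))) (.node (.node (.node (.node (.leaf 76) (.leaf 1377)) (.node (.leaf 674) (.leaf 2316))) (.node (.node (.leaf 361) (.leaf 1786)) (.node (.leaf 1006) (.leaf 3162)))) (.node (.node (.node (.leaf 213) (.leaf 1560)) (.node (.leaf 837) (.leaf 2685))) (.node (.node (.leaf 508) (.leaf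 2091)) (.leaf 1180))))) (.node (.node (.node (.node (.node (.leaf 42) (.leaf 1337)) (.node (.leaf 631) (.leaf 2264))) (.node (.node (.leaf 321) (.leaf 1715)) (.node (.leaf 964) (.leaf 3048)))) (.node (.node (.node (.leaf 179) (.leaf 1518)) (.node (.leaf 797) (.leaf 2571))) (.node (.node (.leaf 473) (.leaf 2000)) (.leaf 1133)))) (.node (.node (.node (.node (.leaf 110) (.leaf 1424)) (.node (.leaf 721) (.leaf 2397))) (.node (.node (.leaf 399) (.leaf 1848)) (.node (.leaf 1054) (.leaf 3327)))) (.node (.node (.node (.leaf 249) (.leaf 1602)) (.node (.leaf 877) (.leaf 2805))) (.node (.node (.leaf 549) (.leaf 2155)) (.leaf 1240)))))) (.node (.node (.node (.node (.node (.node (.leaf 26) (.leaf 1319)) (.node (.leaf 609) (.leaf 2241))) (.node (.node (.leaf 302) (.leaf 1676)) (.node (.leaf 944) (.leaf 3011)))) (.node (.node (.node (.leaf 162) (.leaf 1492)) (.node (.leaf 778) (.leaf 2520))) (.node (.node (.leaf 455) (.leaf 1966)) (.leaf 1109)))) (.node (.node (.node (.node (.leaf 92) (.leaf 1400)) (.node (.leaf 696) (.leaf 2347))) (.node (.node (.leaf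 380) (.leaf 1816)) (.node (.leaf 1032) (.leaf 3258)))) (.node (.node (.node (.leaf 232) (.leaf 1577)) (.node (.leaf 858) (.leaf 2750))) (.node (.node (.leaf 531) (.leaf 2122)) (.leaf 1204))))) (.node (.node (.node (.node (.node (.leaf 59) (.leaf 1358)) (.node (.leaf 653) (.leaf 2289))) (.node (.node (.leaf 342) (.leaf 1758)) (.node (.leaf 984) (.leaf 3108)))) (.node (.node (.node (.leaf 196) (.leaf 1541)) (.node (.leaf 815) (.leaf 2628))) (.node (.node (.leaf 489) (.leaf 2053)) (.leaf 1155)))) (.node (.node (.node (.node (.leaf 127) (.leaf 1446)) (.node (.leaf 740) (.leaf 2443))) (.node (.node (.leaf 415) (.leaf 1885)) (.node (.leaf 1072) (.leaf 3411)))) (.node (.node (.node (.leaf 268) (.leaf 1621)) (.node (.leaf 898) (.leaf 2864))) (.node (.node (.leaf 567) (.leaf 2185)) (.leaf 1266))))))))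

def threePar3 : Janko.Tree (ℕ) :=
  (.node (.node (.node (.node (.node (.node (.node (.node (.leaf 2) (.leaf 1284)) (.node (.leaf 578) (.leaf 2199))) (.node (.node (.leaf 278) (.leaf 1636)) (.node (.leaf 909) (.leaf 2919)))) (.node (.node (.node (.leaf 136) (.leaf 1460)) (.node (.leaf 753) (.leaf 2460))) (.node (.node (.leaf 427) (.leaf 1899)) (.node (.leaf 1083) (.leaf 3534))))) (.node (.node (.node (.node (.leaf 68) (.leaf 1368)) (.node (.leaf 664) (.leaf 2303))) (.node (.node (.leaf 354) (.leaf 1776)) (.node (.leaf 998) (.leaf 3136)))) (.node (.node (.node (.leaf 205) (.leaf 1551)) (.node (.leaf 827) (.leaf 2660))) (.node (.node (.leaf 500) (.leaf 2068)) (.leaf 1169))))) (.node (.node (.node (.node (.node (.leaf 35) (.leaf 1328)) (.node (.leaf 621) (.leaf 2254))) (.node (.node (.leaf 311) (.leaf 1700)) (.node (.leaf 953) (.leaf 3028)))) (.node (.node (.node (.leaf 171) (.leaf 1504)) (.node (.leaf 790) (.leaf 2547))) (.node (.node (.leaf 465) (.leaf 1985)) (.leaf 1123)))) (.node (.node (.node (.node (.leaf 101) (.leaf 1412)) (.node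 (.leaf 708) (.leaf 2376))) (.node (.node (.leaf 392) (.leaf 1833)) (.node (.leaf 1044) (.leaf 3278)))) (.node (.node (.node (.leaf 241) (.leaf 1588)) (.node (.leaf 868) (.leaf 2773))) (.node (.node (.leaf 540) (.leaf 2143)) (.leaf 1224)))))) (.node (.node (.node (.node (.node (.node (.leaf 19) (.leaf 1309)) (.node (.leaf 598) (.leaf 2231))) (.node (.node (.leaf 295) (.leaf 1661)) (.node (.leaf 931) (.leaf 2994)))) (.node (.node (.node (.leaf 153) (.leaf 1482)) (.node (.leaf 770) (.leaf 2497))) (.node (.node (.leaf 448) (.leaf 1943)) (.node (.leaf 1100) (.leaf 3694))))) (.node (.node (.node (.node (.leaf 85) (.leaf 1388)) (.node (.leaf 687) (.leaf 2335))) (.node (.node (.leaf 372) (.leaf 1803)) (.node (.leaf 1018) (.leaf 3206)))) (.node (.node (.node (.leaf 223) (.leaf 1570)) (.node (.leaf 851) (.leaf 2721))) (.node (.node (.leaf 521) (.leaf 2112)) (.leaf 1191))))) (.node (.node (.node (.node (.node (.leaf 52) (.leaf 1351)) (.node (.leaf 643) (.leaf 2275))) (.node (.node (.leaf 332) (.leaf 1740)) (.node (.leaf 974) (.leaf 3070)))) (.node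 (.node (.node (.leaf 189) (.leaf 1530)) (.node (.leaf 807) (.leaf 2614))) (.node (.node (.leaf 482) (.leaf 2022)) (.leaf 1143)))) (.node (.node (.node (.node (.leaf 119) (.leaf 1439)) (.node (.leaf 731) (.leaf 2418))) (.node (.node (.leaf 408) (.leaf 1870)) (.node (.leaf 1065) (.leaf 3381)))) (.node (.node (.node (.leaf 261) (.leaf 1614)) (.node (.leaf 888) (.leaf 2832))) (.node (.node (.leaf 559) (.leaf 2172)) (.leaf 1257))))))) (.node (.node (.node (.node (.node (.node (.node (.leaf 10) (.leaf 1297)) (.node (.leaf 588) (.leaf 2218))) (.node (.node (.leaf 287) (.leaf 1649)) (.node (.leaf 919) (.leaf 2963)))) (.node (.node (.node (.leaf 145) (.leaf 1470)) (.node (.leaf 762) (.leaf 2482))) (.node (.node (.leaf 437) (.leaf 1919)) (.node (.leaf 1092) (.leaf 3637))))) (.node (.node (.node (.node (.leaf 77) (.leaf 1378)) (.node (.leaf 675) (.leaf 2317))) (.node (.node (.leaf 362) (.leaf 1788)) (.node (.leaf 1007) (.leaf 3165)))) (.node (.node (.node (.leaf 215) (.leaf 1561)) (.node (.leaf 839) (.leaf 2698))) (.node (.node (.leaf 509) (.leaf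 2095)) (.leaf 1181))))) (.node (.node (.node (.node (.node (.leaf 43) (.leaf 1339)) (.node (.leaf 632) (.leaf 2265))) (.node (.node (.leaf 322) (.leaf 1721)) (.node (.leaf 965) (.leaf 3049)))) (.node (.node (.node (.leaf 180) (.leaf 1519)) (.node (.leaf 798) (.leaf 2574))) (.node (.node (.leaf 474) (.leaf 2005)) (.leaf 1134)))) (.node (.node (.node (.node (.leaf 111) (.leaf 1425)) (.node (.leaf 722) (.leaf 2399))) (.node (.node (.leaf 400) (.leaf 1849)) (.node (.leaf 1056) (.leaf 3339)))) (.node (.node (.node (.leaf 250) (.leaf 1603)) (.node (.leaf 878) (.leaf 2809))) (.node (.node (.leaf 550) (.leaf 2159)) (.leaf 1241)))))) (.node (.node (.node (.node (.node (.node (.leaf 27) (.leaf 1320)) (.node (.leaf 610) (.leaf 2243))) (.node (.node (.leaf 303) (.leaf 1679)) (.node (.leaf 945) (.leaf 3012)))) (.node (.node (.node (.leaf 163) (.leaf 1493)) (.node (.leaf 780) (.leaf 2522))) (.node (.node (.leaf 456) (.leaf 1970)) (.leaf 1110)))) (.node (.node (.node (.node (.leaf 93) (.leaf 1401)) (.node (.leaf 697) (.leaf 2351))) (.node (.node (.leaf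 382) (.leaf 1821)) (.node (.leaf 1033) (.leaf 3259)))) (.node (.node (.node (.leaf 233) (.leaf 1578)) (.node (.leaf 859) (.leaf 2752))) (.node (.node (.leaf 532) (.leaf 2123)) (.leaf 1209))))) (.node (.node (.node (.node (.node (.leaf 60) (.leaf 1359)) (.node (.leaf 654) (.leaf 2291))) (.node (.node (.leaf 343) (.leaf 1760)) (.node (.leaf 985) (.leaf 3110)))) (.node (.node (.node (.leaf 197) (.leaf 1542)) (.node (.leaf 817) (.leaf 2629))) (.node (.node (.leaf 490) (.leaf 2054)) (.leaf 1156)))) (.node (.node (.node (.node (.leaf 128) (.leaf 1447)) (.node (.leaf 741) (.leaf 2444))) (.node (.node (.leaf 417) (.leaf 1886)) (.node (.leaf 1073) (.leaf 3420)))) (.node (.node (.node (.leaf 269) (.leaf 1625)) (.node (.leaf 899) (.leaf 2870))) (.node (.node (.leaf 570) (.leaf 2186)) (.leaf 1269))))))))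

def threePar4 : Janko.Tree (ℕ) :=
  (.node (.node (.node (.node (.node (.node (.node (.node (.leaf 3) (.leaf 1285)) (.node (.leaf 580) (.leaf 2200))) (.node (.node (.leaf 279) (.leaf 1637)) (.node (.leaf 911) (.leaf 2920)))) (.node (.node (.node (.leaf 137) (.leaf 1461)) (.node (.leaf 755) (.leaf 2465))) (.node (.node (.leaf 428) (.leaf 1900)) (.node (.leaf 1084) (.leaf 3538))))) (.node (.node (.node (.node (.leaf 69) (.leaf 1370)) (.node (.leaf 665) (.leaf 2304))) (.node (.node (.leaf 355) (.leaf 1777)) (.node (.leaf 999) (.leaf 3141)))) (.node (.node (.node (.leaf 206) (.leaf 1552)) (.node (.leaf 829) (.leaf 2664))) (.node (.node (.leaf 501) (.leaf 2071)) (.leaf 1170))))) (.node (.node (.node (.node (.node (.leaf 36) (.leaf 1329)) (.node (.leaf 623) (.leaf 2255))) (.node (.node (.leaf 313) (.leaf 1705)) (.node (.leaf 954) (.leaf 3031)))) (.node (.node (.node (.leaf 172) (.leaf 1505)) (.node (.leaf 791) (.leaf 2554))) (.node (.node (.leaf 466) (.leaf 1988)) (.leaf 1125)))) (.node (.node (.node (.node (.leaf 103) (.leaf 1413)) (.node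 (.leaf 709) (.leaf 2381))) (.node (.node (.leaf 393) (.leaf 1835)) (.node (.leaf 1045) (.leaf 3284)))) (.node (.node (.node (.leaf 242) (.leaf 1589)) (.node (.leaf 870) (.leaf 2780))) (.node (.node (.leaf 541) (.leaf 2144)) (.leaf 1229)))))) (.node (.node (.node (.node (.node (.node (.leaf 20) (.leaf 1310)) (.node (.leaf 599) (.leaf 2232))) (.node (.node (.leaf 296) (.leaf 1665)) (.node (.leaf 932) (.leaf 2999)))) (.node (.node (.node (.leaf 154) (.leaf 1485)) (.node (.leaf 771) (.leaf 2498))) (.node (.node (.leaf 449) (.leaf 1946)) (.node (.leaf 1102) (.leaf 3708))))) (.node (.node (.node (.node (.leaf 86) (.leaf 1389)) (.node (.leaf 689) (.leaf 2336))) (.node (.node (.leaf 373) (.leaf 1804)) (.node (.leaf 1021) (.leaf 3207)))) (.node (.node (.node (.leaf 225) (.leaf 1571)) (.node (.leaf 852) (.leaf 2728))) (.node (.node (.leaf 522) (.leaf 2113)) (.leaf 1192))))) (.node (.node (.node (.node (.node (.leaf 53) (.leaf 1352)) (.node (.leaf 644) (.leaf 2276))) (.node (.node (.leaf 333) (.leaf 1741)) (.node (.leaf 976) (.leaf 3083)))) (.node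 (.node (.node (.leaf 190) (.leaf 1531)) (.node (.leaf 808) (.leaf 2615))) (.node (.node (.leaf 483) (.leaf 2025)) (.leaf 1144)))) (.node (.node (.node (.node (.leaf 120) (.leaf 1440)) (.node (.leaf 733) (.leaf 2419))) (.node (.node (.leaf 409) (.leaf 1872)) (.node (.leaf 1066) (.leaf 3384)))) (.node (.node (.node (.leaf 262) (.leaf 1615)) (.node (.leaf 889) (.leaf 2833))) (.node (.node (.leaf 560) (.leaf 2173)) (.leaf 1258))))))) (.node (.node (.node (.node (.node (.node (.node (.leaf 11) (.leaf 1298)) (.node (.leaf 589) (.leaf 2219))) (.node (.node (.leaf 288) (.leaf 1653)) (.node (.leaf 921) (.leaf 2967)))) (.node (.node (.node (.leaf 146) (.leaf 1471)) (.node (.leaf 763) (.leaf 2484))) (.node (.node (.leaf 438) (.leaf 1920)) (.node (.leaf 1093) (.leaf 3639))))) (.node (.node (.node (.node (.leaf 78) (.leaf 1379)) (.node (.leaf 676) (.leaf 2319))) (.node (.node (.leaf 363) (.leaf 1791)) (.node (.leaf 1008) (.leaf 3167)))) (.node (.node (.node (.leaf 216) (.leaf 1562)) (.node (.leaf 840) (.leaf 2699))) (.node (.node (.leaf 511) (.leaf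 2097)) (.leaf 1182))))) (.node (.node (.node (.node (.node (.leaf 45) (.leaf 1340)) (.node (.leaf 636) (.leaf 2266))) (.node (.node (.leaf 323) (.leaf 1723)) (.node (.leaf 966) (.leaf 3051)))) (.node (.node (.node (.leaf 181) (.leaf 1520)) (.node (.leaf 799) (.leaf 2578))) (.node (.node (.leaf 475) (.leaf 2006)) (.leaf 1135)))) (.node (.node (.node (.node (.leaf 112) (.leaf 1427)) (.node (.leaf 723) (.leaf 2401))) (.node (.node (.leaf 401) (.leaf 1850)) (.node (.leaf 1057) (.leaf 3352)))) (.node (.node (.node (.leaf 251) (.leaf 1605)) (.node (.leaf 879) (.leaf 2810))) (.node (.node (.leaf 551) (.leaf 2160)) (.leaf 1243)))))) (.node (.node (.node (.node (.node (.node (.leaf 28) (.leaf 1321)) (.node (.leaf 611) (.leaf 2245))) (.node (.node (.leaf 304) (.leaf 1680)) (.node (.leaf 946) (.leaf 3013)))) (.node (.node (.node (.leaf 164) (.leaf 1494)) (.node (.leaf 781) (.leaf 2525))) (.node (.node (.leaf 457) (.leaf 1971)) (.leaf 1111)))) (.node (.node (.node (.node (.leaf 94) (.leaf 1402)) (.node (.leaf 698) (.leaf 2352))) (.node (.node (.leaf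 383) (.leaf 1822)) (.node (.leaf 1034) (.leaf 3263)))) (.node (.node (.node (.leaf 234) (.leaf 1580)) (.node (.leaf 860) (.leaf 2753))) (.node (.node (.leaf 533) (.leaf 2129)) (.leaf 1211))))) (.node (.node (.node (.node (.node (.leaf 61) (.leaf 1360)) (.node (.leaf 656) (.leaf 2293))) (.node (.node (.leaf 344) (.leaf 1764)) (.node (.leaf 989) (.leaf 3111)))) (.node (.node (.node (.leaf 198) (.leaf 1543)) (.node (.leaf 818) (.leaf 2630))) (.node (.node (.leaf 491) (.leaf 2056)) (.leaf 1157)))) (.node (.node (.node (.node (.leaf 129) (.leaf 1448)) (.node (.leaf 744) (.leaf 2447))) (.node (.node (.leaf 419) (.leaf 1887)) (.node (.leaf 1075) (.leaf 3430)))) (.node (.node (.node (.leaf 270) (.leaf 1627)) (.node (.leaf 900) (.leaf 2879))) (.node (.node (.leaf 571) (.leaf 2188)) (.leaf 1272))))))))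

def threePar5 : Janko.Tree (ℕ) :=
  (.node (.node (.node (.node (.node (.node (.node (.node (.leaf 4) (.leaf 1287)) (.node (.leaf 581) (.leaf 2202))) (.node (.node (.leaf 280) (.leaf 1638)) (.node (.leaf 912) (.leaf 2938)))) (.node (.node (.node (.leaf 138) (.leaf 1462)) (.node (.leaf 756) (.leaf 2467))) (.node (.node (.leaf 430) (.leaf 1904)) (.node (.leaf 1085) (.leaf 3554))))) (.node (.node (.node (.node (.leaf 70) (.leaf 1371)) (.node (.leaf 666) (.leaf 2305))) (.node (.node (.leaf 356) (.leaf 1778)) (.node (.leaf 1000) (.leaf 3147)))) (.node (.node (.node (.leaf 207) (.leaf 1553)) (.node (.leaf 830) (.leaf 2670))) (.node (.node (.leaf 502) (.leaf 2075)) (.leaf 1171))))) (.node (.node (.node (.node (.node (.leaf 37) (.leaf 1330)) (.node (.leaf 624) (.leaf 2256))) (.node (.node (.leaf 315) (.leaf 1706)) (.node (.leaf 956) (.leaf 3033)))) (.node (.node (.node (.leaf 174) (.leaf 1506)) (.node (.leaf 792) (.leaf 2556))) (.node (.node (.leaf 467) (.leaf 1989)) (.leaf 1126)))) (.node (.node (.node (.node (.leaf 105) (.leaf 1417)) (.node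 (.leaf 710) (.leaf 2382))) (.node (.node (.leaf 394) (.leaf 1838)) (.node (.leaf 1048) (.leaf 3291)))) (.node (.node (.node (.leaf 244) (.leaf 1590)) (.node (.leaf 871) (.leaf 2783))) (.node (.node (.leaf 542) (.leaf 2145)) (.leaf 1230)))))) (.node (.node (.node (.node (.node (.node (.leaf 21) (.leaf 1313)) (.node (.leaf 600) (.leaf 2234))) (.node (.node (.leaf 297) (.leaf 1667)) (.node (.leaf 933) (.leaf 3001)))) (.node (.node (.node (.leaf 155) (.leaf 1486)) (.node (.leaf 772) (.leaf 2500))) (.node (.node (.leaf 450) (.leaf 1947)) (.node (.leaf 1104) (.leaf 3735))))) (.node (.node (.node (.node (.leaf 87) (.leaf 1392)) (.node (.leaf 690) (.leaf 2337))) (.node (.node (.leaf 374) (.leaf 1808)) (.node (.leaf 1022) (.leaf 3213)))) (.node (.node (.node (.leaf 226) (.leaf 1572)) (.node (.leaf 853) (.leaf 2729))) (.node (.node (.leaf 523) (.leaf 2114)) (.leaf 1195))))) (.node (.node (.node (.node (.node (.leaf 54) (.leaf 1353)) (.node (.leaf 645) (.leaf 2277))) (.node (.node (.leaf 335) (.leaf 1742)) (.node (.leaf 978) (.leaf 3090)))) (.node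 (.node (.node (.leaf 191) (.leaf 1534)) (.node (.leaf 809) (.leaf 2616))) (.node (.node (.leaf 484) (.leaf 2035)) (.leaf 1145)))) (.node (.node (.node (.node (.leaf 121) (.leaf 1441)) (.node (.leaf 734) (.leaf 2422))) (.node (.node (.leaf 410) (.leaf 1873)) (.node (.leaf 1067) (.leaf 3387)))) (.node (.node (.node (.leaf 263) (.leaf 1616)) (.node (.leaf 890) (.leaf 2838))) (.node (.node (.leaf 562) (.leaf 2174)) (.leaf 1259))))))) (.node (.node (.node (.node (.node (.node (.node (.leaf 12) (.leaf 1300)) (.node (.leaf 590) (.leaf 2220))) (.node (.node (.leaf 289) (.leaf 1654)) (.node (.leaf 922) (.leaf 2969)))) (.node (.node (.node (.leaf 147) (.leaf 1472)) (.node (.leaf 764) (.leaf 2486))) (.node (.node (.leaf 439) (.leaf 1921)) (.node (.leaf 1094) (.leaf 3643))))) (.node (.node (.node (.node (.leaf 79) (.leaf 1382)) (.node (.leaf 677) (.leaf 2322))) (.node (.node (.leaf 365) (.leaf 1792)) (.node (.leaf 1011) (.leaf 3169)))) (.node (.node (.node (.leaf 217) (.leaf 1563)) (.node (.leaf 842) (.leaf 2700))) (.node (.node (.leaf 512) (.leaf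 2101)) (.leaf 1183))))) (.node (.node (.node (.node (.node (.leaf 46) (.leaf 1342)) (.node (.leaf 637) (.leaf 2267))) (.node (.node (.leaf 325) (.leaf 1726)) (.node (.leaf 967) (.leaf 3054)))) (.node (.node (.node (.leaf 182) (.leaf 1521)) (.node (.leaf 800) (.leaf 2587))) (.node (.node (.leaf 476) (.leaf 2007)) (.leaf 1136)))) (.node (.node (.node (.node (.leaf 113) (.leaf 1428)) (.node (.leaf 724) (.leaf 2402))) (.node (.node (.leaf 402) (.leaf 1851)) (.node (.leaf 1058) (.leaf 3354)))) (.node (.node (.node (.leaf 252) (.leaf 1607)) (.node (.leaf 880) (.leaf 2811))) (.node (.node (.leaf 552) (.leaf 2162)) (.leaf 1244)))))) (.node (.node (.node (.node (.node (.node (.leaf 29) (.leaf 1322)) (.node (.leaf 613) (.leaf 2246))) (.node (.node (.leaf 305) (.leaf 1685)) (.node (.leaf 947) (.leaf 3016)))) (.node (.node (.node (.leaf 165) (.leaf 1495)) (.node (.leaf 783) (.leaf 2535))) (.node (.node (.leaf 458) (.leaf 1972)) (.leaf 1112)))) (.node (.node (.node (.node (.leaf 95) (.leaf 1404)) (.node (.leaf 699) (.leaf 2355))) (.node (.node (.leaf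 384) (.leaf 1823)) (.node (.leaf 1036) (.leaf 3266)))) (.node (.node (.node (.leaf 235) (.leaf 1582)) (.node (.leaf 862) (.leaf 2754))) (.node (.node (.leaf 534) (.leaf 2131)) (.leaf 1215))))) (.node (.node (.node (.node (.node (.leaf 62) (.leaf 1362)) (.node (.leaf 657) (.leaf 2295))) (.node (.node (.leaf 346) (.leaf 1765)) (.node (.leaf 990) (.leaf 3112)))) (.node (.node (.node (.leaf 199) (.leaf 1544)) (.node (.leaf 819) (.leaf 2637))) (.node (.node (.leaf 492) (.leaf 2057)) (.leaf 1159)))) (.node (.node (.node (.node (.leaf 130) (.leaf 1450)) (.node (.leaf 745) (.leaf 2448))) (.node (.node (.leaf 420) (.leaf 1888)) (.node (.leaf 1076) (.leaf 3437)))) (.node (.node (.node (.leaf 271) (.leaf 1628)) (.node (.leaf 901) (.leaf 2880))) (.node (.node (.leaf 572) (.leaf 2189)) (.leaf 1273))))))))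

def threePar6 : Janko.Tree (ℕ) :=
  (.node (.node (.node (.node (.node (.node (.node (.node (.leaf 5) (.leaf 1288)) (.node (.leaf 582) (.leaf 2203))) (.node (.node (.leaf 281) (.leaf 1641)) (.node (.leaf 913) (.leaf 2940)))) (.node (.node (.node (.leaf 139) (.leaf 1463)) (.node (.leaf 757) (.leaf 2471))) (.node (.node (.leaf 431) (.leaf 1906)) (.node (.leaf 1086) (.leaf 3613))))) (.node (.node (.node (.node (.leaf 71) (.leaf 1372)) (.node (.leaf 668) (.leaf 2306))) (.node (.node (.leaf 357) (.leaf 1780)) (.node (.leaf 1001) (.leaf 3155)))) (.node (.node (.node (.leaf 208) (.leaf 1555)) (.node (.leaf 831) (.leaf 2673))) (.node (.node (.leaf 504) (.leaf 2078)) (.leaf 1173))))) (.node (.node (.node (.node (.node (.leaf 38) (.leaf 1331)) (.node (.leaf 625) (.leaf 2258))) (.node (.node (.leaf 316) (.leaf 1707)) (.node (.leaf 957) (.leaf 3034)))) (.node (.node (.node (.leaf 175) (.leaf 1509)) (.node (.leaf 793) (.leaf 2559))) (.node (.node (.leaf 468) (.leaf 1990)) (.leaf 1127)))) (.node (.node (.node (.node (.leaf 106) (.leaf 1418)) (.node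 (.leaf 713) (.leaf 2383))) (.node (.node (.leaf 395) (.leaf 1841)) (.node (.leaf 1049) (.leaf 3302)))) (.node (.node (.node (.leaf 245) (.leaf 1592)) (.node (.leaf 872) (.leaf 2789))) (.node (.node (.leaf 543) (.leaf 2147)) (.leaf 1231)))))) (.node (.node (.node (.node (.node (.node (.leaf 22) (.leaf 1315)) (.node (.leaf 601) (.leaf 2236))) (.node (.node (.leaf 298) (.leaf 1668)) (.node (.leaf 934) (.leaf 3002)))) (.node (.node (.node (.leaf 157) (.leaf 1487)) (.node (.leaf 773) (.leaf 2503))) (.node (.node (.leaf 451) (.leaf 1953)) (.node (.leaf 1105) (.leaf 3769))))) (.node (.node (.node (.node (.leaf 88) (.leaf 1393)) (.node (.leaf 691) (.leaf 2338))) (.node (.node (.leaf 376) (.leaf 1809)) (.node (.leaf 1024) (.leaf 3218)))) (.node (.node (.node (.leaf 227) (.leaf 1573)) (.node (.leaf 854) (.leaf 2735))) (.node (.node (.leaf 524) (.leaf 2116)) (.leaf 1196))))) (.node (.node (.node (.node (.node (.leaf 55) (.leaf 1354)) (.node (.leaf 646) (.leaf 2278))) (.node (.node (.leaf 336) (.leaf 1745)) (.node (.leaf 980) (.leaf 3091)))) (.node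 (.node (.node (.leaf 192) (.leaf 1535)) (.node (.leaf 810) (.leaf 2619))) (.node (.node (.leaf 485) (.leaf 2039)) (.leaf 1149)))) (.node (.node (.node (.node (.leaf 122) (.leaf 1442)) (.node (.leaf 736) (.leaf 2428))) (.node (.node (.leaf 411) (.leaf 1875)) (.node (.leaf 1068) (.leaf 3391)))) (.node (.node (.node (.leaf 264) (.leaf 1617)) (.node (.leaf 891) (.leaf 2841))) (.node (.node (.leaf 563) (.leaf 2176)) (.leaf 1261))))))) (.node (.node (.node (.node (.node (.node (.node (.leaf 13) (.leaf 1301)) (.node (.leaf 591) (.leaf 2222))) (.node (.node (.leaf 290) (.leaf 1656)) (.node (.leaf 923) (.leaf 2977)))) (.node (.node (.node (.leaf 148) (.leaf 1473)) (.node (.leaf 765) (.leaf 2487))) (.node (.node (.leaf 441) (.leaf 1924)) (.node (.leaf 1095) (.leaf 3664))))) (.node (.node (.node (.node (.leaf 80) (.leaf 1383)) (.node (.leaf 681) (.leaf 2324))) (.node (.node (.leaf 367) (.leaf 1793)) (.node (.leaf 1012) (.leaf 3175)))) (.node (.node (.node (.leaf 218) (.leaf 1564)) (.node (.leaf 844) (.leaf 2704))) (.node (.node (.leaf 513) (.leaf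 2102)) (.leaf 1184))))) (.node (.node (.node (.node (.node (.leaf 47) (.leaf 1344)) (.node (.leaf 638) (.leaf 2268))) (.node (.node (.leaf 326) (.leaf 1727)) (.node (.leaf 968) (.leaf 3058)))) (.node (.node (.node (.leaf 183) (.leaf 1522)) (.node (.leaf 802) (.leaf 2589))) (.node (.node (.leaf 477) (.leaf 2010)) (.leaf 1138)))) (.node (.node (.node (.node (.leaf 114) (.leaf 1429)) (.node (.leaf 725) (.leaf 2404))) (.node (.node (.leaf 403) (.leaf 1854)) (.node (.leaf 1059) (.leaf 3355)))) (.node (.node (.node (.leaf 253) (.leaf 1608)) (.node (.leaf 881) (.leaf 2812))) (.node (.node (.leaf 553) (.leaf 2165)) (.leaf 1245)))))) (.node (.node (.node (.node (.node (.node (.leaf 30) (.leaf 1323)) (.node (.leaf 614) (.leaf 2248))) (.node (.node (.leaf 306) (.leaf 1687)) (.node (.leaf 948) (.leaf 3020)))) (.node (.node (.node (.leaf 166) (.leaf 1496)) (.node (.leaf 784) (.leaf 2536))) (.node (.node (.leaf 460) (.leaf 1973)) (.leaf 1113)))) (.node (.node (.node (.node (.leaf 96) (.leaf 1405)) (.node (.leaf 700) (.leaf 2356))) (.node (.node (.leaf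 385) (.leaf 1826)) (.node (.leaf 1037) (.leaf 3267)))) (.node (.node (.node (.leaf 236) (.leaf 1583)) (.node (.leaf 863) (.leaf 2755))) (.node (.node (.leaf 535) (.leaf 2132)) (.leaf 1217))))) (.node (.node (.node (.node (.node (.leaf 63) (.leaf 1363)) (.node (.leaf 658) (.leaf 2296))) (.node (.node (.leaf 347) (.leaf 1767)) (.node (.leaf 991) (.leaf 3116)))) (.node (.node (.node (.leaf 200) (.leaf 1545)) (.node (.leaf 820) (.leaf 2638))) (.node (.node (.leaf 493) (.leaf 2058)) (.leaf 1160)))) (.node (.node (.node (.node (.leaf 131) (.leaf 1451)) (.node (.leaf 746) (.leaf 2449))) (.node (.node (.leaf 421) (.leaf 1890)) (.node (.leaf 1077) (.leaf 3474)))) (.node (.node (.node (.leaf 272) (.leaf 1630)) (.node (.leaf 902) (.leaf 2881))) (.node (.node (.leaf 573) (.leaf 2191)) (.leaf 1274))))))))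

def threePar7 : Janko.Tree (ℕ) :=
  (.node (.node (.node (.node (.node (.node (.node (.node (.leaf 6) (.leaf 1290)) (.node (.leaf 584) (.leaf 2205))) (.node (.node (.leaf 282) (.leaf 1644)) (.node (.leaf 914) (.leaf 2945)))) (.node (.node (.node (.leaf 140) (.leaf 1464)) (.node (.leaf 758) (.leaf 2472))) (.node (.node (.leaf 433) (.leaf 1909)) (.node (.leaf 1087) (.leaf 3617))))) (.node (.node (.node (.node (.leaf 73) (.leaf 1374)) (.node (.leaf 670) (.leaf 2311))) (.node (.node (.leaf 358) (.leaf 1782)) (.node (.leaf 1003) (.leaf 3156)))) (.node (.node (.node (.leaf 209) (.leaf 1557)) (.node (.leaf 833) (.leaf 2679))) (.node (.node (.leaf 505) (.leaf 2079)) (.leaf 1176))))) (.node (.node (.node (.node (.node (.leaf 39) (.leaf 1333)) (.node (.leaf 626) (.leaf 2261))) (.node (.node (.leaf 317) (.leaf 1708)) (.node (.leaf 960) (.leaf 3037)))) (.node (.node (.node (.leaf 176) (.leaf 1510)) (.node (.leaf 794) (.leaf 2565))) (.node (.node (.leaf 469) (.leaf 1997)) (.leaf 1129)))) (.node (.node (.node (.node (.leaf 107) (.leaf 1419)) (.node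 (.leaf 714) (.leaf 2384))) (.node (.node (.leaf 396) (.leaf 1842)) (.node (.leaf 1050) (.leaf 3310)))) (.node (.node (.node (.leaf 246) (.leaf 1595)) (.node (.leaf 873) (.leaf 2790))) (.node (.node (.leaf 545) (.leaf 2151)) (.leaf 1232)))))) (.node (.node (.node (.node (.node (.node (.leaf 23) (.leaf 1316)) (.node (.leaf 602) (.leaf 2238))) (.node (.node (.leaf 299) (.leaf 1671)) (.node (.leaf 935) (.leaf 3006)))) (.node (.node (.node (.leaf 159) (.leaf 1488)) (.node (.leaf 774) (.leaf 2506))) (.node (.node (.leaf 452) (.leaf 1959)) (.node (.leaf 1106) (.leaf 3793))))) (.node (.node (.node (.node (.leaf 89) (.leaf 1397)) (.node (.leaf 692) (.leaf 2339))) (.node (.node (.leaf 377) (.leaf 1811)) (.node (.leaf 1029) (.leaf 3220)))) (.node (.node (.node (.leaf 229) (.leaf 1574)) (.node (.leaf 855) (.leaf 2738))) (.node (.node (.leaf 526) (.leaf 2117)) (.leaf 1199))))) (.node (.node (.node (.node (.node (.leaf 56) (.leaf 1355)) (.node (.leaf 648) (.leaf 2280))) (.node (.node (.leaf 337) (.leaf 1750)) (.node (.leaf 981) (.leaf 3099)))) (.node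 (.node (.node (.leaf 193) (.leaf 1536)) (.node (.leaf 811) (.leaf 2625))) (.node (.node (.leaf 486) (.leaf 2040)) (.leaf 1151)))) (.node (.node (.node (.node (.leaf 123) (.leaf 1443)) (.node (.leaf 737) (.leaf 2432))) (.node (.node (.leaf 412) (.leaf 1881)) (.node (.leaf 1069) (.leaf 3392)))) (.node (.node (.node (.leaf 265) (.leaf 1618)) (.node (.leaf 892) (.leaf 2842))) (.node (.node (.leaf 564) (.leaf 2181)) (.leaf 1262))))))) (.node (.node (.node (.node (.node (.node (.node (.leaf 15) (.leaf 1304)) (.node (.leaf 592) (.leaf 2224))) (.node (.node (.leaf 291) (.leaf 1657)) (.node (.leaf 924) (.leaf 2979)))) (.node (.node (.node (.leaf 149) (.leaf 1477)) (.node (.leaf 766) (.leaf 2488))) (.node (.node (.leaf 442) (.leaf 1928)) (.node (.leaf 1096) (.leaf 3684))))) (.node (.node (.node (.node (.leaf 81) (.leaf 1384)) (.node (.leaf 682) (.leaf 2325))) (.node (.node (.leaf 368) (.leaf 1794)) (.node (.leaf 1014) (.leaf 3177)))) (.node (.node (.node (.leaf 219) (.leaf 1565)) (.node (.leaf 845) (.leaf 2709))) (.node (.node (.leaf 515) (.leaf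 2103)) (.leaf 1185))))) (.node (.node (.node (.node (.node (.leaf 48) (.leaf 1345)) (.node (.leaf 639) (.leaf 2270))) (.node (.node (.leaf 327) (.leaf 1729)) (.node (.leaf 969) (.leaf 3059)))) (.node (.node (.node (.leaf 185) (.leaf 1524)) (.node (.leaf 803) (.leaf 2591))) (.node (.node (.leaf 478) (.leaf 2011)) (.leaf 1139)))) (.node (.node (.node (.node (.leaf 115) (.leaf 1430)) (.node (.leaf 726) (.leaf 2410))) (.node (.node (.leaf 404) (.leaf 1857)) (.node (.leaf 1060) (.leaf 3357)))) (.node (.node (.node (.leaf 255) (.leaf 1609)) (.node (.leaf 884) (.leaf 2816))) (.node (.node (.leaf 554) (.leaf 2166)) (.leaf 1251)))))) (.node (.node (.node (.node (.node (.node (.leaf 31) (.leaf 1324)) (.node (.leaf 615) (.leaf 2250))) (.node (.node (.leaf 307) (.leaf 1691)) (.node (.leaf 949) (.leaf 3023)))) (.node (.node (.node (.leaf 167) (.leaf 1499)) (.node (.leaf 785) (.leaf 2537))) (.node (.node (.leaf 461) (.leaf 1975)) (.leaf 1114)))) (.node (.node (.node (.node (.leaf 97) (.leaf 1407)) (.node (.leaf 703) (.leaf 2361))) (.node (.node (.leaf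 386) (.leaf 1828)) (.node (.leaf 1038) (.leaf 3268)))) (.node (.node (.node (.leaf 237) (.leaf 1584)) (.node (.leaf 864) (.leaf 2762))) (.node (.node (.leaf 536) (.leaf 2134)) (.leaf 1218))))) (.node (.node (.node (.node (.node (.leaf 64) (.leaf 1364)) (.node (.leaf 659) (.leaf 2297))) (.node (.node (.leaf 348) (.leaf 1768)) (.node (.leaf 993) (.leaf 3117)))) (.node (.node (.node (.leaf 201) (.leaf 1546)) (.node (.leaf 822) (.leaf 2644))) (.node (.node (.leaf 494) (.leaf 2063)) (.leaf 1161)))) (.node (.node (.node (.node (.leaf 132) (.leaf 1455)) (.node (.leaf 747) (.leaf 2452))) (.node (.node (.leaf 422) (.leaf 1891)) (.node (.leaf 1079) (.leaf 3489)))) (.node (.node (.node (.leaf 274) (.leaf 1631)) (.node (.leaf 903) (.leaf 2884))) (.node (.node (.leaf 574) (.leaf 2192)) (.leaf 1275))))))))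

def threePar : Janko.Tree (ℕ) := (.node (.node (.node threePar0 threePar4) (.node threePar2 threePar6)) (.node (.node threePar1 threePar5) (.node threePar3 threePar7)))

def threeL0 : Janko.Tree (List ℤ) :=
  (.node (.node (.node (.node (.node (.node (.node (.node (.node (.leaf []) (.leaf [])) (.node (.leaf []) (.leaf [4]))) (.node (.node (.leaf []) (.leaf [])) (.node (.leaf []) (.leaf [39])))) (.node (.node (.node (.leaf []) (.leaf [])) (.node (.leaf [1756]) (.leaf [(-763)]))) (.node (.node (.leaf []) (.leaf [])) (.node (.leaf []) (.leaf [(-2)]))))) (.node (.node (.node (.node (.leaf []) (.leaf [])) (.node (.leaf []) (.leaf [118]))) (.node (.node (.leaf []) (.leaf [10])) (.node (.leaf [287]) (.leaf [101])))) (.node (.node (.node (.leaf []) (.leaf [])) (.node (.leaf [768]) (.leaf [(-36)]))) (.node (.node (.leaf [(-9)]) (.leaf [(-1090)])) (.leaf []))))) (.node (.node (.node (.node (.node (.leaf []) (.leaf [])) (.node (.leaf []) (.leaf []))) (.node (.node (.leaf []) (.leaf [])) (.node (.leaf []) (.leaf [22])))) (.node (.node (.node (.leaf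 []) (.leaf [])) (.node (.leaf []) (.leaf []))) (.node (.node (.leaf []) (.leaf [])) (.leaf [])))) (.node (.node (.node (.node (.leaf []) (.leaf [])) (.node (.leaf [(-180)]) (.leaf [(-1080)]))) (.node (.node (.leaf []) (.leaf [])) (.node (.leaf [132]) (.leaf [3628])))) (.node (.node (.node (.leaf []) (.leaf [292])) (.node (.leaf []) (.leaf [6296]))) (.node (.node (.leaf []) (.leaf [])) (.leaf [])))))) (.node (.node (.node (.node (.node (.node (.leaf []) (.leaf [79])) (.node (.leaf []) (.leaf []))) (.node (.node (.leaf []) (.leaf [])) (.node (.leaf []) (.leaf [(-327)])))) (.node (.node (.node (.leaf []) (.leaf [])) (.node (.leaf [(-345)]) (.leaf [564]))) (.node (.node (.leaf []) (.leaf [])) (.node (.leaf [4]) (.leaf [48]))))) (.node (.node (.node (.node (.leaf []) (.leaf [16])) (.node (.leaf []) (.leaf [(-24)]))) (.node (.node (.leaf []) (.leaf [(-920)])) (.node (.leaf [(-668)]) (.leaf [593])))) (.node (.node (.node (.leaf []) (.leaf [213])) (.node (.leaf []) (.leaf [4]))) (.node (.node (.leaf []) (.leaf [(-34)])) (.leaf [(-1)]))))) (.node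 (.node (.node (.node (.node (.leaf []) (.leaf [])) (.node (.leaf [204]) (.leaf [(-12)]))) (.node (.node (.leaf []) (.leaf [])) (.node (.leaf []) (.leaf [2443])))) (.node (.node (.node (.leaf []) (.leaf [12])) (.node (.leaf []) (.leaf [1083]))) (.node (.node (.leaf []) (.leaf [])) (.leaf [])))) (.node (.node (.node (.node (.leaf [23]) (.leaf [])) (.node (.leaf [(-4380)]) (.leaf [36]))) (.node (.node (.leaf []) (.leaf [23])) (.node (.leaf []) (.leaf [(-472)])))) (.node (.node (.node (.leaf []) (.leaf [8])) (.node (.leaf []) (.leaf [863]))) (.node (.node (.leaf [(-4)]) (.leaf [])) (.leaf [12]))))))) (.node (.node (.node (.node (.node (.node (.node (.leaf []) (.leaf [(-736)])) (.node (.leaf []) (.leaf []))) (.node (.node (.leaf []) (.leaf [(-968)])) (.node (.leaf []) (.leaf [(-473)])))) (.node (.node (.node (.leaf []) (.leaf [])) (.node (.leaf [596]) (.leaf [(-7820)]))) (.node (.node (.leaf []) (.leaf [])) (.node (.leaf []) (.leaf [73]))))) (.node (.node (.node (.node (.leaf []) (.leaf [])) (.node (.leaf []) (.leaf [(-348)]))) (.node (.node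 (.leaf []) (.leaf [])) (.node (.leaf []) (.leaf [1325])))) (.node (.node (.node (.leaf []) (.leaf [])) (.node (.leaf []) (.leaf [2644]))) (.node (.node (.leaf []) (.leaf [])) (.leaf [639]))))) (.node (.node (.node (.node (.node (.leaf []) (.leaf [40])) (.node (.leaf []) (.leaf []))) (.node (.node (.leaf []) (.leaf [])) (.node (.leaf []) (.leaf [])))) (.node (.node (.node (.leaf []) (.leaf [])) (.node (.leaf []) (.leaf [(-10169)]))) (.node (.node (.leaf [(-204)]) (.leaf [])) (.leaf [])))) (.node (.node (.node (.node (.leaf []) (.leaf [])) (.node (.leaf []) (.leaf []))) (.node (.node (.leaf []) (.leaf [1])) (.node (.leaf [691]) (.leaf [148])))) (.node (.node (.node (.leaf []) (.leaf [(-11)])) (.node (.leaf []) (.leaf [296]))) (.node (.node (.leaf []) (.leaf [1167])) (.leaf [])))))) (.node (.node (.node (.node (.node (.node (.leaf []) (.leaf [(-70)])) (.node (.leaf []) (.leaf [(-52)]))) (.node (.node (.leaf []) (.leaf [(-1)])) (.node (.leaf []) (.leaf [(-828)])))) (.node (.node (.node (.leaf []) (.leaf [])) (.node (.leaf []) (.leaf [(-1660)])))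 (.node (.node (.leaf [(-155)]) (.leaf [])) (.node (.leaf [(-8)]) (.leaf []))))) (.node (.node (.node (.node (.leaf []) (.leaf [])) (.node (.leaf []) (.leaf [(-5153)]))) (.node (.node (.leaf [15]) (.leaf [(-2)])) (.node (.leaf []) (.leaf [6915])))) (.node (.node (.node (.leaf [(-782)]) (.leaf [(-356)])) (.node (.leaf []) (.leaf [(-13)]))) (.node (.node (.leaf []) (.leaf [2558])) (.leaf [(-26)]))))) (.node (.node (.node (.node (.node (.leaf []) (.leaf [])) (.node (.leaf []) (.leaf [(-604)]))) (.node (.node (.leaf []) (.leaf [439])) (.node (.leaf [572]) (.leaf [1260])))) (.node (.node (.node (.leaf []) (.leaf [])) (.node (.leaf []) (.leaf [(-3)]))) (.node (.node (.leaf []) (.leaf [(-728)])) (.leaf [])))) (.node (.node (.node (.node (.leaf []) (.leaf [])) (.node (.leaf []) (.leaf [4]))) (.node (.node (.leaf []) (.leaf [2040])) (.node (.leaf []) (.leaf [(-8)])))) (.node (.node (.node (.leaf []) (.leaf [(-102)])) (.node (.leaf []) (.leaf [20]))) (.node (.node (.leaf []) (.leaf [13])) (.leaf [748])))))))) (.node (.node (.node (.node (.node (.node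 (.node (.node (.leaf []) (.leaf [])) (.node (.leaf []) (.leaf [84]))) (.node (.node (.leaf [216]) (.leaf [(-13)])) (.node (.leaf []) (.leaf [1909])))) (.node (.node (.node (.leaf []) (.leaf [(-36)])) (.node (.leaf []) (.leaf [684]))) (.node (.node (.leaf [(-13)]) (.leaf [])) (.node (.leaf []) (.leaf [(-8333)]))))) (.node (.node (.node (.node (.leaf []) (.leaf [(-292)])) (.node (.leaf []) (.leaf []))) (.node (.node (.leaf []) (.leaf [(-48)])) (.node (.leaf []) (.leaf [(-112)])))) (.node (.node (.node (.leaf []) (.leaf [2])) (.node (.leaf [(-32)]) (.leaf [(-513)]))) (.node (.node (.leaf []) (.leaf [100])) (.leaf []))))) (.node (.node (.node (.node (.node (.leaf []) (.leaf [])) (.node (.leaf []) (.leaf []))) (.node (.node (.leaf []) (.leaf [12])) (.node (.leaf []) (.leaf [(-159)])))) (.node (.node (.node (.leaf []) (.leaf [])) (.node (.leaf []) (.leaf []))) (.node (.node (.leaf []) (.leaf [])) (.leaf [])))) (.node (.node (.node (.node (.leaf []) (.leaf [])) (.node (.leaf []) (.leaf [(-132)]))) (.node (.node (.leaf [(-8)]) (.leaf [(-32)]))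 (.node (.leaf [(-77)]) (.leaf [13])))) (.node (.node (.node (.leaf []) (.leaf [84])) (.node (.leaf [8]) (.leaf []))) (.node (.node (.leaf []) (.leaf [])) (.leaf [372])))))) (.node (.node (.node (.node (.node (.node (.leaf []) (.leaf [])) (.node (.leaf [7]) (.leaf []))) (.node (.node (.leaf []) (.leaf [7])) (.node (.leaf []) (.leaf [(-2)])))) (.node (.node (.node (.leaf []) (.leaf [])) (.node (.leaf []) (.leaf [(-9)]))) (.node (.node (.leaf []) (.leaf [(-1317)])) (.node (.leaf []) (.leaf []))))) (.node (.node (.node (.node (.leaf []) (.leaf [(-7344)])) (.node (.leaf []) (.leaf []))) (.node (.node (.leaf [(-120)]) (.leaf [])) (.node (.leaf [480]) (.leaf [(-46)])))) (.node (.node (.node (.leaf []) (.leaf [])) (.node (.leaf []) (.leaf []))) (.node (.node (.leaf []) (.leaf [494])) (.leaf [(-33)]))))) (.node (.node (.node (.node (.node (.leaf []) (.leaf [])) (.node (.leaf []) (.leaf [658]))) (.node (.node (.leaf []) (.leaf [])) (.node (.leaf [(-24)]) (.leaf [329])))) (.node (.node (.node (.leaf []) (.leaf [55])) (.node (.leaf []) (.leaf [144])))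 (.node (.node (.leaf []) (.leaf [])) (.leaf [])))) (.node (.node (.node (.node (.leaf []) (.leaf [])) (.node (.leaf []) (.leaf [(-41)]))) (.node (.node (.leaf []) (.leaf [])) (.node (.leaf []) (.leaf [306])))) (.node (.node (.node (.leaf []) (.leaf [])) (.node (.leaf []) (.leaf [(-993)]))) (.node (.node (.leaf []) (.leaf [])) (.leaf []))))))) (.node (.node (.node (.node (.node (.node (.node (.leaf []) (.leaf [7296])) (.node (.leaf []) (.leaf [12]))) (.node (.node (.leaf []) (.leaf [(-1569)])) (.node (.leaf []) (.leaf [(-298)])))) (.node (.node (.node (.leaf []) (.leaf [(-13)])) (.node (.leaf []) (.leaf []))) (.node (.node (.leaf []) (.leaf [])) (.node (.leaf []) (.leaf [(-1084)]))))) (.node (.node (.node (.node (.leaf []) (.leaf [])) (.node (.leaf []) (.leaf [12]))) (.node (.node (.leaf []) (.leaf [(-12)])) (.node (.leaf [(-588)]) (.leaf [454])))) (.node (.node (.node (.leaf []) (.leaf [])) (.node (.leaf []) (.leaf [(-592)]))) (.node (.node (.leaf [(-8)]) (.leaf [17])) (.leaf []))))) (.node (.node (.node (.node (.node (.leaf []) (.leaf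 [])) (.node (.leaf []) (.leaf []))) (.node (.node (.leaf []) (.leaf [1087])) (.node (.leaf []) (.leaf [])))) (.node (.node (.node (.leaf []) (.leaf [])) (.node (.leaf []) (.leaf [1696]))) (.node (.node (.leaf []) (.leaf [20])) (.leaf [(-472)])))) (.node (.node (.node (.node (.leaf []) (.leaf [])) (.node (.leaf []) (.leaf [(-360)]))) (.node (.node (.leaf []) (.leaf [])) (.node (.leaf [15]) (.leaf [8])))) (.node (.node (.node (.leaf []) (.leaf [])) (.node (.leaf []) (.leaf []))) (.node (.node (.leaf []) (.leaf [(-143)])) (.leaf [(-421)])))))) (.node (.node (.node (.node (.node (.node (.leaf []) (.leaf [166])) (.node (.leaf []) (.leaf [(-4)]))) (.node (.node (.leaf []) (.leaf [])) (.node (.leaf []) (.leaf [996])))) (.node (.node (.node (.leaf []) (.leaf [])) (.node (.leaf []) (.leaf []))) (.node (.node (.leaf []) (.leaf [(-180)])) (.node (.leaf []) (.leaf []))))) (.node (.node (.node (.node (.leaf []) (.leaf [])) (.node (.leaf []) (.leaf [17]))) (.node (.node (.leaf []) (.leaf [(-4)])) (.node (.leaf []) (.leaf [2])))) (.node (.node (.node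 (.leaf [1]) (.leaf [])) (.node (.leaf []) (.leaf [(-12)]))) (.node (.node (.leaf []) (.leaf [2])) (.leaf [(-24)]))))) (.node (.node (.node (.node (.node (.leaf []) (.leaf [])) (.node (.leaf []) (.leaf [(-134)]))) (.node (.node (.leaf []) (.leaf [])) (.node (.leaf []) (.leaf [487])))) (.node (.node (.node (.leaf []) (.leaf [(-64)])) (.node (.leaf []) (.leaf [8]))) (.node (.node (.leaf []) (.leaf [(-353)])) (.leaf [(-384)])))) (.node (.node (.node (.node (.leaf []) (.leaf [])) (.node (.leaf []) (.leaf [(-6804)]))) (.node (.node (.leaf []) (.leaf [12])) (.node (.leaf [127]) (.leaf [946])))) (.node (.node (.node (.leaf []) (.leaf [(-36)])) (.node (.leaf []) (.leaf [(-53)]))) (.node (.node (.leaf []) (.leaf [])) (.leaf [])))))))))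

def threeL1 : Janko.Tree (List ℤ) :=
  (.node (.node (.node (.node (.node (.node (.node (.node (.node (.leaf []) (.leaf [304])) (.node (.leaf [3]) (.leaf [323]))) (.node (.node (.leaf []) (.leaf [(-33)])) (.node (.leaf [1147]) (.leaf [18])))) (.node (.node (.node (.leaf []) (.leaf [])) (.node (.leaf []) (.leaf [27]))) (.node (.node (.leaf []) (.leaf [256])) (.node (.leaf []) (.leaf [(-1492)]))))) (.node (.node (.node (.node (.leaf []) (.leaf [(-6)])) (.node (.leaf [(-866)]) (.leaf [25]))) (.node (.node (.leaf []) (.leaf [27])) (.node (.leaf []) (.leaf [(-85)])))) (.node (.node (.node (.leaf []) (.leaf [7])) (.node (.leaf []) (.leaf [(-14)]))) (.node (.node (.leaf [(-62)]) (.leaf [])) (.leaf []))))) (.node (.node (.node (.node (.node (.leaf []) (.leaf [])) (.node (.leaf []) (.leaf [(-81)]))) (.node (.node (.leaf []) (.leaf [])) (.node (.leaf []) (.leaf [948])))) (.node (.node (.node (.leaf []) (.leaf [3])) (.node (.leaf []) (.leaf []))) (.node (.node (.leaf []) (.leaf [])) (.leaf [])))) (.node (.node (.node (.node (.leaf []) (.leaf []))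 (.node (.leaf []) (.leaf [(-1)]))) (.node (.node (.leaf [(-1)]) (.leaf [])) (.node (.leaf []) (.leaf [(-464)])))) (.node (.node (.node (.leaf []) (.leaf [])) (.node (.leaf []) (.leaf [(-108)]))) (.node (.node (.leaf []) (.leaf [151])) (.leaf [])))))) (.node (.node (.node (.node (.node (.node (.leaf []) (.leaf [])) (.node (.leaf []) (.leaf [23]))) (.node (.node (.leaf []) (.leaf [(-392)])) (.node (.leaf [3604]) (.leaf [])))) (.node (.node (.node (.leaf []) (.leaf [])) (.node (.leaf []) (.leaf [(-41)]))) (.node (.node (.leaf [3]) (.leaf [15])) (.node (.leaf [(-2)]) (.leaf [(-149)]))))) (.node (.node (.node (.node (.leaf []) (.leaf [79])) (.node (.leaf []) (.leaf [(-33)]))) (.node (.node (.leaf []) (.leaf [])) (.node (.leaf [179]) (.leaf [(-7077)])))) (.node (.node (.node (.leaf []) (.leaf [])) (.node (.leaf []) (.leaf []))) (.node (.node (.leaf []) (.leaf [])) (.leaf []))))) (.node (.node (.node (.node (.node (.leaf []) (.leaf [])) (.node (.leaf [16]) (.leaf []))) (.node (.node (.leaf []) (.leaf [])) (.node (.leaf []) (.leaf [431])))) (.node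 (.node (.node (.leaf []) (.leaf [])) (.node (.leaf []) (.leaf [15]))) (.node (.node (.leaf []) (.leaf [(-2798)])) (.leaf [(-389)])))) (.node (.node (.node (.node (.leaf []) (.leaf [])) (.node (.leaf [10]) (.leaf [1199]))) (.node (.node (.leaf []) (.leaf [(-34)])) (.node (.leaf [3]) (.leaf [(-1716)])))) (.node (.node (.node (.leaf []) (.leaf [])) (.node (.leaf []) (.leaf [99]))) (.node (.node (.leaf []) (.leaf [(-181)])) (.leaf [14]))))))) (.node (.node (.node (.node (.node (.node (.node (.leaf []) (.leaf [])) (.node (.leaf [(-1)]) (.leaf [(-236)]))) (.node (.node (.leaf [11]) (.leaf [(-145)])) (.node (.leaf []) (.leaf [(-19)])))) (.node (.node (.node (.leaf [160]) (.leaf [76])) (.node (.leaf []) (.leaf [851]))) (.node (.node (.leaf []) (.leaf [])) (.node (.leaf []) (.leaf []))))) (.node (.node (.node (.node (.leaf []) (.leaf [])) (.node (.leaf []) (.leaf [1]))) (.node (.node (.leaf []) (.leaf [787])) (.node (.leaf [(-58)]) (.leaf [(-93)])))) (.node (.node (.node (.leaf []) (.leaf [])) (.node (.leaf []) (.leaf [11602]))) (.node (.node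 (.leaf []) (.leaf [167])) (.leaf [2]))))) (.node (.node (.node (.node (.node (.leaf []) (.leaf [])) (.node (.leaf []) (.leaf [15]))) (.node (.node (.leaf []) (.leaf [(-92)])) (.node (.leaf []) (.leaf [39])))) (.node (.node (.node (.leaf []) (.leaf [2])) (.node (.leaf [(-1)]) (.leaf []))) (.node (.node (.leaf []) (.leaf [3])) (.leaf [])))) (.node (.node (.node (.node (.leaf []) (.leaf [(-5)])) (.node (.leaf [2]) (.leaf [(-8)]))) (.node (.node (.leaf []) (.leaf [(-530)])) (.node (.leaf []) (.leaf [])))) (.node (.node (.node (.leaf []) (.leaf [(-5)])) (.node (.leaf []) (.leaf [(-277)]))) (.node (.node (.leaf [1]) (.leaf [])) (.leaf [38])))))) (.node (.node (.node (.node (.node (.node (.leaf []) (.leaf [])) (.node (.leaf []) (.leaf [(-29)]))) (.node (.node (.leaf [4]) (.leaf [(-2)])) (.node (.leaf []) (.leaf [(-461)])))) (.node (.node (.node (.leaf []) (.leaf [212])) (.node (.leaf []) (.leaf []))) (.node (.node (.leaf []) (.leaf [102])) (.node (.leaf []) (.leaf []))))) (.node (.node (.node (.node (.leaf []) (.leaf [])) (.node (.leaf [(-352)])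 (.leaf [11]))) (.node (.node (.leaf []) (.leaf [1269])) (.node (.leaf [(-73)]) (.leaf [(-13)])))) (.node (.node (.node (.leaf []) (.leaf [(-2)])) (.node (.leaf [(-5)]) (.leaf [(-37)]))) (.node (.node (.leaf []) (.leaf [])) (.leaf [(-236)]))))) (.node (.node (.node (.node (.node (.leaf []) (.leaf [667])) (.node (.leaf [167]) (.leaf [563]))) (.node (.node (.leaf []) (.leaf [])) (.node (.leaf []) (.leaf [352])))) (.node (.node (.node (.leaf []) (.leaf [7])) (.node (.leaf []) (.leaf [(-28)]))) (.node (.node (.leaf []) (.leaf [(-585)])) (.leaf [3107])))) (.node (.node (.node (.node (.leaf []) (.leaf [])) (.node (.leaf [107]) (.leaf [(-302)]))) (.node (.node (.leaf []) (.leaf [(-1)])) (.node (.leaf []) (.leaf [(-41)])))) (.node (.node (.node (.leaf []) (.leaf [8])) (.node (.leaf []) (.leaf [(-3685)]))) (.node (.node (.leaf [(-13)]) (.leaf [(-45)])) (.leaf [(-747)])))))))) (.node (.node (.node (.node (.node (.node (.node (.node (.leaf []) (.leaf [])) (.node (.leaf []) (.leaf [3]))) (.node (.node (.leaf []) (.leaf [])) (.node (.leaf []) (.leaf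 [(-1316)])))) (.node (.node (.node (.leaf []) (.leaf [])) (.node (.leaf [2]) (.leaf [14]))) (.node (.node (.leaf []) (.leaf [12])) (.node (.leaf [8]) (.leaf [(-3023)]))))) (.node (.node (.node (.node (.leaf []) (.leaf [])) (.node (.leaf []) (.leaf [292]))) (.node (.node (.leaf []) (.leaf [(-105)])) (.node (.leaf []) (.leaf [3])))) (.node (.node (.node (.leaf []) (.leaf [(-25)])) (.node (.leaf []) (.leaf [18]))) (.node (.node (.leaf [(-2)]) (.leaf [(-303)])) (.leaf [(-10)]))))) (.node (.node (.node (.node (.node (.leaf []) (.leaf [])) (.node (.leaf []) (.leaf [14]))) (.node (.node (.leaf []) (.leaf [(-7377)])) (.node (.leaf []) (.leaf [7])))) (.node (.node (.node (.leaf []) (.leaf [(-1153)])) (.node (.leaf []) (.leaf [7]))) (.node (.node (.leaf [(-11)]) (.leaf [104])) (.leaf [])))) (.node (.node (.node (.node (.leaf []) (.leaf [(-1989)])) (.node (.leaf [(-13)]) (.leaf [675]))) (.node (.node (.leaf []) (.leaf [230])) (.node (.leaf [(-1)]) (.leaf [34])))) (.node (.node (.node (.leaf []) (.leaf [(-14)])) (.node (.leaf []) (.leaf [583])))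 (.node (.node (.leaf []) (.leaf [(-745)])) (.leaf [(-9)])))))) (.node (.node (.node (.node (.node (.node (.leaf []) (.leaf [(-1)])) (.node (.leaf []) (.leaf [(-6621)]))) (.node (.node (.leaf []) (.leaf [(-1)])) (.node (.leaf []) (.leaf [1])))) (.node (.node (.node (.leaf []) (.leaf [(-29)])) (.node (.leaf []) (.leaf [(-1)]))) (.node (.node (.leaf []) (.leaf [(-9)])) (.node (.leaf []) (.leaf [101]))))) (.node (.node (.node (.node (.leaf []) (.leaf [])) (.node (.leaf [151]) (.leaf [52]))) (.node (.node (.leaf []) (.leaf [])) (.node (.leaf []) (.leaf [(-181)])))) (.node (.node (.node (.leaf []) (.leaf [1068])) (.node (.leaf [(-5)]) (.leaf [788]))) (.node (.node (.leaf []) (.leaf [])) (.leaf [(-89)]))))) (.node (.node (.node (.node (.node (.leaf []) (.leaf [(-53)])) (.node (.leaf []) (.leaf []))) (.node (.node (.leaf [(-13)]) (.leaf [(-733)])) (.node (.leaf []) (.leaf [])))) (.node (.node (.node (.leaf []) (.leaf [(-337)])) (.node (.leaf []) (.leaf [43]))) (.node (.node (.leaf []) (.leaf [(-889)])) (.leaf [])))) (.node (.node (.node (.node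 (.leaf []) (.leaf [323])) (.node (.leaf []) (.leaf [(-6)]))) (.node (.node (.leaf []) (.leaf [123])) (.node (.leaf [(-13)]) (.leaf [(-17)])))) (.node (.node (.node (.leaf []) (.leaf [])) (.node (.leaf [(-9)]) (.leaf [150]))) (.node (.node (.leaf []) (.leaf [])) (.leaf []))))))) (.node (.node (.node (.node (.node (.node (.node (.leaf []) (.leaf [107])) (.node (.leaf []) (.leaf [(-2)]))) (.node (.node (.leaf []) (.leaf [2])) (.node (.leaf []) (.leaf [(-167)])))) (.node (.node (.node (.leaf []) (.leaf [(-29)])) (.node (.leaf []) (.leaf [7]))) (.node (.node (.leaf []) (.leaf [])) (.node (.leaf []) (.leaf [(-645)]))))) (.node (.node (.node (.node (.leaf []) (.leaf [(-661)])) (.node (.leaf []) (.leaf [(-41)]))) (.node (.node (.leaf []) (.leaf [])) (.node (.leaf [(-21)]) (.leaf [309])))) (.node (.node (.node (.leaf []) (.leaf [32])) (.node (.leaf []) (.leaf [1030]))) (.node (.node (.leaf []) (.leaf [])) (.leaf [340]))))) (.node (.node (.node (.node (.node (.leaf []) (.leaf [])) (.node (.leaf []) (.leaf [220]))) (.node (.node (.leaf []) (.leaf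 [26])) (.node (.leaf []) (.leaf [3])))) (.node (.node (.node (.leaf [(-1)]) (.leaf [(-161)])) (.node (.leaf [2]) (.leaf [(-1)]))) (.node (.node (.leaf []) (.leaf [7046])) (.leaf [])))) (.node (.node (.node (.node (.leaf []) (.leaf [])) (.node (.leaf []) (.leaf [136]))) (.node (.node (.leaf [2]) (.leaf [447])) (.node (.leaf [3]) (.leaf [(-49)])))) (.node (.node (.node (.leaf []) (.leaf [(-2)])) (.node (.leaf [11]) (.leaf [324]))) (.node (.node (.leaf []) (.leaf [])) (.leaf [18])))))) (.node (.node (.node (.node (.node (.node (.leaf []) (.leaf [])) (.node (.leaf []) (.leaf [379]))) (.node (.node (.leaf [(-20)]) (.leaf [(-1)])) (.node (.leaf [(-1)]) (.leaf [262])))) (.node (.node (.node (.leaf []) (.leaf [])) (.node (.leaf []) (.leaf [317]))) (.node (.node (.leaf []) (.leaf [115])) (.node (.leaf []) (.leaf [(-1)]))))) (.node (.node (.node (.node (.leaf []) (.leaf [415])) (.node (.leaf []) (.leaf [(-284)]))) (.node (.node (.leaf []) (.leaf [12])) (.node (.leaf []) (.leaf [])))) (.node (.node (.node (.leaf []) (.leaf [])) (.node (.leaf [2])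 (.leaf [119]))) (.node (.node (.leaf []) (.leaf [])) (.leaf []))))) (.node (.node (.node (.node (.node (.leaf []) (.leaf [398])) (.node (.leaf []) (.leaf [(-1022)]))) (.node (.node (.leaf [3]) (.leaf [(-1389)])) (.node (.leaf []) (.leaf [1643])))) (.node (.node (.node (.leaf []) (.leaf [(-5)])) (.node (.leaf []) (.leaf [(-1)]))) (.node (.node (.leaf []) (.leaf [67])) (.leaf [])))) (.node (.node (.node (.node (.leaf []) (.leaf [])) (.node (.leaf []) (.leaf []))) (.node (.node (.leaf []) (.leaf [])) (.node (.leaf []) (.leaf [2995])))) (.node (.node (.node (.leaf []) (.leaf [1])) (.node (.leaf []) (.leaf [67]))) (.node (.node (.leaf []) (.leaf [(-11627)])) (.leaf [20])))))))))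

def threeL2 : Janko.Tree (List ℤ) :=
  (.node (.node (.node (.node (.node (.node (.node (.node (.node (.leaf []) (.leaf [(-84)])) (.node (.leaf []) (.leaf [490]))) (.node (.node (.leaf []) (.leaf [84])) (.node (.leaf []) (.leaf [(-126)])))) (.node (.node (.node (.leaf []) (.leaf [])) (.node (.leaf []) (.leaf [592]))) (.node (.node (.leaf []) (.leaf [])) (.node (.leaf []) (.leaf [268]))))) (.node (.node (.node (.node (.leaf []) (.leaf [])) (.node (.leaf []) (.leaf [32]))) (.node (.node (.leaf []) (.leaf [971])) (.node (.leaf [(-120)]) (.leaf [(-60)])))) (.node (.node (.node (.leaf []) (.leaf [(-122)])) (.node (.leaf []) (.leaf [329]))) (.node (.node (.leaf []) (.leaf [395])) (.leaf [(-100)]))))) (.node (.node (.node (.node (.node (.leaf []) (.leaf [])) (.node (.leaf []) (.leaf []))) (.node (.node (.leaf []) (.leaf [])) (.node (.leaf []) (.leaf [68])))) (.node (.node (.node (.leaf []) (.leaf [8762])) (.node (.leaf []) (.leaf []))) (.node (.node (.leaf []) (.leaf [1440])) (.leaf [(-148)])))) (.node (.node (.node (.node (.leaf []) (.leaf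 [(-3)])) (.node (.leaf []) (.leaf []))) (.node (.node (.leaf []) (.leaf [])) (.node (.leaf []) (.leaf [8])))) (.node (.node (.node (.leaf []) (.leaf [])) (.node (.leaf []) (.leaf []))) (.node (.node (.leaf []) (.leaf [])) (.leaf [])))))) (.node (.node (.node (.node (.node (.node (.leaf []) (.leaf [(-36)])) (.node (.leaf []) (.leaf [2712]))) (.node (.node (.leaf []) (.leaf [])) (.node (.leaf []) (.leaf [9])))) (.node (.node (.node (.leaf []) (.leaf [])) (.node (.leaf [122]) (.leaf [(-1676)]))) (.node (.node (.leaf []) (.leaf [1684])) (.node (.leaf []) (.leaf [(-856)]))))) (.node (.node (.node (.node (.leaf []) (.leaf [])) (.node (.leaf [144]) (.leaf [(-16)]))) (.node (.node (.leaf []) (.leaf [5])) (.node (.leaf []) (.leaf [25])))) (.node (.node (.node (.leaf []) (.leaf [511])) (.node (.leaf []) (.leaf [60]))) (.node (.node (.leaf [(-2620)]) (.leaf [(-290)])) (.leaf [10752]))))) (.node (.node (.node (.node (.node (.leaf []) (.leaf [(-42)])) (.node (.leaf []) (.leaf [(-5)]))) (.node (.node (.leaf []) (.leaf [(-52)])) (.node (.leaf [12])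 (.leaf [(-1003)])))) (.node (.node (.node (.leaf []) (.leaf [])) (.node (.leaf []) (.leaf [(-22)]))) (.node (.node (.leaf []) (.leaf [6])) (.leaf [])))) (.node (.node (.node (.node (.leaf []) (.leaf [])) (.node (.leaf [(-36)]) (.leaf [7]))) (.node (.node (.leaf []) (.leaf [1])) (.node (.leaf []) (.leaf [])))) (.node (.node (.node (.leaf []) (.leaf [8])) (.node (.leaf []) (.leaf []))) (.node (.node (.leaf []) (.leaf [1394])) (.leaf [(-240)]))))))) (.node (.node (.node (.node (.node (.node (.node (.leaf []) (.leaf [])) (.node (.leaf []) (.leaf []))) (.node (.node (.leaf [168]) (.leaf [])) (.node (.leaf [546]) (.leaf [(-265)])))) (.node (.node (.node (.leaf []) (.leaf [])) (.node (.leaf []) (.leaf [(-1096)]))) (.node (.node (.leaf []) (.leaf [12])) (.node (.leaf [(-29)]) (.leaf [(-119)]))))) (.node (.node (.node (.node (.leaf []) (.leaf [(-346)])) (.node (.leaf []) (.leaf []))) (.node (.node (.leaf []) (.leaf [10])) (.node (.leaf [(-308)]) (.leaf [])))) (.node (.node (.node (.leaf []) (.leaf [(-2443)])) (.node (.leaf [(-4)]) (.leaf [])))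 (.node (.node (.leaf []) (.leaf [(-125)])) (.leaf [212]))))) (.node (.node (.node (.node (.node (.leaf []) (.leaf [282])) (.node (.leaf []) (.leaf []))) (.node (.node (.leaf []) (.leaf [(-173)])) (.node (.leaf []) (.leaf [5])))) (.node (.node (.node (.leaf []) (.leaf [12])) (.node (.leaf []) (.leaf []))) (.node (.node (.leaf []) (.leaf [55])) (.leaf [])))) (.node (.node (.node (.node (.leaf []) (.leaf [])) (.node (.leaf [(-33)]) (.leaf [631]))) (.node (.node (.leaf []) (.leaf [])) (.node (.leaf [4]) (.leaf [(-6902)])))) (.node (.node (.node (.leaf []) (.leaf [])) (.node (.leaf []) (.leaf []))) (.node (.node (.leaf []) (.leaf [])) (.leaf [])))))) (.node (.node (.node (.node (.node (.node (.leaf []) (.leaf [])) (.node (.leaf [(-1)]) (.leaf [6875]))) (.node (.node (.leaf []) (.leaf [(-11)])) (.node (.leaf []) (.leaf [(-102)])))) (.node (.node (.node (.leaf []) (.leaf [(-11)])) (.node (.leaf []) (.leaf [1]))) (.node (.node (.leaf []) (.leaf [(-17)])) (.node (.leaf []) (.leaf [1]))))) (.node (.node (.node (.node (.leaf []) (.leaf [])) (.node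 (.leaf [16]) (.leaf [(-10749)]))) (.node (.node (.leaf []) (.leaf [])) (.node (.leaf []) (.leaf [565])))) (.node (.node (.node (.leaf []) (.leaf [])) (.node (.leaf []) (.leaf []))) (.node (.node (.leaf []) (.leaf [])) (.leaf []))))) (.node (.node (.node (.node (.node (.leaf []) (.leaf [])) (.node (.leaf []) (.leaf [2233]))) (.node (.node (.leaf []) (.leaf [(-151)])) (.node (.leaf [(-49)]) (.leaf [(-532)])))) (.node (.node (.node (.leaf []) (.leaf [])) (.node (.leaf [2571]) (.leaf [(-16)]))) (.node (.node (.leaf []) (.leaf [1460])) (.leaf [])))) (.node (.node (.node (.node (.leaf []) (.leaf [(-46)])) (.node (.leaf []) (.leaf []))) (.node (.node (.leaf [1058]) (.leaf [])) (.node (.leaf []) (.leaf [(-1)])))) (.node (.node (.node (.leaf [(-11)]) (.leaf [(-3)])) (.node (.leaf []) (.leaf [2]))) (.node (.node (.leaf [1]) (.leaf [])) (.leaf [])))))))) (.node (.node (.node (.node (.node (.node (.node (.node (.leaf []) (.leaf [])) (.node (.leaf []) (.leaf [(-730)]))) (.node (.node (.leaf []) (.leaf [])) (.node (.leaf []) (.leaf [186])))) (.node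 (.node (.node (.leaf []) (.leaf [])) (.node (.leaf []) (.leaf [(-87)]))) (.node (.node (.leaf []) (.leaf [])) (.node (.leaf [1]) (.leaf []))))) (.node (.node (.node (.node (.leaf []) (.leaf [])) (.node (.leaf []) (.leaf [(-138)]))) (.node (.node (.leaf []) (.leaf [])) (.node (.leaf []) (.leaf [10])))) (.node (.node (.node (.leaf []) (.leaf [(-9)])) (.node (.leaf []) (.leaf []))) (.node (.node (.leaf []) (.leaf [3])) (.leaf [16]))))) (.node (.node (.node (.node (.node (.leaf []) (.leaf [])) (.node (.leaf []) (.leaf [(-27)]))) (.node (.node (.leaf []) (.leaf [])) (.node (.leaf []) (.leaf [449])))) (.node (.node (.node (.leaf [4236]) (.leaf [])) (.node (.leaf []) (.leaf [(-163)]))) (.node (.node (.leaf []) (.leaf [(-1928)])) (.leaf [])))) (.node (.node (.node (.node (.leaf []) (.leaf [])) (.node (.leaf []) (.leaf []))) (.node (.node (.leaf []) (.leaf [])) (.node (.leaf []) (.leaf [1244])))) (.node (.node (.node (.leaf []) (.leaf [])) (.node (.leaf []) (.leaf [147]))) (.node (.node (.leaf []) (.leaf [120])) (.leaf [])))))) (.node (.node (.node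 (.node (.node (.node (.leaf []) (.leaf [742])) (.node (.leaf []) (.leaf []))) (.node (.node (.leaf []) (.leaf [78])) (.node (.leaf []) (.leaf [33])))) (.node (.node (.node (.leaf []) (.leaf [(-1)])) (.node (.leaf []) (.leaf [1]))) (.node (.node (.leaf []) (.leaf [(-308)])) (.node (.leaf [684]) (.leaf [352]))))) (.node (.node (.node (.node (.leaf []) (.leaf [])) (.node (.leaf [(-13)]) (.leaf []))) (.node (.node (.leaf []) (.leaf [])) (.node (.leaf []) (.leaf [9])))) (.node (.node (.node (.leaf [107]) (.leaf [(-120)])) (.node (.leaf []) (.leaf [1579]))) (.node (.node (.leaf [540]) (.leaf [])) (.leaf [163]))))) (.node (.node (.node (.node (.node (.leaf []) (.leaf [])) (.node (.leaf []) (.leaf [48]))) (.node (.node (.leaf []) (.leaf [])) (.node (.leaf []) (.leaf [])))) (.node (.node (.node (.leaf []) (.leaf [])) (.node (.leaf []) (.leaf []))) (.node (.node (.leaf []) (.leaf [(-484)])) (.leaf [212])))) (.node (.node (.node (.node (.leaf []) (.leaf [576])) (.node (.leaf []) (.leaf [29]))) (.node (.node (.leaf []) (.leaf [3])) (.node (.leaf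 [(-9)]) (.leaf [(-760)])))) (.node (.node (.node (.leaf []) (.leaf [])) (.node (.leaf []) (.leaf [11]))) (.node (.node (.leaf [(-888)]) (.leaf [44])) (.leaf [(-2540)]))))))) (.node (.node (.node (.node (.node (.node (.node (.leaf []) (.leaf [])) (.node (.leaf []) (.leaf [(-252)]))) (.node (.node (.leaf []) (.leaf [2396])) (.node (.leaf []) (.leaf [26])))) (.node (.node (.node (.leaf []) (.leaf [(-1)])) (.node (.leaf []) (.leaf []))) (.node (.node (.leaf []) (.leaf [])) (.node (.leaf []) (.leaf [740]))))) (.node (.node (.node (.node (.leaf []) (.leaf [])) (.node (.leaf []) (.leaf [(-2815)]))) (.node (.node (.leaf []) (.leaf [81])) (.node (.leaf [4]) (.leaf [(-716)])))) (.node (.node (.node (.leaf []) (.leaf [109])) (.node (.leaf [21]) (.leaf []))) (.node (.node (.leaf []) (.leaf [(-5)])) (.leaf []))))) (.node (.node (.node (.node (.node (.leaf []) (.leaf [105])) (.node (.leaf []) (.leaf []))) (.node (.node (.leaf []) (.leaf [])) (.node (.leaf [(-504)]) (.leaf [4])))) (.node (.node (.node (.leaf []) (.leaf [])) (.node (.leaf []) (.leaf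 [1095]))) (.node (.node (.leaf []) (.leaf [(-5)])) (.leaf [])))) (.node (.node (.node (.node (.leaf []) (.leaf [])) (.node (.leaf []) (.leaf []))) (.node (.node (.leaf []) (.leaf [(-100)])) (.node (.leaf []) (.leaf [])))) (.node (.node (.node (.leaf []) (.leaf [])) (.node (.leaf [1]) (.leaf [401]))) (.node (.node (.leaf []) (.leaf [])) (.leaf [])))))) (.node (.node (.node (.node (.node (.node (.leaf []) (.leaf [139])) (.node (.leaf []) (.leaf []))) (.node (.node (.leaf []) (.leaf [472])) (.node (.leaf [12]) (.leaf [])))) (.node (.node (.node (.leaf []) (.leaf [])) (.node (.leaf [(-492)]) (.leaf [(-19)]))) (.node (.node (.leaf [(-1330)]) (.leaf [])) (.node (.leaf []) (.leaf [3]))))) (.node (.node (.node (.node (.leaf []) (.leaf [])) (.node (.leaf []) (.leaf []))) (.node (.node (.leaf []) (.leaf [])) (.node (.leaf [284]) (.leaf [5313])))) (.node (.node (.node (.leaf []) (.leaf [612])) (.node (.leaf []) (.leaf [4]))) (.node (.node (.leaf []) (.leaf [])) (.leaf [(-1)]))))) (.node (.node (.node (.node (.node (.leaf []) (.leaf [])) (.node (.leaf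 [180]) (.leaf [(-47)]))) (.node (.node (.leaf [8]) (.leaf [(-5)])) (.node (.leaf []) (.leaf [])))) (.node (.node (.node (.leaf []) (.leaf [(-1)])) (.node (.leaf []) (.leaf [(-4)]))) (.node (.node (.leaf []) (.leaf [])) (.leaf [16])))) (.node (.node (.node (.node (.leaf []) (.leaf [])) (.node (.leaf []) (.leaf [(-51)]))) (.node (.node (.leaf []) (.leaf [])) (.node (.leaf []) (.leaf [(-41)])))) (.node (.node (.node (.leaf []) (.leaf [])) (.node (.leaf []) (.leaf [1]))) (.node (.node (.leaf []) (.leaf [])) (.leaf [167])))))))))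

def threeL3 : Janko.Tree (List ℤ) :=
  (.node (.node (.node (.node (.node (.node (.node (.node (.node (.leaf []) (.leaf [90])) (.node (.leaf [19]) (.leaf [165]))) (.node (.node (.leaf []) (.leaf [19])) (.node (.leaf [(-1)]) (.leaf [(-3)])))) (.node (.node (.node (.leaf []) (.leaf [(-1)])) (.node (.leaf [(-257)]) (.leaf [7]))) (.node (.node (.leaf []) (.leaf [132])) (.node (.leaf [(-16)]) (.leaf [(-154)]))))) (.node (.node (.node (.node (.leaf []) (.leaf [3])) (.node (.leaf []) (.leaf [7]))) (.node (.node (.leaf []) (.leaf [2])) (.node (.leaf []) (.leaf [(-37)])))) (.node (.node (.node (.leaf []) (.leaf [])) (.node (.leaf []) (.leaf [515]))) (.node (.node (.leaf []) (.leaf [])) (.leaf [(-1)]))))) (.node (.node (.node (.node (.node (.leaf []) (.leaf [(-230)])) (.node (.leaf [40]) (.leaf [1292]))) (.node (.node (.leaf [1759]) (.leaf [])) (.node (.leaf []) (.leaf [373])))) (.node (.node (.node (.leaf []) (.leaf [])) (.node (.leaf [(-121)]) (.leaf [327]))) (.node (.node (.leaf []) (.leaf [48])) (.leaf [])))) (.node (.node (.node (.node (.leaf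 []) (.leaf [])) (.node (.leaf []) (.leaf []))) (.node (.node (.leaf []) (.leaf [])) (.node (.leaf [(-1)]) (.leaf [(-157)])))) (.node (.node (.node (.leaf []) (.leaf [20])) (.node (.leaf [(-9)]) (.leaf []))) (.node (.node (.leaf [7]) (.leaf [])) (.leaf [(-57)])))))) (.node (.node (.node (.node (.node (.node (.leaf []) (.leaf [(-9)])) (.node (.leaf []) (.leaf [(-165)]))) (.node (.node (.leaf []) (.leaf [(-10)])) (.node (.leaf []) (.leaf [])))) (.node (.node (.node (.leaf []) (.leaf [])) (.node (.leaf []) (.leaf [2]))) (.node (.node (.leaf []) (.leaf [327])) (.node (.leaf [(-44)]) (.leaf [(-1134)]))))) (.node (.node (.node (.node (.leaf []) (.leaf [(-2)])) (.node (.leaf []) (.leaf [(-1)]))) (.node (.node (.leaf []) (.leaf [(-45)])) (.node (.leaf [7]) (.leaf [4])))) (.node (.node (.node (.leaf []) (.leaf [])) (.node (.leaf []) (.leaf [(-189)]))) (.node (.node (.leaf []) (.leaf [])) (.leaf [27]))))) (.node (.node (.node (.node (.node (.leaf []) (.leaf [])) (.node (.leaf []) (.leaf [215]))) (.node (.node (.leaf []) (.leaf [87])) (.node (.leaf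 []) (.leaf [196])))) (.node (.node (.node (.leaf []) (.leaf [(-13)])) (.node (.leaf []) (.leaf [(-337)]))) (.node (.node (.leaf []) (.leaf [])) (.leaf [])))) (.node (.node (.node (.node (.leaf []) (.leaf [])) (.node (.leaf []) (.leaf [(-181)]))) (.node (.node (.leaf []) (.leaf [376])) (.node (.leaf [4]) (.leaf [(-5)])))) (.node (.node (.node (.leaf []) (.leaf [7])) (.node (.leaf [3]) (.leaf [(-1)]))) (.node (.node (.leaf []) (.leaf [2729])) (.leaf []))))))) (.node (.node (.node (.node (.node (.node (.node (.leaf []) (.leaf [])) (.node (.leaf []) (.leaf []))) (.node (.node (.leaf []) (.leaf [(-22)])) (.node (.leaf []) (.leaf [(-22)])))) (.node (.node (.node (.leaf []) (.leaf [(-53)])) (.node (.leaf [59]) (.leaf [396]))) (.node (.node (.leaf []) (.leaf [18])) (.node (.leaf []) (.leaf [76]))))) (.node (.node (.node (.node (.leaf []) (.leaf [])) (.node (.leaf []) (.leaf [(-1)]))) (.node (.node (.leaf []) (.leaf [625])) (.node (.leaf [(-1)]) (.leaf [(-459)])))) (.node (.node (.node (.leaf []) (.leaf [(-2032)])) (.node (.leaf []) (.leaf [491])))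 (.node (.node (.leaf []) (.leaf [])) (.leaf []))))) (.node (.node (.node (.node (.node (.leaf []) (.leaf [])) (.node (.leaf []) (.leaf []))) (.node (.node (.leaf []) (.leaf [(-18)])) (.node (.leaf []) (.leaf [7392])))) (.node (.node (.node (.leaf []) (.leaf [1])) (.node (.leaf []) (.leaf []))) (.node (.node (.leaf []) (.leaf [])) (.leaf [])))) (.node (.node (.node (.node (.leaf []) (.leaf [25])) (.node (.leaf []) (.leaf [150]))) (.node (.node (.leaf []) (.leaf [(-1)])) (.node (.leaf [(-97)]) (.leaf [(-6369)])))) (.node (.node (.node (.leaf []) (.leaf [])) (.node (.leaf []) (.leaf [(-7841)]))) (.node (.node (.leaf [(-1129)]) (.leaf [])) (.leaf [4])))))) (.node (.node (.node (.node (.node (.node (.leaf []) (.leaf [(-1280)])) (.node (.leaf []) (.leaf [(-25)]))) (.node (.node (.leaf []) (.leaf [4])) (.node (.leaf []) (.leaf [(-1808)])))) (.node (.node (.node (.leaf []) (.leaf [])) (.node (.leaf []) (.leaf [(-104)]))) (.node (.node (.leaf []) (.leaf [3])) (.node (.leaf [2288]) (.leaf [5]))))) (.node (.node (.node (.node (.leaf []) (.leaf [883]))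 (.node (.leaf []) (.leaf [667]))) (.node (.node (.leaf []) (.leaf [12])) (.node (.leaf []) (.leaf [(-9)])))) (.node (.node (.node (.leaf []) (.leaf [(-164)])) (.node (.leaf []) (.leaf [(-9)]))) (.node (.node (.leaf []) (.leaf [9])) (.leaf []))))) (.node (.node (.node (.node (.node (.leaf []) (.leaf [371])) (.node (.leaf []) (.leaf [(-377)]))) (.node (.node (.leaf []) (.leaf [2003])) (.node (.leaf [19]) (.leaf [(-9)])))) (.node (.node (.node (.leaf []) (.leaf [])) (.node (.leaf [(-146)]) (.leaf [(-18)]))) (.node (.node (.leaf [(-1100)]) (.leaf [702])) (.leaf [(-57)])))) (.node (.node (.node (.node (.leaf [(-1)]) (.leaf [])) (.node (.leaf [(-661)]) (.leaf [(-1)]))) (.node (.node (.leaf []) (.leaf [(-196)])) (.node (.leaf [(-2)]) (.leaf [(-660)])))) (.node (.node (.node (.leaf []) (.leaf [])) (.node (.leaf [2]) (.leaf [5]))) (.node (.node (.leaf []) (.leaf [])) (.leaf [])))))))) (.node (.node (.node (.node (.node (.node (.node (.node (.leaf []) (.leaf [(-2)])) (.node (.leaf [(-34)]) (.leaf []))) (.node (.node (.leaf []) (.leaf [])) (.node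 (.leaf []) (.leaf [(-94)])))) (.node (.node (.node (.leaf []) (.leaf [(-2)])) (.node (.leaf []) (.leaf []))) (.node (.node (.leaf [4]) (.leaf [2443])) (.node (.leaf []) (.leaf [(-236)]))))) (.node (.node (.node (.node (.leaf []) (.leaf [7394])) (.node (.leaf [(-272)]) (.leaf [(-4)]))) (.node (.node (.leaf [2680]) (.leaf [])) (.node (.leaf []) (.leaf [(-804)])))) (.node (.node (.node (.leaf []) (.leaf [])) (.node (.leaf []) (.leaf [707]))) (.node (.node (.leaf []) (.leaf [])) (.leaf [351]))))) (.node (.node (.node (.node (.node (.leaf []) (.leaf [])) (.node (.leaf []) (.leaf []))) (.node (.node (.leaf []) (.leaf [8])) (.node (.leaf []) (.leaf [(-160)])))) (.node (.node (.node (.leaf []) (.leaf [(-8)])) (.node (.leaf []) (.leaf [(-17)]))) (.node (.node (.leaf [863]) (.leaf [51])) (.leaf [8])))) (.node (.node (.node (.node (.leaf []) (.leaf [])) (.node (.leaf [(-8)]) (.leaf [(-52)]))) (.node (.node (.leaf [(-2)]) (.leaf [16])) (.node (.leaf [(-529)]) (.leaf [3515])))) (.node (.node (.node (.leaf [(-320)]) (.leaf [(-89)])) (.node (.leaf [2])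 (.leaf [(-350)]))) (.node (.node (.leaf [662]) (.leaf [75])) (.leaf [8])))))) (.node (.node (.node (.node (.node (.node (.leaf []) (.leaf [])) (.node (.leaf []) (.leaf [103]))) (.node (.node (.leaf [(-502)]) (.leaf [])) (.node (.leaf [2]) (.leaf [16])))) (.node (.node (.node (.leaf []) (.leaf [])) (.node (.leaf []) (.leaf [(-2)]))) (.node (.node (.leaf []) (.leaf [(-13)])) (.node (.leaf []) (.leaf [999]))))) (.node (.node (.node (.node (.leaf []) (.leaf [])) (.node (.leaf []) (.leaf [(-10)]))) (.node (.node (.leaf []) (.leaf [7])) (.node (.leaf []) (.leaf [(-9)])))) (.node (.node (.node (.leaf []) (.leaf [(-657)])) (.node (.leaf []) (.leaf [3]))) (.node (.node (.leaf []) (.leaf [40])) (.leaf []))))) (.node (.node (.node (.node (.node (.leaf []) (.leaf [])) (.node (.leaf []) (.leaf [22]))) (.node (.node (.leaf []) (.leaf [4])) (.node (.leaf [(-968)]) (.leaf [32])))) (.node (.node (.node (.leaf []) (.leaf [59])) (.node (.leaf []) (.leaf [939]))) (.node (.node (.leaf [(-32)]) (.leaf [(-661)])) (.leaf [])))) (.node (.node (.node (.node (.leaf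 []) (.leaf [])) (.node (.leaf []) (.leaf [11]))) (.node (.node (.leaf []) (.leaf [(-2)])) (.node (.leaf []) (.leaf [(-5)])))) (.node (.node (.node (.leaf []) (.leaf [(-5)])) (.node (.leaf [(-53)]) (.leaf [2518]))) (.node (.node (.leaf []) (.leaf [])) (.leaf [(-2077)]))))))) (.node (.node (.node (.node (.node (.node (.node (.leaf []) (.leaf [])) (.node (.leaf []) (.leaf []))) (.node (.node (.leaf []) (.leaf [])) (.node (.leaf []) (.leaf [])))) (.node (.node (.node (.leaf []) (.leaf [(-849)])) (.node (.leaf []) (.leaf []))) (.node (.node (.leaf []) (.leaf [280])) (.node (.leaf [879]) (.leaf [(-35)]))))) (.node (.node (.node (.node (.leaf []) (.leaf [])) (.node (.leaf [22]) (.leaf [(-444)]))) (.node (.node (.leaf [20]) (.leaf [(-107)])) (.node (.leaf []) (.leaf [146])))) (.node (.node (.node (.leaf []) (.leaf [])) (.node (.leaf [(-237)]) (.leaf [1240]))) (.node (.node (.leaf []) (.leaf [1078])) (.leaf []))))) (.node (.node (.node (.node (.node (.leaf []) (.leaf [303])) (.node (.leaf [2]) (.leaf [(-121)]))) (.node (.node (.leaf [(-5)]) (.leaf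 [])) (.node (.leaf []) (.leaf [15])))) (.node (.node (.node (.leaf []) (.leaf [(-2)])) (.node (.leaf []) (.leaf [3]))) (.node (.node (.leaf []) (.leaf [(-33)])) (.leaf [1187])))) (.node (.node (.node (.node (.leaf []) (.leaf [])) (.node (.leaf []) (.leaf []))) (.node (.node (.leaf []) (.leaf [(-501)])) (.node (.leaf [(-20)]) (.leaf [(-105)])))) (.node (.node (.node (.leaf []) (.leaf [543])) (.node (.leaf []) (.leaf [127]))) (.node (.node (.leaf [15]) (.leaf [(-901)])) (.leaf [])))))) (.node (.node (.node (.node (.node (.node (.leaf []) (.leaf [(-577)])) (.node (.leaf []) (.leaf [875]))) (.node (.node (.leaf []) (.leaf [])) (.node (.leaf []) (.leaf [])))) (.node (.node (.node (.leaf []) (.leaf [])) (.node (.leaf []) (.leaf []))) (.node (.node (.leaf []) (.leaf [(-6801)])) (.node (.leaf []) (.leaf [3]))))) (.node (.node (.node (.node (.leaf []) (.leaf [(-13)])) (.node (.leaf []) (.leaf []))) (.node (.node (.leaf []) (.leaf [3])) (.node (.leaf []) (.leaf [5132])))) (.node (.node (.node (.leaf []) (.leaf [])) (.node (.leaf [(-13)]) (.leaf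 [(-14)]))) (.node (.node (.leaf [31]) (.leaf [(-13)])) (.leaf [2]))))) (.node (.node (.node (.node (.node (.leaf []) (.leaf [(-1)])) (.node (.leaf [207]) (.leaf [15]))) (.node (.node (.leaf []) (.leaf [])) (.node (.leaf []) (.leaf [981])))) (.node (.node (.node (.leaf []) (.leaf [(-1813)])) (.node (.leaf [1018]) (.leaf [1]))) (.node (.node (.leaf []) (.leaf [(-137)])) (.leaf [])))) (.node (.node (.node (.node (.leaf []) (.leaf [])) (.node (.leaf []) (.leaf [337]))) (.node (.node (.leaf []) (.leaf [])) (.node (.leaf [4]) (.leaf [(-5)])))) (.node (.node (.node (.leaf []) (.leaf [(-1)])) (.node (.leaf []) (.leaf [(-742)]))) (.node (.node (.leaf [3]) (.leaf [920])) (.leaf [])))))))))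

def threeL4 : Janko.Tree (List ℤ) :=
  (.node (.node (.node (.node (.node (.node (.node (.node (.node (.leaf []) (.leaf [(-789)])) (.node (.leaf [(-12)]) (.leaf [(-156)]))) (.node (.node (.leaf []) (.leaf [(-521)])) (.node (.leaf []) (.leaf [98])))) (.node (.node (.node (.leaf []) (.leaf [(-12)])) (.node (.leaf []) (.leaf [(-808)]))) (.node (.node (.leaf []) (.leaf [3156])) (.node (.leaf []) (.leaf [(-99)]))))) (.node (.node (.node (.node (.leaf []) (.leaf [1836])) (.node (.leaf []) (.leaf [525]))) (.node (.node (.leaf []) (.leaf [(-742)])) (.node (.leaf []) (.leaf [])))) (.node (.node (.node (.leaf []) (.leaf [])) (.node (.leaf []) (.leaf [1484]))) (.node (.node (.leaf []) (.leaf [426])) (.leaf []))))) (.node (.node (.node (.node (.node (.leaf []) (.leaf [])) (.node (.leaf []) (.leaf [1]))) (.node (.node (.leaf []) (.leaf [])) (.node (.leaf []) (.leaf [(-148)])))) (.node (.node (.node (.leaf [(-1)]) (.leaf [(-884)])) (.node (.leaf [204]) (.leaf [(-149)]))) (.node (.node (.leaf [24]) (.leaf [])) (.leaf [12])))) (.node (.node (.node (.node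 (.leaf []) (.leaf [(-1133)])) (.node (.leaf [(-20)]) (.leaf []))) (.node (.node (.leaf []) (.leaf [])) (.node (.leaf []) (.leaf [(-64)])))) (.node (.node (.node (.leaf []) (.leaf [])) (.node (.leaf [(-576)]) (.leaf [1635]))) (.node (.node (.leaf []) (.leaf [])) (.leaf [])))))) (.node (.node (.node (.node (.node (.node (.leaf []) (.leaf [279])) (.node (.leaf []) (.leaf []))) (.node (.node (.leaf []) (.leaf [732])) (.node (.leaf []) (.leaf [1])))) (.node (.node (.node (.leaf []) (.leaf [12])) (.node (.leaf []) (.leaf [(-17)]))) (.node (.node (.leaf []) (.leaf [])) (.node (.leaf []) (.leaf [1388]))))) (.node (.node (.node (.node (.leaf []) (.leaf [(-297)])) (.node (.leaf []) (.leaf [(-1390)]))) (.node (.node (.leaf []) (.leaf [100])) (.node (.leaf []) (.leaf [(-3)])))) (.node (.node (.node (.leaf []) (.leaf [2])) (.node (.leaf []) (.leaf [(-16)]))) (.node (.node (.leaf []) (.leaf [(-287)])) (.leaf [7]))))) (.node (.node (.node (.node (.node (.leaf []) (.leaf [(-313)])) (.node (.leaf []) (.leaf [102]))) (.node (.node (.leaf [2380]) (.leaf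 [])) (.node (.leaf []) (.leaf [])))) (.node (.node (.node (.leaf []) (.leaf [])) (.node (.leaf []) (.leaf [323]))) (.node (.node (.leaf []) (.leaf [511])) (.leaf [])))) (.node (.node (.node (.node (.leaf []) (.leaf [])) (.node (.leaf [44]) (.leaf []))) (.node (.node (.leaf []) (.leaf [(-7)])) (.node (.leaf []) (.leaf [1204])))) (.node (.node (.node (.leaf []) (.leaf [(-39)])) (.node (.leaf [544]) (.leaf [483]))) (.node (.node (.leaf [(-1221)]) (.leaf [])) (.leaf [(-1)]))))))) (.node (.node (.node (.node (.node (.node (.node (.leaf []) (.leaf [])) (.node (.leaf []) (.leaf [(-828)]))) (.node (.node (.leaf []) (.leaf [(-1628)])) (.node (.leaf [(-6458)]) (.leaf [515])))) (.node (.node (.node (.leaf []) (.leaf [])) (.node (.leaf []) (.leaf [(-391)]))) (.node (.node (.leaf []) (.leaf [(-18)])) (.node (.leaf [2]) (.leaf [(-551)]))))) (.node (.node (.node (.node (.leaf []) (.leaf [])) (.node (.leaf [(-184)]) (.leaf []))) (.node (.node (.leaf []) (.leaf [2])) (.node (.leaf []) (.leaf [(-5)])))) (.node (.node (.node (.leaf []) (.leaf [])) (.node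 (.leaf []) (.leaf [7]))) (.node (.node (.leaf []) (.leaf [(-61)])) (.leaf [16]))))) (.node (.node (.node (.node (.node (.leaf []) (.leaf [])) (.node (.leaf []) (.leaf []))) (.node (.node (.leaf [12]) (.leaf [])) (.node (.leaf []) (.leaf [33])))) (.node (.node (.node (.leaf [12]) (.leaf [])) (.node (.leaf []) (.leaf [(-2207)]))) (.node (.node (.leaf []) (.leaf [3])) (.leaf [12])))) (.node (.node (.node (.node (.leaf []) (.leaf [311])) (.node (.leaf []) (.leaf []))) (.node (.node (.leaf []) (.leaf [(-1420)])) (.node (.leaf []) (.leaf [588])))) (.node (.node (.node (.leaf []) (.leaf [(-7)])) (.node (.leaf []) (.leaf [(-352)]))) (.node (.node (.leaf []) (.leaf [])) (.leaf [7])))))) (.node (.node (.node (.node (.node (.node (.leaf []) (.leaf [])) (.node (.leaf []) (.leaf []))) (.node (.node (.leaf []) (.leaf [(-7)])) (.node (.leaf []) (.leaf [28])))) (.node (.node (.node (.leaf []) (.leaf [])) (.node (.leaf [2]) (.leaf [(-62)]))) (.node (.node (.leaf []) (.leaf [85])) (.node (.leaf []) (.leaf [1]))))) (.node (.node (.node (.node (.leaf [])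 (.leaf [])) (.node (.leaf []) (.leaf [(-209)]))) (.node (.node (.leaf []) (.leaf [])) (.node (.leaf []) (.leaf [1])))) (.node (.node (.node (.leaf []) (.leaf [])) (.node (.leaf []) (.leaf [(-1096)]))) (.node (.node (.leaf []) (.leaf [604])) (.leaf []))))) (.node (.node (.node (.node (.node (.leaf []) (.leaf [1099])) (.node (.leaf []) (.leaf []))) (.node (.node (.leaf []) (.leaf [])) (.node (.leaf [(-1)]) (.leaf [(-1767)])))) (.node (.node (.node (.leaf []) (.leaf [(-789)])) (.node (.leaf [(-787)]) (.leaf []))) (.node (.node (.leaf []) (.leaf [(-1079)])) (.leaf [(-1868)])))) (.node (.node (.node (.node (.leaf []) (.leaf [422])) (.node (.leaf [(-636)]) (.leaf [2]))) (.node (.node (.leaf []) (.leaf [2264])) (.node (.leaf []) (.leaf [(-47)])))) (.node (.node (.node (.leaf []) (.leaf [(-196)])) (.node (.leaf []) (.leaf [110]))) (.node (.node (.leaf []) (.leaf [])) (.leaf [(-316)])))))))) (.node (.node (.node (.node (.node (.node (.node (.node (.leaf []) (.leaf [840])) (.node (.leaf []) (.leaf [(-8)]))) (.node (.node (.leaf []) (.leaf [(-4)]))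 (.node (.leaf [187]) (.leaf [(-1221)])))) (.node (.node (.node (.leaf []) (.leaf [])) (.node (.leaf [106]) (.leaf [(-7091)]))) (.node (.node (.leaf []) (.leaf [3188])) (.node (.leaf []) (.leaf [3137]))))) (.node (.node (.node (.node (.leaf []) (.leaf [])) (.node (.leaf [(-84)]) (.leaf [(-3)]))) (.node (.node (.leaf []) (.leaf [])) (.node (.leaf []) (.leaf [832])))) (.node (.node (.node (.leaf []) (.leaf [])) (.node (.leaf []) (.leaf [2675]))) (.node (.node (.leaf []) (.leaf [(-260)])) (.leaf [(-60)]))))) (.node (.node (.node (.node (.node (.leaf []) (.leaf [610])) (.node (.leaf []) (.leaf [62]))) (.node (.node (.leaf []) (.leaf [(-1176)])) (.node (.leaf []) (.leaf [(-963)])))) (.node (.node (.node (.leaf []) (.leaf [(-96)])) (.node (.leaf []) (.leaf [27]))) (.node (.node (.leaf []) (.leaf [(-328)])) (.leaf [(-52)])))) (.node (.node (.node (.node (.leaf []) (.leaf [])) (.node (.leaf [72]) (.leaf [384]))) (.node (.node (.leaf []) (.leaf [])) (.node (.leaf []) (.leaf [])))) (.node (.node (.node (.leaf []) (.leaf [])) (.node (.leaf [(-7689)])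 (.leaf []))) (.node (.node (.leaf []) (.leaf [])) (.leaf [3660])))))) (.node (.node (.node (.node (.node (.node (.leaf []) (.leaf [(-493)])) (.node (.leaf []) (.leaf []))) (.node (.node (.leaf []) (.leaf [27])) (.node (.leaf []) (.leaf [(-334)])))) (.node (.node (.node (.leaf []) (.leaf [31])) (.node (.leaf []) (.leaf [524]))) (.node (.node (.leaf []) (.leaf [(-260)])) (.node (.leaf [776]) (.leaf [406]))))) (.node (.node (.node (.node (.leaf []) (.leaf [])) (.node (.leaf []) (.leaf [432]))) (.node (.node (.leaf [(-244)]) (.leaf [(-24)])) (.node (.leaf []) (.leaf [])))) (.node (.node (.node (.leaf []) (.leaf [900])) (.node (.leaf []) (.leaf [7]))) (.node (.node (.leaf [9]) (.leaf [(-61)])) (.leaf [(-1)]))))) (.node (.node (.node (.node (.node (.leaf []) (.leaf [])) (.node (.leaf []) (.leaf [(-10)]))) (.node (.node (.leaf []) (.leaf [])) (.node (.leaf []) (.leaf [(-11)])))) (.node (.node (.node (.leaf []) (.leaf [])) (.node (.leaf []) (.leaf [688]))) (.node (.node (.leaf []) (.leaf [107])) (.leaf [])))) (.node (.node (.node (.node (.leaf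 []) (.leaf [(-326)])) (.node (.leaf [1860]) (.leaf []))) (.node (.node (.leaf [826]) (.leaf [])) (.node (.leaf [10754]) (.leaf [(-316)])))) (.node (.node (.node (.leaf []) (.leaf [])) (.node (.leaf []) (.leaf [(-11)]))) (.node (.node (.leaf []) (.leaf [(-13)])) (.leaf [(-960)]))))))) (.node (.node (.node (.node (.node (.node (.node (.leaf []) (.leaf [(-81)])) (.node (.leaf [(-2)]) (.leaf [(-228)]))) (.node (.node (.leaf []) (.leaf [7720])) (.node (.leaf []) (.leaf [(-161)])))) (.node (.node (.node (.leaf []) (.leaf [])) (.node (.leaf [(-2)]) (.leaf [(-5)]))) (.node (.node (.leaf []) (.leaf [])) (.node (.leaf []) (.leaf [53]))))) (.node (.node (.node (.node (.leaf []) (.leaf [(-107)])) (.node (.leaf []) (.leaf [(-70)]))) (.node (.node (.leaf []) (.leaf [(-224)])) (.node (.leaf [3096]) (.leaf [(-503)])))) (.node (.node (.node (.leaf []) (.leaf [])) (.node (.leaf [32]) (.leaf [782]))) (.node (.node (.leaf []) (.leaf [51])) (.leaf [456]))))) (.node (.node (.node (.node (.node (.leaf []) (.leaf [(-1240)])) (.node (.leaf []) (.leaf [610])))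 (.node (.node (.leaf [(-1)]) (.leaf [(-452)])) (.node (.leaf []) (.leaf [])))) (.node (.node (.node (.leaf []) (.leaf [(-1644)])) (.node (.leaf []) (.leaf []))) (.node (.node (.leaf []) (.leaf [59])) (.leaf [])))) (.node (.node (.node (.node (.leaf []) (.leaf [])) (.node (.leaf []) (.leaf [(-28)]))) (.node (.node (.leaf [10]) (.leaf [])) (.node (.leaf [8]) (.leaf [(-295)])))) (.node (.node (.node (.leaf []) (.leaf [])) (.node (.leaf []) (.leaf [(-196)]))) (.node (.node (.leaf [672]) (.leaf [468])) (.leaf [(-200)])))))) (.node (.node (.node (.node (.node (.node (.leaf []) (.leaf [(-333)])) (.node (.leaf []) (.leaf [110]))) (.node (.node (.leaf []) (.leaf [(-12)])) (.node (.leaf [6120]) (.leaf [84])))) (.node (.node (.node (.leaf []) (.leaf [768])) (.node (.leaf []) (.leaf [(-12)]))) (.node (.node (.leaf [(-24)]) (.leaf [1])) (.node (.leaf [1344]) (.leaf [3]))))) (.node (.node (.node (.node (.leaf []) (.leaf [])) (.node (.leaf [(-144)]) (.leaf [1]))) (.node (.node (.leaf []) (.leaf [])) (.node (.leaf [20]) (.leaf [6946])))) (.node (.node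 (.node (.leaf []) (.leaf [391])) (.node (.leaf []) (.leaf [(-572)]))) (.node (.node (.leaf []) (.leaf [(-115)])) (.leaf [(-12)]))))) (.node (.node (.node (.node (.node (.leaf []) (.leaf [])) (.node (.leaf []) (.leaf []))) (.node (.node (.leaf []) (.leaf [(-1016)])) (.node (.leaf []) (.leaf [])))) (.node (.node (.node (.leaf []) (.leaf [])) (.node (.leaf []) (.leaf []))) (.node (.node (.leaf []) (.leaf [])) (.leaf [11])))) (.node (.node (.node (.node (.leaf []) (.leaf [])) (.node (.leaf []) (.leaf [(-3639)]))) (.node (.node (.leaf []) (.leaf [])) (.node (.leaf []) (.leaf [155])))) (.node (.node (.node (.leaf []) (.leaf [])) (.node (.leaf []) (.leaf [(-61)]))) (.node (.node (.leaf [16]) (.leaf [25])) (.leaf [(-180)])))))))))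

def threeL5 : Janko.Tree (List ℤ) :=
  (.node (.node (.node (.node (.node (.node (.node (.node (.node (.leaf []) (.leaf [])) (.node (.leaf []) (.leaf [(-103)]))) (.node (.node (.leaf []) (.leaf [])) (.node (.leaf []) (.leaf [5])))) (.node (.node (.node (.leaf []) (.leaf [(-21)])) (.node (.leaf []) (.leaf [(-2757)]))) (.node (.node (.leaf []) (.leaf [135])) (.node (.leaf []) (.leaf [(-17)]))))) (.node (.node (.node (.node (.leaf []) (.leaf [])) (.node (.leaf []) (.leaf [(-73)]))) (.node (.node (.leaf []) (.leaf [(-619)])) (.node (.leaf [(-953)]) (.leaf [59])))) (.node (.node (.node (.leaf [4]) (.leaf [(-1)])) (.node (.leaf []) (.leaf [311]))) (.node (.node (.leaf []) (.leaf [])) (.leaf [51]))))) (.node (.node (.node (.node (.node (.leaf []) (.leaf [])) (.node (.leaf []) (.leaf []))) (.node (.node (.leaf []) (.leaf [])) (.node (.leaf []) (.leaf [(-5165)])))) (.node (.node (.node (.leaf []) (.leaf [35])) (.node (.leaf []) (.leaf [(-13)]))) (.node (.node (.leaf []) (.leaf [(-5)])) (.leaf [19])))) (.node (.node (.node (.node (.leaf []) (.leaf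 [])) (.node (.leaf []) (.leaf []))) (.node (.node (.leaf []) (.leaf [(-165)])) (.node (.leaf [(-1)]) (.leaf [1])))) (.node (.node (.node (.leaf []) (.leaf [(-149)])) (.node (.leaf []) (.leaf [(-3145)]))) (.node (.node (.leaf []) (.leaf [])) (.leaf [])))))) (.node (.node (.node (.node (.node (.node (.leaf []) (.leaf [22])) (.node (.leaf []) (.leaf [179]))) (.node (.node (.leaf []) (.leaf [615])) (.node (.leaf []) (.leaf [(-11)])))) (.node (.node (.node (.leaf []) (.leaf [503])) (.node (.leaf []) (.leaf [337]))) (.node (.node (.leaf []) (.leaf [(-1)])) (.node (.leaf [(-25)]) (.leaf [(-35)]))))) (.node (.node (.node (.node (.leaf []) (.leaf [3])) (.node (.leaf []) (.leaf [8559]))) (.node (.node (.leaf []) (.leaf [163])) (.node (.leaf [(-1)]) (.leaf [36])))) (.node (.node (.node (.leaf []) (.leaf [(-3)])) (.node (.leaf []) (.leaf [588]))) (.node (.node (.leaf []) (.leaf [(-310)])) (.leaf [(-1)]))))) (.node (.node (.node (.node (.node (.leaf []) (.leaf [317])) (.node (.leaf []) (.leaf [(-20)]))) (.node (.node (.leaf []) (.leaf [8])) (.node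 (.leaf []) (.leaf [])))) (.node (.node (.node (.leaf []) (.leaf [(-1)])) (.node (.leaf [(-8)]) (.leaf [(-643)]))) (.node (.node (.leaf [2]) (.leaf [(-99)])) (.leaf [376])))) (.node (.node (.node (.node (.leaf []) (.leaf [])) (.node (.leaf []) (.leaf [160]))) (.node (.node (.leaf []) (.leaf [])) (.node (.leaf []) (.leaf [(-2)])))) (.node (.node (.node (.leaf []) (.leaf [(-13)])) (.node (.leaf []) (.leaf [282]))) (.node (.node (.leaf []) (.leaf [434])) (.leaf []))))))) (.node (.node (.node (.node (.node (.node (.node (.leaf []) (.leaf [(-121)])) (.node (.leaf []) (.leaf [(-623)]))) (.node (.node (.leaf []) (.leaf [(-1401)])) (.node (.leaf []) (.leaf [(-2)])))) (.node (.node (.node (.leaf []) (.leaf [])) (.node (.leaf []) (.leaf [(-292)]))) (.node (.node (.leaf []) (.leaf [(-3)])) (.node (.leaf []) (.leaf [556]))))) (.node (.node (.node (.node (.leaf []) (.leaf [11])) (.node (.leaf []) (.leaf [(-9)]))) (.node (.node (.leaf []) (.leaf [])) (.node (.leaf []) (.leaf [79])))) (.node (.node (.node (.leaf []) (.leaf [])) (.node (.leaf []) (.leaf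 [155]))) (.node (.node (.leaf []) (.leaf [(-1970)])) (.leaf []))))) (.node (.node (.node (.node (.node (.leaf []) (.leaf [(-1369)])) (.node (.leaf []) (.leaf []))) (.node (.node (.leaf []) (.leaf [2439])) (.node (.leaf []) (.leaf [(-10)])))) (.node (.node (.node (.leaf []) (.leaf [(-1)])) (.node (.leaf []) (.leaf [(-1028)]))) (.node (.node (.leaf []) (.leaf [])) (.leaf [])))) (.node (.node (.node (.node (.leaf []) (.leaf [])) (.node (.leaf [1]) (.leaf [(-1453)]))) (.node (.node (.leaf []) (.leaf [])) (.node (.leaf [55]) (.leaf [(-3117)])))) (.node (.node (.node (.leaf []) (.leaf [(-4)])) (.node (.leaf []) (.leaf [(-773)]))) (.node (.node (.leaf []) (.leaf [11])) (.leaf [])))))) (.node (.node (.node (.node (.node (.node (.leaf []) (.leaf [])) (.node (.leaf []) (.leaf [454]))) (.node (.node (.leaf []) (.leaf [28])) (.node (.leaf []) (.leaf [])))) (.node (.node (.node (.leaf []) (.leaf [24])) (.node (.leaf []) (.leaf []))) (.node (.node (.leaf [122]) (.leaf [364])) (.node (.leaf []) (.leaf []))))) (.node (.node (.node (.node (.leaf []) (.leaf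 [460])) (.node (.leaf [2]) (.leaf [247]))) (.node (.node (.leaf []) (.leaf [(-8)])) (.node (.leaf [(-5)]) (.leaf [(-9)])))) (.node (.node (.node (.leaf []) (.leaf [(-13)])) (.node (.leaf []) (.leaf [(-24)]))) (.node (.node (.leaf []) (.leaf [922])) (.leaf []))))) (.node (.node (.node (.node (.node (.leaf []) (.leaf [])) (.node (.leaf []) (.leaf [(-11)]))) (.node (.node (.leaf []) (.leaf [(-1)])) (.node (.leaf []) (.leaf [(-364)])))) (.node (.node (.node (.leaf []) (.leaf [3])) (.node (.leaf []) (.leaf [(-232)]))) (.node (.node (.leaf []) (.leaf [(-418)])) (.leaf [])))) (.node (.node (.node (.node (.leaf []) (.leaf [])) (.node (.leaf []) (.leaf [(-7)]))) (.node (.node (.leaf []) (.leaf [])) (.node (.leaf [1759]) (.leaf [2699])))) (.node (.node (.node (.leaf []) (.leaf [291])) (.node (.leaf [(-1592)]) (.leaf [201]))) (.node (.node (.leaf [(-1)]) (.leaf [11])) (.leaf [27])))))))) (.node (.node (.node (.node (.node (.node (.node (.node (.leaf []) (.leaf [759])) (.node (.leaf []) (.leaf [(-265)]))) (.node (.node (.leaf [(-1)]) (.leaf [(-1)]))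 (.node (.leaf []) (.leaf [(-197)])))) (.node (.node (.node (.leaf []) (.leaf [])) (.node (.leaf []) (.leaf [(-6192)]))) (.node (.node (.leaf []) (.leaf [1015])) (.node (.leaf [22]) (.leaf [14]))))) (.node (.node (.node (.node (.leaf [(-1)]) (.leaf [])) (.node (.leaf []) (.leaf []))) (.node (.node (.leaf []) (.leaf [(-14)])) (.node (.leaf [(-4)]) (.leaf [11])))) (.node (.node (.node (.leaf []) (.leaf [(-21)])) (.node (.leaf [(-1)]) (.leaf [622]))) (.node (.node (.leaf []) (.leaf [22])) (.leaf [(-9)]))))) (.node (.node (.node (.node (.node (.leaf []) (.leaf [(-2483)])) (.node (.leaf [2]) (.leaf [225]))) (.node (.node (.leaf []) (.leaf [])) (.node (.leaf [(-13)]) (.leaf [(-2551)])))) (.node (.node (.node (.leaf []) (.leaf [])) (.node (.leaf []) (.leaf [(-14)]))) (.node (.node (.leaf []) (.leaf [])) (.leaf [3])))) (.node (.node (.node (.node (.leaf []) (.leaf [])) (.node (.leaf []) (.leaf []))) (.node (.node (.leaf []) (.leaf [(-5)])) (.node (.leaf []) (.leaf [(-7)])))) (.node (.node (.node (.leaf []) (.leaf [])) (.node (.leaf []) (.leaf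 [(-4)]))) (.node (.node (.leaf []) (.leaf [(-21)])) (.leaf [])))))) (.node (.node (.node (.node (.node (.node (.leaf []) (.leaf [50])) (.node (.leaf []) (.leaf []))) (.node (.node (.leaf []) (.leaf [403])) (.node (.leaf [15]) (.leaf [(-2)])))) (.node (.node (.node (.leaf []) (.leaf [])) (.node (.leaf []) (.leaf [51]))) (.node (.node (.leaf []) (.leaf [(-45)])) (.node (.leaf [(-109)]) (.leaf [(-603)]))))) (.node (.node (.node (.node (.leaf [4]) (.leaf [1466])) (.node (.leaf []) (.leaf [15]))) (.node (.node (.leaf []) (.leaf [2])) (.node (.leaf [(-1066)]) (.leaf [79])))) (.node (.node (.node (.leaf []) (.leaf [])) (.node (.leaf [1264]) (.leaf [14]))) (.node (.node (.leaf [147]) (.leaf [65])) (.leaf []))))) (.node (.node (.node (.node (.node (.leaf []) (.leaf [(-152)])) (.node (.leaf []) (.leaf [67]))) (.node (.node (.leaf []) (.leaf [18])) (.node (.leaf []) (.leaf [])))) (.node (.node (.node (.leaf []) (.leaf [])) (.node (.leaf []) (.leaf []))) (.node (.node (.leaf []) (.leaf [(-1498)])) (.leaf [7])))) (.node (.node (.node (.node (.leaf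 []) (.leaf [5])) (.node (.leaf []) (.leaf [2339]))) (.node (.node (.leaf []) (.leaf [(-4020)])) (.node (.leaf []) (.leaf [(-11)])))) (.node (.node (.node (.leaf []) (.leaf [])) (.node (.leaf []) (.leaf [(-8)]))) (.node (.node (.leaf []) (.leaf [(-21)])) (.leaf [(-1472)]))))))) (.node (.node (.node (.node (.node (.node (.node (.leaf []) (.leaf [3923])) (.node (.leaf []) (.leaf []))) (.node (.node (.leaf []) (.leaf [])) (.node (.leaf []) (.leaf [])))) (.node (.node (.node (.leaf []) (.leaf [154])) (.node (.leaf []) (.leaf []))) (.node (.node (.leaf []) (.leaf [352])) (.node (.leaf []) (.leaf [379]))))) (.node (.node (.node (.node (.leaf []) (.leaf [])) (.node (.leaf []) (.leaf [(-106)]))) (.node (.node (.leaf [1]) (.leaf [(-505)])) (.node (.leaf [(-2265)]) (.leaf [(-677)])))) (.node (.node (.node (.leaf []) (.leaf [10])) (.node (.leaf [(-120)]) (.leaf [310]))) (.node (.node (.leaf [47]) (.leaf [51])) (.leaf [207]))))) (.node (.node (.node (.node (.node (.leaf []) (.leaf [(-1824)])) (.node (.leaf [(-1)]) (.leaf []))) (.node (.node (.leaf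 []) (.leaf [(-13)])) (.node (.leaf [(-14)]) (.leaf [(-201)])))) (.node (.node (.node (.leaf [(-1)]) (.leaf [])) (.node (.leaf [(-884)]) (.leaf [406]))) (.node (.node (.leaf [335]) (.leaf [(-17)])) (.leaf [])))) (.node (.node (.node (.node (.leaf []) (.leaf [134])) (.node (.leaf []) (.leaf [159]))) (.node (.node (.leaf []) (.leaf [(-1)])) (.node (.leaf [(-5)]) (.leaf [(-601)])))) (.node (.node (.node (.leaf []) (.leaf [])) (.node (.leaf [(-1)]) (.leaf [(-384)]))) (.node (.node (.leaf []) (.leaf [])) (.leaf [70])))))) (.node (.node (.node (.node (.node (.node (.leaf []) (.leaf [])) (.node (.leaf []) (.leaf [35]))) (.node (.node (.leaf []) (.leaf [(-1)])) (.node (.leaf [5]) (.leaf [103])))) (.node (.node (.node (.leaf []) (.leaf [27])) (.node (.leaf [(-443)]) (.leaf [(-17)]))) (.node (.node (.leaf []) (.leaf [10724])) (.node (.leaf [(-74)]) (.leaf [(-1)]))))) (.node (.node (.node (.node (.leaf []) (.leaf [(-93)])) (.node (.leaf [15]) (.leaf [(-1)]))) (.node (.node (.leaf [(-13)]) (.leaf [16])) (.node (.leaf [(-13)]) (.leaf [4182])))) (.node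 (.node (.node (.leaf []) (.leaf [(-13)])) (.node (.leaf []) (.leaf [5883]))) (.node (.node (.leaf []) (.leaf [(-125)])) (.leaf [2]))))) (.node (.node (.node (.node (.node (.leaf []) (.leaf [])) (.node (.leaf []) (.leaf []))) (.node (.node (.leaf []) (.leaf [])) (.node (.leaf []) (.leaf [335])))) (.node (.node (.node (.leaf [640]) (.leaf [(-2)])) (.node (.leaf []) (.leaf [3]))) (.node (.node (.leaf [(-5)]) (.leaf [(-658)])) (.leaf [])))) (.node (.node (.node (.node (.leaf []) (.leaf [59])) (.node (.leaf [(-9)]) (.leaf [(-2581)]))) (.node (.node (.leaf []) (.leaf [(-336)])) (.node (.leaf [3]) (.leaf [249])))) (.node (.node (.node (.leaf []) (.leaf [3])) (.node (.leaf [(-20)]) (.leaf [(-14)]))) (.node (.node (.leaf []) (.leaf [])) (.leaf [851])))))))))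

def threeL6 : Janko.Tree (List ℤ) :=
  (.node (.node (.node (.node (.node (.node (.node (.node (.node (.leaf []) (.leaf [])) (.node (.leaf []) (.leaf [64]))) (.node (.node (.leaf [60]) (.leaf [11])) (.node (.leaf []) (.leaf [(-1)])))) (.node (.node (.node (.leaf []) (.leaf [])) (.node (.leaf [3]) (.leaf [(-3)]))) (.node (.node (.leaf []) (.leaf [])) (.node (.leaf []) (.leaf []))))) (.node (.node (.node (.node (.leaf []) (.leaf [])) (.node (.leaf [24]) (.leaf []))) (.node (.node (.leaf []) (.leaf [])) (.node (.leaf [(-337)]) (.leaf [88])))) (.node (.node (.node (.leaf []) (.leaf [(-1593)])) (.node (.leaf [(-2)]) (.leaf []))) (.node (.node (.leaf []) (.leaf [])) (.leaf [(-20)]))))) (.node (.node (.node (.node (.node (.leaf []) (.leaf [12])) (.node (.leaf []) (.leaf [(-1558)]))) (.node (.node (.leaf []) (.leaf [])) (.node (.leaf [(-108)]) (.leaf [81])))) (.node (.node (.node (.leaf []) (.leaf [])) (.node (.leaf []) (.leaf []))) (.node (.node (.leaf [(-108)]) (.leaf [8])) (.leaf [315])))) (.node (.node (.node (.node (.leaf []) (.leaf []))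 (.node (.leaf []) (.leaf []))) (.node (.node (.leaf []) (.leaf [720])) (.node (.leaf [(-516)]) (.leaf [])))) (.node (.node (.node (.leaf []) (.leaf [(-14)])) (.node (.leaf []) (.leaf [16]))) (.node (.node (.leaf []) (.leaf [(-2211)])) (.leaf [])))))) (.node (.node (.node (.node (.node (.node (.leaf []) (.leaf [376])) (.node (.leaf []) (.leaf []))) (.node (.node (.leaf []) (.leaf [(-2)])) (.node (.leaf []) (.leaf [10])))) (.node (.node (.node (.leaf []) (.leaf [(-25)])) (.node (.leaf []) (.leaf []))) (.node (.node (.leaf []) (.leaf [163])) (.node (.leaf []) (.leaf [661]))))) (.node (.node (.node (.node (.leaf []) (.leaf [])) (.node (.leaf []) (.leaf [3]))) (.node (.node (.leaf []) (.leaf [8])) (.node (.leaf []) (.leaf [(-47)])))) (.node (.node (.node (.leaf []) (.leaf [])) (.node (.leaf []) (.leaf [(-72)]))) (.node (.node (.leaf []) (.leaf [(-93)])) (.leaf [342]))))) (.node (.node (.node (.node (.node (.leaf []) (.leaf [(-263)])) (.node (.leaf []) (.leaf [(-606)]))) (.node (.node (.leaf []) (.leaf [])) (.node (.leaf []) (.leaf [(-599)]))))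 (.node (.node (.node (.leaf []) (.leaf [(-120)])) (.node (.leaf []) (.leaf []))) (.node (.node (.leaf []) (.leaf [(-1)])) (.leaf [])))) (.node (.node (.node (.node (.leaf []) (.leaf [])) (.node (.leaf [(-52)]) (.leaf []))) (.node (.node (.leaf []) (.leaf [])) (.node (.leaf [(-2)]) (.leaf [822])))) (.node (.node (.node (.leaf []) (.leaf [(-11)])) (.node (.leaf []) (.leaf [(-200)]))) (.node (.node (.leaf []) (.leaf [])) (.leaf []))))))) (.node (.node (.node (.node (.node (.node (.node (.leaf []) (.leaf [(-608)])) (.node (.leaf []) (.leaf []))) (.node (.node (.leaf []) (.leaf [12])) (.node (.leaf []) (.leaf [17])))) (.node (.node (.node (.leaf []) (.leaf [(-28)])) (.node (.leaf []) (.leaf []))) (.node (.node (.leaf []) (.leaf [])) (.node (.leaf []) (.leaf [(-1343)]))))) (.node (.node (.node (.node (.leaf []) (.leaf [264])) (.node (.leaf [11]) (.leaf [(-320)]))) (.node (.node (.leaf []) (.leaf [])) (.node (.leaf [(-876)]) (.leaf [(-179)])))) (.node (.node (.node (.leaf []) (.leaf [])) (.node (.leaf []) (.leaf [3]))) (.node (.node (.leaf [])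 (.leaf [(-316)])) (.leaf [3]))))) (.node (.node (.node (.node (.node (.leaf []) (.leaf [])) (.node (.leaf []) (.leaf [220]))) (.node (.node (.leaf []) (.leaf [])) (.node (.leaf [(-1260)]) (.leaf [4])))) (.node (.node (.node (.leaf []) (.leaf [])) (.node (.leaf []) (.leaf []))) (.node (.node (.leaf []) (.leaf [448])) (.leaf [(-808)])))) (.node (.node (.node (.node (.leaf [(-1476)]) (.leaf [])) (.node (.leaf []) (.leaf [(-464)]))) (.node (.node (.leaf []) (.leaf [(-68)])) (.node (.leaf []) (.leaf [(-245)])))) (.node (.node (.node (.leaf []) (.leaf [(-16)])) (.node (.leaf []) (.leaf [20]))) (.node (.node (.leaf []) (.leaf [(-3)])) (.leaf [])))))) (.node (.node (.node (.node (.node (.node (.leaf []) (.leaf [])) (.node (.leaf [(-5930)]) (.leaf [17]))) (.node (.node (.leaf []) (.leaf [])) (.node (.leaf []) (.leaf [346])))) (.node (.node (.node (.leaf []) (.leaf [(-8)])) (.node (.leaf []) (.leaf [(-204)]))) (.node (.node (.leaf []) (.leaf [])) (.node (.leaf []) (.leaf [4]))))) (.node (.node (.node (.node (.leaf []) (.leaf [])) (.node (.leaf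 [40]) (.leaf [1]))) (.node (.node (.leaf []) (.leaf [16])) (.node (.leaf []) (.leaf [(-168)])))) (.node (.node (.node (.leaf []) (.leaf [])) (.node (.leaf []) (.leaf []))) (.node (.node (.leaf []) (.leaf [(-204)])) (.leaf [(-68)]))))) (.node (.node (.node (.node (.node (.leaf []) (.leaf [])) (.node (.leaf []) (.leaf [644]))) (.node (.node (.leaf [12]) (.leaf [])) (.node (.leaf []) (.leaf [1488])))) (.node (.node (.node (.leaf []) (.leaf [])) (.node (.leaf []) (.leaf [(-68)]))) (.node (.node (.leaf []) (.leaf [])) (.leaf [])))) (.node (.node (.node (.node (.leaf []) (.leaf [])) (.node (.leaf [1111]) (.leaf []))) (.node (.node (.leaf []) (.leaf [576])) (.node (.leaf []) (.leaf [1052])))) (.node (.node (.node (.leaf []) (.leaf [(-58)])) (.node (.leaf []) (.leaf [(-2648)]))) (.node (.node (.leaf []) (.leaf [1259])) (.leaf [(-105)])))))))) (.node (.node (.node (.node (.node (.node (.node (.node (.leaf []) (.leaf [(-964)])) (.node (.leaf []) (.leaf [(-19)]))) (.node (.node (.leaf []) (.leaf [])) (.node (.leaf []) (.leaf [(-642)])))) (.node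 (.node (.node (.leaf []) (.leaf [2822])) (.node (.leaf []) (.leaf [1197]))) (.node (.node (.leaf [422]) (.leaf [])) (.node (.leaf [8184]) (.leaf [(-1290)]))))) (.node (.node (.node (.node (.leaf []) (.leaf [682])) (.node (.leaf []) (.leaf [21]))) (.node (.node (.leaf []) (.leaf [(-465)])) (.node (.leaf [2104]) (.leaf [(-311)])))) (.node (.node (.node (.leaf []) (.leaf [(-8804)])) (.node (.leaf []) (.leaf [927]))) (.node (.node (.leaf []) (.leaf [867])) (.leaf []))))) (.node (.node (.node (.node (.node (.leaf []) (.leaf [22])) (.node (.leaf []) (.leaf [(-215)]))) (.node (.node (.leaf []) (.leaf [])) (.node (.leaf []) (.leaf [(-3036)])))) (.node (.node (.node (.leaf []) (.leaf [])) (.node (.leaf []) (.leaf [516]))) (.node (.node (.leaf []) (.leaf [344])) (.leaf [])))) (.node (.node (.node (.node (.leaf []) (.leaf [])) (.node (.leaf []) (.leaf []))) (.node (.node (.leaf []) (.leaf [])) (.node (.leaf []) (.leaf [(-20)])))) (.node (.node (.node (.leaf []) (.leaf [(-940)])) (.node (.leaf []) (.leaf []))) (.node (.node (.leaf []) (.leaf [822]))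 (.leaf [])))))) (.node (.node (.node (.node (.node (.node (.leaf []) (.leaf [6243])) (.node (.leaf []) (.leaf []))) (.node (.node (.leaf []) (.leaf [(-545)])) (.node (.leaf []) (.leaf [(-939)])))) (.node (.node (.node (.leaf []) (.leaf [])) (.node (.leaf []) (.leaf []))) (.node (.node (.leaf []) (.leaf [2138])) (.node (.leaf []) (.leaf [660]))))) (.node (.node (.node (.node (.leaf []) (.leaf [])) (.node (.leaf []) (.leaf [(-1164)]))) (.node (.node (.leaf []) (.leaf [815])) (.node (.leaf [(-480)]) (.leaf [209])))) (.node (.node (.node (.leaf []) (.leaf [])) (.node (.leaf [(-35)]) (.leaf [1]))) (.node (.node (.leaf [(-16)]) (.leaf [10])) (.leaf []))))) (.node (.node (.node (.node (.node (.leaf []) (.leaf [13])) (.node (.leaf []) (.leaf []))) (.node (.node (.leaf [8]) (.leaf [])) (.node (.leaf []) (.leaf [])))) (.node (.node (.node (.leaf []) (.leaf [])) (.node (.leaf [(-3991)]) (.leaf [13]))) (.node (.node (.leaf []) (.leaf [])) (.leaf [60])))) (.node (.node (.node (.node (.leaf []) (.leaf [])) (.node (.leaf []) (.leaf []))) (.node (.node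 (.leaf []) (.leaf [(-908)])) (.node (.leaf [(-9)]) (.leaf [])))) (.node (.node (.node (.leaf []) (.leaf [])) (.node (.leaf []) (.leaf [545]))) (.node (.node (.leaf []) (.leaf [])) (.leaf [652]))))))) (.node (.node (.node (.node (.node (.node (.node (.leaf []) (.leaf [])) (.node (.leaf []) (.leaf [(-819)]))) (.node (.node (.leaf []) (.leaf [339])) (.node (.leaf []) (.leaf [(-322)])))) (.node (.node (.node (.leaf []) (.leaf [])) (.node (.leaf []) (.leaf []))) (.node (.node (.leaf []) (.leaf [(-2324)])) (.node (.leaf []) (.leaf [133]))))) (.node (.node (.node (.node (.leaf []) (.leaf [])) (.node (.leaf []) (.leaf [(-20)]))) (.node (.node (.leaf []) (.leaf [])) (.node (.leaf []) (.leaf [56])))) (.node (.node (.node (.leaf []) (.leaf [(-12)])) (.node (.leaf []) (.leaf [(-14)]))) (.node (.node (.leaf []) (.leaf [7])) (.leaf [(-2)]))))) (.node (.node (.node (.node (.node (.leaf []) (.leaf [])) (.node (.leaf [12]) (.leaf [(-10)]))) (.node (.node (.leaf []) (.leaf [])) (.node (.leaf []) (.leaf [])))) (.node (.node (.node (.leaf [12]) (.leaf [(-7)]))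 (.node (.leaf []) (.leaf [(-41)]))) (.node (.node (.leaf []) (.leaf [207])) (.leaf [])))) (.node (.node (.node (.node (.leaf []) (.leaf [])) (.node (.leaf []) (.leaf [213]))) (.node (.node (.leaf []) (.leaf [(-808)])) (.node (.leaf []) (.leaf [(-20)])))) (.node (.node (.node (.leaf []) (.leaf [7584])) (.node (.leaf []) (.leaf [145]))) (.node (.node (.leaf []) (.leaf [(-3)])) (.leaf [])))))) (.node (.node (.node (.node (.node (.node (.leaf []) (.leaf [26])) (.node (.leaf []) (.leaf [34]))) (.node (.node (.leaf []) (.leaf [(-25)])) (.node (.leaf []) (.leaf [1])))) (.node (.node (.node (.leaf []) (.leaf [(-20)])) (.node (.leaf []) (.leaf [(-11)]))) (.node (.node (.leaf []) (.leaf [(-140)])) (.leaf [])))) (.node (.node (.node (.node (.leaf []) (.leaf [])) (.node (.leaf [4]) (.leaf [4]))) (.node (.node (.leaf []) (.leaf [])) (.node (.leaf []) (.leaf [])))) (.node (.node (.node (.leaf []) (.leaf [])) (.node (.leaf []) (.leaf []))) (.node (.node (.leaf []) (.leaf [])) (.leaf []))))) (.node (.node (.node (.node (.node (.leaf []) (.leaf [])) (.node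 (.leaf []) (.leaf [22]))) (.node (.node (.leaf []) (.leaf [])) (.node (.leaf []) (.leaf [369])))) (.node (.node (.node (.leaf []) (.leaf [])) (.node (.leaf []) (.leaf [356]))) (.node (.node (.leaf []) (.leaf [927])) (.leaf [12])))) (.node (.node (.node (.node (.leaf [1]) (.leaf [(-15)])) (.node (.leaf [7]) (.leaf [693]))) (.node (.node (.leaf []) (.leaf [(-353)])) (.node (.leaf [(-118)]) (.leaf [2])))) (.node (.node (.node (.leaf [(-1152)]) (.leaf [(-8)])) (.node (.leaf []) (.leaf [(-7)]))) (.node (.node (.leaf []) (.leaf [])) (.leaf [])))))))))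

def threeL7 : Janko.Tree (List ℤ) :=
  (.node (.node (.node (.node (.node (.node (.node (.node (.node (.leaf []) (.leaf [(-1)])) (.node (.leaf []) (.leaf [(-1)]))) (.node (.node (.leaf []) (.leaf [(-3846)])) (.node (.leaf []) (.leaf [(-21)])))) (.node (.node (.node (.leaf []) (.leaf [])) (.node (.leaf []) (.leaf [7]))) (.node (.node (.leaf []) (.leaf [(-470)])) (.node (.leaf [412]) (.leaf [(-41)]))))) (.node (.node (.node (.node (.leaf []) (.leaf [])) (.node (.leaf []) (.leaf []))) (.node (.node (.leaf [(-8309)]) (.leaf [508])) (.node (.leaf []) (.leaf [31])))) (.node (.node (.node (.leaf []) (.leaf [22])) (.node (.leaf [(-39)]) (.leaf [(-1)]))) (.node (.node (.leaf []) (.leaf [(-188)])) (.leaf [(-28)]))))) (.node (.node (.node (.node (.node (.leaf []) (.leaf [(-3)])) (.node (.leaf []) (.leaf [(-1406)]))) (.node (.node (.leaf [(-2)]) (.leaf [7])) (.node (.leaf []) (.leaf [(-577)])))) (.node (.node (.node (.leaf []) (.leaf [(-425)])) (.node (.leaf []) (.leaf [1299]))) (.node (.node (.leaf []) (.leaf [(-6)])) (.leaf [(-145)])))) (.node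 (.node (.node (.node (.leaf []) (.leaf [27])) (.node (.leaf [7]) (.leaf [(-5)]))) (.node (.node (.leaf [3]) (.leaf [(-104)])) (.node (.leaf [(-21)]) (.leaf [3])))) (.node (.node (.node (.leaf []) (.leaf [])) (.node (.leaf []) (.leaf [(-1)]))) (.node (.node (.leaf []) (.leaf [686])) (.leaf [(-5)])))))) (.node (.node (.node (.node (.node (.node (.leaf []) (.leaf [])) (.node (.leaf []) (.leaf []))) (.node (.node (.leaf []) (.leaf [(-261)])) (.node (.leaf []) (.leaf [])))) (.node (.node (.node (.leaf []) (.leaf [])) (.node (.leaf []) (.leaf [7]))) (.node (.node (.leaf []) (.leaf [35])) (.node (.leaf []) (.leaf [514]))))) (.node (.node (.node (.node (.leaf []) (.leaf [(-365)])) (.node (.leaf []) (.leaf [1271]))) (.node (.node (.leaf [3]) (.leaf [3])) (.node (.leaf [4]) (.leaf [51])))) (.node (.node (.node (.leaf []) (.leaf [])) (.node (.leaf []) (.leaf [3]))) (.node (.node (.leaf []) (.leaf [])) (.leaf []))))) (.node (.node (.node (.node (.node (.leaf []) (.leaf [])) (.node (.leaf []) (.leaf []))) (.node (.node (.leaf []) (.leaf [(-37)]))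 (.node (.leaf [16]) (.leaf [(-205)])))) (.node (.node (.node (.leaf []) (.leaf [111])) (.node (.leaf []) (.leaf [(-1893)]))) (.node (.node (.leaf []) (.leaf [])) (.leaf [296])))) (.node (.node (.node (.node (.leaf []) (.leaf [2])) (.node (.leaf []) (.leaf [(-1)]))) (.node (.node (.leaf [832]) (.leaf [])) (.node (.leaf []) (.leaf [37])))) (.node (.node (.node (.leaf []) (.leaf [])) (.node (.leaf [(-2)]) (.leaf [10]))) (.node (.node (.leaf []) (.leaf [211])) (.leaf []))))))) (.node (.node (.node (.node (.node (.node (.node (.leaf []) (.leaf [])) (.node (.leaf [4]) (.leaf [(-5)]))) (.node (.node (.leaf []) (.leaf [207])) (.node (.leaf []) (.leaf [50])))) (.node (.node (.node (.leaf []) (.leaf [])) (.node (.leaf [(-176)]) (.leaf [9]))) (.node (.node (.leaf []) (.leaf [])) (.node (.leaf []) (.leaf [(-521)]))))) (.node (.node (.node (.node (.leaf []) (.leaf [])) (.node (.leaf [127]) (.leaf []))) (.node (.node (.leaf [(-82)]) (.leaf [])) (.node (.leaf []) (.leaf [])))) (.node (.node (.node (.leaf []) (.leaf [687])) (.node (.leaf []) (.leaf [(-873)])))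 (.node (.node (.leaf []) (.leaf [])) (.leaf []))))) (.node (.node (.node (.node (.node (.leaf []) (.leaf [])) (.node (.leaf []) (.leaf [142]))) (.node (.node (.leaf []) (.leaf [23])) (.node (.leaf [3]) (.leaf [(-46)])))) (.node (.node (.node (.leaf []) (.leaf [3])) (.node (.leaf []) (.leaf [(-980)]))) (.node (.node (.leaf []) (.leaf [7])) (.leaf [])))) (.node (.node (.node (.node (.leaf []) (.leaf [])) (.node (.leaf [(-1)]) (.leaf [(-13)]))) (.node (.node (.leaf []) (.leaf [9])) (.node (.leaf []) (.leaf [(-1318)])))) (.node (.node (.node (.leaf []) (.leaf [(-33)])) (.node (.leaf []) (.leaf [1]))) (.node (.node (.leaf []) (.leaf [])) (.leaf [])))))) (.node (.node (.node (.node (.node (.node (.leaf []) (.leaf [])) (.node (.leaf []) (.leaf [1027]))) (.node (.node (.leaf []) (.leaf [])) (.node (.leaf [2]) (.leaf [])))) (.node (.node (.node (.leaf []) (.leaf [(-1)])) (.node (.leaf []) (.leaf [(-297)]))) (.node (.node (.leaf []) (.leaf [(-3657)])) (.node (.leaf [712]) (.leaf [(-4)]))))) (.node (.node (.node (.node (.leaf []) (.leaf [])) (.node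 (.leaf [(-1)]) (.leaf [76]))) (.node (.node (.leaf []) (.leaf [(-1)])) (.node (.leaf [10]) (.leaf [475])))) (.node (.node (.node (.leaf []) (.leaf [])) (.node (.leaf []) (.leaf [15]))) (.node (.node (.leaf []) (.leaf [])) (.leaf []))))) (.node (.node (.node (.node (.node (.leaf []) (.leaf [])) (.node (.leaf []) (.leaf [867]))) (.node (.node (.leaf []) (.leaf [])) (.node (.leaf [(-2)]) (.leaf [1019])))) (.node (.node (.node (.leaf [(-10)]) (.leaf [16])) (.node (.leaf []) (.leaf [1155]))) (.node (.node (.leaf []) (.leaf [(-176)])) (.leaf [3])))) (.node (.node (.node (.node (.leaf []) (.leaf [])) (.node (.leaf [(-13)]) (.leaf []))) (.node (.node (.leaf []) (.leaf [91])) (.node (.leaf []) (.leaf [167])))) (.node (.node (.node (.leaf [2]) (.leaf [7])) (.node (.leaf [(-1)]) (.leaf [(-2504)]))) (.node (.node (.leaf []) (.leaf [])) (.leaf [])))))))) (.node (.node (.node (.node (.node (.node (.node (.node (.leaf []) (.leaf [])) (.node (.leaf [4]) (.leaf [23]))) (.node (.node (.leaf []) (.leaf [(-1452)])) (.node (.leaf []) (.leaf [(-275)])))) (.node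 (.node (.node (.leaf []) (.leaf [])) (.node (.leaf [(-1508)]) (.leaf [1048]))) (.node (.node (.leaf []) (.leaf [(-2)])) (.node (.leaf [2]) (.leaf [(-195)]))))) (.node (.node (.node (.node (.leaf []) (.leaf [])) (.node (.leaf [4]) (.leaf [163]))) (.node (.node (.leaf [235]) (.leaf [(-15)])) (.node (.leaf []) (.leaf [(-300)])))) (.node (.node (.node (.leaf []) (.leaf [])) (.node (.leaf [228]) (.leaf [(-93)]))) (.node (.node (.leaf []) (.leaf [(-282)])) (.leaf [24]))))) (.node (.node (.node (.node (.node (.leaf []) (.leaf [(-51)])) (.node (.leaf [1143]) (.leaf [(-84)]))) (.node (.node (.leaf []) (.leaf [(-33)])) (.node (.leaf []) (.leaf [(-1367)])))) (.node (.node (.node (.leaf []) (.leaf [])) (.node (.leaf []) (.leaf [(-1506)]))) (.node (.node (.leaf [(-1)]) (.leaf [1])) (.leaf [(-2)])))) (.node (.node (.node (.node (.leaf []) (.leaf [])) (.node (.leaf []) (.leaf [(-1173)]))) (.node (.node (.leaf [7]) (.leaf [(-1)])) (.node (.leaf [1407]) (.leaf [346])))) (.node (.node (.node (.leaf []) (.leaf [(-1)])) (.node (.leaf []) (.leaf [16]))) (.node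 (.node (.leaf [20]) (.leaf [])) (.leaf [])))))) (.node (.node (.node (.node (.node (.node (.leaf []) (.leaf [])) (.node (.leaf []) (.leaf [(-1544)]))) (.node (.node (.leaf []) (.leaf [])) (.node (.leaf []) (.leaf [])))) (.node (.node (.node (.leaf []) (.leaf [])) (.node (.leaf []) (.leaf [(-13)]))) (.node (.node (.leaf []) (.leaf [])) (.node (.leaf [4]) (.leaf [667]))))) (.node (.node (.node (.node (.leaf []) (.leaf [(-37)])) (.node (.leaf []) (.leaf [855]))) (.node (.node (.leaf []) (.leaf [])) (.node (.leaf [(-11)]) (.leaf [(-89)])))) (.node (.node (.node (.leaf []) (.leaf [])) (.node (.leaf []) (.leaf [(-359)]))) (.node (.node (.leaf []) (.leaf [13])) (.leaf [(-356)]))))) (.node (.node (.node (.node (.node (.leaf []) (.leaf [])) (.node (.leaf []) (.leaf []))) (.node (.node (.leaf []) (.leaf [(-1)])) (.node (.leaf []) (.leaf [11])))) (.node (.node (.node (.leaf []) (.leaf [15])) (.node (.leaf [7]) (.leaf [(-24)]))) (.node (.node (.leaf []) (.leaf [827])) (.leaf [13])))) (.node (.node (.node (.node (.leaf []) (.leaf [(-33)])) (.node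 (.leaf []) (.leaf [(-9)]))) (.node (.node (.leaf [(-1)]) (.leaf [2])) (.node (.leaf []) (.leaf [(-372)])))) (.node (.node (.node (.leaf []) (.leaf [388])) (.node (.leaf []) (.leaf [832]))) (.node (.node (.leaf []) (.leaf [3])) (.leaf [266]))))))) (.node (.node (.node (.node (.node (.node (.node (.leaf []) (.leaf [])) (.node (.leaf [(-1)]) (.leaf [(-217)]))) (.node (.node (.leaf []) (.leaf [])) (.node (.leaf []) (.leaf [561])))) (.node (.node (.node (.leaf []) (.leaf [])) (.node (.leaf [143]) (.leaf [3]))) (.node (.node (.leaf []) (.leaf [(-1464)])) (.node (.leaf []) (.leaf [(-1053)]))))) (.node (.node (.node (.node (.leaf []) (.leaf [(-9)])) (.node (.leaf []) (.leaf [(-346)]))) (.node (.node (.leaf [(-1)]) (.leaf [(-432)])) (.node (.leaf []) (.leaf [(-117)])))) (.node (.node (.node (.leaf []) (.leaf [(-1006)])) (.node (.leaf []) (.leaf [(-111)]))) (.node (.node (.leaf []) (.leaf [(-14)])) (.leaf [3]))))) (.node (.node (.node (.node (.node (.leaf []) (.leaf [])) (.node (.leaf []) (.leaf []))) (.node (.node (.leaf []) (.leaf [4])) (.node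 (.leaf []) (.leaf [27])))) (.node (.node (.node (.leaf []) (.leaf [])) (.node (.leaf []) (.leaf [(-85)]))) (.node (.node (.leaf []) (.leaf [2])) (.leaf [])))) (.node (.node (.node (.node (.leaf []) (.leaf [3])) (.node (.leaf [(-161)]) (.leaf [44]))) (.node (.node (.leaf [(-368)]) (.leaf [])) (.node (.leaf [(-1)]) (.leaf [(-9)])))) (.node (.node (.node (.leaf []) (.leaf [(-24)])) (.node (.leaf []) (.leaf [(-20)]))) (.node (.node (.leaf []) (.leaf [10])) (.leaf [23])))))) (.node (.node (.node (.node (.node (.node (.leaf []) (.leaf [])) (.node (.leaf []) (.leaf [(-31)]))) (.node (.node (.leaf []) (.leaf [(-178)])) (.node (.leaf [(-9)]) (.leaf [(-297)])))) (.node (.node (.node (.leaf [2]) (.leaf [(-1)])) (.node (.leaf [311]) (.leaf []))) (.node (.node (.leaf []) (.leaf [])) (.leaf [(-689)])))) (.node (.node (.node (.node (.leaf []) (.leaf [])) (.node (.leaf []) (.leaf []))) (.node (.node (.leaf []) (.leaf [(-833)])) (.node (.leaf []) (.leaf [(-5632)])))) (.node (.node (.node (.leaf []) (.leaf [760])) (.node (.leaf []) (.leaf [416]))) (.node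 (.node (.leaf [(-56)]) (.leaf [(-705)])) (.leaf []))))) (.node (.node (.node (.node (.node (.leaf []) (.leaf [347])) (.node (.leaf []) (.leaf [576]))) (.node (.node (.leaf []) (.leaf [(-1)])) (.node (.leaf [347]) (.leaf [(-6)])))) (.node (.node (.node (.leaf []) (.leaf [148])) (.node (.leaf []) (.leaf [(-10)]))) (.node (.node (.leaf []) (.leaf [(-754)])) (.leaf [])))) (.node (.node (.node (.node (.leaf []) (.leaf [])) (.node (.leaf []) (.leaf []))) (.node (.node (.leaf []) (.leaf [(-3625)])) (.node (.leaf []) (.leaf [(-1025)])))) (.node (.node (.node (.leaf []) (.leaf [])) (.node (.leaf []) (.leaf [(-4)]))) (.node (.node (.leaf [(-2)]) (.leaf [(-118)])) (.leaf [599])))))))))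

def threeL : Janko.Tree (List ℤ) := (.node (.node (.node threeL0 threeL4) (.node threeL2 threeL6)) (.node (.node threeL1 threeL5) (.node threeL3 threeL7)))

def threeKind0 : Janko.Tree (ℕ) :=
  (.node (.node (.node (.node (.node (.node (.node (.node (.node (.leaf 0) (.leaf 3)) (.node (.leaf 0) (.leaf 3))) (.node (.node (.leaf 0) (.leaf 3)) (.node (.leaf 0) (.leaf 3)))) (.node (.node (.node (.leaf 0) (.leaf 0)) (.node (.leaf 3) (.leaf 3))) (.node (.node (.leaf 0) (.leaf 0)) (.node (.leaf 0) (.leaf 3))))) (.node (.node (.node (.node (.leaf 0) (.leaf 0)) (.node (.leaf 0) (.leaf 3))) (.node (.node (.leaf 0) (.leaf 3)) (.node (.leaf 3) (.leaf 3)))) (.node (.node (.node (.leaf 0) (.leaf 0)) (.node (.leaf 3) (.leaf 3))) (.node (.node (.leaf 3) (.leaf 3)) (.leaf 0))))) (.node (.node (.node (.node (.node (.leaf 0) (.leaf 0)) (.node (.leaf 0) (.leaf 0))) (.node (.node (.leaf 0) (.leaf 3)) (.node (.leaf 3) (.leaf 3)))) (.node (.node (.node (.leaf 0) (.leaf 3)) (.node (.leaf 0) (.leaf 0))) (.node (.node (.leaf 3) (.leaf 0)) (.leaf 3)))) (.node (.node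 (.node (.node (.leaf 0) (.leaf 0)) (.node (.leaf 3) (.leaf 3))) (.node (.node (.leaf 0) (.leaf 0)) (.node (.leaf 3) (.leaf 3)))) (.node (.node (.node (.leaf 0) (.leaf 3)) (.node (.leaf 0) (.leaf 3))) (.node (.node (.leaf 0) (.leaf 0)) (.leaf 0)))))) (.node (.node (.node (.node (.node (.node (.leaf 0) (.leaf 3)) (.node (.leaf 0) (.leaf 0))) (.node (.node (.leaf 3) (.leaf 3)) (.node (.leaf 0) (.leaf 3)))) (.node (.node (.node (.leaf 0) (.leaf 0)) (.node (.leaf 3) (.leaf 3))) (.node (.node (.leaf 0) (.leaf 3)) (.node (.leaf 3) (.leaf 3))))) (.node (.node (.node (.node (.leaf 0) (.leaf 3)) (.node (.leaf 0) (.leaf 3))) (.node (.node (.leaf 0) (.leaf 3)) (.node (.leaf 3) (.leaf 3)))) (.node (.node (.node (.leaf 3) (.leaf 3)) (.node (.leaf 0) (.leaf 3))) (.node (.node (.leaf 0) (.leaf 3)) (.leaf 3))))) (.node (.node (.node (.node (.node (.leaf 0) (.leaf 0)) (.node (.leaf 3) (.leaf 3))) (.node (.node (.leaf 3) (.leaf 3)) (.node (.leaf 0) (.leaf 3)))) (.node (.node (.node (.leaf 0) (.leaf 3)) (.node (.leaf 0) (.leaf 3))) (.node (.node (.leaf 0)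 (.leaf 3)) (.leaf 0)))) (.node (.node (.node (.node (.leaf 3) (.leaf 0)) (.node (.leaf 3) (.leaf 3))) (.node (.node (.leaf 0) (.leaf 3)) (.node (.leaf 0) (.leaf 3)))) (.node (.node (.node (.leaf 0) (.leaf 3)) (.node (.leaf 0) (.leaf 3))) (.node (.node (.leaf 3) (.leaf 0)) (.leaf 3))))))) (.node (.node (.node (.node (.node (.node (.node (.leaf 0) (.leaf 3)) (.node (.leaf 0) (.leaf 3))) (.node (.node (.leaf 0) (.leaf 3)) (.node (.leaf 0) (.leaf 3)))) (.node (.node (.node (.leaf 0) (.leaf 3)) (.node (.leaf 3) (.leaf 3))) (.node (.node (.leaf 0) (.leaf 0)) (.node (.leaf 0) (.leaf 3))))) (.node (.node (.node (.node (.leaf 0) (.leaf 0)) (.node (.leaf 0) (.leaf 3))) (.node (.node (.leaf 0) (.leaf 0)) (.node (.leaf 0) (.leaf 3)))) (.node (.node (.node (.leaf 0) (.leaf 0)) (.node (.leaf 0) (.leaf 3))) (.node (.node (.leaf 0) (.leaf 0)) (.leaf 3))))) (.node (.node (.node (.node (.node (.leaf 0) (.leaf 3)) (.node (.leaf 0) (.leaf 3))) (.node (.node (.leaf 0) (.leaf 3)) (.node (.leaf 0) (.leaf 0)))) (.node (.node (.node (.leaf 0) (.leaf 0)) (.node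 (.leaf 0) (.leaf 3))) (.node (.node (.leaf 3) (.leaf 3)) (.leaf 0)))) (.node (.node (.node (.node (.leaf 0) (.leaf 0)) (.node (.leaf 0) (.leaf 3))) (.node (.node (.leaf 3) (.leaf 3)) (.node (.leaf 3) (.leaf 3)))) (.node (.node (.node (.leaf 0) (.leaf 3)) (.node (.leaf 0) (.leaf 3))) (.node (.node (.leaf 0) (.leaf 3)) (.leaf 0)))))) (.node (.node (.node (.node (.node (.node (.leaf 0) (.leaf 3)) (.node (.leaf 0) (.leaf 3))) (.node (.node (.leaf 0) (.leaf 3)) (.node (.leaf 0) (.leaf 3)))) (.node (.node (.node (.leaf 0) (.leaf 0)) (.node (.leaf 0) (.leaf 3))) (.node (.node (.leaf 3) (.leaf 0)) (.node (.leaf 3) (.leaf 1))))) (.node (.node (.node (.node (.leaf 0) (.leaf 0)) (.node (.leaf 0) (.leaf 3))) (.node (.node (.leaf 3) (.leaf 3)) (.node (.leaf 0) (.leaf 3)))) (.node (.node (.node (.leaf 3) (.leaf 3)) (.node (.leaf 0) (.leaf 3))) (.node (.node (.leaf 0) (.leaf 3)) (.leaf 3))))) (.node (.node (.node (.node (.node (.leaf 0) (.leaf 0)) (.node (.leaf 0) (.leaf 3))) (.node (.node (.leaf 0) (.leaf 3)) (.node (.leaf 3) (.leaf 3)))) (.node (.node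 (.node (.leaf 0) (.leaf 3)) (.node (.leaf 0) (.leaf 3))) (.node (.node (.leaf 0) (.leaf 3)) (.leaf 0)))) (.node (.node (.node (.node (.leaf 0) (.leaf 3)) (.node (.leaf 0) (.leaf 3))) (.node (.node (.leaf 0) (.leaf 3)) (.node (.leaf 0) (.leaf 3)))) (.node (.node (.node (.leaf 3) (.leaf 3)) (.node (.leaf 0) (.leaf 3))) (.node (.node (.leaf 0) (.leaf 3)) (.leaf 3)))))))) (.node (.node (.node (.node (.node (.node (.node (.node (.leaf 0) (.leaf 0)) (.node (.leaf 0) (.leaf 3))) (.node (.node (.leaf 3) (.leaf 3)) (.node (.leaf 0) (.leaf 3)))) (.node (.node (.node (.leaf 0) (.leaf 3)) (.node (.leaf 0) (.leaf 3))) (.node (.node (.leaf 3) (.leaf 0)) (.node (.leaf 3) (.leaf 3))))) (.node (.node (.node (.node (.leaf 0) (.leaf 3)) (.node (.leaf 0) (.leaf 3))) (.node (.node (.leaf 0) (.leaf 3)) (.node (.leaf 0) (.leaf 3)))) (.node (.node (.node (.leaf 0) (.leaf 3)) (.node (.leaf 3) (.leaf 3))) (.node (.node (.leaf 0) (.leaf 3)) (.leaf 0))))) (.node (.node (.node (.node (.node (.leaf 3) (.leaf 0)) (.node (.leaf 0) (.leaf 3))) (.node (.node (.leaf 0)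 (.leaf 3)) (.node (.leaf 0) (.leaf 3)))) (.node (.node (.node (.leaf 0) (.leaf 0)) (.node (.leaf 0) (.leaf 3))) (.node (.node (.leaf 0) (.leaf 3)) (.leaf 0)))) (.node (.node (.node (.node (.leaf 0) (.leaf 0)) (.node (.leaf 0) (.leaf 3))) (.node (.node (.leaf 3) (.leaf 3)) (.node (.leaf 3) (.leaf 3)))) (.node (.node (.node (.leaf 0) (.leaf 3)) (.node (.leaf 3) (.leaf 3))) (.node (.node (.leaf 0) (.leaf 0)) (.leaf 3)))))) (.node (.node (.node (.node (.node (.node (.leaf 0) (.leaf 3)) (.node (.leaf 3) (.leaf 0))) (.node (.node (.leaf 0) (.leaf 3)) (.node (.leaf 0) (.leaf 3)))) (.node (.node (.node (.leaf 0) (.leaf 0)) (.node (.leaf 0) (.leaf 3))) (.node (.node (.leaf 0) (.leaf 3)) (.node (.leaf 0) (.leaf 3))))) (.node (.node (.node (.node (.leaf 0) (.leaf 3)) (.node (.leaf 0) (.leaf 3))) (.node (.node (.leaf 3) (.leaf 0)) (.node (.leaf 3) (.leaf 3)))) (.node (.node (.node (.leaf 0) (.leaf 0)) (.node (.leaf 0) (.leaf 3))) (.node (.node (.leaf 3) (.leaf 3)) (.leaf 3))))) (.node (.node (.node (.node (.node (.leaf 3) (.leaf 0)) (.node (.leaf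 3) (.leaf 3))) (.node (.node (.leaf 0) (.leaf 0)) (.node (.leaf 3) (.leaf 3)))) (.node (.node (.node (.leaf 0) (.leaf 3)) (.node (.leaf 0) (.leaf 3))) (.node (.node (.leaf 0) (.leaf 0)) (.leaf 0)))) (.node (.node (.node (.node (.leaf 0) (.leaf 0)) (.node (.leaf 0) (.leaf 3))) (.node (.node (.leaf 0) (.leaf 3)) (.node (.leaf 0) (.leaf 3)))) (.node (.node (.node (.leaf 0) (.leaf 0)) (.node (.leaf 0) (.leaf 3))) (.node (.node (.leaf 0) (.leaf 0)) (.leaf 3))))))) (.node (.node (.node (.node (.node (.node (.node (.leaf 0) (.leaf 3)) (.node (.leaf 0) (.leaf 3))) (.node (.node (.leaf 0) (.leaf 3)) (.node (.leaf 0) (.leaf 3)))) (.node (.node (.node (.leaf 0) (.leaf 3)) (.node (.leaf 0) (.leaf 0))) (.node (.node (.leaf 0) (.leaf 3)) (.node (.leaf 0) (.leaf 3))))) (.node (.node (.node (.node (.leaf 0) (.leaf 0)) (.node (.leaf 0) (.leaf 3))) (.node (.node (.leaf 0) (.leaf 3)) (.node (.leaf 3) (.leaf 3)))) (.node (.node (.node (.leaf 0) (.leaf 3)) (.node (.leaf 3) (.leaf 3))) (.node (.node (.leaf 3) (.leaf 3)) (.leaf 3))))) (.node (.node (.node (.node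 (.node (.leaf 0) (.leaf 3)) (.node (.leaf 0) (.leaf 0))) (.node (.node (.leaf 0) (.leaf 3)) (.node (.leaf 3) (.leaf 3)))) (.node (.node (.node (.leaf 0) (.leaf 3)) (.node (.leaf 0) (.leaf 3))) (.node (.node (.leaf 0) (.leaf 3)) (.leaf 3)))) (.node (.node (.node (.node (.leaf 0) (.leaf 0)) (.node (.leaf 0) (.leaf 3))) (.node (.node (.leaf 0) (.leaf 3)) (.node (.leaf 3) (.leaf 3)))) (.node (.node (.node (.leaf 0) (.leaf 0)) (.node (.leaf 0) (.leaf 3))) (.node (.node (.leaf 0) (.leaf 3)) (.leaf 3)))))) (.node (.node (.node (.node (.node (.node (.leaf 0) (.leaf 3)) (.node (.leaf 0) (.leaf 3))) (.node (.node (.leaf 3) (.leaf 0)) (.node (.leaf 0) (.leaf 3)))) (.node (.node (.node (.leaf 3) (.leaf 3)) (.node (.leaf 0) (.leaf 0))) (.node (.node (.leaf 0) (.leaf 3)) (.node (.leaf 0) (.leaf 3))))) (.node (.node (.node (.node (.leaf 3) (.leaf 0)) (.node (.leaf 3) (.leaf 3))) (.node (.node (.leaf 0) (.leaf 3)) (.node (.leaf 3) (.leaf 3)))) (.node (.node (.node (.leaf 3) (.leaf 0)) (.node (.leaf 0) (.leaf 3))) (.node (.node (.leaf 0) (.leaf 3)) (.leaf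 3))))) (.node (.node (.node (.node (.node (.leaf 0) (.leaf 0)) (.node (.leaf 0) (.leaf 3))) (.node (.node (.leaf 0) (.leaf 0)) (.node (.leaf 0) (.leaf 3)))) (.node (.node (.node (.leaf 0) (.leaf 3)) (.node (.leaf 0) (.leaf 3))) (.node (.node (.leaf 0) (.leaf 3)) (.leaf 3)))) (.node (.node (.node (.node (.leaf 0) (.leaf 0)) (.node (.leaf 0) (.leaf 3))) (.node (.node (.leaf 0) (.leaf 3)) (.node (.leaf 3) (.leaf 3)))) (.node (.node (.node (.leaf 0) (.leaf 3)) (.node (.leaf 0) (.leaf 3))) (.node (.node (.leaf 0) (.leaf 3)) (.leaf 0)))))))))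

def threeKind1 : Janko.Tree (ℕ) :=
  (.node (.node (.node (.node (.node (.node (.node (.node (.node (.leaf 0) (.leaf 3)) (.node (.leaf 3) (.leaf 3))) (.node (.node (.leaf 0) (.leaf 3)) (.node (.leaf 3) (.leaf 3)))) (.node (.node (.node (.leaf 0) (.leaf 0)) (.node (.leaf 0) (.leaf 3))) (.node (.node (.leaf 0) (.leaf 3)) (.node (.leaf 0) (.leaf 3))))) (.node (.node (.node (.node (.leaf 0) (.leaf 3)) (.node (.leaf 3) (.leaf 3))) (.node (.node (.leaf 0) (.leaf 3)) (.node (.leaf 0) (.leaf 3)))) (.node (.node (.node (.leaf 0) (.leaf 3)) (.node (.leaf 0) (.leaf 3))) (.node (.node (.leaf 3) (.leaf 0)) (.leaf 0))))) (.node (.node (.node (.node (.node (.leaf 0) (.leaf 0)) (.node (.leaf 0) (.leaf 3))) (.node (.node (.leaf 0) (.leaf 0)) (.node (.leaf 0) (.leaf 3)))) (.node (.node (.node (.leaf 0) (.leaf 3)) (.node (.leaf 0) (.leaf 0))) (.node (.node (.leaf 0) (.leaf 0)) (.leaf 0)))) (.node (.node (.node (.node (.leaf 0) (.leaf 0)) (.node (.leaf 0) (.leaf 3))) (.node (.node (.leaf 3) (.leaf 0)) (.node (.leaf 0) (.leaf 3)))) (.node (.node (.node (.leaf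 0) (.leaf 0)) (.node (.leaf 0) (.leaf 3))) (.node (.node (.leaf 0) (.leaf 3)) (.leaf 0)))))) (.node (.node (.node (.node (.node (.node (.leaf 0) (.leaf 0)) (.node (.leaf 0) (.leaf 3))) (.node (.node (.leaf 0) (.leaf 3)) (.node (.leaf 3) (.leaf 0)))) (.node (.node (.node (.leaf 0) (.leaf 0)) (.node (.leaf 0) (.leaf 3))) (.node (.node (.leaf 3) (.leaf 3)) (.node (.leaf 3) (.leaf 3))))) (.node (.node (.node (.node (.leaf 0) (.leaf 3)) (.node (.leaf 0) (.leaf 3))) (.node (.node (.leaf 0) (.leaf 0)) (.node (.leaf 3) (.leaf 3)))) (.node (.node (.node (.leaf 0) (.leaf 0)) (.node (.leaf 0) (.leaf 0))) (.node (.node (.leaf 0) (.leaf 0)) (.leaf 0))))) (.node (.node (.node (.node (.node (.leaf 0) (.leaf 0)) (.node (.leaf 3) (.leaf 0))) (.node (.node (.leaf 0) (.leaf 0)) (.node (.leaf 0) (.leaf 3)))) (.node (.node (.node (.leaf 0) (.leaf 0)) (.node (.leaf 0) (.leaf 3))) (.node (.node (.leaf 0) (.leaf 3)) (.leaf 3)))) (.node (.node (.node (.node (.leaf 0) (.leaf 0)) (.node (.leaf 3) (.leaf 3))) (.node (.node (.leaf 0) (.leaf 3)) (.node (.leaf 3) (.leaf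 3)))) (.node (.node (.node (.leaf 0) (.leaf 3)) (.node (.leaf 0) (.leaf 3))) (.node (.node (.leaf 0) (.leaf 3)) (.leaf 3))))))) (.node (.node (.node (.node (.node (.node (.node (.leaf 0) (.leaf 0)) (.node (.leaf 3) (.leaf 3))) (.node (.node (.leaf 3) (.leaf 3)) (.node (.leaf 0) (.leaf 3)))) (.node (.node (.node (.leaf 3) (.leaf 3)) (.node (.leaf 0) (.leaf 3))) (.node (.node (.leaf 0) (.leaf 0)) (.node (.leaf 0) (.leaf 3))))) (.node (.node (.node (.node (.leaf 0) (.leaf 0)) (.node (.leaf 0) (.leaf 3))) (.node (.node (.leaf 0) (.leaf 3)) (.node (.leaf 3) (.leaf 3)))) (.node (.node (.node (.leaf 0) (.leaf 0)) (.node (.leaf 0) (.leaf 3))) (.node (.node (.leaf 0) (.leaf 3)) (.leaf 3))))) (.node (.node (.node (.node (.node (.leaf 0) (.leaf 0)) (.node (.leaf 0) (.leaf 3))) (.node (.node (.leaf 0) (.leaf 3)) (.node (.leaf 0) (.leaf 3)))) (.node (.node (.node (.leaf 0) (.leaf 3)) (.node (.leaf 3) (.leaf 3))) (.node (.node (.leaf 0) (.leaf 3)) (.leaf 0)))) (.node (.node (.node (.node (.leaf 0) (.leaf 3)) (.node (.leaf 3) (.leaf 3))) (.node (.node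 (.leaf 0) (.leaf 3)) (.node (.leaf 0) (.leaf 0)))) (.node (.node (.node (.leaf 0) (.leaf 3)) (.node (.leaf 0) (.leaf 3))) (.node (.node (.leaf 3) (.leaf 0)) (.leaf 3)))))) (.node (.node (.node (.node (.node (.node (.leaf 0) (.leaf 0)) (.node (.leaf 0) (.leaf 3))) (.node (.node (.leaf 3) (.leaf 3)) (.node (.leaf 0) (.leaf 3)))) (.node (.node (.node (.leaf 0) (.leaf 3)) (.node (.leaf 0) (.leaf 0))) (.node (.node (.leaf 0) (.leaf 3)) (.node (.leaf 0) (.leaf 1))))) (.node (.node (.node (.node (.leaf 0) (.leaf 0)) (.node (.leaf 3) (.leaf 3))) (.node (.node (.leaf 0) (.leaf 3)) (.node (.leaf 3) (.leaf 3)))) (.node (.node (.node (.leaf 0) (.leaf 3)) (.node (.leaf 3) (.leaf 3))) (.node (.node (.leaf 0) (.leaf 0)) (.leaf 3))))) (.node (.node (.node (.node (.node (.leaf 0) (.leaf 3)) (.node (.leaf 3) (.leaf 3))) (.node (.node (.leaf 0) (.leaf 0)) (.node (.leaf 0) (.leaf 3)))) (.node (.node (.node (.leaf 0) (.leaf 3)) (.node (.leaf 0) (.leaf 3))) (.node (.node (.leaf 0) (.leaf 3)) (.leaf 3)))) (.node (.node (.node (.node (.leaf 0) (.leaf 0)) (.node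 (.leaf 3) (.leaf 3))) (.node (.node (.leaf 0) (.leaf 3)) (.node (.leaf 0) (.leaf 3)))) (.node (.node (.node (.leaf 0) (.leaf 3)) (.node (.leaf 0) (.leaf 3))) (.node (.node (.leaf 3) (.leaf 3)) (.leaf 3)))))))) (.node (.node (.node (.node (.node (.node (.node (.node (.leaf 0) (.leaf 0)) (.node (.leaf 0) (.leaf 3))) (.node (.node (.leaf 0) (.leaf 0)) (.node (.leaf 0) (.leaf 3)))) (.node (.node (.node (.leaf 0) (.leaf 0)) (.node (.leaf 3) (.leaf 3))) (.node (.node (.leaf 0) (.leaf 3)) (.node (.leaf 3) (.leaf 3))))) (.node (.node (.node (.node (.leaf 0) (.leaf 0)) (.node (.leaf 0) (.leaf 3))) (.node (.node (.leaf 0) (.leaf 3)) (.node (.leaf 3) (.leaf 3)))) (.node (.node (.node (.leaf 0) (.leaf 3)) (.node (.leaf 0) (.leaf 3))) (.node (.node (.leaf 3) (.leaf 3)) (.leaf 3))))) (.node (.node (.node (.node (.node (.leaf 0) (.leaf 0)) (.node (.leaf 0) (.leaf 3))) (.node (.node (.leaf 0) (.leaf 3)) (.node (.leaf 0) (.leaf 3)))) (.node (.node (.node (.leaf 0) (.leaf 3)) (.node (.leaf 0) (.leaf 3))) (.node (.node (.leaf 3) (.leaf 3)) (.leaf 3))))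 (.node (.node (.node (.node (.leaf 0) (.leaf 3)) (.node (.leaf 3) (.leaf 3))) (.node (.node (.leaf 0) (.leaf 3)) (.node (.leaf 3) (.leaf 3)))) (.node (.node (.node (.leaf 0) (.leaf 3)) (.node (.leaf 0) (.leaf 3))) (.node (.node (.leaf 0) (.leaf 3)) (.leaf 3)))))) (.node (.node (.node (.node (.node (.node (.leaf 0) (.leaf 3)) (.node (.leaf 0) (.leaf 3))) (.node (.node (.leaf 0) (.leaf 3)) (.node (.leaf 0) (.leaf 3)))) (.node (.node (.node (.leaf 0) (.leaf 3)) (.node (.leaf 0) (.leaf 3))) (.node (.node (.leaf 0) (.leaf 3)) (.node (.leaf 0) (.leaf 3))))) (.node (.node (.node (.node (.leaf 0) (.leaf 0)) (.node (.leaf 3) (.leaf 3))) (.node (.node (.leaf 0) (.leaf 0)) (.node (.leaf 0) (.leaf 3)))) (.node (.node (.node (.leaf 0) (.leaf 3)) (.node (.leaf 3) (.leaf 3))) (.node (.node (.leaf 0) (.leaf 0)) (.leaf 3))))) (.node (.node (.node (.node (.node (.leaf 0) (.leaf 3)) (.node (.leaf 0) (.leaf 0))) (.node (.node (.leaf 3) (.leaf 3)) (.node (.leaf 0) (.leaf 0)))) (.node (.node (.node (.leaf 0) (.leaf 3)) (.node (.leaf 0) (.leaf 3))) (.node (.node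 (.leaf 0) (.leaf 3)) (.leaf 0)))) (.node (.node (.node (.node (.leaf 0) (.leaf 3)) (.node (.leaf 0) (.leaf 3))) (.node (.node (.leaf 0) (.leaf 3)) (.node (.leaf 3) (.leaf 3)))) (.node (.node (.node (.leaf 0) (.leaf 0)) (.node (.leaf 3) (.leaf 3))) (.node (.node (.leaf 0) (.leaf 0)) (.leaf 0))))))) (.node (.node (.node (.node (.node (.node (.node (.leaf 0) (.leaf 3)) (.node (.leaf 0) (.leaf 3))) (.node (.node (.leaf 0) (.leaf 3)) (.node (.leaf 0) (.leaf 3)))) (.node (.node (.node (.leaf 0) (.leaf 3)) (.node (.leaf 0) (.leaf 3))) (.node (.node (.leaf 0) (.leaf 0)) (.node (.leaf 3) (.leaf 3))))) (.node (.node (.node (.node (.leaf 0) (.leaf 3)) (.node (.leaf 0) (.leaf 3))) (.node (.node (.leaf 0) (.leaf 0)) (.node (.leaf 3) (.leaf 3)))) (.node (.node (.node (.leaf 0) (.leaf 3)) (.node (.leaf 0) (.leaf 3))) (.node (.node (.leaf 0) (.leaf 0)) (.leaf 3))))) (.node (.node (.node (.node (.node (.leaf 0) (.leaf 0)) (.node (.leaf 0) (.leaf 3))) (.node (.node (.leaf 0) (.leaf 3)) (.node (.leaf 0) (.leaf 3)))) (.node (.node (.node (.leaf 3) (.leaf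 3)) (.node (.leaf 3) (.leaf 3))) (.node (.node (.leaf 0) (.leaf 3)) (.leaf 0)))) (.node (.node (.node (.node (.leaf 0) (.leaf 0)) (.node (.leaf 0) (.leaf 3))) (.node (.node (.leaf 3) (.leaf 3)) (.node (.leaf 3) (.leaf 3)))) (.node (.node (.node (.leaf 0) (.leaf 3)) (.node (.leaf 3) (.leaf 3))) (.node (.node (.leaf 0) (.leaf 0)) (.leaf 3)))))) (.node (.node (.node (.node (.node (.node (.leaf 0) (.leaf 0)) (.node (.leaf 0) (.leaf 3))) (.node (.node (.leaf 3) (.leaf 3)) (.node (.leaf 3) (.leaf 3)))) (.node (.node (.node (.leaf 0) (.leaf 0)) (.node (.leaf 0) (.leaf 3))) (.node (.node (.leaf 0) (.leaf 3)) (.node (.leaf 0) (.leaf 3))))) (.node (.node (.node (.node (.leaf 0) (.leaf 3)) (.node (.leaf 0) (.leaf 3))) (.node (.node (.leaf 0) (.leaf 3)) (.node (.leaf 0) (.leaf 0)))) (.node (.node (.node (.leaf 0) (.leaf 0)) (.node (.leaf 3) (.leaf 3))) (.node (.node (.leaf 0) (.leaf 0)) (.leaf 0))))) (.node (.node (.node (.node (.node (.leaf 0) (.leaf 3)) (.node (.leaf 0) (.leaf 3))) (.node (.node (.leaf 3) (.leaf 3)) (.node (.leaf 0) (.leaf 3))))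 (.node (.node (.node (.leaf 0) (.leaf 3)) (.node (.leaf 0) (.leaf 3))) (.node (.node (.leaf 0) (.leaf 3)) (.leaf 0)))) (.node (.node (.node (.node (.leaf 0) (.leaf 0)) (.node (.leaf 0) (.leaf 0))) (.node (.node (.leaf 0) (.leaf 0)) (.node (.leaf 0) (.leaf 3)))) (.node (.node (.node (.leaf 0) (.leaf 3)) (.node (.leaf 0) (.leaf 3))) (.node (.node (.leaf 0) (.leaf 3)) (.leaf 3)))))))))

def threeKind2 : Janko.Tree (ℕ) :=
  (.node (.node (.node (.node (.node (.node (.node (.node (.node (.leaf 0) (.leaf 3)) (.node (.leaf 3) (.leaf 3))) (.node (.node (.leaf 3) (.leaf 3)) (.node (.leaf 0) (.leaf 3)))) (.node (.node (.node (.leaf 3) (.leaf 0)) (.node (.leaf 3) (.leaf 3))) (.node (.node (.leaf 0) (.leaf 3)) (.node (.leaf 0) (.leaf 3))))) (.node (.node (.node (.node (.leaf 0) (.leaf 3)) (.node (.leaf 0) (.leaf 3))) (.node (.node (.leaf 0) (.leaf 3)) (.node (.leaf 3) (.leaf 3)))) (.node (.node (.node (.leaf 0) (.leaf 3)) (.node (.leaf 0) (.leaf 3))) (.node (.node (.leaf 0) (.leaf 3)) (.leaf 3))))) (.node (.node (.node (.node (.node (.leaf 0) (.leaf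 0)) (.node (.leaf 0) (.leaf 3))) (.node (.node (.leaf 0) (.leaf 0)) (.node (.leaf 0) (.leaf 3)))) (.node (.node (.node (.leaf 0) (.leaf 3)) (.node (.leaf 0) (.leaf 0))) (.node (.node (.leaf 0) (.leaf 3)) (.leaf 3)))) (.node (.node (.node (.node (.leaf 0) (.leaf 3)) (.node (.leaf 0) (.leaf 0))) (.node (.node (.leaf 0) (.leaf 0)) (.node (.leaf 0) (.leaf 3)))) (.node (.node (.node (.leaf 0) (.leaf 0)) (.node (.leaf 3) (.leaf 3))) (.node (.node (.leaf 0) (.leaf 0)) (.leaf 3)))))) (.node (.node (.node (.node (.node (.node (.leaf 0) (.leaf 3)) (.node (.leaf 0) (.leaf 3))) (.node (.node (.leaf 3) (.leaf 0)) (.node (.leaf 0) (.leaf 3)))) (.node (.node (.node (.leaf 0) (.leaf 0)) (.node (.leaf 3) (.leaf 3))) (.node (.node (.leaf 0) (.leaf 3)) (.node (.leaf 0) (.leaf 3))))) (.node (.node (.node (.node (.leaf 0) (.leaf 0)) (.node (.leaf 3) (.leaf 3))) (.node (.node (.leaf 0) (.leaf 3)) (.node (.leaf 0) (.leaf 3)))) (.node (.node (.node (.leaf 3) (.leaf 3)) (.node (.leaf 0) (.leaf 3))) (.node (.node (.leaf 3) (.leaf 3)) (.leaf 3))))) (.node (.node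 (.node (.node (.node (.leaf 0) (.leaf 3)) (.node (.leaf 0) (.leaf 3))) (.node (.node (.leaf 0) (.leaf 3)) (.node (.leaf 3) (.leaf 3)))) (.node (.node (.node (.leaf 0) (.leaf 0)) (.node (.leaf 0) (.leaf 3))) (.node (.node (.leaf 0) (.leaf 3)) (.leaf 0)))) (.node (.node (.node (.node (.leaf 0) (.leaf 0)) (.node (.leaf 3) (.leaf 3))) (.node (.node (.leaf 0) (.leaf 3)) (.node (.leaf 3) (.leaf 3)))) (.node (.node (.node (.leaf 0) (.leaf 3)) (.node (.leaf 0) (.leaf 0))) (.node (.node (.leaf 0) (.leaf 3)) (.leaf 3))))))) (.node (.node (.node (.node (.node (.node (.node (.leaf 0) (.leaf 0)) (.node (.leaf 0) (.leaf 0))) (.node (.node (.leaf 3) (.leaf 0)) (.node (.leaf 3) (.leaf 3)))) (.node (.node (.node (.leaf 0) (.leaf 0)) (.node (.leaf 0) (.leaf 3))) (.node (.node (.leaf 0) (.leaf 3)) (.node (.leaf 3) (.leaf 3))))) (.node (.node (.node (.node (.leaf 0) (.leaf 3)) (.node (.leaf 0) (.leaf 0))) (.node (.node (.leaf 0) (.leaf 3)) (.node (.leaf 3) (.leaf 3)))) (.node (.node (.node (.leaf 0) (.leaf 3)) (.node (.leaf 3) (.leaf 0))) (.node (.node (.leaf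 0) (.leaf 3)) (.leaf 3))))) (.node (.node (.node (.node (.node (.leaf 0) (.leaf 3)) (.node (.leaf 0) (.leaf 3))) (.node (.node (.leaf 3) (.leaf 3)) (.node (.leaf 0) (.leaf 3)))) (.node (.node (.node (.leaf 3) (.leaf 3)) (.node (.leaf 0) (.leaf 3))) (.node (.node (.leaf 0) (.leaf 3)) (.leaf 3)))) (.node (.node (.node (.node (.leaf 0) (.leaf 0)) (.node (.leaf 3) (.leaf 3))) (.node (.node (.leaf 0) (.leaf 0)) (.node (.leaf 3) (.leaf 3)))) (.node (.node (.node (.leaf 0) (.leaf 0)) (.node (.leaf 3) (.leaf 0))) (.node (.node (.leaf 0) (.leaf 0)) (.leaf 3)))))) (.node (.node (.node (.node (.node (.node (.leaf 0) (.leaf 3)) (.node (.leaf 3) (.leaf 3))) (.node (.node (.leaf 0) (.leaf 3)) (.node (.leaf 0) (.leaf 3)))) (.node (.node (.node (.leaf 0) (.leaf 3)) (.node (.leaf 0) (.leaf 3))) (.node (.node (.leaf 0) (.leaf 3)) (.node (.leaf 0) (.leaf 2))))) (.node (.node (.node (.node (.leaf 0) (.leaf 0)) (.node (.leaf 3) (.leaf 3))) (.node (.node (.leaf 0) (.leaf 0)) (.node (.leaf 0) (.leaf 3)))) (.node (.node (.node (.leaf 0) (.leaf 0)) (.node (.leaf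 0) (.leaf 0))) (.node (.node (.leaf 0) (.leaf 0)) (.leaf 0))))) (.node (.node (.node (.node (.node (.leaf 0) (.leaf 0)) (.node (.leaf 0) (.leaf 3))) (.node (.node (.leaf 0) (.leaf 3)) (.node (.leaf 3) (.leaf 3)))) (.node (.node (.node (.leaf 0) (.leaf 0)) (.node (.leaf 3) (.leaf 3))) (.node (.node (.leaf 3) (.leaf 3)) (.leaf 0)))) (.node (.node (.node (.node (.leaf 0) (.leaf 3)) (.node (.leaf 0) (.leaf 3))) (.node (.node (.leaf 3) (.leaf 3)) (.node (.leaf 0) (.leaf 3)))) (.node (.node (.node (.leaf 3) (.leaf 3)) (.node (.leaf 0) (.leaf 3))) (.node (.node (.leaf 3) (.leaf 0)) (.leaf 3)))))))) (.node (.node (.node (.node (.node (.node (.node (.node (.leaf 0) (.leaf 0)) (.node (.leaf 0) (.leaf 3))) (.node (.node (.leaf 0) (.leaf 0)) (.node (.leaf 0) (.leaf 3)))) (.node (.node (.node (.leaf 0) (.leaf 0)) (.node (.leaf 0) (.leaf 3))) (.node (.node (.leaf 0) (.leaf 3)) (.node (.leaf 3) (.leaf 3))))) (.node (.node (.node (.node (.leaf 0) (.leaf 0)) (.node (.leaf 0) (.leaf 3))) (.node (.node (.leaf 3) (.leaf 0)) (.node (.leaf 3) (.leaf 3))))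 (.node (.node (.node (.leaf 0) (.leaf 3)) (.node (.leaf 0) (.leaf 3))) (.node (.node (.leaf 0) (.leaf 3)) (.leaf 3))))) (.node (.node (.node (.node (.node (.leaf 0) (.leaf 0)) (.node (.leaf 0) (.leaf 3))) (.node (.node (.leaf 0) (.leaf 3)) (.node (.leaf 0) (.leaf 3)))) (.node (.node (.node (.leaf 3) (.leaf 3)) (.node (.leaf 0) (.leaf 3))) (.node (.node (.leaf 0) (.leaf 3)) (.leaf 0)))) (.node (.node (.node (.node (.leaf 0) (.leaf 0)) (.node (.leaf 3) (.leaf 3))) (.node (.node (.leaf 0) (.leaf 0)) (.node (.leaf 0) (.leaf 3)))) (.node (.node (.node (.leaf 0) (.leaf 0)) (.node (.leaf 0) (.leaf 3))) (.node (.node (.leaf 0) (.leaf 3)) (.leaf 3)))))) (.node (.node (.node (.node (.node (.node (.leaf 0) (.leaf 3)) (.node (.leaf 0) (.leaf 3))) (.node (.node (.leaf 0) (.leaf 3)) (.node (.leaf 0) (.leaf 3)))) (.node (.node (.node (.leaf 0) (.leaf 3)) (.node (.leaf 0) (.leaf 3))) (.node (.node (.leaf 0) (.leaf 3)) (.node (.leaf 3) (.leaf 3))))) (.node (.node (.node (.node (.leaf 0) (.leaf 0)) (.node (.leaf 3) (.leaf 0))) (.node (.node (.leaf 0) (.leaf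 3)) (.node (.leaf 0) (.leaf 3)))) (.node (.node (.node (.leaf 3) (.leaf 3)) (.node (.leaf 0) (.leaf 3))) (.node (.node (.leaf 3) (.leaf 3)) (.leaf 3))))) (.node (.node (.node (.node (.node (.leaf 0) (.leaf 0)) (.node (.leaf 3) (.leaf 3))) (.node (.node (.leaf 0) (.leaf 3)) (.node (.leaf 3) (.leaf 3)))) (.node (.node (.node (.leaf 0) (.leaf 0)) (.node (.leaf 0) (.leaf 3))) (.node (.node (.leaf 0) (.leaf 3)) (.leaf 3)))) (.node (.node (.node (.node (.leaf 0) (.leaf 3)) (.node (.leaf 0) (.leaf 3))) (.node (.node (.leaf 0) (.leaf 3)) (.node (.leaf 3) (.leaf 3)))) (.node (.node (.node (.leaf 0) (.leaf 0)) (.node (.leaf 3) (.leaf 3))) (.node (.node (.leaf 3) (.leaf 3)) (.leaf 3))))))) (.node (.node (.node (.node (.node (.node (.node (.leaf 0) (.leaf 3)) (.node (.leaf 0) (.leaf 3))) (.node (.node (.leaf 0) (.leaf 3)) (.node (.leaf 0) (.leaf 3)))) (.node (.node (.node (.leaf 0) (.leaf 3)) (.node (.leaf 0) (.leaf 0))) (.node (.node (.leaf 0) (.leaf 0)) (.node (.leaf 3) (.leaf 3))))) (.node (.node (.node (.node (.leaf 0) (.leaf 0)) (.node (.leaf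 0) (.leaf 3))) (.node (.node (.leaf 0) (.leaf 3)) (.node (.leaf 3) (.leaf 3)))) (.node (.node (.node (.leaf 0) (.leaf 3)) (.node (.leaf 3) (.leaf 3))) (.node (.node (.leaf 0) (.leaf 3)) (.leaf 0))))) (.node (.node (.node (.node (.node (.leaf 0) (.leaf 3)) (.node (.leaf 0) (.leaf 0))) (.node (.node (.leaf 0) (.leaf 3)) (.node (.leaf 3) (.leaf 3)))) (.node (.node (.node (.leaf 0) (.leaf 3)) (.node (.leaf 0) (.leaf 3))) (.node (.node (.leaf 0) (.leaf 3)) (.leaf 0)))) (.node (.node (.node (.node (.leaf 0) (.leaf 0)) (.node (.leaf 3) (.leaf 3))) (.node (.node (.leaf 0) (.leaf 3)) (.node (.leaf 0) (.leaf 3)))) (.node (.node (.node (.leaf 0) (.leaf 0)) (.node (.leaf 3) (.leaf 3))) (.node (.node (.leaf 3) (.leaf 0)) (.leaf 0)))))) (.node (.node (.node (.node (.node (.node (.leaf 0) (.leaf 3)) (.node (.leaf 0) (.leaf 0))) (.node (.node (.leaf 0) (.leaf 3)) (.node (.leaf 3) (.leaf 3)))) (.node (.node (.node (.leaf 3) (.leaf 3)) (.node (.leaf 3) (.leaf 3))) (.node (.node (.leaf 3) (.leaf 3)) (.node (.leaf 0) (.leaf 3))))) (.node (.node (.node (.node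 (.leaf 0) (.leaf 0)) (.node (.leaf 3) (.leaf 0))) (.node (.node (.leaf 0) (.leaf 0)) (.node (.leaf 3) (.leaf 3)))) (.node (.node (.node (.leaf 0) (.leaf 3)) (.node (.leaf 0) (.leaf 3))) (.node (.node (.leaf 0) (.leaf 0)) (.leaf 3))))) (.node (.node (.node (.node (.node (.leaf 0) (.leaf 0)) (.node (.leaf 3) (.leaf 3))) (.node (.node (.leaf 3) (.leaf 3)) (.node (.leaf 0) (.leaf 3)))) (.node (.node (.node (.leaf 0) (.leaf 3)) (.node (.leaf 0) (.leaf 3))) (.node (.node (.leaf 0) (.leaf 0)) (.leaf 3)))) (.node (.node (.node (.node (.leaf 0) (.leaf 0)) (.node (.leaf 0) (.leaf 3))) (.node (.node (.leaf 0) (.leaf 0)) (.node (.leaf 0) (.leaf 3)))) (.node (.node (.node (.leaf 0) (.leaf 0)) (.node (.leaf 0) (.leaf 3))) (.node (.node (.leaf 0) (.leaf 0)) (.leaf 3)))))))))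

def threeKind3 : Janko.Tree (ℕ) :=
  (.node (.node (.node (.node (.node (.node (.node (.node (.node (.leaf 0) (.leaf 3)) (.node (.leaf 3) (.leaf 3))) (.node (.node (.leaf 0) (.leaf 3)) (.node (.leaf 3) (.leaf 3)))) (.node (.node (.node (.leaf 0) (.leaf 3)) (.node (.leaf 3) (.leaf 3))) (.node (.node (.leaf 0) (.leaf 3)) (.node (.leaf 3) (.leaf 3))))) (.node (.node (.node (.node (.leaf 0) (.leaf 3)) (.node (.leaf 0) (.leaf 3))) (.node (.node (.leaf 0) (.leaf 3)) (.node (.leaf 0) (.leaf 3)))) (.node (.node (.node (.leaf 0) (.leaf 0)) (.node (.leaf 0) (.leaf 3))) (.node (.node (.leaf 0) (.leaf 0)) (.leaf 3))))) (.node (.node (.node (.node (.node (.leaf 0) (.leaf 3)) (.node (.leaf 3) (.leaf 3))) (.node (.node (.leaf 3) (.leaf 0)) (.node (.leaf 0) (.leaf 3)))) (.node (.node (.node (.leaf 0) (.leaf 0)) (.node (.leaf 3) (.leaf 3))) (.node (.node (.leaf 0) (.leaf 3)) (.leaf 0)))) (.node (.node (.node (.node (.leaf 0) (.leaf 0)) (.node (.leaf 0) (.leaf 0))) (.node (.node (.leaf 0) (.leaf 0)) (.node (.leaf 3) (.leaf 3)))) (.node (.node (.node (.leaf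 0) (.leaf 3)) (.node (.leaf 3) (.leaf 0))) (.node (.node (.leaf 3) (.leaf 0)) (.leaf 3)))))) (.node (.node (.node (.node (.node (.node (.leaf 0) (.leaf 3)) (.node (.leaf 0) (.leaf 3))) (.node (.node (.leaf 0) (.leaf 3)) (.node (.leaf 0) (.leaf 0)))) (.node (.node (.node (.leaf 0) (.leaf 0)) (.node (.leaf 0) (.leaf 3))) (.node (.node (.leaf 0) (.leaf 3)) (.node (.leaf 3) (.leaf 3))))) (.node (.node (.node (.node (.leaf 0) (.leaf 3)) (.node (.leaf 0) (.leaf 3))) (.node (.node (.leaf 0) (.leaf 3)) (.node (.leaf 3) (.leaf 3)))) (.node (.node (.node (.leaf 0) (.leaf 0)) (.node (.leaf 0) (.leaf 3))) (.node (.node (.leaf 0) (.leaf 0)) (.leaf 3))))) (.node (.node (.node (.node (.node (.leaf 0) (.leaf 0)) (.node (.leaf 0) (.leaf 3))) (.node (.node (.leaf 0) (.leaf 3)) (.node (.leaf 0) (.leaf 3)))) (.node (.node (.node (.leaf 0) (.leaf 3)) (.node (.leaf 0) (.leaf 3))) (.node (.node (.leaf 0) (.leaf 0)) (.leaf 0)))) (.node (.node (.node (.node (.leaf 0) (.leaf 0)) (.node (.leaf 0) (.leaf 3))) (.node (.node (.leaf 0) (.leaf 3)) (.node (.leaf 3) (.leaf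 3)))) (.node (.node (.node (.leaf 0) (.leaf 3)) (.node (.leaf 3) (.leaf 3))) (.node (.node (.leaf 0) (.leaf 3)) (.leaf 0))))))) (.node (.node (.node (.node (.node (.node (.node (.leaf 0) (.leaf 0)) (.node (.leaf 0) (.leaf 0))) (.node (.node (.leaf 0) (.leaf 3)) (.node (.leaf 0) (.leaf 3)))) (.node (.node (.node (.leaf 0) (.leaf 3)) (.node (.leaf 3) (.leaf 3))) (.node (.node (.leaf 0) (.leaf 3)) (.node (.leaf 0) (.leaf 3))))) (.node (.node (.node (.node (.leaf 0) (.leaf 0)) (.node (.leaf 0) (.leaf 3))) (.node (.node (.leaf 0) (.leaf 3)) (.node (.leaf 3) (.leaf 3)))) (.node (.node (.node (.leaf 0) (.leaf 3)) (.node (.leaf 0) (.leaf 3))) (.node (.node (.leaf 0) (.leaf 0)) (.leaf 0))))) (.node (.node (.node (.node (.node (.leaf 0) (.leaf 0)) (.node (.leaf 0) (.leaf 0))) (.node (.node (.leaf 0) (.leaf 3)) (.node (.leaf 0) (.leaf 3)))) (.node (.node (.node (.leaf 0) (.leaf 3)) (.node (.leaf 0) (.leaf 0))) (.node (.node (.leaf 0) (.leaf 0)) (.leaf 0)))) (.node (.node (.node (.node (.leaf 0) (.leaf 3)) (.node (.leaf 0) (.leaf 3))) (.node (.node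 (.leaf 0) (.leaf 3)) (.node (.leaf 3) (.leaf 3)))) (.node (.node (.node (.leaf 0) (.leaf 3)) (.node (.leaf 0) (.leaf 3))) (.node (.node (.leaf 3) (.leaf 0)) (.leaf 3)))))) (.node (.node (.node (.node (.node (.node (.leaf 0) (.leaf 3)) (.node (.leaf 0) (.leaf 3))) (.node (.node (.leaf 0) (.leaf 3)) (.node (.leaf 0) (.leaf 3)))) (.node (.node (.node (.leaf 0) (.leaf 0)) (.node (.leaf 0) (.leaf 3))) (.node (.node (.leaf 0) (.leaf 3)) (.node (.leaf 3) (.leaf 3))))) (.node (.node (.node (.node (.leaf 0) (.leaf 3)) (.node (.leaf 0) (.leaf 3))) (.node (.node (.leaf 0) (.leaf 3)) (.node (.leaf 0) (.leaf 3)))) (.node (.node (.node (.leaf 0) (.leaf 3)) (.node (.leaf 0) (.leaf 3))) (.node (.node (.leaf 0) (.leaf 3)) (.leaf 0))))) (.node (.node (.node (.node (.node (.leaf 0) (.leaf 3)) (.node (.leaf 0) (.leaf 3))) (.node (.node (.leaf 0) (.leaf 3)) (.node (.leaf 3) (.leaf 3)))) (.node (.node (.node (.leaf 0) (.leaf 0)) (.node (.leaf 3) (.leaf 3))) (.node (.node (.leaf 3) (.leaf 3)) (.leaf 3)))) (.node (.node (.node (.node (.leaf 3) (.leaf 0)) (.node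 (.leaf 3) (.leaf 3))) (.node (.node (.leaf 0) (.leaf 3)) (.node (.leaf 3) (.leaf 3)))) (.node (.node (.node (.leaf 0) (.leaf 0)) (.node (.leaf 3) (.leaf 3))) (.node (.node (.leaf 0) (.leaf 0)) (.leaf 0)))))))) (.node (.node (.node (.node (.node (.node (.node (.node (.leaf 0) (.leaf 3)) (.node (.leaf 3) (.leaf 0))) (.node (.node (.leaf 0) (.leaf 0)) (.node (.leaf 0) (.leaf 3)))) (.node (.node (.node (.leaf 0) (.leaf 3)) (.node (.leaf 0) (.leaf 0))) (.node (.node (.leaf 3) (.leaf 3)) (.node (.leaf 0) (.leaf 3))))) (.node (.node (.node (.node (.leaf 0) (.leaf 3)) (.node (.leaf 3) (.leaf 3))) (.node (.node (.leaf 3) (.leaf 0)) (.node (.leaf 0) (.leaf 3)))) (.node (.node (.node (.leaf 0) (.leaf 0)) (.node (.leaf 0) (.leaf 3))) (.node (.node (.leaf 0) (.leaf 0)) (.leaf 3))))) (.node (.node (.node (.node (.node (.leaf 0) (.leaf 0)) (.node (.leaf 0) (.leaf 0))) (.node (.node (.leaf 0) (.leaf 3)) (.node (.leaf 0) (.leaf 3)))) (.node (.node (.node (.leaf 0) (.leaf 3)) (.node (.leaf 0) (.leaf 3))) (.node (.node (.leaf 3) (.leaf 3)) (.leaf 3))))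 (.node (.node (.node (.node (.leaf 0) (.leaf 0)) (.node (.leaf 3) (.leaf 3))) (.node (.node (.leaf 3) (.leaf 3)) (.node (.leaf 3) (.leaf 3)))) (.node (.node (.node (.leaf 3) (.leaf 3)) (.node (.leaf 3) (.leaf 3))) (.node (.node (.leaf 3) (.leaf 3)) (.leaf 3)))))) (.node (.node (.node (.node (.node (.node (.leaf 0) (.leaf 0)) (.node (.leaf 0) (.leaf 3))) (.node (.node (.leaf 3) (.leaf 0)) (.node (.leaf 3) (.leaf 3)))) (.node (.node (.node (.leaf 0) (.leaf 0)) (.node (.leaf 0) (.leaf 3))) (.node (.node (.leaf 0) (.leaf 3)) (.node (.leaf 0) (.leaf 3))))) (.node (.node (.node (.node (.leaf 0) (.leaf 0)) (.node (.leaf 0) (.leaf 3))) (.node (.node (.leaf 0) (.leaf 3)) (.node (.leaf 0) (.leaf 3)))) (.node (.node (.node (.leaf 0) (.leaf 3)) (.node (.leaf 0) (.leaf 3))) (.node (.node (.leaf 0) (.leaf 3)) (.leaf 0))))) (.node (.node (.node (.node (.node (.leaf 0) (.leaf 0)) (.node (.leaf 0) (.leaf 3))) (.node (.node (.leaf 3) (.leaf 3)) (.node (.leaf 3) (.leaf 3)))) (.node (.node (.node (.leaf 0) (.leaf 3)) (.node (.leaf 0) (.leaf 3))) (.node (.node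 (.leaf 3) (.leaf 3)) (.leaf 0)))) (.node (.node (.node (.node (.leaf 0) (.leaf 0)) (.node (.leaf 0) (.leaf 3))) (.node (.node (.leaf 0) (.leaf 3)) (.node (.leaf 0) (.leaf 3)))) (.node (.node (.node (.leaf 0) (.leaf 3)) (.node (.leaf 3) (.leaf 3))) (.node (.node (.leaf 0) (.leaf 0)) (.leaf 3))))))) (.node (.node (.node (.node (.node (.node (.node (.leaf 0) (.leaf 0)) (.node (.leaf 0) (.leaf 0))) (.node (.node (.leaf 0) (.leaf 0)) (.node (.leaf 0) (.leaf 3)))) (.node (.node (.node (.leaf 0) (.leaf 3)) (.node (.leaf 0) (.leaf 0))) (.node (.node (.leaf 0) (.leaf 3)) (.node (.leaf 3) (.leaf 3))))) (.node (.node (.node (.node (.leaf 0) (.leaf 0)) (.node (.leaf 3) (.leaf 3))) (.node (.node (.leaf 3) (.leaf 3)) (.node (.leaf 0) (.leaf 3)))) (.node (.node (.node (.leaf 0) (.leaf 0)) (.node (.leaf 3) (.leaf 3))) (.node (.node (.leaf 0) (.leaf 3)) (.leaf 0))))) (.node (.node (.node (.node (.node (.leaf 0) (.leaf 3)) (.node (.leaf 3) (.leaf 3))) (.node (.node (.leaf 3) (.leaf 0)) (.node (.leaf 0) (.leaf 3)))) (.node (.node (.node (.leaf 0) (.leaf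 3)) (.node (.leaf 0) (.leaf 3))) (.node (.node (.leaf 0) (.leaf 3)) (.leaf 3)))) (.node (.node (.node (.node (.leaf 0) (.leaf 0)) (.node (.leaf 0) (.leaf 0))) (.node (.node (.leaf 0) (.leaf 3)) (.node (.leaf 3) (.leaf 3)))) (.node (.node (.node (.leaf 0) (.leaf 3)) (.node (.leaf 0) (.leaf 3))) (.node (.node (.leaf 3) (.leaf 3)) (.leaf 0)))))) (.node (.node (.node (.node (.node (.node (.leaf 0) (.leaf 3)) (.node (.leaf 0) (.leaf 3))) (.node (.node (.leaf 0) (.leaf 0)) (.node (.leaf 0) (.leaf 0)))) (.node (.node (.node (.leaf 0) (.leaf 0)) (.node (.leaf 0) (.leaf 0))) (.node (.node (.leaf 0) (.leaf 3)) (.node (.leaf 0) (.leaf 3))))) (.node (.node (.node (.node (.leaf 0) (.leaf 3)) (.node (.leaf 0) (.leaf 0))) (.node (.node (.leaf 0) (.leaf 3)) (.node (.leaf 0) (.leaf 3)))) (.node (.node (.node (.leaf 0) (.leaf 0)) (.node (.leaf 3) (.leaf 3))) (.node (.node (.leaf 3) (.leaf 3)) (.leaf 3))))) (.node (.node (.node (.node (.node (.leaf 0) (.leaf 3)) (.node (.leaf 3) (.leaf 3))) (.node (.node (.leaf 3) (.leaf 0)) (.node (.leaf 0) (.leaf 3))))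 (.node (.node (.node (.leaf 0) (.leaf 3)) (.node (.leaf 3) (.leaf 3))) (.node (.node (.leaf 0) (.leaf 3)) (.leaf 0)))) (.node (.node (.node (.node (.leaf 0) (.leaf 0)) (.node (.leaf 0) (.leaf 3))) (.node (.node (.leaf 0) (.leaf 0)) (.node (.leaf 3) (.leaf 3)))) (.node (.node (.node (.leaf 0) (.leaf 3)) (.node (.leaf 0) (.leaf 3))) (.node (.node (.leaf 3) (.leaf 3)) (.leaf 0)))))))))

def threeKind4 : Janko.Tree (ℕ) :=
  (.node (.node (.node (.node (.node (.node (.node (.node (.node (.leaf 0) (.leaf 3)) (.node (.leaf 3) (.leaf 3))) (.node (.node (.leaf 0) (.leaf 3)) (.node (.leaf 0) (.leaf 3)))) (.node (.node (.node (.leaf 3) (.leaf 3)) (.node (.leaf 0) (.leaf 3))) (.node (.node (.leaf 0) (.leaf 3)) (.node (.leaf 0) (.leaf 3))))) (.node (.node (.node (.node (.leaf 0) (.leaf 3)) (.node (.leaf 0) (.leaf 3))) (.node (.node (.leaf 0) (.leaf 3)) (.node (.leaf 0) (.leaf 3)))) (.node (.node (.node (.leaf 3) (.leaf 0)) (.node (.leaf 0) (.leaf 3))) (.node (.node (.leaf 0) (.leaf 3)) (.leaf 0))))) (.node (.node (.node (.node (.node (.leaf 0) (.leaf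 0)) (.node (.leaf 0) (.leaf 3))) (.node (.node (.leaf 0) (.leaf 0)) (.node (.leaf 3) (.leaf 3)))) (.node (.node (.node (.leaf 3) (.leaf 3)) (.node (.leaf 3) (.leaf 3))) (.node (.node (.leaf 3) (.leaf 0)) (.leaf 3)))) (.node (.node (.node (.node (.leaf 0) (.leaf 3)) (.node (.leaf 3) (.leaf 0))) (.node (.node (.leaf 0) (.leaf 3)) (.node (.leaf 0) (.leaf 3)))) (.node (.node (.node (.leaf 0) (.leaf 0)) (.node (.leaf 3) (.leaf 3))) (.node (.node (.leaf 0) (.leaf 0)) (.leaf 0)))))) (.node (.node (.node (.node (.node (.node (.leaf 0) (.leaf 3)) (.node (.leaf 0) (.leaf 0))) (.node (.node (.leaf 0) (.leaf 3)) (.node (.leaf 0) (.leaf 3)))) (.node (.node (.node (.leaf 0) (.leaf 3)) (.node (.leaf 0) (.leaf 3))) (.node (.node (.leaf 0) (.leaf 0)) (.node (.leaf 0) (.leaf 3))))) (.node (.node (.node (.node (.leaf 0) (.leaf 3)) (.node (.leaf 0) (.leaf 3))) (.node (.node (.leaf 0) (.leaf 3)) (.node (.leaf 0) (.leaf 3)))) (.node (.node (.node (.leaf 0) (.leaf 3)) (.node (.leaf 0) (.leaf 3))) (.node (.node (.leaf 0) (.leaf 3)) (.leaf 3))))) (.node (.node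 (.node (.node (.node (.leaf 0) (.leaf 3)) (.node (.leaf 3) (.leaf 3))) (.node (.node (.leaf 3) (.leaf 0)) (.node (.leaf 0) (.leaf 0)))) (.node (.node (.node (.leaf 0) (.leaf 0)) (.node (.leaf 3) (.leaf 3))) (.node (.node (.leaf 0) (.leaf 3)) (.leaf 3)))) (.node (.node (.node (.node (.leaf 3) (.leaf 0)) (.node (.leaf 3) (.leaf 3))) (.node (.node (.leaf 0) (.leaf 3)) (.node (.leaf 0) (.leaf 3)))) (.node (.node (.node (.leaf 0) (.leaf 3)) (.node (.leaf 3) (.leaf 3))) (.node (.node (.leaf 3) (.leaf 3)) (.leaf 3))))))) (.node (.node (.node (.node (.node (.node (.node (.leaf 0) (.leaf 0)) (.node (.leaf 0) (.leaf 3))) (.node (.node (.leaf 0) (.leaf 3)) (.node (.leaf 3) (.leaf 3)))) (.node (.node (.node (.leaf 0) (.leaf 0)) (.node (.leaf 0) (.leaf 3))) (.node (.node (.leaf 3) (.leaf 3)) (.node (.leaf 3) (.leaf 3))))) (.node (.node (.node (.node (.leaf 0) (.leaf 0)) (.node (.leaf 3) (.leaf 0))) (.node (.node (.leaf 0) (.leaf 3)) (.node (.leaf 3) (.leaf 3)))) (.node (.node (.node (.leaf 0) (.leaf 0)) (.node (.leaf 0) (.leaf 3))) (.node (.node (.leaf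 3) (.leaf 3)) (.leaf 3))))) (.node (.node (.node (.node (.node (.leaf 0) (.leaf 0)) (.node (.leaf 0) (.leaf 0))) (.node (.node (.leaf 3) (.leaf 0)) (.node (.leaf 0) (.leaf 3)))) (.node (.node (.node (.leaf 3) (.leaf 0)) (.node (.leaf 0) (.leaf 3))) (.node (.node (.leaf 0) (.leaf 3)) (.leaf 3)))) (.node (.node (.node (.node (.leaf 3) (.leaf 3)) (.node (.leaf 3) (.leaf 0))) (.node (.node (.leaf 0) (.leaf 3)) (.node (.leaf 3) (.leaf 3)))) (.node (.node (.node (.leaf 0) (.leaf 3)) (.node (.leaf 0) (.leaf 3))) (.node (.node (.leaf 0) (.leaf 0)) (.leaf 3)))))) (.node (.node (.node (.node (.node (.node (.leaf 0) (.leaf 3)) (.node (.leaf 0) (.leaf 0))) (.node (.node (.leaf 0) (.leaf 3)) (.node (.leaf 0) (.leaf 3)))) (.node (.node (.node (.leaf 0) (.leaf 0)) (.node (.leaf 3) (.leaf 3))) (.node (.node (.leaf 0) (.leaf 3)) (.node (.leaf 0) (.leaf 3))))) (.node (.node (.node (.node (.leaf 0) (.leaf 3)) (.node (.leaf 0) (.leaf 3))) (.node (.node (.leaf 0) (.leaf 0)) (.node (.leaf 3) (.leaf 3)))) (.node (.node (.node (.leaf 0) (.leaf 0)) (.node (.leaf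 0) (.leaf 3))) (.node (.node (.leaf 0) (.leaf 3)) (.leaf 0))))) (.node (.node (.node (.node (.node (.leaf 0) (.leaf 3)) (.node (.leaf 0) (.leaf 0))) (.node (.node (.leaf 3) (.leaf 3)) (.node (.leaf 3) (.leaf 3)))) (.node (.node (.node (.leaf 0) (.leaf 3)) (.node (.leaf 3) (.leaf 3))) (.node (.node (.leaf 0) (.leaf 3)) (.leaf 3)))) (.node (.node (.node (.node (.leaf 0) (.leaf 3)) (.node (.leaf 3) (.leaf 3))) (.node (.node (.leaf 0) (.leaf 3)) (.node (.leaf 0) (.leaf 3)))) (.node (.node (.node (.leaf 0) (.leaf 3)) (.node (.leaf 0) (.leaf 3))) (.node (.node (.leaf 0) (.leaf 3)) (.leaf 3)))))))) (.node (.node (.node (.node (.node (.node (.node (.node (.leaf 0) (.leaf 3)) (.node (.leaf 0) (.leaf 3))) (.node (.node (.leaf 0) (.leaf 3)) (.node (.leaf 3) (.leaf 3)))) (.node (.node (.node (.leaf 0) (.leaf 0)) (.node (.leaf 3) (.leaf 3))) (.node (.node (.leaf 0) (.leaf 3)) (.node (.leaf 0) (.leaf 3))))) (.node (.node (.node (.node (.leaf 0) (.leaf 0)) (.node (.leaf 3) (.leaf 3))) (.node (.node (.leaf 0) (.leaf 0)) (.node (.leaf 0) (.leaf 3))))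 (.node (.node (.node (.leaf 0) (.leaf 0)) (.node (.leaf 0) (.leaf 3))) (.node (.node (.leaf 3) (.leaf 3)) (.leaf 3))))) (.node (.node (.node (.node (.node (.leaf 0) (.leaf 3)) (.node (.leaf 0) (.leaf 3))) (.node (.node (.leaf 0) (.leaf 3)) (.node (.leaf 0) (.leaf 3)))) (.node (.node (.node (.leaf 0) (.leaf 3)) (.node (.leaf 0) (.leaf 3))) (.node (.node (.leaf 0) (.leaf 3)) (.leaf 3)))) (.node (.node (.node (.node (.leaf 0) (.leaf 0)) (.node (.leaf 3) (.leaf 3))) (.node (.node (.leaf 0) (.leaf 0)) (.node (.leaf 0) (.leaf 3)))) (.node (.node (.node (.leaf 0) (.leaf 3)) (.node (.leaf 3) (.leaf 0))) (.node (.node (.leaf 0) (.leaf 0)) (.leaf 3)))))) (.node (.node (.node (.node (.node (.node (.leaf 3) (.leaf 3)) (.node (.leaf 0) (.leaf 0))) (.node (.node (.leaf 0) (.leaf 3)) (.node (.leaf 0) (.leaf 3)))) (.node (.node (.node (.leaf 0) (.leaf 3)) (.node (.leaf 0) (.leaf 3))) (.node (.node (.leaf 0) (.leaf 3)) (.node (.leaf 3) (.leaf 3))))) (.node (.node (.node (.node (.leaf 0) (.leaf 0)) (.node (.leaf 0) (.leaf 3))) (.node (.node (.leaf 3) (.leaf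 3)) (.node (.leaf 0) (.leaf 3)))) (.node (.node (.node (.leaf 0) (.leaf 3)) (.node (.leaf 3) (.leaf 3))) (.node (.node (.leaf 3) (.leaf 3)) (.leaf 3))))) (.node (.node (.node (.node (.node (.leaf 0) (.leaf 3)) (.node (.leaf 0) (.leaf 3))) (.node (.node (.leaf 0) (.leaf 3)) (.node (.leaf 0) (.leaf 3)))) (.node (.node (.node (.leaf 3) (.leaf 0)) (.node (.leaf 0) (.leaf 3))) (.node (.node (.leaf 0) (.leaf 3)) (.leaf 0)))) (.node (.node (.node (.node (.leaf 0) (.leaf 3)) (.node (.leaf 3) (.leaf 3))) (.node (.node (.leaf 3) (.leaf 0)) (.node (.leaf 3) (.leaf 3)))) (.node (.node (.node (.leaf 0) (.leaf 0)) (.node (.leaf 3) (.leaf 3))) (.node (.node (.leaf 0) (.leaf 3)) (.leaf 3))))))) (.node (.node (.node (.node (.node (.node (.node (.leaf 0) (.leaf 3)) (.node (.leaf 3) (.leaf 3))) (.node (.node (.leaf 0) (.leaf 3)) (.node (.leaf 0) (.leaf 3)))) (.node (.node (.node (.leaf 3) (.leaf 0)) (.node (.leaf 3) (.leaf 3))) (.node (.node (.leaf 0) (.leaf 3)) (.node (.leaf 3) (.leaf 3))))) (.node (.node (.node (.node (.leaf 3) (.leaf 3)) (.node (.leaf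 0) (.leaf 3))) (.node (.node (.leaf 0) (.leaf 3)) (.node (.leaf 3) (.leaf 3)))) (.node (.node (.node (.leaf 0) (.leaf 0)) (.node (.leaf 3) (.leaf 3))) (.node (.node (.leaf 0) (.leaf 3)) (.leaf 3))))) (.node (.node (.node (.node (.node (.leaf 0) (.leaf 3)) (.node (.leaf 0) (.leaf 3))) (.node (.node (.leaf 3) (.leaf 3)) (.node (.leaf 0) (.leaf 3)))) (.node (.node (.node (.leaf 0) (.leaf 3)) (.node (.leaf 0) (.leaf 0))) (.node (.node (.leaf 0) (.leaf 3)) (.leaf 0)))) (.node (.node (.node (.node (.leaf 0) (.leaf 0)) (.node (.leaf 0) (.leaf 3))) (.node (.node (.leaf 3) (.leaf 0)) (.node (.leaf 3) (.leaf 3)))) (.node (.node (.node (.leaf 0) (.leaf 3)) (.node (.leaf 0) (.leaf 3))) (.node (.node (.leaf 3) (.leaf 3)) (.leaf 3)))))) (.node (.node (.node (.node (.node (.node (.leaf 0) (.leaf 3)) (.node (.leaf 0) (.leaf 3))) (.node (.node (.leaf 0) (.leaf 3)) (.node (.leaf 3) (.leaf 3)))) (.node (.node (.node (.leaf 0) (.leaf 3)) (.node (.leaf 0) (.leaf 3))) (.node (.node (.leaf 3) (.leaf 3)) (.node (.leaf 3) (.leaf 3))))) (.node (.node (.node (.node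 (.leaf 0) (.leaf 0)) (.node (.leaf 3) (.leaf 3))) (.node (.node (.leaf 0) (.leaf 3)) (.node (.leaf 3) (.leaf 3)))) (.node (.node (.node (.leaf 3) (.leaf 3)) (.node (.leaf 0) (.leaf 3))) (.node (.node (.leaf 0) (.leaf 3)) (.leaf 3))))) (.node (.node (.node (.node (.node (.leaf 0) (.leaf 0)) (.node (.leaf 3) (.leaf 3))) (.node (.node (.leaf 0) (.leaf 3)) (.node (.leaf 0) (.leaf 0)))) (.node (.node (.node (.leaf 0) (.leaf 0)) (.node (.leaf 0) (.leaf 3))) (.node (.node (.leaf 0) (.leaf 0)) (.leaf 3)))) (.node (.node (.node (.node (.leaf 0) (.leaf 0)) (.node (.leaf 0) (.leaf 3))) (.node (.node (.leaf 0) (.leaf 0)) (.node (.leaf 0) (.leaf 3)))) (.node (.node (.node (.leaf 0) (.leaf 0)) (.node (.leaf 3) (.leaf 3))) (.node (.node (.leaf 3) (.leaf 3)) (.leaf 3)))))))))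

def threeKind5 : Janko.Tree (ℕ) :=
  (.node (.node (.node (.node (.node (.node (.node (.node (.node (.leaf 0) (.leaf 0)) (.node (.leaf 0) (.leaf 3))) (.node (.node (.leaf 0) (.leaf 0)) (.node (.leaf 0) (.leaf 3)))) (.node (.node (.node (.leaf 0) (.leaf 3)) (.node (.leaf 0) (.leaf 3))) (.node (.node (.leaf 0) (.leaf 3)) (.node (.leaf 0) (.leaf 3))))) (.node (.node (.node (.node (.leaf 0) (.leaf 0)) (.node (.leaf 0) (.leaf 3))) (.node (.node (.leaf 0) (.leaf 3)) (.node (.leaf 3) (.leaf 3)))) (.node (.node (.node (.leaf 3) (.leaf 3)) (.node (.leaf 0) (.leaf 3))) (.node (.node (.leaf 0) (.leaf 3)) (.leaf 3))))) (.node (.node (.node (.node (.node (.leaf 0) (.leaf 0)) (.node (.leaf 0) (.leaf 0))) (.node (.node (.leaf 0) (.leaf 0)) (.node (.leaf 0) (.leaf 3)))) (.node (.node (.node (.leaf 0) (.leaf 3)) (.node (.leaf 0) (.leaf 3))) (.node (.node (.leaf 0) (.leaf 3)) (.leaf 3)))) (.node (.node (.node (.node (.leaf 0) (.leaf 0)) (.node (.leaf 0) (.leaf 0))) (.node (.node (.leaf 0) (.leaf 3)) (.node (.leaf 3) (.leaf 3)))) (.node (.node (.node (.leaf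 0) (.leaf 3)) (.node (.leaf 0) (.leaf 3))) (.node (.node (.leaf 0) (.leaf 0)) (.leaf 0)))))) (.node (.node (.node (.node (.node (.node (.leaf 0) (.leaf 3)) (.node (.leaf 0) (.leaf 3))) (.node (.node (.leaf 0) (.leaf 3)) (.node (.leaf 0) (.leaf 3)))) (.node (.node (.node (.leaf 0) (.leaf 3)) (.node (.leaf 0) (.leaf 3))) (.node (.node (.leaf 0) (.leaf 3)) (.node (.leaf 3) (.leaf 3))))) (.node (.node (.node (.node (.leaf 0) (.leaf 3)) (.node (.leaf 0) (.leaf 3))) (.node (.node (.leaf 0) (.leaf 3)) (.node (.leaf 3) (.leaf 3)))) (.node (.node (.node (.leaf 0) (.leaf 3)) (.node (.leaf 0) (.leaf 3))) (.node (.node (.leaf 0) (.leaf 3)) (.leaf 3))))) (.node (.node (.node (.node (.node (.leaf 0) (.leaf 3)) (.node (.leaf 0) (.leaf 3))) (.node (.node (.leaf 0) (.leaf 3)) (.node (.leaf 0) (.leaf 0)))) (.node (.node (.node (.leaf 0) (.leaf 3)) (.node (.leaf 3) (.leaf 3))) (.node (.node (.leaf 3) (.leaf 3)) (.leaf 3)))) (.node (.node (.node (.node (.leaf 0) (.leaf 0)) (.node (.leaf 0) (.leaf 3))) (.node (.node (.leaf 0) (.leaf 0)) (.node (.leaf 0) (.leaf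 3)))) (.node (.node (.node (.leaf 0) (.leaf 3)) (.node (.leaf 0) (.leaf 3))) (.node (.node (.leaf 0) (.leaf 3)) (.leaf 0))))))) (.node (.node (.node (.node (.node (.node (.node (.leaf 0) (.leaf 3)) (.node (.leaf 0) (.leaf 3))) (.node (.node (.leaf 0) (.leaf 3)) (.node (.leaf 0) (.leaf 3)))) (.node (.node (.node (.leaf 0) (.leaf 0)) (.node (.leaf 0) (.leaf 3))) (.node (.node (.leaf 0) (.leaf 3)) (.node (.leaf 0) (.leaf 3))))) (.node (.node (.node (.node (.leaf 0) (.leaf 3)) (.node (.leaf 0) (.leaf 3))) (.node (.node (.leaf 0) (.leaf 0)) (.node (.leaf 0) (.leaf 3)))) (.node (.node (.node (.leaf 0) (.leaf 0)) (.node (.leaf 0) (.leaf 3))) (.node (.node (.leaf 0) (.leaf 3)) (.leaf 0))))) (.node (.node (.node (.node (.node (.leaf 0) (.leaf 3)) (.node (.leaf 0) (.leaf 0))) (.node (.node (.leaf 0) (.leaf 3)) (.node (.leaf 0) (.leaf 3)))) (.node (.node (.node (.leaf 0) (.leaf 3)) (.node (.leaf 0) (.leaf 3))) (.node (.node (.leaf 0) (.leaf 0)) (.leaf 3)))) (.node (.node (.node (.node (.leaf 0) (.leaf 0)) (.node (.leaf 3) (.leaf 3))) (.node (.node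 (.leaf 0) (.leaf 0)) (.node (.leaf 3) (.leaf 3)))) (.node (.node (.node (.leaf 0) (.leaf 3)) (.node (.leaf 0) (.leaf 3))) (.node (.node (.leaf 0) (.leaf 3)) (.leaf 0)))))) (.node (.node (.node (.node (.node (.node (.leaf 0) (.leaf 0)) (.node (.leaf 0) (.leaf 3))) (.node (.node (.leaf 0) (.leaf 3)) (.node (.leaf 0) (.leaf 0)))) (.node (.node (.node (.leaf 0) (.leaf 3)) (.node (.leaf 0) (.leaf 0))) (.node (.node (.leaf 3) (.leaf 3)) (.node (.leaf 0) (.leaf 3))))) (.node (.node (.node (.node (.leaf 0) (.leaf 3)) (.node (.leaf 3) (.leaf 3))) (.node (.node (.leaf 0) (.leaf 3)) (.node (.leaf 3) (.leaf 3)))) (.node (.node (.node (.leaf 0) (.leaf 3)) (.node (.leaf 0) (.leaf 3))) (.node (.node (.leaf 0) (.leaf 3)) (.leaf 0))))) (.node (.node (.node (.node (.node (.leaf 0) (.leaf 0)) (.node (.leaf 0) (.leaf 3))) (.node (.node (.leaf 0) (.leaf 3)) (.node (.leaf 0) (.leaf 3)))) (.node (.node (.node (.leaf 0) (.leaf 3)) (.node (.leaf 0) (.leaf 3))) (.node (.node (.leaf 0) (.leaf 3)) (.leaf 0)))) (.node (.node (.node (.node (.leaf 0) (.leaf 0)) (.node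 (.leaf 0) (.leaf 3))) (.node (.node (.leaf 0) (.leaf 0)) (.node (.leaf 3) (.leaf 3)))) (.node (.node (.node (.leaf 0) (.leaf 3)) (.node (.leaf 3) (.leaf 3))) (.node (.node (.leaf 3) (.leaf 3)) (.leaf 3)))))))) (.node (.node (.node (.node (.node (.node (.node (.node (.leaf 0) (.leaf 3)) (.node (.leaf 0) (.leaf 3))) (.node (.node (.leaf 3) (.leaf 3)) (.node (.leaf 0) (.leaf 3)))) (.node (.node (.node (.leaf 0) (.leaf 0)) (.node (.leaf 0) (.leaf 3))) (.node (.node (.leaf 0) (.leaf 3)) (.node (.leaf 3) (.leaf 3))))) (.node (.node (.node (.node (.leaf 3) (.leaf 0)) (.node (.leaf 0) (.leaf 0))) (.node (.node (.leaf 0) (.leaf 3)) (.node (.leaf 3) (.leaf 3)))) (.node (.node (.node (.leaf 0) (.leaf 3)) (.node (.leaf 3) (.leaf 3))) (.node (.node (.leaf 0) (.leaf 3)) (.leaf 3))))) (.node (.node (.node (.node (.node (.leaf 0) (.leaf 3)) (.node (.leaf 3) (.leaf 3))) (.node (.node (.leaf 0) (.leaf 0)) (.node (.leaf 3) (.leaf 3)))) (.node (.node (.node (.leaf 0) (.leaf 0)) (.node (.leaf 0) (.leaf 3))) (.node (.node (.leaf 0) (.leaf 3)) (.leaf 3))))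 (.node (.node (.node (.node (.leaf 0) (.leaf 0)) (.node (.leaf 0) (.leaf 0))) (.node (.node (.leaf 0) (.leaf 3)) (.node (.leaf 0) (.leaf 3)))) (.node (.node (.node (.leaf 0) (.leaf 0)) (.node (.leaf 0) (.leaf 3))) (.node (.node (.leaf 0) (.leaf 3)) (.leaf 0)))))) (.node (.node (.node (.node (.node (.node (.leaf 0) (.leaf 3)) (.node (.leaf 0) (.leaf 0))) (.node (.node (.leaf 0) (.leaf 3)) (.node (.leaf 3) (.leaf 3)))) (.node (.node (.node (.leaf 0) (.leaf 3)) (.node (.leaf 0) (.leaf 3))) (.node (.node (.leaf 0) (.leaf 3)) (.node (.leaf 3) (.leaf 3))))) (.node (.node (.node (.node (.leaf 3) (.leaf 3)) (.node (.leaf 3) (.leaf 3))) (.node (.node (.leaf 0) (.leaf 3)) (.node (.leaf 3) (.leaf 3)))) (.node (.node (.node (.leaf 3) (.leaf 0)) (.node (.leaf 3) (.leaf 3))) (.node (.node (.leaf 3) (.leaf 3)) (.leaf 0))))) (.node (.node (.node (.node (.node (.leaf 0) (.leaf 3)) (.node (.leaf 0) (.leaf 3))) (.node (.node (.leaf 0) (.leaf 3)) (.node (.leaf 0) (.leaf 0)))) (.node (.node (.node (.leaf 0) (.leaf 0)) (.node (.leaf 0) (.leaf 0))) (.node (.node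 (.leaf 0) (.leaf 3)) (.leaf 3)))) (.node (.node (.node (.node (.leaf 0) (.leaf 3)) (.node (.leaf 0) (.leaf 3))) (.node (.node (.leaf 0) (.leaf 3)) (.node (.leaf 0) (.leaf 3)))) (.node (.node (.node (.leaf 0) (.leaf 0)) (.node (.leaf 0) (.leaf 3))) (.node (.node (.leaf 0) (.leaf 3)) (.leaf 3))))))) (.node (.node (.node (.node (.node (.node (.node (.leaf 0) (.leaf 3)) (.node (.leaf 0) (.leaf 0))) (.node (.node (.leaf 0) (.leaf 0)) (.node (.leaf 0) (.leaf 0)))) (.node (.node (.node (.leaf 0) (.leaf 3)) (.node (.leaf 0) (.leaf 0))) (.node (.node (.leaf 0) (.leaf 3)) (.node (.leaf 0) (.leaf 3))))) (.node (.node (.node (.node (.leaf 0) (.leaf 0)) (.node (.leaf 0) (.leaf 3))) (.node (.node (.leaf 3) (.leaf 3)) (.node (.leaf 3) (.leaf 3)))) (.node (.node (.node (.leaf 0) (.leaf 3)) (.node (.leaf 3) (.leaf 3))) (.node (.node (.leaf 3) (.leaf 3)) (.leaf 3))))) (.node (.node (.node (.node (.node (.leaf 0) (.leaf 3)) (.node (.leaf 3) (.leaf 0))) (.node (.node (.leaf 0) (.leaf 3)) (.node (.leaf 3) (.leaf 3)))) (.node (.node (.node (.leaf 3) (.leaf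 0)) (.node (.leaf 3) (.leaf 3))) (.node (.node (.leaf 3) (.leaf 3)) (.leaf 0)))) (.node (.node (.node (.node (.leaf 0) (.leaf 3)) (.node (.leaf 0) (.leaf 3))) (.node (.node (.leaf 0) (.leaf 3)) (.node (.leaf 3) (.leaf 3)))) (.node (.node (.node (.leaf 0) (.leaf 0)) (.node (.leaf 3) (.leaf 3))) (.node (.node (.leaf 0) (.leaf 0)) (.leaf 3)))))) (.node (.node (.node (.node (.node (.node (.leaf 0) (.leaf 0)) (.node (.leaf 0) (.leaf 3))) (.node (.node (.leaf 0) (.leaf 3)) (.node (.leaf 3) (.leaf 3)))) (.node (.node (.node (.leaf 0) (.leaf 3)) (.node (.leaf 3) (.leaf 3))) (.node (.node (.leaf 0) (.leaf 3)) (.node (.leaf 3) (.leaf 3))))) (.node (.node (.node (.node (.leaf 0) (.leaf 3)) (.node (.leaf 3) (.leaf 3))) (.node (.node (.leaf 3) (.leaf 3)) (.node (.leaf 3) (.leaf 3)))) (.node (.node (.node (.leaf 0) (.leaf 3)) (.node (.leaf 0) (.leaf 3))) (.node (.node (.leaf 0) (.leaf 3)) (.leaf 3))))) (.node (.node (.node (.node (.node (.leaf 0) (.leaf 0)) (.node (.leaf 0) (.leaf 0))) (.node (.node (.leaf 0) (.leaf 0)) (.node (.leaf 0) (.leaf 3))))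 (.node (.node (.node (.leaf 3) (.leaf 3)) (.node (.leaf 0) (.leaf 3))) (.node (.node (.leaf 3) (.leaf 3)) (.leaf 0)))) (.node (.node (.node (.node (.leaf 0) (.leaf 3)) (.node (.leaf 3) (.leaf 3))) (.node (.node (.leaf 0) (.leaf 3)) (.node (.leaf 3) (.leaf 3)))) (.node (.node (.node (.leaf 0) (.leaf 3)) (.node (.leaf 3) (.leaf 3))) (.node (.node (.leaf 0) (.leaf 0)) (.leaf 3)))))))))

def threeKind6 : Janko.Tree (ℕ) :=
  (.node (.node (.node (.node (.node (.node (.node (.node (.node (.leaf 0) (.leaf 0)) (.node (.leaf 0) (.leaf 3))) (.node (.node (.leaf 3) (.leaf 3)) (.node (.leaf 0) (.leaf 3)))) (.node (.node (.node (.leaf 0) (.leaf 3)) (.node (.leaf 3) (.leaf 3))) (.node (.node (.leaf 0) (.leaf 0)) (.node (.leaf 0) (.leaf 3))))) (.node (.node (.node (.node (.leaf 0) (.leaf 0)) (.node (.leaf 3) (.leaf 0))) (.node (.node (.leaf 0) (.leaf 3)) (.node (.leaf 3) (.leaf 3)))) (.node (.node (.node (.leaf 0) (.leaf 3)) (.node (.leaf 3) (.leaf 3))) (.node (.node (.leaf 0) (.leaf 3)) (.leaf 3))))) (.node (.node (.node (.node (.node (.leaf 0) (.leaf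 3)) (.node (.leaf 0) (.leaf 3))) (.node (.node (.leaf 0) (.leaf 0)) (.node (.leaf 3) (.leaf 3)))) (.node (.node (.node (.leaf 0) (.leaf 0)) (.node (.leaf 0) (.leaf 3))) (.node (.node (.leaf 3) (.leaf 3)) (.leaf 3)))) (.node (.node (.node (.node (.leaf 0) (.leaf 0)) (.node (.leaf 0) (.leaf 0))) (.node (.node (.leaf 0) (.leaf 3)) (.node (.leaf 3) (.leaf 3)))) (.node (.node (.node (.leaf 0) (.leaf 3)) (.node (.leaf 0) (.leaf 3))) (.node (.node (.leaf 0) (.leaf 3)) (.leaf 0)))))) (.node (.node (.node (.node (.node (.node (.leaf 0) (.leaf 3)) (.node (.leaf 0) (.leaf 0))) (.node (.node (.leaf 0) (.leaf 3)) (.node (.leaf 0) (.leaf 3)))) (.node (.node (.node (.leaf 0) (.leaf 3)) (.node (.leaf 0) (.leaf 0))) (.node (.node (.leaf 0) (.leaf 3)) (.node (.leaf 0) (.leaf 3))))) (.node (.node (.node (.node (.leaf 0) (.leaf 3)) (.node (.leaf 3) (.leaf 3))) (.node (.node (.leaf 3) (.leaf 3)) (.node (.leaf 3) (.leaf 3)))) (.node (.node (.node (.leaf 0) (.leaf 3)) (.node (.leaf 0) (.leaf 3))) (.node (.node (.leaf 0) (.leaf 3)) (.leaf 3))))) (.node (.node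 (.node (.node (.node (.leaf 3) (.leaf 3)) (.node (.leaf 0) (.leaf 3))) (.node (.node (.leaf 0) (.leaf 3)) (.node (.leaf 0) (.leaf 3)))) (.node (.node (.node (.leaf 0) (.leaf 3)) (.node (.leaf 0) (.leaf 0))) (.node (.node (.leaf 0) (.leaf 3)) (.leaf 0)))) (.node (.node (.node (.node (.leaf 0) (.leaf 0)) (.node (.leaf 3) (.leaf 0))) (.node (.node (.leaf 3) (.leaf 0)) (.node (.leaf 3) (.leaf 3)))) (.node (.node (.node (.leaf 0) (.leaf 3)) (.node (.leaf 0) (.leaf 3))) (.node (.node (.leaf 0) (.leaf 0)) (.leaf 0))))))) (.node (.node (.node (.node (.node (.node (.node (.leaf 0) (.leaf 3)) (.node (.leaf 3) (.leaf 3))) (.node (.node (.leaf 0) (.leaf 3)) (.node (.leaf 0) (.leaf 3)))) (.node (.node (.node (.leaf 0) (.leaf 3)) (.node (.leaf 3) (.leaf 3))) (.node (.node (.leaf 0) (.leaf 0)) (.node (.leaf 3) (.leaf 3))))) (.node (.node (.node (.node (.leaf 0) (.leaf 3)) (.node (.leaf 3) (.leaf 3))) (.node (.node (.leaf 0) (.leaf 3)) (.node (.leaf 3) (.leaf 3)))) (.node (.node (.node (.leaf 0) (.leaf 0)) (.node (.leaf 0) (.leaf 3))) (.node (.node (.leaf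 0) (.leaf 3)) (.leaf 3))))) (.node (.node (.node (.node (.node (.leaf 0) (.leaf 0)) (.node (.leaf 0) (.leaf 3))) (.node (.node (.leaf 0) (.leaf 0)) (.node (.leaf 3) (.leaf 3)))) (.node (.node (.node (.leaf 0) (.leaf 0)) (.node (.leaf 0) (.leaf 3))) (.node (.node (.leaf 0) (.leaf 3)) (.leaf 3)))) (.node (.node (.node (.node (.leaf 3) (.leaf 0)) (.node (.leaf 0) (.leaf 3))) (.node (.node (.leaf 0) (.leaf 3)) (.node (.leaf 0) (.leaf 3)))) (.node (.node (.node (.leaf 3) (.leaf 3)) (.node (.leaf 0) (.leaf 3))) (.node (.node (.leaf 0) (.leaf 3)) (.leaf 0)))))) (.node (.node (.node (.node (.node (.node (.leaf 0) (.leaf 0)) (.node (.leaf 3) (.leaf 3))) (.node (.node (.leaf 0) (.leaf 0)) (.node (.leaf 0) (.leaf 3)))) (.node (.node (.node (.leaf 0) (.leaf 3)) (.node (.leaf 3) (.leaf 3))) (.node (.node (.leaf 0) (.leaf 0)) (.node (.leaf 3) (.leaf 3))))) (.node (.node (.node (.node (.leaf 0) (.leaf 0)) (.node (.leaf 3) (.leaf 3))) (.node (.node (.leaf 3) (.leaf 3)) (.node (.leaf 3) (.leaf 3)))) (.node (.node (.node (.leaf 0) (.leaf 0)) (.node (.leaf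 0) (.leaf 3))) (.node (.node (.leaf 0) (.leaf 3)) (.leaf 3))))) (.node (.node (.node (.node (.node (.leaf 0) (.leaf 0)) (.node (.leaf 0) (.leaf 3))) (.node (.node (.leaf 3) (.leaf 3)) (.node (.leaf 0) (.leaf 3)))) (.node (.node (.node (.leaf 0) (.leaf 0)) (.node (.leaf 0) (.leaf 3))) (.node (.node (.leaf 0) (.leaf 3)) (.leaf 3)))) (.node (.node (.node (.node (.leaf 0) (.leaf 3)) (.node (.leaf 3) (.leaf 3))) (.node (.node (.leaf 0) (.leaf 3)) (.node (.leaf 0) (.leaf 3)))) (.node (.node (.node (.leaf 0) (.leaf 3)) (.node (.leaf 0) (.leaf 3))) (.node (.node (.leaf 0) (.leaf 3)) (.leaf 3)))))))) (.node (.node (.node (.node (.node (.node (.node (.node (.leaf 3) (.leaf 3)) (.node (.leaf 0) (.leaf 3))) (.node (.node (.leaf 0) (.leaf 0)) (.node (.leaf 0) (.leaf 3)))) (.node (.node (.node (.leaf 0) (.leaf 3)) (.node (.leaf 0) (.leaf 3))) (.node (.node (.leaf 3) (.leaf 0)) (.node (.leaf 3) (.leaf 3))))) (.node (.node (.node (.node (.leaf 0) (.leaf 3)) (.node (.leaf 3) (.leaf 3))) (.node (.node (.leaf 0) (.leaf 3)) (.node (.leaf 3) (.leaf 3))))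 (.node (.node (.node (.leaf 0) (.leaf 3)) (.node (.leaf 0) (.leaf 3))) (.node (.node (.leaf 3) (.leaf 3)) (.leaf 0))))) (.node (.node (.node (.node (.node (.leaf 0) (.leaf 3)) (.node (.leaf 0) (.leaf 3))) (.node (.node (.leaf 0) (.leaf 0)) (.node (.leaf 0) (.leaf 3)))) (.node (.node (.node (.leaf 3) (.leaf 0)) (.node (.leaf 0) (.leaf 3))) (.node (.node (.leaf 0) (.leaf 3)) (.leaf 0)))) (.node (.node (.node (.node (.leaf 0) (.leaf 0)) (.node (.leaf 0) (.leaf 0))) (.node (.node (.leaf 3) (.leaf 0)) (.node (.leaf 0) (.leaf 3)))) (.node (.node (.node (.leaf 0) (.leaf 3)) (.node (.leaf 0) (.leaf 0))) (.node (.node (.leaf 0) (.leaf 3)) (.leaf 0)))))) (.node (.node (.node (.node (.node (.node (.leaf 0) (.leaf 3)) (.node (.leaf 0) (.leaf 0))) (.node (.node (.leaf 0) (.leaf 3)) (.node (.leaf 0) (.leaf 3)))) (.node (.node (.node (.leaf 0) (.leaf 3)) (.node (.leaf 0) (.leaf 0))) (.node (.node (.leaf 3) (.leaf 3)) (.node (.leaf 0) (.leaf 3))))) (.node (.node (.node (.node (.leaf 0) (.leaf 0)) (.node (.leaf 3) (.leaf 3))) (.node (.node (.leaf 0) (.leaf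 3)) (.node (.leaf 3) (.leaf 3)))) (.node (.node (.node (.leaf 0) (.leaf 0)) (.node (.leaf 3) (.leaf 3))) (.node (.node (.leaf 3) (.leaf 3)) (.leaf 0))))) (.node (.node (.node (.node (.node (.leaf 0) (.leaf 3)) (.node (.leaf 0) (.leaf 3))) (.node (.node (.leaf 3) (.leaf 0)) (.node (.leaf 0) (.leaf 0)))) (.node (.node (.node (.leaf 3) (.leaf 0)) (.node (.leaf 3) (.leaf 3))) (.node (.node (.leaf 0) (.leaf 3)) (.leaf 3)))) (.node (.node (.node (.node (.leaf 0) (.leaf 0)) (.node (.leaf 0) (.leaf 0))) (.node (.node (.leaf 0) (.leaf 3)) (.node (.leaf 3) (.leaf 3)))) (.node (.node (.node (.leaf 0) (.leaf 3)) (.node (.leaf 0) (.leaf 3))) (.node (.node (.leaf 0) (.leaf 0)) (.leaf 3))))))) (.node (.node (.node (.node (.node (.node (.node (.leaf 0) (.leaf 0)) (.node (.leaf 0) (.leaf 3))) (.node (.node (.leaf 0) (.leaf 3)) (.node (.leaf 0) (.leaf 3)))) (.node (.node (.node (.leaf 0) (.leaf 0)) (.node (.leaf 0) (.leaf 3))) (.node (.node (.leaf 0) (.leaf 3)) (.node (.leaf 0) (.leaf 3))))) (.node (.node (.node (.node (.leaf 3) (.leaf 0)) (.node (.leaf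 0) (.leaf 3))) (.node (.node (.leaf 0) (.leaf 0)) (.node (.leaf 0) (.leaf 3)))) (.node (.node (.node (.leaf 0) (.leaf 3)) (.node (.leaf 0) (.leaf 3))) (.node (.node (.leaf 0) (.leaf 3)) (.leaf 3))))) (.node (.node (.node (.node (.node (.leaf 0) (.leaf 0)) (.node (.leaf 3) (.leaf 3))) (.node (.node (.leaf 0) (.leaf 3)) (.node (.leaf 0) (.leaf 3)))) (.node (.node (.node (.leaf 3) (.leaf 3)) (.node (.leaf 0) (.leaf 3))) (.node (.node (.leaf 0) (.leaf 3)) (.leaf 0)))) (.node (.node (.node (.node (.leaf 0) (.leaf 0)) (.node (.leaf 3) (.leaf 3))) (.node (.node (.leaf 0) (.leaf 3)) (.node (.leaf 0) (.leaf 3)))) (.node (.node (.node (.leaf 0) (.leaf 3)) (.node (.leaf 0) (.leaf 3))) (.node (.node (.leaf 0) (.leaf 3)) (.leaf 0)))))) (.node (.node (.node (.node (.node (.node (.leaf 0) (.leaf 3)) (.node (.leaf 0) (.leaf 3))) (.node (.node (.leaf 0) (.leaf 3)) (.node (.leaf 0) (.leaf 3)))) (.node (.node (.node (.leaf 0) (.leaf 3)) (.node (.leaf 0) (.leaf 3))) (.node (.node (.leaf 0) (.leaf 3)) (.leaf 0)))) (.node (.node (.node (.node (.leaf 0) (.leaf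 0)) (.node (.leaf 3) (.leaf 3))) (.node (.node (.leaf 3) (.leaf 0)) (.node (.leaf 0) (.leaf 3)))) (.node (.node (.node (.leaf 3) (.leaf 0)) (.node (.leaf 0) (.leaf 3))) (.node (.node (.leaf 3) (.leaf 0)) (.leaf 3))))) (.node (.node (.node (.node (.node (.leaf 3) (.leaf 0)) (.node (.leaf 3) (.leaf 3))) (.node (.node (.leaf 0) (.leaf 3)) (.node (.leaf 3) (.leaf 3)))) (.node (.node (.node (.leaf 0) (.leaf 3)) (.node (.leaf 3) (.leaf 3))) (.node (.node (.leaf 0) (.leaf 3)) (.leaf 3)))) (.node (.node (.node (.node (.leaf 3) (.leaf 3)) (.node (.leaf 3) (.leaf 3))) (.node (.node (.leaf 0) (.leaf 3)) (.node (.leaf 3) (.leaf 3)))) (.node (.node (.node (.leaf 3) (.leaf 3)) (.node (.leaf 0) (.leaf 3))) (.node (.node (.leaf 0) (.leaf 0)) (.leaf 0)))))))))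

def threeKind7 : Janko.Tree (ℕ) :=
  (.node (.node (.node (.node (.node (.node (.node (.node (.node (.leaf 0) (.leaf 3)) (.node (.leaf 0) (.leaf 3))) (.node (.node (.leaf 0) (.leaf 3)) (.node (.leaf 0) (.leaf 3)))) (.node (.node (.node (.leaf 0) (.leaf 0)) (.node (.leaf 0) (.leaf 3))) (.node (.node (.leaf 0) (.leaf 3)) (.node (.leaf 3) (.leaf 3))))) (.node (.node (.node (.node (.leaf 0) (.leaf 0)) (.node (.leaf 0) (.leaf 0))) (.node (.node (.leaf 3) (.leaf 3)) (.node (.leaf 0) (.leaf 3)))) (.node (.node (.node (.leaf 0) (.leaf 3)) (.node (.leaf 3) (.leaf 3))) (.node (.node (.leaf 0) (.leaf 3)) (.leaf 3))))) (.node (.node (.node (.node (.node (.leaf 0) (.leaf 3)) (.node (.leaf 0) (.leaf 3))) (.node (.node (.leaf 3) (.leaf 3)) (.node (.leaf 0) (.leaf 3)))) (.node (.node (.node (.leaf 0) (.leaf 3)) (.node (.leaf 0) (.leaf 3))) (.node (.node (.leaf 0) (.leaf 3)) (.leaf 3)))) (.node (.node (.node (.node (.leaf 0) (.leaf 3)) (.node (.leaf 3) (.leaf 3))) (.node (.node (.leaf 3) (.leaf 3)) (.node (.leaf 3) (.leaf 3)))) (.node (.node (.node (.leaf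 0) (.leaf 0)) (.node (.leaf 0) (.leaf 3))) (.node (.node (.leaf 0) (.leaf 3)) (.leaf 3)))))) (.node (.node (.node (.node (.node (.node (.leaf 0) (.leaf 0)) (.node (.leaf 0) (.leaf 0))) (.node (.node (.leaf 0) (.leaf 3)) (.node (.leaf 0) (.leaf 0)))) (.node (.node (.node (.leaf 0) (.leaf 0)) (.node (.leaf 0) (.leaf 3))) (.node (.node (.leaf 0) (.leaf 3)) (.node (.leaf 0) (.leaf 3))))) (.node (.node (.node (.node (.leaf 0) (.leaf 3)) (.node (.leaf 0) (.leaf 3))) (.node (.node (.leaf 3) (.leaf 3)) (.node (.leaf 3) (.leaf 3)))) (.node (.node (.node (.leaf 0) (.leaf 0)) (.node (.leaf 0) (.leaf 3))) (.node (.node (.leaf 0) (.leaf 0)) (.leaf 0))))) (.node (.node (.node (.node (.node (.leaf 0) (.leaf 0)) (.node (.leaf 0) (.leaf 0))) (.node (.node (.leaf 0) (.leaf 3)) (.node (.leaf 3) (.leaf 3)))) (.node (.node (.node (.leaf 0) (.leaf 3)) (.node (.leaf 0) (.leaf 3))) (.node (.node (.leaf 0) (.leaf 0)) (.leaf 3)))) (.node (.node (.node (.node (.leaf 0) (.leaf 3)) (.node (.leaf 0) (.leaf 3))) (.node (.node (.leaf 3) (.leaf 0)) (.node (.leaf 0) (.leaf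 3)))) (.node (.node (.node (.leaf 0) (.leaf 0)) (.node (.leaf 3) (.leaf 3))) (.node (.node (.leaf 0) (.leaf 3)) (.leaf 3))))))) (.node (.node (.node (.node (.node (.node (.node (.leaf 0) (.leaf 0)) (.node (.leaf 3) (.leaf 3))) (.node (.node (.leaf 0) (.leaf 3)) (.node (.leaf 0) (.leaf 3)))) (.node (.node (.node (.leaf 0) (.leaf 0)) (.node (.leaf 3) (.leaf 3))) (.node (.node (.leaf 0) (.leaf 3)) (.node (.leaf 0) (.leaf 3))))) (.node (.node (.node (.node (.leaf 0) (.leaf 0)) (.node (.leaf 3) (.leaf 0))) (.node (.node (.leaf 3) (.leaf 0)) (.node (.leaf 0) (.leaf 0)))) (.node (.node (.node (.leaf 0) (.leaf 3)) (.node (.leaf 0) (.leaf 3))) (.node (.node (.leaf 0) (.leaf 0)) (.leaf 0))))) (.node (.node (.node (.node (.node (.leaf 0) (.leaf 0)) (.node (.leaf 0) (.leaf 3))) (.node (.node (.leaf 0) (.leaf 3)) (.node (.leaf 3) (.leaf 3)))) (.node (.node (.node (.leaf 0) (.leaf 3)) (.node (.leaf 0) (.leaf 3))) (.node (.node (.leaf 0) (.leaf 3)) (.leaf 3)))) (.node (.node (.node (.node (.leaf 0) (.leaf 0)) (.node (.leaf 3) (.leaf 3))) (.node (.node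 (.leaf 0) (.leaf 3)) (.node (.leaf 0) (.leaf 3)))) (.node (.node (.node (.leaf 0) (.leaf 3)) (.node (.leaf 0) (.leaf 3))) (.node (.node (.leaf 0) (.leaf 0)) (.leaf 0)))))) (.node (.node (.node (.node (.node (.node (.leaf 0) (.leaf 0)) (.node (.leaf 0) (.leaf 3))) (.node (.node (.leaf 0) (.leaf 0)) (.node (.leaf 3) (.leaf 0)))) (.node (.node (.node (.leaf 0) (.leaf 3)) (.node (.leaf 0) (.leaf 3))) (.node (.node (.leaf 0) (.leaf 3)) (.node (.leaf 3) (.leaf 3))))) (.node (.node (.node (.node (.leaf 0) (.leaf 0)) (.node (.leaf 3) (.leaf 3))) (.node (.node (.leaf 0) (.leaf 3)) (.node (.leaf 3) (.leaf 3)))) (.node (.node (.node (.leaf 0) (.leaf 0)) (.node (.leaf 0) (.leaf 3))) (.node (.node (.leaf 0) (.leaf 0)) (.leaf 0))))) (.node (.node (.node (.node (.node (.leaf 0) (.leaf 0)) (.node (.leaf 0) (.leaf 3))) (.node (.node (.leaf 0) (.leaf 0)) (.node (.leaf 3) (.leaf 3)))) (.node (.node (.node (.leaf 3) (.leaf 3)) (.node (.leaf 0) (.leaf 3))) (.node (.node (.leaf 0) (.leaf 3)) (.leaf 3)))) (.node (.node (.node (.node (.leaf 0) (.leaf 0)) (.node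 (.leaf 3) (.leaf 0))) (.node (.node (.leaf 0) (.leaf 3)) (.node (.leaf 0) (.leaf 3)))) (.node (.node (.node (.leaf 3) (.leaf 3)) (.node (.leaf 3) (.leaf 3))) (.node (.node (.leaf 0) (.leaf 0)) (.leaf 0)))))))) (.node (.node (.node (.node (.node (.node (.node (.node (.leaf 0) (.leaf 0)) (.node (.leaf 3) (.leaf 3))) (.node (.node (.leaf 0) (.leaf 3)) (.node (.leaf 0) (.leaf 3)))) (.node (.node (.node (.leaf 0) (.leaf 0)) (.node (.leaf 3) (.leaf 3))) (.node (.node (.leaf 0) (.leaf 3)) (.node (.leaf 3) (.leaf 3))))) (.node (.node (.node (.node (.leaf 0) (.leaf 0)) (.node (.leaf 3) (.leaf 3))) (.node (.node (.leaf 3) (.leaf 3)) (.node (.leaf 0) (.leaf 3)))) (.node (.node (.node (.leaf 0) (.leaf 0)) (.node (.leaf 3) (.leaf 3))) (.node (.node (.leaf 0) (.leaf 3)) (.leaf 3))))) (.node (.node (.node (.node (.node (.leaf 0) (.leaf 3)) (.node (.leaf 3) (.leaf 3))) (.node (.node (.leaf 0) (.leaf 3)) (.node (.leaf 0) (.leaf 3)))) (.node (.node (.node (.leaf 0) (.leaf 0)) (.node (.leaf 0) (.leaf 3))) (.node (.node (.leaf 3) (.leaf 3)) (.leaf 3))))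 (.node (.node (.node (.node (.leaf 0) (.leaf 0)) (.node (.leaf 0) (.leaf 3))) (.node (.node (.leaf 3) (.leaf 3)) (.node (.leaf 3) (.leaf 3)))) (.node (.node (.node (.leaf 0) (.leaf 3)) (.node (.leaf 0) (.leaf 3))) (.node (.node (.leaf 3) (.leaf 0)) (.leaf 0)))))) (.node (.node (.node (.node (.node (.node (.leaf 0) (.leaf 0)) (.node (.leaf 0) (.leaf 3))) (.node (.node (.leaf 0) (.leaf 0)) (.node (.leaf 0) (.leaf 0)))) (.node (.node (.node (.leaf 0) (.leaf 0)) (.node (.leaf 0) (.leaf 3))) (.node (.node (.leaf 0) (.leaf 0)) (.node (.leaf 3) (.leaf 3))))) (.node (.node (.node (.node (.leaf 0) (.leaf 3)) (.node (.leaf 0) (.leaf 3))) (.node (.node (.leaf 0) (.leaf 0)) (.node (.leaf 3) (.leaf 3)))) (.node (.node (.node (.leaf 0) (.leaf 0)) (.node (.leaf 0) (.leaf 3))) (.node (.node (.leaf 3) (.leaf 3)) (.leaf 3))))) (.node (.node (.node (.node (.node (.leaf 0) (.leaf 0)) (.node (.leaf 0) (.leaf 0))) (.node (.node (.leaf 0) (.leaf 3)) (.node (.leaf 0) (.leaf 3)))) (.node (.node (.node (.leaf 0) (.leaf 3)) (.node (.leaf 3) (.leaf 3))) (.node (.node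 (.leaf 0) (.leaf 3)) (.leaf 3)))) (.node (.node (.node (.node (.leaf 0) (.leaf 3)) (.node (.leaf 0) (.leaf 3))) (.node (.node (.leaf 3) (.leaf 3)) (.node (.leaf 0) (.leaf 3)))) (.node (.node (.node (.leaf 0) (.leaf 3)) (.node (.leaf 0) (.leaf 3))) (.node (.node (.leaf 0) (.leaf 3)) (.leaf 3))))))) (.node (.node (.node (.node (.node (.node (.node (.leaf 0) (.leaf 0)) (.node (.leaf 3) (.leaf 3))) (.node (.node (.leaf 0) (.leaf 0)) (.node (.leaf 0) (.leaf 3)))) (.node (.node (.node (.leaf 0) (.leaf 0)) (.node (.leaf 3) (.leaf 3))) (.node (.node (.leaf 0) (.leaf 3)) (.node (.leaf 0) (.leaf 3))))) (.node (.node (.node (.node (.leaf 0) (.leaf 3)) (.node (.leaf 0) (.leaf 3))) (.node (.node (.leaf 3) (.leaf 3)) (.node (.leaf 0) (.leaf 3)))) (.node (.node (.node (.leaf 0) (.leaf 3)) (.node (.leaf 0) (.leaf 3))) (.node (.node (.leaf 3) (.leaf 3)) (.leaf 3))))) (.node (.node (.node (.node (.node (.leaf 0) (.leaf 0)) (.node (.leaf 0) (.leaf 0))) (.node (.node (.leaf 3) (.leaf 3)) (.node (.leaf 0) (.leaf 3)))) (.node (.node (.node (.leaf 0) (.leaf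 0)) (.node (.leaf 0) (.leaf 3))) (.node (.node (.leaf 0) (.leaf 3)) (.leaf 0)))) (.node (.node (.node (.node (.leaf 0) (.leaf 3)) (.node (.leaf 3) (.leaf 3))) (.node (.node (.leaf 3) (.leaf 0)) (.node (.leaf 3) (.leaf 3)))) (.node (.node (.node (.leaf 0) (.leaf 3)) (.node (.leaf 0) (.leaf 3))) (.node (.node (.leaf 0) (.leaf 3)) (.leaf 3)))))) (.node (.node (.node (.node (.node (.node (.leaf 0) (.leaf 0)) (.node (.leaf 0) (.leaf 3))) (.node (.node (.leaf 0) (.leaf 3)) (.node (.leaf 3) (.leaf 3)))) (.node (.node (.node (.leaf 3) (.leaf 3)) (.node (.leaf 3) (.leaf 0))) (.node (.node (.leaf 0) (.leaf 0)) (.leaf 3)))) (.node (.node (.node (.node (.leaf 0) (.leaf 0)) (.node (.leaf 0) (.leaf 0))) (.node (.node (.leaf 0) (.leaf 3)) (.node (.leaf 0) (.leaf 3)))) (.node (.node (.node (.leaf 0) (.leaf 3)) (.node (.leaf 0) (.leaf 3))) (.node (.node (.leaf 3) (.leaf 3)) (.leaf 0))))) (.node (.node (.node (.node (.node (.leaf 0) (.leaf 3)) (.node (.leaf 0) (.leaf 3))) (.node (.node (.leaf 0) (.leaf 3)) (.node (.leaf 3) (.leaf 3)))) (.node (.node (.node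 (.leaf 0) (.leaf 3)) (.node (.leaf 0) (.leaf 3))) (.node (.node (.leaf 0) (.leaf 3)) (.leaf 0)))) (.node (.node (.node (.node (.leaf 0) (.leaf 0)) (.node (.leaf 0) (.leaf 0))) (.node (.node (.leaf 0) (.leaf 3)) (.node (.leaf 0) (.leaf 3)))) (.node (.node (.node (.leaf 0) (.leaf 0)) (.node (.leaf 0) (.leaf 3))) (.node (.node (.leaf 3) (.leaf 3)) (.leaf 3)))))))))

def threeKind : Janko.Tree (ℕ) := (.node (.node (.node threeKind0 threeKind4) (.node threeKind2 threeKind6)) (.node (.node threeKind1 threeKind5) (.node threeKind3 threeKind7)))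

def threeRank0 : Janko.Tree (ℕ) :=
  (.node (.node (.node (.node (.node (.node (.node (.node (.node (.leaf 0) (.leaf 2051)) (.node (.leaf 853) (.leaf 3053))) (.node (.node (.leaf 460) (.leaf 2029)) (.node (.leaf 1206) (.leaf 2772)))) (.node (.node (.node (.leaf 239) (.leaf 1603)) (.node (.leaf 3553) (.leaf 3208))) (.node (.node (.leaf 656) (.leaf 1774)) (.node (.leaf 1356) (.leaf 2643))))) (.node (.node (.node (.node (.leaf 122) (.leaf 1525)) (.node (.leaf 951) (.leaf 2949))) (.node (.node (.leaf 559) (.leaf 2618)) (.node (.leaf 3080) (.leaf 3082)))) (.node (.node (.node (.leaf 348) (.leaf 1654)) (.node (.leaf 3873) (.leaf 2679))) (.node (.node (.leaf 3227) (.leaf 3789)) (.leaf 1419))))) (.node (.node (.node (.node (.node (.leaf 62) (.leaf 1490)) (.node (.leaf 903) (.leaf 1858))) (.node (.node (.leaf 512) (.leaf 2027)) (.node (.leaf 2073) (.leaf 2594)))) (.node (.node (.node (.leaf 296) (.leaf 2263)) (.node (.leaf 1069) (.leaf 1910))) (.node (.node (.leaf 2098) (.leaf 1788)) (.leaf 2061)))) (.node (.node (.node (.node (.leaf 181) (.leaf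 1560)) (.node (.leaf 3049) (.leaf 3552))) (.node (.node (.leaf 607) (.leaf 1754)) (.node (.leaf 3119) (.leaf 3900)))) (.node (.node (.node (.leaf 402) (.leaf 3250)) (.node (.leaf 1164) (.leaf 3763))) (.node (.node (.leaf 806) (.leaf 1815)) (.leaf 1441)))))) (.node (.node (.node (.node (.node (.node (.leaf 31) (.leaf 3613)) (.node (.leaf 874) (.leaf 1848))) (.node (.node (.leaf 2109) (.leaf 2028)) (.node (.leaf 1233) (.leaf 2939)))) (.node (.node (.node (.leaf 267) (.leaf 1619)) (.node (.leaf 3299) (.leaf 3396))) (.node (.node (.leaf 684) (.leaf 2010)) (.node (.leaf 2380) (.leaf 3068))))) (.node (.node (.node (.node (.leaf 151) (.leaf 2825)) (.node (.leaf 973) (.leaf 2541))) (.node (.node (.leaf 583) (.leaf 3485)) (.node (.leaf 3094) (.leaf 3460)))) (.node (.node (.node (.leaf 2114) (.leaf 3398)) (.node (.leaf 1139) (.leaf 2335))) (.node (.node (.leaf 784) (.leaf 2849)) (.leaf 2389))))) (.node (.node (.node (.node (.node (.leaf 93) (.leaf 1507)) (.node (.leaf 3146) (.leaf 2374))) (.node (.node (.leaf 2106) (.leaf 2023)) (.node (.leaf 1279)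 (.leaf 3646)))) (.node (.node (.node (.leaf 320) (.leaf 2387)) (.node (.leaf 1096) (.leaf 3875))) (.node (.node (.leaf 734) (.leaf 2497)) (.leaf 1404)))) (.node (.node (.node (.node (.leaf 2568) (.leaf 1583)) (.node (.leaf 3749) (.leaf 2676))) (.node (.node (.leaf 629) (.leaf 3487)) (.node (.leaf 1338) (.leaf 3652)))) (.node (.node (.node (.leaf 432) (.leaf 2461)) (.node (.leaf 1186) (.leaf 3221))) (.node (.node (.leaf 3125) (.leaf 1831)) (.leaf 2600))))))) (.node (.node (.node (.node (.node (.node (.node (.leaf 15) (.leaf 3348)) (.node (.leaf 863) (.leaf 2000))) (.node (.node (.leaf 472) (.leaf 3311)) (.node (.leaf 1219) (.leaf 3346)))) (.node (.node (.node (.leaf 253) (.leaf 2041)) (.node (.leaf 3578) (.leaf 3879))) (.node (.node (.leaf 669) (.leaf 1778)) (.node (.leaf 1364) (.leaf 2628))))) (.node (.node (.node (.node (.leaf 137) (.leaf 1534)) (.node (.leaf 961) (.leaf 3886))) (.node (.node (.leaf 571) (.leaf 1741)) (.node (.leaf 1307) (.leaf 3549)))) (.node (.node (.node (.leaf 362) (.leaf 1660)) (.node (.leaf 1129) (.leaf 3831)))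 (.node (.node (.leaf 772) (.leaf 1801)) (.leaf 3285))))) (.node (.node (.node (.node (.node (.leaf 77) (.leaf 2979)) (.node (.leaf 916) (.leaf 2199))) (.node (.node (.leaf 526) (.leaf 2025)) (.node (.leaf 1268) (.leaf 1933)))) (.node (.node (.node (.leaf 309) (.leaf 1638)) (.node (.leaf 1083) (.leaf 3809))) (.node (.node (.leaf 2948) (.leaf 2007)) (.leaf 1395)))) (.node (.node (.node (.node (.leaf 197) (.leaf 1572)) (.node (.leaf 998) (.leaf 1991))) (.node (.node (.leaf 2133) (.leaf 2139)) (.node (.leaf 3402) (.leaf 3138)))) (.node (.node (.node (.leaf 417) (.leaf 2312)) (.node (.leaf 1174) (.leaf 3186))) (.node (.node (.leaf 819) (.leaf 3512)) (.leaf 1449)))))) (.node (.node (.node (.node (.node (.node (.leaf 46) (.leaf 3230)) (.node (.leaf 889) (.leaf 3157))) (.node (.node (.leaf 499) (.leaf 2138)) (.node (.leaf 1246) (.leaf 3287)))) (.node (.node (.node (.leaf 283) (.leaf 1627)) (.node (.leaf 1058) (.leaf 3625))) (.node (.node (.leaf 3677) (.leaf 1785)) (.node (.leaf 2519) (.leaf 1943))))) (.node (.node (.node (.node (.leaf 166) (.leaf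 1550)) (.node (.leaf 983) (.leaf 3840))) (.node (.node (.leaf 2355) (.leaf 2562)) (.node (.leaf 1319) (.leaf 3696)))) (.node (.node (.node (.leaf 3266) (.leaf 3104)) (.node (.leaf 1151) (.leaf 2889))) (.node (.node (.leaf 793) (.leaf 3756)) (.leaf 2569))))) (.node (.node (.node (.node (.node (.leaf 107) (.leaf 1515)) (.node (.leaf 940) (.leaf 3284))) (.node (.node (.leaf 548) (.leaf 3467)) (.node (.leaf 3430) (.leaf 3641)))) (.node (.node (.node (.leaf 334) (.leaf 2036)) (.node (.leaf 1108) (.leaf 3488))) (.node (.node (.leaf 748) (.leaf 3661)) (.leaf 1412)))) (.node (.node (.node (.node (.leaf 225) (.leaf 2043)) (.node (.leaf 1016) (.leaf 2370))) (.node (.node (.leaf 641) (.leaf 3701)) (.node (.leaf 1346) (.leaf 2320)))) (.node (.node (.node (.leaf 2111) (.leaf 2851)) (.node (.leaf 1195) (.leaf 3054))) (.node (.node (.leaf 843) (.leaf 2463)) (.leaf 3422)))))))) (.node (.node (.node (.node (.node (.node (.node (.node (.leaf 8) (.leaf 1467)) (.node (.leaf 857) (.leaf 2749))) (.node (.node (.leaf 3543) (.leaf 2319)) (.node (.leaf 1212)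 (.leaf 3837)))) (.node (.node (.node (.leaf 245) (.leaf 3100)) (.node (.leaf 1029) (.leaf 3819))) (.node (.node (.leaf 2414) (.leaf 1776)) (.node (.leaf 2064) (.leaf 3807))))) (.node (.node (.node (.node (.leaf 130) (.leaf 3187)) (.node (.leaf 957) (.leaf 1994))) (.node (.node (.leaf 566) (.leaf 2791)) (.node (.leaf 1303) (.leaf 3163)))) (.node (.node (.node (.leaf 354) (.leaf 3102)) (.node (.leaf 2557) (.leaf 3182))) (.node (.node (.leaf 767) (.leaf 3427)) (.leaf 1422))))) (.node (.node (.node (.node (.node (.leaf 2127) (.leaf 1495)) (.node (.leaf 910) (.leaf 2424))) (.node (.node (.leaf 518) (.leaf 3062)) (.node (.leaf 1261) (.leaf 2907)))) (.node (.node (.node (.leaf 303) (.leaf 1634)) (.node (.leaf 1075) (.leaf 1985))) (.node (.node (.leaf 715) (.leaf 2008)) (.leaf 1392)))) (.node (.node (.node (.node (.leaf 189) (.leaf 1565)) (.node (.leaf 994) (.leaf 3124))) (.node (.node (.leaf 2746) (.leaf 3413)) (.node (.leaf 2678) (.leaf 2767)))) (.node (.node (.node (.leaf 410) (.leaf 3303)) (.node (.leaf 2888) (.leaf 1972))) (.node (.node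 (.leaf 813) (.leaf 1820)) (.leaf 3233)))))) (.node (.node (.node (.node (.node (.node (.leaf 39) (.leaf 2050)) (.node (.leaf 2396) (.leaf 1852))) (.node (.node (.leaf 492) (.leaf 2867)) (.node (.leaf 1240) (.leaf 2412)))) (.node (.node (.node (.leaf 275) (.leaf 1624)) (.node (.leaf 1050) (.leaf 2571))) (.node (.node (.leaf 691) (.leaf 3369)) (.node (.leaf 1377) (.leaf 1956))))) (.node (.node (.node (.node (.leaf 159) (.leaf 3872)) (.node (.leaf 979) (.leaf 1993))) (.node (.node (.leaf 2811) (.leaf 1747)) (.node (.leaf 3609) (.leaf 2800)))) (.node (.node (.node (.leaf 384) (.leaf 1670)) (.node (.leaf 1147) (.leaf 1976))) (.node (.node (.leaf 2094) (.leaf 3083)) (.leaf 3073))))) (.node (.node (.node (.node (.node (.leaf 2155) (.leaf 1511)) (.node (.leaf 2336) (.leaf 3472))) (.node (.node (.leaf 543) (.leaf 1731)) (.node (.leaf 2623) (.leaf 3005)))) (.node (.node (.node (.leaf 328) (.leaf 2989)) (.node (.leaf 1102) (.leaf 3070))) (.node (.node (.leaf 741) (.leaf 1795)) (.leaf 1408)))) (.node (.node (.node (.node (.leaf 217) (.leaf 1590))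 (.node (.leaf 1009) (.leaf 3021))) (.node (.node (.leaf 635) (.leaf 2439)) (.node (.leaf 1342) (.leaf 3614)))) (.node (.node (.node (.leaf 440) (.leaf 1693)) (.node (.leaf 1191) (.leaf 3337))) (.node (.node (.leaf 836) (.leaf 1833)) (.leaf 2053))))))) (.node (.node (.node (.node (.node (.node (.node (.leaf 23) (.leaf 3690)) (.node (.leaf 868) (.leaf 2877))) (.node (.node (.leaf 478) (.leaf 3590)) (.node (.leaf 1225) (.leaf 3115)))) (.node (.node (.node (.leaf 260) (.leaf 2615)) (.node (.leaf 1038) (.leaf 1899))) (.node (.node (.leaf 676) (.leaf 2012)) (.node (.leaf 1369) (.leaf 3825))))) (.node (.node (.node (.node (.leaf 145) (.leaf 1539)) (.node (.leaf 966) (.leaf 2684))) (.node (.node (.leaf 578) (.leaf 2339)) (.node (.leaf 3636) (.leaf 3040)))) (.node (.node (.node (.leaf 370) (.leaf 2034)) (.node (.leaf 2078) (.leaf 3599))) (.node (.node (.leaf 2489) (.leaf 2803)) (.leaf 2057))))) (.node (.node (.node (.node (.node (.leaf 85) (.leaf 2048)) (.node (.leaf 924) (.leaf 1864))) (.node (.node (.leaf 532) (.leaf 3761)) (.node (.leaf 2072)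 (.leaf 2260)))) (.node (.node (.node (.leaf 315) (.leaf 2037)) (.node (.leaf 1090) (.leaf 3572))) (.node (.node (.leaf 727) (.leaf 2606)) (.leaf 3084)))) (.node (.node (.node (.node (.leaf 203) (.leaf 1577)) (.node (.leaf 1001) (.leaf 3638))) (.node (.node (.leaf 624) (.leaf 2016)) (.node (.leaf 2613) (.leaf 2458)))) (.node (.node (.node (.leaf 424) (.leaf 1689)) (.node (.leaf 1181) (.leaf 1971))) (.node (.node (.leaf 825) (.leaf 3765)) (.leaf 3573)))))) (.node (.node (.node (.node (.node (.node (.leaf 54) (.leaf 2847)) (.node (.leaf 895) (.leaf 2251))) (.node (.node (.leaf 2108) (.leaf 1716)) (.node (.leaf 1253) (.leaf 3887)))) (.node (.node (.node (.leaf 2118) (.leaf 2039)) (.node (.leaf 1064) (.leaf 1907))) (.node (.node (.leaf 704) (.leaf 3520)) (.node (.leaf 1385) (.leaf 2493))))) (.node (.node (.node (.node (.leaf 2123) (.leaf 1555)) (.node (.leaf 2085) (.leaf 3076))) (.node (.node (.leaf 601) (.leaf 2639)) (.node (.leaf 3089) (.leaf 2303)))) (.node (.node (.node (.leaf 2256) (.leaf 1678)) (.node (.leaf 1158) (.leaf 2560))) (.node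 (.node (.leaf 801) (.leaf 2735)) (.leaf 2885))))) (.node (.node (.node (.node (.node (.leaf 115) (.leaf 1520)) (.node (.leaf 947) (.leaf 3165))) (.node (.node (.leaf 554) (.leaf 1735)) (.node (.leaf 1293) (.leaf 3793)))) (.node (.node (.node (.leaf 341) (.leaf 2921)) (.node (.leaf 1113) (.leaf 2524))) (.node (.node (.leaf 754) (.leaf 3502)) (.leaf 3339)))) (.node (.node (.node (.node (.leaf 232) (.leaf 1597)) (.node (.leaf 1019) (.leaf 3693))) (.node (.node (.leaf 648) (.leaf 2317)) (.node (.leaf 3338) (.leaf 3790)))) (.node (.node (.node (.leaf 453) (.leaf 2796)) (.node (.leaf 1200) (.leaf 2937))) (.node (.node (.leaf 848) (.leaf 2001)) (.leaf 1462)))))))))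

def threeRank1 : Janko.Tree (ℕ) :=
  (.node (.node (.node (.node (.node (.node (.node (.node (.node (.leaf 1) (.leaf 3276)) (.node (.leaf 2804) (.leaf 3105))) (.node (.node (.leaf 461) (.leaf 2625)) (.node (.leaf 3759) (.leaf 2401)))) (.node (.node (.node (.leaf 240) (.leaf 1604)) (.node (.leaf 1025) (.leaf 2743))) (.node (.node (.leaf 657) (.leaf 3380)) (.node (.leaf 1357) (.leaf 3450))))) (.node (.node (.node (.node (.leaf 123) (.leaf 2352)) (.node (.leaf 3708) (.leaf 2729))) (.node (.node (.leaf 560) (.leaf 2892)) (.node (.leaf 1299) (.leaf 2990)))) (.node (.node (.node (.leaf 349) (.leaf 2670)) (.node (.leaf 1119) (.leaf 3363))) (.node (.node (.leaf 3056) (.leaf 1798)) (.leaf 1420))))) (.node (.node (.node (.node (.node (.leaf 63) (.leaf 1491)) (.node (.leaf 904) (.leaf 3065))) (.node (.node (.leaf 513) (.leaf 1718)) (.node (.leaf 1256) (.leaf 3514)))) (.node (.node (.node (.leaf 297) (.leaf 2243)) (.node (.leaf 1070) (.leaf 1911))) (.node (.node (.leaf 710) (.leaf 1789)) (.leaf 1390)))) (.node (.node (.node (.node (.leaf 182) (.leaf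 1561)) (.node (.leaf 989) (.leaf 2191))) (.node (.node (.leaf 2470) (.leaf 1755)) (.node (.leaf 1326) (.leaf 3477)))) (.node (.node (.node (.leaf 403) (.leaf 1682)) (.node (.leaf 1165) (.leaf 3149))) (.node (.node (.leaf 807) (.leaf 3836)) (.leaf 1442)))))) (.node (.node (.node (.node (.node (.node (.leaf 32) (.leaf 1479)) (.node (.leaf 875) (.leaf 2913))) (.node (.node (.leaf 486) (.leaf 3353)) (.node (.leaf 3723) (.leaf 1926)))) (.node (.node (.node (.leaf 268) (.leaf 1620)) (.node (.leaf 1044) (.leaf 2771))) (.node (.node (.leaf 2745) (.leaf 2313)) (.node (.leaf 2290) (.leaf 3524))))) (.node (.node (.node (.node (.leaf 152) (.leaf 2854)) (.node (.leaf 974) (.leaf 2886))) (.node (.node (.leaf 584) (.leaf 1746)) (.node (.leaf 2783) (.leaf 3762)))) (.node (.node (.node (.leaf 378) (.leaf 1667)) (.node (.leaf 1140) (.leaf 1918))) (.node (.node (.leaf 785) (.leaf 1805)) (.leaf 1429))))) (.node (.node (.node (.node (.node (.leaf 94) (.leaf 1508)) (.node (.leaf 2622) (.leaf 1868))) (.node (.node (.leaf 537) (.leaf 1729)) (.node (.leaf 1280)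 (.leaf 3283)))) (.node (.node (.node (.leaf 321) (.leaf 1643)) (.node (.leaf 1097) (.leaf 2648))) (.node (.node (.leaf 735) (.leaf 3838)) (.leaf 3620)))) (.node (.node (.node (.node (.leaf 211) (.leaf 1584)) (.node (.leaf 2231) (.leaf 3826))) (.node (.node (.leaf 630) (.leaf 3491)) (.node (.leaf 2565) (.leaf 3655)))) (.node (.node (.node (.leaf 433) (.leaf 2136)) (.node (.leaf 1187) (.leaf 2903))) (.node (.node (.leaf 830) (.leaf 3236)) (.leaf 2602))))))) (.node (.node (.node (.node (.node (.node (.node (.leaf 16) (.leaf 1471)) (.node (.leaf 2286) (.leaf 2946))) (.node (.node (.leaf 2481) (.leaf 3309)) (.node (.leaf 1220) (.leaf 3344)))) (.node (.node (.node (.leaf 3399) (.leaf 3030)) (.node (.leaf 1034) (.leaf 3336))) (.node (.node (.leaf 670) (.leaf 1779)) (.node (.leaf 1365) (.leaf 1945))))) (.node (.node (.node (.node (.leaf 138) (.leaf 1535)) (.node (.leaf 962) (.leaf 2365))) (.node (.node (.leaf 572) (.leaf 3198)) (.node (.leaf 2792) (.leaf 3029)))) (.node (.node (.node (.leaf 363) (.leaf 1661)) (.node (.leaf 1130) (.leaf 3812)))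 (.node (.node (.leaf 773) (.leaf 3539)) (.leaf 2183))))) (.node (.node (.node (.node (.node (.leaf 78) (.leaf 1499)) (.node (.leaf 917) (.leaf 2955))) (.node (.node (.leaf 527) (.leaf 2748)) (.node (.leaf 1269) (.leaf 2871)))) (.node (.node (.node (.leaf 310) (.leaf 2196)) (.node (.leaf 2680) (.leaf 1947))) (.node (.node (.leaf 720) (.leaf 2472)) (.leaf 1396)))) (.node (.node (.node (.node (.leaf 198) (.leaf 2420)) (.node (.leaf 2184) (.leaf 2664))) (.node (.node (.leaf 617) (.leaf 3211)) (.node (.leaf 1333) (.leaf 1942)))) (.node (.node (.node (.leaf 418) (.leaf 2329)) (.node (.leaf 1175) (.leaf 3114))) (.node (.node (.leaf 2249) (.leaf 1823)) (.leaf 2674)))))) (.node (.node (.node (.node (.node (.node (.leaf 47) (.leaf 1483)) (.node (.leaf 890) (.leaf 2988))) (.node (.node (.leaf 2464) (.leaf 2732)) (.node (.leaf 1247) (.leaf 3272)))) (.node (.node (.node (.leaf 284) (.leaf 3404)) (.node (.leaf 1059) (.leaf 1905))) (.node (.node (.leaf 698) (.leaf 2837)) (.node (.leaf 1381) (.leaf 1944))))) (.node (.node (.node (.node (.leaf 167) (.leaf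 1551)) (.node (.leaf 3077) (.leaf 2762))) (.node (.node (.leaf 595) (.leaf 3881)) (.node (.leaf 2720) (.leaf 2363)))) (.node (.node (.node (.leaf 390) (.leaf 2182)) (.node (.leaf 2494) (.leaf 3392))) (.node (.node (.leaf 794) (.leaf 1809)) (.leaf 3231))))) (.node (.node (.node (.node (.node (.leaf 108) (.leaf 3095)) (.node (.leaf 3494) (.leaf 3278))) (.node (.node (.leaf 549) (.leaf 1733)) (.node (.leaf 1290) (.leaf 3637)))) (.node (.node (.node (.leaf 335) (.leaf 2499)) (.node (.leaf 1109) (.leaf 2554))) (.node (.node (.leaf 749) (.leaf 3663)) (.leaf 3817)))) (.node (.node (.node (.node (.leaf 226) (.leaf 1593)) (.node (.leaf 3152) (.leaf 3039))) (.node (.node (.leaf 642) (.leaf 2174)) (.node (.leaf 1347) (.leaf 3160)))) (.node (.node (.node (.leaf 448) (.leaf 2630)) (.node (.leaf 1196) (.leaf 3832))) (.node (.node (.leaf 2647) (.leaf 2890)) (.leaf 3533)))))))) (.node (.node (.node (.node (.node (.node (.node (.node (.leaf 9) (.leaf 1468)) (.node (.leaf 858) (.leaf 2369))) (.node (.node (.leaf 466) (.leaf 1703)) (.node (.leaf 1213) (.leaf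 3760)))) (.node (.node (.node (.leaf 246) (.leaf 1607)) (.node (.leaf 2188) (.leaf 2924))) (.node (.node (.leaf 664) (.leaf 2706)) (.node (.leaf 2322) (.leaf 3784))))) (.node (.node (.node (.node (.leaf 131) (.leaf 1529)) (.node (.leaf 958) (.leaf 3384))) (.node (.node (.leaf 567) (.leaf 2835)) (.node (.leaf 1952) (.leaf 2698)))) (.node (.node (.node (.leaf 355) (.leaf 2580)) (.node (.leaf 1124) (.leaf 2703))) (.node (.node (.leaf 2334) (.leaf 2931)) (.leaf 2668))))) (.node (.node (.node (.node (.node (.leaf 70) (.leaf 1496)) (.node (.leaf 911) (.leaf 2901))) (.node (.node (.leaf 519) (.leaf 3691)) (.node (.leaf 1262) (.leaf 2774)))) (.node (.node (.node (.leaf 304) (.leaf 3596)) (.node (.leaf 1076) (.leaf 2244))) (.node (.node (.leaf 2362) (.leaf 2753)) (.leaf 2159)))) (.node (.node (.node (.node (.leaf 190) (.leaf 3702)) (.node (.leaf 2550) (.leaf 3855))) (.node (.node (.leaf 613) (.leaf 3232)) (.node (.leaf 2391) (.leaf 2764)))) (.node (.node (.node (.leaf 411) (.leaf 2786)) (.node (.leaf 1169) (.leaf 3861))) (.node (.node (.leaf 814)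 (.leaf 3262)) (.leaf 2331)))))) (.node (.node (.node (.node (.node (.node (.leaf 40) (.leaf 3301)) (.node (.leaf 882) (.leaf 3716))) (.node (.node (.leaf 493) (.leaf 2573)) (.node (.leaf 1241) (.leaf 2302)))) (.node (.node (.node (.leaf 276) (.leaf 2826)) (.node (.leaf 1051) (.leaf 2179))) (.node (.node (.leaf 692) (.leaf 2952)) (.node (.leaf 1378) (.leaf 3189))))) (.node (.node (.node (.node (.leaf 160) (.leaf 1545)) (.node (.leaf 2776) (.leaf 3537))) (.node (.node (.leaf 589) (.leaf 1748)) (.node (.leaf 1315) (.leaf 2992)))) (.node (.node (.node (.leaf 385) (.leaf 3366)) (.node (.leaf 2708) (.leaf 3653))) (.node (.node (.leaf 791) (.leaf 1808)) (.leaf 3431))))) (.node (.node (.node (.node (.node (.leaf 100) (.leaf 3517)) (.node (.leaf 934) (.leaf 1870))) (.node (.node (.leaf 2342) (.leaf 3329)) (.node (.leaf 1285) (.leaf 1936)))) (.node (.node (.node (.leaf 329) (.leaf 3041)) (.node (.leaf 1103) (.leaf 3072))) (.node (.node (.leaf 742) (.leaf 3766)) (.leaf 1409)))) (.node (.node (.node (.node (.leaf 218) (.leaf 3584)) (.node (.leaf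 1010) (.leaf 2531))) (.node (.node (.leaf 636) (.leaf 2812)) (.node (.leaf 2538) (.leaf 2588)))) (.node (.node (.node (.leaf 441) (.leaf 1694)) (.node (.leaf 2395) (.leaf 3394))) (.node (.node (.leaf 837) (.leaf 1834)) (.leaf 1459))))))) (.node (.node (.node (.node (.node (.node (.node (.leaf 24) (.leaf 2816)) (.node (.leaf 869) (.leaf 2234))) (.node (.node (.leaf 479) (.leaf 2176)) (.node (.leaf 1226) (.leaf 2927)))) (.node (.node (.node (.leaf 261) (.leaf 2619)) (.node (.leaf 1039) (.leaf 2460))) (.node (.node (.leaf 677) (.leaf 1781)) (.node (.leaf 2218) (.leaf 3827))))) (.node (.node (.node (.node (.leaf 146) (.leaf 3204)) (.node (.leaf 967) (.leaf 2839))) (.node (.node (.leaf 579) (.leaf 1744)) (.node (.leaf 3441) (.leaf 2940)))) (.node (.node (.node (.leaf 371) (.leaf 2688)) (.node (.leaf 1136) (.leaf 3314))) (.node (.node (.leaf 779) (.leaf 1804)) (.leaf 3008))))) (.node (.node (.node (.node (.node (.leaf 86) (.leaf 1504)) (.node (.leaf 925) (.leaf 3111))) (.node (.node (.leaf 533) (.leaf 2987)) (.node (.leaf 1274) (.leaf 2262))))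 (.node (.node (.node (.leaf 2281) (.leaf 3416)) (.node (.leaf 2258) (.leaf 2705))) (.node (.node (.leaf 728) (.leaf 3803)) (.leaf 1398)))) (.node (.node (.node (.node (.leaf 204) (.leaf 1578)) (.node (.leaf 1002) (.leaf 3778))) (.node (.node (.leaf 2169) (.leaf 3630)) (.node (.leaf 2282) (.leaf 3500)))) (.node (.node (.node (.leaf 425) (.leaf 2477)) (.node (.leaf 2633) (.leaf 3624))) (.node (.node (.leaf 826) (.leaf 1828)) (.leaf 2566)))))) (.node (.node (.node (.node (.node (.node (.leaf 55) (.leaf 1487)) (.node (.leaf 896) (.leaf 3667))) (.node (.node (.leaf 2976) (.leaf 2299)) (.node (.leaf 2180) (.leaf 3885)))) (.node (.node (.node (.leaf 291) (.leaf 1630)) (.node (.leaf 1065) (.leaf 2935))) (.node (.node (.leaf 705) (.leaf 3067)) (.node (.leaf 1386) (.leaf 2210))))) (.node (.node (.node (.node (.leaf 174) (.leaf 3597)) (.node (.leaf 986) (.leaf 3828))) (.node (.node (.leaf 602) (.leaf 2422)) (.node (.leaf 1322) (.leaf 1941)))) (.node (.node (.node (.leaf 397) (.leaf 1679)) (.node (.leaf 2429) (.leaf 3109))) (.node (.node (.leaf 802)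 (.leaf 1812)) (.leaf 1439))))) (.node (.node (.node (.node (.node (.leaf 116) (.leaf 3678)) (.node (.leaf 948) (.leaf 3176))) (.node (.node (.leaf 2495) (.leaf 3548)) (.node (.leaf 1294) (.leaf 3628)))) (.node (.node (.node (.leaf 342) (.leaf 3034)) (.node (.leaf 1114) (.leaf 2451))) (.node (.node (.leaf 755) (.leaf 2891)) (.leaf 1415)))) (.node (.node (.node (.node (.leaf 233) (.leaf 1598)) (.node (.leaf 1020) (.leaf 1896))) (.node (.node (.leaf 649) (.leaf 1770)) (.node (.leaf 1352) (.leaf 3785)))) (.node (.node (.node (.leaf 454) (.leaf 2488)) (.node (.leaf 1201) (.leaf 3615))) (.node (.node (.leaf 849) (.leaf 3811)) (.leaf 3464)))))))))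

def threeRank2 : Janko.Tree (ℕ) :=
  (.node (.node (.node (.node (.node (.node (.node (.node (.node (.leaf 2) (.leaf 3017)) (.node (.leaf 2091) (.leaf 3351))) (.node (.node (.leaf 2110) (.leaf 3721)) (.node (.leaf 1207) (.leaf 2917)))) (.node (.node (.node (.leaf 2120) (.leaf 1605)) (.node (.leaf 2082) (.leaf 3443))) (.node (.node (.leaf 658) (.leaf 2014)) (.node (.leaf 1358) (.leaf 3616))))) (.node (.node (.node (.node (.leaf 124) (.leaf 2046)) (.node (.leaf 952) (.leaf 2727))) (.node (.node (.leaf 561) (.leaf 3673)) (.node (.leaf 3634) (.leaf 3777)))) (.node (.node (.node (.leaf 350) (.leaf 3037)) (.node (.leaf 1120) (.leaf 3225))) (.node (.node (.leaf 761) (.leaf 3662)) (.leaf 3360))))) (.node (.node (.node (.node (.node (.leaf 64) (.leaf 1492)) (.node (.leaf 905) (.leaf 1997))) (.node (.node (.leaf 514) (.leaf 1719)) (.node (.leaf 1257) (.leaf 2938)))) (.node (.node (.node (.leaf 298) (.leaf 3845)) (.node (.leaf 1071) (.leaf 1912))) (.node (.node (.leaf 711) (.leaf 3424)) (.leaf 3489)))) (.node (.node (.node (.node (.leaf 183) (.leaf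 2918)) (.node (.leaf 990) (.leaf 1884))) (.node (.node (.leaf 608) (.leaf 1756)) (.node (.leaf 1327) (.leaf 2781)))) (.node (.node (.node (.leaf 404) (.leaf 1683)) (.node (.leaf 2076) (.leaf 1973))) (.node (.node (.leaf 808) (.leaf 1816)) (.leaf 2151)))))) (.node (.node (.node (.node (.node (.node (.leaf 33) (.leaf 3127)) (.node (.leaf 876) (.leaf 3800))) (.node (.node (.leaf 2137) (.leaf 1711)) (.node (.leaf 1234) (.leaf 2572)))) (.node (.node (.node (.leaf 269) (.leaf 1621)) (.node (.leaf 2810) (.leaf 3664))) (.node (.node (.leaf 685) (.leaf 3582)) (.node (.leaf 1373) (.leaf 3505))))) (.node (.node (.node (.node (.leaf 153) (.leaf 1544)) (.node (.leaf 3343) (.leaf 2537))) (.node (.node (.leaf 585) (.leaf 2731)) (.node (.leaf 1313) (.leaf 2587)))) (.node (.node (.node (.leaf 2162) (.leaf 3409)) (.node (.leaf 1141) (.leaf 3143))) (.node (.node (.leaf 3689) (.leaf 3209)) (.leaf 3810))))) (.node (.node (.node (.node (.node (.leaf 95) (.leaf 3058)) (.node (.leaf 929) (.leaf 2598))) (.node (.node (.leaf 538) (.leaf 3066)) (.node (.leaf 2620)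 (.leaf 3335)))) (.node (.node (.node (.leaf 322) (.leaf 1644)) (.node (.leaf 1098) (.leaf 2591))) (.node (.node (.leaf 736) (.leaf 2398)) (.leaf 1405)))) (.node (.node (.node (.node (.leaf 212) (.leaf 1585)) (.node (.leaf 3181) (.leaf 3088))) (.node (.node (.leaf 631) (.leaf 2635)) (.node (.leaf 2065) (.leaf 1960)))) (.node (.node (.node (.leaf 434) (.leaf 2456)) (.node (.leaf 1188) (.leaf 1924))) (.node (.node (.leaf 831) (.leaf 3682)) (.leaf 3492))))))) (.node (.node (.node (.node (.node (.node (.node (.leaf 17) (.leaf 1472)) (.node (.leaf 864) (.leaf 1844))) (.node (.node (.leaf 3059) (.leaf 1707)) (.node (.leaf 3387) (.leaf 3603)))) (.node (.node (.node (.leaf 254) (.leaf 1612)) (.node (.leaf 1035) (.leaf 3319))) (.node (.node (.leaf 671) (.leaf 2347)) (.node (.leaf 2821) (.leaf 2964))))) (.node (.node (.node (.node (.leaf 139) (.leaf 2962)) (.node (.leaf 963) (.leaf 1877))) (.node (.node (.leaf 573) (.leaf 2681)) (.node (.leaf 3296) (.leaf 1966)))) (.node (.node (.node (.leaf 364) (.leaf 3728)) (.node (.leaf 2959) (.leaf 1917)))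 (.node (.node (.leaf 774) (.leaf 3027)) (.leaf 3139))))) (.node (.node (.node (.node (.node (.leaf 79) (.leaf 3213)) (.node (.leaf 918) (.leaf 2195))) (.node (.node (.leaf 2107) (.leaf 3511)) (.node (.leaf 1270) (.leaf 2268)))) (.node (.node (.node (.leaf 2423) (.leaf 3259)) (.node (.leaf 1084) (.leaf 1984))) (.node (.node (.leaf 721) (.leaf 2741)) (.leaf 2060)))) (.node (.node (.node (.node (.leaf 199) (.leaf 1573)) (.node (.leaf 3240) (.leaf 3780))) (.node (.node (.leaf 618) (.leaf 1761)) (.node (.leaf 2437) (.leaf 3697)))) (.node (.node (.node (.leaf 419) (.leaf 1688)) (.node (.leaf 2198) (.leaf 1923))) (.node (.node (.leaf 820) (.leaf 1824)) (.leaf 2054)))))) (.node (.node (.node (.node (.node (.node (.leaf 48) (.leaf 2049)) (.node (.leaf 2146) (.leaf 3774))) (.node (.node (.leaf 500) (.leaf 3868)) (.node (.leaf 1248) (.leaf 3739)))) (.node (.node (.node (.leaf 285) (.leaf 2399)) (.node (.leaf 1060) (.leaf 2539))) (.node (.node (.leaf 699) (.leaf 2402)) (.node (.leaf 1382) (.leaf 2130))))) (.node (.node (.node (.node (.leaf 168) (.leaf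 1552)) (.node (.leaf 2657) (.leaf 3833))) (.node (.node (.leaf 596) (.leaf 1750)) (.node (.leaf 1320) (.leaf 3859)))) (.node (.node (.node (.leaf 391) (.leaf 1674)) (.node (.leaf 1152) (.leaf 1919))) (.node (.node (.leaf 795) (.leaf 1810)) (.leaf 1434))))) (.node (.node (.node (.node (.node (.leaf 109) (.leaf 1516)) (.node (.leaf 941) (.leaf 3688))) (.node (.node (.leaf 550) (.leaf 3455)) (.node (.leaf 2998) (.leaf 3519)))) (.node (.node (.node (.leaf 336) (.leaf 1650)) (.node (.leaf 3727) (.leaf 2868))) (.node (.node (.leaf 2097) (.leaf 3854)) (.leaf 1413)))) (.node (.node (.node (.node (.leaf 227) (.leaf 3666)) (.node (.leaf 1017) (.leaf 1988))) (.node (.node (.leaf 3824) (.leaf 2015)) (.node (.leaf 1348) (.leaf 2827)))) (.node (.node (.node (.leaf 2356) (.leaf 2474)) (.node (.leaf 1197) (.leaf 2583))) (.node (.node (.leaf 2153) (.leaf 1837)) (.leaf 2052)))))))) (.node (.node (.node (.node (.node (.node (.node (.node (.leaf 10) (.leaf 1469)) (.node (.leaf 859) (.leaf 3503))) (.node (.node (.leaf 467) (.leaf 1704)) (.node (.leaf 1214)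 (.leaf 3219)))) (.node (.node (.node (.leaf 247) (.leaf 1608)) (.node (.leaf 1030) (.leaf 3298))) (.node (.node (.leaf 665) (.leaf 2013)) (.node (.leaf 2324) (.leaf 1957))))) (.node (.node (.node (.node (.leaf 132) (.leaf 1530)) (.node (.leaf 959) (.leaf 3199))) (.node (.node (.leaf 2104) (.leaf 1738)) (.node (.leaf 2070) (.leaf 2533)))) (.node (.node (.node (.leaf 356) (.leaf 2576)) (.node (.leaf 1125) (.leaf 1978))) (.node (.node (.leaf 768) (.leaf 2861)) (.leaf 2911))))) (.node (.node (.node (.node (.node (.leaf 71) (.leaf 1497)) (.node (.leaf 912) (.leaf 2970))) (.node (.node (.leaf 520) (.leaf 2026)) (.node (.leaf 1263) (.leaf 3253)))) (.node (.node (.node (.leaf 3686) (.leaf 2038)) (.node (.leaf 1077) (.leaf 2807))) (.node (.node (.leaf 716) (.leaf 3751)) (.leaf 1393)))) (.node (.node (.node (.node (.leaf 191) (.leaf 1566)) (.node (.leaf 2084) (.leaf 1992))) (.node (.node (.leaf 614) (.leaf 1758)) (.node (.leaf 1329) (.leaf 3557)))) (.node (.node (.node (.leaf 412) (.leaf 1686)) (.node (.leaf 1170) (.leaf 3166))) (.node (.node (.leaf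 815) (.leaf 3258)) (.leaf 2055)))))) (.node (.node (.node (.node (.node (.node (.leaf 41) (.leaf 3846)) (.node (.leaf 883) (.leaf 1998))) (.node (.node (.leaf 494) (.leaf 3028)) (.node (.leaf 1242) (.leaf 2984)))) (.node (.node (.node (.leaf 277) (.leaf 2149)) (.node (.leaf 1052) (.leaf 2135))) (.node (.node (.leaf 693) (.leaf 3668)) (.node (.leaf 3898) (.leaf 3361))))) (.node (.node (.node (.node (.leaf 161) (.leaf 1546)) (.node (.leaf 2666) (.leaf 1880))) (.node (.node (.leaf 590) (.leaf 2019)) (.node (.leaf 1316) (.leaf 2687)))) (.node (.node (.node (.leaf 2814) (.leaf 3294)) (.node (.leaf 1148) (.leaf 3734))) (.node (.node (.leaf 3271) (.leaf 2003)) (.leaf 2806))))) (.node (.node (.node (.node (.node (.leaf 101) (.leaf 1512)) (.node (.leaf 2506) (.leaf 2795))) (.node (.node (.leaf 544) (.leaf 2022)) (.node (.leaf 2071) (.leaf 1969)))) (.node (.node (.node (.leaf 330) (.leaf 1646)) (.node (.leaf 1104) (.leaf 1982))) (.node (.node (.leaf 743) (.leaf 3651)) (.leaf 2894)))) (.node (.node (.node (.node (.leaf 219) (.leaf 3370)) (.node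 (.leaf 1011) (.leaf 2607))) (.node (.node (.leaf 637) (.leaf 2654)) (.node (.leaf 2535) (.leaf 3325)))) (.node (.node (.node (.leaf 442) (.leaf 1695)) (.node (.leaf 2075) (.leaf 2765))) (.node (.node (.leaf 3391) (.leaf 2943)) (.leaf 3753))))))) (.node (.node (.node (.node (.node (.node (.node (.leaf 25) (.leaf 2223)) (.node (.leaf 870) (.leaf 3205))) (.node (.node (.leaf 480) (.leaf 3675)) (.node (.leaf 1227) (.leaf 2801)))) (.node (.node (.node (.leaf 262) (.leaf 2540)) (.node (.leaf 1040) (.leaf 1900))) (.node (.node (.leaf 678) (.leaf 1782)) (.node (.leaf 2166) (.leaf 3436))))) (.node (.node (.node (.node (.leaf 147) (.leaf 1540)) (.node (.leaf 968) (.leaf 3864))) (.node (.node (.leaf 580) (.leaf 3215)) (.node (.leaf 2236) (.leaf 3121)))) (.node (.node (.node (.leaf 372) (.leaf 2721)) (.node (.leaf 3372) (.leaf 1977))) (.node (.node (.leaf 780) (.leaf 2830)) (.leaf 1427))))) (.node (.node (.node (.node (.node (.leaf 87) (.leaf 3415)) (.node (.leaf 926) (.leaf 1865))) (.node (.node (.leaf 534) (.leaf 2024)) (.node (.leaf 3202) (.leaf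 2291)))) (.node (.node (.node (.leaf 316) (.leaf 2204)) (.node (.leaf 1091) (.leaf 3848))) (.node (.node (.leaf 729) (.leaf 2514)) (.leaf 1399)))) (.node (.node (.node (.node (.leaf 205) (.leaf 1579)) (.node (.leaf 2518) (.leaf 1990))) (.node (.node (.leaf 625) (.leaf 2878)) (.node (.leaf 1336) (.leaf 1961)))) (.node (.node (.node (.leaf 426) (.leaf 1690)) (.node (.leaf 2143) (.leaf 3622))) (.node (.node (.leaf 2092) (.leaf 1829)) (.leaf 1453)))))) (.node (.node (.node (.node (.node (.node (.leaf 56) (.leaf 3308)) (.node (.leaf 897) (.leaf 1857))) (.node (.node (.leaf 506) (.leaf 3631)) (.node (.leaf 2475) (.leaf 1970)))) (.node (.node (.node (.leaf 2289) (.leaf 2197)) (.node (.leaf 3397) (.leaf 2601))) (.node (.node (.leaf 3554) (.leaf 2009)) (.node (.leaf 1387) (.leaf 2189))))) (.node (.node (.node (.node (.leaf 175) (.leaf 1556)) (.node (.leaf 2167) (.leaf 1881))) (.node (.node (.leaf 603) (.leaf 1752)) (.node (.leaf 3310) (.leaf 3843)))) (.node (.node (.node (.leaf 398) (.leaf 3257)) (.node (.leaf 1159) (.leaf 2296))) (.node (.node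 (.leaf 803) (.leaf 1813)) (.leaf 2523))))) (.node (.node (.node (.node (.node (.leaf 117) (.leaf 1521)) (.node (.leaf 3869) (.leaf 3457))) (.node (.node (.leaf 2490) (.leaf 2267)) (.node (.leaf 1295) (.leaf 1968)))) (.node (.node (.node (.leaf 343) (.leaf 2377)) (.node (.leaf 1115) (.leaf 2269))) (.node (.node (.leaf 756) (.leaf 1796)) (.leaf 3156)))) (.node (.node (.node (.node (.leaf 234) (.leaf 1599)) (.node (.leaf 1021) (.leaf 3722))) (.node (.node (.leaf 650) (.leaf 1771)) (.node (.leaf 1353) (.leaf 2769)))) (.node (.node (.node (.leaf 455) (.leaf 1699)) (.node (.leaf 1202) (.leaf 2131))) (.node (.node (.leaf 850) (.leaf 1840)) (.leaf 3096)))))))))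

def threeRank3 : Janko.Tree (ℕ) :=
  (.node (.node (.node (.node (.node (.node (.node (.node (.node (.leaf 3) (.leaf 2852)) (.node (.leaf 2556) (.leaf 2928))) (.node (.node (.leaf 462) (.leaf 3359)) (.node (.leaf 2351) (.leaf 2644)))) (.node (.node (.node (.leaf 241) (.leaf 2496)) (.node (.leaf 3379) (.leaf 2491))) (.node (.node (.leaf 659) (.leaf 2967)) (.node (.leaf 2656) (.leaf 3161))))) (.node (.node (.node (.node (.leaf 125) (.leaf 2435)) (.node (.leaf 953) (.leaf 3155))) (.node (.node (.leaf 562) (.leaf 2392)) (.node (.leaf 1300) (.leaf 3786)))) (.node (.node (.node (.leaf 351) (.leaf 1655)) (.node (.leaf 1121) (.leaf 3376))) (.node (.node (.leaf 762) (.leaf 1799)) (.leaf 2209))))) (.node (.node (.node (.node (.node (.leaf 65) (.leaf 3592)) (.node (.leaf 3128) (.leaf 3732))) (.node (.node (.leaf 3752) (.leaf 1720)) (.node (.leaf 1258) (.leaf 3164)))) (.node (.node (.node (.leaf 299) (.leaf 1632)) (.node (.leaf 3849) (.leaf 3619))) (.node (.node (.leaf 712) (.leaf 2951)) (.leaf 1391)))) (.node (.node (.node (.node (.leaf 184) (.leaf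 1562)) (.node (.leaf 991) (.leaf 1885))) (.node (.node (.leaf 609) (.leaf 1757)) (.node (.leaf 2393) (.leaf 2779)))) (.node (.node (.node (.leaf 405) (.leaf 3018)) (.node (.leaf 2634) (.leaf 1920))) (.node (.node (.leaf 2492) (.leaf 1817)) (.leaf 3013)))))) (.node (.node (.node (.node (.node (.node (.leaf 34) (.leaf 2564)) (.node (.leaf 877) (.leaf 3542))) (.node (.node (.leaf 487) (.leaf 2896)) (.node (.leaf 1235) (.leaf 1927)))) (.node (.node (.node (.leaf 270) (.leaf 1622)) (.node (.leaf 1045) (.leaf 2486))) (.node (.node (.leaf 686) (.leaf 3386)) (.node (.leaf 2919) (.leaf 3507))))) (.node (.node (.node (.node (.leaf 154) (.leaf 2248)) (.node (.leaf 975) (.leaf 2436))) (.node (.node (.leaf 586) (.leaf 2819)) (.node (.leaf 2446) (.leaf 2589)))) (.node (.node (.node (.leaf 379) (.leaf 1668)) (.node (.leaf 1142) (.leaf 3145))) (.node (.node (.leaf 786) (.leaf 1806)) (.leaf 2614))))) (.node (.node (.node (.node (.node (.leaf 96) (.leaf 1509)) (.node (.leaf 930) (.leaf 3248))) (.node (.node (.leaf 539) (.leaf 3535)) (.node (.leaf 1281)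 (.leaf 3333)))) (.node (.node (.node (.leaf 323) (.leaf 2713)) (.node (.leaf 1099) (.leaf 3704))) (.node (.node (.leaf 737) (.leaf 1793)) (.leaf 1406)))) (.node (.node (.node (.node (.leaf 213) (.leaf 1586)) (.node (.leaf 1006) (.leaf 3412))) (.node (.node (.leaf 632) (.leaf 3061)) (.node (.leaf 2452) (.leaf 2500)))) (.node (.node (.node (.leaf 435) (.leaf 2530)) (.node (.leaf 2233) (.leaf 2432))) (.node (.node (.leaf 832) (.leaf 3680)) (.leaf 1456))))))) (.node (.node (.node (.node (.node (.node (.node (.leaf 18) (.leaf 1473)) (.node (.leaf 865) (.leaf 1845))) (.node (.node (.leaf 473) (.leaf 3371)) (.node (.leaf 1221) (.leaf 3001)))) (.node (.node (.node (.leaf 255) (.leaf 2833)) (.node (.leaf 2799) (.leaf 3273))) (.node (.node (.leaf 672) (.leaf 2343)) (.node (.leaf 1366) (.leaf 2966))))) (.node (.node (.node (.node (.leaf 140) (.leaf 1536)) (.node (.leaf 964) (.leaf 2368))) (.node (.node (.leaf 574) (.leaf 3255)) (.node (.leaf 2272) (.leaf 3406)))) (.node (.node (.node (.leaf 365) (.leaf 3730)) (.node (.leaf 1131) (.leaf 3364))) (.node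 (.node (.leaf 775) (.leaf 1802)) (.leaf 1424))))) (.node (.node (.node (.node (.node (.leaf 80) (.leaf 1500)) (.node (.leaf 919) (.leaf 1861))) (.node (.node (.leaf 528) (.leaf 2718)) (.node (.leaf 1271) (.leaf 3717)))) (.node (.node (.node (.leaf 311) (.leaf 2194)) (.node (.leaf 1085) (.leaf 1913))) (.node (.node (.leaf 722) (.leaf 1791)) (.leaf 1397)))) (.node (.node (.node (.node (.leaf 200) (.leaf 2923)) (.node (.leaf 999) (.leaf 3293))) (.node (.node (.leaf 619) (.leaf 2172)) (.node (.leaf 3658) (.leaf 3695)))) (.node (.node (.node (.leaf 420) (.leaf 2503)) (.node (.leaf 1176) (.leaf 3805))) (.node (.node (.leaf 3564) (.leaf 1825)) (.leaf 2246)))))) (.node (.node (.node (.node (.node (.node (.leaf 49) (.leaf 3224)) (.node (.leaf 891) (.leaf 3244))) (.node (.node (.leaf 501) (.leaf 2785)) (.node (.leaf 1249) (.leaf 3737)))) (.node (.node (.node (.leaf 286) (.leaf 1628)) (.node (.leaf 1061) (.leaf 2882))) (.node (.node (.leaf 700) (.leaf 2734)) (.node (.leaf 3707) (.leaf 2225))))) (.node (.node (.node (.node (.leaf 169) (.leaf 3577))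 (.node (.leaf 984) (.leaf 3801))) (.node (.node (.leaf 597) (.leaf 2375)) (.node (.leaf 1321) (.leaf 2469)))) (.node (.node (.node (.leaf 392) (.leaf 3540)) (.node (.leaf 1153) (.leaf 2694))) (.node (.node (.leaf 796) (.leaf 2357)) (.leaf 1435))))) (.node (.node (.node (.node (.node (.leaf 110) (.leaf 3635)) (.node (.leaf 942) (.leaf 3060))) (.node (.node (.leaf 551) (.leaf 3684)) (.node (.leaf 3153) (.leaf 3305)))) (.node (.node (.node (.leaf 337) (.leaf 1651)) (.node (.leaf 2915) (.leaf 2870))) (.node (.node (.leaf 3888) (.leaf 3120)) (.leaf 3710)))) (.node (.node (.node (.node (.leaf 2652) (.leaf 1594)) (.node (.leaf 3433) (.leaf 2574))) (.node (.node (.leaf 643) (.leaf 3081)) (.node (.leaf 2253) (.leaf 3196)))) (.node (.node (.node (.leaf 449) (.leaf 1698)) (.node (.leaf 2206) (.leaf 2642))) (.node (.node (.leaf 844) (.leaf 1838)) (.leaf 1460)))))))) (.node (.node (.node (.node (.node (.node (.node (.node (.leaf 11) (.leaf 2473)) (.node (.leaf 2675) (.leaf 1843))) (.node (.node (.leaf 468) (.leaf 1705)) (.node (.leaf 1215) (.leaf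 2754)))) (.node (.node (.node (.leaf 248) (.leaf 2403)) (.node (.leaf 1031) (.leaf 1898))) (.node (.node (.leaf 2283) (.leaf 3814)) (.node (.leaf 1362) (.leaf 3131))))) (.node (.node (.node (.node (.leaf 133) (.leaf 3883)) (.node (.leaf 3621) (.leaf 2516))) (.node (.node (.leaf 3877) (.leaf 1739)) (.node (.leaf 1304) (.leaf 3264)))) (.node (.node (.node (.leaf 357) (.leaf 1657)) (.node (.leaf 1126) (.leaf 3465))) (.node (.node (.leaf 769) (.leaf 1800)) (.leaf 3118))))) (.node (.node (.node (.node (.node (.leaf 72) (.leaf 1498)) (.node (.leaf 913) (.leaf 1860))) (.node (.node (.leaf 521) (.leaf 2575)) (.node (.leaf 1264) (.leaf 3251)))) (.node (.node (.node (.leaf 305) (.leaf 2737)) (.node (.leaf 1078) (.leaf 2604))) (.node (.node (.leaf 3400) (.leaf 2875)) (.leaf 2717)))) (.node (.node (.node (.node (.leaf 192) (.leaf 1567)) (.node (.leaf 2330) (.leaf 2760))) (.node (.node (.leaf 2433) (.leaf 2515)) (.node (.leaf 3657) (.leaf 3626)))) (.node (.node (.node (.leaf 3418) (.leaf 3261)) (.node (.leaf 3142) (.leaf 3168))) (.node (.node (.leaf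 3267) (.leaf 3260)) (.leaf 2641)))))) (.node (.node (.node (.node (.node (.node (.leaf 42) (.leaf 1481)) (.node (.leaf 884) (.leaf 3493))) (.node (.node (.leaf 3355) (.leaf 1712)) (.node (.leaf 2190) (.leaf 2709)))) (.node (.node (.node (.leaf 278) (.leaf 1625)) (.node (.leaf 1053) (.leaf 2293))) (.node (.node (.leaf 694) (.leaf 2954)) (.node (.leaf 1379) (.leaf 3644))))) (.node (.node (.node (.node (.leaf 162) (.leaf 1547)) (.node (.leaf 980) (.leaf 2408))) (.node (.node (.leaf 591) (.leaf 2449)) (.node (.leaf 1317) (.leaf 2683)))) (.node (.node (.node (.leaf 386) (.leaf 3791)) (.node (.leaf 1149) (.leaf 2447))) (.node (.node (.leaf 792) (.leaf 3159)) (.leaf 1431))))) (.node (.node (.node (.node (.node (.leaf 102) (.leaf 1513)) (.node (.leaf 935) (.leaf 2981))) (.node (.node (.leaf 2161) (.leaf 2549)) (.node (.leaf 3321) (.leaf 3300)))) (.node (.node (.node (.leaf 331) (.leaf 3289)) (.node (.leaf 1105) (.leaf 3504))) (.node (.node (.leaf 2980) (.leaf 3435)) (.leaf 1410)))) (.node (.node (.node (.node (.leaf 220) (.leaf 1591)) (.node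 (.leaf 1012) (.leaf 2603))) (.node (.node (.leaf 638) (.leaf 2441)) (.node (.leaf 1343) (.leaf 2295)))) (.node (.node (.node (.leaf 443) (.leaf 2228)) (.node (.leaf 3134) (.leaf 3743))) (.node (.node (.leaf 838) (.leaf 1835)) (.leaf 3755))))))) (.node (.node (.node (.node (.node (.node (.node (.leaf 26) (.leaf 1476)) (.node (.leaf 871) (.leaf 1846))) (.node (.node (.leaf 481) (.leaf 1708)) (.node (.leaf 1228) (.leaf 1946)))) (.node (.node (.node (.leaf 263) (.leaf 3097)) (.node (.leaf 1041) (.leaf 1901))) (.node (.node (.leaf 679) (.leaf 3501)) (.node (.leaf 3516) (.leaf 3438))))) (.node (.node (.node (.node (.leaf 148) (.leaf 1541)) (.node (.leaf 3388) (.leaf 3862))) (.node (.node (.leaf 2719) (.leaf 2809)) (.node (.leaf 1310) (.leaf 3126)))) (.node (.node (.node (.leaf 373) (.leaf 1665)) (.node (.leaf 3374) (.leaf 3451))) (.node (.node (.leaf 781) (.leaf 3521)) (.leaf 1428))))) (.node (.node (.node (.node (.node (.leaf 88) (.leaf 3417)) (.node (.leaf 2171) (.leaf 3249))) (.node (.node (.leaf 2247) (.leaf 1728)) (.node (.leaf 1275) (.leaf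 2590)))) (.node (.node (.node (.leaf 317) (.leaf 2443)) (.node (.leaf 1092) (.leaf 2636))) (.node (.node (.leaf 730) (.leaf 2543)) (.leaf 3551)))) (.node (.node (.node (.node (.leaf 206) (.leaf 1580)) (.node (.leaf 1003) (.leaf 1892))) (.node (.node (.leaf 626) (.leaf 3331)) (.node (.leaf 2534) (.leaf 3738)))) (.node (.node (.node (.leaf 427) (.leaf 3709)) (.node (.leaf 1182) (.leaf 3863))) (.node (.node (.leaf 2649) (.leaf 3670)) (.leaf 1454)))))) (.node (.node (.node (.node (.node (.node (.leaf 57) (.leaf 3815)) (.node (.leaf 898) (.leaf 3269))) (.node (.node (.leaf 507) (.leaf 1717)) (.node (.leaf 1254) (.leaf 1932)))) (.node (.node (.node (.leaf 292) (.leaf 1631)) (.node (.leaf 1066) (.leaf 1908))) (.node (.node (.leaf 706) (.leaf 3844)) (.node (.leaf 1388) (.leaf 2185))))) (.node (.node (.node (.node (.leaf 176) (.leaf 2650)) (.node (.leaf 987) (.leaf 1882))) (.node (.node (.leaf 604) (.leaf 2419)) (.node (.leaf 1323) (.leaf 3841)))) (.node (.node (.node (.leaf 399) (.leaf 1680)) (.node (.leaf 2509) (.leaf 2480))) (.node (.node (.leaf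 2558) (.leaf 2407)) (.leaf 2187))))) (.node (.node (.node (.node (.node (.leaf 118) (.leaf 2384)) (.node (.leaf 3867) (.leaf 2585))) (.node (.node (.leaf 2154) (.leaf 1736)) (.node (.leaf 1296) (.leaf 3595)))) (.node (.node (.node (.leaf 344) (.leaf 3679)) (.node (.leaf 3593) (.leaf 2264))) (.node (.node (.leaf 757) (.leaf 2775)) (.leaf 1416)))) (.node (.node (.node (.node (.leaf 235) (.leaf 1600)) (.node (.leaf 1022) (.leaf 3174))) (.node (.node (.leaf 651) (.leaf 1772)) (.node (.leaf 2353) (.leaf 2520)))) (.node (.node (.node (.leaf 456) (.leaf 2242)) (.node (.leaf 1203) (.leaf 3275))) (.node (.node (.leaf 2442) (.leaf 3779)) (.leaf 1463)))))))))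

def threeRank4 : Janko.Tree (ℕ) :=
  (.node (.node (.node (.node (.node (.node (.node (.node (.node (.leaf 4) (.leaf 3676)) (.node (.leaf 2559) (.leaf 2846))) (.node (.node (.leaf 463) (.leaf 3377)) (.node (.leaf 1208) (.leaf 2818)))) (.node (.node (.node (.leaf 2158) (.leaf 2612)) (.node (.leaf 1026) (.leaf 3522))) (.node (.node (.leaf 660) (.leaf 3865)) (.node (.leaf 1359) (.leaf 2853))))) (.node (.node (.node (.node (.leaf 126) (.leaf 3798)) (.node (.leaf 954) (.leaf 3470))) (.node (.node (.leaf 563) (.leaf 3473)) (.node (.leaf 1301) (.leaf 1967)))) (.node (.node (.node (.leaf 2115) (.leaf 1656)) (.node (.leaf 1122) (.leaf 3498))) (.node (.node (.leaf 763) (.leaf 3297)) (.leaf 1421))))) (.node (.node (.node (.node (.node (.leaf 66) (.leaf 1493)) (.node (.leaf 906) (.leaf 2147))) (.node (.node (.leaf 515) (.leaf 1721)) (.node (.leaf 2725) (.leaf 3571)))) (.node (.node (.node (.leaf 2259) (.leaf 3847)) (.node (.leaf 2947) (.leaf 3243))) (.node (.node (.leaf 2822) (.leaf 1790)) (.leaf 2308)))) (.node (.node (.node (.node (.leaf 185)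 (.leaf 3610)) (.node (.leaf 2552) (.leaf 1886))) (.node (.node (.leaf 610) (.leaf 2017)) (.node (.leaf 1328) (.leaf 3117)))) (.node (.node (.node (.leaf 406) (.leaf 1684)) (.node (.leaf 3180) (.leaf 3322))) (.node (.node (.leaf 809) (.leaf 1818)) (.leaf 1443)))))) (.node (.node (.node (.node (.node (.node (.leaf 35) (.leaf 3444)) (.node (.leaf 878) (.leaf 1849))) (.node (.node (.leaf 488) (.leaf 3330)) (.node (.leaf 1236) (.leaf 2545)))) (.node (.node (.node (.leaf 271) (.leaf 2632)) (.node (.leaf 1046) (.leaf 2898))) (.node (.node (.leaf 687) (.leaf 1783)) (.node (.leaf 1374) (.leaf 3318))))) (.node (.node (.node (.node (.leaf 155) (.leaf 3106)) (.node (.leaf 976) (.leaf 3532))) (.node (.node (.leaf 587) (.leaf 2914)) (.node (.leaf 1314) (.leaf 2431)))) (.node (.node (.node (.leaf 380) (.leaf 2239)) (.node (.leaf 1143) (.leaf 2658))) (.node (.node (.leaf 787) (.leaf 2936)) (.leaf 2608))))) (.node (.node (.node (.node (.node (.leaf 97) (.leaf 3891)) (.node (.leaf 2089) (.leaf 2755))) (.node (.node (.leaf 3894) (.leaf 1730)) (.node (.leaf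 1282) (.leaf 1934)))) (.node (.node (.node (.leaf 324) (.leaf 1645)) (.node (.leaf 2080) (.leaf 3169))) (.node (.node (.leaf 738) (.leaf 3223)) (.leaf 2059)))) (.node (.node (.node (.node (.leaf 2121) (.leaf 1587)) (.node (.leaf 3033) (.leaf 1989))) (.node (.node (.leaf 633) (.leaf 2400)) (.node (.leaf 1339) (.leaf 3567)))) (.node (.node (.node (.leaf 436) (.leaf 3229)) (.node (.leaf 3172) (.leaf 3705))) (.node (.node (.leaf 3446) (.leaf 2002)) (.leaf 2152))))))) (.node (.node (.node (.node (.node (.node (.node (.leaf 19) (.leaf 1474)) (.node (.leaf 866) (.leaf 3874))) (.node (.node (.leaf 474) (.leaf 3787)) (.node (.leaf 3884) (.leaf 3177)))) (.node (.node (.node (.leaf 256) (.leaf 1613)) (.node (.leaf 1036) (.leaf 3291))) (.node (.node (.leaf 2100) (.leaf 3052)) (.node (.leaf 2241) (.leaf 3270))))) (.node (.node (.node (.node (.leaf 141) (.leaf 1537)) (.node (.leaf 2784) (.leaf 1878))) (.node (.node (.leaf 575) (.leaf 2479)) (.node (.leaf 2069) (.leaf 2965)))) (.node (.node (.node (.leaf 366) (.leaf 1662)) (.node (.leaf 1132) (.leaf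 2406))) (.node (.node (.leaf 2095) (.leaf 2836)) (.leaf 2338))))) (.node (.node (.node (.node (.node (.leaf 81) (.leaf 1501)) (.node (.leaf 920) (.leaf 1862))) (.node (.node (.leaf 2483) (.leaf 1726)) (.node (.leaf 1272) (.leaf 2544)))) (.node (.node (.node (.leaf 2714) (.leaf 1639)) (.node (.leaf 1086) (.leaf 3706))) (.node (.node (.leaf 723) (.leaf 2220)) (.leaf 2340)))) (.node (.node (.node (.node (.leaf 2122) (.leaf 2933)) (.node (.leaf 2645) (.leaf 1891))) (.node (.node (.leaf 620) (.leaf 3601)) (.node (.leaf 2066) (.leaf 3820)))) (.node (.node (.node (.leaf 421) (.leaf 2332)) (.node (.leaf 1177) (.leaf 3004))) (.node (.node (.leaf 821) (.leaf 1826)) (.leaf 2428)))))) (.node (.node (.node (.node (.node (.node (.leaf 50) (.leaf 2828)) (.node (.leaf 892) (.leaf 1856))) (.node (.node (.leaf 502) (.leaf 2427)) (.node (.leaf 1250) (.leaf 3735)))) (.node (.node (.node (.leaf 287) (.leaf 1629)) (.node (.leaf 2288) (.leaf 2838))) (.node (.node (.leaf 701) (.leaf 3633)) (.node (.leaf 1383) (.leaf 2156))))) (.node (.node (.node (.node (.leaf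 170) (.leaf 2044)) (.node (.leaf 985) (.leaf 2872))) (.node (.node (.leaf 598) (.leaf 1751)) (.node (.leaf 2067) (.leaf 2862)))) (.node (.node (.node (.leaf 393) (.leaf 1675)) (.node (.leaf 1154) (.leaf 3860))) (.node (.node (.leaf 797) (.leaf 3823)) (.leaf 1436))))) (.node (.node (.node (.node (.node (.leaf 111) (.leaf 3771)) (.node (.leaf 943) (.leaf 1872))) (.node (.node (.leaf 2105) (.leaf 2425)) (.node (.leaf 2611) (.leaf 3627)))) (.node (.node (.node (.leaf 338) (.leaf 3731)) (.node (.leaf 3401) (.leaf 1981))) (.node (.node (.leaf 750) (.leaf 3570)) (.leaf 3712)))) (.node (.node (.node (.node (.leaf 228) (.leaf 3569)) (.node (.leaf 3463) (.leaf 3892))) (.node (.node (.leaf 644) (.leaf 3725)) (.node (.leaf 1349) (.leaf 3063)))) (.node (.node (.node (.leaf 450) (.leaf 3043)) (.node (.leaf 1198) (.leaf 2808))) (.node (.node (.leaf 845) (.leaf 2261)) (.leaf 3525)))))))) (.node (.node (.node (.node (.node (.node (.node (.node (.leaf 12) (.leaf 3263)) (.node (.leaf 860) (.leaf 2617))) (.node (.node (.leaf 469) (.leaf 2685)) (.node (.leaf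 2873) (.leaf 3890)))) (.node (.node (.node (.leaf 249) (.leaf 1609)) (.node (.leaf 3148) (.leaf 3775))) (.node (.node (.leaf 666) (.leaf 3853)) (.node (.leaf 1363) (.leaf 3783))))) (.node (.node (.node (.node (.leaf 134) (.leaf 1531)) (.node (.leaf 2750) (.leaf 2498))) (.node (.node (.leaf 568) (.leaf 1740)) (.node (.leaf 1305) (.leaf 3506)))) (.node (.node (.node (.leaf 358) (.leaf 1658)) (.node (.leaf 1127) (.leaf 3713))) (.node (.node (.leaf 2096) (.leaf 3002)) (.leaf 2789))))) (.node (.node (.node (.node (.node (.leaf 73) (.leaf 3598)) (.node (.leaf 914) (.leaf 3036))) (.node (.node (.leaf 522) (.leaf 3475)) (.node (.leaf 1265) (.leaf 3672)))) (.node (.node (.node (.leaf 306) (.leaf 2880)) (.node (.leaf 1079) (.leaf 3144))) (.node (.node (.leaf 717) (.leaf 3277)) (.leaf 2855)))) (.node (.node (.node (.node (.leaf 193) (.leaf 1568)) (.node (.leaf 3038) (.leaf 3478))) (.node (.node (.leaf 615) (.leaf 1759)) (.node (.leaf 1330) (.leaf 1962)))) (.node (.node (.node (.leaf 413) (.leaf 2032)) (.node (.leaf 3718) (.leaf 1921))) (.node (.node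 (.leaf 816) (.leaf 1821)) (.leaf 3750)))))) (.node (.node (.node (.node (.node (.node (.leaf 2128) (.leaf 3458)) (.node (.leaf 885) (.leaf 1853))) (.node (.node (.leaf 495) (.leaf 3405)) (.node (.leaf 1243) (.leaf 3218)))) (.node (.node (.node (.leaf 279) (.leaf 2820)) (.node (.leaf 1054) (.leaf 3561))) (.node (.node (.leaf 695) (.leaf 2909)) (.node (.leaf 3580) (.leaf 3510))))) (.node (.node (.node (.node (.leaf 163) (.leaf 1548)) (.node (.leaf 981) (.leaf 3411))) (.node (.node (.leaf 2893) (.leaf 2758)) (.node (.leaf 1318) (.leaf 1965)))) (.node (.node (.node (.leaf 387) (.leaf 3390)) (.node (.leaf 2077) (.leaf 2346))) (.node (.node (.leaf 2667) (.leaf 3035)) (.leaf 2142))))) (.node (.node (.node (.node (.node (.leaf 103) (.leaf 2047)) (.node (.leaf 936) (.leaf 2358))) (.node (.node (.leaf 545) (.leaf 2599)) (.node (.leaf 1286) (.leaf 2876)))) (.node (.node (.node (.leaf 2116) (.leaf 1647)) (.node (.leaf 1106) (.leaf 3482))) (.node (.node (.leaf 744) (.leaf 3150)) (.leaf 1411)))) (.node (.node (.node (.node (.leaf 221) (.leaf 3342))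 (.node (.leaf 3781) (.leaf 2203))) (.node (.node (.leaf 3555) (.leaf 1768)) (.node (.leaf 3715) (.leaf 3362)))) (.node (.node (.node (.leaf 444) (.leaf 1696)) (.node (.leaf 2192) (.leaf 3090))) (.node (.node (.leaf 839) (.leaf 2763)) (.leaf 3640))))))) (.node (.node (.node (.node (.node (.node (.node (.leaf 27) (.leaf 3665)) (.node (.leaf 2287) (.leaf 3403))) (.node (.node (.leaf 482) (.leaf 3692)) (.node (.leaf 1229) (.leaf 3393)))) (.node (.node (.node (.leaf 2119) (.leaf 1616)) (.node (.leaf 2240) (.leaf 2345))) (.node (.node (.leaf 680) (.leaf 2011)) (.node (.leaf 2164) (.leaf 3237))))) (.node (.node (.node (.node (.leaf 2124) (.leaf 2752)) (.node (.leaf 969) (.leaf 2629))) (.node (.node (.leaf 581) (.leaf 3226)) (.node (.leaf 3816) (.leaf 3220)))) (.node (.node (.node (.leaf 374) (.leaf 1666)) (.node (.leaf 2977) (.leaf 3207))) (.node (.node (.leaf 782) (.leaf 2906)) (.leaf 3123))))) (.node (.node (.node (.node (.node (.leaf 89) (.leaf 3895)) (.node (.leaf 927) (.leaf 3113))) (.node (.node (.leaf 2487) (.leaf 3206)) (.node (.leaf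 1276) (.leaf 2440)))) (.node (.node (.node (.leaf 318) (.leaf 3629)) (.node (.leaf 1093) (.leaf 1914))) (.node (.node (.leaf 731) (.leaf 3479)) (.leaf 1400)))) (.node (.node (.node (.node (.leaf 207) (.leaf 1581)) (.node (.leaf 1004) (.leaf 2710))) (.node (.node (.leaf 2797) (.leaf 1763)) (.node (.leaf 3031) (.leaf 3428)))) (.node (.node (.node (.leaf 428) (.leaf 2031)) (.node (.leaf 1183) (.leaf 3162))) (.node (.node (.leaf 3203) (.leaf 3769)) (.leaf 3560)))))) (.node (.node (.node (.node (.node (.node (.leaf 58) (.leaf 3866)) (.node (.leaf 899) (.leaf 3023))) (.node (.node (.leaf 508) (.leaf 2942)) (.node (.leaf 3694) (.leaf 2883)))) (.node (.node (.node (.leaf 293) (.leaf 3534)) (.node (.leaf 1067) (.leaf 2309))) (.node (.node (.leaf 2715) (.leaf 2150)) (.node (.leaf 3796) (.leaf 2170))))) (.node (.node (.node (.node (.leaf 177) (.leaf 1557)) (.node (.leaf 3137) (.leaf 2522))) (.node (.node (.leaf 605) (.leaf 2018)) (.node (.leaf 3022) (.leaf 3839)))) (.node (.node (.node (.leaf 2113) (.leaf 3016)) (.node (.leaf 1160) (.leaf 3326)))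 (.node (.node (.leaf 804) (.leaf 3426)) (.leaf 2466))))) (.node (.node (.node (.node (.node (.leaf 119) (.leaf 1522)) (.node (.leaf 2088) (.leaf 1995))) (.node (.node (.leaf 555) (.leaf 3550)) (.node (.leaf 1297) (.leaf 1939)))) (.node (.node (.node (.leaf 345) (.leaf 1653)) (.node (.leaf 1116) (.leaf 1980))) (.node (.node (.leaf 758) (.leaf 1797)) (.leaf 2316)))) (.node (.node (.node (.node (.leaf 236) (.leaf 1601)) (.node (.leaf 1023) (.leaf 3724))) (.node (.node (.leaf 652) (.leaf 1773)) (.node (.leaf 1354) (.leaf 2908)))) (.node (.node (.node (.leaf 457) (.leaf 1700)) (.node (.leaf 2074) (.leaf 2925))) (.node (.node (.leaf 2665) (.leaf 3051)) (.leaf 3795)))))))))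

def threeRank5 : Janko.Tree (ℕ) :=
  (.node (.node (.node (.node (.node (.node (.node (.node (.node (.leaf 5) (.leaf 1465)) (.node (.leaf 854) (.leaf 3014))) (.node (.node (.leaf 464) (.leaf 1702)) (.node (.leaf 1209) (.leaf 2245)))) (.node (.node (.node (.leaf 242) (.leaf 3357)) (.node (.leaf 1027) (.leaf 3643))) (.node (.node (.leaf 661) (.leaf 2969)) (.node (.leaf 1360) (.leaf 3334))))) (.node (.node (.node (.node (.leaf 127) (.leaf 1526)) (.node (.leaf 955) (.leaf 2950))) (.node (.node (.leaf 564) (.leaf 3471)) (.node (.leaf 3468) (.leaf 2761)))) (.node (.node (.node (.leaf 2224) (.leaf 2367)) (.node (.leaf 1123) (.leaf 3496))) (.node (.node (.leaf 764) (.leaf 1948)) (.leaf 3012))))) (.node (.node (.node (.node (.node (.leaf 67) (.leaf 1494)) (.node (.leaf 907) (.leaf 1859))) (.node (.node (.leaf 516) (.leaf 1722)) (.node (.leaf 1259) (.leaf 3842)))) (.node (.node (.node (.leaf 300) (.leaf 3429)) (.node (.leaf 1072) (.leaf 2605))) (.node (.node (.leaf 713) (.leaf 2548)) (.leaf 2310)))) (.node (.node (.node (.node (.leaf 186) (.leaf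 1563)) (.node (.leaf 992) (.leaf 1887))) (.node (.node (.leaf 611) (.leaf 2934)) (.node (.leaf 2271) (.leaf 2202)))) (.node (.node (.node (.leaf 407) (.leaf 3381)) (.node (.leaf 1166) (.leaf 3876))) (.node (.node (.leaf 810) (.leaf 1819)) (.leaf 1444)))))) (.node (.node (.node (.node (.node (.node (.leaf 36) (.leaf 3228)) (.node (.leaf 879) (.leaf 3591))) (.node (.node (.leaf 489) (.leaf 3328)) (.node (.leaf 1237) (.leaf 2887)))) (.node (.node (.node (.leaf 272) (.leaf 3354)) (.node (.leaf 1047) (.leaf 2993))) (.node (.node (.leaf 688) (.leaf 2314)) (.node (.leaf 2857) (.leaf 3050))))) (.node (.node (.node (.node (.leaf 156) (.leaf 2577)) (.node (.leaf 977) (.leaf 3806))) (.node (.node (.leaf 588) (.leaf 2834)) (.node (.leaf 2448) (.leaf 2770)))) (.node (.node (.node (.leaf 381) (.leaf 2217)) (.node (.leaf 1144) (.leaf 3462))) (.node (.node (.leaf 788) (.leaf 2932)) (.leaf 2610))))) (.node (.node (.node (.node (.node (.leaf 98) (.leaf 3281)) (.node (.leaf 931) (.leaf 2757))) (.node (.node (.leaf 540) (.leaf 2547)) (.node (.leaf 1283)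 (.leaf 1935)))) (.node (.node (.node (.leaf 325) (.leaf 2983)) (.node (.leaf 2232) (.leaf 3234))) (.node (.node (.leaf 2410) (.leaf 3071)) (.leaf 3656)))) (.node (.node (.node (.node (.leaf 214) (.leaf 1588)) (.node (.leaf 1007) (.leaf 2780))) (.node (.node (.leaf 634) (.leaf 1765)) (.node (.leaf 1340) (.leaf 2325)))) (.node (.node (.node (.leaf 437) (.leaf 2462)) (.node (.leaf 1189) (.leaf 3703))) (.node (.node (.leaf 833) (.leaf 3345)) (.leaf 1457))))))) (.node (.node (.node (.node (.node (.node (.node (.leaf 20) (.leaf 3130)) (.node (.leaf 867) (.leaf 3256))) (.node (.node (.leaf 475) (.leaf 3317)) (.node (.leaf 1222) (.leaf 3158)))) (.node (.node (.node (.leaf 257) (.leaf 1614)) (.node (.leaf 1037) (.leaf 3307))) (.node (.node (.leaf 673) (.leaf 3075)) (.node (.leaf 1367) (.leaf 3804))))) (.node (.node (.node (.node (.leaf 142) (.leaf 2844)) (.node (.leaf 965) (.leaf 2376))) (.node (.node (.leaf 576) (.leaf 1742)) (.node (.leaf 1308) (.leaf 3290)))) (.node (.node (.node (.leaf 367) (.leaf 1663)) (.node (.leaf 1133) (.leaf 3116)))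 (.node (.node (.leaf 776) (.leaf 3700)) (.leaf 1425))))) (.node (.node (.node (.node (.node (.leaf 82) (.leaf 3770)) (.node (.leaf 921) (.leaf 1863))) (.node (.node (.leaf 529) (.leaf 3453)) (.node (.leaf 1273) (.leaf 2455)))) (.node (.node (.node (.leaf 312) (.leaf 2372)) (.node (.leaf 1087) (.leaf 3423))) (.node (.node (.leaf 724) (.leaf 1792)) (.leaf 2768)))) (.node (.node (.node (.node (.leaf 201) (.leaf 1574)) (.node (.leaf 2163) (.leaf 3647))) (.node (.node (.leaf 621) (.leaf 1762)) (.node (.leaf 2631) (.leaf 3818)))) (.node (.node (.node (.leaf 422) (.leaf 3238)) (.node (.leaf 1178) (.leaf 3650))) (.node (.node (.leaf 822) (.leaf 2941)) (.leaf 1450)))))) (.node (.node (.node (.node (.node (.node (.leaf 51) (.leaf 1484)) (.node (.leaf 893) (.leaf 3788))) (.node (.node (.leaf 503) (.leaf 3064)) (.node (.leaf 1251) (.leaf 1930)))) (.node (.node (.node (.leaf 288) (.leaf 2842)) (.node (.leaf 1062) (.leaf 1906))) (.node (.node (.leaf 2963) (.leaf 3434)) (.node (.leaf 1384) (.leaf 2214))))) (.node (.node (.node (.node (.leaf 171) (.leaf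 3585)) (.node (.leaf 2216) (.leaf 3246))) (.node (.node (.leaf 599) (.leaf 2459)) (.node (.leaf 3373) (.leaf 2859)))) (.node (.node (.node (.leaf 394) (.leaf 3055)) (.node (.leaf 1155) (.leaf 3184))) (.node (.node (.leaf 798) (.leaf 3654)) (.leaf 1437))))) (.node (.node (.node (.node (.node (.leaf 112) (.leaf 1517)) (.node (.leaf 944) (.leaf 2360))) (.node (.node (.leaf 552) (.leaf 2485)) (.node (.leaf 1291) (.leaf 3605)))) (.node (.node (.node (.leaf 339) (.leaf 2501)) (.node (.leaf 1110) (.leaf 2874))) (.node (.node (.leaf 751) (.leaf 3568)) (.leaf 1414)))) (.node (.node (.node (.node (.leaf 229) (.leaf 1595)) (.node (.leaf 1018) (.leaf 2578))) (.node (.node (.leaf 645) (.leaf 1769)) (.node (.leaf 3767) (.leaf 3754)))) (.node (.node (.node (.leaf 451) (.leaf 3280)) (.node (.leaf 3683) (.leaf 2902))) (.node (.node (.leaf 2276) (.leaf 2409)) (.leaf 3442)))))))) (.node (.node (.node (.node (.node (.node (.node (.node (.leaf 13) (.leaf 3265)) (.node (.leaf 861) (.leaf 3112))) (.node (.node (.leaf 2181) (.leaf 2621)) (.node (.leaf 1216)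 (.leaf 3045)))) (.node (.node (.node (.leaf 250) (.leaf 1610)) (.node (.leaf 1032) (.leaf 3773))) (.node (.node (.leaf 667) (.leaf 3851)) (.node (.leaf 2957) (.leaf 3046))))) (.node (.node (.node (.node (.leaf 2383) (.leaf 1532)) (.node (.leaf 960) (.leaf 1876))) (.node (.node (.leaf 569) (.leaf 2700)) (.node (.leaf 2388) (.leaf 2953)))) (.node (.node (.node (.leaf 359) (.leaf 2726)) (.node (.leaf 2371) (.leaf 3623))) (.node (.node (.leaf 770) (.leaf 3000)) (.leaf 2824))))) (.node (.node (.node (.node (.node (.leaf 74) (.leaf 3740)) (.node (.leaf 2298) (.leaf 2926))) (.node (.node (.leaf 523) (.leaf 1724)) (.node (.leaf 2660) (.leaf 3733)))) (.node (.node (.node (.leaf 307) (.leaf 1635)) (.node (.leaf 1080) (.leaf 2832))) (.node (.node (.leaf 718) (.leaf 2132)) (.leaf 2397)))) (.node (.node (.node (.node (.leaf 194) (.leaf 1569)) (.node (.leaf 995) (.leaf 1889))) (.node (.node (.leaf 616) (.leaf 2457)) (.node (.leaf 1331) (.leaf 2546)))) (.node (.node (.node (.leaf 414) (.leaf 1687)) (.node (.leaf 1171) (.leaf 2292))) (.node (.node (.leaf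 817) (.leaf 2958)) (.leaf 1446)))))) (.node (.node (.node (.node (.node (.node (.leaf 43) (.leaf 3456)) (.node (.leaf 886) (.leaf 1854))) (.node (.node (.leaf 496) (.leaf 3407)) (.node (.leaf 2510) (.leaf 2404)))) (.node (.node (.node (.leaf 280) (.leaf 1950)) (.node (.leaf 1055) (.leaf 3604))) (.node (.node (.leaf 696) (.leaf 2905)) (.node (.leaf 2815) (.leaf 3178))))) (.node (.node (.node (.node (.leaf 2476) (.leaf 3736)) (.node (.leaf 1953) (.leaf 3671))) (.node (.node (.leaf 592) (.leaf 2326)) (.node (.leaf 3365) (.leaf 2747)))) (.node (.node (.node (.leaf 1955) (.leaf 1671)) (.node (.leaf 3896) (.leaf 2553))) (.node (.node (.leaf 3136) (.leaf 2790)) (.leaf 1432))))) (.node (.node (.node (.node (.node (.leaf 104) (.leaf 3135)) (.node (.leaf 937) (.leaf 3486))) (.node (.node (.leaf 546) (.leaf 2517)) (.node (.leaf 1287) (.leaf 1937)))) (.node (.node (.node (.leaf 332) (.leaf 1648)) (.node (.leaf 1107) (.leaf 1916))) (.node (.node (.leaf 745) (.leaf 3461)) (.leaf 2773)))) (.node (.node (.node (.node (.leaf 222) (.leaf 2682)) (.node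 (.leaf 1013) (.leaf 3745))) (.node (.node (.leaf 639) (.leaf 3782)) (.node (.leaf 1344) (.leaf 2593)))) (.node (.node (.node (.leaf 445) (.leaf 1697)) (.node (.leaf 1192) (.leaf 3087))) (.node (.node (.leaf 840) (.leaf 2596)) (.leaf 3642))))))) (.node (.node (.node (.node (.node (.node (.node (.leaf 28) (.leaf 3748)) (.node (.leaf 872) (.leaf 1847))) (.node (.node (.leaf 483) (.leaf 1709)) (.node (.leaf 1230) (.leaf 1925)))) (.node (.node (.node (.leaf 264) (.leaf 2845)) (.node (.leaf 1042) (.leaf 1902))) (.node (.node (.leaf 681) (.leaf 3010)) (.node (.leaf 1370) (.leaf 3129))))) (.node (.node (.node (.node (.leaf 149) (.leaf 1542)) (.node (.leaf 970) (.leaf 3414))) (.node (.node (.leaf 2382) (.leaf 3579)) (.node (.leaf 3813) (.leaf 3499)))) (.node (.node (.node (.leaf 375) (.leaf 2691)) (.node (.leaf 3719) (.leaf 3188))) (.node (.node (.leaf 2626) (.leaf 2904)) (.leaf 3044))))) (.node (.node (.node (.node (.node (.leaf 90) (.leaf 3897)) (.node (.leaf 2280) (.leaf 1866))) (.node (.node (.leaf 535) (.leaf 2912)) (.node (.leaf 2584) (.leaf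 2895)))) (.node (.node (.node (.leaf 2168) (.leaf 1641)) (.node (.leaf 3515) (.leaf 3608))) (.node (.node (.leaf 3003) (.leaf 3481)) (.leaf 1401)))) (.node (.node (.node (.node (.leaf 208) (.leaf 2916)) (.node (.leaf 1005) (.leaf 2985))) (.node (.node (.leaf 627) (.leaf 2173)) (.node (.leaf 2327) (.leaf 3395)))) (.node (.node (.node (.leaf 429) (.leaf 1691)) (.node (.leaf 2178) (.leaf 3009))) (.node (.node (.leaf 827) (.leaf 1830)) (.leaf 2751)))))) (.node (.node (.node (.node (.node (.node (.leaf 59) (.leaf 1488)) (.node (.leaf 900) (.leaf 3241))) (.node (.node (.leaf 509) (.leaf 2297)) (.node (.leaf 2413) (.leaf 2881)))) (.node (.node (.node (.leaf 294) (.leaf 3536)) (.node (.leaf 3794) (.leaf 2956))) (.node (.node (.leaf 707) (.leaf 3834)) (.node (.leaf 3632) (.leaf 2237))))) (.node (.node (.node (.node (.leaf 178) (.leaf 3490)) (.node (.leaf 2858) (.leaf 2200))) (.node (.node (.leaf 2354) (.leaf 2659)) (.node (.leaf 2974) (.leaf 3878)))) (.node (.node (.node (.leaf 400) (.leaf 2512)) (.node (.leaf 1161) (.leaf 3808))) (.node (.node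 (.leaf 805) (.leaf 3216)) (.leaf 2252))))) (.node (.node (.node (.node (.node (.leaf 120) (.leaf 1523)) (.node (.leaf 949) (.leaf 1873))) (.node (.node (.leaf 556) (.leaf 1737)) (.node (.leaf 1298) (.leaf 3191)))) (.node (.node (.node (.leaf 3792) (.leaf 2379)) (.node (.leaf 1117) (.leaf 2274))) (.node (.node (.leaf 2418) (.leaf 3194)) (.leaf 1417)))) (.node (.node (.node (.node (.leaf 237) (.leaf 2850)) (.node (.leaf 2697) (.leaf 3726))) (.node (.node (.leaf 653) (.leaf 3007)) (.node (.leaf 2337) (.leaf 2910)))) (.node (.node (.node (.leaf 458) (.leaf 2563)) (.node (.leaf 2728) (.leaf 2841))) (.node (.node (.leaf 851) (.leaf 1841)) (.leaf 3093)))))))))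

def threeRank6 : Janko.Tree (ℕ) :=
  (.node (.node (.node (.node (.node (.node (.node (.node (.node (.leaf 6) (.leaf 1466)) (.node (.leaf 855) (.leaf 3057))) (.node (.node (.leaf 3214) (.leaf 2690)) (.node (.leaf 1210) (.leaf 2637)))) (.node (.node (.node (.leaf 243) (.leaf 2042)) (.node (.leaf 2712) (.leaf 2695))) (.node (.node (.leaf 662) (.leaf 1775)) (.node (.leaf 1361) (.leaf 1958))))) (.node (.node (.node (.node (.leaf 128) (.leaf 1527)) (.node (.leaf 3154) (.leaf 1874))) (.node (.node (.leaf 565) (.leaf 2020)) (.node (.leaf 3173) (.leaf 2856)))) (.node (.node (.node (.leaf 352) (.leaf 3830)) (.node (.leaf 2582) (.leaf 1979))) (.node (.node (.leaf 765) (.leaf 2004)) (.leaf 3032))))) (.node (.node (.node (.node (.node (.leaf 68) (.leaf 2361)) (.node (.leaf 908) (.leaf 3528))) (.node (.node (.leaf 517) (.leaf 1723)) (.node (.leaf 2722) (.leaf 2945)))) (.node (.node (.node (.leaf 301) (.leaf 1633)) (.node (.leaf 1073) (.leaf 2321))) (.node (.node (.leaf 3151) (.leaf 2521)) (.leaf 3217)))) (.node (.node (.node (.node (.leaf 187) (.leaf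 1564)) (.node (.leaf 993) (.leaf 1888))) (.node (.node (.leaf 612) (.leaf 3602)) (.node (.leaf 3408) (.leaf 1963)))) (.node (.node (.node (.leaf 408) (.leaf 2802)) (.node (.leaf 1167) (.leaf 3711))) (.node (.node (.leaf 811) (.leaf 3893)) (.leaf 1445)))))) (.node (.node (.node (.node (.node (.node (.leaf 37) (.leaf 3292)) (.node (.leaf 880) (.leaf 1850))) (.node (.node (.leaf 490) (.leaf 2724)) (.node (.leaf 1238) (.leaf 2359)))) (.node (.node (.node (.leaf 273) (.leaf 2787)) (.node (.leaf 1048) (.leaf 1903))) (.node (.node (.leaf 689) (.leaf 3167)) (.node (.leaf 1375) (.leaf 3195))))) (.node (.node (.node (.node (.leaf 157) (.leaf 2045)) (.node (.leaf 2581) (.leaf 2405))) (.node (.node (.leaf 2103) (.leaf 2860)) (.node (.leaf 2068) (.leaf 3538)))) (.node (.node (.node (.leaf 382) (.leaf 2033)) (.node (.leaf 1145) (.leaf 3508))) (.node (.node (.leaf 789) (.leaf 3618)) (.leaf 3103))))) (.node (.node (.node (.node (.node (.leaf 2126) (.leaf 3421)) (.node (.leaf 932) (.leaf 3222))) (.node (.node (.leaf 541) (.leaf 2279)) (.node (.leaf 1284)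 (.leaf 3192)))) (.node (.node (.node (.leaf 326) (.leaf 2813)) (.node (.leaf 1100) (.leaf 1915))) (.node (.node (.leaf 739) (.leaf 2134)) (.leaf 1407)))) (.node (.node (.node (.node (.leaf 215) (.leaf 1589)) (.node (.leaf 3469) (.leaf 1893))) (.node (.node (.leaf 2101) (.leaf 1766)) (.node (.leaf 2238) (.leaf 3356)))) (.node (.node (.node (.leaf 438) (.leaf 2307)) (.node (.leaf 1190) (.leaf 3247))) (.node (.node (.leaf 834) (.leaf 1832)) (.leaf 1458))))))) (.node (.node (.node (.node (.node (.node (.node (.leaf 21) (.leaf 3425)) (.node (.leaf 2090) (.leaf 1999))) (.node (.node (.leaf 476) (.leaf 2467)) (.node (.leaf 1223) (.leaf 2897)))) (.node (.node (.node (.leaf 258) (.leaf 2884)) (.node (.leaf 2081) (.leaf 1987))) (.node (.node (.leaf 674) (.leaf 1780)) (.node (.leaf 2063) (.leaf 3558))))) (.node (.node (.node (.node (.leaf 143) (.leaf 3720)) (.node (.leaf 2306) (.leaf 2994))) (.node (.node (.leaf 577) (.leaf 2505)) (.node (.leaf 3389) (.leaf 3583)))) (.node (.node (.node (.leaf 368) (.leaf 1664)) (.node (.leaf 1134) (.leaf 2255)))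 (.node (.node (.leaf 777) (.leaf 2929)) (.leaf 2692))))) (.node (.node (.node (.node (.node (.leaf 83) (.leaf 1502)) (.node (.leaf 922) (.leaf 3575))) (.node (.node (.leaf 530) (.leaf 1727)) (.node (.leaf 3649) (.leaf 2266)))) (.node (.node (.node (.leaf 313) (.leaf 1640)) (.node (.leaf 1088) (.leaf 1983))) (.node (.node (.leaf 725) (.leaf 3347)) (.leaf 3483)))) (.node (.node (.node (.node (.leaf 3899) (.leaf 1575)) (.node (.leaf 1000) (.leaf 3252))) (.node (.node (.leaf 622) (.leaf 2744)) (.node (.leaf 1334) (.leaf 3660)))) (.node (.node (.node (.leaf 2112) (.leaf 2736)) (.node (.leaf 1179) (.leaf 2864))) (.node (.node (.leaf 823) (.leaf 2254)) (.leaf 1451)))))) (.node (.node (.node (.node (.node (.node (.leaf 52) (.leaf 1485)) (.node (.leaf 3870) (.leaf 2920))) (.node (.node (.leaf 504) (.leaf 1714)) (.node (.leaf 1252) (.leaf 3829)))) (.node (.node (.node (.leaf 289) (.leaf 2416)) (.node (.leaf 2511) (.leaf 3047))) (.node (.node (.leaf 702) (.leaf 1786)) (.node (.leaf 2062) (.leaf 2207))))) (.node (.node (.node (.node (.leaf 172) (.leaf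 1553)) (.node (.leaf 3025) (.leaf 2982))) (.node (.node (.leaf 2165) (.leaf 2869)) (.node (.leaf 2270) (.leaf 3069)))) (.node (.node (.node (.leaf 395) (.leaf 1676)) (.node (.leaf 1156) (.leaf 1975))) (.node (.node (.leaf 799) (.leaf 3448)) (.leaf 2944))))) (.node (.node (.node (.node (.node (.leaf 113) (.leaf 1518)) (.node (.leaf 945) (.leaf 3611))) (.node (.node (.leaf 2597) (.leaf 2265)) (.node (.leaf 1292) (.leaf 3589)))) (.node (.node (.node (.leaf 340) (.leaf 1652)) (.node (.leaf 1111) (.leaf 3239))) (.node (.node (.leaf 752) (.leaf 2005)) (.leaf 2058)))) (.node (.node (.node (.node (.leaf 230) (.leaf 2148)) (.node (.leaf 3563) (.leaf 2723))) (.node (.node (.leaf 646) (.leaf 3527)) (.node (.leaf 1350) (.leaf 3747)))) (.node (.node (.node (.leaf 452) (.leaf 2627)) (.node (.leaf 1199) (.leaf 3744))) (.node (.node (.leaf 846) (.leaf 3648)) (.leaf 3304)))))))) (.node (.node (.node (.node (.node (.node (.node (.node (.leaf 2129) (.leaf 3882)) (.node (.leaf 862) (.leaf 2973))) (.node (.node (.leaf 470) (.leaf 1706)) (.node (.leaf 1217)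 (.leaf 3350)))) (.node (.node (.node (.leaf 251) (.leaf 3741)) (.node (.leaf 1033) (.leaf 3669))) (.node (.node (.leaf 3835) (.leaf 1777)) (.node (.leaf 3776) (.leaf 3607))))) (.node (.node (.node (.node (.leaf 135) (.leaf 3349)) (.node (.leaf 2087) (.leaf 2542))) (.node (.node (.leaf 570) (.leaf 3282)) (.node (.leaf 3729) (.leaf 3385)))) (.node (.node (.node (.leaf 360) (.leaf 3714)) (.node (.leaf 1128) (.leaf 3523))) (.node (.node (.leaf 2193) (.leaf 3541)) (.leaf 1423))))) (.node (.node (.node (.node (.node (.leaf 75) (.leaf 2592)) (.node (.leaf 915) (.leaf 2900))) (.node (.node (.leaf 524) (.leaf 1725)) (.node (.leaf 1266) (.leaf 3797)))) (.node (.node (.node (.leaf 2117) (.leaf 1636)) (.node (.leaf 1081) (.leaf 3758))) (.node (.node (.leaf 719) (.leaf 3086)) (.leaf 1394)))) (.node (.node (.node (.node (.leaf 195) (.leaf 1570)) (.node (.leaf 996) (.leaf 1890))) (.node (.node (.leaf 2102) (.leaf 1760)) (.node (.leaf 1332) (.leaf 3019)))) (.node (.node (.node (.leaf 415) (.leaf 3513)) (.node (.leaf 1172) (.leaf 1922))) (.node (.node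 (.leaf 818) (.leaf 3210)) (.leaf 1447)))))) (.node (.node (.node (.node (.node (.node (.leaf 44) (.leaf 3871)) (.node (.leaf 887) (.leaf 1855))) (.node (.node (.leaf 497) (.leaf 3171)) (.node (.leaf 1244) (.leaf 3772)))) (.node (.node (.node (.leaf 281) (.leaf 2040)) (.node (.leaf 1056) (.leaf 1904))) (.node (.node (.leaf 2099) (.leaf 3531)) (.node (.leaf 1380) (.leaf 3320))))) (.node (.node (.node (.node (.leaf 164) (.leaf 1549)) (.node (.leaf 2086) (.leaf 3674))) (.node (.node (.leaf 593) (.leaf 3574)) (.node (.leaf 3286) (.leaf 3170)))) (.node (.node (.node (.leaf 388) (.leaf 1672)) (.node (.leaf 2555) (.leaf 2378))) (.node (.node (.leaf 2673) (.leaf 2373)) (.leaf 1433))))) (.node (.node (.node (.node (.node (.leaf 105) (.leaf 2616)) (.node (.leaf 938) (.leaf 1996))) (.node (.node (.leaf 2328) (.leaf 1732)) (.node (.leaf 1288) (.leaf 1938)))) (.node (.node (.node (.leaf 2141) (.leaf 1649)) (.node (.leaf 3685) (.leaf 2831))) (.node (.node (.leaf 746) (.leaf 2006)) (.leaf 2823)))) (.node (.node (.node (.node (.leaf 223) (.leaf 1592))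 (.node (.leaf 1014) (.leaf 1894))) (.node (.node (.leaf 640) (.leaf 3279)) (.node (.leaf 2640) (.leaf 1959)))) (.node (.node (.node (.leaf 446) (.leaf 2030)) (.node (.leaf 1193) (.leaf 3235))) (.node (.node (.leaf 841) (.leaf 1836)) (.leaf 3659))))))) (.node (.node (.node (.node (.node (.node (.node (.leaf 29) (.leaf 1477)) (.node (.leaf 873) (.leaf 3576))) (.node (.node (.leaf 484) (.leaf 3546)) (.node (.leaf 1231) (.leaf 3212)))) (.node (.node (.node (.leaf 265) (.leaf 1617)) (.node (.leaf 1043) (.leaf 1986))) (.node (.node (.leaf 682) (.leaf 3454)) (.node (.leaf 1371) (.leaf 3440))))) (.node (.node (.node (.node (.leaf 2145) (.leaf 1543)) (.node (.leaf 971) (.leaf 2567))) (.node (.node (.leaf 582) (.leaf 1745)) (.node (.leaf 1311) (.leaf 2793)))) (.node (.node (.node (.leaf 376) (.leaf 2798)) (.node (.leaf 1137) (.leaf 2344))) (.node (.node (.leaf 783) (.leaf 2686)) (.leaf 2504))))) (.node (.node (.node (.node (.node (.leaf 91) (.leaf 1505)) (.node (.leaf 2513) (.leaf 2366))) (.node (.node (.leaf 536) (.leaf 3639)) (.node (.leaf 1277)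 (.leaf 2438)))) (.node (.node (.node (.leaf 2315) (.leaf 2702)) (.node (.leaf 1094) (.leaf 3026))) (.node (.node (.leaf 732) (.leaf 2879)) (.leaf 1402)))) (.node (.node (.node (.node (.leaf 209) (.leaf 1582)) (.node (.leaf 2083) (.leaf 3495))) (.node (.node (.leaf 628) (.leaf 3497)) (.node (.leaf 1337) (.leaf 2865)))) (.node (.node (.node (.leaf 430) (.leaf 3698)) (.node (.leaf 1184) (.leaf 3382))) (.node (.node (.leaf 828) (.leaf 2653)) (.leaf 1455)))))) (.node (.node (.node (.node (.node (.node (.leaf 60) (.leaf 2570)) (.node (.leaf 901) (.leaf 2739))) (.node (.node (.leaf 510) (.leaf 3107)) (.node (.leaf 1255) (.leaf 2394)))) (.node (.node (.node (.leaf 295) (.leaf 2972)) (.node (.leaf 1068) (.leaf 2305))) (.node (.node (.leaf 708) (.leaf 3185)) (.leaf 1389)))) (.node (.node (.node (.node (.leaf 179) (.leaf 1558)) (.node (.leaf 2450) (.leaf 2226))) (.node (.node (.leaf 2250) (.leaf 1753)) (.node (.leaf 1324) (.leaf 1964)))) (.node (.node (.node (.leaf 2157) (.leaf 1681)) (.node (.leaf 1162) (.leaf 1974))) (.node (.node (.leaf 2093)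 (.leaf 1814)) (.leaf 2056))))) (.node (.node (.node (.node (.node (.leaf 2125) (.leaf 1524)) (.node (.leaf 2341) (.leaf 3099))) (.node (.node (.leaf 557) (.leaf 2021)) (.node (.leaf 2468) (.leaf 2995)))) (.node (.node (.node (.leaf 346) (.leaf 2035)) (.node (.leaf 2079) (.leaf 2930))) (.node (.node (.leaf 759) (.leaf 3856)) (.leaf 2311)))) (.node (.node (.node (.node (.leaf 2434) (.leaf 2848)) (.node (.leaf 2701) (.leaf 3822))) (.node (.node (.leaf 654) (.leaf 3617)) (.node (.leaf 3147) (.leaf 2638)))) (.node (.node (.node (.leaf 3901) (.leaf 2532)) (.node (.leaf 1204) (.leaf 2609))) (.node (.node (.leaf 852) (.leaf 1842)) (.leaf 1464)))))))))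

def threeRank7 : Janko.Tree (ℕ) :=
  (.node (.node (.node (.node (.node (.node (.node (.node (.node (.leaf 7) (.leaf 2471)) (.node (.leaf 856) (.leaf 2300))) (.node (.node (.leaf 465) (.leaf 3687)) (.node (.leaf 1211) (.leaf 2766)))) (.node (.node (.node (.leaf 244) (.leaf 1606)) (.node (.leaf 1028) (.leaf 2693))) (.node (.node (.leaf 663) (.leaf 3586)) (.node (.leaf 3518) (.leaf 3358))))) (.node (.node (.node (.node (.leaf 129) (.leaf 1528)) (.node (.leaf 956) (.leaf 1875))) (.node (.node (.leaf 3802) (.leaf 3183)) (.node (.leaf 1302) (.leaf 2672)))) (.node (.node (.node (.leaf 353) (.leaf 2551)) (.node (.leaf 2738) (.leaf 2595))) (.node (.node (.leaf 766) (.leaf 3132)) (.leaf 2671))))) (.node (.node (.node (.node (.node (.leaf 69) (.leaf 2730)) (.node (.leaf 909) (.leaf 3530))) (.node (.node (.leaf 2301) (.leaf 2444)) (.node (.leaf 1260) (.leaf 3327)))) (.node (.node (.node (.leaf 302) (.leaf 3341)) (.node (.leaf 1074) (.leaf 3529))) (.node (.node (.leaf 714) (.leaf 2525)) (.leaf 2968)))) (.node (.node (.node (.node (.leaf 188) (.leaf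 2759)) (.node (.leaf 2624) (.leaf 2235))) (.node (.node (.leaf 2975) (.leaf 2817)) (.node (.leaf 3432) (.leaf 2213)))) (.node (.node (.node (.leaf 409) (.leaf 1685)) (.node (.leaf 1168) (.leaf 2285))) (.node (.node (.leaf 812) (.leaf 3889)) (.leaf 2526)))))) (.node (.node (.node (.node (.node (.node (.leaf 38) (.leaf 1480)) (.node (.leaf 881) (.leaf 1851))) (.node (.node (.leaf 491) (.leaf 3141)) (.node (.leaf 1239) (.leaf 1928)))) (.node (.node (.node (.leaf 274) (.leaf 1623)) (.node (.leaf 1049) (.leaf 2669))) (.node (.node (.leaf 690) (.leaf 3101)) (.node (.leaf 1376) (.leaf 3197))))) (.node (.node (.node (.node (.leaf 158) (.leaf 3850)) (.node (.leaf 978) (.leaf 3764))) (.node (.node (.leaf 2350) (.leaf 2507)) (.node (.leaf 2465) (.leaf 2997)))) (.node (.node (.node (.leaf 383) (.leaf 1669)) (.node (.leaf 1146) (.leaf 2733))) (.node (.node (.leaf 790) (.leaf 1807)) (.leaf 1430))))) (.node (.node (.node (.node (.node (.leaf 99) (.leaf 1510)) (.node (.leaf 933) (.leaf 1869))) (.node (.node (.leaf 542) (.leaf 2794)) (.node (.leaf 2661)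 (.leaf 3110)))) (.node (.node (.node (.leaf 327) (.leaf 2922)) (.node (.leaf 1101) (.leaf 3681))) (.node (.node (.leaf 740) (.leaf 1794)) (.leaf 3378)))) (.node (.node (.node (.node (.leaf 216) (.leaf 2186)) (.node (.leaf 1008) (.leaf 2212))) (.node (.node (.leaf 3091) (.leaf 1767)) (.node (.leaf 1341) (.leaf 2840)))) (.node (.node (.node (.leaf 439) (.leaf 1692)) (.node (.leaf 2381) (.leaf 3245))) (.node (.node (.leaf 835) (.leaf 3175)) (.leaf 1951))))))) (.node (.node (.node (.node (.node (.node (.node (.leaf 22) (.leaf 1475)) (.node (.leaf 2294) (.leaf 2453))) (.node (.node (.leaf 477) (.leaf 3048)) (.node (.leaf 1224) (.leaf 3480)))) (.node (.node (.node (.leaf 259) (.leaf 1615)) (.node (.leaf 2805) (.leaf 3074))) (.node (.node (.leaf 675) (.leaf 1949)) (.node (.leaf 1368) (.leaf 3556))))) (.node (.node (.node (.node (.leaf 144) (.leaf 1538)) (.node (.leaf 3133) (.leaf 1879))) (.node (.node (.leaf 2960) (.leaf 1743)) (.node (.leaf 1309) (.leaf 1940)))) (.node (.node (.node (.leaf 369) (.leaf 3526)) (.node (.leaf 1135) (.leaf 3466)))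 (.node (.node (.leaf 778) (.leaf 1803)) (.leaf 1426))))) (.node (.node (.node (.node (.node (.leaf 84) (.leaf 1503)) (.node (.leaf 923) (.leaf 3559))) (.node (.node (.leaf 531) (.leaf 2788)) (.node (.leaf 2711) (.leaf 2662)))) (.node (.node (.node (.leaf 314) (.leaf 2707)) (.node (.leaf 1089) (.leaf 3313))) (.node (.node (.leaf 726) (.leaf 2426)) (.leaf 2140)))) (.node (.node (.node (.node (.leaf 202) (.leaf 1576)) (.node (.leaf 2349) (.leaf 2704))) (.node (.node (.leaf 623) (.leaf 2454)) (.node (.leaf 1335) (.leaf 3757)))) (.node (.node (.node (.leaf 423) (.leaf 2740)) (.node (.leaf 1180) (.leaf 2430))) (.node (.node (.leaf 824) (.leaf 1827)) (.leaf 1452)))))) (.node (.node (.node (.node (.node (.node (.leaf 53) (.leaf 1486)) (.node (.leaf 894) (.leaf 3312))) (.node (.node (.leaf 505) (.leaf 1715)) (.node (.leaf 2502) (.leaf 1931)))) (.node (.node (.node (.leaf 290) (.leaf 2201)) (.node (.leaf 1063) (.leaf 3545))) (.node (.node (.leaf 703) (.leaf 3742)) (.node (.leaf 3193) (.leaf 2229))))) (.node (.node (.node (.node (.leaf 173) (.leaf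 1554)) (.node (.leaf 2221) (.leaf 2999))) (.node (.node (.leaf 600) (.leaf 2411)) (.node (.leaf 2527) (.leaf 3306)))) (.node (.node (.node (.leaf 396) (.leaf 1677)) (.node (.leaf 1157) (.leaf 2756))) (.node (.node (.leaf 800) (.leaf 1811)) (.leaf 1438))))) (.node (.node (.node (.node (.node (.leaf 114) (.leaf 1519)) (.node (.leaf 946) (.leaf 3484))) (.node (.node (.leaf 553) (.leaf 1734)) (.node (.leaf 2227) (.leaf 3587)))) (.node (.node (.node (.leaf 2843) (.leaf 2677)) (.node (.leaf 1112) (.leaf 3476))) (.node (.node (.leaf 753) (.leaf 3323)) (.leaf 2208)))) (.node (.node (.node (.node (.leaf 231) (.leaf 1596)) (.node (.leaf 3302) (.leaf 1895))) (.node (.node (.leaf 647) (.leaf 3295)) (.node (.leaf 1351) (.leaf 3606)))) (.node (.node (.node (.leaf 2177) (.leaf 2579)) (.node (.leaf 2478) (.leaf 3746))) (.node (.node (.leaf 847) (.leaf 1839)) (.leaf 1461)))))))) (.node (.node (.node (.node (.node (.node (.node (.node (.leaf 14) (.leaf 1470)) (.node (.leaf 2445) (.leaf 2971))) (.node (.node (.leaf 471) (.leaf 3315)) (.node (.leaf 1218)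 (.leaf 3352)))) (.node (.node (.node (.leaf 252) (.leaf 1611)) (.node (.leaf 3562) (.leaf 3368))) (.node (.node (.leaf 668) (.leaf 2211)) (.node (.leaf 2333) (.leaf 3509))))) (.node (.node (.node (.node (.leaf 136) (.leaf 1533)) (.node (.leaf 2696) (.leaf 3242))) (.node (.node (.leaf 3375) (.leaf 2586)) (.node (.leaf 1306) (.leaf 3383)))) (.node (.node (.node (.leaf 361) (.leaf 1659)) (.node (.leaf 2961) (.leaf 3439))) (.node (.node (.leaf 771) (.leaf 3768)) (.leaf 2699))))) (.node (.node (.node (.node (.node (.leaf 76) (.leaf 2986)) (.node (.leaf 3547) (.leaf 3437))) (.node (.node (.leaf 525) (.leaf 3612)) (.node (.leaf 1267) (.leaf 3799)))) (.node (.node (.node (.leaf 308) (.leaf 1637)) (.node (.leaf 1082) (.leaf 3581))) (.node (.node (.leaf 2205) (.leaf 2222)) (.leaf 2284)))) (.node (.node (.node (.node (.leaf 196) (.leaf 1571)) (.node (.leaf 997) (.leaf 3821))) (.node (.node (.leaf 2304) (.leaf 2278)) (.node (.leaf 3316) (.leaf 3078)))) (.node (.node (.node (.leaf 416) (.leaf 2219)) (.node (.leaf 1173) (.leaf 2829))) (.node (.node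 (.leaf 2663) (.leaf 1822)) (.leaf 1448)))))) (.node (.node (.node (.node (.node (.node (.leaf 45) (.leaf 1482)) (.node (.leaf 888) (.leaf 3588))) (.node (.node (.leaf 498) (.leaf 1713)) (.node (.leaf 1245) (.leaf 1929)))) (.node (.node (.node (.leaf 282) (.leaf 1626)) (.node (.leaf 1057) (.leaf 2528))) (.node (.node (.leaf 697) (.leaf 1784)) (.node (.leaf 2421) (.leaf 3324))))) (.node (.node (.node (.node (.leaf 165) (.leaf 3447)) (.node (.leaf 982) (.leaf 3699))) (.node (.node (.leaf 594) (.leaf 1749)) (.node (.leaf 2482) (.leaf 2991)))) (.node (.node (.node (.leaf 389) (.leaf 1673)) (.node (.leaf 1150) (.leaf 3857))) (.node (.node (.leaf 2144) (.leaf 2364)) (.leaf 3079))))) (.node (.node (.node (.node (.node (.leaf 106) (.leaf 1514)) (.node (.leaf 939) (.leaf 1871))) (.node (.node (.leaf 547) (.leaf 2273)) (.node (.leaf 1289) (.leaf 3200)))) (.node (.node (.node (.leaf 333) (.leaf 2508)) (.node (.leaf 3254) (.leaf 3020))) (.node (.node (.leaf 747) (.leaf 3098)) (.leaf 2348)))) (.node (.node (.node (.node (.leaf 224) (.leaf 2689)) (.node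 (.leaf 1015) (.leaf 3015))) (.node (.node (.leaf 2646) (.leaf 2318)) (.node (.leaf 1345) (.leaf 2996)))) (.node (.node (.node (.leaf 447) (.leaf 3288)) (.node (.leaf 1194) (.leaf 3449))) (.node (.node (.leaf 842) (.leaf 2415)) (.leaf 3420))))))) (.node (.node (.node (.node (.node (.node (.node (.leaf 30) (.leaf 1478)) (.node (.leaf 2275) (.leaf 3544))) (.node (.node (.leaf 485) (.leaf 1710)) (.node (.leaf 1232) (.leaf 3600)))) (.node (.node (.node (.leaf 266) (.leaf 1618)) (.node (.leaf 3565) (.leaf 2484))) (.node (.node (.leaf 683) (.leaf 3452)) (.node (.leaf 1372) (.leaf 3645))))) (.node (.node (.node (.node (.leaf 150) (.leaf 2230)) (.node (.leaf 972) (.leaf 3085))) (.node (.node (.leaf 2651) (.leaf 3190)) (.node (.leaf 1312) (.leaf 3474)))) (.node (.node (.node (.leaf 377) (.leaf 3367)) (.node (.leaf 1138) (.leaf 3140))) (.node (.node (.leaf 2160) (.leaf 3011)) (.leaf 2386))))) (.node (.node (.node (.node (.node (.leaf 92) (.leaf 1506)) (.node (.leaf 928) (.leaf 1867))) (.node (.node (.leaf 1954) (.leaf 2417)) (.node (.leaf 1278)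 (.leaf 2536)))) (.node (.node (.node (.leaf 319) (.leaf 1642)) (.node (.leaf 1095) (.leaf 3024))) (.node (.node (.leaf 733) (.leaf 2175)) (.leaf 1403)))) (.node (.node (.node (.node (.leaf 210) (.leaf 2385)) (.node (.leaf 2777) (.leaf 3332))) (.node (.node (.leaf 3566) (.leaf 1764)) (.node (.leaf 2561) (.leaf 2863)))) (.node (.node (.node (.leaf 431) (.leaf 3201)) (.node (.leaf 1185) (.leaf 3445))) (.node (.node (.leaf 829) (.leaf 2655)) (.leaf 2866)))))) (.node (.node (.node (.node (.node (.node (.leaf 61) (.leaf 1489)) (.node (.leaf 902) (.leaf 2742))) (.node (.node (.leaf 511) (.leaf 2782)) (.node (.leaf 2323) (.leaf 3410)))) (.node (.node (.node (.leaf 2277) (.leaf 2215)) (.node (.leaf 3419) (.leaf 1909))) (.node (.node (.leaf 709) (.leaf 1787)) (.leaf 3459)))) (.node (.node (.node (.node (.leaf 180) (.leaf 1559)) (.node (.leaf 988) (.leaf 1883))) (.node (.node (.leaf 606) (.leaf 3092)) (.node (.leaf 1325) (.leaf 3880)))) (.node (.node (.node (.leaf 401) (.leaf 3274)) (.node (.leaf 1163) (.leaf 3340))) (.node (.node (.leaf 2978) (.leaf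 3268)) (.leaf 1440))))) (.node (.node (.node (.node (.node (.leaf 121) (.leaf 3006)) (.node (.leaf 950) (.leaf 3179))) (.node (.node (.leaf 558) (.leaf 2390)) (.node (.leaf 3042) (.leaf 2899)))) (.node (.node (.node (.leaf 347) (.leaf 2778)) (.node (.leaf 1118) (.leaf 2716))) (.node (.node (.leaf 760) (.leaf 3858)) (.leaf 1418)))) (.node (.node (.node (.node (.leaf 238) (.leaf 1602)) (.node (.leaf 1024) (.leaf 1897))) (.node (.node (.leaf 655) (.leaf 3852)) (.node (.leaf 1355) (.leaf 3594)))) (.node (.node (.node (.leaf 459) (.leaf 1701)) (.node (.leaf 1205) (.leaf 2529))) (.node (.node (.leaf 2257) (.leaf 3108)) (.leaf 3122)))))))))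

def threeRank : Janko.Tree (ℕ) := (.node (.node (.node threeRank0 threeRank4) (.node threeRank2 threeRank6)) (.node (.node threeRank1 threeRank5) (.node threeRank3 threeRank7)))

def threeVia0 : Janko.Tree (ℕ × ℕ) :=
  (.node (.node (.node (.node (.node (.node (.node (.node (.node (.leaf (0, 0)) (.leaf (0, 1024))) (.node (.leaf (0, 0)) (.leaf (13, 971)))) (.node (.node (.leaf (0, 0)) (.leaf (0, 1280))) (.node (.leaf (0, 0)) (.leaf (11, 196))))) (.node (.node (.node (.leaf (0, 0)) (.leaf (0, 0))) (.node (.leaf (13, 586)) (.leaf (13, 1352)))) (.node (.node (.leaf (0, 0)) (.leaf (0, 0))) (.node (.leaf (0, 0)) (.leaf (4, 1373)))))) (.node (.node (.node (.node (.leaf (0, 0)) (.leaf (0, 0))) (.node (.leaf (0, 0)) (.leaf (13, 443)))) (.node (.node (.leaf (0, 0)) (.leaf (10, 1542))) (.node (.leaf (13, 1087)) (.leaf (12, 1559))))) (.node (.node (.node (.leaf (0, 0)) (.leaf (0, 0))) (.node (.leaf (13, 704)) (.leaf (4, 1079)))) (.node (.node (.leaf (13, 448)) (.leaf (13, 402))) (.leaf (0, 0)))))) (.node (.node (.node (.node (.node (.leaf (0, 0))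 (.leaf (0, 0))) (.node (.leaf (0, 0)) (.leaf (0, 0)))) (.node (.node (.leaf (0, 0)) (.leaf (0, 1312))) (.node (.leaf (0, 800)) (.leaf (12, 676))))) (.node (.node (.node (.leaf (0, 0)) (.leaf (11, 750))) (.node (.leaf (0, 0)) (.leaf (0, 0)))) (.node (.node (.leaf (0, 416)) (.leaf (0, 0))) (.leaf (0, 928))))) (.node (.node (.node (.node (.leaf (0, 0)) (.leaf (0, 0))) (.node (.leaf (13, 759)) (.leaf (13, 1632)))) (.node (.node (.leaf (0, 0)) (.leaf (0, 0))) (.node (.leaf (12, 662)) (.leaf (11, 1638))))) (.node (.node (.node (.leaf (0, 0)) (.leaf (13, 1590))) (.node (.leaf (0, 0)) (.leaf (13, 1382)))) (.node (.node (.leaf (0, 0)) (.leaf (0, 0))) (.leaf (0, 0))))))) (.node (.node (.node (.node (.node (.node (.leaf (0, 0)) (.leaf (13, 1040))) (.node (.leaf (0, 0)) (.leaf (0, 0)))) (.node (.node (.leaf (0, 272)) (.leaf (0, 1296))) (.node (.leaf (0, 0)) (.leaf (3, 1055))))) (.node (.node (.node (.leaf (0, 0)) (.leaf (0, 0))) (.node (.leaf (7, 853)) (.leaf (11, 1448)))) (.node (.node (.leaf (0, 0)) (.leaf (0, 1424))) (.node (.leaf (12, 1837))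 (.leaf (13, 746)))))) (.node (.node (.node (.node (.leaf (0, 0)) (.leaf (12, 1104))) (.node (.leaf (0, 0)) (.leaf (12, 733)))) (.node (.node (.leaf (0, 0)) (.leaf (13, 898))) (.node (.leaf (9, 337)) (.leaf (13, 720))))) (.node (.node (.node (.leaf (0, 208)) (.leaf (12, 1232))) (.node (.leaf (0, 0)) (.leaf (13, 157)))) (.node (.node (.leaf (0, 0)) (.leaf (12, 1488))) (.leaf (7, 150)))))) (.node (.node (.node (.node (.node (.leaf (0, 0)) (.leaf (0, 0))) (.node (.leaf (13, 424)) (.leaf (13, 1136)))) (.node (.node (.leaf (0, 304)) (.leaf (0, 1328))) (.node (.leaf (0, 0)) (.leaf (13, 1592))))) (.node (.node (.node (.leaf (0, 0)) (.leaf (12, 763))) (.node (.leaf (0, 0)) (.leaf (12, 277)))) (.node (.node (.leaf (0, 0)) (.leaf (9, 870))) (.leaf (0, 0))))) (.node (.node (.node (.node (.leaf (6, 1615)) (.leaf (0, 0))) (.node (.leaf (7, 1643)) (.leaf (12, 1206)))) (.node (.node (.leaf (0, 0)) (.leaf (13, 1396))) (.node (.leaf (0, 0)) (.leaf (10, 1461))))) (.node (.node (.node (.leaf (0, 0)) (.leaf (13, 805))) (.node (.leaf (0, 0)) (.leaf (13, 1839))))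 (.node (.node (.leaf (4, 974)) (.leaf (0, 0))) (.leaf (4, 1008)))))))) (.node (.node (.node (.node (.node (.node (.node (.leaf (0, 0)) (.leaf (13, 1451))) (.node (.leaf (0, 0)) (.leaf (0, 1544)))) (.node (.node (.leaf (0, 0)) (.leaf (13, 861))) (.node (.leaf (0, 0)) (.leaf (12, 1800))))) (.node (.node (.node (.leaf (0, 0)) (.leaf (0, 1160))) (.node (.leaf (13, 648)) (.leaf (13, 1906)))) (.node (.node (.leaf (0, 0)) (.leaf (0, 0))) (.node (.leaf (0, 0)) (.leaf (12, 790)))))) (.node (.node (.node (.node (.leaf (0, 0)) (.leaf (0, 0))) (.node (.leaf (0, 0)) (.leaf (13, 1532)))) (.node (.node (.leaf (0, 0)) (.leaf (0, 0))) (.node (.leaf (0, 0)) (.leaf (13, 575))))) (.node (.node (.node (.leaf (0, 0)) (.leaf (0, 0))) (.node (.leaf (0, 0)) (.leaf (13, 1340)))) (.node (.node (.leaf (0, 0)) (.leaf (0, 0))) (.leaf (9, 1162)))))) (.node (.node (.node (.node (.node (.leaf (0, 0)) (.leaf (3, 718))) (.node (.leaf (0, 0)) (.leaf (0, 1576)))) (.node (.node (.leaf (0, 0)) (.leaf (0, 1320))) (.node (.leaf (0, 0)) (.leaf (0, 0))))) (.node (.node (.node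 (.leaf (0, 0)) (.leaf (0, 0))) (.node (.leaf (0, 0)) (.leaf (13, 1715)))) (.node (.node (.leaf (12, 65)) (.leaf (0, 1448))) (.leaf (0, 0))))) (.node (.node (.node (.node (.leaf (0, 0)) (.leaf (0, 0))) (.node (.leaf (0, 0)) (.leaf (0, 1640)))) (.node (.node (.leaf (2, 54)) (.leaf (2, 922))) (.node (.leaf (13, 1333)) (.leaf (12, 350))))) (.node (.node (.node (.leaf (0, 0)) (.leaf (2, 799))) (.node (.leaf (0, 0)) (.leaf (13, 1439)))) (.node (.node (.leaf (0, 0)) (.leaf (13, 1550))) (.leaf (0, 0))))))) (.node (.node (.node (.node (.node (.node (.leaf (0, 0)) (.leaf (13, 1257))) (.node (.leaf (0, 0)) (.leaf (6, 1560)))) (.node (.node (.leaf (0, 0)) (.leaf (0, 1685))) (.node (.leaf (0, 0)) (.leaf (13, 787))))) (.node (.node (.node (.leaf (0, 0)) (.leaf (0, 0))) (.node (.leaf (0, 0)) (.leaf (12, 1688)))) (.node (.node (.leaf (13, 408)) (.leaf (0, 0))) (.node (.leaf (10, 294)) (.leaf (0, 0)))))) (.node (.node (.node (.node (.leaf (0, 0)) (.leaf (0, 0))) (.node (.leaf (0, 0)) (.leaf (13, 1886)))) (.node (.node (.leaf (12, 189)) (.leaf (12, 45)))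 (.node (.leaf (0, 0)) (.leaf (13, 1845))))) (.node (.node (.node (.leaf (10, 115)) (.leaf (12, 1240))) (.node (.leaf (0, 0)) (.leaf (13, 1370)))) (.node (.node (.leaf (0, 0)) (.leaf (13, 1661))) (.leaf (13, 100)))))) (.node (.node (.node (.node (.node (.leaf (0, 0)) (.leaf (0, 0))) (.node (.leaf (0, 0)) (.leaf (13, 1399)))) (.node (.node (.leaf (0, 0)) (.leaf (13, 1733))) (.node (.leaf (13, 1241)) (.leaf (13, 1848))))) (.node (.node (.node (.leaf (0, 0)) (.leaf (0, 1208))) (.node (.leaf (0, 0)) (.leaf (13, 1901)))) (.node (.node (.leaf (0, 0)) (.leaf (13, 1784))) (.leaf (0, 0))))) (.node (.node (.node (.node (.leaf (0, 0)) (.leaf (0, 1144))) (.node (.leaf (0, 0)) (.leaf (10, 252)))) (.node (.node (.leaf (0, 0)) (.leaf (13, 941))) (.node (.leaf (0, 0)) (.leaf (2, 808))))) (.node (.node (.node (.leaf (0, 248)) (.leaf (13, 1497))) (.node (.leaf (0, 0)) (.leaf (12, 1536)))) (.node (.node (.leaf (0, 0)) (.leaf (3, 243))) (.leaf (13, 1016))))))))) (.node (.node (.node (.node (.node (.node (.node (.node (.leaf (0, 0)) (.leaf (0, 0))) (.node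 (.leaf (0, 0)) (.leaf (13, 976)))) (.node (.node (.leaf (13, 1645)) (.leaf (0, 1695))) (.node (.leaf (0, 0)) (.leaf (13, 1796))))) (.node (.node (.node (.leaf (0, 0)) (.leaf (13, 238))) (.node (.leaf (0, 0)) (.leaf (13, 1790)))) (.node (.node (.leaf (13, 388)) (.leaf (0, 0))) (.node (.leaf (0, 900)) (.leaf (13, 841)))))) (.node (.node (.node (.node (.leaf (0, 0)) (.leaf (13, 1092))) (.node (.leaf (0, 0)) (.leaf (0, 1604)))) (.node (.node (.leaf (0, 0)) (.leaf (12, 220))) (.node (.leaf (0, 0)) (.leaf (12, 1329))))) (.node (.node (.node (.leaf (0, 0)) (.leaf (13, 365))) (.node (.leaf (13, 427)) (.leaf (13, 1332)))) (.node (.node (.leaf (0, 0)) (.leaf (13, 1476))) (.leaf (0, 0)))))) (.node (.node (.node (.node (.node (.leaf (0, 36)) (.leaf (0, 0))) (.node (.leaf (0, 0)) (.leaf (13, 880)))) (.node (.node (.leaf (0, 0)) (.leaf (13, 1442))) (.node (.leaf (0, 0)) (.leaf (13, 1486))))) (.node (.node (.node (.leaf (0, 0)) (.leaf (0, 0))) (.node (.leaf (0, 0)) (.leaf (0, 1700)))) (.node (.node (.leaf (0, 0)) (.leaf (0, 1444))) (.leaf (0, 0)))))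 (.node (.node (.node (.node (.leaf (0, 0)) (.leaf (0, 0))) (.node (.leaf (0, 0)) (.leaf (10, 974)))) (.node (.node (.leaf (13, 555)) (.leaf (13, 1622))) (.node (.leaf (6, 1653)) (.leaf (3, 1781))))) (.node (.node (.node (.leaf (0, 0)) (.leaf (13, 685))) (.node (.leaf (13, 1394)) (.leaf (0, 1764)))) (.node (.node (.leaf (0, 0)) (.leaf (0, 0))) (.leaf (13, 984))))))) (.node (.node (.node (.node (.node (.node (.leaf (0, 0)) (.leaf (0, 1044))) (.node (.leaf (4, 532)) (.leaf (0, 0)))) (.node (.node (.leaf (0, 0)) (.leaf (2, 1417))) (.node (.leaf (0, 0)) (.leaf (13, 1168))))) (.node (.node (.node (.leaf (0, 0)) (.leaf (0, 0))) (.node (.leaf (0, 0)) (.leaf (12, 112)))) (.node (.node (.leaf (0, 0)) (.leaf (13, 1605))) (.node (.leaf (0, 0)) (.leaf (0, 1940)))))) (.node (.node (.node (.node (.leaf (0, 0)) (.leaf (13, 375))) (.node (.leaf (0, 0)) (.leaf (0, 1620)))) (.node (.node (.leaf (11, 384)) (.leaf (0, 0))) (.node (.leaf (13, 1371)) (.leaf (13, 485))))) (.node (.node (.node (.leaf (0, 0)) (.leaf (0, 0))) (.node (.leaf (0, 0)) (.leaf (0, 1748))))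 (.node (.node (.leaf (0, 468)) (.leaf (13, 1559))) (.leaf (13, 470)))))) (.node (.node (.node (.node (.node (.leaf (2, 6)) (.leaf (0, 0))) (.node (.leaf (6, 322)) (.leaf (13, 1138)))) (.node (.node (.leaf (0, 0)) (.leaf (0, 0))) (.node (.leaf (13, 820)) (.leaf (6, 1770))))) (.node (.node (.node (.leaf (0, 0)) (.leaf (12, 1573))) (.node (.leaf (0, 0)) (.leaf (6, 1716)))) (.node (.node (.leaf (0, 0)) (.leaf (0, 0))) (.leaf (0, 0))))) (.node (.node (.node (.node (.leaf (0, 0)) (.leaf (0, 0))) (.node (.leaf (0, 0)) (.leaf (12, 1701)))) (.node (.node (.leaf (0, 0)) (.leaf (10, 1839))) (.node (.leaf (0, 0)) (.leaf (13, 1478))))) (.node (.node (.node (.leaf (0, 0)) (.leaf (0, 0))) (.node (.leaf (0, 0)) (.leaf (12, 1752)))) (.node (.node (.leaf (0, 0)) (.leaf (0, 0))) (.leaf (0, 1012)))))))) (.node (.node (.node (.node (.node (.node (.node (.leaf (0, 0)) (.leaf (13, 785))) (.node (.leaf (0, 0)) (.leaf (12, 1548)))) (.node (.node (.leaf (0, 0)) (.leaf (13, 1555))) (.node (.leaf (0, 0)) (.leaf (13, 1804))))) (.node (.node (.node (.leaf (0, 0))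 (.leaf (7, 604))) (.node (.leaf (0, 0)) (.leaf (0, 0)))) (.node (.node (.leaf (0, 0)) (.leaf (0, 1420))) (.node (.leaf (0, 0)) (.leaf (13, 1071)))))) (.node (.node (.node (.node (.leaf (0, 0)) (.leaf (0, 0))) (.node (.leaf (0, 0)) (.leaf (2, 430)))) (.node (.node (.leaf (0, 0)) (.leaf (5, 304))) (.node (.leaf (13, 1812)) (.leaf (11, 711))))) (.node (.node (.node (.leaf (0, 0)) (.leaf (0, 1228))) (.node (.leaf (0, 716)) (.leaf (13, 1062)))) (.node (.node (.leaf (13, 268)) (.leaf (6, 1268))) (.leaf (0, 972)))))) (.node (.node (.node (.node (.node (.leaf (0, 0)) (.leaf (0, 1068))) (.node (.leaf (0, 0)) (.leaf (0, 0)))) (.node (.node (.leaf (0, 0)) (.leaf (13, 291))) (.node (.leaf (0, 812)) (.leaf (4, 85))))) (.node (.node (.node (.leaf (0, 0)) (.leaf (0, 1196))) (.node (.leaf (0, 0)) (.leaf (13, 1925)))) (.node (.node (.leaf (0, 0)) (.leaf (2, 359))) (.leaf (10, 1615))))) (.node (.node (.node (.node (.leaf (0, 0)) (.leaf (0, 0))) (.node (.leaf (0, 0)) (.leaf (13, 1207)))) (.node (.node (.leaf (0, 0)) (.leaf (0, 1388))) (.node (.leaf (13,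 1154)) (.leaf (4, 1242))))) (.node (.node (.node (.leaf (0, 0)) (.leaf (0, 0))) (.node (.leaf (0, 0)) (.leaf (0, 1772)))) (.node (.node (.leaf (0, 0)) (.leaf (13, 1464))) (.leaf (4, 1289))))))) (.node (.node (.node (.node (.node (.node (.leaf (0, 0)) (.leaf (12, 1052))) (.node (.leaf (0, 0)) (.leaf (13, 349)))) (.node (.node (.leaf (0, 284)) (.leaf (0, 0))) (.node (.leaf (0, 0)) (.leaf (13, 1608))))) (.node (.node (.node (.leaf (0, 156)) (.leaf (0, 1180))) (.node (.leaf (0, 0)) (.leaf (0, 0)))) (.node (.node (.leaf (0, 0)) (.leaf (13, 1436))) (.node (.leaf (0, 0)) (.leaf (8, 505)))))) (.node (.node (.node (.node (.leaf (0, 92)) (.leaf (0, 0))) (.node (.leaf (0, 604)) (.leaf (13, 1176)))) (.node (.node (.leaf (0, 0)) (.leaf (9, 548))) (.node (.leaf (12, 858)) (.leaf (3, 915))))) (.node (.node (.node (.leaf (5, 117)) (.leaf (0, 0))) (.node (.leaf (0, 0)) (.leaf (2, 1756)))) (.node (.node (.leaf (0, 0)) (.leaf (13, 1304))) (.leaf (13, 1163)))))) (.node (.node (.node (.node (.node (.leaf (0, 0)) (.leaf (0, 0))) (.node (.leaf (0, 0)) (.leaf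 (13, 1756)))) (.node (.node (.leaf (0, 0)) (.leaf (0, 0))) (.node (.leaf (0, 0)) (.leaf (13, 1852))))) (.node (.node (.node (.leaf (0, 0)) (.leaf (11, 1212))) (.node (.leaf (0, 0)) (.leaf (10, 989)))) (.node (.node (.leaf (0, 0)) (.leaf (13, 1467))) (.leaf (13, 892))))) (.node (.node (.node (.node (.leaf (0, 0)) (.leaf (0, 0))) (.node (.leaf (0, 0)) (.leaf (13, 828)))) (.node (.node (.leaf (0, 0)) (.leaf (2, 48))) (.node (.leaf (13, 1528)) (.leaf (13, 1916))))) (.node (.node (.node (.leaf (0, 0)) (.leaf (11, 812))) (.node (.leaf (0, 0)) (.leaf (12, 1490)))) (.node (.node (.leaf (0, 0)) (.leaf (0, 1532))) (.leaf (0, 0))))))))))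

def threeVia1 : Janko.Tree (ℕ × ℕ) :=
  (.node (.node (.node (.node (.node (.node (.node (.node (.node (.leaf (0, 0)) (.leaf (12, 1487))) (.node (.leaf (10, 1083)) (.leaf (11, 774)))) (.node (.node (.leaf (0, 0)) (.leaf (10, 427))) (.node (.leaf (13, 1650)) (.leaf (10, 883))))) (.node (.node (.node (.leaf (0, 0)) (.leaf (0, 0))) (.node (.leaf (0, 0)) (.leaf (12, 224)))) (.node (.node (.leaf (0, 0)) (.leaf (13, 1687))) (.node (.leaf (0, 0)) (.leaf (13, 794)))))) (.node (.node (.node (.node (.leaf (0, 0)) (.leaf (13, 251))) (.node (.leaf (13, 1896)) (.leaf (13, 126)))) (.node (.node (.leaf (0, 0)) (.leaf (13, 357))) (.node (.leaf (0, 0)) (.leaf (11, 1204))))) (.node (.node (.node (.leaf (0, 0)) (.leaf (7, 468))) (.node (.leaf (0, 0)) (.leaf (11, 1910)))) (.node (.node (.leaf (12, 1449)) (.leaf (0, 0))) (.leaf (0, 0)))))) (.node (.node (.node (.node (.node (.leaf (0, 0)) (.leaf (0, 0))) (.node (.leaf (0, 0)) (.leaf (13, 53)))) (.node (.node (.leaf (0, 0)) (.leaf (0, 0))) (.node (.leaf (0, 0)) (.leaf (9, 860))))) (.node (.node (.node (.leaf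 (0, 0)) (.leaf (5, 160))) (.node (.leaf (0, 0)) (.leaf (0, 0)))) (.node (.node (.leaf (0, 0)) (.leaf (0, 0))) (.leaf (0, 0))))) (.node (.node (.node (.node (.leaf (0, 0)) (.leaf (0, 0))) (.node (.leaf (0, 0)) (.leaf (10, 34)))) (.node (.node (.leaf (12, 831)) (.leaf (0, 0))) (.node (.leaf (0, 0)) (.leaf (13, 847))))) (.node (.node (.node (.leaf (0, 0)) (.leaf (0, 0))) (.node (.leaf (0, 0)) (.leaf (13, 657)))) (.node (.node (.leaf (0, 0)) (.leaf (13, 1238))) (.leaf (0, 0))))))) (.node (.node (.node (.node (.node (.node (.leaf (0, 0)) (.leaf (0, 0))) (.node (.leaf (0, 0)) (.leaf (11, 316)))) (.node (.node (.leaf (0, 0)) (.leaf (13, 1697))) (.node (.leaf (13, 1224)) (.leaf (0, 0))))) (.node (.node (.node (.leaf (0, 0)) (.leaf (0, 0))) (.node (.leaf (0, 0)) (.leaf (13, 163)))) (.node (.node (.leaf (13, 160)) (.leaf (6, 338))) (.node (.leaf (13, 2)) (.leaf (13, 1835)))))) (.node (.node (.node (.node (.leaf (0, 0)) (.leaf (9, 1766))) (.node (.leaf (0, 0)) (.leaf (12, 29)))) (.node (.node (.leaf (0, 0)) (.leaf (0, 0))) (.node (.leaf (11, 847))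 (.leaf (13, 1324))))) (.node (.node (.node (.leaf (0, 0)) (.leaf (0, 0))) (.node (.leaf (0, 0)) (.leaf (0, 0)))) (.node (.node (.leaf (0, 0)) (.leaf (0, 0))) (.leaf (0, 0)))))) (.node (.node (.node (.node (.node (.leaf (0, 0)) (.leaf (0, 0))) (.node (.leaf (11, 1284)) (.leaf (0, 0)))) (.node (.node (.leaf (0, 0)) (.leaf (0, 0))) (.node (.leaf (0, 0)) (.leaf (13, 1350))))) (.node (.node (.node (.leaf (0, 0)) (.leaf (0, 0))) (.node (.leaf (0, 0)) (.leaf (12, 493)))) (.node (.node (.leaf (0, 0)) (.leaf (13, 1417))) (.leaf (13, 1928))))) (.node (.node (.node (.node (.leaf (0, 0)) (.leaf (0, 0))) (.node (.leaf (2, 404)) (.leaf (13, 1932)))) (.node (.node (.leaf (0, 0)) (.leaf (13, 285))) (.node (.leaf (12, 1001)) (.leaf (13, 665))))) (.node (.node (.node (.leaf (0, 0)) (.leaf (2, 478))) (.node (.leaf (0, 0)) (.leaf (13, 1487)))) (.node (.node (.leaf (0, 0)) (.leaf (13, 1783))) (.leaf (13, 554)))))))) (.node (.node (.node (.node (.node (.node (.node (.leaf (0, 0)) (.leaf (0, 0))) (.node (.leaf (1, 935)) (.leaf (13, 1825)))) (.node (.node (.leaf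 (13, 796)) (.leaf (10, 386))) (.node (.leaf (0, 0)) (.leaf (13, 1540))))) (.node (.node (.node (.leaf (13, 1058)) (.leaf (13, 766))) (.node (.leaf (0, 0)) (.leaf (13, 1841)))) (.node (.node (.leaf (0, 0)) (.leaf (0, 0))) (.node (.leaf (0, 0)) (.leaf (1, 1928)))))) (.node (.node (.node (.node (.leaf (0, 0)) (.leaf (0, 0))) (.node (.leaf (0, 0)) (.leaf (12, 35)))) (.node (.node (.leaf (0, 0)) (.leaf (13, 338))) (.node (.leaf (7, 500)) (.leaf (13, 1184))))) (.node (.node (.node (.leaf (0, 0)) (.leaf (0, 0))) (.node (.leaf (0, 0)) (.leaf (12, 161)))) (.node (.node (.leaf (0, 0)) (.leaf (13, 1603))) (.leaf (12, 566)))))) (.node (.node (.node (.node (.node (.leaf (0, 0)) (.leaf (0, 0))) (.node (.leaf (0, 0)) (.leaf (13, 339)))) (.node (.node (.leaf (0, 0)) (.leaf (13, 310))) (.node (.leaf (0, 0)) (.leaf (13, 456))))) (.node (.node (.node (.leaf (0, 0)) (.leaf (11, 1577))) (.node (.leaf (13, 1648)) (.leaf (1, 1704)))) (.node (.node (.leaf (0, 0)) (.leaf (11, 358))) (.leaf (0, 0))))) (.node (.node (.node (.node (.leaf (0, 0)) (.leaf (2, 1126)))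 (.node (.leaf (12, 547)) (.leaf (11, 39)))) (.node (.node (.leaf (0, 0)) (.leaf (11, 1511))) (.node (.leaf (0, 0)) (.leaf (0, 0))))) (.node (.node (.node (.leaf (0, 0)) (.leaf (3, 310))) (.node (.leaf (0, 0)) (.leaf (9, 1097)))) (.node (.node (.leaf (13, 74)) (.leaf (0, 0))) (.leaf (10, 263))))))) (.node (.node (.node (.node (.node (.node (.leaf (0, 0)) (.leaf (0, 0))) (.node (.leaf (0, 0)) (.leaf (13, 516)))) (.node (.node (.leaf (3, 1091)) (.leaf (11, 1250))) (.node (.leaf (0, 0)) (.leaf (13, 1922))))) (.node (.node (.node (.leaf (0, 0)) (.leaf (11, 965))) (.node (.leaf (0, 0)) (.leaf (0, 0)))) (.node (.node (.leaf (0, 0)) (.leaf (1, 1432))) (.node (.leaf (0, 0)) (.leaf (0, 0)))))) (.node (.node (.node (.node (.leaf (0, 0)) (.leaf (0, 0))) (.node (.leaf (12, 242)) (.leaf (11, 1731)))) (.node (.node (.leaf (0, 0)) (.leaf (11, 791))) (.node (.leaf (5, 135)) (.leaf (9, 663))))) (.node (.node (.node (.leaf (0, 0)) (.leaf (1, 1240))) (.node (.leaf (8, 749)) (.leaf (13, 500)))) (.node (.node (.leaf (0, 0)) (.leaf (0, 0))) (.leaf (13, 1251))))))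 (.node (.node (.node (.node (.node (.leaf (0, 0)) (.leaf (13, 848))) (.node (.leaf (13, 1390)) (.leaf (12, 995)))) (.node (.node (.leaf (0, 0)) (.leaf (0, 0))) (.node (.leaf (0, 0)) (.leaf (13, 1665))))) (.node (.node (.node (.leaf (0, 0)) (.leaf (10, 729))) (.node (.leaf (0, 0)) (.leaf (12, 41)))) (.node (.node (.leaf (0, 0)) (.leaf (13, 560))) (.leaf (13, 1686))))) (.node (.node (.node (.node (.leaf (0, 0)) (.leaf (0, 0))) (.node (.leaf (13, 203)) (.leaf (11, 1364)))) (.node (.node (.leaf (0, 0)) (.leaf (2, 568))) (.node (.leaf (0, 0)) (.leaf (13, 1833))))) (.node (.node (.node (.leaf (0, 0)) (.leaf (9, 268))) (.node (.leaf (0, 0)) (.leaf (13, 1874)))) (.node (.node (.leaf (13, 149)) (.leaf (8, 1752))) (.leaf (13, 1167))))))))) (.node (.node (.node (.node (.node (.node (.node (.node (.leaf (0, 0)) (.leaf (0, 0))) (.node (.leaf (0, 0)) (.leaf (12, 32)))) (.node (.node (.leaf (0, 0)) (.leaf (0, 0))) (.node (.leaf (0, 0)) (.leaf (13, 1535))))) (.node (.node (.node (.leaf (0, 0)) (.leaf (0, 0))) (.node (.leaf (11, 605)) (.leaf (13, 781))))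 (.node (.node (.leaf (0, 0)) (.leaf (13, 922))) (.node (.leaf (11, 166)) (.leaf (11, 1926)))))) (.node (.node (.node (.node (.leaf (0, 0)) (.leaf (0, 0))) (.node (.leaf (0, 0)) (.leaf (13, 1693)))) (.node (.node (.leaf (0, 0)) (.leaf (13, 220))) (.node (.leaf (1, 836)) (.leaf (13, 89))))) (.node (.node (.node (.leaf (0, 0)) (.leaf (13, 790))) (.node (.leaf (0, 0)) (.leaf (13, 1199)))) (.node (.node (.leaf (9, 1254)) (.leaf (13, 1727))) (.leaf (13, 468)))))) (.node (.node (.node (.node (.node (.leaf (0, 0)) (.leaf (0, 0))) (.node (.leaf (0, 0)) (.leaf (12, 1575)))) (.node (.node (.leaf (0, 0)) (.leaf (11, 600))) (.node (.leaf (0, 0)) (.leaf (12, 1344))))) (.node (.node (.node (.leaf (0, 0)) (.leaf (13, 1889))) (.node (.leaf (0, 0)) (.leaf (3, 749)))) (.node (.node (.leaf (10, 16)) (.leaf (11, 690))) (.leaf (4, 93))))) (.node (.node (.node (.node (.leaf (0, 0)) (.leaf (13, 1677))) (.node (.leaf (10, 1724)) (.leaf (13, 1618)))) (.node (.node (.leaf (0, 0)) (.leaf (12, 1805))) (.node (.leaf (13, 40)) (.leaf (13, 1088))))) (.node (.node (.node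 (.leaf (0, 0)) (.leaf (10, 1268))) (.node (.leaf (0, 0)) (.leaf (13, 1931)))) (.node (.node (.leaf (0, 0)) (.leaf (13, 1384))) (.leaf (1, 1426))))))) (.node (.node (.node (.node (.node (.node (.leaf (0, 0)) (.leaf (13, 1530))) (.node (.leaf (0, 0)) (.leaf (13, 779)))) (.node (.node (.leaf (0, 0)) (.leaf (13, 1684))) (.node (.leaf (0, 0)) (.leaf (6, 915))))) (.node (.node (.node (.leaf (0, 0)) (.leaf (13, 1630))) (.node (.leaf (0, 0)) (.leaf (4, 250)))) (.node (.node (.leaf (0, 0)) (.leaf (13, 511))) (.node (.leaf (0, 0)) (.leaf (13, 1705)))))) (.node (.node (.node (.node (.leaf (0, 0)) (.leaf (0, 0))) (.node (.leaf (9, 1349)) (.leaf (12, 1911)))) (.node (.node (.leaf (0, 0)) (.leaf (0, 0))) (.node (.leaf (0, 0)) (.leaf (12, 710))))) (.node (.node (.node (.leaf (0, 0)) (.leaf (13, 445))) (.node (.leaf (13, 1598)) (.leaf (13, 1904)))) (.node (.node (.leaf (0, 0)) (.leaf (0, 0))) (.leaf (13, 36)))))) (.node (.node (.node (.node (.node (.leaf (0, 0)) (.leaf (13, 1929))) (.node (.leaf (0, 0)) (.leaf (0, 0)))) (.node (.node (.leaf (9, 575))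 (.leaf (13, 1877))) (.node (.leaf (0, 0)) (.leaf (0, 0))))) (.node (.node (.node (.leaf (0, 0)) (.leaf (13, 124))) (.node (.leaf (0, 0)) (.leaf (1, 1716)))) (.node (.node (.leaf (0, 0)) (.leaf (13, 1080))) (.leaf (0, 0))))) (.node (.node (.node (.node (.leaf (0, 0)) (.leaf (11, 1862))) (.node (.leaf (0, 0)) (.leaf (12, 1381)))) (.node (.node (.leaf (0, 0)) (.leaf (12, 262))) (.node (.leaf (10, 873)) (.leaf (3, 267))))) (.node (.node (.node (.leaf (0, 0)) (.leaf (0, 0))) (.node (.leaf (9, 1527)) (.leaf (12, 1678)))) (.node (.node (.leaf (0, 0)) (.leaf (0, 0))) (.leaf (0, 0)))))))) (.node (.node (.node (.node (.node (.node (.node (.leaf (0, 0)) (.leaf (13, 380))) (.node (.leaf (0, 0)) (.leaf (2, 245)))) (.node (.node (.leaf (0, 0)) (.leaf (12, 804))) (.node (.leaf (0, 0)) (.leaf (10, 854))))) (.node (.node (.node (.leaf (0, 0)) (.leaf (4, 884))) (.node (.leaf (0, 0)) (.leaf (12, 294)))) (.node (.node (.leaf (0, 0)) (.leaf (0, 0))) (.node (.leaf (5, 1254)) (.leaf (13, 1651)))))) (.node (.node (.node (.node (.leaf (0, 0)) (.leaf (13, 10)))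 (.node (.leaf (0, 0)) (.leaf (13, 888)))) (.node (.node (.leaf (0, 0)) (.leaf (0, 0))) (.node (.leaf (10, 1784)) (.leaf (9, 1808))))) (.node (.node (.node (.leaf (0, 0)) (.leaf (11, 256))) (.node (.leaf (0, 0)) (.leaf (13, 1913)))) (.node (.node (.leaf (0, 0)) (.leaf (0, 0))) (.leaf (12, 1739)))))) (.node (.node (.node (.node (.node (.leaf (0, 0)) (.leaf (0, 0))) (.node (.leaf (0, 0)) (.leaf (10, 1865)))) (.node (.node (.leaf (0, 0)) (.leaf (12, 703))) (.node (.leaf (0, 0)) (.leaf (2, 400))))) (.node (.node (.node (.leaf (4, 171)) (.leaf (13, 307))) (.node (.leaf (5, 40)) (.leaf (10, 1761)))) (.node (.node (.leaf (0, 0)) (.leaf (13, 1607))) (.leaf (0, 0))))) (.node (.node (.node (.node (.leaf (0, 0)) (.leaf (0, 0))) (.node (.leaf (0, 0)) (.leaf (13, 1857)))) (.node (.node (.leaf (2, 198)) (.leaf (13, 1198))) (.node (.leaf (11, 171)) (.leaf (13, 1421))))) (.node (.node (.node (.leaf (0, 0)) (.leaf (12, 322))) (.node (.leaf (13, 241)) (.leaf (13, 290)))) (.node (.node (.leaf (0, 0)) (.leaf (0, 0))) (.leaf (13, 82))))))) (.node (.node (.node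 (.node (.node (.node (.leaf (0, 0)) (.leaf (0, 0))) (.node (.leaf (0, 0)) (.leaf (11, 1145)))) (.node (.node (.leaf (13, 194)) (.leaf (11, 512))) (.node (.leaf (2, 264)) (.leaf (13, 687))))) (.node (.node (.node (.leaf (0, 0)) (.leaf (0, 0))) (.node (.leaf (0, 0)) (.leaf (13, 837)))) (.node (.node (.leaf (0, 0)) (.leaf (12, 1200))) (.node (.leaf (0, 0)) (.leaf (9, 24)))))) (.node (.node (.node (.node (.leaf (0, 0)) (.leaf (13, 859))) (.node (.leaf (0, 0)) (.leaf (13, 1915)))) (.node (.node (.leaf (0, 0)) (.leaf (6, 1744))) (.node (.leaf (0, 0)) (.leaf (0, 0))))) (.node (.node (.node (.leaf (0, 0)) (.leaf (0, 0))) (.node (.leaf (12, 89)) (.leaf (13, 43)))) (.node (.node (.leaf (0, 0)) (.leaf (0, 0))) (.leaf (0, 0)))))) (.node (.node (.node (.node (.node (.leaf (0, 0)) (.leaf (11, 260))) (.node (.leaf (0, 0)) (.leaf (10, 136)))) (.node (.node (.leaf (13, 102)) (.leaf (13, 1378))) (.node (.leaf (0, 0)) (.leaf (13, 1711))))) (.node (.node (.node (.leaf (0, 0)) (.leaf (13, 815))) (.node (.leaf (0, 0)) (.leaf (3, 607)))) (.node (.node (.leaf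 (0, 0)) (.leaf (13, 1752))) (.leaf (0, 0))))) (.node (.node (.node (.node (.leaf (0, 0)) (.leaf (0, 0))) (.node (.leaf (0, 0)) (.leaf (0, 0)))) (.node (.node (.leaf (0, 0)) (.leaf (0, 0))) (.node (.leaf (0, 0)) (.leaf (13, 596))))) (.node (.node (.node (.leaf (0, 0)) (.leaf (10, 467))) (.node (.leaf (0, 0)) (.leaf (13, 1908)))) (.node (.node (.leaf (0, 0)) (.leaf (13, 686))) (.leaf (13, 56))))))))))

def threeVia2 : Janko.Tree (ℕ × ℕ) :=
  (.node (.node (.node (.node (.node (.node (.node (.node (.node (.leaf (0, 0)) (.leaf (10, 1770))) (.node (.leaf (0, 513)) (.leaf (13, 1799)))) (.node (.node (.leaf (0, 257)) (.leaf (13, 1099))) (.node (.leaf (0, 0)) (.leaf (13, 404))))) (.node (.node (.node (.leaf (0, 129)) (.leaf (0, 0))) (.node (.leaf (0, 641)) (.leaf (11, 1227)))) (.node (.node (.leaf (0, 0)) (.leaf (0, 1409))) (.node (.leaf (0, 0)) (.leaf (13, 1921)))))) (.node (.node (.node (.node (.leaf (0, 0)) (.leaf (0, 1089))) (.node (.leaf (0, 0)) (.leaf (13, 1601)))) (.node (.node (.leaf (0, 0)) (.leaf (13, 1345))) (.node (.leaf (13, 983))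 (.leaf (13, 1670))))) (.node (.node (.node (.leaf (0, 0)) (.leaf (9, 1129))) (.node (.leaf (0, 0)) (.leaf (13, 1612)))) (.node (.node (.leaf (0, 0)) (.leaf (13, 1473))) (.leaf (13, 1702)))))) (.node (.node (.node (.node (.node (.leaf (0, 0)) (.leaf (0, 0))) (.node (.leaf (0, 0)) (.leaf (0, 1569)))) (.node (.node (.leaf (0, 0)) (.leaf (0, 0))) (.node (.leaf (0, 0)) (.leaf (11, 1077))))) (.node (.node (.node (.leaf (0, 0)) (.leaf (13, 1482))) (.node (.leaf (0, 0)) (.leaf (0, 0)))) (.node (.node (.leaf (0, 0)) (.leaf (13, 499))) (.leaf (13, 1720))))) (.node (.node (.node (.node (.leaf (0, 0)) (.leaf (3, 412))) (.node (.leaf (0, 0)) (.leaf (0, 0)))) (.node (.node (.leaf (0, 0)) (.leaf (0, 0))) (.node (.leaf (0, 0)) (.leaf (3, 1889))))) (.node (.node (.node (.leaf (0, 0)) (.leaf (0, 0))) (.node (.leaf (0, 737)) (.leaf (0, 1761)))) (.node (.node (.leaf (0, 0)) (.leaf (0, 0))) (.leaf (2, 27))))))) (.node (.node (.node (.node (.node (.node (.leaf (0, 0)) (.leaf (8, 1835))) (.node (.leaf (0, 0)) (.leaf (13, 1551)))) (.node (.node (.leaf (2, 39))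 (.leaf (0, 0))) (.node (.leaf (0, 0)) (.leaf (12, 1684))))) (.node (.node (.node (.leaf (0, 0)) (.leaf (0, 0))) (.node (.leaf (12, 384)) (.leaf (13, 1838)))) (.node (.node (.leaf (0, 0)) (.leaf (13, 1140))) (.node (.leaf (0, 0)) (.leaf (13, 713)))))) (.node (.node (.node (.node (.leaf (0, 0)) (.leaf (0, 0))) (.node (.leaf (13, 175)) (.leaf (11, 873)))) (.node (.node (.leaf (0, 0)) (.leaf (13, 1361))) (.node (.leaf (0, 0)) (.leaf (13, 425))))) (.node (.node (.node (.leaf (4, 13)) (.leaf (13, 865))) (.node (.leaf (0, 0)) (.leaf (13, 1544)))) (.node (.node (.leaf (13, 1143)) (.leaf (13, 1387))) (.leaf (13, 1704)))))) (.node (.node (.node (.node (.node (.leaf (0, 0)) (.leaf (13, 582))) (.node (.leaf (0, 0)) (.leaf (12, 558)))) (.node (.node (.leaf (0, 0)) (.leaf (13, 1328))) (.node (.leaf (12, 486)) (.leaf (13, 1424))))) (.node (.node (.node (.leaf (0, 0)) (.leaf (0, 0))) (.node (.leaf (0, 0)) (.leaf (13, 893)))) (.node (.node (.leaf (0, 0)) (.leaf (12, 845))) (.leaf (0, 0))))) (.node (.node (.node (.node (.leaf (0, 0)) (.leaf (0, 0))) (.node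 (.leaf (13, 738)) (.leaf (12, 157)))) (.node (.node (.leaf (0, 0)) (.leaf (13, 176))) (.node (.leaf (0, 881)) (.leaf (0, 1905))))) (.node (.node (.node (.leaf (0, 0)) (.leaf (13, 1265))) (.node (.leaf (0, 0)) (.leaf (0, 0)))) (.node (.node (.leaf (0, 0)) (.leaf (13, 1807))) (.leaf (13, 1855)))))))) (.node (.node (.node (.node (.node (.node (.node (.leaf (0, 0)) (.leaf (0, 0))) (.node (.leaf (0, 0)) (.leaf (0, 0)))) (.node (.node (.leaf (12, 38)) (.leaf (0, 0))) (.node (.leaf (13, 136)) (.leaf (13, 1629))))) (.node (.node (.node (.leaf (0, 0)) (.leaf (0, 0))) (.node (.leaf (0, 0)) (.leaf (12, 481)))) (.node (.node (.leaf (0, 0)) (.leaf (0, 1750))) (.node (.leaf (13, 1147)) (.leaf (13, 231)))))) (.node (.node (.node (.node (.leaf (0, 0)) (.leaf (11, 1097))) (.node (.leaf (0, 0)) (.leaf (0, 0)))) (.node (.node (.leaf (0, 0)) (.leaf (9, 116))) (.node (.leaf (13, 1619)) (.leaf (0, 1865))))) (.node (.node (.node (.leaf (0, 0)) (.leaf (13, 1266))) (.node (.leaf (13, 710)) (.leaf (0, 0)))) (.node (.node (.leaf (0, 0)) (.leaf (13, 901))) (.leaf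 (3, 589)))))) (.node (.node (.node (.node (.node (.leaf (0, 0)) (.leaf (11, 389))) (.node (.leaf (0, 0)) (.leaf (2, 64)))) (.node (.node (.leaf (0, 297)) (.leaf (8, 1942))) (.node (.leaf (0, 0)) (.leaf (0, 1833))))) (.node (.node (.node (.leaf (5, 1744)) (.leaf (13, 1577))) (.node (.leaf (0, 0)) (.leaf (0, 1705)))) (.node (.node (.leaf (0, 0)) (.leaf (13, 54))) (.leaf (0, 937))))) (.node (.node (.node (.node (.leaf (0, 0)) (.leaf (0, 0))) (.node (.leaf (13, 508)) (.leaf (13, 1640)))) (.node (.node (.leaf (0, 0)) (.leaf (0, 0))) (.node (.leaf (12, 389)) (.leaf (12, 1482))))) (.node (.node (.node (.leaf (0, 0)) (.leaf (0, 0))) (.node (.leaf (4, 1577)) (.leaf (0, 0)))) (.node (.node (.leaf (0, 0)) (.leaf (0, 0))) (.leaf (0, 1001))))))) (.node (.node (.node (.node (.node (.node (.leaf (0, 0)) (.leaf (0, 1049))) (.node (.leaf (0, 749)) (.leaf (13, 1815)))) (.node (.node (.leaf (0, 0)) (.leaf (13, 1910))) (.node (.leaf (0, 0)) (.leaf (13, 1405))))) (.node (.node (.node (.leaf (0, 0)) (.leaf (13, 753))) (.node (.leaf (0, 0)) (.leaf (12, 1257))))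 (.node (.node (.leaf (0, 0)) (.leaf (13, 252))) (.node (.leaf (0, 0)) (.leaf (0, 0)))))) (.node (.node (.node (.node (.leaf (0, 0)) (.leaf (0, 0))) (.node (.leaf (3, 547)) (.leaf (13, 1172)))) (.node (.node (.leaf (0, 0)) (.leaf (0, 0))) (.node (.leaf (0, 0)) (.leaf (13, 1647))))) (.node (.node (.node (.leaf (0, 0)) (.leaf (0, 0))) (.node (.leaf (0, 0)) (.leaf (0, 0)))) (.node (.node (.leaf (0, 0)) (.leaf (0, 0))) (.leaf (0, 0)))))) (.node (.node (.node (.node (.node (.leaf (0, 0)) (.leaf (0, 0))) (.node (.leaf (0, 0)) (.leaf (13, 1593)))) (.node (.node (.leaf (0, 0)) (.leaf (13, 877))) (.node (.leaf (13, 1911)) (.leaf (13, 1283))))) (.node (.node (.node (.leaf (0, 0)) (.leaf (0, 0))) (.node (.leaf (13, 1109)) (.leaf (13, 1721)))) (.node (.node (.leaf (0, 441)) (.leaf (13, 1465))) (.leaf (0, 0))))) (.node (.node (.node (.node (.leaf (0, 0)) (.leaf (13, 1145))) (.node (.leaf (0, 0)) (.leaf (0, 1657)))) (.node (.node (.leaf (11, 1891)) (.leaf (0, 1401))) (.node (.leaf (0, 0)) (.leaf (10, 1270))))) (.node (.node (.node (.leaf (10, 248))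 (.leaf (10, 310))) (.node (.leaf (0, 0)) (.leaf (12, 16)))) (.node (.node (.leaf (2, 283)) (.leaf (0, 0))) (.leaf (0, 1017))))))))) (.node (.node (.node (.node (.node (.node (.node (.node (.leaf (0, 0)) (.leaf (0, 0))) (.node (.leaf (0, 0)) (.leaf (12, 1101)))) (.node (.node (.leaf (0, 0)) (.leaf (0, 0))) (.node (.leaf (0, 0)) (.leaf (13, 1501))))) (.node (.node (.node (.leaf (0, 0)) (.leaf (0, 0))) (.node (.leaf (0, 0)) (.leaf (13, 1474)))) (.node (.node (.leaf (0, 0)) (.leaf (0, 1413))) (.node (.leaf (10, 900)) (.leaf (0, 1925)))))) (.node (.node (.node (.node (.leaf (0, 0)) (.leaf (0, 0))) (.node (.leaf (0, 0)) (.leaf (13, 1548)))) (.node (.node (.leaf (0, 325)) (.leaf (0, 0))) (.node (.leaf (0, 837)) (.leaf (3, 1381))))) (.node (.node (.node (.leaf (0, 0)) (.leaf (13, 1376))) (.node (.leaf (0, 0)) (.leaf (0, 1733)))) (.node (.node (.leaf (0, 0)) (.leaf (10, 1477))) (.leaf (12, 1430)))))) (.node (.node (.node (.node (.node (.leaf (0, 0)) (.leaf (0, 0))) (.node (.leaf (0, 0)) (.leaf (13, 1759)))) (.node (.node (.leaf (0, 0)) (.leaf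 (0, 1317))) (.node (.leaf (0, 0)) (.leaf (13, 449))))) (.node (.node (.node (.leaf (13, 1808)) (.leaf (0, 1189))) (.node (.leaf (0, 0)) (.leaf (12, 1003)))) (.node (.node (.leaf (0, 0)) (.leaf (13, 998))) (.leaf (0, 0))))) (.node (.node (.node (.node (.leaf (0, 0)) (.leaf (0, 0))) (.node (.leaf (0, 613)) (.leaf (0, 1637)))) (.node (.node (.leaf (0, 0)) (.leaf (0, 0))) (.node (.leaf (0, 0)) (.leaf (13, 1673))))) (.node (.node (.node (.leaf (0, 0)) (.leaf (0, 0))) (.node (.leaf (0, 0)) (.leaf (12, 1765)))) (.node (.node (.leaf (0, 0)) (.leaf (13, 1244))) (.leaf (0, 997))))))) (.node (.node (.node (.node (.node (.node (.leaf (0, 0)) (.leaf (13, 1185))) (.node (.leaf (0, 0)) (.leaf (0, 1557)))) (.node (.node (.leaf (0, 0)) (.leaf (12, 1566))) (.node (.leaf (0, 0)) (.leaf (13, 1813))))) (.node (.node (.node (.leaf (0, 0)) (.leaf (0, 1570))) (.node (.leaf (0, 0)) (.leaf (2, 1250)))) (.node (.node (.leaf (0, 0)) (.leaf (13, 1753))) (.node (.leaf (13, 917)) (.leaf (13, 808)))))) (.node (.node (.node (.node (.leaf (0, 0)) (.leaf (0, 0))) (.node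 (.leaf (2, 851)) (.leaf (0, 0)))) (.node (.node (.leaf (0, 0)) (.leaf (0, 1365))) (.node (.leaf (0, 0)) (.leaf (12, 729))))) (.node (.node (.node (.leaf (4, 113)) (.leaf (13, 1235))) (.node (.leaf (0, 0)) (.leaf (13, 1566)))) (.node (.node (.leaf (13, 1067)) (.leaf (0, 1493))) (.leaf (13, 981)))))) (.node (.node (.node (.node (.node (.leaf (0, 0)) (.leaf (0, 0))) (.node (.leaf (13, 894)) (.leaf (13, 868)))) (.node (.node (.leaf (0, 0)) (.leaf (0, 1333))) (.node (.leaf (0, 821)) (.leaf (0, 1845))))) (.node (.node (.node (.leaf (0, 0)) (.leaf (0, 0))) (.node (.leaf (0, 0)) (.leaf (0, 1717)))) (.node (.node (.leaf (0, 0)) (.leaf (13, 1933))) (.leaf (13, 949))))) (.node (.node (.node (.node (.leaf (0, 0)) (.leaf (13, 1591))) (.node (.leaf (0, 0)) (.leaf (5, 790)))) (.node (.node (.leaf (0, 0)) (.leaf (9, 1397))) (.node (.leaf (3, 885)) (.leaf (13, 1757))))) (.node (.node (.node (.leaf (0, 0)) (.leaf (0, 0))) (.node (.leaf (0, 757)) (.leaf (6, 1419)))) (.node (.node (.leaf (13, 281)) (.leaf (13, 1221))) (.leaf (13, 1013)))))))) (.node (.node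 (.node (.node (.node (.node (.node (.leaf (0, 0)) (.leaf (12, 650))) (.node (.leaf (0, 0)) (.leaf (13, 494)))) (.node (.node (.leaf (0, 0)) (.leaf (13, 1899))) (.node (.leaf (0, 0)) (.leaf (9, 1876))))) (.node (.node (.node (.leaf (0, 0)) (.leaf (0, 1689))) (.node (.leaf (0, 0)) (.leaf (0, 0)))) (.node (.node (.leaf (0, 0)) (.leaf (0, 0))) (.node (.leaf (0, 909)) (.leaf (12, 1905)))))) (.node (.node (.node (.node (.leaf (0, 0)) (.leaf (0, 0))) (.node (.leaf (0, 0)) (.leaf (13, 1480)))) (.node (.node (.leaf (0, 0)) (.leaf (13, 896))) (.node (.leaf (4, 363)) (.leaf (13, 1869))))) (.node (.node (.node (.leaf (0, 0)) (.leaf (11, 271))) (.node (.leaf (13, 716)) (.leaf (0, 1741)))) (.node (.node (.leaf (0, 0)) (.leaf (9, 1485))) (.leaf (0, 0)))))) (.node (.node (.node (.node (.node (.leaf (0, 0)) (.leaf (13, 1068))) (.node (.leaf (0, 0)) (.leaf (0, 0)))) (.node (.node (.leaf (0, 0)) (.leaf (0, 1325))) (.node (.leaf (13, 507)) (.leaf (4, 42))))) (.node (.node (.node (.leaf (0, 0)) (.leaf (2, 247))) (.node (.leaf (0, 0)) (.leaf (13, 1709))))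 (.node (.node (.leaf (0, 0)) (.leaf (5, 1453))) (.leaf (0, 0))))) (.node (.node (.node (.node (.leaf (0, 0)) (.leaf (0, 0))) (.node (.leaf (11, 198)) (.leaf (0, 1645)))) (.node (.node (.leaf (0, 0)) (.leaf (10, 1389))) (.node (.leaf (0, 0)) (.leaf (0, 1901))))) (.node (.node (.node (.leaf (0, 0)) (.leaf (0, 0))) (.node (.leaf (2, 440)) (.leaf (13, 1773)))) (.node (.node (.leaf (0, 493)) (.leaf (0, 0))) (.leaf (0, 0))))))) (.node (.node (.node (.node (.node (.node (.leaf (0, 0)) (.leaf (4, 762))) (.node (.leaf (0, 0)) (.leaf (0, 0)))) (.node (.node (.leaf (0, 0)) (.leaf (13, 939))) (.node (.leaf (11, 797)) (.leaf (0, 1821))))) (.node (.node (.node (.leaf (6, 156)) (.leaf (11, 1181))) (.node (.leaf (13, 73)) (.leaf (12, 480)))) (.node (.node (.leaf (13, 1133)) (.leaf (0, 1437))) (.node (.leaf (0, 0)) (.leaf (10, 13)))))) (.node (.node (.node (.node (.leaf (0, 0)) (.leaf (0, 0))) (.node (.leaf (4, 605)) (.leaf (0, 0)))) (.node (.node (.leaf (0, 0)) (.leaf (0, 0))) (.node (.leaf (13, 1124)) (.leaf (13, 1885))))) (.node (.node (.node (.leaf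 (0, 0)) (.leaf (13, 791))) (.node (.leaf (0, 0)) (.leaf (13, 1377)))) (.node (.node (.leaf (0, 0)) (.leaf (0, 0))) (.leaf (13, 770)))))) (.node (.node (.node (.node (.node (.leaf (0, 0)) (.leaf (0, 0))) (.node (.leaf (13, 280)) (.leaf (13, 1766)))) (.node (.node (.leaf (11, 173)) (.leaf (5, 1835))) (.node (.leaf (0, 0)) (.leaf (0, 1853))))) (.node (.node (.node (.leaf (0, 0)) (.leaf (12, 1181))) (.node (.leaf (0, 0)) (.leaf (0, 1835)))) (.node (.node (.leaf (0, 0)) (.leaf (0, 0))) (.leaf (13, 793))))) (.node (.node (.node (.node (.leaf (0, 0)) (.leaf (0, 0))) (.node (.leaf (0, 0)) (.leaf (10, 1833)))) (.node (.node (.leaf (0, 0)) (.leaf (0, 0))) (.node (.leaf (0, 0)) (.leaf (13, 1917))))) (.node (.node (.node (.leaf (0, 0)) (.leaf (0, 0))) (.node (.leaf (0, 0)) (.leaf (2, 1440)))) (.node (.node (.leaf (0, 0)) (.leaf (0, 0))) (.leaf (13, 1021))))))))))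

def threeVia3 : Janko.Tree (ℕ × ℕ) :=
  (.node (.node (.node (.node (.node (.node (.node (.node (.node (.leaf (0, 0)) (.leaf (13, 1272))) (.node (.leaf (13, 580)) (.leaf (13, 79)))) (.node (.node (.leaf (0, 0)) (.leaf (11, 1280))) (.node (.leaf (12, 251)) (.leaf (10, 1373))))) (.node (.node (.node (.leaf (0, 0)) (.leaf (12, 1265))) (.node (.leaf (13, 616)) (.leaf (3, 1523)))) (.node (.node (.leaf (0, 0)) (.leaf (13, 572))) (.node (.leaf (13, 1529)) (.leaf (13, 1737)))))) (.node (.node (.node (.node (.leaf (0, 0)) (.leaf (12, 159))) (.node (.leaf (0, 0)) (.leaf (12, 1331)))) (.node (.node (.leaf (0, 0)) (.leaf (2, 884))) (.node (.leaf (0, 0)) (.leaf (13, 1362))))) (.node (.node (.node (.leaf (0, 0)) (.leaf (0, 0))) (.node (.leaf (0, 0)) (.leaf (13, 1194)))) (.node (.node (.leaf (0, 0)) (.leaf (0, 0))) (.leaf (11, 11)))))) (.node (.node (.node (.node (.node (.leaf (0, 0)) (.leaf (13, 1750))) (.node (.leaf (12, 1041)) (.leaf (13, 1830)))) (.node (.node (.leaf (13, 1445)) (.leaf (0, 0))) (.node (.leaf (0, 0)) (.leaf (13, 1694))))) (.node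 (.node (.node (.leaf (0, 0)) (.leaf (0, 0))) (.node (.leaf (13, 1795)) (.leaf (13, 135)))) (.node (.node (.leaf (0, 0)) (.leaf (13, 1781))) (.leaf (0, 0))))) (.node (.node (.node (.node (.leaf (0, 0)) (.leaf (0, 0))) (.node (.leaf (0, 0)) (.leaf (0, 0)))) (.node (.node (.leaf (0, 0)) (.leaf (0, 0))) (.node (.leaf (11, 683)) (.leaf (13, 245))))) (.node (.node (.node (.leaf (0, 0)) (.leaf (13, 1003))) (.node (.leaf (12, 6)) (.leaf (0, 0)))) (.node (.node (.leaf (3, 268)) (.leaf (0, 0))) (.leaf (9, 1422))))))) (.node (.node (.node (.node (.node (.node (.leaf (0, 0)) (.leaf (12, 382))) (.node (.leaf (0, 0)) (.leaf (13, 1560)))) (.node (.node (.leaf (0, 0)) (.leaf (13, 906))) (.node (.leaf (0, 0)) (.leaf (0, 0))))) (.node (.node (.node (.leaf (0, 0)) (.leaf (0, 0))) (.node (.leaf (0, 0)) (.leaf (2, 1244)))) (.node (.node (.leaf (0, 0)) (.leaf (13, 1578))) (.node (.leaf (12, 414)) (.leaf (13, 1768)))))) (.node (.node (.node (.node (.leaf (0, 0)) (.leaf (3, 484))) (.node (.leaf (0, 0)) (.leaf (13, 159)))) (.node (.node (.leaf (0, 0)) (.leaf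 (13, 478))) (.node (.leaf (12, 1527)) (.leaf (10, 267))))) (.node (.node (.node (.leaf (0, 0)) (.leaf (0, 0))) (.node (.leaf (0, 0)) (.leaf (13, 1637)))) (.node (.node (.leaf (0, 0)) (.leaf (0, 0))) (.leaf (3, 1154)))))) (.node (.node (.node (.node (.node (.leaf (0, 0)) (.leaf (0, 0))) (.node (.leaf (0, 0)) (.leaf (12, 1416)))) (.node (.node (.leaf (0, 0)) (.leaf (12, 1336))) (.node (.leaf (0, 0)) (.leaf (12, 61))))) (.node (.node (.node (.leaf (0, 0)) (.leaf (11, 1256))) (.node (.leaf (0, 0)) (.leaf (13, 1893)))) (.node (.node (.leaf (0, 0)) (.leaf (0, 0))) (.leaf (0, 0))))) (.node (.node (.node (.node (.leaf (0, 0)) (.leaf (0, 0))) (.node (.leaf (0, 0)) (.leaf (13, 1682)))) (.node (.node (.leaf (0, 0)) (.leaf (13, 441))) (.node (.leaf (13, 153)) (.leaf (6, 1152))))) (.node (.node (.node (.leaf (0, 0)) (.leaf (13, 1755))) (.node (.leaf (7, 245)) (.leaf (9, 95)))) (.node (.node (.leaf (0, 0)) (.leaf (13, 960))) (.leaf (0, 0)))))))) (.node (.node (.node (.node (.node (.node (.node (.leaf (0, 0)) (.leaf (0, 0))) (.node (.leaf (0, 0)) (.leaf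 (0, 0)))) (.node (.node (.leaf (0, 0)) (.leaf (13, 1141))) (.node (.leaf (0, 0)) (.leaf (11, 825))))) (.node (.node (.node (.leaf (0, 0)) (.leaf (12, 452))) (.node (.leaf (12, 1231)) (.leaf (4, 1896)))) (.node (.node (.leaf (0, 0)) (.leaf (11, 307))) (.node (.leaf (0, 0)) (.leaf (7, 1581)))))) (.node (.node (.node (.node (.leaf (0, 0)) (.leaf (0, 0))) (.node (.leaf (0, 0)) (.leaf (4, 252)))) (.node (.node (.leaf (0, 0)) (.leaf (13, 141))) (.node (.leaf (1, 1725)) (.leaf (12, 1883))))) (.node (.node (.node (.leaf (0, 0)) (.leaf (13, 1652))) (.node (.leaf (0, 0)) (.leaf (13, 1349)))) (.node (.node (.leaf (0, 0)) (.leaf (0, 0))) (.leaf (0, 0)))))) (.node (.node (.node (.node (.node (.leaf (0, 0)) (.leaf (0, 0))) (.node (.leaf (0, 0)) (.leaf (0, 0)))) (.node (.node (.leaf (0, 0)) (.leaf (12, 532))) (.node (.leaf (0, 0)) (.leaf (13, 1522))))) (.node (.node (.node (.leaf (0, 0)) (.leaf (2, 70))) (.node (.leaf (0, 0)) (.leaf (0, 0)))) (.node (.node (.leaf (0, 0)) (.leaf (0, 0))) (.leaf (0, 0))))) (.node (.node (.node (.node (.leaf (0, 0)) (.leaf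 (9, 1212))) (.node (.leaf (0, 0)) (.leaf (13, 1674)))) (.node (.node (.leaf (0, 0)) (.leaf (4, 1384))) (.node (.leaf (13, 1919)) (.leaf (13, 674))))) (.node (.node (.node (.leaf (0, 0)) (.leaf (11, 250))) (.node (.leaf (0, 0)) (.leaf (13, 1537)))) (.node (.node (.leaf (13, 272)) (.leaf (0, 0))) (.leaf (3, 1544))))))) (.node (.node (.node (.node (.node (.node (.leaf (0, 0)) (.leaf (13, 1458))) (.node (.leaf (0, 0)) (.leaf (13, 331)))) (.node (.node (.leaf (0, 0)) (.leaf (4, 150))) (.node (.leaf (0, 0)) (.leaf (13, 1511))))) (.node (.node (.node (.leaf (0, 0)) (.leaf (0, 0))) (.node (.leaf (0, 0)) (.leaf (13, 690)))) (.node (.node (.leaf (0, 0)) (.leaf (12, 1519))) (.node (.leaf (13, 353)) (.leaf (3, 27)))))) (.node (.node (.node (.node (.leaf (0, 0)) (.leaf (13, 974))) (.node (.leaf (0, 0)) (.leaf (13, 862)))) (.node (.node (.leaf (0, 0)) (.leaf (12, 1583))) (.node (.leaf (0, 0)) (.leaf (5, 831))))) (.node (.node (.node (.leaf (0, 0)) (.leaf (13, 667))) (.node (.leaf (0, 0)) (.leaf (13, 920)))) (.node (.node (.leaf (0, 0)) (.leaf (13,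 35))) (.leaf (0, 0)))))) (.node (.node (.node (.node (.node (.leaf (0, 0)) (.leaf (13, 833))) (.node (.leaf (0, 0)) (.leaf (13, 286)))) (.node (.node (.leaf (0, 0)) (.leaf (13, 529))) (.node (.leaf (12, 315)) (.leaf (12, 1252))))) (.node (.node (.node (.leaf (0, 0)) (.leaf (0, 0))) (.node (.leaf (13, 166)) (.leaf (10, 1884)))) (.node (.node (.leaf (13, 1820)) (.leaf (13, 863))) (.leaf (13, 1595))))) (.node (.node (.node (.node (.leaf (13, 97)) (.leaf (0, 0))) (.node (.leaf (13, 1589)) (.leaf (9, 538)))) (.node (.node (.leaf (0, 0)) (.leaf (12, 959))) (.node (.leaf (13, 193)) (.leaf (12, 1696))))) (.node (.node (.node (.leaf (0, 0)) (.leaf (0, 0))) (.node (.leaf (2, 445)) (.leaf (10, 885)))) (.node (.node (.leaf (0, 0)) (.leaf (0, 0))) (.leaf (0, 0))))))))) (.node (.node (.node (.node (.node (.node (.node (.node (.leaf (0, 0)) (.leaf (13, 463))) (.node (.leaf (11, 516)) (.leaf (0, 0)))) (.node (.node (.leaf (0, 0)) (.leaf (0, 0))) (.node (.leaf (0, 0)) (.leaf (9, 883))))) (.node (.node (.node (.leaf (0, 0)) (.leaf (6, 922))) (.node (.leaf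 (0, 0)) (.leaf (0, 0)))) (.node (.node (.leaf (10, 15)) (.leaf (13, 1806))) (.node (.leaf (0, 0)) (.leaf (13, 1137)))))) (.node (.node (.node (.node (.leaf (0, 0)) (.leaf (13, 437))) (.node (.leaf (13, 1675)) (.leaf (10, 1696)))) (.node (.node (.leaf (8, 1821)) (.leaf (0, 0))) (.node (.leaf (0, 0)) (.leaf (13, 1575))))) (.node (.node (.node (.leaf (0, 0)) (.leaf (0, 0))) (.node (.leaf (0, 0)) (.leaf (13, 1357)))) (.node (.node (.leaf (0, 0)) (.leaf (0, 0))) (.leaf (13, 1490)))))) (.node (.node (.node (.node (.node (.leaf (0, 0)) (.leaf (0, 0))) (.node (.leaf (0, 0)) (.leaf (0, 0)))) (.node (.node (.leaf (0, 0)) (.leaf (3, 831))) (.node (.leaf (0, 0)) (.leaf (13, 1078))))) (.node (.node (.node (.leaf (0, 0)) (.leaf (12, 1259))) (.node (.leaf (0, 0)) (.leaf (13, 1277)))) (.node (.node (.leaf (13, 1365)) (.leaf (11, 194))) (.leaf (7, 1320))))) (.node (.node (.node (.node (.leaf (0, 0)) (.leaf (0, 0))) (.node (.leaf (11, 338)) (.leaf (13, 1858)))) (.node (.node (.leaf (6, 426)) (.leaf (11, 1453))) (.node (.leaf (13, 1873)) (.leaf (13, 1762)))))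 (.node (.node (.node (.leaf (13, 144)) (.leaf (13, 1426))) (.node (.leaf (13, 589)) (.leaf (12, 424)))) (.node (.node (.leaf (13, 561)) (.leaf (13, 881))) (.leaf (13, 1440))))))) (.node (.node (.node (.node (.node (.node (.leaf (0, 0)) (.leaf (0, 0))) (.node (.leaf (0, 0)) (.leaf (13, 1368)))) (.node (.node (.leaf (13, 1534)) (.leaf (0, 0))) (.node (.leaf (10, 138)) (.leaf (13, 950))))) (.node (.node (.node (.leaf (0, 0)) (.leaf (0, 0))) (.node (.leaf (0, 0)) (.leaf (7, 563)))) (.node (.node (.leaf (0, 0)) (.leaf (10, 453))) (.node (.leaf (0, 0)) (.leaf (13, 1935)))))) (.node (.node (.node (.node (.leaf (0, 0)) (.leaf (0, 0))) (.node (.leaf (0, 0)) (.leaf (5, 1738)))) (.node (.node (.leaf (0, 0)) (.leaf (6, 768))) (.node (.leaf (0, 0)) (.leaf (13, 1152))))) (.node (.node (.node (.leaf (0, 0)) (.leaf (12, 1916))) (.node (.leaf (0, 0)) (.leaf (11, 1748)))) (.node (.node (.leaf (0, 0)) (.leaf (13, 150))) (.leaf (0, 0)))))) (.node (.node (.node (.node (.node (.leaf (0, 0)) (.leaf (0, 0))) (.node (.leaf (0, 0)) (.leaf (13, 1175)))) (.node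 (.node (.leaf (4, 23)) (.leaf (10, 295))) (.node (.leaf (12, 1239)) (.leaf (12, 1105))))) (.node (.node (.node (.leaf (0, 0)) (.leaf (12, 248))) (.node (.leaf (0, 0)) (.leaf (13, 1541)))) (.node (.node (.leaf (12, 1677)) (.leaf (13, 832))) (.leaf (0, 0))))) (.node (.node (.node (.node (.leaf (0, 0)) (.leaf (0, 0))) (.node (.leaf (0, 0)) (.leaf (12, 771)))) (.node (.node (.leaf (0, 0)) (.leaf (7, 1529))) (.node (.leaf (0, 0)) (.leaf (13, 75))))) (.node (.node (.node (.leaf (0, 0)) (.leaf (5, 1631))) (.node (.leaf (11, 1079)) (.leaf (13, 1791)))) (.node (.node (.leaf (0, 0)) (.leaf (0, 0))) (.leaf (13, 1644)))))))) (.node (.node (.node (.node (.node (.node (.node (.leaf (0, 0)) (.leaf (0, 0))) (.node (.leaf (0, 0)) (.leaf (0, 0)))) (.node (.node (.leaf (0, 0)) (.leaf (0, 0))) (.node (.leaf (0, 0)) (.leaf (1, 1805))))) (.node (.node (.node (.leaf (0, 0)) (.leaf (13, 1463))) (.node (.leaf (0, 0)) (.leaf (0, 0)))) (.node (.node (.leaf (0, 0)) (.leaf (13, 623))) (.node (.leaf (13, 1824)) (.leaf (13, 1358)))))) (.node (.node (.node (.node (.leaf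 (0, 0)) (.leaf (0, 0))) (.node (.leaf (12, 1714)) (.leaf (12, 834)))) (.node (.node (.leaf (12, 1369)) (.leaf (2, 1432))) (.node (.leaf (0, 0)) (.leaf (13, 1628))))) (.node (.node (.node (.leaf (0, 0)) (.leaf (0, 0))) (.node (.leaf (13, 1457)) (.leaf (13, 1373)))) (.node (.node (.leaf (0, 0)) (.leaf (13, 1646))) (.leaf (0, 0)))))) (.node (.node (.node (.node (.node (.leaf (0, 0)) (.leaf (13, 1449))) (.node (.leaf (12, 1383)) (.leaf (13, 910)))) (.node (.node (.leaf (2, 160)) (.leaf (0, 0))) (.node (.leaf (0, 0)) (.leaf (13, 93))))) (.node (.node (.node (.leaf (0, 0)) (.leaf (2, 153))) (.node (.leaf (0, 0)) (.leaf (12, 176)))) (.node (.node (.leaf (0, 0)) (.leaf (13, 664))) (.leaf (13, 1342))))) (.node (.node (.node (.node (.leaf (0, 0)) (.leaf (0, 0))) (.node (.leaf (0, 0)) (.leaf (0, 0)))) (.node (.node (.leaf (0, 0)) (.leaf (13, 693))) (.node (.leaf (8, 1861)) (.leaf (13, 1724))))) (.node (.node (.node (.leaf (0, 0)) (.leaf (13, 1413))) (.node (.leaf (0, 0)) (.leaf (13, 942)))) (.node (.node (.leaf (12, 31)) (.leaf (13, 1671))) (.leaf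 (0, 0))))))) (.node (.node (.node (.node (.node (.node (.leaf (0, 0)) (.leaf (13, 1189))) (.node (.leaf (0, 0)) (.leaf (13, 911)))) (.node (.node (.leaf (0, 0)) (.leaf (0, 0))) (.node (.leaf (0, 0)) (.leaf (0, 0))))) (.node (.node (.node (.leaf (0, 0)) (.leaf (0, 0))) (.node (.leaf (0, 0)) (.leaf (0, 0)))) (.node (.node (.leaf (0, 0)) (.leaf (12, 1633))) (.node (.leaf (0, 0)) (.leaf (11, 910)))))) (.node (.node (.node (.node (.leaf (0, 0)) (.leaf (12, 410))) (.node (.leaf (0, 0)) (.leaf (0, 0)))) (.node (.node (.leaf (0, 0)) (.leaf (4, 519))) (.node (.leaf (0, 0)) (.leaf (13, 1624))))) (.node (.node (.node (.leaf (0, 0)) (.leaf (0, 0))) (.node (.leaf (11, 1160)) (.leaf (7, 1135)))) (.node (.node (.leaf (13, 264)) (.leaf (10, 1751))) (.leaf (11, 609)))))) (.node (.node (.node (.node (.node (.leaf (0, 0)) (.leaf (13, 398))) (.node (.leaf (13, 1065)) (.leaf (11, 1570)))) (.node (.node (.leaf (2, 91)) (.leaf (0, 0))) (.node (.leaf (0, 0)) (.leaf (13, 1437))))) (.node (.node (.node (.leaf (0, 0)) (.leaf (13, 1738))) (.node (.leaf (13, 1664))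 (.leaf (12, 361)))) (.node (.node (.leaf (0, 0)) (.leaf (7, 1349))) (.leaf (0, 0))))) (.node (.node (.node (.node (.leaf (0, 0)) (.leaf (0, 0))) (.node (.leaf (0, 0)) (.leaf (4, 835)))) (.node (.node (.leaf (0, 0)) (.leaf (0, 0))) (.node (.leaf (9, 192)) (.leaf (9, 1900))))) (.node (.node (.node (.leaf (0, 0)) (.leaf (13, 484))) (.node (.leaf (0, 0)) (.leaf (13, 994)))) (.node (.node (.leaf (9, 851)) (.leaf (2, 1014))) (.leaf (0, 0))))))))))

def threeVia4 : Janko.Tree (ℕ × ℕ) :=
  (.node (.node (.node (.node (.node (.node (.node (.node (.node (.leaf (0, 0)) (.leaf (13, 1293))) (.node (.leaf (12, 1376)) (.leaf (12, 1098)))) (.node (.node (.leaf (0, 0)) (.leaf (13, 1079))) (.node (.leaf (0, 0)) (.leaf (12, 263))))) (.node (.node (.node (.leaf (4, 130)) (.leaf (11, 728))) (.node (.leaf (0, 0)) (.leaf (13, 1936)))) (.node (.node (.leaf (0, 0)) (.leaf (13, 956))) (.node (.leaf (0, 0)) (.leaf (10, 1766)))))) (.node (.node (.node (.node (.leaf (0, 0)) (.leaf (13, 1713))) (.node (.leaf (0, 0)) (.leaf (13, 1602)))) (.node (.node (.leaf (0, 0))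 (.leaf (13, 1588))) (.node (.leaf (0, 0)) (.leaf (0, 1858))))) (.node (.node (.node (.leaf (0, 194)) (.leaf (0, 0))) (.node (.leaf (0, 0)) (.leaf (10, 1391)))) (.node (.node (.leaf (0, 0)) (.leaf (12, 1474))) (.leaf (0, 0)))))) (.node (.node (.node (.node (.node (.leaf (0, 0)) (.leaf (0, 0))) (.node (.leaf (0, 0)) (.leaf (2, 415)))) (.node (.node (.leaf (0, 0)) (.leaf (0, 0))) (.node (.leaf (9, 802)) (.leaf (13, 1826))))) (.node (.node (.node (.leaf (12, 160)) (.leaf (13, 1045))) (.node (.leaf (13, 692)) (.leaf (13, 228)))) (.node (.node (.leaf (7, 1147)) (.leaf (0, 0))) (.leaf (2, 561))))) (.node (.node (.node (.node (.leaf (0, 0)) (.leaf (13, 188))) (.node (.leaf (10, 610)) (.leaf (0, 0)))) (.node (.node (.leaf (0, 0)) (.leaf (0, 1378))) (.node (.leaf (0, 0)) (.leaf (13, 1890))))) (.node (.node (.node (.leaf (0, 0)) (.leaf (0, 0))) (.node (.leaf (13, 128)) (.leaf (13, 1385)))) (.node (.node (.leaf (0, 0)) (.leaf (0, 0))) (.leaf (0, 0))))))) (.node (.node (.node (.node (.node (.node (.leaf (0, 0)) (.leaf (13, 1227))) (.node (.leaf (0,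 0)) (.leaf (0, 0)))) (.node (.node (.leaf (0, 0)) (.leaf (13, 1381))) (.node (.leaf (0, 0)) (.leaf (13, 1810))))) (.node (.node (.node (.leaf (0, 0)) (.leaf (12, 241))) (.node (.leaf (0, 0)) (.leaf (0, 1803)))) (.node (.node (.leaf (0, 0)) (.leaf (0, 0))) (.node (.leaf (0, 0)) (.leaf (13, 1837)))))) (.node (.node (.node (.node (.leaf (0, 0)) (.leaf (13, 1545))) (.node (.leaf (0, 0)) (.leaf (13, 1599)))) (.node (.node (.leaf (0, 0)) (.leaf (12, 1151))) (.node (.leaf (0, 0)) (.leaf (5, 426))))) (.node (.node (.node (.leaf (0, 0)) (.leaf (0, 1234))) (.node (.leaf (0, 0)) (.leaf (0, 1746)))) (.node (.node (.leaf (0, 0)) (.leaf (10, 1131))) (.leaf (13, 978)))))) (.node (.node (.node (.node (.node (.leaf (0, 0)) (.leaf (13, 1918))) (.node (.leaf (0, 562)) (.leaf (3, 1137)))) (.node (.node (.leaf (11, 1512)) (.leaf (0, 0))) (.node (.leaf (0, 0)) (.leaf (0, 0))))) (.node (.node (.node (.leaf (0, 0)) (.leaf (0, 0))) (.node (.leaf (0, 690)) (.leaf (11, 1320)))) (.node (.node (.leaf (0, 0)) (.leaf (5, 1587))) (.leaf (0, 946))))) (.node (.node (.node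 (.node (.leaf (0, 114)) (.leaf (0, 0))) (.node (.leaf (12, 626)) (.leaf (0, 1650)))) (.node (.node (.leaf (0, 0)) (.leaf (11, 933))) (.node (.leaf (0, 0)) (.leaf (13, 1832))))) (.node (.node (.node (.leaf (0, 0)) (.leaf (13, 1264))) (.node (.leaf (13, 1303)) (.leaf (13, 1778)))) (.node (.node (.leaf (12, 496)) (.leaf (0, 1522))) (.leaf (0, 1438)))))))) (.node (.node (.node (.node (.node (.node (.node (.leaf (0, 0)) (.leaf (0, 0))) (.node (.leaf (0, 0)) (.leaf (13, 1546)))) (.node (.node (.leaf (0, 0)) (.leaf (13, 1708))) (.node (.leaf (13, 1627)) (.leaf (13, 1714))))) (.node (.node (.node (.leaf (0, 0)) (.leaf (0, 0))) (.node (.leaf (0, 0)) (.leaf (13, 1248)))) (.node (.node (.leaf (0, 394)) (.leaf (13, 1418))) (.node (.leaf (0, 906)) (.leaf (13, 1930)))))) (.node (.node (.node (.node (.leaf (0, 0)) (.leaf (0, 0))) (.node (.leaf (9, 185)) (.leaf (0, 0)))) (.node (.node (.leaf (0, 0)) (.leaf (10, 538))) (.node (.leaf (0, 842)) (.leaf (3, 231))))) (.node (.node (.node (.leaf (0, 0)) (.leaf (0, 0))) (.node (.leaf (0, 0)) (.leaf (9, 1738))))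 (.node (.node (.leaf (0, 458)) (.leaf (10, 210))) (.leaf (9, 800)))))) (.node (.node (.node (.node (.node (.leaf (0, 0)) (.leaf (0, 0))) (.node (.leaf (0, 0)) (.leaf (0, 0)))) (.node (.node (.leaf (12, 18)) (.leaf (0, 0))) (.node (.leaf (0, 0)) (.leaf (13, 1524))))) (.node (.node (.node (.leaf (13, 450)) (.leaf (0, 0))) (.node (.leaf (0, 0)) (.leaf (13, 1441)))) (.node (.node (.leaf (0, 0)) (.leaf (12, 1000))) (.leaf (12, 177))))) (.node (.node (.node (.node (.leaf (0, 106)) (.leaf (13, 1891))) (.node (.leaf (9, 1744)) (.leaf (0, 0)))) (.node (.node (.leaf (0, 0)) (.leaf (13, 518))) (.node (.leaf (0, 874)) (.leaf (13, 1668))))) (.node (.node (.node (.leaf (0, 0)) (.leaf (13, 143))) (.node (.leaf (0, 0)) (.leaf (12, 1770)))) (.node (.node (.leaf (0, 0)) (.leaf (0, 0))) (.leaf (0, 1306))))))) (.node (.node (.node (.node (.node (.node (.leaf (0, 0)) (.leaf (4, 1270))) (.node (.leaf (0, 0)) (.leaf (0, 0)))) (.node (.node (.leaf (0, 0)) (.leaf (4, 838))) (.node (.leaf (0, 0)) (.leaf (13, 1818))))) (.node (.node (.node (.leaf (0, 0)) (.leaf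 (0, 0))) (.node (.leaf (0, 666)) (.leaf (13, 1260)))) (.node (.node (.leaf (0, 0)) (.leaf (11, 983))) (.node (.leaf (0, 0)) (.leaf (4, 1)))))) (.node (.node (.node (.node (.leaf (0, 0)) (.leaf (0, 1114))) (.node (.leaf (0, 0)) (.leaf (13, 1626)))) (.node (.node (.leaf (0, 0)) (.leaf (0, 0))) (.node (.leaf (0, 858)) (.leaf (9, 1629))))) (.node (.node (.node (.leaf (0, 0)) (.leaf (0, 0))) (.node (.leaf (0, 0)) (.leaf (13, 1881)))) (.node (.node (.leaf (0, 0)) (.leaf (11, 596))) (.leaf (0, 0)))))) (.node (.node (.node (.node (.node (.leaf (0, 0)) (.leaf (13, 1805))) (.node (.leaf (0, 0)) (.leaf (0, 0)))) (.node (.node (.leaf (0, 314)) (.leaf (0, 1572))) (.node (.leaf (13, 1383)) (.leaf (13, 1850))))) (.node (.node (.node (.leaf (0, 0)) (.leaf (12, 788))) (.node (.leaf (13, 1610)) (.leaf (0, 1722)))) (.node (.node (.leaf (0, 0)) (.leaf (13, 1466))) (.leaf (13, 1894))))) (.node (.node (.node (.node (.leaf (0, 0)) (.leaf (13, 1144))) (.node (.leaf (13, 897)) (.leaf (13, 967)))) (.node (.node (.leaf (0, 0)) (.leaf (13, 1402))) (.node (.leaf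 (0, 0)) (.leaf (12, 819))))) (.node (.node (.node (.leaf (0, 0)) (.leaf (13, 643))) (.node (.leaf (0, 0)) (.leaf (13, 1432)))) (.node (.node (.leaf (0, 0)) (.leaf (4, 1530))) (.leaf (13, 1716))))))))) (.node (.node (.node (.node (.node (.node (.node (.node (.leaf (0, 0)) (.leaf (13, 644))) (.node (.leaf (0, 0)) (.leaf (13, 1542)))) (.node (.node (.leaf (0, 0)) (.leaf (9, 193))) (.node (.leaf (5, 1103)) (.leaf (13, 1326))))) (.node (.node (.node (.leaf (0, 0)) (.leaf (0, 0))) (.node (.leaf (13, 895)) (.leaf (13, 1561)))) (.node (.node (.leaf (0, 0)) (.leaf (13, 1767))) (.node (.leaf (0, 0)) (.leaf (13, 1654)))))) (.node (.node (.node (.node (.leaf (0, 0)) (.leaf (0, 0))) (.node (.leaf (12, 334)) (.leaf (5, 729)))) (.node (.node (.leaf (0, 0)) (.leaf (0, 0))) (.node (.leaf (0, 0)) (.leaf (13, 1862))))) (.node (.node (.node (.leaf (0, 0)) (.leaf (0, 0))) (.node (.leaf (0, 0)) (.leaf (13, 1034)))) (.node (.node (.leaf (0, 454)) (.leaf (12, 1861))) (.leaf (7, 1648)))))) (.node (.node (.node (.node (.node (.leaf (0, 0)) (.leaf (13, 1853)))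 (.node (.leaf (0, 0)) (.leaf (2, 1129)))) (.node (.node (.leaf (0, 0)) (.leaf (13, 1318))) (.node (.leaf (0, 0)) (.leaf (13, 1517))))) (.node (.node (.node (.leaf (0, 0)) (.leaf (5, 1190))) (.node (.leaf (0, 0)) (.leaf (13, 1719)))) (.node (.node (.leaf (0, 0)) (.leaf (13, 1446))) (.leaf (12, 1394))))) (.node (.node (.node (.node (.leaf (0, 0)) (.leaf (0, 0))) (.node (.leaf (13, 1217)) (.leaf (13, 247)))) (.node (.node (.leaf (0, 0)) (.leaf (0, 0))) (.node (.leaf (0, 0)) (.leaf (0, 1894))))) (.node (.node (.node (.leaf (0, 0)) (.leaf (0, 1254))) (.node (.leaf (13, 1086)) (.leaf (0, 0)))) (.node (.node (.leaf (0, 0)) (.leaf (0, 0))) (.leaf (13, 105))))))) (.node (.node (.node (.node (.node (.node (.leaf (0, 22)) (.leaf (13, 1597))) (.node (.leaf (0, 0)) (.leaf (0, 0)))) (.node (.node (.leaf (0, 0)) (.leaf (13, 834))) (.node (.leaf (0, 0)) (.leaf (13, 931))))) (.node (.node (.node (.leaf (0, 0)) (.leaf (13, 725))) (.node (.leaf (0, 0)) (.leaf (13, 1006)))) (.node (.node (.leaf (0, 0)) (.leaf (10, 1430))) (.node (.leaf (13, 1193)) (.leaf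 (13, 311)))))) (.node (.node (.node (.node (.leaf (0, 0)) (.leaf (0, 0))) (.node (.leaf (0, 0)) (.leaf (13, 1620)))) (.node (.node (.leaf (10, 188)) (.leaf (13, 538))) (.node (.leaf (0, 0)) (.leaf (0, 1878))))) (.node (.node (.node (.leaf (0, 0)) (.leaf (13, 843))) (.node (.leaf (0, 726)) (.leaf (11, 1750)))) (.node (.node (.leaf (13, 262)) (.leaf (13, 1493))) (.leaf (0, 1384)))))) (.node (.node (.node (.node (.node (.leaf (0, 0)) (.leaf (0, 1078))) (.node (.leaf (0, 0)) (.leaf (2, 420)))) (.node (.node (.leaf (0, 0)) (.leaf (13, 362))) (.node (.leaf (0, 0)) (.leaf (12, 1103))))) (.node (.node (.node (.leaf (0, 182)) (.leaf (0, 0))) (.node (.leaf (0, 0)) (.leaf (13, 1459)))) (.node (.node (.leaf (0, 0)) (.leaf (12, 1462))) (.leaf (0, 0))))) (.node (.node (.node (.node (.leaf (0, 0)) (.leaf (13, 1887))) (.node (.leaf (13, 1195)) (.leaf (12, 1214)))) (.node (.node (.leaf (13, 1700)) (.leaf (0, 0))) (.node (.leaf (13, 886)) (.leaf (12, 1284))))) (.node (.node (.node (.leaf (0, 0)) (.leaf (0, 0))) (.node (.leaf (2, 132)) (.leaf (13, 517))))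 (.node (.node (.leaf (0, 0)) (.leaf (13, 1057))) (.leaf (10, 1014)))))))) (.node (.node (.node (.node (.node (.node (.node (.leaf (0, 0)) (.leaf (13, 1316))) (.node (.leaf (10, 90)) (.leaf (13, 1111)))) (.node (.node (.leaf (0, 0)) (.leaf (13, 1552))) (.node (.leaf (0, 0)) (.leaf (13, 1149))))) (.node (.node (.node (.leaf (0, 142)) (.leaf (0, 0))) (.node (.leaf (13, 503)) (.leaf (9, 1677)))) (.node (.node (.leaf (0, 0)) (.leaf (0, 1422))) (.node (.leaf (2, 23)) (.leaf (13, 1934)))))) (.node (.node (.node (.node (.leaf (0, 78)) (.leaf (13, 1100))) (.node (.leaf (0, 0)) (.leaf (11, 733)))) (.node (.node (.leaf (0, 0)) (.leaf (5, 1690))) (.node (.leaf (13, 1939)) (.leaf (12, 1870))))) (.node (.node (.node (.leaf (0, 0)) (.leaf (0, 0))) (.node (.leaf (12, 422)) (.leaf (13, 1558)))) (.node (.node (.leaf (0, 0)) (.leaf (11, 684))) (.leaf (11, 974)))))) (.node (.node (.node (.node (.node (.leaf (0, 0)) (.leaf (11, 672))) (.node (.leaf (0, 0)) (.leaf (13, 1580)))) (.node (.node (.leaf (5, 1306)) (.leaf (13, 1834))) (.node (.leaf (0, 0)) (.leaf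 (0, 1838))))) (.node (.node (.node (.leaf (0, 0)) (.leaf (13, 1397))) (.node (.leaf (0, 0)) (.leaf (0, 0)))) (.node (.node (.leaf (0, 0)) (.leaf (13, 1197))) (.leaf (0, 0))))) (.node (.node (.node (.node (.leaf (0, 0)) (.leaf (0, 0))) (.node (.leaf (0, 0)) (.leaf (13, 1202)))) (.node (.node (.leaf (10, 868)) (.leaf (0, 0))) (.node (.leaf (12, 878)) (.leaf (13, 1902))))) (.node (.node (.node (.leaf (0, 0)) (.leaf (0, 1262))) (.node (.leaf (0, 0)) (.leaf (13, 1406)))) (.node (.node (.leaf (13, 77)) (.leaf (13, 1518))) (.leaf (13, 1454))))))) (.node (.node (.node (.node (.node (.node (.leaf (0, 0)) (.leaf (13, 1613))) (.node (.leaf (0, 0)) (.leaf (7, 1630)))) (.node (.node (.leaf (0, 0)) (.leaf (13, 769))) (.node (.leaf (13, 1660)) (.leaf (13, 1882))))) (.node (.node (.node (.leaf (0, 0)) (.leaf (13, 1180))) (.node (.leaf (0, 0)) (.leaf (0, 1694)))) (.node (.node (.leaf (13, 170)) (.leaf (2, 348))) (.node (.leaf (13, 1475)) (.leaf (12, 171)))))) (.node (.node (.node (.node (.leaf (0, 0)) (.leaf (0, 0))) (.node (.leaf (13, 604)) (.leaf (12,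 1208)))) (.node (.node (.leaf (0, 0)) (.leaf (0, 1374))) (.node (.leaf (13, 1827)) (.leaf (13, 1926))))) (.node (.node (.node (.leaf (0, 222)) (.leaf (13, 1770))) (.node (.leaf (0, 0)) (.leaf (13, 1909)))) (.node (.node (.leaf (0, 0)) (.leaf (13, 1502))) (.leaf (13, 1884)))))) (.node (.node (.node (.node (.node (.leaf (0, 0)) (.leaf (0, 0))) (.node (.leaf (0, 574)) (.leaf (0, 1598)))) (.node (.node (.leaf (0, 0)) (.leaf (13, 1864))) (.node (.leaf (0, 0)) (.leaf (0, 0))))) (.node (.node (.node (.leaf (0, 0)) (.leaf (0, 0))) (.node (.leaf (0, 0)) (.leaf (0, 1726)))) (.node (.node (.leaf (0, 0)) (.leaf (0, 0))) (.leaf (0, 1256))))) (.node (.node (.node (.node (.leaf (0, 0)) (.leaf (0, 0))) (.node (.leaf (0, 0)) (.leaf (13, 1809)))) (.node (.node (.leaf (0, 0)) (.leaf (0, 0))) (.node (.leaf (0, 0)) (.leaf (11, 1737))))) (.node (.node (.node (.leaf (0, 0)) (.leaf (0, 0))) (.node (.leaf (0, 766)) (.leaf (12, 993)))) (.node (.node (.leaf (13, 851)) (.leaf (13, 1103))) (.leaf (13, 1020))))))))))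

def threeVia5 : Janko.Tree (ℕ × ℕ) :=
  (.node (.node (.node (.node (.node (.node (.node (.node (.node (.leaf (0, 0)) (.leaf (0, 0))) (.node (.leaf (0, 0)) (.leaf (13, 773)))) (.node (.node (.leaf (0, 0)) (.leaf (0, 0))) (.node (.leaf (0, 0)) (.leaf (10, 1544))))) (.node (.node (.node (.leaf (0, 0)) (.leaf (13, 1907))) (.node (.leaf (0, 0)) (.leaf (13, 1556)))) (.node (.node (.leaf (0, 0)) (.leaf (13, 587))) (.node (.leaf (0, 0)) (.leaf (13, 535)))))) (.node (.node (.node (.node (.leaf (0, 0)) (.leaf (0, 0))) (.node (.leaf (0, 0)) (.leaf (12, 443)))) (.node (.node (.leaf (0, 0)) (.leaf (13, 1600))) (.node (.leaf (12, 1274)) (.leaf (13, 1170))))) (.node (.node (.node (.leaf (10, 27)) (.leaf (12, 457))) (.node (.leaf (0, 0)) (.leaf (13, 566)))) (.node (.node (.leaf (0, 0)) (.leaf (1, 1474))) (.leaf (13, 301)))))) (.node (.node (.node (.node (.node (.leaf (0, 0)) (.leaf (0, 0))) (.node (.leaf (0, 0)) (.leaf (0, 0)))) (.node (.node (.leaf (0, 0)) (.leaf (0, 0))) (.node (.leaf (0, 0)) (.leaf (13, 1775))))) (.node (.node (.node (.leaf (0,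 0)) (.leaf (12, 1241))) (.node (.leaf (0, 0)) (.leaf (13, 553)))) (.node (.node (.leaf (0, 0)) (.leaf (9, 523))) (.leaf (3, 1268))))) (.node (.node (.node (.node (.leaf (0, 0)) (.leaf (0, 0))) (.node (.leaf (0, 0)) (.leaf (0, 0)))) (.node (.node (.leaf (0, 0)) (.leaf (13, 180))) (.node (.leaf (5, 858)) (.leaf (1, 1890))))) (.node (.node (.node (.leaf (0, 0)) (.leaf (13, 1900))) (.node (.leaf (0, 0)) (.leaf (13, 1829)))) (.node (.node (.leaf (0, 0)) (.leaf (0, 0))) (.leaf (0, 0))))))) (.node (.node (.node (.node (.node (.node (.leaf (0, 0)) (.leaf (12, 1319))) (.node (.leaf (0, 0)) (.leaf (13, 1292)))) (.node (.node (.leaf (0, 0)) (.leaf (13, 1797))) (.node (.leaf (0, 0)) (.leaf (12, 1147))))) (.node (.node (.node (.leaf (0, 0)) (.leaf (13, 269))) (.node (.leaf (0, 0)) (.leaf (13, 792)))) (.node (.node (.leaf (0, 0)) (.leaf (11, 24))) (.node (.leaf (12, 1457)) (.leaf (12, 759)))))) (.node (.node (.node (.node (.leaf (0, 0)) (.leaf (12, 1756))) (.node (.leaf (0, 0)) (.leaf (13, 1308)))) (.node (.node (.leaf (0, 0)) (.leaf (12, 1397))) (.node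 (.leaf (5, 768)) (.leaf (11, 1338))))) (.node (.node (.node (.leaf (0, 0)) (.leaf (2, 547))) (.node (.leaf (0, 0)) (.leaf (13, 1200)))) (.node (.node (.leaf (0, 0)) (.leaf (10, 57))) (.leaf (2, 804)))))) (.node (.node (.node (.node (.node (.leaf (0, 0)) (.leaf (13, 653))) (.node (.leaf (0, 0)) (.leaf (10, 1312)))) (.node (.node (.leaf (0, 0)) (.leaf (2, 524))) (.node (.leaf (0, 0)) (.leaf (0, 0))))) (.node (.node (.node (.leaf (0, 0)) (.leaf (11, 1196))) (.node (.leaf (2, 557)) (.leaf (13, 1782)))) (.node (.node (.leaf (12, 303)) (.leaf (9, 1716))) (.leaf (13, 1372))))) (.node (.node (.node (.node (.leaf (0, 0)) (.leaf (0, 0))) (.node (.leaf (0, 0)) (.leaf (12, 1901)))) (.node (.node (.leaf (0, 0)) (.leaf (0, 0))) (.node (.leaf (0, 0)) (.leaf (13, 23))))) (.node (.node (.node (.leaf (0, 0)) (.leaf (6, 1839))) (.node (.leaf (0, 0)) (.leaf (13, 545)))) (.node (.node (.leaf (0, 0)) (.leaf (12, 1609))) (.leaf (0, 0)))))))) (.node (.node (.node (.node (.node (.node (.node (.leaf (0, 0)) (.leaf (11, 1626))) (.node (.leaf (0, 0)) (.leaf (11,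 59)))) (.node (.node (.leaf (0, 0)) (.leaf (13, 295))) (.node (.leaf (0, 0)) (.leaf (13, 162))))) (.node (.node (.node (.leaf (0, 0)) (.leaf (0, 0))) (.node (.leaf (0, 0)) (.leaf (13, 802)))) (.node (.node (.leaf (0, 0)) (.leaf (11, 437))) (.node (.leaf (0, 0)) (.leaf (13, 1726)))))) (.node (.node (.node (.node (.leaf (0, 0)) (.leaf (13, 400))) (.node (.leaf (0, 0)) (.leaf (11, 883)))) (.node (.node (.leaf (0, 0)) (.leaf (0, 0))) (.node (.leaf (0, 0)) (.leaf (13, 1271))))) (.node (.node (.node (.leaf (0, 0)) (.leaf (0, 0))) (.node (.leaf (0, 0)) (.leaf (13, 1868)))) (.node (.node (.leaf (0, 0)) (.leaf (13, 1879))) (.leaf (0, 0)))))) (.node (.node (.node (.node (.node (.leaf (0, 0)) (.leaf (13, 1878))) (.node (.leaf (0, 0)) (.leaf (0, 0)))) (.node (.node (.leaf (0, 0)) (.leaf (13, 1596))) (.node (.leaf (0, 0)) (.leaf (13, 314))))) (.node (.node (.node (.leaf (0, 0)) (.leaf (13, 446))) (.node (.leaf (0, 0)) (.leaf (13, 1233)))) (.node (.node (.leaf (0, 0)) (.leaf (0, 0))) (.leaf (12, 1642))))) (.node (.node (.node (.node (.leaf (0, 0))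 (.leaf (0, 0))) (.node (.leaf (2, 29)) (.leaf (13, 1937)))) (.node (.node (.leaf (0, 0)) (.leaf (0, 0))) (.node (.leaf (11, 112)) (.leaf (13, 110))))) (.node (.node (.node (.leaf (0, 0)) (.leaf (11, 1934))) (.node (.leaf (0, 0)) (.leaf (13, 811)))) (.node (.node (.leaf (0, 0)) (.leaf (10, 1657))) (.leaf (0, 0))))))) (.node (.node (.node (.node (.node (.node (.leaf (0, 0)) (.leaf (0, 0))) (.node (.leaf (0, 0)) (.leaf (13, 1938)))) (.node (.node (.leaf (0, 0)) (.leaf (2, 1871))) (.node (.leaf (0, 0)) (.leaf (0, 0))))) (.node (.node (.node (.leaf (0, 0)) (.leaf (10, 193))) (.node (.leaf (0, 0)) (.leaf (0, 0)))) (.node (.node (.leaf (13, 1488)) (.leaf (13, 1771))) (.node (.leaf (0, 0)) (.leaf (5, 34)))))) (.node (.node (.node (.node (.leaf (0, 0)) (.leaf (13, 1351))) (.node (.leaf (12, 1437)) (.leaf (13, 1914)))) (.node (.node (.leaf (0, 0)) (.leaf (7, 1676))) (.node (.leaf (12, 795)) (.leaf (13, 620))))) (.node (.node (.node (.leaf (0, 0)) (.leaf (11, 1874))) (.node (.leaf (0, 0)) (.leaf (12, 914)))) (.node (.node (.leaf (0, 0)) (.leaf (12,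 665))) (.leaf (0, 0)))))) (.node (.node (.node (.node (.node (.leaf (0, 0)) (.leaf (0, 0))) (.node (.leaf (0, 0)) (.leaf (2, 1497)))) (.node (.node (.leaf (0, 0)) (.leaf (12, 484))) (.node (.leaf (0, 0)) (.leaf (13, 1027))))) (.node (.node (.node (.leaf (0, 0)) (.leaf (2, 1253))) (.node (.leaf (0, 0)) (.leaf (13, 900)))) (.node (.node (.leaf (0, 0)) (.leaf (13, 1779))) (.leaf (0, 0))))) (.node (.node (.node (.node (.leaf (0, 0)) (.leaf (0, 0))) (.node (.leaf (0, 0)) (.leaf (10, 484)))) (.node (.node (.leaf (0, 0)) (.leaf (0, 0))) (.node (.leaf (13, 1741)) (.leaf (13, 1698))))) (.node (.node (.node (.leaf (0, 0)) (.leaf (12, 296))) (.node (.leaf (13, 1751)) (.leaf (9, 1575)))) (.node (.node (.leaf (1, 684)) (.leaf (4, 1620))) (.leaf (12, 1589))))))))) (.node (.node (.node (.node (.node (.node (.node (.node (.leaf (0, 0)) (.leaf (13, 1126))) (.node (.leaf (0, 0)) (.leaf (13, 1315)))) (.node (.node (.leaf (2, 138)) (.leaf (13, 486))) (.node (.leaf (0, 0)) (.leaf (13, 810))))) (.node (.node (.node (.leaf (0, 0)) (.leaf (0, 0))) (.node (.leaf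 (0, 0)) (.leaf (13, 679)))) (.node (.node (.leaf (0, 0)) (.leaf (13, 952))) (.node (.leaf (13, 1748)) (.leaf (13, 250)))))) (.node (.node (.node (.node (.leaf (13, 731)) (.leaf (0, 0))) (.node (.leaf (0, 0)) (.leaf (0, 0)))) (.node (.node (.leaf (0, 0)) (.leaf (2, 205))) (.node (.leaf (11, 1835)) (.leaf (12, 1530))))) (.node (.node (.node (.leaf (0, 0)) (.leaf (13, 476))) (.node (.leaf (9, 730)) (.leaf (13, 1576)))) (.node (.node (.leaf (0, 0)) (.leaf (12, 111))) (.leaf (12, 755)))))) (.node (.node (.node (.node (.node (.leaf (0, 0)) (.leaf (13, 1817))) (.node (.leaf (10, 20)) (.leaf (3, 1789)))) (.node (.node (.leaf (0, 0)) (.leaf (0, 0))) (.node (.leaf (10, 990)) (.leaf (13, 1690))))) (.node (.node (.node (.leaf (0, 0)) (.leaf (0, 0))) (.node (.leaf (0, 0)) (.leaf (11, 308)))) (.node (.node (.leaf (0, 0)) (.leaf (2, 612))) (.leaf (2, 881))))) (.node (.node (.node (.node (.leaf (0, 0)) (.leaf (0, 0))) (.node (.leaf (0, 0)) (.leaf (0, 0)))) (.node (.node (.leaf (0, 0)) (.leaf (13, 1631))) (.node (.leaf (0, 0)) (.leaf (11, 770))))) (.node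 (.node (.node (.leaf (0, 0)) (.leaf (0, 0))) (.node (.leaf (0, 0)) (.leaf (11, 927)))) (.node (.node (.leaf (0, 0)) (.leaf (13, 912))) (.leaf (0, 0))))))) (.node (.node (.node (.node (.node (.node (.leaf (0, 0)) (.leaf (12, 877))) (.node (.leaf (0, 0)) (.leaf (0, 0)))) (.node (.node (.leaf (0, 0)) (.leaf (13, 134))) (.node (.leaf (12, 117)) (.leaf (7, 666))))) (.node (.node (.node (.leaf (0, 0)) (.leaf (1, 1174))) (.node (.leaf (0, 0)) (.leaf (13, 1801)))) (.node (.node (.leaf (0, 0)) (.leaf (13, 186))) (.node (.leaf (13, 66)) (.leaf (13, 1802)))))) (.node (.node (.node (.node (.leaf (3, 797)) (.leaf (12, 1818))) (.node (.leaf (1, 598)) (.leaf (13, 1429)))) (.node (.node (.leaf (0, 0)) (.leaf (9, 307))) (.node (.leaf (13, 1844)) (.leaf (12, 1157))))) (.node (.node (.node (.leaf (1, 214)) (.leaf (0, 0))) (.node (.leaf (13, 1898)) (.leaf (13, 1743)))) (.node (.node (.leaf (13, 396)) (.leaf (13, 966))) (.leaf (0, 0)))))) (.node (.node (.node (.node (.node (.leaf (0, 0)) (.leaf (13, 1523))) (.node (.leaf (0, 0)) (.leaf (13, 1685)))) (.node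 (.node (.leaf (0, 0)) (.leaf (12, 174))) (.node (.leaf (0, 0)) (.leaf (0, 0))))) (.node (.node (.node (.leaf (0, 0)) (.leaf (0, 0))) (.node (.leaf (0, 0)) (.leaf (0, 0)))) (.node (.node (.leaf (0, 0)) (.leaf (13, 1785))) (.leaf (13, 1777))))) (.node (.node (.node (.node (.leaf (0, 0)) (.leaf (11, 1695))) (.node (.leaf (0, 0)) (.leaf (13, 1787)))) (.node (.node (.leaf (0, 0)) (.leaf (13, 630))) (.node (.leaf (0, 0)) (.leaf (11, 116))))) (.node (.node (.node (.leaf (0, 0)) (.leaf (0, 0))) (.node (.leaf (0, 0)) (.leaf (11, 102)))) (.node (.node (.leaf (0, 0)) (.leaf (2, 1824))) (.leaf (13, 1339)))))))) (.node (.node (.node (.node (.node (.node (.node (.leaf (0, 0)) (.leaf (13, 1053))) (.node (.leaf (0, 0)) (.leaf (0, 0)))) (.node (.node (.leaf (0, 0)) (.leaf (0, 0))) (.node (.leaf (0, 0)) (.leaf (0, 0))))) (.node (.node (.node (.leaf (0, 0)) (.leaf (13, 936))) (.node (.leaf (0, 0)) (.leaf (0, 0)))) (.node (.node (.leaf (0, 0)) (.leaf (13, 454))) (.node (.leaf (0, 0)) (.leaf (13, 1520)))))) (.node (.node (.node (.node (.leaf (0, 0)) (.leaf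 (0, 0))) (.node (.leaf (0, 0)) (.leaf (13, 1509)))) (.node (.node (.leaf (13, 47)) (.leaf (13, 1041))) (.node (.leaf (13, 1616)) (.leaf (13, 1391))))) (.node (.node (.node (.leaf (0, 0)) (.leaf (12, 818))) (.node (.leaf (13, 742)) (.leaf (12, 1092)))) (.node (.node (.leaf (10, 271)) (.leaf (12, 660))) (.leaf (13, 1234)))))) (.node (.node (.node (.node (.node (.leaf (0, 0)) (.leaf (13, 1786))) (.node (.leaf (4, 523)) (.leaf (0, 0)))) (.node (.node (.leaf (0, 0)) (.leaf (13, 42))) (.node (.leaf (12, 1126)) (.leaf (12, 949))))) (.node (.node (.node (.leaf (1, 618)) (.leaf (0, 0))) (.node (.leaf (13, 1649)) (.leaf (13, 1942)))) (.node (.node (.leaf (13, 1573)) (.leaf (13, 1680))) (.leaf (0, 0))))) (.node (.node (.node (.node (.leaf (0, 0)) (.leaf (13, 607))) (.node (.leaf (0, 0)) (.leaf (9, 1813)))) (.node (.node (.leaf (0, 0)) (.leaf (1, 1390))) (.node (.leaf (9, 784)) (.leaf (13, 1438))))) (.node (.node (.node (.leaf (0, 0)) (.leaf (0, 0))) (.node (.leaf (4, 749)) (.leaf (13, 992)))) (.node (.node (.leaf (0, 0)) (.leaf (0, 0))) (.leaf (13,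 771))))))) (.node (.node (.node (.node (.node (.node (.leaf (0, 0)) (.leaf (0, 0))) (.node (.leaf (0, 0)) (.leaf (13, 1691)))) (.node (.node (.leaf (0, 0)) (.leaf (9, 1376))) (.node (.leaf (9, 310)) (.leaf (11, 1190))))) (.node (.node (.node (.leaf (0, 0)) (.leaf (13, 1477))) (.node (.leaf (13, 1681)) (.leaf (13, 838)))) (.node (.node (.leaf (0, 0)) (.leaf (13, 1842))) (.node (.leaf (13, 568)) (.leaf (13, 845)))))) (.node (.node (.node (.node (.leaf (0, 0)) (.leaf (13, 767))) (.node (.leaf (11, 745)) (.leaf (12, 1131)))) (.node (.node (.leaf (11, 339)) (.leaf (2, 1746))) (.node (.leaf (12, 1183)) (.leaf (13, 1792))))) (.node (.node (.node (.leaf (0, 0)) (.leaf (13, 666))) (.node (.leaf (0, 0)) (.leaf (13, 1924)))) (.node (.node (.leaf (0, 0)) (.leaf (13, 1659))) (.leaf (5, 411)))))) (.node (.node (.node (.node (.node (.leaf (0, 0)) (.leaf (0, 0))) (.node (.leaf (0, 0)) (.leaf (0, 0)))) (.node (.node (.leaf (0, 0)) (.leaf (0, 0))) (.node (.leaf (0, 0)) (.leaf (13, 1134))))) (.node (.node (.node (.leaf (13, 938)) (.leaf (9, 168))) (.node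 (.leaf (0, 0)) (.leaf (4, 512)))) (.node (.node (.leaf (5, 519)) (.leaf (13, 696))) (.leaf (0, 0))))) (.node (.node (.node (.node (.leaf (0, 0)) (.leaf (12, 399))) (.node (.leaf (7, 205)) (.leaf (13, 1331)))) (.node (.node (.leaf (0, 0)) (.leaf (13, 1739))) (.node (.leaf (2, 322)) (.leaf (13, 1091))))) (.node (.node (.node (.leaf (0, 0)) (.leaf (6, 814))) (.node (.leaf (4, 468)) (.leaf (12, 1178)))) (.node (.node (.leaf (0, 0)) (.leaf (0, 0))) (.leaf (12, 502))))))))))

def threeVia6 : Janko.Tree (ℕ × ℕ) :=
  (.node (.node (.node (.node (.node (.node (.node (.node (.node (.leaf (0, 0)) (.leaf (0, 0))) (.node (.leaf (0, 0)) (.leaf (13, 1539)))) (.node (.node (.leaf (13, 668)) (.leaf (13, 1164))) (.node (.leaf (0, 0)) (.leaf (13, 558))))) (.node (.node (.node (.leaf (0, 0)) (.leaf (0, 1155))) (.node (.leaf (2, 1202)) (.leaf (10, 1667)))) (.node (.node (.leaf (0, 0)) (.leaf (0, 0))) (.node (.leaf (0, 0)) (.leaf (0, 1923)))))) (.node (.node (.node (.node (.leaf (0, 0)) (.leaf (0, 0))) (.node (.leaf (13, 578)) (.leaf (0, 0)))) (.node (.node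 (.leaf (0, 0)) (.leaf (0, 1347))) (.node (.leaf (12, 499)) (.leaf (13, 1568))))) (.node (.node (.node (.leaf (0, 0)) (.leaf (13, 860))) (.node (.leaf (13, 122)) (.leaf (0, 1731)))) (.node (.node (.leaf (0, 0)) (.leaf (0, 1475))) (.leaf (13, 1422)))))) (.node (.node (.node (.node (.node (.leaf (0, 0)) (.leaf (12, 1057))) (.node (.leaf (0, 0)) (.leaf (13, 1569)))) (.node (.node (.leaf (0, 0)) (.leaf (0, 0))) (.node (.leaf (11, 475)) (.leaf (5, 486))))) (.node (.node (.node (.leaf (0, 0)) (.leaf (0, 0))) (.node (.leaf (0, 0)) (.leaf (12, 482)))) (.node (.node (.leaf (9, 314)) (.leaf (11, 1152))) (.leaf (13, 1240))))) (.node (.node (.node (.node (.leaf (0, 0)) (.leaf (0, 0))) (.node (.leaf (0, 0)) (.leaf (0, 0)))) (.node (.node (.leaf (0, 0)) (.leaf (3, 1386))) (.node (.leaf (13, 522)) (.leaf (0, 1891))))) (.node (.node (.node (.leaf (0, 0)) (.leaf (11, 472))) (.node (.leaf (0, 0)) (.leaf (13, 1763)))) (.node (.node (.leaf (0, 0)) (.leaf (13, 1819))) (.leaf (0, 0))))))) (.node (.node (.node (.node (.node (.node (.leaf (0, 0)) (.leaf (12,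 1896))) (.node (.leaf (0, 0)) (.leaf (0, 0)))) (.node (.node (.leaf (0, 0)) (.leaf (13, 1222))) (.node (.leaf (0, 0)) (.leaf (0, 1811))))) (.node (.node (.node (.leaf (0, 0)) (.leaf (7, 1180))) (.node (.leaf (0, 0)) (.leaf (0, 0)))) (.node (.node (.leaf (0, 0)) (.leaf (13, 1765))) (.node (.leaf (0, 0)) (.leaf (13, 1847)))))) (.node (.node (.node (.node (.leaf (0, 0)) (.leaf (0, 1107))) (.node (.leaf (2, 595)) (.leaf (2, 1619)))) (.node (.node (.leaf (0, 339)) (.leaf (13, 1363))) (.node (.leaf (0, 851)) (.leaf (13, 1875))))) (.node (.node (.node (.leaf (0, 0)) (.leaf (0, 1235))) (.node (.leaf (0, 0)) (.leaf (13, 1747)))) (.node (.node (.leaf (0, 0)) (.leaf (13, 1491))) (.leaf (10, 776)))))) (.node (.node (.node (.node (.node (.leaf (0, 51)) (.leaf (13, 1075))) (.node (.leaf (0, 0)) (.leaf (13, 1029)))) (.node (.node (.leaf (0, 0)) (.leaf (12, 870))) (.node (.leaf (0, 0)) (.leaf (13, 1118))))) (.node (.node (.node (.leaf (0, 0)) (.leaf (13, 1201))) (.node (.leaf (0, 0)) (.leaf (0, 0)))) (.node (.node (.leaf (0, 0)) (.leaf (0, 1789))) (.leaf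 (0, 0))))) (.node (.node (.node (.node (.leaf (0, 0)) (.leaf (0, 0))) (.node (.leaf (13, 1177)) (.leaf (0, 0)))) (.node (.node (.leaf (0, 371)) (.leaf (0, 0))) (.node (.leaf (13, 747)) (.leaf (13, 829))))) (.node (.node (.node (.leaf (0, 0)) (.leaf (0, 1267))) (.node (.leaf (0, 0)) (.leaf (13, 1883)))) (.node (.node (.leaf (0, 0)) (.leaf (0, 0))) (.leaf (0, 0)))))))) (.node (.node (.node (.node (.node (.node (.node (.leaf (0, 0)) (.leaf (9, 1626))) (.node (.leaf (0, 523)) (.leaf (0, 1547)))) (.node (.node (.leaf (0, 0)) (.leaf (12, 275))) (.node (.leaf (0, 0)) (.leaf (11, 1557))))) (.node (.node (.node (.leaf (0, 0)) (.leaf (10, 736))) (.node (.leaf (0, 651)) (.leaf (0, 1675)))) (.node (.node (.leaf (0, 0)) (.leaf (0, 0))) (.node (.leaf (0, 907)) (.leaf (13, 764)))))) (.node (.node (.node (.node (.leaf (0, 0)) (.leaf (13, 234))) (.node (.leaf (5, 24)) (.leaf (12, 154)))) (.node (.node (.leaf (0, 0)) (.leaf (13, 1354))) (.node (.leaf (13, 1430)) (.leaf (13, 1867))))) (.node (.node (.node (.leaf (0, 0)) (.leaf (0, 0))) (.node (.leaf (0,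 0)) (.leaf (0, 1739)))) (.node (.node (.leaf (0, 0)) (.leaf (12, 936))) (.leaf (11, 575)))))) (.node (.node (.node (.node (.node (.leaf (0, 0)) (.leaf (0, 0))) (.node (.leaf (0, 0)) (.leaf (13, 1579)))) (.node (.node (.leaf (0, 0)) (.leaf (0, 0))) (.node (.leaf (11, 811)) (.leaf (6, 1835))))) (.node (.node (.node (.leaf (0, 0)) (.leaf (0, 0))) (.node (.leaf (0, 0)) (.leaf (0, 1707)))) (.node (.node (.leaf (0, 0)) (.leaf (13, 1800))) (.leaf (13, 1718))))) (.node (.node (.node (.node (.leaf (5, 419)) (.leaf (0, 0))) (.node (.leaf (0, 0)) (.leaf (12, 468)))) (.node (.node (.leaf (0, 0)) (.leaf (13, 1567))) (.node (.leaf (0, 0)) (.leaf (13, 1941))))) (.node (.node (.node (.leaf (0, 235)) (.leaf (11, 800))) (.node (.leaf (0, 0)) (.leaf (13, 104)))) (.node (.node (.leaf (0, 0)) (.leaf (7, 219))) (.leaf (0, 0))))))) (.node (.node (.node (.node (.node (.node (.leaf (0, 0)) (.leaf (0, 0))) (.node (.leaf (13, 1305)) (.leaf (13, 1495)))) (.node (.node (.leaf (0, 0)) (.leaf (0, 0))) (.node (.leaf (0, 0)) (.leaf (13, 1492))))) (.node (.node (.node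 (.leaf (0, 0)) (.leaf (13, 1369))) (.node (.leaf (11, 15)) (.leaf (9, 1261)))) (.node (.node (.leaf (0, 0)) (.leaf (0, 0))) (.node (.leaf (0, 923)) (.leaf (6, 138)))))) (.node (.node (.node (.node (.leaf (0, 0)) (.leaf (0, 0))) (.node (.leaf (12, 376)) (.leaf (12, 1202)))) (.node (.node (.leaf (4, 910)) (.leaf (11, 1371))) (.node (.leaf (2, 155)) (.leaf (10, 1329))))) (.node (.node (.node (.leaf (0, 0)) (.leaf (0, 0))) (.node (.leaf (0, 0)) (.leaf (0, 1755)))) (.node (.node (.leaf (0, 0)) (.leaf (11, 1596))) (.leaf (13, 993)))))) (.node (.node (.node (.node (.node (.leaf (0, 0)) (.leaf (0, 0))) (.node (.leaf (0, 0)) (.leaf (12, 852)))) (.node (.node (.leaf (7, 1085)) (.leaf (10, 78))) (.node (.leaf (0, 0)) (.leaf (13, 1851))))) (.node (.node (.node (.leaf (0, 0)) (.leaf (0, 0))) (.node (.leaf (0, 0)) (.leaf (13, 1723)))) (.node (.node (.leaf (0, 0)) (.leaf (0, 1467))) (.leaf (0, 955))))) (.node (.node (.node (.node (.leaf (0, 0)) (.leaf (2, 33))) (.node (.leaf (13, 1312)) (.leaf (4, 71)))) (.node (.node (.leaf (0, 0)) (.leaf (13, 1403)))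 (.node (.leaf (0, 0)) (.leaf (13, 1811))))) (.node (.node (.node (.leaf (0, 0)) (.leaf (13, 1250))) (.node (.leaf (0, 0)) (.leaf (13, 1892)))) (.node (.node (.leaf (0, 0)) (.leaf (13, 1846))) (.leaf (13, 1252))))))))) (.node (.node (.node (.node (.node (.node (.node (.node (.leaf (0, 7)) (.leaf (13, 1392))) (.node (.leaf (0, 0)) (.leaf (13, 1183)))) (.node (.node (.leaf (0, 0)) (.leaf (0, 0))) (.node (.leaf (0, 0)) (.leaf (13, 726))))) (.node (.node (.node (.leaf (0, 0)) (.leaf (13, 1572))) (.node (.leaf (0, 0)) (.leaf (13, 1236)))) (.node (.node (.leaf (3, 628)) (.leaf (0, 0))) (.node (.leaf (10, 1670)) (.leaf (13, 1927)))))) (.node (.node (.node (.node (.leaf (0, 0)) (.leaf (13, 1095))) (.node (.leaf (0, 583)) (.leaf (8, 1891)))) (.node (.node (.leaf (0, 0)) (.leaf (12, 60))) (.node (.leaf (13, 1237)) (.leaf (13, 526))))) (.node (.node (.node (.leaf (0, 0)) (.leaf (13, 1722))) (.node (.leaf (0, 0)) (.leaf (13, 1735)))) (.node (.node (.leaf (4, 34)) (.leaf (13, 1479))) (.leaf (0, 0)))))) (.node (.node (.node (.node (.node (.leaf (0,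 0)) (.leaf (13, 1527))) (.node (.leaf (0, 0)) (.leaf (7, 1575)))) (.node (.node (.leaf (0, 0)) (.leaf (0, 0))) (.node (.leaf (0, 0)) (.leaf (12, 1831))))) (.node (.node (.node (.leaf (0, 167)) (.leaf (0, 0))) (.node (.leaf (0, 0)) (.leaf (13, 1311)))) (.node (.node (.leaf (0, 0)) (.leaf (13, 907))) (.leaf (0, 0))))) (.node (.node (.node (.node (.leaf (0, 0)) (.leaf (0, 0))) (.node (.leaf (0, 0)) (.leaf (0, 0)))) (.node (.node (.leaf (0, 359)) (.leaf (0, 0))) (.node (.leaf (0, 0)) (.leaf (13, 1655))))) (.node (.node (.node (.leaf (0, 0)) (.leaf (12, 548))) (.node (.leaf (0, 0)) (.leaf (0, 0)))) (.node (.node (.leaf (0, 0)) (.leaf (12, 1511))) (.leaf (0, 0))))))) (.node (.node (.node (.node (.node (.node (.leaf (0, 0)) (.leaf (13, 658))) (.node (.leaf (0, 0)) (.leaf (0, 0)))) (.node (.node (.leaf (0, 0)) (.leaf (13, 1322))) (.node (.leaf (0, 0)) (.leaf (13, 1503))))) (.node (.node (.node (.leaf (0, 0)) (.leaf (0, 1175))) (.node (.leaf (0, 0)) (.leaf (0, 0)))) (.node (.node (.leaf (0, 407)) (.leaf (13, 721))) (.node (.leaf (0, 0)) (.leaf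 (13, 1943)))))) (.node (.node (.node (.node (.leaf (0, 0)) (.leaf (0, 0))) (.node (.leaf (0, 599)) (.leaf (13, 1823)))) (.node (.node (.leaf (0, 0)) (.leaf (12, 120))) (.node (.leaf (13, 1206)) (.leaf (13, 235))))) (.node (.node (.node (.leaf (0, 0)) (.leaf (0, 0))) (.node (.leaf (9, 726)) (.leaf (0, 1751)))) (.node (.node (.leaf (11, 1544)) (.leaf (0, 1583))) (.leaf (0, 0)))))) (.node (.node (.node (.node (.node (.leaf (0, 0)) (.leaf (11, 1154))) (.node (.leaf (0, 0)) (.leaf (0, 1591)))) (.node (.node (.leaf (5, 310)) (.leaf (0, 0))) (.node (.leaf (0, 0)) (.leaf (0, 0))))) (.node (.node (.node (.leaf (2, 25)) (.leaf (0, 0))) (.node (.leaf (13, 1107)) (.leaf (3, 1485)))) (.node (.node (.leaf (0, 0)) (.leaf (0, 1463))) (.leaf (13, 416))))) (.node (.node (.node (.node (.leaf (0, 0)) (.leaf (0, 0))) (.node (.leaf (0, 0)) (.leaf (0, 0)))) (.node (.node (.leaf (0, 0)) (.leaf (13, 691))) (.node (.leaf (3, 1440)) (.leaf (0, 1911))))) (.node (.node (.node (.leaf (0, 0)) (.leaf (0, 1271))) (.node (.leaf (0, 0)) (.leaf (11, 1421)))) (.node (.node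 (.leaf (0, 0)) (.leaf (0, 0))) (.leaf (13, 1669)))))))) (.node (.node (.node (.node (.node (.node (.node (.leaf (0, 0)) (.leaf (0, 0))) (.node (.leaf (0, 0)) (.leaf (13, 1863)))) (.node (.node (.leaf (0, 0)) (.leaf (13, 1636))) (.node (.leaf (0, 0)) (.leaf (13, 958))))) (.node (.node (.node (.leaf (0, 0)) (.leaf (0, 0))) (.node (.leaf (0, 0)) (.leaf (0, 1679)))) (.node (.node (.leaf (0, 0)) (.leaf (13, 1876))) (.node (.leaf (0, 0)) (.leaf (4, 1784)))))) (.node (.node (.node (.node (.leaf (2, 10)) (.leaf (0, 0))) (.node (.leaf (0, 0)) (.leaf (9, 1615)))) (.node (.node (.leaf (0, 0)) (.leaf (0, 0))) (.node (.leaf (0, 0)) (.leaf (13, 719))))) (.node (.node (.node (.leaf (0, 0)) (.leaf (13, 650))) (.node (.leaf (0, 0)) (.leaf (2, 538)))) (.node (.node (.leaf (0, 0)) (.leaf (3, 66))) (.leaf (9, 250)))))) (.node (.node (.node (.node (.node (.leaf (0, 0)) (.leaf (0, 0))) (.node (.leaf (13, 1583)) (.leaf (6, 715)))) (.node (.node (.leaf (0, 0)) (.leaf (13, 1538))) (.node (.leaf (0, 0)) (.leaf (5, 1839))))) (.node (.node (.node (.leaf (2, 24))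 (.leaf (0, 1199))) (.node (.leaf (0, 0)) (.leaf (9, 546)))) (.node (.node (.leaf (0, 0)) (.leaf (13, 1102))) (.leaf (0, 0))))) (.node (.node (.node (.node (.leaf (0, 0)) (.leaf (0, 0))) (.node (.leaf (0, 623)) (.leaf (13, 1205)))) (.node (.node (.leaf (0, 0)) (.leaf (13, 1742))) (.node (.leaf (0, 0)) (.leaf (0, 1903))))) (.node (.node (.node (.leaf (0, 0)) (.leaf (13, 1897))) (.node (.leaf (0, 0)) (.leaf (13, 1408)))) (.node (.node (.leaf (0, 0)) (.leaf (13, 1083))) (.leaf (0, 0))))))) (.node (.node (.node (.node (.node (.node (.leaf (0, 0)) (.leaf (0, 1055))) (.node (.leaf (0, 0)) (.leaf (13, 263)))) (.node (.node (.leaf (0, 0)) (.leaf (12, 1545))) (.node (.leaf (0, 0)) (.leaf (12, 683))))) (.node (.node (.node (.leaf (0, 0)) (.leaf (13, 763))) (.node (.leaf (0, 0)) (.leaf (9, 181)))) (.node (.node (.leaf (0, 0)) (.leaf (13, 1374))) (.leaf (0, 0))))) (.node (.node (.node (.node (.leaf (0, 0)) (.leaf (0, 0))) (.node (.leaf (3, 192)) (.leaf (3, 1631)))) (.node (.node (.leaf (12, 349)) (.leaf (0, 0))) (.node (.leaf (0, 0)) (.leaf (0, 1887)))))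 (.node (.node (.node (.leaf (4, 223)) (.leaf (0, 0))) (.node (.leaf (0, 0)) (.leaf (0, 1759)))) (.node (.node (.leaf (0, 479)) (.leaf (0, 0))) (.leaf (0, 991)))))) (.node (.node (.node (.node (.node (.leaf (0, 63)) (.leaf (0, 0))) (.node (.leaf (10, 575)) (.leaf (12, 997)))) (.node (.node (.leaf (0, 0)) (.leaf (0, 1343))) (.node (.leaf (10, 831)) (.leaf (6, 1611))))) (.node (.node (.node (.leaf (0, 0)) (.leaf (0, 1215))) (.node (.leaf (0, 703)) (.leaf (13, 1861)))) (.node (.node (.leaf (0, 0)) (.leaf (10, 1471))) (.leaf (2, 75))))) (.node (.node (.node (.node (.leaf (13, 125)) (.leaf (13, 1052))) (.node (.leaf (7, 763)) (.leaf (13, 1663)))) (.node (.node (.leaf (0, 0)) (.leaf (13, 1774))) (.node (.leaf (13, 1444)) (.leaf (11, 322))))) (.node (.node (.node (.leaf (3, 1795)) (.leaf (12, 104))) (.node (.leaf (0, 0)) (.leaf (11, 1442)))) (.node (.node (.leaf (0, 0)) (.leaf (0, 0))) (.leaf (0, 0))))))))))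

def threeVia7 : Janko.Tree (ℕ × ℕ) :=
  (.node (.node (.node (.node (.node (.node (.node (.node (.node (.leaf (0, 0)) (.leaf (9, 375))) (.node (.leaf (0, 0)) (.leaf (5, 1717)))) (.node (.node (.leaf (0, 0)) (.leaf (13, 1019))) (.node (.leaf (0, 0)) (.leaf (11, 1440))))) (.node (.node (.node (.leaf (0, 0)) (.leaf (0, 0))) (.node (.leaf (0, 0)) (.leaf (6, 1208)))) (.node (.node (.leaf (0, 0)) (.leaf (13, 1513))) (.node (.leaf (13, 1275)) (.leaf (13, 461)))))) (.node (.node (.node (.node (.leaf (0, 0)) (.leaf (0, 0))) (.node (.leaf (0, 0)) (.leaf (0, 0)))) (.node (.node (.leaf (13, 1553)) (.leaf (10, 301))) (.node (.leaf (0, 0)) (.leaf (11, 1173))))) (.node (.node (.node (.leaf (0, 0)) (.leaf (11, 525))) (.node (.leaf (13, 16)) (.leaf (11, 524)))) (.node (.node (.leaf (0, 0)) (.leaf (13, 1565))) (.leaf (11, 1215)))))) (.node (.node (.node (.node (.node (.leaf (0, 0)) (.leaf (12, 793))) (.node (.leaf (0, 0)) (.leaf (13, 1416)))) (.node (.node (.leaf (9, 20)) (.leaf (11, 131))) (.node (.leaf (0, 0)) (.leaf (13, 1758))))) (.node (.node (.node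 (.leaf (0, 0)) (.leaf (11, 971))) (.node (.leaf (0, 0)) (.leaf (13, 1803)))) (.node (.node (.leaf (0, 0)) (.leaf (13, 299))) (.leaf (13, 1642))))) (.node (.node (.node (.node (.leaf (0, 0)) (.leaf (3, 1365))) (.node (.leaf (12, 820)) (.leaf (11, 224)))) (.node (.node (.leaf (12, 194)) (.leaf (13, 605))) (.node (.leaf (13, 1208)) (.leaf (11, 756))))) (.node (.node (.node (.leaf (0, 0)) (.leaf (0, 0))) (.node (.leaf (0, 0)) (.leaf (2, 172)))) (.node (.node (.leaf (0, 0)) (.leaf (13, 1455))) (.leaf (11, 850))))))) (.node (.node (.node (.node (.node (.node (.leaf (0, 0)) (.leaf (0, 0))) (.node (.leaf (0, 0)) (.leaf (0, 0)))) (.node (.node (.leaf (0, 0)) (.leaf (13, 1123))) (.node (.leaf (0, 0)) (.leaf (0, 0))))) (.node (.node (.node (.leaf (0, 0)) (.leaf (0, 0))) (.node (.leaf (0, 0)) (.leaf (9, 1557)))) (.node (.node (.leaf (0, 0)) (.leaf (12, 1156))) (.node (.leaf (0, 0)) (.leaf (13, 1696)))))) (.node (.node (.node (.node (.leaf (0, 0)) (.leaf (13, 943))) (.node (.leaf (0, 0)) (.leaf (13, 1923)))) (.node (.node (.leaf (9, 50)) (.leaf (12,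 1207))) (.node (.leaf (2, 1264)) (.leaf (12, 1940))))) (.node (.node (.node (.leaf (0, 0)) (.leaf (0, 0))) (.node (.leaf (0, 0)) (.leaf (13, 411)))) (.node (.node (.leaf (0, 0)) (.leaf (0, 0))) (.leaf (0, 0)))))) (.node (.node (.node (.node (.node (.leaf (0, 0)) (.leaf (0, 0))) (.node (.leaf (0, 0)) (.leaf (0, 0)))) (.node (.node (.leaf (0, 0)) (.leaf (13, 1871))) (.node (.leaf (12, 240)) (.leaf (13, 1865))))) (.node (.node (.node (.leaf (0, 0)) (.leaf (13, 1212))) (.node (.leaf (0, 0)) (.leaf (13, 1386)))) (.node (.node (.leaf (0, 0)) (.leaf (0, 0))) (.leaf (12, 1079))))) (.node (.node (.node (.node (.leaf (0, 0)) (.leaf (11, 722))) (.node (.leaf (0, 0)) (.leaf (9, 769)))) (.node (.node (.leaf (11, 1424)) (.leaf (0, 0))) (.node (.leaf (0, 0)) (.leaf (13, 730))))) (.node (.node (.node (.leaf (0, 0)) (.leaf (0, 0))) (.node (.leaf (4, 1191)) (.leaf (13, 1285)))) (.node (.node (.leaf (0, 0)) (.leaf (13, 1261))) (.leaf (1, 1011)))))))) (.node (.node (.node (.node (.node (.node (.node (.leaf (0, 0)) (.leaf (0, 0))) (.node (.leaf (12, 554))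 (.leaf (3, 316)))) (.node (.node (.leaf (0, 0)) (.leaf (11, 1261))) (.node (.leaf (0, 0)) (.leaf (13, 1725))))) (.node (.node (.node (.leaf (0, 0)) (.leaf (0, 0))) (.node (.leaf (13, 1746)) (.leaf (12, 1418)))) (.node (.node (.leaf (0, 0)) (.leaf (1, 1419))) (.node (.leaf (0, 0)) (.leaf (13, 374)))))) (.node (.node (.node (.node (.leaf (0, 0)) (.leaf (0, 0))) (.node (.leaf (10, 1565)) (.leaf (0, 0)))) (.node (.node (.leaf (13, 1510)) (.leaf (0, 0))) (.node (.leaf (0, 0)) (.leaf (0, 0))))) (.node (.node (.node (.leaf (0, 0)) (.leaf (13, 502))) (.node (.leaf (0, 0)) (.leaf (13, 1347)))) (.node (.node (.leaf (0, 0)) (.leaf (0, 0))) (.leaf (0, 0)))))) (.node (.node (.node (.node (.node (.leaf (0, 0)) (.leaf (0, 0))) (.node (.leaf (0, 0)) (.leaf (12, 1893)))) (.node (.node (.leaf (0, 0)) (.leaf (13, 337))) (.node (.leaf (10, 958)) (.leaf (11, 1834))))) (.node (.node (.node (.leaf (0, 0)) (.leaf (9, 1761))) (.node (.leaf (0, 0)) (.leaf (13, 741)))) (.node (.node (.leaf (0, 0)) (.leaf (12, 1338))) (.leaf (2, 324))))) (.node (.node (.node (.node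 (.leaf (0, 0)) (.leaf (0, 0))) (.node (.leaf (13, 199)) (.leaf (11, 274)))) (.node (.node (.leaf (0, 0)) (.leaf (6, 406))) (.node (.leaf (0, 0)) (.leaf (13, 681))))) (.node (.node (.node (.leaf (0, 0)) (.leaf (10, 1125))) (.node (.leaf (0, 0)) (.leaf (13, 799)))) (.node (.node (.leaf (0, 0)) (.leaf (0, 0))) (.leaf (0, 0))))))) (.node (.node (.node (.node (.node (.node (.leaf (0, 0)) (.leaf (0, 0))) (.node (.leaf (0, 0)) (.leaf (13, 1707)))) (.node (.node (.leaf (0, 0)) (.leaf (0, 0))) (.node (.leaf (11, 1253)) (.leaf (0, 0))))) (.node (.node (.node (.leaf (0, 0)) (.leaf (2, 1191))) (.node (.leaf (0, 0)) (.leaf (13, 49)))) (.node (.node (.leaf (0, 0)) (.leaf (13, 1860))) (.node (.leaf (13, 1843)) (.leaf (7, 440)))))) (.node (.node (.node (.node (.leaf (0, 0)) (.leaf (0, 0))) (.node (.leaf (2, 1000)) (.leaf (10, 580)))) (.node (.node (.leaf (0, 0)) (.leaf (12, 1168))) (.node (.leaf (11, 80)) (.leaf (13, 1615))))) (.node (.node (.node (.leaf (0, 0)) (.leaf (0, 0))) (.node (.leaf (0, 0)) (.leaf (13, 1586)))) (.node (.node (.leaf (0, 0)) (.leaf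 (0, 0))) (.leaf (0, 0)))))) (.node (.node (.node (.node (.node (.leaf (0, 0)) (.leaf (0, 0))) (.node (.leaf (0, 0)) (.leaf (13, 1002)))) (.node (.node (.leaf (0, 0)) (.leaf (0, 0))) (.node (.leaf (10, 1631)) (.leaf (13, 1854))))) (.node (.node (.node (.leaf (11, 349)) (.leaf (11, 793))) (.node (.leaf (0, 0)) (.leaf (12, 859)))) (.node (.node (.leaf (0, 0)) (.leaf (12, 490))) (.leaf (6, 181))))) (.node (.node (.node (.node (.leaf (0, 0)) (.leaf (0, 0))) (.node (.leaf (13, 26)) (.leaf (0, 0)))) (.node (.node (.leaf (0, 0)) (.leaf (13, 1822))) (.node (.leaf (0, 0)) (.leaf (12, 986))))) (.node (.node (.node (.leaf (12, 747)) (.leaf (1, 1658))) (.node (.leaf (13, 590)) (.leaf (13, 1485)))) (.node (.node (.leaf (0, 0)) (.leaf (0, 0))) (.leaf (0, 0))))))))) (.node (.node (.node (.node (.node (.node (.node (.node (.leaf (0, 0)) (.leaf (0, 0))) (.node (.leaf (6, 849)) (.leaf (12, 1759)))) (.node (.node (.leaf (0, 0)) (.leaf (13, 333))) (.node (.leaf (0, 0)) (.leaf (12, 593))))) (.node (.node (.node (.leaf (0, 0)) (.leaf (0, 0))) (.node (.leaf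 (13, 1104)) (.leaf (13, 1912)))) (.node (.node (.leaf (0, 0)) (.leaf (9, 921))) (.node (.leaf (2, 546)) (.leaf (13, 308)))))) (.node (.node (.node (.node (.leaf (0, 0)) (.leaf (0, 0))) (.node (.leaf (3, 1667)) (.leaf (13, 1135)))) (.node (.node (.leaf (13, 244)) (.leaf (9, 1700))) (.node (.leaf (0, 0)) (.leaf (12, 1408))))) (.node (.node (.node (.leaf (0, 0)) (.leaf (0, 0))) (.node (.leaf (13, 955)) (.leaf (13, 1905)))) (.node (.node (.leaf (0, 0)) (.leaf (13, 1744))) (.leaf (12, 338)))))) (.node (.node (.node (.node (.node (.leaf (0, 0)) (.leaf (10, 1813))) (.node (.leaf (13, 1481)) (.leaf (12, 992)))) (.node (.node (.leaf (0, 0)) (.leaf (13, 1360))) (.node (.leaf (0, 0)) (.leaf (13, 1073))))) (.node (.node (.node (.leaf (0, 0)) (.leaf (0, 0))) (.node (.leaf (0, 0)) (.leaf (13, 1872)))) (.node (.node (.leaf (1, 1193)) (.leaf (9, 51))) (.leaf (10, 321))))) (.node (.node (.node (.node (.leaf (0, 0)) (.leaf (0, 0))) (.node (.leaf (0, 0)) (.leaf (13, 1452)))) (.node (.node (.leaf (12, 1377)) (.leaf (11, 158))) (.node (.leaf (13, 821)) (.leaf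 (13, 253))))) (.node (.node (.node (.leaf (0, 0)) (.leaf (2, 1448))) (.node (.leaf (0, 0)) (.leaf (4, 1381)))) (.node (.node (.leaf (7, 1453)) (.leaf (0, 0))) (.leaf (0, 0))))))) (.node (.node (.node (.node (.node (.node (.leaf (0, 0)) (.leaf (0, 0))) (.node (.leaf (0, 0)) (.leaf (13, 754)))) (.node (.node (.leaf (0, 0)) (.leaf (0, 0))) (.node (.leaf (0, 0)) (.leaf (0, 0))))) (.node (.node (.node (.leaf (0, 0)) (.leaf (0, 0))) (.node (.leaf (0, 0)) (.leaf (5, 1905)))) (.node (.node (.leaf (0, 0)) (.leaf (0, 0))) (.node (.leaf (12, 526)) (.leaf (13, 274)))))) (.node (.node (.node (.node (.leaf (0, 0)) (.leaf (13, 496))) (.node (.leaf (0, 0)) (.leaf (12, 813)))) (.node (.node (.leaf (0, 0)) (.leaf (0, 0))) (.node (.leaf (13, 1678)) (.leaf (13, 1609))))) (.node (.node (.node (.leaf (0, 0)) (.leaf (0, 0))) (.node (.leaf (0, 0)) (.leaf (13, 1740)))) (.node (.node (.leaf (2, 141)) (.leaf (1, 1880))) (.leaf (13, 1836)))))) (.node (.node (.node (.node (.node (.leaf (0, 0)) (.leaf (0, 0))) (.node (.leaf (0, 0)) (.leaf (0, 0)))) (.node (.node (.leaf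 (0, 0)) (.leaf (13, 528))) (.node (.leaf (0, 0)) (.leaf (12, 726))))) (.node (.node (.node (.leaf (0, 0)) (.leaf (12, 1354))) (.node (.leaf (13, 1643)) (.leaf (12, 1809)))) (.node (.node (.leaf (0, 0)) (.leaf (13, 959))) (.leaf (10, 12))))) (.node (.node (.node (.node (.leaf (0, 0)) (.leaf (13, 1007))) (.node (.leaf (0, 0)) (.leaf (13, 1679)))) (.node (.node (.leaf (12, 191)) (.leaf (11, 942))) (.node (.leaf (0, 0)) (.leaf (13, 1940))))) (.node (.node (.node (.leaf (0, 0)) (.leaf (13, 18))) (.node (.leaf (0, 0)) (.leaf (13, 1920)))) (.node (.node (.leaf (0, 0)) (.leaf (12, 546))) (.leaf (13, 940)))))))) (.node (.node (.node (.node (.node (.node (.node (.leaf (0, 0)) (.leaf (0, 0))) (.node (.leaf (10, 512)) (.leaf (13, 699)))) (.node (.node (.leaf (0, 0)) (.leaf (0, 0))) (.node (.leaf (0, 0)) (.leaf (12, 1740))))) (.node (.node (.node (.leaf (0, 0)) (.leaf (0, 0))) (.node (.leaf (13, 381)) (.leaf (11, 467)))) (.node (.node (.leaf (0, 0)) (.leaf (13, 962))) (.node (.leaf (0, 0)) (.leaf (13, 1828)))))) (.node (.node (.node (.node (.leaf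 (0, 0)) (.leaf (7, 404))) (.node (.leaf (0, 0)) (.leaf (11, 1055)))) (.node (.node (.leaf (4, 226)) (.leaf (13, 601))) (.node (.leaf (0, 0)) (.leaf (11, 1346))))) (.node (.node (.node (.leaf (0, 0)) (.leaf (13, 818))) (.node (.leaf (0, 0)) (.leaf (11, 975)))) (.node (.node (.leaf (4, 37)) (.leaf (12, 430))) (.leaf (12, 1085)))))) (.node (.node (.node (.node (.node (.leaf (0, 0)) (.leaf (0, 0))) (.node (.leaf (0, 0)) (.leaf (0, 0)))) (.node (.node (.leaf (1, 303)) (.leaf (9, 1179))) (.node (.leaf (0, 0)) (.leaf (10, 1355))))) (.node (.node (.node (.leaf (0, 0)) (.leaf (0, 0))) (.node (.leaf (0, 0)) (.leaf (13, 146)))) (.node (.node (.leaf (0, 0)) (.leaf (12, 994))) (.leaf (0, 0))))) (.node (.node (.node (.node (.leaf (0, 0)) (.leaf (12, 133))) (.node (.leaf (9, 105)) (.leaf (12, 693)))) (.node (.node (.leaf (13, 1356)) (.leaf (0, 0))) (.node (.leaf (12, 550)) (.leaf (12, 1882))))) (.node (.node (.node (.leaf (0, 0)) (.leaf (13, 475))) (.node (.leaf (0, 0)) (.leaf (13, 1190)))) (.node (.node (.leaf (0, 0)) (.leaf (12, 1529))) (.leaf (11,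 452))))))) (.node (.node (.node (.node (.node (.node (.leaf (0, 0)) (.leaf (0, 0))) (.node (.leaf (0, 0)) (.leaf (12, 1433)))) (.node (.node (.leaf (0, 0)) (.leaf (12, 1724))) (.node (.leaf (2, 1699)) (.leaf (10, 1232))))) (.node (.node (.node (.leaf (2, 527)) (.leaf (5, 1437))) (.node (.leaf (12, 664)) (.leaf (0, 0)))) (.node (.node (.leaf (0, 0)) (.leaf (0, 0))) (.leaf (13, 1046))))) (.node (.node (.node (.node (.leaf (0, 0)) (.leaf (0, 0))) (.node (.leaf (0, 0)) (.leaf (0, 0)))) (.node (.node (.leaf (0, 0)) (.leaf (8, 1384))) (.node (.leaf (0, 0)) (.leaf (12, 749))))) (.node (.node (.node (.leaf (0, 0)) (.leaf (11, 1896))) (.node (.leaf (0, 0)) (.leaf (13, 1188)))) (.node (.node (.leaf (7, 1500)) (.leaf (13, 1667))) (.leaf (0, 0)))))) (.node (.node (.node (.node (.node (.leaf (0, 0)) (.leaf (4, 1401))) (.node (.leaf (0, 0)) (.leaf (13, 722)))) (.node (.node (.leaf (0, 0)) (.leaf (5, 300))) (.node (.leaf (13, 67)) (.leaf (2, 1557))))) (.node (.node (.node (.leaf (0, 0)) (.leaf (13, 1433))) (.node (.leaf (0, 0)) (.leaf (13, 1262))))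 (.node (.node (.leaf (0, 0)) (.leaf (13, 1745))) (.leaf (0, 0))))) (.node (.node (.node (.node (.leaf (0, 0)) (.leaf (0, 0))) (.node (.leaf (0, 0)) (.leaf (0, 0)))) (.node (.node (.leaf (0, 0)) (.leaf (13, 1840))) (.node (.leaf (0, 0)) (.leaf (13, 782))))) (.node (.node (.node (.leaf (0, 0)) (.leaf (0, 0))) (.node (.leaf (0, 0)) (.leaf (13, 195)))) (.node (.node (.leaf (13, 218)) (.leaf (13, 1635))) (.leaf (13, 1699))))))))))

def threeVia : Janko.Tree (ℕ × ℕ) := (.node (.node (.node threeVia0 threeVia4) (.node threeVia2 threeVia6)) (.node (.node threeVia1 threeVia5) (.node threeVia3 threeVia7)))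

def threeRels : List (List Bool) := [[false, false, false, false], [true, true, true, true, true, true, true, true], [false, false, true, false, true, true, false, false, true, true, true], [false, false, false, true, false, true, false, true, false, false, false, true, true, false, true], [false, false, false, true, true, false, false, true, false, false, true, true, false, false, true], [false, false, false, true, false, true, true, false, true, false, false, true, true, false, true, true], [false, false, false, true, false, true, true, true, false, false, false, true, false, true, true, true], [false, false, true, true, false, true, false, true, false, false, true, true, false, true, false, true], [false, true, false, true, false, true, false, true, false, true, false, true, false, true, false, true], [false, false, false, true, false, false, true, true, false, true, true, false, true, true, true, true, true], [false, false, false, true, false, true, true, true, false, true, true, true, true, true, false, false, true], [false, false,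 false, true, true, false, false, true, true, false, true, true, true, false, true, true, true], [false, false, true, false, false, true, false, true, true, true, false, true, true, true, false, true, true], [false, false, true, false, false, true, true, true, true, true, false, true, false, true, true, false, true]]

/-- the certificate -/
def threeCert : CentralCoded.Cert :=
  { op := mulC, one := oneC, N := 1944, g0 := 2840850409901209155900439298303552211809251889310, g1 := 57803101054241896052095627510444235020673702242, m0 := 4, m1 := 8, rels := threeRels, P := 1,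
    elt := threeElt, next := threeNext, word := threeWord, par := threePar, L := threeL, kind := threeKind, rank := threeRank,
    via := threeVia, pv := [3890] }

def threeOrd0 : Janko.Tree (ℕ) :=
  (.node (.node (.node (.node (.node (.node (.node (.node (.leaf 655) (.leaf 167)) (.node (.leaf 1312) (.leaf 1030))) (.node (.node (.leaf 1817) (.leaf 119)) (.node (.leaf 1715) (.leaf 121)))) (.node (.node (.node (.leaf 1347) (.leaf 1649)) (.node (.leaf 192) (.leaf 1088))) (.node (.node (.leaf 783) (.leaf 866)) (.node (.leaf 1182) (.leaf 323))))) (.node (.node (.node (.node (.leaf 680) (.leaf 298)) (.node (.leaf 785) (.leaf 1370))) (.node (.node (.leaf 432) (.leaf 6)) (.node (.leaf 180) (.leaf 1741)))) (.node (.node (.node (.leaf 1823) (.leaf 1602)) (.node (.leaf 1016) (.leaf 535))) (.node (.node (.leaf 604) (.leaf 1465)) (.leaf 526))))) (.node (.node (.node (.node (.node (.leaf 1225) (.leaf 138)) (.node (.leaf 881) (.leaf 114))) (.node (.node (.leaf 484) (.leaf 411)) (.node (.leaf 268) (.leaf 1526)))) (.node (.node (.node (.leaf 700) (.leaf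 1570)) (.node (.leaf 1501) (.leaf 734))) (.node (.node (.leaf 1630) (.leaf 867)) (.leaf 237)))) (.node (.node (.node (.node (.leaf 851) (.leaf 1897)) (.node (.leaf 1850) (.leaf 392))) (.node (.node (.leaf 1754) (.leaf 206)) (.node (.leaf 1033) (.leaf 838)))) (.node (.node (.node (.leaf 437) (.leaf 988)) (.node (.leaf 1767) (.leaf 413))) (.node (.node (.leaf 768) (.leaf 842)) (.leaf 1167)))))) (.node (.node (.node (.node (.node (.node (.leaf 495) (.leaf 553)) (.node (.leaf 1539) (.leaf 927))) (.node (.node (.leaf 1291) (.leaf 1132)) (.node (.leaf 1130) (.leaf 1150)))) (.node (.node (.node (.leaf 1517) (.leaf 1432)) (.node (.leaf 260) (.leaf 705))) (.node (.node (.leaf 1666) (.leaf 536)) (.node (.leaf 752) (.leaf 1617))))) (.node (.node (.node (.node (.leaf 1848) (.leaf 71)) (.node (.leaf 1721) (.leaf 1671))) (.node (.node (.leaf 676) (.leaf 1590)) (.node (.leaf 367) (.leaf 1718)))) (.node (.node (.node (.leaf 1375) (.leaf 730)) (.node (.leaf 1512) (.leaf 1239))) (.node (.node (.leaf 885) (.leaf 1674)) (.leaf 1307))))) (.node (.node (.node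 (.node (.node (.leaf 575) (.leaf 1168)) (.node (.leaf 238) (.leaf 1308))) (.node (.node (.leaf 1798) (.leaf 781)) (.node (.leaf 1151) (.leaf 1273)))) (.node (.node (.node (.leaf 1355) (.leaf 1910)) (.node (.leaf 1510) (.leaf 1368))) (.node (.node (.leaf 1078) (.leaf 1361)) (.leaf 558)))) (.node (.node (.node (.node (.leaf 696) (.leaf 1888)) (.node (.leaf 1909) (.leaf 249))) (.node (.node (.leaf 1907) (.leaf 156)) (.node (.leaf 1781) (.leaf 385)))) (.node (.node (.node (.leaf 1516) (.leaf 446)) (.node (.leaf 1125) (.leaf 371))) (.node (.node (.leaf 1387) (.leaf 1626)) (.leaf 62))))))) (.node (.node (.node (.node (.node (.node (.node (.leaf 1586) (.leaf 236)) (.node (.leaf 1677) (.leaf 999))) (.node (.node (.leaf 1722) (.leaf 1427)) (.node (.leaf 1060) (.leaf 1524)))) (.node (.node (.node (.leaf 874) (.leaf 918)) (.node (.leaf 1028) (.leaf 809))) (.node (.node (.leaf 295) (.leaf 1507)) (.node (.leaf 1372) (.leaf 1476))))) (.node (.node (.node (.node (.leaf 273) (.leaf 538)) (.node (.leaf 442) (.leaf 814))) (.node (.node (.leaf 1704) (.leaf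 576)) (.node (.leaf 1724) (.leaf 829)))) (.node (.node (.node (.leaf 1928) (.leaf 1299)) (.node (.leaf 1629) (.leaf 1052))) (.node (.node (.leaf 74) (.leaf 219)) (.leaf 1417))))) (.node (.node (.node (.node (.node (.leaf 1826) (.leaf 258)) (.node (.leaf 1094) (.leaf 1466))) (.node (.node (.leaf 1004) (.leaf 1190)) (.node (.leaf 995) (.leaf 1821)))) (.node (.node (.node (.leaf 143) (.leaf 721)) (.node (.leaf 1421) (.leaf 1481))) (.node (.node (.leaf 436) (.leaf 839)) (.leaf 1702)))) (.node (.node (.node (.node (.leaf 908) (.leaf 555)) (.node (.leaf 277) (.leaf 634))) (.node (.node (.leaf 1783) (.leaf 201)) (.node (.leaf 328) (.leaf 1294)))) (.node (.node (.node (.leaf 1061) (.leaf 1873)) (.node (.leaf 1378) (.leaf 687))) (.node (.node (.leaf 1329) (.leaf 907)) (.leaf 846)))))) (.node (.node (.node (.node (.node (.node (.leaf 1062) (.leaf 1256)) (.node (.leaf 1900) (.leaf 301))) (.node (.node (.leaf 1351) (.leaf 149)) (.node (.leaf 242) (.leaf 1840)))) (.node (.node (.node (.leaf 1550) (.leaf 761)) (.node (.leaf 1129) (.leaf 418))) (.node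 (.node (.leaf 425) (.leaf 1637)) (.leaf 226)))) (.node (.node (.node (.node (.leaf 1434) (.leaf 720)) (.node (.leaf 153) (.leaf 664))) (.node (.node (.leaf 1220) (.leaf 961)) (.node (.leaf 235) (.leaf 1791)))) (.node (.node (.node (.leaf 248) (.leaf 1608)) (.node (.leaf 359) (.leaf 986))) (.node (.node (.leaf 1852) (.leaf 1436)) (.leaf 1020))))) (.node (.node (.node (.node (.node (.leaf 506) (.leaf 1105)) (.node (.leaf 1565) (.leaf 1901))) (.node (.node (.leaf 1506) (.leaf 1406)) (.node (.leaf 1592) (.leaf 1315)))) (.node (.node (.node (.leaf 1238) (.leaf 1779)) (.node (.leaf 1878) (.leaf 1252))) (.node (.node (.leaf 906) (.leaf 597)) (.leaf 251)))) (.node (.node (.node (.node (.leaf 799) (.leaf 1111)) (.node (.leaf 920) (.leaf 477))) (.node (.node (.leaf 1505) (.leaf 849)) (.node (.leaf 1003) (.leaf 1247)))) (.node (.node (.node (.leaf 332) (.leaf 905)) (.node (.leaf 1835) (.leaf 1664))) (.node (.node (.leaf 863) (.leaf 117)) (.leaf 1492))))))))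

def threeOrd1 : Janko.Tree (ℕ) :=
  (.node (.node (.node (.node (.node (.node (.node (.node (.leaf 1261) (.leaf 1572)) (.node (.leaf 1844) (.leaf 546))) (.node (.node (.leaf 354) (.leaf 1142)) (.node (.leaf 26) (.leaf 1493)))) (.node (.node (.node (.leaf 429) (.leaf 1929)) (.node (.leaf 1475) (.leaf 540))) (.node (.node (.leaf 1498) (.leaf 1091)) (.node (.leaf 537) (.leaf 1676))))) (.node (.node (.node (.node (.leaf 1074) (.leaf 1021)) (.node (.leaf 154) (.leaf 109))) (.node (.node (.leaf 782) (.leaf 382)) (.node (.leaf 627) (.leaf 1157)))) (.node (.node (.node (.leaf 904) (.leaf 1064)) (.node (.leaf 1022) (.leaf 190))) (.node (.node (.leaf 513) (.leaf 127)) (.leaf 632))))) (.node (.node (.node (.node (.node (.leaf 253) (.leaf 269)) (.node (.leaf 1860) (.leaf 481))) (.node (.node (.leaf 1053) (.leaf 1603)) (.node (.leaf 1813) (.leaf 670)))) (.node (.node (.node (.leaf 265) (.leaf 105)) (.node (.leaf 1757) (.leaf 1655))) (.node (.node (.leaf 1470) (.leaf 1685)) (.leaf 1616)))) (.node (.node (.node (.node (.leaf 793) (.leaf 374)) (.node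 (.leaf 1868) (.leaf 288))) (.node (.node (.leaf 1300) (.leaf 642)) (.node (.leaf 1777) (.leaf 1487)))) (.node (.node (.node (.leaf 1912) (.leaf 86)) (.node (.leaf 77) (.leaf 355))) (.node (.node (.leaf 186) (.leaf 1073)) (.leaf 623)))))) (.node (.node (.node (.node (.node (.node (.leaf 669) (.leaf 1140)) (.node (.leaf 1455) (.leaf 1448))) (.node (.node (.leaf 1301) (.leaf 1904)) (.node (.leaf 1665) (.leaf 423)))) (.node (.node (.node (.leaf 1788) (.leaf 1010)) (.node (.leaf 964) (.leaf 73))) (.node (.node (.leaf 170) (.leaf 476)) (.node (.leaf 1625) (.leaf 1838))))) (.node (.node (.node (.node (.leaf 1803) (.leaf 1227)) (.node (.leaf 981) (.leaf 1856))) (.node (.node (.leaf 1342) (.leaf 1646)) (.node (.leaf 1707) (.leaf 66)))) (.node (.node (.node (.leaf 802) (.leaf 551)) (.node (.leaf 1712) (.leaf 107))) (.node (.node (.leaf 887) (.leaf 529)) (.leaf 1889))))) (.node (.node (.node (.node (.node (.leaf 1809) (.leaf 9)) (.node (.leaf 948) (.leaf 55))) (.node (.node (.leaf 543) (.leaf 1635)) (.node (.leaf 157) (.leaf 1675)))) (.node (.node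 (.node (.leaf 660) (.leaf 1743)) (.node (.leaf 681) (.leaf 983))) (.node (.node (.leaf 788) (.leaf 1194)) (.leaf 1545)))) (.node (.node (.node (.node (.leaf 917) (.leaf 889)) (.node (.leaf 835) (.leaf 1554))) (.node (.node (.leaf 1729) (.leaf 225)) (.node (.leaf 95) (.leaf 1044)))) (.node (.node (.node (.leaf 247) (.leaf 1533)) (.node (.leaf 1250) (.leaf 726))) (.node (.node (.leaf 514) (.leaf 956)) (.leaf 185))))))) (.node (.node (.node (.node (.node (.node (.node (.leaf 984) (.leaf 1067)) (.node (.leaf 1231) (.leaf 1701))) (.node (.node (.leaf 921) (.leaf 830)) (.node (.leaf 1275) (.leaf 373)))) (.node (.node (.node (.leaf 1899) (.leaf 1089)) (.node (.leaf 266) (.leaf 967))) (.node (.node (.leaf 241) (.leaf 757)) (.node (.leaf 784) (.leaf 663))))) (.node (.node (.node (.node (.leaf 1278) (.leaf 677)) (.node (.leaf 1509) (.leaf 1377))) (.node (.node (.leaf 1720) (.leaf 1443)) (.node (.leaf 1902) (.leaf 1127)))) (.node (.node (.node (.leaf 629) (.leaf 450)) (.node (.leaf 1328) (.leaf 1558))) (.node (.node (.leaf 1776) (.leaf 1215)) (.leaf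 1059))))) (.node (.node (.node (.node (.node (.leaf 1478) (.leaf 879)) (.node (.leaf 795) (.leaf 925))) (.node (.node (.leaf 327) (.leaf 1046)) (.node (.leaf 1394) (.leaf 1642)))) (.node (.node (.node (.leaf 1289) (.leaf 128)) (.node (.leaf 1925) (.leaf 745))) (.node (.node (.leaf 126) (.leaf 243)) (.leaf 1843)))) (.node (.node (.node (.node (.leaf 1770) (.leaf 428)) (.node (.leaf 978) (.leaf 894))) (.node (.node (.leaf 1695) (.leaf 415)) (.node (.leaf 375) (.leaf 1474)))) (.node (.node (.node (.leaf 441) (.leaf 713)) (.node (.leaf 463) (.leaf 1684))) (.node (.node (.leaf 315) (.leaf 789)) (.leaf 1564)))))) (.node (.node (.node (.node (.node (.node (.leaf 1917) (.leaf 45)) (.node (.leaf 965) (.leaf 710))) (.node (.node (.leaf 1293) (.leaf 854)) (.node (.leaf 595) (.leaf 491)))) (.node (.node (.node (.leaf 1409) (.leaf 1388)) (.node (.leaf 1086) (.leaf 1350))) (.node (.node (.leaf 231) (.leaf 1811)) (.leaf 1639)))) (.node (.node (.node (.node (.leaf 569) (.leaf 1166)) (.node (.leaf 694) (.leaf 875))) (.node (.node (.leaf 1667) (.leaf 1087))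 (.node (.leaf 116) (.leaf 1154)))) (.node (.node (.node (.leaf 161) (.leaf 403)) (.node (.leaf 943) (.leaf 547))) (.node (.node (.leaf 233) (.leaf 622)) (.leaf 1943))))) (.node (.node (.node (.node (.node (.leaf 1604) (.leaf 1596)) (.node (.leaf 1396) (.leaf 87))) (.node (.node (.leaf 38) (.leaf 770)) (.node (.leaf 1453) (.leaf 1569)))) (.node (.node (.node (.leaf 741) (.leaf 349)) (.node (.leaf 1736) (.leaf 1179))) (.node (.node (.leaf 1359) (.leaf 1532)) (.leaf 682)))) (.node (.node (.node (.node (.leaf 858) (.leaf 600)) (.node (.leaf 1385) (.leaf 1460))) (.node (.node (.leaf 930) (.leaf 759)) (.node (.leaf 976) (.leaf 334)))) (.node (.node (.node (.leaf 317) (.leaf 1786)) (.node (.leaf 1333) (.leaf 304))) (.node (.node (.leaf 1049) (.leaf 1379)) (.leaf 1573))))))))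

def threeOrd2 : Janko.Tree (ℕ) :=
  (.node (.node (.node (.node (.node (.node (.node (.node (.leaf 1322) (.leaf 1133)) (.node (.leaf 857) (.leaf 987))) (.node (.node (.leaf 438) (.leaf 760)) (.node (.leaf 982) (.leaf 565)))) (.node (.node (.node (.leaf 1769) (.leaf 330)) (.node (.leaf 746) (.leaf 1854))) (.node (.node (.leaf 335) (.leaf 571)) (.node (.leaf 211) (.leaf 1794))))) (.node (.node (.node (.node (.leaf 1714) (.leaf 1719)) (.node (.leaf 308) (.leaf 833))) (.node (.node (.leaf 130) (.leaf 202)) (.node (.leaf 1537) (.leaf 1144)))) (.node (.node (.node (.leaf 1829) (.leaf 1911)) (.node (.leaf 1255) (.leaf 49))) (.node (.node (.leaf 410) (.leaf 207)) (.leaf 1380))))) (.node (.node (.node (.node (.node (.leaf 1319) (.leaf 1005)) (.node (.leaf 1253) (.leaf 876))) (.node (.node (.leaf 1416) (.leaf 1926)) (.node (.leaf 1706) (.leaf 1540)))) (.node (.node (.node (.leaf 1405) (.leaf 847)) (.node (.leaf 968) (.leaf 311))) (.node (.node (.leaf 364) (.leaf 1913)) (.leaf 50)))) (.node (.node (.node (.node (.leaf 1424) (.leaf 1793)) (.node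 (.leaf 998) (.leaf 1513))) (.node (.node (.leaf 878) (.leaf 307)) (.node (.leaf 1893) (.leaf 652)))) (.node (.node (.node (.leaf 33) (.leaf 1467)) (.node (.leaf 213) (.leaf 1669))) (.node (.node (.leaf 1346) (.leaf 1143)) (.leaf 711)))))) (.node (.node (.node (.node (.node (.node (.leaf 898) (.leaf 148)) (.node (.leaf 1109) (.leaf 1660))) (.node (.node (.leaf 106) (.leaf 1135)) (.node (.leaf 848) (.leaf 1576)))) (.node (.node (.node (.leaf 41) (.leaf 493)) (.node (.leaf 1531) (.leaf 919))) (.node (.node (.leaf 714) (.leaf 1248)) (.node (.leaf 754) (.leaf 827))))) (.node (.node (.node (.node (.leaf 1816) (.leaf 691)) (.node (.leaf 133) (.leaf 1240))) (.node (.node (.leaf 75) (.leaf 360)) (.node (.leaf 1647) (.leaf 140)))) (.node (.node (.node (.leaf 1331) (.leaf 1077)) (.node (.leaf 1483) (.leaf 1577))) (.node (.node (.leaf 590) (.leaf 23)) (.leaf 825))))) (.node (.node (.node (.node (.node (.leaf 394) (.leaf 697)) (.node (.leaf 1327) (.leaf 1392))) (.node (.node (.leaf 488) (.leaf 1890)) (.node (.leaf 53) (.leaf 1326)))) (.node (.node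 (.node (.leaf 805) (.leaf 1939)) (.node (.leaf 1042) (.leaf 1538))) (.node (.node (.leaf 614) (.leaf 1566)) (.leaf 191)))) (.node (.node (.node (.node (.leaf 1693) (.leaf 824)) (.node (.leaf 29) (.leaf 208))) (.node (.node (.leaf 1002) (.leaf 471)) (.node (.leaf 1418) (.leaf 274)))) (.node (.node (.node (.leaf 608) (.leaf 10)) (.node (.leaf 1891) (.leaf 1200))) (.node (.node (.leaf 1292) (.leaf 465)) (.leaf 554))))))) (.node (.node (.node (.node (.node (.node (.node (.leaf 1298) (.leaf 166)) (.node (.leaf 1186) (.leaf 1600))) (.node (.node (.leaf 276) (.leaf 344)) (.node (.leaf 310) (.leaf 1529)))) (.node (.node (.node (.leaf 638) (.leaf 1568)) (.node (.leaf 30) (.leaf 509))) (.node (.node (.leaf 468) (.leaf 84)) (.node (.leaf 1390) (.leaf 1445))))) (.node (.node (.node (.node (.leaf 1006) (.leaf 1012)) (.node (.leaf 1935) (.leaf 1713))) (.node (.node (.leaf 181) (.leaf 737)) (.node (.leaf 1610) (.leaf 421)))) (.node (.node (.node (.leaf 959) (.leaf 572)) (.node (.leaf 1079) (.leaf 615))) (.node (.node (.leaf 605) (.leaf 1173)) (.leaf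 1815))))) (.node (.node (.node (.node (.node (.leaf 1376) (.leaf 1040)) (.node (.leaf 1795) (.leaf 1745))) (.node (.node (.leaf 405) (.leaf 98)) (.node (.leaf 1822) (.leaf 942)))) (.node (.node (.node (.leaf 1107) (.leaf 1145)) (.node (.leaf 187) (.leaf 533))) (.node (.node (.leaf 1528) (.leaf 1760)) (.leaf 464)))) (.node (.node (.node (.node (.leaf 1226) (.leaf 1504)) (.node (.leaf 1593) (.leaf 1156))) (.node (.node (.leaf 1571) (.leaf 709)) (.node (.leaf 501) (.leaf 1297)))) (.node (.node (.node (.leaf 1110) (.leaf 1198)) (.node (.leaf 915) (.leaf 72))) (.node (.node (.leaf 1286) (.leaf 100)) (.leaf 1334)))))) (.node (.node (.node (.node (.node (.node (.leaf 756) (.leaf 1411)) (.node (.leaf 1323) (.leaf 1872))) (.node (.node (.leaf 1446) (.leaf 1403)) (.node (.leaf 37) (.leaf 911)))) (.node (.node (.node (.leaf 763) (.leaf 1007)) (.node (.leaf 1155) (.leaf 82))) (.node (.node (.leaf 953) (.leaf 1270)) (.leaf 1869)))) (.node (.node (.node (.node (.leaf 1739) (.leaf 1643)) (.node (.leaf 99) (.leaf 329))) (.node (.node (.leaf 1631) (.leaf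 1463)) (.node (.leaf 490) (.leaf 1295)))) (.node (.node (.node (.leaf 458) (.leaf 909)) (.node (.leaf 844) (.leaf 1439))) (.node (.node (.leaf 1036) (.leaf 1438)) (.leaf 150))))) (.node (.node (.node (.node (.node (.leaf 728) (.leaf 1490)) (.node (.leaf 977) (.leaf 1338))) (.node (.node (.leaf 1161) (.leaf 1430)) (.node (.leaf 1731) (.leaf 1374)))) (.node (.node (.node (.leaf 306) (.leaf 819)) (.node (.leaf 376) (.leaf 1468))) (.node (.node (.leaf 1259) (.leaf 391)) (.leaf 1942)))) (.node (.node (.node (.node (.leaf 1357) (.leaf 407)) (.node (.leaf 365) (.leaf 1692))) (.node (.node (.leaf 1628) (.leaf 507)) (.node (.leaf 430) (.leaf 1521)))) (.node (.node (.node (.leaf 79) (.leaf 954)) (.node (.leaf 1862) (.leaf 91))) (.node (.node (.leaf 331) (.leaf 1535)) (.leaf 24))))))))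

def threeOrd3 : Janko.Tree (ℕ) :=
  (.node (.node (.node (.node (.node (.node (.node (.node (.leaf 1834) (.leaf 914)) (.node (.leaf 1782) (.leaf 1176))) (.node (.node (.leaf 1599) (.leaf 1934)) (.node (.leaf 704) (.leaf 1883)))) (.node (.node (.node (.leaf 316) (.leaf 1093)) (.node (.leaf 1555) (.leaf 1605))) (.node (.node (.leaf 1399) (.leaf 1437)) (.node (.leaf 815) (.leaf 606))))) (.node (.node (.node (.node (.leaf 1153) (.leaf 1321)) (.node (.leaf 1121) (.leaf 1118))) (.node (.node (.leaf 1814) (.leaf 17)) (.node (.leaf 1663) (.leaf 1574)))) (.node (.node (.node (.leaf 1591) (.leaf 796)) (.node (.leaf 134) (.leaf 337))) (.node (.node (.leaf 449) (.leaf 901)) (.leaf 882))))) (.node (.node (.node (.node (.node (.leaf 336) (.leaf 581)) (.node (.leaf 447) (.leaf 1503))) (.node (.node (.leaf 1382) (.leaf 1877)) (.node (.leaf 1523) (.leaf 85)))) (.node (.node (.node (.leaf 649) (.leaf 685)) (.node (.leaf 54) (.leaf 862))) (.node (.node (.leaf 460) (.leaf 1266)) (.leaf 1847)))) (.node (.node (.node (.node (.leaf 589) (.leaf 1841)) (.node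 (.leaf 520) (.leaf 189))) (.node (.node (.leaf 1216) (.leaf 1423)) (.node (.leaf 1594) (.leaf 725)))) (.node (.node (.node (.leaf 1698) (.leaf 1549)) (.node (.leaf 144) (.leaf 1262))) (.node (.node (.leaf 1303) (.leaf 933)) (.leaf 706)))))) (.node (.node (.node (.node (.node (.node (.leaf 1930) (.leaf 263)) (.node (.leaf 1395) (.leaf 544))) (.node (.node (.leaf 970) (.leaf 416)) (.node (.leaf 579) (.leaf 1449)))) (.node (.node (.node (.leaf 1071) (.leaf 383)) (.node (.leaf 1587) (.leaf 1000))) (.node (.node (.leaf 168) (.leaf 1025)) (.node (.leaf 285) (.leaf 1063))))) (.node (.node (.node (.node (.leaf 1801) (.leaf 361)) (.node (.leaf 34) (.leaf 765))) (.node (.node (.leaf 1690) (.leaf 57)) (.node (.leaf 1882) (.leaf 1790)))) (.node (.node (.node (.leaf 1313) (.leaf 1254)) (.node (.leaf 804) (.leaf 1500))) (.node (.node (.leaf 1391) (.leaf 913)) (.leaf 401))))) (.node (.node (.node (.node (.node (.leaf 357) (.leaf 1290)) (.node (.leaf 279) (.leaf 1832))) (.node (.node (.leaf 607) (.leaf 693)) (.node (.leaf 1543) (.leaf 345)))) (.node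 (.node (.node (.leaf 923) (.leaf 56)) (.node (.leaf 229) (.leaf 792))) (.node (.node (.leaf 1031) (.leaf 744)) (.leaf 1274)))) (.node (.node (.node (.node (.leaf 94) (.leaf 1477)) (.node (.leaf 1511) (.leaf 1100))) (.node (.node (.leaf 1230) (.leaf 797)) (.node (.leaf 93) (.leaf 1855)))) (.node (.node (.node (.leaf 1758) (.leaf 1288)) (.node (.leaf 1263) (.leaf 165))) (.node (.node (.leaf 155) (.leaf 487)) (.leaf 1314))))))) (.node (.node (.node (.node (.node (.node (.node (.leaf 1837) (.leaf 4)) (.node (.leaf 147) (.leaf 1774))) (.node (.node (.leaf 259) (.leaf 18)) (.node (.leaf 176) (.leaf 1019)))) (.node (.node (.node (.leaf 1277) (.leaf 671)) (.node (.leaf 929) (.leaf 1116))) (.node (.node (.leaf 352) (.leaf 841)) (.node (.leaf 420) (.leaf 990))))) (.node (.node (.node (.node (.leaf 1589) (.leaf 969)) (.node (.leaf 172) (.leaf 47))) (.node (.node (.leaf 991) (.leaf 199)) (.node (.leaf 738) (.leaf 777)))) (.node (.node (.node (.leaf 666) (.leaf 751)) (.node (.leaf 498) (.leaf 475))) (.node (.node (.leaf 503) (.leaf 532)) (.leaf 515)))))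 (.node (.node (.node (.node (.node (.leaf 445) (.leaf 1117)) (.node (.leaf 583) (.leaf 944))) (.node (.node (.leaf 994) (.leaf 528)) (.node (.leaf 1001) (.leaf 524)))) (.node (.node (.node (.leaf 902) (.leaf 293)) (.node (.leaf 1792) (.leaf 300))) (.node (.node (.leaf 1645) (.leaf 408)) (.leaf 1866)))) (.node (.node (.node (.node (.leaf 419) (.leaf 1441)) (.node (.leaf 1583) (.leaf 653))) (.node (.node (.leaf 453) (.leaf 412)) (.node (.leaf 1548) (.leaf 584)))) (.node (.node (.node (.leaf 801) (.leaf 197)) (.node (.leaf 1491) (.leaf 61))) (.node (.node (.leaf 1317) (.leaf 1120)) (.leaf 715)))))) (.node (.node (.node (.node (.node (.node (.leaf 341) (.leaf 294)) (.node (.leaf 470) (.leaf 947))) (.node (.node (.leaf 160) (.leaf 769)) (.node (.leaf 1083) (.leaf 1267)))) (.node (.node (.node (.leaf 162) (.leaf 1210)) (.node (.leaf 1189) (.leaf 937))) (.node (.node (.leaf 651) (.leaf 621)) (.leaf 1163)))) (.node (.node (.node (.node (.leaf 479) (.leaf 869)) (.node (.leaf 518) (.leaf 1202))) (.node (.node (.leaf 224) (.leaf 1932)) (.node (.leaf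 1916) (.leaf 743)))) (.node (.node (.node (.leaf 1205) (.leaf 122)) (.node (.leaf 1824) (.leaf 674))) (.node (.node (.leaf 716) (.leaf 146)) (.leaf 541))))) (.node (.node (.node (.node (.node (.leaf 593) (.leaf 1638)) (.node (.leaf 656) (.leaf 1484))) (.node (.node (.leaf 1670) (.leaf 1748)) (.node (.leaf 1224) (.leaf 1075)))) (.node (.node (.node (.leaf 1032) (.leaf 678)) (.node (.leaf 1735) (.leaf 1636))) (.node (.node (.leaf 142) (.leaf 1654)) (.leaf 688)))) (.node (.node (.node (.node (.leaf 864) (.leaf 220)) (.node (.leaf 1141) (.leaf 1842))) (.node (.node (.leaf 1588) (.leaf 1859)) (.node (.leaf 1733) (.leaf 813)))) (.node (.node (.node (.leaf 1578) (.leaf 811)) (.node (.leaf 223) (.leaf 577))) (.node (.node (.leaf 646) (.leaf 230)) (.leaf 1066))))))))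

def threeOrd4 : Janko.Tree (ℕ) :=
  (.node (.node (.node (.node (.node (.node (.node (.node (.leaf 733) (.leaf 534)) (.node (.leaf 702) (.leaf 1283))) (.node (.node (.leaf 1271) (.leaf 753)) (.node (.leaf 1242) (.leaf 1502)))) (.node (.node (.node (.leaf 228) (.leaf 1581)) (.node (.leaf 1039) (.leaf 1097))) (.node (.node (.leaf 342) (.leaf 1773)) (.node (.leaf 1659) (.leaf 1204))))) (.node (.node (.node (.node (.leaf 137) (.leaf 379)) (.node (.leaf 1304) (.leaf 1160))) (.node (.node (.leaf 617) (.leaf 1249)) (.node (.leaf 698) (.leaf 868)))) (.node (.node (.node (.leaf 1402) (.leaf 480)) (.node (.leaf 1682) (.leaf 492))) (.node (.node (.leaf 1316) (.leaf 1138)) (.leaf 1886))))) (.node (.node (.node (.node (.node (.leaf 158) (.leaf 292)) (.node (.leaf 314) (.leaf 1738))) (.node (.node (.leaf 27) (.leaf 826)) (.node (.leaf 1080) (.leaf 1924)))) (.node (.node (.node (.leaf 628) (.leaf 370)) (.node (.leaf 585) (.leaf 1082))) (.node (.node (.leaf 1725) (.leaf 1921)) (.leaf 287)))) (.node (.node (.node (.node (.leaf 1184) (.leaf 1875)) (.node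 (.leaf 1201) (.leaf 1302))) (.node (.node (.leaf 1766) (.leaf 1412)) (.node (.leaf 448) (.leaf 1680)))) (.node (.node (.node (.leaf 1536) (.leaf 362)) (.node (.leaf 1170) (.leaf 163))) (.node (.node (.leaf 611) (.leaf 67)) (.leaf 395)))))) (.node (.node (.node (.node (.node (.node (.leaf 1339) (.leaf 1885)) (.node (.leaf 1349) (.leaf 912))) (.node (.node (.leaf 14) (.leaf 89)) (.node (.leaf 1825) (.leaf 15)))) (.node (.node (.node (.leaf 1874) (.leaf 557)) (.node (.leaf 1827) (.leaf 1320))) (.node (.node (.leaf 1541) (.leaf 90)) (.node (.leaf 550) (.leaf 454))))) (.node (.node (.node (.node (.leaf 431) (.leaf 1619)) (.node (.leaf 1397) (.leaf 76))) (.node (.node (.leaf 1691) (.leaf 639)) (.node (.leaf 1188) (.leaf 1584)))) (.node (.node (.node (.leaf 1534) (.leaf 1336)) (.node (.leaf 1894) (.leaf 1927))) (.node (.node (.leaf 1348) (.leaf 886)) (.leaf 424))))) (.node (.node (.node (.node (.node (.leaf 2) (.leaf 619)) (.node (.leaf 1280) (.leaf 1458))) (.node (.node (.leaf 397) (.leaf 81)) (.node (.leaf 1272) (.leaf 1614)))) (.node (.node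 (.node (.leaf 1444) (.leaf 1435)) (.node (.leaf 979) (.leaf 1452))) (.node (.node (.leaf 1054) (.leaf 1546)) (.leaf 508)))) (.node (.node (.node (.node (.leaf 643) (.leaf 750)) (.node (.leaf 853) (.leaf 1508))) (.node (.node (.leaf 368) (.leaf 64)) (.node (.leaf 762) (.leaf 1627)))) (.node (.node (.node (.leaf 1473) (.leaf 1180)) (.node (.leaf 873) (.leaf 591))) (.node (.node (.leaf 1750) (.leaf 193)) (.leaf 483))))))) (.node (.node (.node (.node (.node (.node (.node (.leaf 1761) (.leaf 703)) (.node (.leaf 1936) (.leaf 588))) (.node (.node (.leaf 1462) (.leaf 1755)) (.node (.leaf 1330) (.leaf 1775)))) (.node (.node (.node (.leaf 1661) (.leaf 1442)) (.node (.leaf 205) (.leaf 1575))) (.node (.node (.leaf 1165) (.leaf 1211)) (.node (.leaf 1763) (.leaf 856))))) (.node (.node (.node (.node (.leaf 343) (.leaf 21)) (.node (.leaf 333) (.leaf 610))) (.node (.node (.leaf 1622) (.leaf 12)) (.node (.leaf 414) (.leaf 1896)))) (.node (.node (.node (.leaf 932) (.leaf 1124)) (.node (.leaf 1341) (.leaf 217))) (.node (.node (.leaf 602) (.leaf 609)) (.leaf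 778))))) (.node (.node (.node (.node (.node (.leaf 548) (.leaf 1325)) (.node (.leaf 1836) (.leaf 1128))) (.node (.node (.leaf 1694) (.leaf 1450)) (.node (.leaf 31) (.leaf 1903)))) (.node (.node (.node (.leaf 1265) (.leaf 1876)) (.node (.leaf 1203) (.leaf 1356))) (.node (.node (.leaf 8) (.leaf 173)) (.leaf 840)))) (.node (.node (.node (.node (.leaf 16) (.leaf 210)) (.node (.leaf 683) (.leaf 209))) (.node (.node (.leaf 1679) (.leaf 1683)) (.node (.leaf 951) (.leaf 897)))) (.node (.node (.node (.leaf 1174) (.leaf 562)) (.node (.leaf 496) (.leaf 1034))) (.node (.node (.leaf 152) (.leaf 1085)) (.leaf 955)))))) (.node (.node (.node (.node (.node (.node (.leaf 1425) (.leaf 467)) (.node (.leaf 1287) (.leaf 1065))) (.node (.node (.leaf 1810) (.leaf 139)) (.node (.leaf 218) (.leaf 499)))) (.node (.node (.node (.leaf 1343) (.leaf 831)) (.node (.leaf 1864) (.leaf 291))) (.node (.node (.leaf 539) (.leaf 1833)) (.leaf 1072)))) (.node (.node (.node (.node (.leaf 648) (.leaf 1070)) (.node (.leaf 1933) (.leaf 427))) (.node (.node (.leaf 594) (.leaf 222))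 (.node (.leaf 729) (.leaf 1218)))) (.node (.node (.node (.leaf 120) (.leaf 837)) (.node (.leaf 883) (.leaf 859))) (.node (.node (.leaf 1208) (.leaf 661)) (.leaf 1354))))) (.node (.node (.node (.node (.node (.leaf 234) (.leaf 1799)) (.node (.leaf 381) (.leaf 1915))) (.node (.node (.leaf 500) (.leaf 724)) (.node (.leaf 1102) (.leaf 25)))) (.node (.node (.node (.leaf 319) (.leaf 1607)) (.node (.leaf 545) (.leaf 1257))) (.node (.node (.leaf 1579) (.leaf 1464)) (.leaf 957)))) (.node (.node (.node (.node (.leaf 320) (.leaf 1393)) (.node (.leaf 774) (.leaf 1101))) (.node (.node (.leaf 1183) (.leaf 936)) (.node (.leaf 708) (.leaf 748)))) (.node (.node (.node (.leaf 52) (.leaf 351)) (.node (.leaf 1709) (.leaf 321))) (.node (.node (.leaf 692) (.leaf 387)) (.leaf 136))))))))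

def threeOrd5 : Janko.Tree (ℕ) :=
  (.node (.node (.node (.node (.node (.node (.node (.node (.leaf 0) (.leaf 505)) (.node (.leaf 1362) (.leaf 1058))) (.node (.node (.leaf 1805) (.leaf 19)) (.node (.leaf 631) (.leaf 1580)))) (.node (.node (.node (.leaf 701) (.leaf 601)) (.node (.leaf 828) (.leaf 309))) (.node (.node (.leaf 353) (.leaf 1650)) (.node (.leaf 1131) (.leaf 772))))) (.node (.node (.node (.node (.leaf 1703) (.leaf 821)) (.node (.leaf 1260) (.leaf 469))) (.node (.node (.leaf 1027) (.leaf 1195)) (.node (.leaf 1104) (.leaf 1820)))) (.node (.node (.node (.leaf 363) (.leaf 719)) (.node (.leaf 1233) (.leaf 1489))) (.node (.node (.leaf 340) (.leaf 466)) (.leaf 1407))))) (.node (.node (.node (.node (.node (.leaf 1251) (.leaf 870)) (.node (.leaf 1711) (.leaf 141))) (.node (.node (.leaf 1178) (.leaf 296)) (.node (.leaf 654) (.leaf 1148)))) (.node (.node (.node (.leaf 1472) (.leaf 1268)) (.node (.leaf 662) (.leaf 1751))) (.node (.node (.leaf 1597) (.leaf 60)) (.leaf 645)))) (.node (.node (.node (.node (.leaf 1038) (.leaf 1037)) (.node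 (.leaf 1386) (.leaf 989))) (.node (.node (.leaf 1296) (.leaf 393)) (.node (.leaf 1309) (.leaf 1369)))) (.node (.node (.node (.leaf 1112) (.leaf 563)) (.node (.leaf 123) (.leaf 560))) (.node (.node (.leaf 462) (.leaf 1768)) (.leaf 178)))))) (.node (.node (.node (.node (.node (.node (.leaf 1609) (.leaf 626)) (.node (.leaf 1279) (.leaf 650))) (.node (.node (.leaf 861) (.leaf 1332)) (.node (.leaf 1413) (.leaf 1414)))) (.node (.node (.node (.leaf 290) (.leaf 1229)) (.node (.leaf 1613) (.leaf 1853))) (.node (.node (.leaf 794) (.leaf 1015)) (.node (.leaf 779) (.leaf 689))))) (.node (.node (.node (.node (.leaf 194) (.leaf 348)) (.node (.leaf 1197) (.leaf 945))) (.node (.node (.leaf 735) (.leaf 240)) (.node (.leaf 404) (.leaf 1800)))) (.node (.node (.node (.leaf 58) (.leaf 1778)) (.node (.leaf 278) (.leaf 1818))) (.node (.node (.leaf 1457) (.leaf 926)) (.leaf 1090))))) (.node (.node (.node (.node (.node (.leaf 736) (.leaf 1705)) (.node (.leaf 1217) (.leaf 871))) (.node (.node (.leaf 1284) (.leaf 1095)) (.node (.leaf 1454) (.leaf 32)))) (.node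 (.node (.node (.leaf 924) (.leaf 776)) (.node (.leaf 1785) (.leaf 1641))) (.node (.node (.leaf 1787) (.leaf 1765)) (.leaf 1276)))) (.node (.node (.node (.node (.leaf 284) (.leaf 807)) (.node (.leaf 1551) (.leaf 417))) (.node (.node (.leaf 1045) (.leaf 384)) (.node (.leaf 699) (.leaf 282)))) (.node (.node (.node (.leaf 712) (.leaf 380)) (.node (.leaf 1404) (.leaf 1041))) (.node (.node (.leaf 5) (.leaf 1018)) (.leaf 281))))))) (.node (.node (.node (.node (.node (.node (.node (.leaf 1428) (.leaf 69)) (.node (.leaf 232) (.leaf 1845))) (.node (.node (.leaf 1212) (.leaf 169)) (.node (.leaf 271) (.leaf 891)))) (.node (.node (.node (.leaf 1681) (.leaf 822)) (.node (.leaf 36) (.leaf 1737))) (.node (.node (.leaf 1556) (.leaf 494)) (.node (.leaf 63) (.leaf 1746))))) (.node (.node (.node (.node (.leaf 267) (.leaf 151)) (.node (.leaf 1732) (.leaf 1863))) (.node (.node (.leaf 1029) (.leaf 773)) (.node (.leaf 1373) (.leaf 1162)))) (.node (.node (.node (.leaf 347) (.leaf 836)) (.node (.leaf 1431) (.leaf 740))) (.node (.node (.leaf 1699) (.leaf 1236))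 (.leaf 667))))) (.node (.node (.node (.node (.node (.leaf 910) (.leaf 1207)) (.node (.leaf 935) (.leaf 1744))) (.node (.node (.leaf 567) (.leaf 303)) (.node (.leaf 1662) (.leaf 1447)))) (.node (.node (.node (.leaf 1471) (.leaf 950)) (.node (.leaf 1870) (.leaf 618))) (.node (.node (.leaf 35) (.leaf 531)) (.leaf 582)))) (.node (.node (.node (.node (.leaf 766) (.leaf 659)) (.node (.leaf 566) (.leaf 625))) (.node (.node (.leaf 504) (.leaf 519)) (.node (.leaf 1742) (.leaf 312)))) (.node (.node (.node (.leaf 1159) (.leaf 326)) (.node (.leaf 246) (.leaf 177))) (.node (.node (.leaf 1716) (.leaf 175)) (.leaf 455)))))) (.node (.node (.node (.node (.node (.node (.leaf 850) (.leaf 893)) (.node (.leaf 145) (.leaf 1185))) (.node (.node (.leaf 1181) (.leaf 1789)) (.node (.leaf 346) (.leaf 40)))) (.node (.node (.node (.leaf 322) (.leaf 1941)) (.node (.leaf 1147) (.leaf 707))) (.node (.node (.leaf 808) (.leaf 975)) (.leaf 1223)))) (.node (.node (.node (.node (.leaf 1246) (.leaf 1762)) (.node (.leaf 1653) (.leaf 1196))) (.node (.node (.leaf 972) (.leaf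 280)) (.node (.leaf 880) (.leaf 386)))) (.node (.node (.node (.leaf 1043) (.leaf 1419)) (.node (.leaf 433) (.leaf 200))) (.node (.node (.leaf 1420) (.leaf 637)) (.leaf 179))))) (.node (.node (.node (.node (.node (.leaf 452) (.leaf 640)) (.node (.leaf 325) (.leaf 771))) (.node (.node (.leaf 318) (.leaf 51)) (.node (.leaf 1851) (.leaf 1710)))) (.node (.node (.node (.leaf 1634) (.leaf 1410)) (.node (.leaf 80) (.leaf 409))) (.node (.node (.leaf 11) (.leaf 20)) (.leaf 1344)))) (.node (.node (.node (.node (.leaf 358) (.leaf 1137)) (.node (.leaf 1753) (.leaf 261))) (.node (.node (.leaf 406) (.leaf 426)) (.node (.leaf 568) (.leaf 1206)))) (.node (.node (.node (.leaf 48) (.leaf 1544)) (.node (.leaf 1358) (.leaf 1365))) (.node (.node (.leaf 214) (.leaf 1552)) (.leaf 104))))))))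

def threeOrd6 : Janko.Tree (ℕ) :=
  (.node (.node (.node (.node (.node (.node (.node (.node (.leaf 182) (.leaf 510)) (.node (.leaf 1081) (.leaf 1717))) (.node (.node (.leaf 299) (.leaf 1931)) (.node (.leaf 1098) (.leaf 489)))) (.node (.node (.node (.leaf 129) (.leaf 1687)) (.node (.leaf 159) (.leaf 212))) (.node (.node (.leaf 1172) (.leaf 1269)) (.node (.leaf 1772) (.leaf 28))))) (.node (.node (.node (.node (.leaf 1585) (.leaf 1222)) (.node (.leaf 1146) (.leaf 1126))) (.node (.node (.leaf 1756) (.leaf 1937)) (.node (.leaf 1158) (.leaf 440)))) (.node (.node (.node (.leaf 1384) (.leaf 1164)) (.node (.leaf 603) (.leaf 272))) (.node (.node (.leaf 444) (.leaf 980)) (.leaf 787))))) (.node (.node (.node (.node (.node (.leaf 1422) (.leaf 516)) (.node (.leaf 1728) (.leaf 552))) (.node (.node (.leaf 502) (.leaf 718)) (.node (.leaf 256) (.leaf 1092)))) (.node (.node (.node (.leaf 791) (.leaf 1056)) (.node (.leaf 250) (.leaf 101))) (.node (.node (.leaf 985) (.leaf 542)) (.leaf 820)))) (.node (.node (.node (.node (.leaf 372) (.leaf 843)) (.node (.leaf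 1305) (.leaf 1048))) (.node (.node (.leaf 717) (.leaf 1199)) (.node (.leaf 1640) (.leaf 938)))) (.node (.node (.node (.leaf 125) (.leaf 1047)) (.node (.leaf 1479) (.leaf 931))) (.node (.node (.leaf 963) (.leaf 1415)) (.leaf 65)))))) (.node (.node (.node (.node (.node (.node (.leaf 1310) (.leaf 1881)) (.node (.leaf 1652) (.leaf 1115))) (.node (.node (.leaf 673) (.leaf 254)) (.node (.leaf 1689) (.leaf 900)))) (.node (.node (.node (.leaf 816) (.leaf 1884)) (.node (.leaf 227) (.leaf 1149))) (.node (.node (.leaf 1688) (.leaf 1258)) (.node (.leaf 564) (.leaf 92))))) (.node (.node (.node (.node (.leaf 832) (.leaf 962)) (.node (.leaf 1364) (.leaf 324))) (.node (.node (.leaf 1623) (.leaf 275)) (.node (.leaf 1892) (.leaf 1582)))) (.node (.node (.node (.leaf 1245) (.leaf 1734)) (.node (.leaf 860) (.leaf 473))) (.node (.node (.leaf 1547) (.leaf 396)) (.leaf 1171))))) (.node (.node (.node (.node (.node (.leaf 1914) (.leaf 884)) (.node (.leaf 1050) (.leaf 1026))) (.node (.node (.leaf 245) (.leaf 1752)) (.node (.leaf 635) (.leaf 305)))) (.node (.node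 (.node (.leaf 559) (.leaf 892)) (.node (.leaf 928) (.leaf 658))) (.node (.node (.leaf 855) (.leaf 1485)) (.leaf 1686)))) (.node (.node (.node (.node (.leaf 1673) (.leaf 457)) (.node (.leaf 174) (.leaf 1433))) (.node (.node (.leaf 1335) (.leaf 1802)) (.node (.leaf 482) (.leaf 356)))) (.node (.node (.node (.leaf 530) (.leaf 1122)) (.node (.leaf 195) (.leaf 758))) (.node (.node (.leaf 1559) (.leaf 922)) (.leaf 586))))))) (.node (.node (.node (.node (.node (.node (.node (.leaf 525) (.leaf 118)) (.node (.leaf 1488) (.leaf 1451))) (.node (.node (.leaf 497) (.leaf 1192)) (.node (.leaf 1601) (.leaf 1658)))) (.node (.node (.node (.leaf 971) (.leaf 216)) (.node (.leaf 1808) (.leaf 350))) (.node (.node (.leaf 598) (.leaf 679)) (.node (.leaf 1367) (.leaf 1237))))) (.node (.node (.node (.node (.leaf 1169) (.leaf 1633)) (.node (.leaf 1857) (.leaf 1839))) (.node (.node (.leaf 389) (.leaf 872)) (.node (.leaf 257) (.leaf 580)))) (.node (.node (.node (.leaf 1243) (.leaf 1940)) (.node (.leaf 7) (.leaf 1618))) (.node (.node (.leaf 1905) (.leaf 1023)) (.leaf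 1708))))) (.node (.node (.node (.node (.node (.leaf 1009) (.leaf 88)) (.node (.leaf 823) (.leaf 1797))) (.node (.node (.leaf 767) (.leaf 1456)) (.node (.leaf 1366) (.leaf 1542)))) (.node (.node (.node (.leaf 1285) (.leaf 366)) (.node (.leaf 1017) (.leaf 812))) (.node (.node (.leaf 1796) (.leaf 684)) (.leaf 1749)))) (.node (.node (.node (.node (.leaf 747) (.leaf 1136)) (.node (.leaf 723) (.leaf 1831))) (.node (.node (.leaf 934) (.leaf 1486)) (.node (.leaf 1213) (.leaf 903)))) (.node (.node (.node (.leaf 70) (.leaf 1482)) (.node (.leaf 456) (.leaf 1311))) (.node (.node (.leaf 478) (.leaf 78)) (.leaf 1849)))))) (.node (.node (.node (.node (.node (.node (.leaf 297) (.leaf 1560)) (.node (.leaf 633) (.leaf 899))) (.node (.node (.leaf 1520) (.leaf 1106)) (.node (.leaf 1920) (.leaf 1648)))) (.node (.node (.node (.leaf 400) (.leaf 1598)) (.node (.leaf 1219) (.leaf 1740))) (.node (.node (.leaf 952) (.leaf 1879)) (.leaf 1244)))) (.node (.node (.node (.node (.leaf 578) (.leaf 1620)) (.node (.leaf 1563) (.leaf 1113))) (.node (.node (.leaf 1723) (.leaf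 1426)) (.node (.leaf 286) (.leaf 1519)))) (.node (.node (.node (.leaf 1514) (.leaf 1747)) (.node (.leaf 1522) (.leaf 1527))) (.node (.node (.leaf 1656) (.leaf 1518)) (.leaf 992))))) (.node (.node (.node (.node (.node (.leaf 1177) (.leaf 834)) (.node (.leaf 1515) (.leaf 1214))) (.node (.node (.leaf 940) (.leaf 1360)) (.node (.leaf 188) (.leaf 675)))) (.node (.node (.node (.leaf 1923) (.leaf 270)) (.node (.leaf 1918) (.leaf 1806))) (.node (.node (.leaf 612) (.leaf 112)) (.leaf 1553)))) (.node (.node (.node (.node (.leaf 1861) (.leaf 171)) (.node (.leaf 890) (.leaf 1187))) (.node (.node (.leaf 1651) (.leaf 1209)) (.node (.leaf 1119) (.leaf 1621)))) (.node (.node (.node (.leaf 749) (.leaf 439)) (.node (.leaf 997) (.leaf 132))) (.node (.node (.leaf 289) (.leaf 111)) (.leaf 115))))))))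

def threeOrd7 : Janko.Tree (ℕ) :=
  (.node (.node (.node (.node (.node (.node (.node (.node (.leaf 1440) (.leaf 1672)) (.node (.leaf 993) (.leaf 252))) (.node (.node (.leaf 472) (.leaf 1084)) (.node (.leaf 916) (.leaf 402)))) (.node (.node (.node (.leaf 44) (.leaf 587)) (.node (.leaf 1068) (.leaf 806))) (.node (.node (.leaf 1611) (.leaf 68)) (.node (.leaf 941) (.leaf 641))))) (.node (.node (.node (.node (.leaf 958) (.leaf 1076)) (.node (.leaf 742) (.leaf 1898))) (.node (.node (.leaf 1668) (.leaf 435)) (.node (.leaf 1008) (.leaf 96)))) (.node (.node (.node (.leaf 1807) (.leaf 203)) (.node (.leaf 1880) (.leaf 574))) (.node (.node (.leaf 1525) (.leaf 803)) (.leaf 39))))) (.node (.node (.node (.node (.node (.leaf 512) (.leaf 1337)) (.node (.leaf 1871) (.leaf 1400))) (.node (.node (.leaf 434) (.leaf 1499)) (.node (.leaf 339) (.leaf 255)))) (.node (.node (.node (.leaf 695) (.leaf 644)) (.node (.leaf 1938) (.leaf 1804))) (.node (.node (.leaf 215) (.leaf 474)) (.leaf 1919)))) (.node (.node (.node (.node (.leaf 1371) (.leaf 13)) (.node (.leaf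 1480) (.leaf 1139))) (.node (.node (.leaf 1867) (.leaf 1429)) (.node (.leaf 1759) (.leaf 1)))) (.node (.node (.node (.leaf 630) (.leaf 399)) (.node (.leaf 422) (.leaf 302))) (.node (.node (.leaf 1459) (.leaf 556)) (.leaf 686)))))) (.node (.node (.node (.node (.node (.node (.leaf 1632) (.leaf 1828)) (.node (.leaf 636) (.leaf 865))) (.node (.node (.leaf 1069) (.leaf 523)) (.node (.leaf 1730) (.leaf 521)))) (.node (.node (.node (.leaf 1011) (.leaf 1657)) (.node (.leaf 1353) (.leaf 800))) (.node (.node (.leaf 1644) (.leaf 1812)) (.node (.leaf 1469) (.leaf 1830))))) (.node (.node (.node (.node (.leaf 798) (.leaf 43)) (.node (.leaf 852) (.leaf 1495))) (.node (.node (.leaf 731) (.leaf 1887)) (.node (.leaf 896) (.leaf 817)))) (.node (.node (.node (.leaf 283) (.leaf 1780)) (.node (.leaf 946) (.leaf 1134))) (.node (.node (.leaf 1013) (.leaf 1232)) (.leaf 1678))))) (.node (.node (.node (.node (.node (.leaf 592) (.leaf 221)) (.node (.leaf 739) (.leaf 780))) (.node (.node (.leaf 1497) (.leaf 1906)) (.node (.leaf 511) (.leaf 1228)))) (.node (.node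 (.node (.leaf 1035) (.leaf 204)) (.node (.leaf 459) (.leaf 377))) (.node (.node (.leaf 657) (.leaf 549)) (.leaf 1606)))) (.node (.node (.node (.node (.leaf 1234) (.leaf 818)) (.node (.leaf 1324) (.leaf 1624))) (.node (.node (.leaf 1567) (.leaf 722)) (.node (.leaf 1389) (.leaf 1530)))) (.node (.node (.node (.leaf 895) (.leaf 727)) (.node (.leaf 1496) (.leaf 1697))) (.node (.node (.leaf 22) (.leaf 1922)) (.leaf 131))))))) (.node (.node (.node (.node (.node (.node (.node (.leaf 1615) (.leaf 1858)) (.node (.leaf 755) (.leaf 1352))) (.node (.node (.leaf 775) (.leaf 1057)) (.node (.leaf 527) (.leaf 1398)))) (.node (.node (.node (.leaf 83) (.leaf 1108)) (.node (.leaf 184) (.leaf 135))) (.node (.node (.leaf 966) (.leaf 517)) (.node (.leaf 1152) (.leaf 97))))) (.node (.node (.node (.node (.leaf 398) (.leaf 1700)) (.node (.leaf 369) (.leaf 124))) (.node (.node (.leaf 1895) (.leaf 1306)) (.node (.leaf 1099) (.leaf 1494)))) (.node (.node (.node (.leaf 59) (.leaf 570)) (.node (.leaf 1024) (.leaf 1727))) (.node (.node (.leaf 1191) (.leaf 390)) (.leaf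 244))))) (.node (.node (.node (.node (.node (.leaf 647) (.leaf 1696)) (.node (.leaf 378) (.leaf 198))) (.node (.node (.leaf 1114) (.leaf 1175)) (.node (.leaf 1401) (.leaf 451)))) (.node (.node (.node (.leaf 764) (.leaf 1340)) (.node (.leaf 164) (.leaf 3))) (.node (.node (.leaf 939) (.leaf 1764)) (.leaf 1282)))) (.node (.node (.node (.node (.leaf 1055) (.leaf 949)) (.node (.leaf 485) (.leaf 599))) (.node (.node (.leaf 1345) (.leaf 561)) (.node (.leaf 1381) (.leaf 624)))) (.node (.node (.node (.leaf 1264) (.leaf 443)) (.node (.leaf 973) (.leaf 1562))) (.node (.node (.leaf 786) (.leaf 183)) (.leaf 42)))))) (.node (.node (.node (.node (.node (.node (.leaf 845) (.leaf 108)) (.node (.leaf 960) (.leaf 264))) (.node (.node (.leaf 668) (.leaf 1771)) (.node (.leaf 620) (.leaf 616)))) (.node (.node (.node (.leaf 262) (.leaf 102)) (.node (.leaf 313) (.leaf 486))) (.node (.node (.leaf 1846) (.leaf 113)) (.leaf 1595)))) (.node (.node (.node (.node (.leaf 1014) (.leaf 1726)) (.node (.leaf 338) (.leaf 1051))) (.node (.node (.leaf 596) (.leaf 996)) (.node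 (.leaf 974) (.leaf 461)))) (.node (.node (.node (.leaf 1461) (.leaf 522)) (.node (.leaf 1819) (.leaf 1096))) (.node (.node (.leaf 810) (.leaf 1193)) (.leaf 1865))))) (.node (.node (.node (.node (.node (.leaf 239) (.leaf 1408)) (.node (.leaf 1784) (.leaf 1221))) (.node (.node (.leaf 672) (.leaf 1235)) (.node (.leaf 388) (.leaf 613)))) (.node (.node (.node (.leaf 877) (.leaf 103)) (.node (.leaf 1123) (.leaf 1241))) (.node (.node (.leaf 1383) (.leaf 732)) (.leaf 110)))) (.node (.node (.node (.node (.leaf 196) (.leaf 790)) (.node (.leaf 573) (.leaf 665))) (.node (.node (.leaf 1557) (.leaf 1363)) (.node (.leaf 1281) (.leaf 1561)))) (.node (.node (.node (.leaf 1612) (.leaf 888)) (.node (.leaf 1318) (.leaf 690))) (.node (.node (.leaf 1908) (.leaf 1103)) (.leaf 46))))))))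

def threeOrd : Janko.Tree (ℕ) := (.node (.node (.node threeOrd0 threeOrd4) (.node threeOrd2 threeOrd6)) (.node (.node threeOrd1 threeOrd5) (.node threeOrd3 threeOrd7)))

/-- words for the generators -/
def threeGenWords : List (List ℕ) := [[0, 0, 0, 0, 1, 1, 1, 1, 1, 0, 0, 0, 1, 1, 1, 0, 0, 3, 2, 3, 3, 3, 3, 3, 2, 2, 2, 2, 3, 2, 3, 3, 0, 1, 1, 0, 0, 0, 1, 1, 1, 0, 1, 0, 1, 0, 0, 1, 0, 3, 3, 2, 2, 3, 2, 2, 2, 2, 3, 3, 2, 3, 2, 2, 1, 1, 1, 1, 1, 1, 1, 1, 1, 1, 1, 0, 0, 1, 1, 0, 1, 0, 0, 0, 0, 1, 1, 1, 1, 1, 0, 0, 0, 1, 1, 1, 0, 0, 0, 0, 0, 0, 1, 1, 1, 1, 1, 0, 0, 0, 1, 1, 1, 0, 0, 0, 0, 0, 0, 1, 1, 1, 1, 1, 0, 0, 0, 1, 1, 1, 0, 0, 0, 0, 0, 0, 1, 1, 1, 1, 1, 0, 0, 0, 1, 1, 1, 0, 0, 0, 0, 0, 0, 1, 1, 1, 1, 1, 0, 0, 0, 1, 1, 1, 0, 0, 3, 3, 2, 2, 3, 2, 2, 2, 2, 3, 3, 2, 3, 2, 2, 1, 1, 1, 1, 1, 1, 1, 1, 1, 1, 1, 0, 0, 1, 1, 0, 1], [0, 0, 0, 0, 1, 1, 1, 1, 1, 0, 0, 0, 1, 1, 1, 0, 0, 2, 3, 3, 3, 3, 3, 2, 3, 3, 3, 3, 2, 2, 2, 3, 2, 3, 0, 1, 1, 1, 1, 1, 1, 0, 0, 0, 1, 0, 1, 1, 0, 1, 1, 1, 0, 0, 0, 0, 1, 1, 1, 1, 1, 0, 0, 0, 1, 1, 1, 0, 0, 0, 0,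 0, 0, 1, 1, 1, 1, 1, 0, 0, 0, 1, 1, 1, 0, 0, 2, 3, 3, 3, 3, 3, 2, 3, 3, 3, 3, 2, 2, 2, 3, 2, 3, 0, 1, 1, 1, 1, 1, 1, 0, 0, 0, 1, 0, 1, 1, 0, 1, 1, 1]]

def threeCombo0 : ℤ × List (ℤ × (ℕ × ℕ)) × List ℤ := (0, [(1, (0, 214))], [-12])

end Cfsg.Agent.Local.FS.JankoThree.Mult
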