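import Cfsg.Agent.Lib.Lie.CentralCoded
import Cfsg.Agent.Lib.Local.FS.JankoThreeOp

/-!
Central table on an involution centraliser of the third Janko group (generated).
-/

set_option autoImplicit false
set_option maxRecDepth 100000
set_option maxHeartbeats 0

namespace Cfsg.Agent.Local.FS.JankoThree.Mult

open Cfsg.Agent.Lie

def twoElt0 : Janko.Tree (ℕ) :=
  (.node (.node (.node (.node (.node (.node (.node (.node (.leaf 5709001659880350221312270831439550521480314881) (.leaf 370762198953651117283788102560881415209551905274)) (.node (.leaf 231384829832713206659564594467883207744811250325) (.leaf 2133118799357370458758310408498516085238795448831))) (.node (.node (.leaf 16631917116812375130468042409842266000707792471) (.leaf 2713791603607378348562414319084741092471406741069)) (.node (.leaf 1778527894588573288451059743573152039799542475804) (.leaf 393502112998788548432243620565276732773362880423)))) (.node (.node (.node (.leaf 1676132151479732018178699278542506767694265514491) (.leaf 250860083916955972456278312186430372424272438501)) (.node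 (.leaf 539489126507431160080938693234678809296994149064) (.leaf 1207221303361703243898527820084291254115962957548))) (.node (.node (.leaf 1407476108046360447734553902145946512057160713506) (.leaf 1620009701005062397812240654290629971339073303907)) (.leaf 871340218945215872986022127389294139211376008825)))) (.node (.node (.node (.node (.leaf 614358244918010906277054636038576976123899607763) (.leaf 2381951605123392851572405054093827769091168449116)) (.node (.leaf 1347311146147482527378354809245545670289282551250) (.leaf 97590510287264154405485252147571270847555582173))) (.node (.node (.leaf 854115659036062387438602929203216590145939874402) (.leaf 258235522569539906132654329109107745827414396256)) (.node (.leaf 1042365921490452126665329796251755773054596756337) (.leaf 1513863379832582758810488975218496048227930927516)))) (.node (.node (.node (.leaf 368420208697083380060678204958627620872270890729) (.leaf 2370909450980211255221145920807367696503263924014)) (.node (.leaf 272285389591627958812148612428701469282690646422) (.leaf 361298884548898318106794534590178795567295527157)))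 (.node (.node (.leaf 1354490006802989644167458789478682266246669887200) (.leaf 2232790621542201468710772729850079713217050818999)) (.leaf 924296505480847734527339413479109056031378377742))))) (.node (.node (.node (.node (.node (.leaf 851647668004183790952044794323035466261374792345) (.leaf 2108446237306206706352733125188436556229999850989)) (.node (.leaf 716169688306608867967102363993410628558154433129) (.leaf 1080078758213526712796653043858047723977557872981))) (.node (.node (.leaf 2248631192026562773505831907827987146622250819226) (.leaf 2347965092868653154230726872169568114719481016688)) (.node (.leaf 1972359981978194461228147684191902279456098791643) (.leaf 2804304242200311965810252266717211598585150153570)))) (.node (.node (.node (.leaf 2224531914203188205169456805210959207629090119011) (.leaf 665761492833809789499857588568211957825977763958)) (.node (.leaf 2248640862387571727329238643376539369199787579477) (.leaf 2918885443619118457941181806216510677588131247138))) (.node (.node (.leaf 874469436482639042628088096885777736040982581288)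 (.leaf 2622335104367404065660344162552189766733196170539)) (.leaf 1414875016833830793905130079024464562884824623885)))) (.node (.node (.node (.node (.leaf 2677765451300815380523643174906858632267283968140) (.leaf 2281084871293259217019452416594099802174172077677)) (.node (.leaf 1632539113289698940253572130774201612884588001897) (.leaf 307752735969599424009025292695270048306448098038))) (.node (.node (.leaf 836884162720125590434132645246028652928693242081) (.leaf 2690558589089954435330696394984837560365601048092)) (.node (.leaf 2266901399502809196884862200388577598384708707634) (.leaf 670945749742679909723705213238566602123784615375)))) (.node (.node (.node (.leaf 2224533305547389814274886684054919764896060024973) (.leaf 1202483479580905345136528353405461697725203047955)) (.node (.leaf 1798676499405635936757253343283971167308309632915) (.leaf 2234116239058860475220792490561482703699880423149))) (.node (.node (.leaf 729536578336953722116739387920518701877378124474) (.leaf 2679803972928046575710919058282244618215188369982)) (.leaf 1834035660835087521677542612650438989856802308072))))))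 (.node (.node (.node (.node (.node (.node (.leaf 2416025608781551929542858713248560877310652397335) (.leaf 2430275334639952813808262605775816105473924517130)) (.node (.leaf 2762990149446671142908597470581956361385795090508) (.leaf 1868895321177181690238832405923757555742331192725))) (.node (.node (.leaf 1213515271614128133533814350577834577825578036446) (.leaf 1915244579811157281697205985249138523896737756655)) (.node (.leaf 722898251232191074762982362172660554403472680847) (.leaf 21602582133283772531000119557161287476540613682)))) (.node (.node (.node (.leaf 1700688883314382157157585057491190747410197768318) (.leaf 1368993929861265216857368264371658342477193076581)) (.node (.leaf 2108282215993335319347193761203373883818201308603) (.leaf 458791729660679939199137051880329713985400548758))) (.node (.node (.leaf 2086716882830256825082179215833059514136414518354) (.leaf 2622441531537129999580919362541754183222026048250)) (.leaf 2575887191389635193233872536387963495764023913038)))) (.node (.node (.node (.node (.leaf 126444132203092842871681264837193481555856851246)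 (.leaf 1927873437707492334747760692437486981685483313716)) (.node (.leaf 2247053278241466567518310615761952258601560356313) (.leaf 2520432926800277313302470233770476285183313133841))) (.node (.node (.leaf 1168831727036440420549410597293074194438462465012) (.leaf 519160379480398315771089493678334328189516857351)) (.node (.leaf 934043764481887637554256496615666390449412928251) (.leaf 1352127151254472033087297884256304791030287407092)))) (.node (.node (.node (.leaf 931517438490899539840073630517069986414921617905) (.leaf 2884546417733912075075161733729991087952902339922)) (.node (.leaf 370060300768016932862894909144998721539808868152) (.leaf 2141623509736195493071790522030095051143329345890))) (.node (.node (.leaf 2166180861745844012502082065650192736409313883590) (.leaf 2132398147838001366164050235509323889566037330076)) (.leaf 396170658151964297157131402640582234405344510623))))) (.node (.node (.node (.node (.node (.leaf 536024573328873951821194514249269409229891015742) (.leaf 1951123970456738122679642140818237982732564907978)) (.node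 (.leaf 1323788257752665022696010352561787400350402353495) (.leaf 470795797570589252949248853293923381958626769143))) (.node (.node (.leaf 1218063806705281728394989181633070932298590344009) (.leaf 2305997456863483272320411078954859850001457308009)) (.node (.leaf 2727040230541929533972603115684021063076967678950) (.leaf 2038679625585446175379334362176422617609288821042)))) (.node (.node (.node (.leaf 1834115415867025529689633277508095402839680526521) (.leaf 1925249256633628483965465262350762620154929720705)) (.node (.leaf 615068551242497991631186386502512296855999076668) (.leaf 2168580815004156496926722132697891530022092909960))) (.node (.node (.leaf 848877980260817786143057673954593584849758403306) (.leaf 2061541549492061140605271180636374836051259241847)) (.leaf 175261549981918065795065431746880020760640421412)))) (.node (.node (.node (.node (.leaf 2622340142425676060667200224055126701625714064738) (.leaf 821549929625290630648499620878346177714956583046)) (.node (.leaf 247708234635347565564057133826137849279577643691) (.leaf 254369937364635408337812761388229628083583649767)))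 (.node (.node (.leaf 646680735986414282011750747153512143750555814512) (.leaf 1701259023900498367238926519733169485583580515747)) (.node (.leaf 2599670234013533404073438877458917629356587437325) (.leaf 191739711710132963012432979468607304318613633200)))) (.node (.node (.node (.leaf 2438177306954300362261339871861459179828965997803) (.leaf 854302476806744899452956528925909068930876453117)) (.node (.leaf 1442606874773276597059446732071073782622260874157) (.leaf 84920663133995876121487533176847242961155348251))) (.node (.node (.leaf 393502572488214460737624890103323358024227837991) (.leaf 23913620185689697649317099374367554904559393957)) (.leaf 2154600148761268391310106307681706339596410774488))))))) (.node (.node (.node (.node (.node (.node (.node (.leaf 665980810872437988003370782999065357090420049176) (.leaf 83086283551162633267357227265045560937615154771)) (.node (.leaf 346591708473296932982059634365768109319484059181) (.leaf 1403677084810359871967863002372992189016365232848))) (.node (.node (.leaf 2304040374719267633194843827418044825885348494716)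 (.leaf 867567007335235307518077816452992206135307460253)) (.node (.leaf 711616676715616993253353745291375394654705031340) (.leaf 2921829116570283107629068146167285417454456883832)))) (.node (.node (.node (.leaf 206595674783650941997976653424346458086749513734) (.leaf 2667598292772252830837803883660224662267672132683)) (.node (.leaf 701703306360491234949273729526429845215237487835) (.leaf 922397789922841815332235522492159926463842554873))) (.node (.node (.leaf 2863118328270376807507818374219824127423942520317) (.leaf 1352357207229967654609620231414316914840414969307)) (.leaf 2191322925889607188754692245900620849901961162778)))) (.node (.node (.node (.node (.leaf 1077141031233551647058476069431807811674250162273) (.leaf 12455947297036262852475106805177674436737926213)) (.node (.leaf 414391929453637253278676320544316477762748230244) (.leaf 327369213086131905219477970320551565153701884787))) (.node (.node (.leaf 1503838802580725304730806865804748561783405529375) (.leaf 106891900901478008251235655785460798100639339491)) (.node (.leaf 851663953196132080888447288728308904891310493245)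 (.leaf 2579707169253817192609245882100693559579431030123)))) (.node (.node (.node (.leaf 947210457393518881140242689968411188008222786905) (.leaf 1175124809408393613042400984402809395253094425104)) (.node (.leaf 39579972410023968131365787180772780136300668271) (.leaf 528527009188424604674431246230066756792181918218))) (.node (.node (.leaf 2576736399094182160241906522642655025568431011683) (.leaf 2282139376938099160891523470782151281953897343429)) (.leaf 540037117633406262069516947279428501319605501598))))) (.node (.node (.node (.node (.node (.leaf 466347023569572489481870641738008444604036242295) (.leaf 401974152161372137338929695130179115712952870394)) (.node (.leaf 45219992444958719443846328056294848406936852084) (.leaf 2087075013715381605557663326502197315091655579128))) (.node (.node (.leaf 965000456593079767793587051846992769213258122183) (.leaf 504734566597681643634916464048723325517633521931)) (.node (.leaf 1592812916859348438180425876294430537599281756005) (.leaf 2873511649105035457337019225634326119665666955113)))) (.node (.node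 (.node (.leaf 883593035241237562015257073392079567855859968172) (.leaf 1460743383614072825334219004471821770163771177547)) (.node (.leaf 1147146353864692264771823687808594429547173582274) (.leaf 1042194313248326377455555216550096500945937331643))) (.node (.node (.leaf 2792812220944548162789716645030803689019830695010) (.leaf 918305421824917029536369927029519828771731989562)) (.leaf 934323074745840866270190735448575264487218681982)))) (.node (.node (.node (.node (.leaf 2700571806810205367218812914926712524719206181380) (.leaf 256985142512037874784016962178097562949547947577)) (.node (.leaf 1329654760592403393396674667968174226163661531075) (.leaf 2622035021513301686386100223921651289620832789378))) (.node (.node (.leaf 2841318848395991940018172523464019598327006931947) (.leaf 21302680031225778842622478458199029626445198494)) (.node (.leaf 2860907999401800416119088958570608643860919475924) (.leaf 1484189734203042901691333883374657520738592356372)))) (.node (.node (.node (.leaf 1145728206429107192388537671350387371669665763734) (.leaf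 1358639168204985843753866765081116329363144156487)) (.node (.leaf 1156566603089130626705168083407210622445398415742) (.leaf 1903093715385293247551664737919336161245169651231))) (.node (.node (.leaf 1397028174577292015862913653404824893222498691789) (.leaf 2667603228623802606387779250802928213479908344350)) (.leaf 1344929816584487444174699534093133691182339061876)))))) (.node (.node (.node (.node (.node (.node (.leaf 2816519968116085126039666611823321131354715820587) (.leaf 2771387349701914909203162843563429211714809712145)) (.node (.leaf 324722647900788818472575757235082322504361787584) (.leaf 1982886039875728847142895033885269257100675983572))) (.node (.node (.leaf 323243663356671389947953150132354443337722612078) (.leaf 781182193903312474769983723246232388780991713135)) (.node (.leaf 390639096878710491691757358056866099751804148838) (.leaf 1230016922089700063918123045778204909808960526514)))) (.node (.node (.node (.leaf 2564107271938320316135586616493072534976659486123) (.leaf 2693880669923184943648810167334637265422680876689)) (.node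 (.leaf 1003222615513683768209050736939613963448047889739) (.leaf 158683528681670985272330183366166309727561043457))) (.node (.node (.leaf 786769274455957707410758097867542345523317272927) (.leaf 1262816732614485377451921049906345718471249164412)) (.leaf 2542932236084292397892977946334655322937615688629)))) (.node (.node (.node (.node (.leaf 2224753962388411667071953017554207967782379297556) (.leaf 726280550974688406871114453586020680362347701161)) (.node (.leaf 956723728287714324955751903981393850226435669690) (.leaf 2211953300655682830236447973377040769319382741383))) (.node (.node (.leaf 2693879636055089085506552605815995599703967258630) (.leaf 1790633612485285696023109038990601206646581985825)) (.node (.leaf 852268123967611790458074163061350966036445823493) (.leaf 1981660042586222867846682198025568675287250851251)))) (.node (.node (.node (.leaf 2609954022650178716096507092472716610079919337018) (.leaf 678328278494409750335935239580563809519521319741)) (.node (.leaf 88239471428544434005251914813431555306667614399) (.leaf 2168246795419880516300960237890086436303703369979)))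 (.node (.node (.leaf 94743459624022374083280882070196309039316890705) (.leaf 775857872809552200028557332267478715750514403574)) (.leaf 1306352552417456353849023116951827517042618280074))))) (.node (.node (.node (.node (.node (.leaf 1974909885595295327317845284843360565215512320591) (.leaf 919091808163271678601867418585164593171883916986)) (.node (.leaf 439416924695083711122952997598555828467423379446) (.leaf 1032388263981963720025875019909603583318131773166))) (.node (.node (.leaf 2015533396694278439276072629278266584845274699397) (.leaf 158988775988188969678694564250784174747286440347)) (.node (.leaf 2086632990345831546980197698552810409177234130647) (.leaf 1352592621727330531895746467061338179126678115942)))) (.node (.node (.node (.leaf 327965887524488303755505645453434758087193342103) (.leaf 2211958305724375128261783491093229414435561652980)) (.node (.leaf 2235998420186803742962062105038003988257124781298) (.leaf 59589482547157681283201422042957606151157123768))) (.node (.node (.leaf 1299579790991565201051087087370928501218701994718)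 (.leaf 20271611729039067693688744160642405954688663051)) (.leaf 2841272602815199000407682359405498594205087750929)))) (.node (.node (.node (.node (.leaf 1731636492689643839891779100194234503245092927300) (.leaf 207799690806405661107817327662805470086296002201)) (.node (.leaf 1834056877117874097792839163112721689382395532702) (.leaf 798056186990741253339432672718379047245861030092))) (.node (.node (.leaf 1354265510202980975918808864854229192405932080087) (.leaf 2132416432038305763334138215441073886299640276112)) (.node (.leaf 608966253754052903129663671353437733445319137440) (.leaf 279146231388198926704931892663432887261487734348)))) (.node (.node (.node (.leaf 2850014468701768841654948399212566562191565479902) (.leaf 1982287332939263967779044756550105088514698883642)) (.node (.leaf 647333047031190309721451036550239289907628103616) (.leaf 1621145628571795030601827535005323112051718347943))) (.node (.node (.leaf 1092159104178521573125774188972688809269417936200) (.leaf 433450417403122437169594174888221216923699762979)) (.leaf 396159406320861140385192005548019193789688865645))))))))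

def twoElt1 : Janko.Tree (ℕ) :=
  (.node (.node (.node (.node (.node (.node (.node (.node (.leaf 762558932972366626176694121556195912270727793948) (.leaf 1345631112923186998030725244289049499855702349112)) (.node (.leaf 2601318369046074348170189922227023228074846440204) (.leaf 87632523250016807335103648084641327502333368368))) (.node (.node (.leaf 1083881850535064077511781704831910387279551303246) (.leaf 852769719035884189553403128262556213972416977500)) (.node (.leaf 2690562473766273652139523505989793005439714583855) (.leaf 539497235267498882177771518783041023561564093264)))) (.node (.node (.node (.leaf 2692703820245340756769274306768876525222305499205) (.leaf 985367594997623673622331266476650797795336393231)) (.node (.leaf 206596731591900975730134908090996519047086510985) (.leaf 1169295349637779824817889083994463262297917973409))) (.node (.node (.leaf 1346934279233685564107665756132817822931496252030) (.leaf 1442734460451509959150724969599508412893567090665)) (.leaf 1335899004203909021303330827504057552431712478994)))) (.node (.node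 (.node (.node (.leaf 346584281581216749460471626623461205528075705476) (.leaf 1345630580259235737321556535619191140408728173481)) (.node (.leaf 286776028693617563314832834320469920129482241275) (.leaf 2335329405002121432559631837997746931720104685958))) (.node (.node (.leaf 635187908889413455679441706673182236362155624300) (.leaf 843712002049820260731173478106203590175097145693)) (.node (.leaf 2359363561742822096347959772798261048099937031391) (.leaf 2385582710982200493295235629545390657384511419282)))) (.node (.node (.node (.leaf 757930152625547457317580196688766224272449390422) (.leaf 2657856202418883494969588391018515133829048897961)) (.node (.leaf 644714616667897411096327204874207946724155720244) (.leaf 2450911254292394176937776018393346206089326536933))) (.node (.node (.leaf 1125727926018290942423279796516305673606852945704) (.leaf 126424469251054383632201759155926600870201120631)) (.leaf 629752277225842965247180449416384651382517775166))))) (.node (.node (.node (.node (.node (.leaf 38950756077514684266624375011428357872443964317)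 (.leaf 341673225101047728643262438954687019073603524664)) (.node (.leaf 1123913049755005703919686329857923189616875338232) (.leaf 1940635139701820732155375910055935838429763455874))) (.node (.node (.leaf 346761541608409018613211133120219275455384560694) (.leaf 58748555925230765345950112512706813294651167029)) (.node (.leaf 1982881788037380139554921186894382722915887870008) (.leaf 215779019647529315346343840689583057389370231071)))) (.node (.node (.node (.leaf 230893963063368031435402655793267652994281655375) (.leaf 681764207239574431326644779393175079980141440869)) (.node (.leaf 2350728742346178066539691229493801948525462450081) (.leaf 1518178775075225432647046527076420355094641154429))) (.node (.node (.leaf 1306341489569693150044458899089761305298354255925) (.leaf 2438174750625385630183550412391515846336293836178)) (.leaf 178386715757300787121783462557524676532345566624)))) (.node (.node (.node (.node (.leaf 725359475023051146089091408059933852146317586549) (.leaf 287331769619393528379905346154632731892315505443)) (.node (.leaf 2165924131960191350571416752943889072874607605199)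 (.leaf 2884564089356280600117424483353226252076196371230))) (.node (.node (.leaf 115670358839056410480719292942538819089343953936) (.leaf 1845571869992960869735902825105093711197974693616)) (.node (.leaf 956398119371667127722782907532125778518036180297) (.leaf 2246762055792450147898451148692394719374933949196)))) (.node (.node (.node (.leaf 159828357026311421778414449271632564708282626955) (.leaf 644939945747978305070529069020758394349197189317)) (.node (.leaf 200038964185190917129576672658485576408489375108) (.leaf 1329360342978656176910228914487069130248266046758))) (.node (.node (.leaf 539342158275498260910601364522632902438287322799) (.leaf 863128514257064444042602064733605184851867441218)) (.leaf 1363058035400462195573271901937647286640380959082)))))) (.node (.node (.node (.node (.node (.node (.leaf 238220618869249209476813863492460898820132815560) (.leaf 636235114061995993335953209081929741356215116586)) (.node (.leaf 832554228786080783847975820734919224302194509411) (.leaf 1676100740737806945587487268824436075230428056822)))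 (.node (.node (.leaf 374079127026546365941473203509466135919723480570) (.leaf 307762472771282593476903978625665554964325981770)) (.node (.leaf 346442166906707230166241363162823031712444786105) (.leaf 940712139336663296889080331396135484415029193125)))) (.node (.node (.node (.leaf 1328068056842117530352881487586225337992230438643) (.leaf 1105426435438765065742524995803287140492525001518)) (.node (.leaf 1126967461314927365546564603358731929711518382094) (.leaf 248580152050061837683935608150182544579696993665))) (.node (.node (.leaf 999888610194381799658527729785572149917853196630) (.leaf 2909394190967719788564972242240483327370830097218)) (.leaf 2066574809363115324388245075891653280416014238630)))) (.node (.node (.node (.node (.leaf 1995150030252288837730410112634104796289809160921) (.leaf 1432893879557016932832715300257086170240384840734)) (.node (.leaf 106893322177224233964266211427371720313548077441) (.leaf 1870723390239453282892679502262105209233479566003))) (.node (.node (.leaf 2827360755966417546604169147876838584539653298396) (.leaf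 256974840372379943568375976108296466171793163667)) (.node (.leaf 1310525068412607746827637242041556963903860055371) (.leaf 1482565861907469753346307226833024778412483450888)))) (.node (.node (.node (.leaf 393564996876361333464070601374169727803037823962) (.leaf 2143005556107121018517401448456907271708917589201)) (.node (.leaf 2620789274532629180309515947161747279194455360923) (.leaf 492639601623566930437807745767218538728394984902))) (.node (.node (.leaf 852471676797580691261880971396462929434605156466) (.leaf 2167657587059761915563214865336618448149397097984)) (.leaf 1272001720739108289355228137084850354147640439377))))) (.node (.node (.node (.node (.node (.leaf 952876763151169250471642882826122109972627856107) (.leaf 1206930606804165926595376828490721888269137271080)) (.node (.leaf 69937006530706360664659742903738792393719221822) (.leaf 794954451709916963141650945840494241819288937))) (.node (.node (.leaf 985373375969386883745314509630044507774496939105) (.leaf 176059633116491651948382336983940594807760234671)) (.node (.leaf 1202182769882834695728588530456137619011396171358)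 (.leaf 136169960151149051192961380054646891666055279017)))) (.node (.node (.node (.leaf 44030927536698571798935736500887918640951839605) (.leaf 1517526277626780163546507254243972734108158379524)) (.node (.leaf 634280824788332194351944572196831815038754726777) (.leaf 1479101808953044406920630339949220393833197430803))) (.node (.node (.leaf 1550067812571710700935642312169319025487587398377) (.leaf 1951361515355804915586971294192078638136848089083)) (.leaf 1261086764868619541263265062975682113888303246779)))) (.node (.node (.node (.node (.leaf 97599752198824275646057986922919599098954817179) (.leaf 2049671949770397721635684447015351605957589158119)) (.node (.leaf 1399485321735818955304966164468588418821796488573) (.leaf 1129827271262756883696793839606922359988903721127))) (.node (.node (.leaf 863731309001009460227477534290330023805354178653) (.leaf 558915558011611925384221780105116798598849411027)) (.node (.leaf 139004319216500704124063357816735869463934748182) (.leaf 186484492592859599633810437842219455867814764261)))) (.node (.node (.node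 (.leaf 2578302831047850617918097408711392426287856233201) (.leaf 1193082117608810389364128973468832792307765691191)) (.node (.leaf 1653093126758138819366733789603472893965930463759) (.leaf 1145738816776554283012737542651595788035428462838))) (.node (.node (.leaf 704901742644103546652974532475403696467051745054) (.leaf 1826692599953951462511764230620326286208988853323)) (.leaf 1056116501612937964295088851193092842339182164107))))))) (.node (.node (.node (.node (.node (.node (.node (.leaf 20275025713960319250936356871008691044499093276) (.leaf 1470121060471884496348793069387579870053819539504)) (.node (.leaf 370067405522067088696309050904248457887610317116) (.leaf 2462977677106500061742431871480105038233966952891))) (.node (.node (.leaf 1374946740463167528660842952746293992216539303381) (.leaf 14264330118946990468259825935237841499270647818)) (.node (.leaf 1513184403730377092608186738942435293518011180651) (.leaf 1962949144003097207056273475624716641217745930478)))) (.node (.node (.node (.leaf 1321479798932101932564845984006182481553992696811)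 (.leaf 212793945378207980233532253615215362869441153034)) (.node (.leaf 2781059546651018896200700654508412530140441246342) (.leaf 1996461473296665567070406963573472585103585806917))) (.node (.node (.leaf 1778333113608699535091452967427700322074182280225) (.leaf 499217493228472362503317137316335960931477661383)) (.leaf 427086400185286190582433353320915400323613243647)))) (.node (.node (.node (.node (.leaf 136178098742244513644590039933746518095892703717) (.leaf 2920163053747546068512954388927477730240736315642)) (.node (.leaf 225249092351961022188196074057538570221796268212) (.leaf 1352596989746377792636983493319237960383050229467))) (.node (.node (.leaf 1164393835138545093823504971327269119027377736148) (.leaf 751863981091781594933836244748597179072839273421)) (.node (.leaf 1539030896188381302494670266366640712338274315273) (.leaf 87696433944617391148499424536887541338035038676)))) (.node (.node (.node (.leaf 2645471537777932017571059204344827857722443101385) (.leaf 1089073032510730068309875626857113616829901321476)) (.node (.leaf 1723280271116723905468112303851172642398704931017)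 (.leaf 801837979172966750284776232727809757961851092))) (.node (.node (.leaf 231037758292933690506717160498236957873014103674) (.leaf 2862102197136059028613699530070960272728853774289)) (.leaf 1973026190729555757902984963276790812291521305969))))) (.node (.node (.node (.node (.node (.leaf 1077044745340955847194185060757532955266607655998) (.leaf 2703130215265125698893932368349661220360195362126)) (.node (.leaf 219781820069532865018826852393746111186745229508) (.leaf 636226892942350385206517826677819006706959882125))) (.node (.node (.leaf 1011579154181492675365473237765899235551589154622) (.leaf 2530637953776524866109226343593870136960274733374)) (.node (.leaf 2507723030692635761468151688378399335032416857632) (.leaf 1504689273451369667593037634257502494728904183383)))) (.node (.node (.node (.leaf 459580859908860079624206284282153852988867650133) (.leaf 1202479341201358317262779253669480991321318021509)) (.node (.leaf 1149625181130185837878494972531042791043588289234) (.leaf 1790631207813512305293044081461413432432908706872))) (.node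 (.node (.leaf 2884535051079000758200500322275526965628837516757) (.leaf 1992518969387362106776019758401887227348297304412)) (.leaf 1743040331487914748831004516408834460289026837968)))) (.node (.node (.node (.node (.leaf 1583812029784185779822344981976325395957917829432) (.leaf 266825529605059219864522449460980354555770523948)) (.node (.leaf 1559926672779154231522677613209362131610885429297) (.leaf 715728986884185038349417812082287225296092384652))) (.node (.node (.leaf 90636700117009126421332154199268022301074316658) (.leaf 2305990737777625083166531224242674374231932451720)) (.node (.leaf 225242092072386574577425072364924446242100172920) (.leaf 2610444963161891692403336900596772665826886761264)))) (.node (.node (.node (.leaf 666805232803920294655447056050985182802437717051) (.leaf 1287579407666293838615715979092589417113951937002)) (.node (.leaf 2816250303855697532343342406312973835556785951559) (.leaf 1823917860274970492515590872624922687286846500786))) (.node (.node (.leaf 279150562493992230012500911787055848498206099870) (.leaf 256190682523172304935252876133649325521687118890))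 (.leaf 2134752033428240165132105710017014895834304166201)))))) (.node (.node (.node (.node (.node (.node (.leaf 2749453706533117453512754451195638946136765671505) (.leaf 2121315594535157003733920192865701416532729678685)) (.node (.leaf 396591861861207323975264283090890520123394914478) (.leaf 351220947052404638882477646963406418042831227982))) (.node (.node (.leaf 2282120775200917666753470852018472750787480425188) (.leaf 1080077190706053495821867045600168420746554510577)) (.node (.leaf 306361343436025296376517359645115692405339769951) (.leaf 919086836115350386894790895747801302077438917910)))) (.node (.node (.node (.leaf 1332198622200820815782854689047384340798147230079) (.leaf 1403692234893245620834166225256504783922036025817)) (.node (.leaf 952880587283102651290368449263962344971783600784) (.leaf 326284565673066193213450835584493844227679290618))) (.node (.node (.leaf 629753125749478537384146158351450799780818748918) (.leaf 2713724435955849576484637468721613475620574459951)) (.leaf 882889198767736352937678015363221960670289851733))))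 (.node (.node (.node (.node (.leaf 1306917465358323226378681809749396697090850558489) (.leaf 2712617429960614001075884768969555423888729214105)) (.node (.leaf 1833319038216956085301950915095809863624487970469) (.leaf 887917411116286582235969092364924045727957696603))) (.node (.node (.leaf 186482248221863401121431511633059252253905164824) (.leaf 591073321093544705014040612607826516375662228439)) (.node (.leaf 179218386187256948757101476467807751443382826455) (.leaf 1308334207428805130302303713193208884511102555300)))) (.node (.node (.node (.leaf 431363538059318060821152685490507501175747904698) (.leaf 1320726451821274141316624040333042488912478911088)) (.node (.leaf 100213942452528507459107927880052244356454295984) (.leaf 286778277563376925701670248341235009618604443176))) (.node (.node (.leaf 1834272019560561679104011944151958725428587223612) (.leaf 1035572837295282793068539428788162759872393688688)) (.leaf 670940260175146360068641563842740250357874943166))))) (.node (.node (.node (.node (.node (.leaf 346454302805176153416772378019035090157071678711)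 (.leaf 505578171993060378789219435197964291069865060710)) (.node (.leaf 691755635341228468540858915053935244627456812926) (.leaf 516231924318006917102332467284378382169986915442))) (.node (.node (.leaf 342159611838779331044358891587266010096730727739) (.leaf 181288079973386753986833743706589469260528696980)) (.node (.leaf 34486238732203872886364608630184888239471675460) (.leaf 2827367673089436593093344024174275038362889957242)))) (.node (.node (.node (.leaf 108495096391423823404526019870047264694247323710) (.leaf 1025179258987024959952928666263489008556023962720)) (.node (.leaf 1724010968494417324265371920397415804980009184711) (.leaf 298365141653653387953601732657234086988628711948))) (.node (.node (.leaf 1083426995168178314343230626427740617508082503647) (.leaf 782908130451468360214590275778499130657115867141)) (.leaf 1620290172122575061508714322477181913899057350789)))) (.node (.node (.node (.node (.leaf 1409467401907190709983203432097218357590524809157) (.leaf 1077055584967079189219760616188253366477511571048)) (.node (.leaf 762552139302734814799024323480912786994339559801)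 (.leaf 475253489916094706745482501668690400567669863886))) (.node (.node (.leaf 216615459340010420297719759838003475623298342328) (.leaf 854314572376219119399374586623594402731435164872)) (.node (.leaf 1408776230427489580491125941167678363458896719214) (.leaf 1174784434242791772515580704475067532267797138786)))) (.node (.node (.node (.leaf 2404967610746735424225329017287822902620210885209) (.leaf 1105445870945499090406936645846205777487048990934)) (.node (.leaf 2123387153716030110156053035203080557099419262541) (.leaf 2656031193741505290948420489383648135125474803923))) (.node (.node (.leaf 992107973938279487969266056493929913915043297080) (.leaf 2235415186109075966526932299074386434026903321770)) (.leaf 871510393021067054031367374467705505222318856395))))))))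

def twoElt2 : Janko.Tree (ℕ) :=
  (.node (.node (.node (.node (.node (.node (.node (.node (.leaf 2507720298840879115245774134652300862091289596015) (.leaf 2667307826551087106012961216417420665740010266835)) (.node (.leaf 1328064103957967251512179580439156558679740413043) (.leaf 554110887115847309246358925874537986519281828928))) (.node (.node (.leaf 1982287183899741924476580037564780471804283224136) (.leaf 1695855163007609746534316338882588850069005247416)) (.node (.leaf 1731680850509801029865794118702594331365689761980) (.leaf 839765942403634110062922505386440542689042694806)))) (.node (.node (.node (.leaf 1104859047817708064457259467732078320135252507803) (.leaf 2611945036299152726920391370531254199486648450098)) (.node (.leaf 1701277241538941927310895697656665700838162383399) (.leaf 2282118083904977733343815359503622147164433224727))) (.node (.node (.leaf 1219121484475457715050763251729601572141744189437) (.leaf 1730363733279188783466423056953634033305513972468)) (.leaf 509329069368369628392499377989366660801997585349)))) (.node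 (.node (.node (.node (.leaf 11885508556202156794394727323933326089513042768) (.leaf 871349792762295885151512364715696975318097388353)) (.node (.leaf 1798385950767426590031214339710407318283702848372) (.leaf 210881202158378645455963919103440461710380268653))) (.node (.node (.leaf 534285924590703486686185810852691989562778577898) (.leaf 169332036577821340651605042459308770316961334014)) (.node (.leaf 2232781928147263942322002575030426750915714480939) (.leaf 1125613390111768145812763354559262940090378216436)))) (.node (.node (.node (.leaf 566880931275001920310564756699060699689774237729) (.leaf 655065255436291238007212927404644727999712026812)) (.node (.leaf 1175129407609160849549373443095280605617736557538) (.leaf 35281311260836571749467419320768205197690337173))) (.node (.node (.leaf 2027294866348487539334886648220808572194850699134) (.leaf 706253294421545233652282799519381407792552016138)) (.leaf 268734912504053630025842610372478887348817840752))))) (.node (.node (.node (.node (.node (.leaf 36164141573440322450148353592962625325409361881)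 (.leaf 2304043277671830277787834697043235161252062688502)) (.node (.leaf 1038296879129621490551582602681287877528773417611) (.leaf 1408361766183475964835273486089737459199514459551))) (.node (.node (.leaf 2658512870812806910616483572179514783426138615651) (.leaf 644945285634039108003916951691357129376375595466)) (.node (.leaf 1594607974597558695038733083045084109338648451309) (.leaf 1410551909967894477527860549315233219500694901086)))) (.node (.node (.node (.leaf 1434032144184101752080643903414842601466957832924) (.leaf 302898585188781353393802375760887801018277718193)) (.node (.leaf 922682026587093233827621495476998221453973845273) (.leaf 2038888799061184636811794789092022722190979374307))) (.node (.node (.leaf 213321261432600597510400899520871634771208018635) (.leaf 1087798849816168293352387918717939236759977553988)) (.leaf 1444604140452788840803097879781312363046072051342)))) (.node (.node (.node (.node (.leaf 1792545219258157390338373797180572425085042149126) (.leaf 1309565904390776381602063311933395388522529232872)) (.node (.leaf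 729843263951595028049013318259649517352198267986) (.leaf 2451391636598401006962455700450291547456975495317))) (.node (.node (.leaf 1001073431733941432521555190602507893475198380697) (.leaf 1995154308550470970598396493980327731541645052827)) (.node (.leaf 188662067986227176368289884543369816570588102880) (.leaf 1482020934850626958704115402412086881195433038358)))) (.node (.node (.node (.leaf 832947855570567117687747181812834248390612088620) (.leaf 1321483394061523808108248300807110193307718467212)) (.node (.leaf 1460739340387397620680162783617240255940241890156) (.leaf 499249091751608018987564828141563965934784690394))) (.node (.node (.leaf 730379509755415705524594077299830944972424502887) (.leaf 1038286003907282153885023179226348303984814505309)) (.leaf 1426011211815967712954383411734950507747327195297)))))) (.node (.node (.node (.node (.node (.node (.leaf 2451408660071843060227484462089945893968170538987) (.leaf 2232797316125373076089880013315146971412741056545)) (.node (.leaf 1385974758413315587728188817801953516823863906272) (.leaf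 524821367883121358941911530322939943034690569169))) (.node (.node (.leaf 578440684474867305374191714114672551127845386829) (.leaf 1513173880247702615999579545819777081147930248136)) (.node (.leaf 1788478124054623505868419203928934966116256309182) (.leaf 2426680452897046094625476580908580768071099263264)))) (.node (.node (.node (.leaf 1502184148504285636294225191090613071548997751743) (.leaf 1903100979937373493052994030436379597173804553259)) (.node (.leaf 328063069966190978067571820892281030554447150577) (.leaf 1021324684014314723453913020399896468940488448789))) (.node (.node (.leaf 183789968448765464662947304919808858912656163041) (.leaf 1316865434774687757694593715747813989303119824282)) (.leaf 88026350445311272514504155087473916243701641700)))) (.node (.node (.node (.node (.leaf 887684319406091762126366685933205473542922261347) (.leaf 1385973234525561601216029003789164226174291869281)) (.node (.leaf 806957097050363567527264013209610657607507902309) (.leaf 173800699607419066285194212122719105845843416883))) (.node (.node (.leaf 1068670953887649803872557902663822631769417408034)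 (.leaf 158987531246806690459134099116216476741052576924)) (.node (.leaf 871492970682006310405486599832245436588580038324) (.leaf 1231893324131658514140401273845589021532455740405)))) (.node (.node (.node (.leaf 1366353700265941778848819002336960937908516343409) (.leaf 1479445956623728669708065273499909369074776134185)) (.node (.leaf 1140023609948041444442553241744110736675310487353) (.leaf 850431960148541657760733428698352195226746744993))) (.node (.node (.leaf 632440908572130574113196452217508895025107093208) (.leaf 875039193688786827027245858671494820563001741863)) (.leaf 13470334583539178069029190327290618513868525171))))) (.node (.node (.node (.node (.node (.leaf 2086617036835896685755864910574960761623724460956) (.leaf 1746186919199608865841349803066174484167715091574)) (.node (.leaf 420577500896494424036497133043053734391974276097) (.leaf 175250898659134609773619544568883730560183311023))) (.node (.node (.leaf 992110893735493304236906127705523577268833691435) (.leaf 2096066839158475351720726694815904110279489268185)) (.node (.leaf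 1539379643197081808116795767584361059325694913906) (.leaf 978026794645658404084848278211883950152666352485)))) (.node (.node (.node (.leaf 2737451832932744481486347461543279119485715048673) (.leaf 924284140318076115580438147811466602412246845356)) (.node (.leaf 1220766113992775927702719754800780741437168624364) (.leaf 179045122345166023490686094913279553037657013320))) (.node (.node (.leaf 337461604318470012078778604461176926602745208788) (.leaf 2620797648879883264908245555315971995593636158182)) (.leaf 2747116690532887406903955477774832397905063709417)))) (.node (.node (.node (.node (.leaf 1262802117616868372224351145089133968004651124756) (.leaf 361633466553425969373063243737215715467427278464)) (.node (.leaf 921978854438021065377233179570932166287214867488) (.leaf 257296561673501960642409423555318195585102822167))) (.node (.node (.leaf 451651147124095830054694048813533740631028125598) (.leaf 2088676168866294333236840759872271747295173755571)) (.node (.leaf 1927856599619895787712314540526074378410426234215) (.leaf 1653097659884515882184826164535068764857750530632))))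 (.node (.node (.node (.leaf 2155895531504398739355630967615595778387246467773) (.leaf 179411076737890288637626661262543638431813296866)) (.node (.leaf 506168463139617662478367412881368010965655147778) (.leaf 1126962968342512843352182344566600223021380389016))) (.node (.node (.leaf 1343220324447178736465652018515215306628251744534) (.leaf 2134608288045876053781928757427019719593453870021)) (.leaf 2804301658170852564208201217690501706421501753982))))))) (.node (.node (.node (.node (.node (.node (.node (.leaf 256181736638421063635185314306514406795276550794) (.leaf 181293052436729652366144411644806180087505492982)) (.node (.leaf 2122061832610127964305703676311164240472553689864) (.leaf 1607113498083230696358677903864113384100856354174))) (.node (.node (.leaf 992945417513776640703668162512271192745435850408) (.leaf 1731697367723797439510321245201086061501405523348)) (.node (.leaf 260022673848189253625050140027258841820054461831) (.leaf 1216440471779154727266435442876328612765950046292)))) (.node (.node (.node (.leaf 1765462171678831203681790099173469649728518793266)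 (.leaf 2064236511814141358062514163139534537533402469573)) (.node (.leaf 2214663478632642756597302204772211370693418864516) (.leaf 1419637821185675714060516826357786857988870597543))) (.node (.node (.leaf 2065565180948392903805248851579443069131216567066) (.leaf 1502187406560555211503600748251188241764188471833)) (.leaf 2061110395106014734099506937882786241264776575785)))) (.node (.node (.node (.node (.leaf 439418611029572187122823855079255410369552110015) (.leaf 1047482828674166276324561819554441917009195230707)) (.node (.leaf 741191895950369798485504181874312485527276625822) (.leaf 49532333934509620906261373467924617832819271571))) (.node (.node (.leaf 484854138598278999527956287282951963987528061326) (.leaf 2282143794551231520210671558247403154271827665061)) (.node (.leaf 1300766041358986473518324023591919648594858075587) (.leaf 654027185462147515365004415611905750421623174738)))) (.node (.node (.node (.leaf 1675255793347517796139342688256095301727569148991) (.leaf 2671647402250092373593468154268939271036137661169)) (.node (.leaf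 1272427969215549360535103689497014132770826041318) (.leaf 1904166681898930827808022615485347527615431104665))) (.node (.node (.leaf 1070123350082609254132600279997143693665403913897) (.leaf 2007521443022655401831814556582011968315474303717)) (.leaf 515975872061019033759775258988227606084836114896))))) (.node (.node (.node (.node (.node (.leaf 1213517196253102284051289624048523625533641286639) (.leaf 2816258998718105516812055878392568367381843033342)) (.node (.leaf 905798484640629859263394502583164723826577504716) (.leaf 580337162276249927505957740686481319642626304209))) (.node (.node (.leaf 1397019787626025965508339621121606622309809355759) (.leaf 1972360900920810372436492032107176061816068875620)) (.node (.leaf 591459894405475589421797831336594745262981449684) (.leaf 2066569729328339179961192364273951358241116656688)))) (.node (.node (.node (.leaf 2735958720700161571449767488164379589172118206773) (.leaf 852474910292386384806795101589823602124151159802)) (.node (.leaf 568419979431966332631582025166113489305559156856) (.leaf 169338129711673276246243606498334614796723505167)))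 (.node (.node (.leaf 323244636598108511267944626772097818466721131194) (.leaf 298364989633880148763498992861163369728087460226)) (.leaf 2404960319242737178304064139664624746602063142202)))) (.node (.node (.node (.node (.leaf 721282067412255119707354222665428509747315717496) (.leaf 2053885895925243960474936285704622610921970411282)) (.node (.leaf 85355207677140618165263640621527816862535005467) (.leaf 238220457624966800592341324151722128888858154709))) (.node (.node (.leaf 2247067040220060603029605132564386523834504755083) (.leaf 897145744053650254502232543071463488085661609696)) (.node (.leaf 2335323176930952480645342373461343830637426644542) (.leaf 992009402742679077094662287667836585128438072730)))) (.node (.node (.node (.leaf 1106880601624473824704633811453880632129447840006) (.leaf 21311290431573761473539728812393746080472945248)) (.node (.leaf 1271990070734307459925484166039824231965346209184) (.leaf 1139121523209529565387335593608218334195431559458))) (.node (.node (.leaf 981623272909939316713423180749855838312395453113) (.leaf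 2179789105269009485564739887879732846076714477781)) (.leaf 1123925103405052312850495482988699793838588309703)))))) (.node (.node (.node (.node (.node (.node (.leaf 215762788274116678057375498149799186885211885984) (.leaf 561611308467308371166488539713423643736190110225)) (.node (.leaf 342159576225324724049024174616567296711912961865) (.leaf 1640171637233952758085951564321003699720873832588))) (.node (.node (.leaf 139010918074581329035632515622981060089354317348) (.leaf 832112622327836886086926109319941773468568127745)) (.node (.leaf 14272250068748212904166653777010454032493876195) (.leaf 700751781160414892724017527805896402138451416998)))) (.node (.node (.node (.leaf 911951344075073887301971781730997311526476107512) (.leaf 540985850505523905465859505902229484576777189980)) (.node (.leaf 2370907937456575728508899127304103679808333059585) (.leaf 316402771136883437836115347555195927301996554077))) (.node (.node (.leaf 671247200305896549208830417169808972853013207699) (.leaf 386118847291141454973523555245098892008986716461)) (.leaf 1410552485531193702127596983130233952369393355646))))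 (.node (.node (.node (.node (.leaf 517185936820629696200954474168968572691606454502) (.leaf 155791579132775317775290552248133993759018456507)) (.node (.leaf 1442729287692893664681437878728248507233593343098) (.leaf 2860904960675846204586273450305435344453596440933))) (.node (.node (.leaf 1916879979803138511381076504688206964316684329988) (.leaf 725373308278191292815316647717983603838306565414)) (.node (.leaf 908167613167230852635378639219154648481190868074) (.leaf 2111817147420050866617148561603657332369429088457)))) (.node (.node (.node (.leaf 174214756379992584074337265645805008549845017877) (.leaf 815530450278390305619831473840867413581241952055)) (.node (.leaf 1593901331545943596392131885018584859701043675330) (.leaf 2360379991285407081238264638857422156386619174623))) (.node (.node (.leaf 849133038086710385798223501293958112717478688909) (.leaf 1592828619788041914645260246776411941263589438737)) (.leaf 88021114211619971074605955552416848476839128176))))) (.node (.node (.node (.node (.node (.leaf 398659339757194938802894473614125946637883922106)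 (.leaf 2359364847364146142842255324788474784268415482567)) (.node (.leaf 1374947978518387111191673151493940307572439613597) (.leaf 165058173919394082495979568971234618933967390375))) (.node (.node (.leaf 1242970481910209689916458618335244008362546822850) (.leaf 165915582047365043167945986960926091245027469833)) (.node (.leaf 2564037162996479965406055653811625280355039107409) (.leaf 1821188506216556564233747872178225038710316989059)))) (.node (.node (.node (.leaf 2712595794123835713024923680309286917126162932706) (.leaf 2134751904210166468636889042844012346190740883828)) (.node (.leaf 941647901861450989302637591543527255955727940149) (.leaf 1390989436670556755610971492475773689420295212388))) (.node (.node (.leaf 49535809332304532197907239217260996956903317787) (.leaf 2360380402756848004377053729623346761099482791340)) (.leaf 2075720362625420237342885955386705621419107291785)))) (.node (.node (.node (.node (.leaf 165188249568690280545687753877632998304067796992) (.leaf 279861331548725500360149070705679002377032184479)) (.node (.leaf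 832115807739288243180065973303614575000985640532) (.leaf 1798379498981174519903409319160923406958390875426))) (.node (.node (.leaf 905808940705995066723892362437775646667330514402) (.leaf 1700694445716380055198581194127151294110242242546)) (.node (.leaf 1419784515466756620030493130382326055632154357284) (.leaf 783306149872348823765177235966302182621432131468)))) (.node (.node (.node (.leaf 787061268142920076994059920073823213487279054001) (.leaf 1068403059793788050050462953811964345140631085802)) (.node (.leaf 499259029382589739217437584424236667523878224437) (.leaf 2727030187660989972370432013185893127323571620681))) (.node (.node (.leaf 1025172527901748556971228912491547552660368159660) (.leaf 839765631847554649895022269013074411661113199163)) (.leaf 1254432924183495877110673963243874566390480591618))))))))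

def twoElt3 : Janko.Tree (ℕ) :=
  (.node (.node (.node (.node (.node (.node (.node (.node (.leaf 1743038539323370792162078781737257481155458838734) (.leaf 2827622861100562937046480080047621155127754740569)) (.node (.leaf 936135860301725850624596266407243584313744074254) (.leaf 1092161375490522783834249053741917014797379919353))) (.node (.node (.leaf 1042199595477955922554051971671889717114798952137) (.leaf 448190775281140135348644596896442835459751813126)) (.node (.leaf 1309544656286382781628467238526122921567521538728) (.leaf 1193514835930200424232351321526661030905586381276)))) (.node (.node (.node (.leaf 1419714089913715901161396456067291309445892449966) (.leaf 39574598546685949143824405538073395721014947445)) (.node (.leaf 768910750699443138696920368744307215451249243033) (.leaf 2921842064569982264511673377551948033711678851075))) (.node (.node (.leaf 706243182953126415855145360352692991003531687319) (.leaf 780923533444044155120273643088500145501305392565)) (.leaf 1133291118824683927829693595155032511319002288797)))) (.node (.node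 (.node (.node (.leaf 4473601893945412280632736798707461373515330785) (.leaf 1058282800443687683599195571101802960970831774359)) (.node (.leaf 2701512092943517872238991954094719819584822557065) (.leaf 1066646676690471597398659717687838185970997317494))) (.node (.node (.leaf 1272394833692141278178240513523111682695392052903) (.leaf 88224180744995435515012770043952858386538974339)) (.node (.leaf 147203779493445022534321922456941134553995259271) (.leaf 1068660796265735855211880864971271081672648646512)))) (.node (.node (.node (.leaf 419413458874823647914325628914292154681510958400) (.leaf 492915441911521087045084170493380721807809749845)) (.node (.leaf 264495951668395713426455864911411072718266206809) (.leaf 625249679540585384701172783019117618793324153664))) (.node (.node (.leaf 357574385573775239287858266105912965063294781582) (.leaf 2771388669136173652213632414098128773124528846568)) (.leaf 1192432023291690142985107387883278661921460061392))))) (.node (.node (.node (.node (.node (.leaf 1798936553306190933665406861383904397056048893685)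 (.leaf 678336395891994836881172088634677086326896432672)) (.node (.leaf 357889550192946279914526804775659231328611899543) (.leaf 381895404573430538388335154746155094345941008199))) (.node (.node (.leaf 317318944114308739206109115717101930377632564058) (.leaf 1254245022399430151851839663024124500161424406459)) (.node (.leaf 1468599061667936408542100753307504274400716933568) (.leaf 1788492635407190045103988621426937917586289553718)))) (.node (.node (.node (.leaf 2246761958949903438074554543280505256064670193164) (.leaf 212811263776685617565948297111529770312122670419)) (.node (.leaf 429199266408034815521093591655035969055602970541) (.leaf 2191357459380599377063324531732980491440242472285))) (.node (.node (.leaf 488896834417834063458431744131307913407648875956) (.leaf 2167670873583608399764120011277542438032373345630)) (.leaf 2774439631013331463422083372822177323919671934348)))) (.node (.node (.node (.node (.leaf 1688576033065257675222498041022144602169949535231) (.leaf 1320721096383858907246664940280070721795419725559)) (.node (.leaf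 2381944033505973439271266128874421263385529763858) (.leaf 47822706140239076204405840998608807480787482393))) (.node (.node (.leaf 947207066358307789016968192916419184552687815590) (.leaf 222153982922977162452688503368465138354159785263)) (.node (.leaf 1597526368874452962141600943162739450599283629886) (.leaf 2842745131225497661835851970363986933478383141810)))) (.node (.node (.node (.leaf 136796289928722049920316050143697876295680630653) (.leaf 646538117704301423350732101009897397480047351278)) (.node (.leaf 1312504961129560589568322470252733734775323939779) (.leaf 2407010120245499295807463556324246226363479420496))) (.node (.node (.leaf 2133116960602224446726502263202822750383508561309) (.leaf 419419074044098029316399433090924174393733165625)) (.leaf 664981396592424630573928563658023457098855940788)))))) (.node (.node (.node (.node (.node (.node (.leaf 144459526350659676305587828286725634320077343929) (.leaf 2119182353363987306620949337965001500698890330394)) (.node (.leaf 1517531853256753049750184843737910101475111444208) (.leaf 36157458047659431372933021489392997465883195230)))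 (.node (.node (.leaf 1758329789440745005877830102932730180838147651294) (.leaf 90641548662368064004940178968728745999324900986)) (.node (.leaf 562896315385282930209825424024357931149140654221) (.leaf 981624036672147370394455349923237616914528892323)))) (.node (.node (.node (.leaf 119060633609463384348911152257580977522896547502) (.leaf 390622031693755471983256883378491106177662427256)) (.node (.leaf 1055160303839270308217247585998493234480360455183) (.leaf 393574448163563747831476871135443391445058154591))) (.node (.node (.leaf 1868911255480439412424630338066156156343597596799) (.leaf 1104858618771445314766036262159628090903946476003)) (.leaf 284039417085277573543851910585480432545171451687)))) (.node (.node (.node (.node (.leaf 266827630738528069182778757502465147939207899038) (.leaf 643002346549994827312205149401584780246088021290)) (.node (.leaf 2133792349496485227503309579671692191633806420428) (.leaf 1035857553542346799586141138061504795294722363850))) (.node (.node (.leaf 1419795588186115847715460608206451294527541284374) (.leaf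 536026467319800874155961186661092627263713586159)) (.node (.leaf 540105275750352322198287148697932305115357210868) (.leaf 2735736490741530985471945163066493207055063497862)))) (.node (.node (.node (.leaf 1823586095232646347637311696252261264076672570175) (.leaf 1893671602617817890466645204894832516010009592086)) (.node (.leaf 1799418119499614567223283454192665762721621470423) (.leaf 2509546773532229299333268023566709957008901781901))) (.node (.node (.leaf 1574187091571833956526753802613746396554020330406) (.leaf 1344921557856213149750937801914797432168958994740)) (.leaf 2179802416401135565260260931722723314824443230923))))) (.node (.node (.node (.node (.node (.leaf 1408775916676324391734100593627628485325698202312) (.leaf 2110957111078689472781997314436064186351270292732)) (.node (.leaf 578637482373170954558164529106120587432039944238) (.leaf 1697660877140552788694915966181263334444361977274))) (.node (.node (.leaf 1160136441330633757504965843829216514564582166381) (.leaf 751861755070414687586563459965911726541423035309)) (.node (.leaf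 1697647388084933846817980068931327285186947721811) (.leaf 61555003664379301919424811478755306688059810736)))) (.node (.node (.node (.leaf 342347856425511098892868606177164416413880641779) (.leaf 131845114457377107352706296661864924075912035772)) (.node (.leaf 2076674380235054329329195366653463135328829846910) (.leaf 974161135531952570506071399829233855287101508530))) (.node (.node (.leaf 921962158509183375972838471159255061934485890791) (.leaf 1353344511153414818372059052564754154754616481455)) (.leaf 122603136760973551433544279338931420334839937516)))) (.node (.node (.node (.node (.leaf 898658275872894050988723663281548433681626970918) (.leaf 209843344154306189316452820109226036405355155954)) (.node (.leaf 451645791356209397035781264315296986300590370384) (.leaf 220592683651504099623653636180906605966216542244))) (.node (.node (.leaf 2841287079389608554168528403152383349902239619338) (.leaf 2735959157630966830150460910224507036926534994395)) (.node (.leaf 219782191891719270330282263732188882892563894686) (.leaf 768927874661492371478424359222623485839888333814))))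 (.node (.node (.node (.leaf 2214645961147606667997768557929358488619973663184) (.leaf 1891688863426858642259467419285660985257777610403)) (.node (.leaf 108511901385584155885707884265809491124277308046) (.leaf 874465639822343416856072760119238203274292920271))) (.node (.node (.leaf 1312510296687925086314023915396529437857879041871) (.leaf 2063478903432183548627773673849322704732887336021)) (.leaf 1947387683752762300059757981045304939518304901941))))))) (.node (.node (.node (.node (.node (.node (.node (.leaf 268727821534535805430784723993419605321540770831) (.leaf 1139104152177071525227377705857958363624940948589)) (.node (.leaf 2063428904927475947591429853373071161488253745940) (.leaf 492635250795352894424684797416108619863875233088))) (.node (.node (.leaf 1353769729020917185746347300961897397439463830996) (.leaf 839599434129231106080394444099295246224165228544)) (.node (.leaf 2622443754934932194169984381759572200451878056696) (.leaf 1128488738001672336419235786968584456015507901871)))) (.node (.node (.node (.leaf 1001068900868683657063496193510886634933066326693)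 (.leaf 1272402989291718364144888368044636669253641619046)) (.node (.leaf 1158150584406499311413665247930889539347093345887) (.leaf 843713342751934119824924243916597063005452979240))) (.node (.node (.leaf 47779731757476714080293324245562414491094326939) (.leaf 151095599672763387853225117887293210988573307468)) (.leaf 2667323091553221829192232820565543820809552128237)))) (.node (.node (.node (.node (.leaf 677996224098506688911899268841936292754559761703) (.leaf 2302592459391097106212975070126189047752174584609)) (.node (.leaf 276620618367689353237777480239323501497001630710) (.leaf 306762805721154182829614372433038443759274733960))) (.node (.node (.leaf 2166168860561603561452886453172496351345301384850) (.leaf 2648154482693532631274329540392070449026634427305)) (.node (.leaf 235742042169778942103750044704566925525298235333) (.leaf 956404493586533287814659623512475558138411653035)))) (.node (.node (.node (.leaf 1468604018101945779059261344919780565018398769021) (.leaf 1193533533360981450365238479300110420730076425725)) (.node (.leaf 324743080779526104716343305519762490988084472560)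 (.leaf 1503831203432053158156928653248387029357419561949))) (.node (.node (.leaf 898663717843125663531912378154710720505059353423) (.leaf 1563206000092017618846209354722889228553395622669)) (.leaf 2302737509720743436331486659727780869235082558559))))) (.node (.node (.node (.node (.node (.leaf 978027144459215970121250959653605191544808032202) (.leaf 711658067999751562063980233721649057709199684269)) (.node (.leaf 2407442630334265256187845844086037879972117937001) (.leaf 2154601943563837782204254331092123331457215155643))) (.node (.node (.leaf 2484492983538547422297412075091181237425618393312) (.leaf 398666243827462997382998116432168076844129122387)) (.node (.leaf 932193431784423876422532091729035475185703536486) (.leaf 2302589935047932906988493308048258978369968623539)))) (.node (.node (.node (.leaf 590409573351143700331077823402206537908446009167) (.leaf 1250582102538117828239253054706685741598494264308)) (.node (.leaf 341686793159427965574468030351984478029772205516) (.leaf 1552762409723625785692320954689106097471695090294))) (.node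 (.node (.leaf 941636068330734589971603645317818586050318944850) (.leaf 882891698234071807236979007980976223238882590950)) (.leaf 322288591037742304928699206269015243803248018270)))) (.node (.node (.node (.node (.leaf 912028866000522555015558998060081016133273751330) (.leaf 2841742971909202306138606038242715715792637224056)) (.node (.leaf 2757651701448248565547546484051218999438474774340) (.leaf 38472263340977217213869224433045180897355676725))) (.node (.node (.leaf 1208845005440594012573498324614755074745113384116) (.leaf 1711488509110415603891847355470846073878106049959)) (.node (.leaf 2884560236286313959271046897694523808314216692527) (.leaf 441113231781145500309724103834333364916625412971)))) (.node (.node (.node (.leaf 1036211249170804266213489463029376589715412317544) (.leaf 2063467962631462539411327199205567330506030145363)) (.node (.leaf 928034277733578511388790148363870959333893690238) (.leaf 1845571615775270868729695126559852254059573750589))) (.node (.node (.leaf 1168976927990542321516099179897995478386599679673) (.leaf 729604004091495135413798378580804474382961919822))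 (.leaf 61570240680841905279681980239924399999623904235)))))) (.node (.node (.node (.node (.node (.node (.leaf 2323993793243466326640232096619138417283415621614) (.leaf 865653254444060975385218445862697433533295450078)) (.node (.leaf 848894156859121732423216797331290723553124506330) (.leaf 1586429653901234795755132907226220581900290670839))) (.node (.node (.leaf 1055171481173097083432173662866980853957887045245) (.leaf 1003224543495208500281301503291411041722646866411)) (.node (.leaf 139092498636944339893779640827957409486852847277) (.leaf 260020665177901045219566080799839632882363545465)))) (.node (.node (.node (.leaf 464533598402510911801668877285892130120036126642) (.leaf 1363048526216872119777280676364118889860234447308)) (.node (.leaf 1778514024691784920236022113733325563682321559130) (.leaf 1535756510710160548313955564599354315611944087755))) (.node (.node (.leaf 2201627625001471006235041119083768964905639580395) (.leaf 22014804522331736588065591434786891838445639314)) (.leaf 2248929068947138151306545872139485225719430016433))))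 (.node (.node (.node (.node (.leaf 843345461103694067104308299682356018744748992523) (.leaf 43883881155408220470391933409134961207060719852)) (.node (.leaf 210880079761282877132238583294319061372867590105) (.leaf 1583820158041637536813511727473530063290562178505))) (.node (.node (.leaf 464531611943147018636757192889908289381711520107) (.leaf 1370155178439479580332306313900439932091228803956)) (.node (.leaf 2576729313964629754546070441909772565242689644524) (.leaf 2485726131526856437764901008828004314267643480451)))) (.node (.node (.node (.leaf 752007419146610149461917597319850639241987408663) (.leaf 641546373287986696600396031758731668447808654297)) (.node (.leaf 2838528257690516009075069533184050211492490464553) (.leaf 463323265665935696423437031541636033402086200734))) (.node (.node (.leaf 1765481524016241470469264593447402815678702380005) (.leaf 1179874992001303309411011668147961740702417130361)) (.leaf 591074918832823168848324886342104788687836166628))))) (.node (.node (.node (.node (.node (.leaf 2909395949499175093575612059236112669797321858324)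 (.leaf 1708242250561593432042976482342757825875562594445)) (.node (.leaf 2658515886564746462640237161009121546736981508079) (.leaf 40009899560741808338583772567962965841665218040))) (.node (.node (.leaf 1216455292687521406987990481688915406916720467093) (.leaf 2065574190339741418402404739102979144652881971464)) (.node (.leaf 992953631281866196740641440346395421251912968988) (.leaf 726281771359533223474580834835536798492376055951)))) (.node (.node (.node (.leaf 231382981155104242833956080197083136448055620062) (.leaf 2917778927638186585606792759116665367366503273621)) (.node (.leaf 752656992117525332577109177434714453816371662412) (.leaf 173791324636312839410953887405756432770784232457))) (.node (.node (.leaf 695686418515781122939600780425792636779433051105) (.leaf 769075291263551334787040235073618622069768468201)) (.leaf 2006897082043821216361255218327480414817919732446)))) (.node (.node (.node (.node (.leaf 505570640003838875338026164654594583483141076495) (.leaf 2201631891256203032104580067154171675615947743264)) (.node (.leaf 1834109589319938857166718470542244504791490972431)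 (.leaf 1220712683838658356230482582279400258343835273106))) (.node (.node (.leaf 1391008147436457413876849691335736512805820532020) (.leaf 2244359831940858698691303408894104076375623001169)) (.node (.leaf 2557497765114057319587118147675030484481062545754) (.leaf 989181293443449093423224091523407718651934429759)))) (.node (.node (.node (.leaf 1586416237025203193348002656830146538006557652834) (.leaf 2689457464221787413567731726675925993084270908408)) (.node (.leaf 2119174478013700442445885373502232157952011370489) (.leaf 1229999202261138970397421859684283414983186434855))) (.node (.node (.leaf 230850077075616010546204757401655879594039816716) (.leaf 665761191828539826470396901078723384236334158580)) (.leaf 484853461362420981420230104474709267914317699414))))))))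

def twoElt4 : Janko.Tree (ℕ) :=
  (.node (.node (.node (.node (.node (.node (.node (.node (.leaf 1746177539878632115711341199046185286627554947949) (.leaf 511616545312303871408676545064009661428609208318)) (.node (.leaf 1251920753993133223013169165151716051167375071759) (.leaf 476596036764151858935617008173579178298686013787))) (.node (.node (.leaf 302910546055231978273490917981936347773029578047) (.leaf 677997398165433561877814150714773901421549706350)) (.node (.leaf 475700696560003820264130411310202123240294070194) (.leaf 1192424896539880961876379718307952706862580630724)))) (.node (.node (.node (.leaf 986234353438120398339616952339346021814504637944) (.leaf 1552767178597772564781811973927222151406035751075)) (.node (.leaf 2920167264996137435683560410757638003188070114549) (.leaf 554112400748059316422879924655390277080424854930))) (.node (.node (.leaf 2475324061878985633790210654587566108744534573789) (.leaf 2267265521877400987562968082278270919745405264190)) (.leaf 2484496795344925524293096744794009336375795795089)))) (.node (.node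 (.node (.node (.leaf 287343909888225459608150403824573597937753944199) (.leaf 250492643791977093484061812203827594375732410664)) (.node (.leaf 683962586909291409796407523515760914756569524787) (.leaf 670650561635743954695068220085428279260528502476))) (.node (.node (.leaf 33069743075360431639846658930551014687267087576) (.leaf 1470124971774377848753481640183208120282778774598)) (.node (.leaf 396305554086565900781519835746780153921161814063) (.leaf 152672101650886369451755520886064020114732239776)))) (.node (.node (.node (.leaf 911961524702106341393089825594822662776495548995) (.leaf 368417218215470413699522447548853812397330715190)) (.node (.leaf 806955056065903641219160020160843557334832370609) (.leaf 475706164235864660735609508162545799699231161691))) (.node (.node (.leaf 2636108586469478980220154122444818326092902696607) (.leaf 554987573382747767924900358717997082209992202537)) (.leaf 2917776239590693441093970969266767527966366217637))))) (.node (.node (.node (.node (.node (.leaf 279854064163240406136085059007259723163109173099)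 (.leaf 1390869481095017187508853584011838176235599463682)) (.node (.leaf 539323335167236378440732800761249162832510455852) (.leaf 1535743229951371277432008680748709412723250978886))) (.node (.node (.leaf 178402082673560487297994952369204812463180488949) (.leaf 863732541178511414208695265169192938515147856557)) (.node (.leaf 1048813594518663587724982760221105128089740412384) (.leaf 1300767906682731354519675142660663442729240119367)))) (.node (.node (.node (.leaf 2747470796431997972536299667718707846154999011681) (.leaf 654023851823535979477090303828085701424936819201)) (.node (.leaf 2541374541361767874997803246311295786385910541049) (.leaf 2485717327779492775688936137360493082189402513188))) (.node (.node (.leaf 1995600832935969982721910070335080320961919925851) (.leaf 691758520783880706906425594018035163605715083168)) (.leaf 1505035692340773785228267797869786876359893660036)))) (.node (.node (.node (.node (.leaf 2510535692322208150949030751898211073194858807458) (.leaf 2579719879733188023268771458706314960956147805250)) (.node (.leaf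 2566825650473243216573321586439893455605107073184) (.leaf 2740148156288254606950049380784421382260252696621))) (.node (.node (.leaf 978048145573696273565371253102630496813215422088) (.leaf 291240430047869395954930896924464693175282854050)) (.node (.leaf 786757635528930329458630796508431527230862101727) (.leaf 647336179295799807901967659086819713085239885271)))) (.node (.node (.node (.leaf 1306919658522174203162646423798607539834879404925) (.leaf 1168840254214795289893881696264506976232561274282)) (.node (.leaf 174224907406723359244531823251324863748513265061) (.leaf 703606738415877879473283623795003168698709768842))) (.node (.node (.leaf 711612480423857976962139798075271762619265323078) (.leaf 1925257420183416416534640045068498232557250574778)) (.leaf 1407484057956235860136751261322688040405244991901)))))) (.node (.node (.node (.node (.node (.node (.leaf 1125741278619038529411176336967033755174238516903) (.leaf 1992520360919452664719015640309691149035788904802)) (.node (.leaf 1995848071342088890907485101076148089158102566888) (.leaf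 775853559393598588474389466315251651490251908061))) (.node (.node (.leaf 2838546477752864027803413386553027600463042717503) (.leaf 1252479781126812940927172506022247232012568913531)) (.node (.leaf 176043539307884390544696760328786260924139905599) (.leaf 2657850798016461974819923297678383178473866836792)))) (.node (.node (.node (.leaf 1789151855755383455241945990374113736814627636329) (.leaf 729607812128227177708398918008435384589021142880)) (.node (.leaf 77565017219708805253855643823748404344696768926) (.leaf 1676083829889852844550107584360875187547084846446))) (.node (.node (.leaf 1482570103362317456952656591611350852381395049381) (.leaf 485808926579015281141016707487072880015377396577)) (.leaf 1125025414518840729432290669825931748900064373449)))) (.node (.node (.node (.node (.leaf 2704937589642509306213858862976359164965450764574) (.leaf 2382057281038361705297181649310536716127330259449)) (.node (.leaf 1145797821710857300393238204246289578146998902942) (.leaf 1203043255022380745143361269975100671828210348588))) (.node (.node (.leaf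 1168980422604830509684239519507999428955940066998) (.leaf 2165936306031918413912012131797294457874089273591)) (.node (.leaf 306345419948379189870915218447734065192921619204) (.leaf 1710738173937293198798555179832492857408662922843)))) (.node (.node (.node (.leaf 580032370129305559253458244341052489161842050462) (.leaf 2921189196220517160877273495215632267804784210226)) (.node (.leaf 2361480570851410138554767071778507501173792357499) (.leaf 568419255624275206278213440341903795031248315274))) (.node (.node (.leaf 2088672422794592026736257923825113665284042041754) (.leaf 2382063416105964148453806932627384102870806939783)) (.leaf 1353771417382441393885244629929143066600184795390))))) (.node (.node (.node (.node (.node (.leaf 1077141369749032173596473847746278136338770991177) (.leaf 155782148053978627074468935247241086090808309176)) (.node (.leaf 1790116039459258772583101636893790242195706178005) (.leaf 219437017352327750397110463241565418465091452148))) (.node (.node (.leaf 666550295233728590887157507846071041565408933257) (.leaf 1323784190150430053867897834199933437396246631283))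 (.node (.leaf 2383760552641110714527485367947041851835010570638) (.leaf 973607636326779638904402931876042981178873812219)))) (.node (.node (.node (.leaf 1228586885642459822092161432890157197604566686678) (.leaf 420589542061493611702590489725785775576573140171)) (.node (.leaf 1237821202461546783814671600454659026250038091021) (.leaf 1366364095262495707793856296156636487940179562206))) (.node (.node (.leaf 1940603404954738438348980917369149772859717635716) (.leaf 664979602123450839033748576079335373062328493005)) (.leaf 2038679412823868662541896209065070599037754344814)))) (.node (.node (.node (.node (.leaf 1459267314517208525299528379639109400958241512754) (.leaf 1724018307712302532672650618129830129651983686118)) (.node (.leaf 2564040323343400059559481712717258172681882173207) (.leaf 843340570669229157110823098256213977018666133003))) (.node (.node (.leaf 2061540836750046556607967949694064785925456063940) (.leaf 1504691203879452903480608793136419177113288875105)) (.node (.leaf 2598518678038513561363929014861929265257300194058) (.leaf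 520660592991040356659445803925539522911777515365)))) (.node (.node (.node (.leaf 2236541139766141739737388018458464513106199913092) (.leaf 1696867447065917703104716652410990495097894317599)) (.node (.leaf 1609078116755111608698639696391132938811844208368) (.leaf 530893180872618623642081887290551035277162831770))) (.node (.node (.leaf 665153370219261853560401883146844876279086713869) (.leaf 1708247270911680663139885515595495496102056178275)) (.leaf 667733650255984177105031988663931133395341158614))))))) (.node (.node (.node (.node (.node (.node (.node (.leaf 236221839187690063579474347094647703683017334304) (.leaf 2792828986491872592378714987350435916813810365789)) (.node (.leaf 2145059489721807418637759698378787418349366148803) (.leaf 1252499045203449240007112634240946157501819554255))) (.node (.node (.leaf 414376423800387340186212555736659875554427600542) (.leaf 615069432788878997382233903357382248997846407913)) (.node (.leaf 2111817642278746286538870681364308638405484251167) (.leaf 2061108131656506225691382603741468304371678985705))))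 (.node (.node (.node (.leaf 644736038193295335142884363225086747587706728509) (.leaf 1995849454066659524450427984335109685459508649938)) (.node (.leaf 1798950731253901579083707654607205077808938482759) (.leaf 1792556181765198294300728200290020199727158374659))) (.node (.node (.leaf 2323999161540516687909823525840423081393385959675) (.leaf 2747103858914430741482873474773438065295518202425)) (.leaf 2873499556372684953991628992698028241206137670719)))) (.node (.node (.node (.node (.leaf 2883313647010235719816036269265794261884022643013) (.leaf 360810354423205015900995316407091257106637747063)) (.node (.leaf 2154416622898121335898002618908039289678853441498) (.leaf 188645457851862389886299516137683462006522218836))) (.node (.node (.leaf 193522802379868571361190464273612799714556691683) (.leaf 1128498811824551389163146382558548969541682810560)) (.node (.leaf 956706414961391604278317221896411010457586114006) (.leaf 1298225970938585188678824906174814605060066440951)))) (.node (.node (.node (.leaf 165343342619917969822297740560065719828281274116)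 (.leaf 888745233888655804006842739638072034537457449858)) (.node (.leaf 1087797729463903385786604954602045237086827155056) (.leaf 2552951504453678891704950217758879726578623896715))) (.node (.node (.leaf 530643736290036085951192360309920682394806386435) (.leaf 2237351715548196383691022593269485990529196305068)) (.leaf 1632531483307467434337355373247822747066368311575))))) (.node (.node (.node (.node (.node (.leaf 327373089115641044764454798752250700441456871436) (.leaf 1021313301146749719407989757568858992259687882567)) (.node (.leaf 2590905403369075181456935265081587968897146577265) (.leaf 38938328354966961013696356868069203211250189841))) (.node (.node (.leaf 1619997910557150679683201944719698586604398506691) (.leaf 2875826133242090587426829670952554572448114012057)) (.node (.leaf 1283755150569691904598162130390650397445696005271) (.leaf 1696876124184507266494695500227588194750555407705)))) (.node (.node (.node (.leaf 2006889540668076312979679639778481132430506941122) (.leaf 1723283790537630267108262244333237804689724203339)) (.node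 (.leaf 179423148633212761581611036891210997916862894116) (.leaf 147194969981980965238158180817780598593774053675))) (.node (.node (.leaf 5710125273565357409832292351630077996235245636) (.leaf 1940647088040390742168840420725877506032924802206)) (.leaf 1354277404030685884694532827866869957863562339088)))) (.node (.node (.node (.node (.leaf 1951364435951986112166807663228028434313270507108) (.leaf 632442050428035693593674977860610017183809689850)) (.node (.leaf 1582595526635907990300843500114259605090734451730) (.leaf 1174783568287388607446636490999911687511346598110))) (.node (.node (.leaf 534286480548648020726562272575689325288824136753) (.leaf 1939691075071271753274301890711993031253965830213)) (.node (.leaf 1374812670005125153363739870782599858294453103312) (.leaf 1399498669483996493865013266572721230089505737807)))) (.node (.node (.node (.leaf 836900002779139710149148778042898741911865933555) (.leaf 2372175818262845878000889665869476716827141407074)) (.node (.leaf 64610663121778890122060499292869042331389593605) (.leaf 781187091733288182792270552305862411324848784897)))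 (.node (.node (.leaf 2646952962469018751341420031695142695688496060088) (.leaf 1893669257901276296782419917285993688983505708326)) (.leaf 671654899697143868241382875786497372904711290459)))))) (.node (.node (.node (.node (.node (.node (.leaf 530896454410268569102640177420417034056930224220) (.leaf 1792458869802646631217062578754809363918001138798)) (.node (.leaf 1419711187542648891289224579222770361780369446589) (.leaf 1574176627049972203092425514393906439035090485482))) (.node (.node (.leaf 2247303864981811650162118463036021941640324751533) (.leaf 2864543976878233598655275188468740309310100907928)) (.node (.leaf 860058526311282730873931774256444750479241313616) (.leaf 184375445638426573255249187616403176107404293988)))) (.node (.node (.node (.leaf 306747545546991080630662916166409156769933503476) (.leaf 1174983350702159169872880779830755384901549970544)) (.node (.leaf 316397871803932355578558504178183958336972948335) (.leaf 232123190448830521499425321622099264315643368926))) (.node (.node (.leaf 1070118964877250702452690598720471501666702247712)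 (.leaf 401199898148644799777396693468348570368511953522)) (.leaf 440348119808572129733162885754175865049782496211)))) (.node (.node (.node (.node (.leaf 1607112480156187751771906797866507355315085046831) (.leaf 2704932336454209529879908927581195833199642519174)) (.node (.leaf 1826201610162213939667771452180296886216104124400) (.leaf 2509531704671338029647493178814355989931802357867))) (.node (.node (.leaf 2716889601997037014983942013412088369618552266974) (.leaf 997345914781004766940597443605612741564634029478)) (.node (.leaf 2168579831272472622608111806609270952667762959101) (.leaf 730391723518978318869270921599589316204509334883)))) (.node (.node (.node (.leaf 403600559008753148667566776218320749880827782831) (.leaf 2875825319204292202778580697383355499789132558777)) (.node (.leaf 974152763218156087779745361706075453871722949954) (.leaf 1620283151555056794832703106280329545585489254314))) (.node (.node (.leaf 1228590558956176286150907632600485582016245743949) (.leaf 1524904690135033112430601217908873470340352476381)) (.leaf 1788584676455390643789360517749810965512191271299)))))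 (.node (.node (.node (.node (.node (.leaf 1047478311988674823153062234731218455825167124173) (.leaf 1787169562159831513346228792098351306852014690494)) (.node (.leaf 1140015935316632255389260406997497324629294830039) (.leaf 2347112848638985606790376789427181476382668396690))) (.node (.node (.leaf 1848988540194286112617621904886001609680602015095) (.leaf 476596055439976157056610109364723483848224988578)) (.node (.leaf 582186921237972332062813717448960135612730520075) (.leaf 2716891515495571194949026593119116767971143642203)))) (.node (.node (.node (.leaf 2648153556387067115758451405208368496257239142628) (.leaf 1894240427500703994831782846243447320427867605442)) (.node (.leaf 700743059147776410287658306591738498720612810305) (.leaf 1035576498942968519890364984166626447925171925092))) (.node (.node (.leaf 34487160287460798494868731699661646771229909719) (.leaf 264487251502615433404763967404337409675595344353)) (.leaf 2671647740222757246332529369253563495240048226072)))) (.node (.node (.node (.node (.leaf 136810781374603395663465414656530982874297327834)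 (.leaf 2762992461072234068197271978030390460362697368104)) (.node (.leaf 2281077147073190311857389692401305701092948184820) (.leaf 396584280411516358431199144678233349799834195970))) (.node (.node (.leaf 1343227205847300713462870146378911862802172395119) (.leaf 2922738123279141380120606229828771781655883859543)) (.node (.leaf 2863124551433275243896517512961101357250233978747) (.leaf 1539035588057760285453127122188041545484134359492)))) (.node (.node (.node (.leaf 1057370283202272467707586084298264476684369616494) (.leaf 427059728512088673018228942942475844590865500327)) (.node (.leaf 2407452309760204610191481651017463401783148792748) (.leaf 1347308341183850072649273638434156088536911900288))) (.node (.node (.leaf 1125623101535322824689688121538501494367161082777) (.leaf 2349798313491546417189332940009347536095164058383)) (.leaf 2234112039446810062425281375153961438378722317335))))))))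

def twoElt5 : Janko.Tree (ℕ) :=
  (.node (.node (.node (.node (.node (.node (.node (.node (.leaf 367547861334274764414333668336523237395249343922) (.leaf 1916864908017849142155916807277776890326077671567)) (.node (.leaf 1174999976897152009965668573970046640290178135948) (.leaf 832575545195401948248045967409418614254154898611))) (.node (.node (.leaf 804043907540885527390448911114252561475364265063) (.leaf 1484189865825508448600593829046798333558913858747)) (.node (.leaf 1322015847384240800931984376994089348340202337776) (.leaf 2247292196415718458031355746353707593752608939134)))) (.node (.node (.node (.leaf 11724492345971131743288147594715118585283000382) (.leaf 2648249795273121781369656707097208836979101507574)) (.node (.leaf 1408373335850159612846978701751898486887060715338) (.leaf 1254434662826041239313765553503715824859082404581))) (.node (.node (.leaf 2007532070245793097105188204569277346624242234134) (.leaf 230889061274461575259080251424164445106806000649)) (.leaf 2123374630395245484171981570472943331429979249122)))) (.node (.node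 (.node (.node (.leaf 630359069170450214404152126902780976446535231311) (.leaf 350719925342045775693147657036267870150280954665)) (.node (.leaf 1252897259480464547679344874299532822274941290176) (.leaf 463332777640347550248465443300521523798502253156))) (.node (.node (.leaf 2143005125708964593952931413010825006606016075603) (.leaf 934331596719091209642125908907982899731965410967)) (.node (.leaf 346983286877703431580743396429761303319356864154) (.leaf 2154417150912326548789631740188415659398025416288)))) (.node (.node (.node (.leaf 100199012896692692466099951815337206653400842953) (.leaf 2110956265515993525718129515846205794988834451644)) (.node (.leaf 1479099374593506171992543795432736475576879266304) (.leaf 1524924393246546353826442397321282161374887652404))) (.node (.node (.leaf 460861205494981901722007903536101999420390143807) (.leaf 36775497001828364576728525171790461424690886562)) (.leaf 2237348455259480156317889327331802557736459137932))))) (.node (.node (.node (.node (.node (.leaf 2108287872728443222964119220583143108199644724750)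 (.leaf 191722502388734511890775951658113024783551800198)) (.node (.leaf 13480939379611175201076326958686034520082195034) (.leaf 131854588036509379037293319097528191407886495304))) (.node (.node (.leaf 1203046336563966418184941535774285187220767242256) (.leaf 1353350282610503706179506629648304831425685811851)) (.node (.leaf 716169576965140557560955833578622075515468096153) (.leaf 115659334566458309559454276396446506551211089968)))) (.node (.node (.node (.leaf 701712520679674756192355653610861667517694438297) (.leaf 2681450057636654666060011311789207118306187107115)) (.node (.leaf 999890559771425549173429873473590666213927529269) (.leaf 757927898532519769592281838169972316171283670145))) (.node (.node (.leaf 1242972344712549917387774055318897016431012204280) (.leaf 1788575809237722678816509937416701877691289917276)) (.leaf 2701492128322423986423333217481950678038453761512)))) (.node (.node (.node (.node (.leaf 1174560008787077127250916762051250742335184750127) (.leaf 2703424531018867259749242674816006494922574003605)) (.node (.leaf 666558357064801291224885757074472614444314744239)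 (.leaf 930983093849925932462212048181769797129755103226))) (.node (.node (.leaf 137476931057015261335060606145011989820790924730) (.leaf 248580747696415256984216305489490488140570415146)) (.node (.leaf 964998735186095302001924497338205657658737300714) (.leaf 38469271124990790303744734213629339644091148506)))) (.node (.node (.node (.leaf 775576988949001066487239341697729124087790893539) (.leaf 1014282919205332207067390795040095235353099448578)) (.node (.leaf 427086185715628011383071942107683806000200384855) (.leaf 2427101317158059755487479397546923212390734839459))) (.node (.node (.leaf 557963677214250031669059586139529007294026789765) (.leaf 1947386006560894366586662222955338411408848003865)) (.leaf 1973033667592966323828488927954726988665174674127)))))) (.node (.node (.node (.node (.node (.node (.leaf 558912816816332024731856864148632044597536602177) (.leaf 989174963109710128285998605117481454982434998442)) (.node (.leaf 1208840476819605486824829927461899851371863038488) (.leaf 2063421687929960985635107944178652776178038536546))) (.node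 (.node (.leaf 1710747167451171713065840888595602155785867878603) (.leaf 258238940107815742186647862208683376365782376014)) (.node (.leaf 1252879139597206792832683450422686573092366077181) (.leaf 305161222930577350216288691920112563215472873923)))) (.node (.node (.node (.leaf 175319186477116997803347678713977905400084109301) (.leaf 367540020458853844161007237234787151988293764482)) (.node (.leaf 1559917877247858884594839555728656750836144048606) (.leaf 582194977306304065746654462413243914083317052169))) (.node (.node (.leaf 1026921541537778619362315828714614334133967210748) (.leaf 2523039303946683514126575871544008444787661306410)) (.leaf 580349480870413582671734326672407681202027477224)))) (.node (.node (.node (.node (.leaf 276621193775457046057392360002975568271873905003) (.leaf 2108428135048393418387542708190474749013801374310)) (.node (.leaf 2842757564766608967926584568587851603144153517226) (.leaf 45224340129582211133385043263482063615213912405))) (.node (.node (.leaf 12449144267445338345284684741951728914839598865) (.leaf 2520446023753766276102755157252517521998711906406))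 (.node (.leaf 1248674009421564520623806616008800825809468898110) (.leaf 2450911497282186415830456161449889609693374595488)))) (.node (.node (.node (.leaf 1186061146475475287536692709586090652896800960950) (.leaf 577521206472676315472603034734331032846462355188)) (.node (.leaf 357581826635367329678807973852234116926858294901) (.leaf 1066644718776260654166188006210410000913412338091))) (.node (.node (.leaf 485536536900044866380533301079342064467547801963) (.leaf 2568655772648270827206717766572470788691798794416)) (.leaf 2486395845597320221711032735312954353513844232250))))) (.node (.node (.node (.node (.node (.leaf 2245526974074210555965250945517430309095321742987) (.leaf 1676140350930214798355530121289970801059822574002)) (.node (.leaf 335716798071650588364707490861089113523317497581) (.leaf 353536840684000613418402230681688040743825147380))) (.node (.node (.leaf 488877696895307593207874111891790355350441632488) (.leaf 284026394268842840390561839085918371054095692879)) (.node (.leaf 193520367238509677711487783038993091628583487981) (.leaf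 1242663786644435677749073470533385016790481554139)))) (.node (.node (.node (.leaf 2689883020708537737751915446402639545443714067312) (.leaf 852761352393437224963409564457278172591713589871)) (.node (.leaf 511608863828041740604393827806983817989902639019) (.leaf 250499499433853990451565876244036519203957664420))) (.node (.node (.leaf 2426698869993518022231843659769940319608997792588) (.leaf 2806308704058387964959213542975359262417368016669)) (.leaf 2086720529447407490610460646414505577057657146590)))) (.node (.node (.node (.node (.leaf 396284905680028791267340431110005668758216147409) (.leaf 1227806262506431398286148286932478862240807363391)) (.node (.leaf 118286051887816366771428286374733000349080222240) (.leaf 1891968783578952010695461770250639684553325163414))) (.node (.node (.leaf 2644035933886975672726096880488407438244424894530) (.leaf 940702174932849770399794922594431704171806758924)) (.node (.leaf 37611217190096059917921018411208091705166577768) (.leaf 2677781788513387614796956752060629917466899925381)))) (.node (.node (.node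 (.leaf 485554044656146655898295757450040929774931989966) (.leaf 361295076835586976129707193068542579137089202494)) (.node (.leaf 1443225698325138620252921926707625934013278252463) (.leaf 2347976467891303643529146363376813224879821580435))) (.node (.node (.leaf 1384552811142760563330924719126787949159139055961) (.leaf 2015528512680081986241508973690967621287449680933)) (.leaf 362693474479193804474141950641368915265717255291))))))) (.node (.node (.node (.node (.node (.node (.node (.leaf 2703121308052484436849048214679944327076327262725) (.leaf 1821178644495811201358338815754507817959300789982)) (.node (.leaf 137463320807922775641596769659064774384291198474) (.leaf 1158156481355565155538309427876638793695822878997))) (.node (.node (.leaf 2700571623700042814617456609591296597413760081838) (.leaf 85345071830065133481727342648259832564065663070)) (.node (.leaf 515991519723700160388856489481932686111509532641) (.leaf 201709215267862256090117140079408686125721651851)))) (.node (.node (.node (.leaf 326678478608993366318565984249329483838390748055)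 (.leaf 2850959322046182490341602560764480481741686153155)) (.node (.leaf 2191323158407932714722697274173592203276585559276) (.leaf 257295032095278499382186359668184227332733108824))) (.node (.node (.leaf 23919074296825996122371465483929884918165016476) (.leaf 362691565856374390731137623554332791826960447672)) (.leaf 360822192478783157225219990788246411271715150920)))) (.node (.node (.node (.node (.leaf 1539381646381195798626079298158086009280538930090) (.leaf 1799405527635427699662660693975398912647871954478)) (.node (.leaf 1237804105861567444663556040772469970952475819951) (.leaf 760118170205668313235725840023167677122614841745))) (.node (.node (.leaf 335718418598564322046014061490481478962465656304) (.leaf 1332186675386833687083475955204039752060868322146)) (.node (.leaf 153501443607424129657335369692582521487859423606) (.leaf 1396239155524336691794414253392873431609939293093)))) (.node (.node (.node (.leaf 99796040581482719043079915711096591754105997324) (.leaf 852273746953750038673932535703276973406134092610)) (.node (.leaf 918301320310022175863278942422901612226530133228)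 (.leaf 1202166311537107435110978805347939507897984488653))) (.node (.node (.leaf 471561250794247791926174271404451935469036285465) (.leaf 46147545946737493444355575193152763082348640828)) (.leaf 485013502899471291651946562533836919991325499093))))) (.node (.node (.node (.node (.node (.leaf 2645477228598920351547163553043292712772960908754) (.leaf 2145054584030695281071622118175277722029922439729)) (.node (.leaf 2564107930324155616408907054192061412763214213575) (.leaf 1951115621057746076775012465711249958730214268859))) (.node (.node (.leaf 883579937801721101634594691692262583816538984591) (.leaf 144461885597162477426222221274902113073587301766)) (.node (.leaf 2599684460040653641337547203001857995552142612681) (.leaf 2475316537629759279429046486036053746140917225768)))) (.node (.node (.node (.leaf 47780533841046950070075211803566364811145517026) (.leaf 374077176915654261898748502146382910614173687572)) (.node (.leaf 2430280297557119745919275615426029281069955394217) (.leaf 175307168944340793573567873368728294454061169266))) (.node (.node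 (.leaf 2542946541004529600002438873998147665640517557135) (.leaf 887916776207921848749304983783010111028778833235)) (.leaf 58759270964935619853206899126696312471810181550)))) (.node (.node (.node (.node (.leaf 77565040750897654362511408752200552018044001664) (.leaf 200058067670966757699617314677963908258300236357)) (.node (.leaf 1981661994581840901269941409539152016174098648015) (.leaf 184365069500515650298709640873406844967813311525))) (.node (.node (.leaf 1042854412739204716780193581881832142897420384907) (.leaf 2574794209960776368512718109659607198259362017692)) (.node (.leaf 1731644610558500406150046293625725197329982676918) (.leaf 2713808562468667154173232929385629368599326161154)))) (.node (.node (.node (.leaf 2921180044625256503074742239282013090886709601923) (.leaf 625253136989634497048938949801395015271476277181)) (.node (.leaf 2407607317102786366080126916146394015511937233170) (.leaf 2266905998830064434801384421741867557745143019280))) (.node (.node (.leaf 1021187300725330436773735066535151161190374354981) (.leaf 1792445717175898267671070990078505001261406631256))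 (.leaf 519145047673260709854623336651724162175362065467)))))) (.node (.node (.node (.node (.node (.node (.leaf 219427105520222737423220951904667010196185271698) (.leaf 2713727008684333700393337647841635709656628380807)) (.node (.leaf 520658976532116085466977990815278448248725525065) (.leaf 37618439697865784806059196379898046211140508298))) (.node (.node (.leaf 2486386511691864404709599168354510855614470761011) (.leaf 1640153023943525659453931829361501654993860776906)) (.node (.leaf 1036205571291082868757619710047380546136724172564) (.leaf 185711495276728504521598743424612985836297119753)))) (.node (.node (.node (.leaf 1833309045106115878736978357017902683315314922994) (.leaf 1021193503032214490245876883864568062989849557443)) (.node (.leaf 2644041595177825675711702286735723311367476034020) (.leaf 2416033445607708401902737306179382791782724282047))) (.node (.node (.leaf 577500212052881890742618572522232810752987871412) (.leaf 2692722592482477398827960676236258401221801991822)) (.leaf 980393370121173872745676370046585838425162990982))))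 (.node (.node (.node (.node (.leaf 2236004437811750201602378176005732138430513612179) (.leaf 2681448363054165725277008683389065057073254676684)) (.node (.leaf 2384855109785655572935535387410812786895216609327) (.leaf 2774448774216203229625454518425362377765570212654))) (.node (.node (.leaf 64963600169419146933204991702844058891086932863) (.leaf 213640217423470727195314522020188799076056647295)) (.node (.leaf 26468361328116614259437281031667719799295034089) (.leaf 1995596711249587440827024175910288319873481050038)))) (.node (.node (.node (.leaf 272273465183916468093104078812726878706017953507) (.leaf 1352133236476064668525592625061628145736698209026)) (.node (.leaf 729539523956141295405240153401751752649991646621) (.leaf 2713779103158881329303556258248471214196716497352))) (.node (.node (.leaf 1758330058466535370104393628883943760425144147770) (.leaf 353549702484832558037290247301879915747221656145)) (.leaf 1077602855935854413285492622160313326522193011822))))) (.node (.node (.node (.node (.node (.leaf 231049094989397462909397846992738691054094775158)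 (.leaf 1778341298439282895327724839761690244125371682758)) (.node (.leaf 912031410997588090949912342512362800696019403539) (.leaf 923077932149456407063353570880335772037736315114))) (.node (.node (.leaf 330777298985261053721862322101312138931132662492) (.leaf 667799237135729559510648954659238342539029787053)) (.node (.leaf 35282762275920362658927550070254247739694938498) (.leaf 2122063194864516010662457057053806853200157803713)))) (.node (.node (.node (.leaf 22011022015499268651113667456536475757084584237) (.leaf 1179876747408530685061996386319170344833694658706)) (.node (.leaf 1368980399997311198362769901109139660107766439122) (.leaf 888731229457274329013144838338127423597387851506))) (.node (.node (.leaf 1133290781896194363562944461114689303676039106190) (.leaf 1225714031114026989432622722315476972251603038897)) (.leaf 1913705598171905476065739899084110720854857590259)))) (.node (.node (.node (.node (.leaf 1339779871197675775004453887601265109749297474079) (.leaf 102499094908102218503204391794796294892346266794)) (.node (.leaf 2850018725668687615306111864508646070663244576455)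 (.leaf 370767574896832820224277555504746899350399558645))) (.node (.node (.leaf 619411973964181509703662315167858125447660003555) (.leaf 1387522160227413305782418002561461487900178372919)) (.node (.leaf 1160921395832421814958134458175283449469287442377) (.leaf 326668244056443066884629233013968052621634610049)))) (.node (.node (.node (.leaf 2541388086692164587587271787108898225345374293909) (.leaf 775580045492310007253752981693062765789812063808)) (.node (.leaf 2679792147685384480478587459638040613881151919870) (.leaf 2244228407201774654845723920352137161074946269464))) (.node (.node (.leaf 877012271858631885792673758451759813064946758295) (.leaf 350706197956569471515415775616287651110012640598)) (.leaf 183783969335385137873064886074162082663930857732))))))))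

def twoElt6 : Janko.Tree (ℕ) :=
  (.node (.node (.node (.node (.node (.node (.node (.node (.leaf 1193067811452429639106045481085440198600915163722) (.leaf 1915233071255515536681169308393468984794001252791)) (.node (.leaf 1346936538297848396850012983321765983254768312561) (.leaf 671237019791956176009014306331882728542595938365))) (.node (.node (.leaf 1894240278787408736851662923802944247359414030173) (.leaf 2817789786186586767359522662373658324441159843827)) (.node (.leaf 1283762828250665147564115404653178905287750915009) (.leaf 159824730470208908630502273528794463119944066435)))) (.node (.node (.node (.leaf 2580447391287692374911571668570560675452847351112) (.leaf 1675273487583975137990223086172874586866354495908)) (.node (.leaf 2427100322116339367127353496563347303126101538975) (.leaf 997352387508828498475810473199986751006365763436))) (.node (.node (.leaf 1231910264175302199851747049562405616208099753679) (.leaf 2918893614327159998915212343552179143503513014436)) (.leaf 711642837299202027450756239134263789640552345010)))) (.node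 (.node (.node (.node (.leaf 1287587611691992271032707691062859935070290101172) (.leaf 721274919407772833457687432440616380884160996292)) (.node (.leaf 540055587913377824576396679247046292818387698953) (.leaf 2922955967710806794909951342914529356534162360566))) (.node (.node (.leaf 2922955465856511058612545359149068916892890446860) (.leaf 769079274853672153074349234075344308770822401365)) (.node (.leaf 1186046350395019432465584144226235031823099568161) (.leaf 2038270091811034264883200080458659213724672392186)))) (.node (.node (.node (.leaf 485015515643967695347505557879618317461566626859) (.leaf 361637733960880236004558226971198605119355535447)) (.node (.leaf 2200744794539837841153315320316557689338396132497) (.leaf 935077345158370077596197115602901621996184571368))) (.node (.node (.leaf 1035858411155721400967145508867598254138312195733) (.leaf 1057377422179288198902891890979888484706976554535)) (.leaf 561610290077124073680104226127650404331347513395))))) (.node (.node (.node (.node (.node (.leaf 1068393566733801314319941611542763624826095301773)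 (.leaf 646526516350403121826017881023151738616805524786)) (.node (.leaf 1077604348571794539845615715932290889071166723739) (.leaf 928044110371591453455812135797674547814092487902))) (.node (.node (.leaf 634281130448944063141639493800976087286274832726) (.leaf 683943164838790133243042808409080817195406025923)) (.node (.leaf 2646954196707440668543270354070624401068560255851) (.leaf 860060644091259019735336633303901623747000170164)))) (.node (.node (.node (.leaf 346989621049886377853941563970143469718952749811) (.leaf 970364255787949867979205651402042836140004624635)) (.node (.leaf 165201565257611177586480036855150248216810441754) (.leaf 2689457643670356372297920668372105763460452315641))) (.node (.node (.leaf 2155880868018575099623887074227061522971538965913) (.leaf 1344504628862145160122085115457589209225340940975)) (.leaf 40029312495016727132299735847195956911757698746)))) (.node (.node (.node (.node (.leaf 1443171316683479323764769988167246737907836555727) (.leaf 357900635546617263069976113017100694317624257669)) (.node (.leaf 738331655513354007016141743853100444615734386908)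 (.leaf 752667429513666628501085210962686400044142284710))) (.node (.node (.leaf 264169121923612098455076457775514773023804497036) (.leaf 11713466417536382668112586599924563270840877330)) (.node (.leaf 2689889734772918224069440055900371193950354135179) (.leaf 578657661248214631474870769866579384961770877836)))) (.node (.node (.node (.leaf 1164390594872240565021642103300335623851280463936) (.leaf 1432905618795141940935496952246001370882217264446)) (.node (.leaf 1390864937260790010221053515530354167363333895175) (.leaf 2462979380460980326739508245570603828768943489750))) (.node (.node (.leaf 1442596213623056290409745792612240338772476308161) (.leaf 1459251786963138781478503379282670541403651746985)) (.leaf 64972629508238954962735687642436202554306983862)))))) (.node (.node (.node (.node (.node (.node (.leaf 460849849727586586853245255652541878517720246537) (.leaf 222140476541135543159707584150669980998860766116)) (.node (.leaf 1787171914806768128652190354754416091388412721436) (.leaf 2610456829388422671583629120244348642946824545810)))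 (.node (.node (.leaf 2407017564318195034975654734850472127485374190368) (.leaf 1169310326994799584632787283520754463739155519442)) (.node (.leaf 291228839737758083439615901225804451252573628649) (.leaf 1220770486116698675425258239500414791291444522418)))) (.node (.node (.node (.leaf 69943467744904630777313736521801311363535698024) (.leaf 2244234371415905730164706270133810114360535176589)) (.node (.leaf 1419627779203494050275327628651581225170647038158) (.leaf 2305590775522724829514661845546186472886313720623))) (.node (.node (.leaf 1537745305533142133098094571869591362628997347215) (.leaf 2611945049101163753094121794288887048523139599765)) (.leaf 780913661489198389320805315986891485464918347943)))) (.node (.node (.node (.node (.leaf 1904170570530233413636952453849713347077205430064) (.leaf 2222008729369505559948400503266721983608022103804)) (.node (.leaf 1798683013141302716339738537323951353670795258640) (.leaf 1414876918670625002966108889944472514169428752462))) (.node (.node (.leaf 2302734702162293115461339246429135457912323822764)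 (.leaf 928580703492363141689283224432290793235381247418)) (.node (.leaf 2771506408347093062110849449760520699689592429695) (.leaf 1299595851100432104181911956226129438190872185779)))) (.node (.node (.node (.leaf 429182698470029636338354569116123394131697026264) (.leaf 1513843464090173968903126453320502054617321229817)) (.node (.leaf 1149607276691385156143154800353729464490430332494) (.leaf 1384553365901656972420693995649341170849745294206))) (.node (.node (.leaf 2601324658193157148394216758184274210516080692141) (.leaf 641533790003751125607523540470790557655830079949)) (.leaf 179051621374760359870765191414597962834773265597))))) (.node (.node (.node (.node (.node (.leaf 681759866305040572072865439262631277710993326988) (.leaf 2510548714598754061863432366380006234013150068255)) (.node (.leaf 1823586101667819275683035124178794038642058408029) (.leaf 236221687317056653126443984144866398094847789431))) (.node (.node (.leaf 1334539575401312829297513986262509609822521970173) (.leaf 2235415375634667083191217908871875165103090910668)) (.node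 (.leaf 475269713300507692276982637968756536770441978348) (.leaf 782896428780934024644110174291942618322058530275)))) (.node (.node (.node (.leaf 2757652068040454203246581148564940178839594384850) (.leaf 342341041808785263870546996933518931148953935661)) (.node (.leaf 207817500873381673791503025692015872582202351845) (.leaf 618064837120890431003577184961466974965314290432))) (.node (.node (.leaf 517188957211490794678166032313711193702136239412) (.leaf 591457304511466524496489310228185984010747561000)) (.leaf 2578320387470348777621550342748727836278530377377)))) (.node (.node (.node (.node (.leaf 2245514070609951860063077148101382751044900526671) (.leaf 409787733616475145228860518175331996135910771952)) (.node (.leaf 2568649350178904968649967328711405428154044441120) (.leaf 46145311502120721171444817089627348938728917827))) (.node (.node (.leaf 1377062089619100342460889764830210528870386121958) (.leaf 2383765650589791491167616957081888162778144252886)) (.node (.leaf 1641011223004139822981852854706796208667234196794) (.leaf 2781066522979098132460149218961233924166925690166))))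 (.node (.node (.node (.leaf 2530625950849788181057245742790523510575640807627) (.leaf 1207218878981813221158743066322442307803596840409)) (.node (.leaf 102499711837180271834983413697097556114607505662) (.leaf 2222017627594669650293791859538870456149913990789))) (.node (.node (.leaf 1250590651601436462231464167276420482178222661379) (.leaf 2574795918692577518661105737264744733445347328154)) (.leaf 2817810124816619629046086252859064364709190843925))))))) (.node (.node (.node (.node (.node (.node (.node (.leaf 254364159769403000190774772710362632833991533361) (.leaf 655078534414531953754551017200798270303850614420)) (.node (.leaf 447550309787621711798596147627542110078736209506) (.leaf 1390277886101569686269396457964413714552175377814))) (.node (.node (.leaf 752021050665576037658693602073180273501591481066) (.leaf 931505234041635545911105163159379433427745105267)) (.node (.leaf 1826681052361659926303667279013374385876879254264) (.leaf 1011578583742852343110937471568883312858013104823)))) (.node (.node (.node (.leaf 2064239982503149410596858347993566104142772932171)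 (.leaf 2896911744062651018410389537992052508636067671773)) (.node (.leaf 329294381666603111186086154838279004130962806848) (.leaf 87635937162199460275768677892254133113575354144))) (.node (.node (.leaf 630374635145478020582016401465601071796889663648) (.leaf 1643851140503243714523526635304249122219068712868)) (.leaf 666810615194491007957562533027455686949717606948)))) (.node (.node (.node (.node (.leaf 1298713683106031755409869079875158263293922089712) (.leaf 992026069159267111220563003155455528139439410817)) (.node (.leaf 94748996882337140311933979287763860460449140328) (.leaf 1609082168657714850468354607959511310751962483739))) (.node (.node (.leaf 2350732503312135222355559453633708171783478812885) (.leaf 1390286052262549885368384087208500374407237722974)) (.node (.leaf 2624076641732140812659333034094433497661293173961) (.leaf 1129836515088242414250347353907542941603470809523)))) (.node (.node (.node (.leaf 1834260895614817699470163619381305460180338114510) (.leaf 2349807214337585545534184510760406629826951879674)) (.node (.leaf 796838142161468041743154298117261164773751652124)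 (.leaf 391126129072950526036927007904757510167237107781))) (.node (.node (.leaf 2038281067555388631338050053612164608217245949250) (.leaf 1653648882753412369888524637984078355738348510652)) (.leaf 1308318707508164256738046855331483698894963741059))))) (.node (.node (.node (.node (.node (.leaf 1298228207427840168216744800992487488340713178070) (.leaf 1329350514745003961617912629021253329691748682639)) (.node (.leaf 330773932845882610970425764165814168356813225959) (.leaf 540105552652839239813479625056627499977170333137))) (.node (.node (.leaf 2703413565899042152299682267988626948968070051415) (.leaf 1127571430513903315140608422572715661155626613199)) (.node (.leaf 887694048351142357333139789706213669210160024587) (.leaf 1218056844396270049704967936842173752448728868306)))) (.node (.node (.node (.leaf 1826198960771186524212553102616267702196146852849) (.leaf 381882501423800187254379387469285828039780527282)) (.node (.leaf 235758723249251728366239086846870925806765064856) (.leaf 1248683596989475511517514792562754255059975722456))) (.node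 (.node (.leaf 247697109244334010535707080398988142809292494913) (.leaf 2622033034027044118225481124451679705220139031900)) (.leaf 1396240031586955455476888241872302442118761621177)))) (.node (.node (.node (.node (.leaf 504735855128656110657710358806633406661651608685) (.leaf 11869573382604666279986627517382483868406252544)) (.node (.leaf 761547494674372345650439767866161064585461864296) (.leaf 470806922893971603142045899817455170400758076774))) (.node (.node (.leaf 1103936063147518648396944793006221505097889860114) (.leaf 863130189059781023389048259744555267416714767124)) (.node (.leaf 165063164260177029620943080477080630982997065829) (.leaf 2590918127682362397169324222249459869282064216225)))) (.node (.node (.node (.leaf 119053683022855801925960516981551198023899159585) (.leaf 2598525634143150335761537390091029418918468106608)) (.node (.leaf 973617947553002189242283808980737044780786646986) (.leaf 875058649426356179873592092572995933476087001896))) (.node (.node (.leaf 216310095620930347125655091400567870583713724008) (.leaf 230838628488771789874487040759355421516669956354))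 (.leaf 1374799550842180200446607107903295760241553608391)))))) (.node (.node (.node (.node (.node (.node (.leaf 499218251317135538738481906439182594049217817021) (.leaf 642998520835634352750280370434795863635541082564)) (.node (.leaf 65458349877385362337120315133864209934281841113) (.leaf 695680491265942423285238998275107475769105164345))) (.node (.node (.leaf 506175741537765006588956717600444562171369106291) (.leaf 679884960626859297709442599662901889259445652469)) (.node (.leaf 401212153195048018223699081833356844885342986352) (.leaf 1641009701129231243512639937118548351229658446924)))) (.node (.node (.node (.leaf 16634722889496962305870999611072465838704791022) (.leaf 922396369778548718072763555793488502228929077857)) (.node (.leaf 2302945113350864997565358467812624673701875057776) (.leaf 815527017835084616027250036959683665442997439186))) (.node (.node (.leaf 346759600288719130304796968476870677625278376589) (.leaf 667797374262050533478256161620380384435398757541)) (.leaf 384734981105694435408647881026366241483833921883)))) (.node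 (.node (.node (.node (.leaf 832932901841276400484110854416799734824825275442) (.leaf 703589214895250076264374745785957199363616443755)) (.node (.leaf 2076667880177799146841030924923409380010526787289) (.leaf 908154183766594278668476289097912360046884554167))) (.node (.node (.leaf 715739357515804804693374843874412251114328173533) (.leaf 185718026337034775874403591269893120330715896127)) (.node (.leaf 2740145997870933599729846530715790676209951527798) (.leaf 2244348054225090204340755441166155248063775385491)))) (.node (.node (.node (.leaf 220577154726049756859906676453210061559364555957) (.leaf 1042863820271440407223705507366877411452146832285)) (.node (.leaf 1127586533935890590479096241134480396780849326597) (.leaf 729854716132701314380695262014495147353585514173))) (.node (.node (.leaf 2883326827345595075250844180422020014713049483323) (.leaf 1316874516489287055613300738820240384377716926810)) (.leaf 1974927312142611258778513827630532544519436032846))))) (.node (.node (.node (.node (.node (.leaf 2075720256467406086336893733811829104260668409755)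 (.leaf 409777722458393747363625810611482046397052068982)) (.node (.leaf 1042373575952615658392494175423726789202428297409) (.leaf 1352344565138757595408803533831327974081581332854))) (.node (.node (.leaf 722881209257254692446047211547755496663089322872) (.leaf 761540429682435715543575254812032100412652890222)) (.node (.leaf 1026921679646447622119411103775793571261210583122) (.leaf 1653655427052488177718438475181076711325739956944)))) (.node (.node (.node (.leaf 671668928148018677358257789487585557045584797745) (.leaf 1870725538878021069905950650579932334467357059220)) (.node (.leaf 1083873879152621738829026384999438665795428303747) (.leaf 441127764396585376109924506673495889781018010742))) (.node (.node (.leaf 2385578732928202886859928416351135989452121105363) (.leaf 1443226154898349641475274825774470464937008387966)) (.leaf 614359845903774698520636971567194226713839791944)))) (.node (.node (.node (.node (.leaf 618043554613553808110967940769334685566883952194) (.leaf 36774265268418376686495783620698638473140604500)) (.node (.leaf 1505039684723579044515060854721642338816243957084)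 (.leaf 2305595721347480146961928586851376302946904519214))) (.node (.node (.leaf 665148165865088367513171746361547051063875968910) (.leaf 1058293924147718738891525049736073366042667913139)) (.node (.leaf 1594612501009679817083742715810243430040904255771) (.leaf 431375355455368553223126032989833543421004837745)))) (.node (.node (.node (.leaf 1334533739732023331946975084785957964908291821213) (.leaf 209847921736014012034039367334212679853863814867)) (.node (.leaf 970363191235410821322796314230612278867772520609) (.leaf 2191342642424294556203178821296289186799160855896))) (.node (.node (.leaf 391116673130349982547783897889551297251951314820) (.leaf 1940600001512710038847981527158789045639575222682)) (.leaf 305159724185777197702025546247002968316174355547))))))))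

def twoElt7 : Janko.Tree (ℕ) :=
  (.node (.node (.node (.node (.node (.node (.node (.node (.leaf 1597529296592943766237966215016600188469111987236) (.leaf 1939683073044641524253828210038637040504712453950)) (.node (.leaf 2806305728511325709226215719971231239759429283429) (.leaf 646682259418873399027741393741314285263078007824))) (.node (.node (.leaf 1823924710782273016780202796844689677328029820247) (.leaf 2267261302642347633179183158127659603430981475831)) (.node (.leaf 179220256961008048693982749934805994437249167803) (.leaf 2087072458877322956888800327398918657946695383875)))) (.node (.node (.node (.leaf 978059771051675538843316200437592168010667982176) (.leaf 2236533816013965330460641761474979317517710096136)) (.node (.leaf 578448609929319590167348353873777834621995434254) (.leaf 1125005734988034460174414351014389806157700684821))) (.node (.node (.leaf 1711491589912978549005335355049143663161156700406) (.leaf 152686493086871406486003249211748000836949563800)) (.leaf 2096063418353268502254133208268028584871182629064)))) (.node (.node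 (.node (.node (.leaf 760100036441980579484293123740355466904027688459) (.leaf 1443174673444056993600822718548745471756918940908)) (.node (.leaf 2027307765143464633342833122409661567989048638516) (.leaf 2557510919984708969937891055721707845588699003807))) (.node (.node (.leaf 1339775326694316997722100049437643792443549057678) (.leaf 839585813775834405101286478064928124899838185436)) (.node (.leaf 1083428941299593004992796545298315689407118402616) (.leaf 935075638826333492686942409265395049210118454069)))) (.node (.node (.node (.leaf 1387509292199512744036493870532618007260424963798) (.leaf 923087030923992147198430382798968715598322203139)) (.node (.leaf 667733943116095936047485671913335782636751695174) (.leaf 1206934639364508330410756807900178332642910121478))) (.node (.node (.leaf 2372194003025056127992089724314576519672889605137) (.leaf 877001938070200978401880023350723031346841270926)) (.leaf 2347117916972850221467685846684098211798299934993))))) (.node (.node (.node (.node (.node (.leaf 1913715950949322137060742148716252073192408625814)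 (.leaf 2141628375486585202177792487678725909236218459206)) (.node (.leaf 1409453472786911295160656848058904150635799572895) (.leaf 2922735836871908263175594943275312322091029074917))) (.node (.node (.leaf 1582596245613087749001772735068758458890488291735) (.leaf 351222204956160483136923958669479813977422594624)) (.node (.leaf 47813074951132263803656298699202942766930738371) (.leaf 2737446265400960413853894776512580927643823413364)))) (.node (.node (.node (.leaf 1335886803322311945863970266126807870010678541941) (.leaf 84904147555983104717326240815997251772295231036)) (.node (.leaf 2656036959748501271951137384455642038413977400793) (.leaf 492931656677589286792168823268444374929715478795))) (.node (.node (.leaf 1733876914213190782654093592224132071781425664609) (.leaf 1329655048594255638470393783086260823133089398338)) (.leaf 2566816913167926680169339121601054899125208473925)))) (.node (.node (.node (.node (.leaf 1434046386548332422130823571109689800499169655660) (.leaf 1426012831638497922560002008126522469460789019594)) (.node (.leaf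 2168235709558620393513786925599825198564192772697) (.leaf 1695847251718817383614266471846218146951810485340))) (.node (.node (.leaf 1688574350369742662393765510096364699252946243720) (.leaf 59601779282719698902739787285162053595321119656)) (.node (.leaf 216612982988960387065598021403500081174876581913) (.leaf 2133792092581315764868091805110553498227452941100)))) (.node (.node (.node (.leaf 1298575435451167770037487718340825583796191437972) (.leaf 557954337702674262961411964005359838226039319251)) (.node (.leaf 934037473952717862965933036067509519233918615266) (.leaf 122604946183579505448900851755907156442353426131))) (.node (.node (.leaf 2248940633376719571806133003782184750398255547248) (.leaf 328044185547043698918189033988087820042354447495)) (.leaf 2609964033126262336623255265497186978240558502790)))))) (.node (.node (.node (.node (.node (.node (.leaf 867571392710787023947454691114950190661135504978) (.leaf 998860330048942583603221664295226592325257506140)) (.node (.leaf 153511238903665949406191448878508995446385823665) (.leaf 1593922586641882917173437802817291638125077972880)))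 (.node (.node (.leaf 1032379762651484675613107520256198332330742133127) (.leaf 2896916248426907430164038409102909154572985637741)) (.node (.leaf 427061140079736987072580467657767494071111508679) (.leaf 509330423845698037112447331126406844228052008618)))) (.node (.node (.node (.leaf 1298722205031243519920182754178966663772311232372) (.leaf 635177472268518985753495467291052687753104305325)) (.node (.leaf 433445099646191636030102538240177524183817061616) (.leaf 2407595016426765839628255561433744836433707899422))) (.node (.node (.leaf 2771587413086110621272374639157170067807411606822) (.leaf 322287092267110392427453778132120519402572047676)) (.leaf 139105238619315222023608838020871430105504279637)))) (.node (.node (.node (.node (.leaf 998851801493842248871164040370420140404385524600) (.leaf 1621138893245530987790489723235929709041483161431)) (.node (.leaf 2713807221678667254726962221450277274670233997475) (.leaf 1261090503259711542451000409085880121515337483239))) (.node (.node (.leaf 608963061398575571055932824314718186199801342416) (.leaf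 471558536897543099668112271964071432726733726881)) (.node (.leaf 1322031329872880374846814120903006786651149446771) (.leaf 250850750541905958108632178976413290468498286550)))) (.node (.node (.node (.leaf 1790123971585608157730798263950732991204099694086) (.leaf 1563212319466893520787438127434023638755574668327)) (.node (.leaf 165905094814871415690160682122770310866851731845) (.leaf 796834124794867218825360622054719629869080224524))) (.node (.node (.leaf 1444601626846970163678166766525663245077793018410) (.leaf 930980889644723312612458242821019538672224077047)) (.leaf 2841754860066667734766800762049880006393480399241))))) (.node (.node (.node (.node (.node (.leaf 2232811717189463838553166997079307788297483888792) (.leaf 21595378329733059784596970643403178508287234901)) (.node (.leaf 1272433037474352931277772154532953286784866231638) (.leaf 1377056624110205632038235822533867424320145972128))) (.node (.node (.leaf 741200703942839407261275197451695945491788394795) (.leaf 1996456673455335160807657936524723584754786184422)) (.node (.leaf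 232127513340495696206026271592321629641207634998) (.leaf 1891704552735530750979905454782837343253773884508)))) (.node (.node (.node (.leaf 1160921886159925648020909992372183794523224425045) (.leaf 1733862798024265654946424656987792131101115407910)) (.node (.leaf 2771513794919234295725960084092717153118848961044) (.leaf 1145793517973515820332795079256262022310240107572))) (.node (.node (.leaf 401985687622747011484123829636226808675721082099) (.leaf 2552950101524229088906499950816851910202450138124)) (.leaf 2850951975719645269663243054092882930467695816319)))) (.node (.node (.node (.node (.leaf 1014299156308059787638146748412054856524084181723) (.leaf 2841325569004370512813834363724848320329957639937)) (.node (.leaf 1537726381176608622029636366612659946696064240017) (.leaf 326285778216627943880017400582767629786629288055))) (.node (.node (.leaf 448184680913956207906009922212158662159489961222) (.leaf 665973604702263561800722684743308179022748719451)) (.node (.leaf 1550079679659057337721391152063392736523355658871) (.leaf 386128014369978790962638256651351064446475352969))))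 (.node (.node (.node (.leaf 2575889031986556359121900827047276609874340723043) (.leaf 1174566966987601113042380009958904206068727290419)) (.node (.leaf 849131522138658282371669805982057982349952751353) (.leaf 804042803727138010648657994644397194784515062559))) (.node (.node (.leaf 165340051380250254103267881512869377682496848987) (.leaf 986237650788021695810431419947721615955668363708)) (.leaf 329295250447569392766612033336503488081870463904))))))) (.node (.node (.node (.node (.node (.node (.node (.leaf 1160139319345443591231478713377110488915577714706) (.leaf 897142631558486018451418675138800048289341518871)) (.node (.leaf 2049664120520797950343451255168985600205318492937) (.leaf 2648251920617654576563643342240187518833127107798))) (.node (.node (.leaf 567129919701861052831858525298770013568346974555) (.leaf 567125838096235091564817181973331014009024999763)) (.node (.leaf 922688827316459418062461448500488711032521917069) (.leaf 528520977911061160648398734131914042141062050240)))) (.node (.node (.node (.leaf 530629817412951171461276780292990403858208895985)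 (.leaf 932187531241212496978418958418381352140965557882)) (.node (.leaf 2816537834002533948158121955400167806763948930069) (.leaf 2735736068973713422090505906380623985201241087059))) (.node (.node (.leaf 704888283989420895509235493689909935472345356529) (.leaf 1370155289355596547911226625506906455887244422111)) (.leaf 2038886070870265015528987563155758463184693195460)))) (.node (.node (.node (.node (.leaf 566864791259181751962808176415580456611880051877) (.leaf 83083834563611109390570028310437880784171538428)) (.node (.leaf 317317818430697183998125829844172707675498480001) (.leaf 65465915624938247690074188724168098893213162669))) (.node (.node (.leaf 787060385983741043961415550641409230635117299602) (.leaf 2313567500384112913234962678149519575302033864952)) (.node (.leaf 485808821689823322463499645196979787694255727093) (.leaf 670662779449495748704118292976004581822130596080)))) (.node (.node (.node (.leaf 44030202566080200347141768642156155722749857363) (.leaf 524817825933320169795819538610052972814384243658)) (.node (.leaf 1358629247121416062931331739167933383095442022872)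 (.leaf 2384853369644965654123439715026385883063600817361))) (.node (.node (.leaf 440332608597947345264624474675079357580680937562) (.leaf 2749450777390690423136839183528626061863251407110)) (.leaf 928570662023338085123632925571647519386123833603))))) (.node (.node (.node (.node (.node (.leaf 264157062442424081090085712503029488212425913457) (.leaf 1518170973266433719789789076046225382681784842650)) (.node (.leaf 151088490119381523276370648474032194657241739391) (.leaf 1056103948289594772609088252472871511559077722268))) (.node (.node (.leaf 64607292989816690796060915052537382238258623014) (.leaf 2862102532382976101755320437347986074229573948166)) (.node (.leaf 854110013796741291037319567355191509831261710122) (.leaf 1479432175846666888367565815624377448833785383907)))) (.node (.node (.node (.leaf 337457186441518038389519798511002107625177812608) (.leaf 1089066242743913392417696725598184573548332527707)) (.node (.leaf 1225700317968608264333916588853928419044220306770) (.leaf 1220717766065637710999242125535092098865313409537))) (.node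 (.node (.leaf 619419425537234951986127178791704840233484443467) (.leaf 327961012933949311456896771350985464916300174556)) (.leaf 580031617379153194474215551052648958769513531805)))) (.node (.node (.node (.node (.leaf 2200742172475973569311653395613283557123301678467) (.leaf 2747467010550979706802626115549922596274532269308)) (.node (.leaf 2864542594218298560423948661551886907318775680016) (.leaf 2313564766789486928876847729685326643169333812157))) (.node (.node (.leaf 1962939825525774971467018390734205571628738167653) (.leaf 1242645704294378474967470754761510253197259773372)) (.node (.leaf 99799461147505532006733446202825760062369989520) (.leaf 798063894915468721884969399849990668329225141163)))) (.node (.node (.node (.leaf 783295855623349095560663384763513710732869165815) (.leaf 1310503526274482442598828387522456446780151865273)) (.node (.leaf 865664230102850598546916071795025073048728542142) (.leaf 33065898985729966477029577852901038284102755234))) (.node (.node (.leaf 2771588004979790183229132980384465565470100215588) (.leaf 980388573271974501777670603720172867585744452528))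 (.leaf 2361488544131386079190457847320052803529827290427)))))) (.node (.node (.node (.node (.node (.node (.leaf 2134626391788259557940086525854263549706335251774) (.leaf 216299404798475427612065843318250534522564438639)) (.node (.leaf 26453004823038375462930280033836991516322441285) (.leaf 2121320334711987381478683931181894502497030779504))) (.node (.node (.leaf 540977865852773036044515103732706403598712680801) (.leaf 863943897412089655130925276374923406584911757634)) (.node (.leaf 447548915039267450039357597387771026820160923739) (.leaf 1354484126896795472003036970916107008492037602436)))) (.node (.node (.node (.leaf 562907459716626708111072493761518181371761241418) (.leaf 2224745338205548405418497952978524553382625734542)) (.node (.leaf 863949154655193803700292970230578467297641594439) (.leaf 403610105124083469643743123904512011125092102292))) (.node (.node (.leaf 679893876658935949554283504689554032476779351997) (.leaf 2827613153987186502930382698807765425291461522262)) (.leaf 213308417116296215395249733033085718603227562357))))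 (.node (.node (.node (.node (.leaf 936120181771907919053197748011792671931560404090) (.leaf 1482019178815083621323704714860703162452821010950)) (.node (.leaf 1254260234485637130559339891242189231123503665660) (.leaf 1251932952538333274089693932111547424168179747223))) (.node (.node (.leaf 2121503014776803942658923054765351513537567264207) (.leaf 118300224085755565448893599310796176966868735909)) (.node (.leaf 158685505426346581816169932157582421244893573546) (.leaf 1848983495784685818896288292346431979269659641500)))) (.node (.node (.node (.leaf 1103939073523680587599310994952331654136027113783) (.leaf 43866361966639053897348281454018906689878991916)) (.node (.leaf 1161693775911359097029272856999220572046179072374) (.leaf 1227809759434835368990950067653660727753780655072))) (.node (.node (.leaf 1891954575490436220817362925628977991812656402925) (.leaf 554992019905623157021536473062900037303521158505)) (.leaf 1156563453590191293085552336778845366697907648405))))) (.node (.node (.node (.node (.node (.leaf 1344491436261083611181573423645308287003748710584)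 (.leaf 87699999148326920641505770315221273596843276321)) (.node (.leaf 2121496405163076949178602695823637269881675317796) (.leaf 4462402509620295609046529656951512349543445135))) (.node (.node (.leaf 1298582904076494822838952073882439921678989008943) (.leaf 201708046494079904512516964710101878135595415069)) (.node (.leaf 1161697951464819253319782525500621350831788509528) (.leaf 1219122410209293105431061335295545154142015221232)))) (.node (.node (.node (.leaf 2636113146754930849467912780465308153348488422719) (.leaf 213633518874506737771427396435229775041287646474)) (.node (.leaf 2302945420153067116904686151819808385847521352920) (.leaf 466340156224619252347164734180831806783904504710))) (.node (.node (.leaf 459587870694758536090437121935088580024956916203) (.leaf 2580448455953465169467050148097075344188010187960)) (.leaf 2053879321959486183259559986455761626062800562025)))) (.node (.node (.node (.node (.leaf 458789958611108922151312388315017827241755739287) (.leaf 738317884948136268624758253654855708785344521853)) (.node (.leaf 850430554769449905143629263251580676091627797331)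 (.leaf 590395683887608098505163154662576039123832333445))) (.node (.node (.leaf 1106875353311676091602178651810140308395214013351) (.leaf 1048825240569185690620089894894914456157725006064)) (.node (.leaf 1789158151171564342720688370133868455820832042061) (.leaf 2624073653865705923673256078388601416447680724080)))) (.node (.node (.node (.leaf 384748280439986731649024770414505073336854342730) (.leaf 516219182915703511545005644682775603601605512397)) (.node (.leaf 1730361434086812957451309667515261538915900514058) (.leaf 1643850385927465037419416145603695618164522453105))) (.node (.node (.leaf 821542094395977681151206448969819814971192117852) (.leaf 2523019079803208443449646245771900637791419508022)) (.leaf 1147145788662295443250220589554638278266884499085))))))))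

def twoElt : Janko.Tree (ℕ) := (.node (.node (.node twoElt0 twoElt4) (.node twoElt2 twoElt6)) (.node (.node twoElt1 twoElt5) (.node twoElt3 twoElt7)))

def twoNext0 : Janko.Tree (ℕ) :=
  (.node (.node (.node (.node (.node (.node (.node (.node (.node (.leaf 1) (.leaf 1207)) (.node (.leaf 54) (.leaf 1611))) (.node (.node (.leaf 439) (.leaf 1647)) (.node (.leaf 1043) (.leaf 1434)))) (.node (.node (.node (.leaf 222) (.leaf 1403)) (.node (.leaf 853) (.leaf 1850))) (.node (.node (.leaf 223) (.leaf 1579)) (.leaf 1153)))) (.node (.node (.node (.node (.leaf 18) (.leaf 427)) (.node (.leaf 920) (.leaf 1339))) (.node (.node (.leaf 540) (.leaf 1392)) (.node (.leaf 663) (.leaf 1912)))) (.node (.node (.node (.leaf 331) (.leaf 1597)) (.node (.leaf 1086) (.leaf 1870))) (.node (.node (.leaf 739) (.leaf 1234)) (.leaf 1376))))) (.node (.node (.node (.node (.node (.leaf 61) (.leaf 872)) (.node (.leaf 167) (.leaf 936))) (.node (.node (.leaf 488) (.leaf 1077)) (.node (.leaf 1201) (.leaf 846)))) (.node (.node (.node (.leaf 278) (.leaf 1576)) (.node (.leaf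 865) (.leaf 1865))) (.node (.node (.leaf 691) (.leaf 1329)) (.leaf 1344)))) (.node (.node (.node (.node (.leaf 171) (.leaf 597)) (.node (.leaf 966) (.leaf 848))) (.node (.node (.leaf 593) (.leaf 1283)) (.node (.leaf 805) (.leaf 1854)))) (.node (.node (.node (.leaf 384) (.leaf 285)) (.node (.leaf 456) (.leaf 1857))) (.node (.node (.leaf 165) (.leaf 1649)) (.leaf 1406)))))) (.node (.node (.node (.node (.node (.node (.leaf 32) (.leaf 1450)) (.node (.leaf 850) (.leaf 1800))) (.node (.node (.leaf 66) (.leaf 765)) (.node (.leaf 1186) (.leaf 1806)))) (.node (.node (.node (.leaf 250) (.leaf 293)) (.node (.leaf 149) (.leaf 1176))) (.node (.node (.leaf 246) (.leaf 1740)) (.leaf 1325)))) (.node (.node (.node (.node (.leaf 143) (.leaf 1510)) (.node (.leaf 944) (.leaf 1832))) (.node (.node (.leaf 567) (.leaf 1069)) (.node (.leaf 1169) (.leaf 1910)))) (.node (.node (.node (.leaf 357) (.leaf 758)) (.node (.leaf 1107) (.leaf 1815))) (.node (.node (.leaf 759) (.leaf 747)) (.leaf 1393))))) (.node (.node (.node (.node (.node (.leaf 89) (.leaf 1456)) (.node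 (.leaf 523) (.leaf 1817))) (.node (.node (.leaf 514) (.leaf 1683)) (.node (.leaf 1220) (.leaf 1429)))) (.node (.node (.node (.leaf 305) (.leaf 798)) (.node (.leaf 1070) (.leaf 621))) (.node (.node (.leaf 714) (.leaf 1267)) (.leaf 1139)))) (.node (.node (.node (.node (.leaf 196) (.leaf 1309)) (.node (.leaf 988) (.leaf 323))) (.node (.node (.leaf 615) (.leaf 1719)) (.node (.leaf 1254) (.leaf 1835)))) (.node (.node (.node (.leaf 410) (.leaf 1636)) (.node (.leaf 1150) (.leaf 1490))) (.node (.node (.leaf 804) (.leaf 1024)) (.leaf 1247))))))) (.node (.node (.node (.node (.node (.node (.node (.leaf 17) (.leaf 392)) (.node (.leaf 385) (.leaf 469))) (.node (.node (.leaf 403) (.leaf 188)) (.node (.leaf 429) (.leaf 1124)))) (.node (.node (.node (.leaf 41) (.leaf 1554)) (.node (.leaf 1025) (.leaf 1853))) (.node (.node (.leaf 655) (.leaf 1736)) (.leaf 1312)))) (.node (.node (.node (.node (.leaf 4) (.leaf 994)) (.node (.leaf 933) (.leaf 730))) (.node (.node (.leaf 554) (.leaf 202)) (.node (.leaf 573) (.leaf 1907)))) (.node (.node (.node (.leaf 344)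 (.leaf 1605)) (.node (.leaf 1098) (.leaf 1875))) (.node (.node (.leaf 750) (.leaf 1210)) (.leaf 1385))))) (.node (.node (.node (.node (.node (.leaf 76) (.leaf 1474)) (.node (.leaf 886) (.leaf 1813))) (.node (.node (.leaf 501) (.leaf 1308)) (.node (.leaf 1209) (.leaf 1887)))) (.node (.node (.node (.leaf 291) (.leaf 1582)) (.node (.leaf 241) (.leaf 951))) (.node (.node (.leaf 702) (.leaf 1099)) (.leaf 1355)))) (.node (.node (.node (.node (.leaf 52) (.leaf 349)) (.node (.leaf 977) (.leaf 1839))) (.node (.node (.leaf 605) (.leaf 1356)) (.node (.leaf 547) (.leaf 1165)))) (.node (.node (.node (.leaf 397) (.leaf 527)) (.node (.leaf 1140) (.leaf 1581))) (.node (.node (.leaf 50) (.leaf 1784)) (.leaf 1412)))))) (.node (.node (.node (.node (.node (.node (.leaf 47) (.leaf 1371)) (.node (.leaf 862) (.leaf 1255))) (.node (.node (.leaf 475) (.leaf 1664)) (.node (.leaf 1194) (.leaf 1902)))) (.node (.node (.node (.leaf 264) (.leaf 569)) (.node (.leaf 234) (.leaf 1540))) (.node (.node (.leaf 677) (.leaf 1348)) (.leaf 1333)))) (.node (.node (.node (.node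 (.leaf 157) (.leaf 1515)) (.node (.leaf 917) (.leaf 530))) (.node (.node (.leaf 580) (.leaf 1501)) (.node (.leaf 1265) (.leaf 1414)))) (.node (.node (.node (.leaf 371) (.leaf 1621)) (.node (.leaf 1115) (.leaf 1732))) (.node (.node (.leaf 772) (.leaf 1778)) (.leaf 797))))) (.node (.node (.node (.node (.node (.leaf 102) (.leaf 1488)) (.node (.leaf 197) (.leaf 866))) (.node (.node (.leaf 189) (.leaf 1146)) (.node (.leaf 800) (.leaf 1890)))) (.node (.node (.node (.leaf 319) (.leaf 517)) (.node (.leaf 995) (.leaf 1319))) (.node (.node (.leaf 726) (.leaf 236)) (.leaf 119)))) (.node (.node (.node (.node (.leaf 209) (.leaf 1543)) (.node (.leaf 1002) (.leaf 1497))) (.node (.node (.leaf 629) (.leaf 736)) (.node (.leaf 1296) (.leaf 1720)))) (.node (.node (.node (.leaf 424) (.leaf 1531)) (.node (.leaf 1158) (.leaf 436))) (.node (.node (.leaf 817) (.leaf 1126)) (.leaf 1425)))))))) (.node (.node (.node (.node (.node (.node (.node (.node (.leaf 9) (.leaf 1439)) (.node (.leaf 831) (.leaf 576))) (.node (.node (.leaf 443) (.leaf 1056)) (.node (.leaf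 1175) (.leaf 1408)))) (.node (.node (.node (.leaf 229) (.leaf 767)) (.node (.leaf 1017) (.leaf 738))) (.node (.node (.leaf 648) (.leaf 1519)) (.leaf 500)))) (.node (.node (.node (.node (.leaf 124) (.leaf 1499)) (.node (.leaf 340) (.leaf 956))) (.node (.node (.leaf 548) (.leaf 770)) (.node (.leaf 1245) (.leaf 1733)))) (.node (.node (.node (.leaf 337) (.leaf 1602)) (.node (.leaf 1092) (.leaf 1380))) (.node (.node (.leaf 745) (.leaf 686)) (.leaf 1022))))) (.node (.node (.node (.node (.node (.leaf 69) (.leaf 1469)) (.node (.leaf 879) (.leaf 1635))) (.node (.node (.leaf 495) (.leaf 1516)) (.node (.leaf 1206) (.leaf 1838)))) (.node (.node (.node (.leaf 284) (.leaf 1580)) (.node (.leaf 1059) (.leaf 1868))) (.node (.node (.leaf 696) (.leaf 1751)) (.leaf 218)))) (.node (.node (.node (.node (.leaf 177) (.leaf 1521)) (.node (.leaf 971) (.leaf 315))) (.node (.node (.leaf 600) (.leaf 1708)) (.node (.leaf 1274) (.leaf 1914)))) (.node (.node (.node (.leaf 391) (.leaf 1630)) (.node (.leaf 666) (.leaf 1632))) (.node (.node (.leaf 713) (.leaf 489)) (.leaf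 126)))))) (.node (.node (.node (.node (.node (.node (.leaf 40) (.leaf 1454)) (.node (.leaf 856) (.leaf 1802))) (.node (.node (.leaf 154) (.leaf 1661)) (.node (.leaf 496) (.leaf 1900)))) (.node (.node (.node (.leaf 257) (.leaf 1565)) (.node (.leaf 1040) (.leaf 1820))) (.node (.node (.leaf 671) (.leaf 636)) (.leaf 568)))) (.node (.node (.node (.node (.leaf 150) (.leaf 1513)) (.node (.leaf 948) (.leaf 833))) (.node (.node (.leaf 114) (.leaf 206)) (.node (.leaf 1259) (.leaf 1805)))) (.node (.node (.node (.leaf 68) (.leaf 1618)) (.node (.leaf 1111) (.leaf 1777))) (.node (.node (.leaf 766) (.leaf 1570)) (.leaf 1396))))) (.node (.node (.node (.node (.node (.leaf 14) (.leaf 1484)) (.node (.leaf 905) (.leaf 289))) (.node (.node (.leaf 520) (.leaf 844)) (.node (.leaf 1225) (.leaf 923)))) (.node (.node (.node (.leaf 313) (.leaf 891)) (.node (.leaf 1073) (.leaf 1710))) (.node (.node (.leaf 720) (.leaf 416)) (.leaf 1364)))) (.node (.node (.node (.node (.leaf 203) (.leaf 1539)) (.node (.leaf 921) (.leaf 507))) (.node (.node (.leaf 622) (.leaf 1452))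 (.node (.leaf 312) (.leaf 1690)))) (.node (.node (.node (.leaf 417) (.leaf 1638)) (.node (.leaf 1154) (.leaf 529))) (.node (.node (.leaf 811) (.leaf 1615)) (.leaf 791))))))) (.node (.node (.node (.node (.node (.node (.node (.leaf 25) (.leaf 983)) (.node (.leaf 180) (.leaf 1796))) (.node (.node (.leaf 457) (.leaf 1604)) (.node (.leaf 1183) (.leaf 1645)))) (.node (.node (.node (.leaf 243) (.leaf 1560)) (.node (.leaf 620) (.leaf 1231))) (.node (.node (.leaf 39) (.leaf 472)) (.leaf 1320)))) (.node (.node (.node (.node (.leaf 137) (.leaf 1505)) (.node (.leaf 938) (.leaf 1790))) (.node (.node (.leaf 204) (.leaf 1608)) (.node (.leaf 1251) (.leaf 746)))) (.node (.node (.node (.leaf 350) (.leaf 1609)) (.node (.leaf 1104) (.leaf 1706))) (.node (.node (.leaf 398) (.leaf 1774)) (.leaf 1388))))) (.node (.node (.node (.node (.node (.leaf 83) (.leaf 1152)) (.node (.leaf 892) (.leaf 591))) (.node (.node (.leaf 283) (.leaf 1595)) (.node (.leaf 1170) (.leaf 1872)))) (.node (.node (.node (.leaf 297) (.leaf 1114)) (.node (.leaf 1067) (.leaf 1561))) (.node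 (.node (.leaf 43) (.leaf 1217)) (.leaf 858)))) (.node (.node (.node (.node (.leaf 86) (.leaf 1532)) (.node (.leaf 984) (.leaf 1841))) (.node (.node (.leaf 541) (.leaf 1714)) (.node (.leaf 1282) (.leaf 1697)))) (.node (.node (.node (.leaf 404) (.leaf 959)) (.node (.leaf 688) (.leaf 1888))) (.node (.node (.leaf 799) (.leaf 1742)) (.leaf 545)))))) (.node (.node (.node (.node (.node (.node (.leaf 55) (.leaf 1462)) (.node (.leaf 867) (.leaf 756))) (.node (.node (.leaf 481) (.leaf 1666)) (.node (.leaf 1199) (.leaf 1299)))) (.node (.node (.node (.leaf 271) (.leaf 1571)) (.node (.leaf 1048) (.leaf 1861))) (.node (.node (.leaf 684) (.leaf 321)) (.leaf 807)))) (.node (.node (.node (.node (.leaf 164) (.leaf 1131)) (.node (.leaf 962) (.leaf 1738))) (.node (.node (.leaf 587) (.leaf 1033)) (.node (.leaf 607) (.leaf 1903)))) (.node (.node (.node (.leaf 378) (.leaf 1211)) (.node (.leaf 1122) (.leaf 1542))) (.node (.node (.leaf 778) (.leaf 1771)) (.leaf 1401))))) (.node (.node (.node (.node (.node (.leaf 109) (.leaf 1442)) (.node (.leaf 916) (.leaf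 1667))) (.node (.node (.leaf 532) (.leaf 925)) (.node (.leaf 1233) (.leaf 1844)))) (.node (.node (.node (.leaf 325) (.leaf 1151)) (.node (.leaf 818) (.leaf 1353))) (.node (.node (.leaf 733) (.leaf 1180)) (.leaf 611)))) (.node (.node (.node (.node (.leaf 216) (.leaf 841)) (.node (.leaf 386) (.leaf 1305))) (.node (.node (.leaf 637) (.leaf 1242)) (.node (.leaf 1301) (.leaf 1918)))) (.node (.node (.node (.leaf 432) (.leaf 543)) (.node (.leaf 463) (.leaf 1552))) (.node (.node (.leaf 822) (.leaf 1311)) (.leaf 1430)))))))))

def twoNext1 : Janko.Tree (ℕ) :=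
  (.node (.node (.node (.node (.node (.node (.node (.node (.node (.leaf 2) (.leaf 1435)) (.node (.leaf 826) (.leaf 1538))) (.node (.node (.leaf 21) (.leaf 721)) (.node (.leaf 1169) (.leaf 1507)))) (.node (.node (.node (.leaf 223) (.leaf 447)) (.node (.leaf 802) (.leaf 1404))) (.node (.node (.leaf 643) (.leaf 579)) (.leaf 109)))) (.node (.node (.node (.node (.leaf 117) (.leaf 1332)) (.node (.leaf 921) (.leaf 522))) (.node (.node (.leaf 541) (.leaf 684)) (.node (.leaf 1239) (.leaf 1565)))) (.node (.node (.node (.leaf 332) (.leaf 1598)) (.node (.leaf 1087) (.leaf 1745))) (.node (.node (.leaf 740) (.leaf 1771)) (.leaf 1150))))) (.node (.node (.node (.node (.node (.leaf 62) (.leaf 1237)) (.node (.leaf 874) (.leaf 475))) (.node (.node (.leaf 489) (.leaf 1670)) (.node (.leaf 1031) (.leaf 1709)))) (.node (.node (.node (.leaf 279) (.leaf 1577)) (.node (.leaf 1054) (.leaf 1847))) (.node (.node (.leaf 74) (.leaf 1748)) (.leaf 196)))) (.node (.node (.node (.node (.leaf 172) (.leaf 1021)) (.node (.leaf 967) (.leaf 1836))) (.node (.node (.leaf 594)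 (.leaf 1396)) (.node (.leaf 1270) (.leaf 1868)))) (.node (.node (.node (.leaf 385) (.leaf 1220)) (.node (.leaf 1129) (.leaf 1132))) (.node (.node (.leaf 784) (.leaf 1781)) (.leaf 124)))))) (.node (.node (.node (.node (.node (.node (.leaf 33) (.leaf 1451)) (.node (.leaf 851) (.leaf 1801))) (.node (.node (.leaf 463) (.leaf 1657)) (.node (.leaf 91) (.leaf 1799)))) (.node (.node (.node (.leaf 251) (.leaf 1515)) (.node (.leaf 1035) (.leaf 1336))) (.node (.node (.leaf 666) (.leaf 633)) (.leaf 111)))) (.node (.node (.node (.node (.leaf 67) (.leaf 828)) (.node (.leaf 63) (.leaf 1749))) (.node (.node (.leaf 568) (.leaf 1344)) (.node (.leaf 1256) (.leaf 1216)))) (.node (.node (.node (.leaf 358) (.leaf 1615)) (.node (.leaf 691) (.leaf 518))) (.node (.node (.leaf 760) (.leaf 1412)) (.leaf 629))))) (.node (.node (.node (.node (.node (.leaf 90) (.leaf 479)) (.node (.leaf 899) (.leaf 1818))) (.node (.node (.leaf 515) (.leaf 948)) (.node (.leaf 422) (.leaf 1900)))) (.node (.node (.node (.leaf 306) (.leaf 410)) (.node (.leaf 682) (.leaf 1138))) (.node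 (.node (.leaf 715) (.leaf 1759)) (.leaf 1226)))) (.node (.node (.node (.node (.leaf 197) (.leaf 1269)) (.node (.leaf 989) (.leaf 1603))) (.node (.node (.leaf 616) (.leaf 213)) (.node (.leaf 1287) (.leaf 1363)))) (.node (.node (.node (.leaf 411) (.leaf 1637)) (.node (.leaf 1151) (.leaf 1331))) (.node (.node (.leaf 805) (.leaf 966)) (.leaf 224))))))) (.node (.node (.node (.node (.node (.node (.node (.leaf 18) (.leaf 799)) (.node (.leaf 837) (.leaf 1369))) (.node (.node (.leaf 451) (.leaf 1651)) (.node (.leaf 89) (.leaf 1253)))) (.node (.node (.node (.leaf 237) (.leaf 1555)) (.node (.leaf 1026) (.leaf 1625))) (.node (.node (.leaf 402) (.leaf 1619)) (.leaf 1313)))) (.node (.node (.node (.node (.leaf 130) (.leaf 1503)) (.node (.leaf 534) (.leaf 931))) (.node (.node (.leaf 546) (.leaf 1125)) (.node (.leaf 540) (.leaf 1765)))) (.node (.node (.node (.leaf 345) (.leaf 1133)) (.node (.leaf 1099) (.leaf 1775))) (.node (.node (.leaf 751) (.leaf 1761)) (.leaf 207))))) (.node (.node (.node (.node (.node (.leaf 77) (.leaf 137)) (.node (.leaf 887)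 (.leaf 1288))) (.node (.node (.leaf 502) (.leaf 1474)) (.node (.leaf 1210) (.leaf 1573)))) (.node (.node (.node (.leaf 292) (.leaf 1025)) (.node (.leaf 1064) (.leaf 1071))) (.node (.node (.leaf 703) (.leaf 1307)) (.leaf 941)))) (.node (.node (.node (.node (.leaf 184) (.leaf 1527)) (.node (.leaf 978) (.leaf 1130))) (.node (.node (.leaf 459) (.leaf 1712)) (.node (.leaf 1279) (.leaf 1484)))) (.node (.node (.node (.leaf 398) (.leaf 1202)) (.node (.leaf 159) (.leaf 1634))) (.node (.node (.leaf 793) (.leaf 735)) (.leaf 1413)))))) (.node (.node (.node (.node (.node (.node (.leaf 48) (.leaf 1181)) (.node (.leaf 355) (.leaf 1580))) (.node (.node (.leaf 337) (.leaf 1298)) (.node (.leaf 1123) (.leaf 1903)))) (.node (.node (.node (.leaf 265) (.leaf 1568)) (.node (.leaf 919) (.leaf 1813))) (.node (.node (.leaf 678) (.leaf 442)) (.leaf 464)))) (.node (.node (.node (.node (.leaf 158) (.leaf 428)) (.node (.leaf 956) (.leaf 1744))) (.node (.node (.leaf 581) (.leaf 774)) (.node (.leaf 1073) (.leaf 1271)))) (.node (.node (.node (.leaf 372) (.leaf 1006))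 (.node (.leaf 1116) (.leaf 1532))) (.node (.node (.leaf 773) (.leaf 1292)) (.leaf 1042))))) (.node (.node (.node (.node (.node (.leaf 103) (.leaf 1489)) (.node (.leaf 912) (.leaf 675))) (.node (.node (.leaf 527) (.leaf 934)) (.node (.leaf 1230) (.leaf 1639)))) (.node (.node (.node (.leaf 25) (.leaf 759)) (.node (.leaf 1079) (.leaf 613))) (.node (.node (.leaf 81) (.leaf 378)) (.leaf 1076)))) (.node (.node (.node (.node (.leaf 210) (.leaf 1544)) (.node (.leaf 638) (.leaf 1221))) (.node (.node (.leaf 630) (.leaf 1724)) (.node (.leaf 1297) (.leaf 1919)))) (.node (.node (.node (.leaf 425) (.leaf 1640)) (.node (.leaf 1159) (.leaf 1891))) (.node (.node (.leaf 818) (.leaf 1790)) (.leaf 1264)))))))) (.node (.node (.node (.node (.node (.node (.node (.node (.leaf 10) (.leaf 1440)) (.node (.leaf 832) (.leaf 449))) (.node (.node (.leaf 444) (.leaf 1649)) (.node (.leaf 1176) (.leaf 1895)))) (.node (.node (.node (.leaf 230) (.leaf 1548)) (.node (.leaf 1018) (.leaf 990))) (.node (.node (.leaf 649) (.leaf 737)) (.leaf 1308)))) (.node (.node (.node (.node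 (.leaf 79) (.leaf 1171)) (.node (.leaf 928) (.leaf 1605))) (.node (.node (.leaf 55) (.leaf 821)) (.node (.leaf 297) (.leaf 1897)))) (.node (.node (.node (.leaf 338) (.leaf 712)) (.node (.leaf 1093) (.leaf 1478))) (.node (.node (.leaf 746) (.leaf 1630)) (.leaf 1380))))) (.node (.node (.node (.node (.node (.leaf 70) (.leaf 1470)) (.node (.leaf 880) (.leaf 1513))) (.node (.node (.leaf 496) (.leaf 1212)) (.node (.leaf 387) (.leaf 1774)))) (.node (.node (.node (.leaf 285) (.leaf 1059)) (.node (.leaf 222) (.leaf 1784))) (.node (.node (.leaf 697) (.leaf 1752)) (.leaf 1349)))) (.node (.node (.node (.node (.leaf 178) (.leaf 1522)) (.node (.leaf 87) (.leaf 1837))) (.node (.node (.leaf 601) (.leaf 1382)) (.node (.leaf 1201) (.leaf 1002)))) (.node (.node (.node (.leaf 392) (.leaf 548)) (.node (.leaf 1135) (.leaf 1800))) (.node (.node (.leaf 493) (.leaf 1783)) (.leaf 1408)))))) (.node (.node (.node (.node (.node (.node (.leaf 41) (.leaf 1047)) (.node (.leaf 857) (.leaf 1764))) (.node (.node (.leaf 469) (.leaf 1618)) (.node (.leaf 418) (.leaf 1243))))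 (.node (.node (.node (.leaf 258) (.leaf 1177)) (.node (.leaf 1041) (.leaf 1714))) (.node (.node (.leaf 672) (.leaf 1617)) (.leaf 1330)))) (.node (.node (.node (.node (.leaf 59) (.leaf 1268)) (.node (.leaf 949) (.leaf 998))) (.node (.node (.leaf 574) (.leaf 1701)) (.node (.leaf 1260) (.leaf 1914)))) (.node (.node (.node (.leaf 365) (.leaf 1241)) (.node (.leaf 565) (.leaf 1750))) (.node (.node (.leaf 767) (.leaf 1777)) (.leaf 1196))))) (.node (.node (.node (.node (.node (.leaf 97) (.leaf 962)) (.node (.leaf 906) (.leaf 856))) (.node (.node (.leaf 521) (.leaf 248)) (.node (.leaf 171) (.leaf 1599)))) (.node (.node (.node (.leaf 187) (.leaf 1592)) (.node (.leaf 166) (.leaf 1517))) (.node (.node (.leaf 426) (.leaf 1740)) (.leaf 1365)))) (.node (.node (.node (.node (.leaf 204) (.leaf 894)) (.node (.leaf 995) (.leaf 1844))) (.node (.node (.leaf 361) (.leaf 876)) (.node (.leaf 1293) (.leaf 1850)))) (.node (.node (.node (.leaf 233) (.leaf 1571)) (.node (.leaf 827) (.leaf 1333))) (.node (.node (.leaf 812) (.leaf 260)) (.leaf 986))))))) (.node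 (.node (.node (.node (.node (.node (.node (.leaf 26) (.leaf 1446)) (.node (.leaf 844) (.leaf 467))) (.node (.node (.leaf 23) (.leaf 1656)) (.node (.leaf 1184) (.leaf 1735)))) (.node (.node (.node (.leaf 244) (.leaf 1561)) (.node (.leaf 1030) (.leaf 1753))) (.node (.node (.leaf 661) (.leaf 1464)) (.leaf 1321)))) (.node (.node (.node (.node (.leaf 138) (.leaf 144)) (.node (.leaf 939) (.leaf 333))) (.node (.node (.leaf 561) (.leaf 944)) (.node (.leaf 100) (.leaf 1730)))) (.node (.node (.node (.leaf 351) (.leaf 344)) (.node (.leaf 148) (.leaf 401))) (.node (.node (.leaf 359) (.leaf 1157)) (.leaf 1389))))) (.node (.node (.node (.node (.node (.leaf 1) (.leaf 567)) (.node (.leaf 893) (.leaf 1199))) (.node (.node (.leaf 508) (.leaf 1316)) (.node (.leaf 1215) (.leaf 525)))) (.node (.node (.node (.leaf 298) (.leaf 1585)) (.node (.leaf 974) (.leaf 1541))) (.node (.node (.leaf 709) (.leaf 650)) (.leaf 1358)))) (.node (.node (.node (.node (.leaf 189) (.leaf 1533)) (.node (.leaf 985) (.leaf 1582))) (.node (.node (.leaf 611) (.leaf 1715)) (.node (.leaf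 1040) (.leaf 1916)))) (.node (.node (.node (.leaf 405) (.leaf 938)) (.node (.leaf 1146) (.leaf 1889))) (.node (.node (.leaf 800) (.leaf 1101)) (.leaf 1418)))))) (.node (.node (.node (.node (.node (.node (.leaf 56) (.leaf 1463)) (.node (.leaf 868) (.leaf 1803))) (.node (.node (.leaf 482) (.leaf 1667)) (.node (.leaf 847) (.leaf 1014)))) (.node (.node (.node (.leaf 272) (.leaf 1572)) (.node (.leaf 1049) (.leaf 1296))) (.node (.node (.leaf 685) (.leaf 1294)) (.leaf 1339)))) (.node (.node (.node (.node (.leaf 165) (.leaf 1117)) (.node (.leaf 65) (.leaf 1584))) (.node (.node (.leaf 404) (.leaf 363)) (.node (.leaf 897) (.leaf 1853)))) (.node (.node (.node (.leaf 278) (.leaf 1624)) (.node (.leaf 886) (.leaf 1467))) (.node (.node (.leaf 146) (.leaf 1601)) (.leaf 503))))) (.node (.node (.node (.node (.node (.leaf 110) (.leaf 370)) (.node (.leaf 917) (.leaf 295))) (.node (.node (.leaf 533) (.leaf 869)) (.node (.leaf 1234) (.leaf 1911)))) (.node (.node (.node (.leaf 179) (.leaf 1113)) (.node (.leaf 988) (.leaf 748))) (.node (.node (.leaf 734) (.leaf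 1768)) (.leaf 1372)))) (.node (.node (.node (.node (.leaf 217) (.leaf 924)) (.node (.leaf 1008) (.leaf 1140))) (.node (.node (.leaf 384) (.leaf 1728)) (.node (.leaf 825) (.leaf 1852)))) (.node (.node (.node (.leaf 433) (.leaf 1387)) (.node (.leaf 1165) (.leaf 1534))) (.node (.node (.leaf 162) (.leaf 1707)) (.leaf 1431)))))))))

def twoNext2 : Janko.Tree (ℕ) :=
  (.node (.node (.node (.node (.node (.node (.node (.node (.node (.leaf 3) (.leaf 1291)) (.node (.leaf 827) (.leaf 1743))) (.node (.node (.leaf 147) (.leaf 1437)) (.node (.leaf 890) (.leaf 1860)))) (.node (.node (.node (.leaf 224) (.leaf 1546)) (.node (.leaf 302) (.leaf 1851))) (.node (.node (.leaf 644) (.leaf 949)) (.leaf 110)))) (.node (.node (.node (.node (.leaf 118) (.leaf 1293)) (.node (.leaf 922) (.leaf 1655))) (.node (.node (.leaf 542) (.leaf 1693)) (.node (.leaf 1240) (.leaf 1880)))) (.node (.node (.node (.leaf 333) (.leaf 1599)) (.node (.leaf 232) (.leaf 992))) (.node (.node (.leaf 415) (.leaf 1093)) (.leaf 1193))))) (.node (.node (.node (.node (.node (.leaf 63) (.leaf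 634)) (.node (.leaf 875) (.leaf 1227))) (.node (.node (.leaf 490) (.leaf 346)) (.node (.leaf 1202) (.leaf 504)))) (.node (.node (.node (.leaf 280) (.leaf 835)) (.node (.leaf 1055) (.leaf 1866))) (.node (.node (.leaf 692) (.leaf 653)) (.leaf 1345)))) (.node (.node (.node (.node (.leaf 173) (.leaf 991)) (.node (.leaf 358) (.leaf 672))) (.node (.node (.leaf 336) (.leaf 1370)) (.node (.leaf 1271) (.leaf 1578)))) (.node (.node (.node (.leaf 208) (.leaf 1628)) (.node (.leaf 1130) (.leaf 1266))) (.node (.node (.leaf 785) (.leaf 896)) (.leaf 932)))))) (.node (.node (.node (.node (.node (.node (.leaf 34) (.leaf 1029)) (.node (.leaf 852) (.leaf 762))) (.node (.node (.leaf 464) (.leaf 1658)) (.node (.leaf 92) (.leaf 1514)))) (.node (.node (.node (.leaf 252) (.leaf 1463)) (.node (.leaf 1036) (.leaf 1822))) (.node (.node (.leaf 667) (.leaf 526)) (.leaf 1326)))) (.node (.node (.node (.node (.leaf 144) (.leaf 1361)) (.node (.leaf 351) (.leaf 586))) (.node (.node (.leaf 460) (.leaf 592)) (.node (.leaf 1257) (.leaf 1394)))) (.node (.node (.node (.leaf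 359) (.leaf 870)) (.node (.leaf 1108) (.leaf 1660))) (.node (.node (.leaf 761) (.leaf 1747)) (.leaf 1347))))) (.node (.node (.node (.node (.node (.leaf 91) (.leaf 1479)) (.node (.leaf 900) (.leaf 981))) (.node (.node (.leaf 516) (.leaf 1684)) (.node (.leaf 1221) (.leaf 1034)))) (.node (.node (.node (.leaf 307) (.leaf 1250)) (.node (.leaf 787) (.leaf 1489))) (.node (.node (.leaf 259) (.leaf 753)) (.leaf 1362)))) (.node (.node (.node (.node (.leaf 198) (.leaf 1537)) (.node (.leaf 990) (.leaf 1527))) (.node (.node (.leaf 617) (.leaf 214)) (.node (.leaf 1288) (.leaf 1864)))) (.node (.node (.node (.leaf 412) (.leaf 182)) (.node (.leaf 740) (.leaf 1757))) (.node (.node (.leaf 806) (.leaf 1788)) (.leaf 683))))))) (.node (.node (.node (.node (.node (.node (.node (.leaf 19) (.leaf 744)) (.node (.leaf 838) (.leaf 1485))) (.node (.node (.leaf 452) (.leaf 1652)) (.node (.leaf 474) (.leaf 1876)))) (.node (.node (.node (.leaf 238) (.leaf 1556)) (.node (.leaf 1027) (.leaf 1724))) (.node (.node (.leaf 656) (.leaf 552)) (.leaf 1314)))) (.node (.node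 (.node (.node (.leaf 131) (.leaf 431)) (.node (.leaf 934) (.leaf 1798))) (.node (.node (.leaf 555) (.leaf 1698)) (.node (.leaf 1249) (.leaf 1569)))) (.node (.node (.node (.leaf 58) (.leaf 1606)) (.node (.leaf 253) (.leaf 616))) (.node (.node (.leaf 752) (.leaf 1704)) (.leaf 1386))))) (.node (.node (.node (.node (.node (.leaf 78) (.leaf 138)) (.node (.leaf 888) (.leaf 782))) (.node (.node (.leaf 503) (.leaf 1112)) (.node (.leaf 96) (.leaf 1598)))) (.node (.node (.node (.leaf 90) (.leaf 487)) (.node (.leaf 1065) (.leaf 1869))) (.node (.node (.leaf 704) (.leaf 1755)) (.leaf 116)))) (.node (.node (.node (.node (.leaf 185) (.leaf 715)) (.node (.leaf 979) (.leaf 1236))) (.node (.node (.leaf 606) (.leaf 1681)) (.node (.leaf 1110) (.leaf 760)))) (.node (.node (.node (.leaf 399) (.leaf 1010)) (.node (.leaf 1141) (.leaf 1793))) (.node (.node (.leaf 794) (.leaf 255)) (.leaf 641)))))) (.node (.node (.node (.node (.node (.node (.leaf 49) (.leaf 1003)) (.node (.leaf 521) (.leaf 1752))) (.node (.node (.leaf 476) (.leaf 1427)) (.node (.leaf 1195) (.leaf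 1529)))) (.node (.node (.node (.leaf 266) (.leaf 451)) (.node (.leaf 783) (.leaf 1859))) (.node (.node (.leaf 679) (.leaf 1418)) (.leaf 1334)))) (.node (.node (.node (.node (.leaf 159) (.leaf 1278)) (.node (.leaf 957) (.leaf 1142))) (.node (.node (.leaf 582) (.leaf 1705)) (.node (.leaf 945) (.leaf 1359)))) (.node (.node (.node (.leaf 373) (.leaf 830)) (.node (.leaf 1117) (.leaf 1321))) (.node (.node (.leaf 774) (.leaf 1568)) (.leaf 1398))))) (.node (.node (.node (.node (.node (.leaf 104) (.leaf 725)) (.node (.leaf 913) (.leaf 1821))) (.node (.node (.leaf 528) (.leaf 1669)) (.node (.leaf 904) (.leaf 661)))) (.node (.node (.node (.leaf 320) (.leaf 170)) (.node (.leaf 1080) (.leaf 657))) (.node (.node (.leaf 727) (.leaf 1765)) (.leaf 1369)))) (.node (.node (.node (.node (.leaf 211) (.leaf 697)) (.node (.leaf 70) (.leaf 1847))) (.node (.node (.leaf 631) (.leaf 1725)) (.node (.leaf 465) (.leaf 1919)))) (.node (.node (.node (.leaf 426) (.leaf 1613)) (.node (.leaf 328) (.leaf 1011))) (.node (.node (.leaf 819) (.leaf 793)) (.leaf 308))))))))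 (.node (.node (.node (.node (.node (.node (.node (.node (.leaf 11) (.leaf 965)) (.node (.leaf 317) (.leaf 1700))) (.node (.node (.leaf 445) (.leaf 1156)) (.node (.leaf 380) (.leaf 1232)))) (.node (.node (.node (.leaf 231) (.leaf 1549)) (.node (.leaf 1019) (.leaf 1852))) (.node (.node (.leaf 650) (.leaf 1327)) (.leaf 558)))) (.node (.node (.node (.node (.leaf 125) (.leaf 1500)) (.node (.leaf 281) (.leaf 1223))) (.node (.node (.leaf 549) (.leaf 1696)) (.node (.leaf 1246) (.leaf 1908)))) (.node (.node (.node (.leaf 339) (.leaf 1603)) (.node (.leaf 1094) (.leaf 1470))) (.node (.node (.leaf 108) (.leaf 454)) (.leaf 1381))))) (.node (.node (.node (.node (.node (.leaf 10) (.leaf 1471)) (.node (.leaf 881) (.leaf 1810))) (.node (.node (.leaf 497) (.leaf 1238)) (.node (.leaf 184) (.leaf 1679)))) (.node (.node (.node (.leaf 286) (.leaf 440)) (.node (.leaf 1060) (.leaf 1670))) (.node (.node (.leaf 98) (.leaf 1753)) (.leaf 1350)))) (.node (.node (.node (.node (.leaf 179) (.leaf 1523)) (.node (.leaf 972) (.leaf 1818))) (.node (.node (.leaf 602) (.leaf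 1709)) (.node (.leaf 1275) (.leaf 1917)))) (.node (.node (.node (.leaf 393) (.leaf 1373)) (.node (.leaf 1136) (.leaf 1118))) (.node (.node (.leaf 789) (.leaf 716)) (.leaf 1409)))))) (.node (.node (.node (.node (.node (.node (.leaf 42) (.leaf 1455)) (.node (.leaf 599) (.leaf 1591))) (.node (.node (.leaf 470) (.leaf 973)) (.node (.leaf 480) (.leaf 1901)))) (.node (.node (.node (.leaf 132) (.leaf 160)) (.node (.leaf 893) (.leaf 1273))) (.node (.node (.leaf 673) (.leaf 1506)) (.leaf 1331)))) (.node (.node (.node (.node (.leaf 151) (.leaf 874)) (.node (.leaf 950) (.leaf 1459))) (.node (.node (.leaf 575) (.leaf 1702)) (.node (.leaf 1261) (.leaf 624)))) (.node (.node (.node (.leaf 366) (.leaf 176)) (.node (.leaf 711) (.leaf 1834))) (.node (.node (.leaf 768) (.leaf 1044)) (.leaf 1075))))) (.node (.node (.node (.node (.node (.leaf 22) (.leaf 511)) (.node (.leaf 907) (.leaf 1773))) (.node (.node (.leaf 522) (.leaf 1688)) (.node (.leaf 1226) (.leaf 1889)))) (.node (.node (.node (.leaf 314) (.leaf 1446)) (.node (.leaf 1074) (.leaf 1494))) (.node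 (.node (.leaf 721) (.leaf 1222)) (.leaf 1366)))) (.node (.node (.node (.node (.leaf 205) (.leaf 743)) (.node (.leaf 996) (.leaf 719))) (.node (.node (.leaf 623) (.leaf 1721)) (.node (.leaf 1294) (.leaf 1219)))) (.node (.node (.node (.leaf 418) (.leaf 1144)) (.node (.leaf 1155) (.leaf 823))) (.node (.node (.leaf 813) (.leaf 261)) (.leaf 383))))))) (.node (.node (.node (.node (.node (.node (.node (.leaf 27) (.leaf 912)) (.node (.leaf 845) (.leaf 1797))) (.node (.node (.leaf 24) (.leaf 249)) (.node (.leaf 210) (.leaf 1899)))) (.node (.node (.node (.leaf 245) (.leaf 1562)) (.node (.leaf 1031) (.leaf 910))) (.node (.node (.leaf 662) (.leaf 221)) (.leaf 1304)))) (.node (.node (.node (.node (.leaf 56) (.leaf 145)) (.node (.leaf 940) (.leaf 1020))) (.node (.node (.leaf 562) (.leaf 1128)) (.node (.leaf 101) (.leaf 1475)))) (.node (.node (.node (.leaf 352) (.leaf 1610)) (.node (.leaf 484) (.leaf 1881))) (.node (.node (.leaf 755) (.leaf 1600)) (.leaf 1390))))) (.node (.node (.node (.node (.node (.leaf 2) (.leaf 880)) (.node (.leaf 894) (.leaf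 1816))) (.node (.node (.leaf 509) (.leaf 394)) (.node (.leaf 1216) (.leaf 1423)))) (.node (.node (.node (.leaf 299) (.leaf 1586)) (.node (.leaf 1068) (.leaf 1041))) (.node (.node (.leaf 710) (.leaf 1544)) (.leaf 332)))) (.node (.node (.node (.node (.leaf 190) (.leaf 1534)) (.node (.leaf 986) (.leaf 1803))) (.node (.node (.leaf 612) (.leaf 1716)) (.node (.leaf 330) (.leaf 1811)))) (.node (.node (.node (.leaf 406) (.leaf 1634)) (.node (.leaf 604) (.leaf 494))) (.node (.node (.leaf 287) (.leaf 1785)) (.leaf 1419)))))) (.node (.node (.node (.node (.node (.node (.leaf 57) (.leaf 1464)) (.node (.leaf 869) (.leaf 1804))) (.node (.node (.leaf 483) (.leaf 1197)) (.node (.leaf 390) (.leaf 1520)))) (.node (.node (.node (.leaf 273) (.leaf 163)) (.node (.leaf 1050) (.leaf 345))) (.node (.node (.leaf 139) (.leaf 1007)) (.leaf 343)))) (.node (.node (.node (.node (.leaf 166) (.leaf 433)) (.node (.leaf 963) (.leaf 820))) (.node (.node (.leaf 588) (.leaf 1607)) (.node (.leaf 1268) (.leaf 1407)))) (.node (.node (.node (.leaf 379) (.leaf 1625)) (.node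 (.leaf 1123) (.leaf 1422))) (.node (.node (.leaf 779) (.leaf 1481)) (.leaf 1402))))) (.node (.node (.node (.node (.node (.leaf 111) (.leaf 647)) (.node (.leaf 178) (.leaf 296))) (.node (.node (.leaf 534) (.leaf 1691)) (.node (.leaf 1235) (.leaf 1641)))) (.node (.node (.node (.leaf 326) (.leaf 703)) (.node (.leaf 274) (.leaf 1877))) (.node (.node (.leaf 735) (.leaf 239)) (.leaf 668)))) (.node (.node (.node (.node (.leaf 64) (.leaf 1545)) (.node (.leaf 1009) (.leaf 803))) (.node (.node (.leaf 638) (.leaf 1015)) (.node (.leaf 1302) (.leaf 1486)))) (.node (.node (.node (.leaf 434) (.leaf 1436)) (.node (.leaf 1166) (.leaf 1894))) (.node (.node (.leaf 421) (.leaf 1762)) (.leaf 130)))))))))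

def twoNext3 : Janko.Tree (ℕ) :=
  (.node (.node (.node (.node (.node (.node (.node (.node (.node (.leaf 4) (.leaf 1436)) (.node (.leaf 689) (.leaf 1793))) (.node (.node (.leaf 440) (.leaf 1192)) (.node (.leaf 1170) (.leaf 1702)))) (.node (.node (.node (.leaf 225) (.leaf 209)) (.node (.leaf 1013) (.leaf 1816))) (.node (.node (.leaf 379) (.leaf 1732)) (.leaf 622)))) (.node (.node (.node (.node (.leaf 119) (.leaf 1496)) (.node (.leaf 923) (.leaf 1471))) (.node (.node (.leaf 543) (.leaf 1694)) (.node (.leaf 181) (.leaf 913)))) (.node (.node (.node (.leaf 201) (.leaf 299)) (.node (.leaf 1088) (.leaf 1417))) (.node (.node (.leaf 741) (.leaf 1772)) (.leaf 749))))) (.node (.node (.node (.node (.node (.leaf 64) (.leaf 135)) (.node (.leaf 542) (.leaf 470))) (.node (.node (.leaf 491) (.leaf 1612)) (.node (.leaf 768) (.leaf 947)))) (.node (.node (.node (.leaf 11) (.leaf 1578)) (.node (.leaf 1056) (.leaf 903))) (.node (.node (.leaf 375) (.leaf 606)) (.leaf 619)))) (.node (.node (.node (.node (.leaf 5) (.leaf 326)) (.node (.leaf 968) (.leaf 1642)))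 (.node (.node (.leaf 595) (.leaf 1545)) (.node (.leaf 1204) (.leaf 1869)))) (.node (.node (.node (.leaf 386) (.leaf 1629)) (.node (.leaf 1131) (.leaf 1588))) (.node (.node (.leaf 303) (.leaf 1017)) (.leaf 1407)))))) (.node (.node (.node (.node (.node (.node (.leaf 35) (.leaf 1452)) (.node (.leaf 853) (.leaf 920))) (.node (.node (.leaf 465) (.leaf 1659)) (.node (.leaf 1187) (.leaf 1265)))) (.node (.node (.node (.leaf 253) (.leaf 1563)) (.node (.leaf 648) (.leaf 1698))) (.node (.node (.leaf 668) (.leaf 1282)) (.leaf 1327)))) (.node (.node (.node (.node (.leaf 145) (.leaf 284)) (.node (.leaf 945) (.leaf 644))) (.node (.node (.leaf 569) (.leaf 498)) (.node (.leaf 1258) (.leaf 1687)))) (.node (.node (.node (.leaf 360) (.leaf 840)) (.node (.leaf 1109) (.leaf 1879))) (.node (.node (.leaf 762) (.leaf 1530)) (.leaf 1394))))) (.node (.node (.node (.node (.node (.leaf 92) (.leaf 1480)) (.node (.leaf 115) (.leaf 1782))) (.node (.node (.leaf 517) (.leaf 1685)) (.node (.leaf 1222) (.leaf 1865)))) (.node (.node (.node (.leaf 308) (.leaf 1233)) (.node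 (.leaf 755) (.leaf 1873))) (.node (.node (.leaf 716) (.leaf 1760)) (.leaf 203)))) (.node (.node (.node (.node (.leaf 199) (.leaf 1141)) (.node (.leaf 991) (.leaf 1263))) (.node (.node (.leaf 618) (.leaf 693)) (.node (.leaf 1289) (.leaf 1918)))) (.node (.node (.node (.leaf 413) (.leaf 1108)) (.node (.leaf 1152) (.leaf 1797))) (.node (.node (.leaf 807) (.leaf 1272)) (.leaf 1200))))))) (.node (.node (.node (.node (.node (.node (.node (.leaf 20) (.leaf 235)) (.node (.leaf 839) (.leaf 952))) (.node (.node (.leaf 276) (.leaf 1633)) (.node (.leaf 220) (.leaf 1802)))) (.node (.node (.node (.leaf 239) (.leaf 957)) (.node (.leaf 656) (.leaf 1854))) (.node (.node (.leaf 657) (.leaf 625)) (.leaf 1315)))) (.node (.node (.node (.node (.leaf 132) (.leaf 1173)) (.node (.leaf 772) (.leaf 1827))) (.node (.node (.leaf 556) (.leaf 1666)) (.node (.leaf 1250) (.leaf 1856)))) (.node (.node (.node (.leaf 346) (.leaf 1607)) (.node (.leaf 1100) (.leaf 1727))) (.node (.node (.leaf 753) (.leaf 1082)) (.leaf 817))))) (.node (.node (.node (.node (.node (.leaf 53)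 (.leaf 499)) (.node (.leaf 186) (.leaf 1257))) (.node (.node (.leaf 504) (.leaf 1677)) (.node (.leaf 1211) (.leaf 1849)))) (.node (.node (.node (.leaf 293) (.leaf 1583)) (.node (.leaf 424) (.leaf 1870))) (.node (.node (.leaf 705) (.leaf 229)) (.leaf 1356)))) (.node (.node (.node (.node (.leaf 93) (.leaf 266)) (.node (.leaf 980) (.leaf 1104))) (.node (.node (.leaf 607) (.leaf 1713)) (.node (.leaf 1280) (.leaf 1780)))) (.node (.node (.node (.leaf 400) (.leaf 477)) (.node (.leaf 1142) (.leaf 1874))) (.node (.node (.leaf 795) (.leaf 1261)) (.leaf 1414)))))) (.node (.node (.node (.node (.node (.node (.leaf 50) (.leaf 1460)) (.node (.leaf 863) (.leaf 1209))) (.node (.node (.leaf 173) (.leaf 1505)) (.node (.leaf 319) (.leaf 1886)))) (.node (.node (.node (.leaf 267) (.leaf 1569)) (.node (.leaf 1045) (.leaf 1860))) (.node (.node (.leaf 680) (.leaf 1388)) (.leaf 1335)))) (.node (.node (.node (.node (.leaf 160) (.leaf 911)) (.node (.leaf 609) (.leaf 1834))) (.node (.node (.leaf 583) (.leaf 452)) (.node (.leaf 1266) (.leaf 1915)))) (.node (.node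 (.node (.leaf 374) (.leaf 1622)) (.node (.leaf 1118) (.leaf 1301))) (.node (.node (.leaf 775) (.leaf 1779)) (.leaf 702))))) (.node (.node (.node (.node (.node (.leaf 105) (.leaf 1490)) (.node (.leaf 269) (.leaf 1684))) (.node (.node (.leaf 529) (.leaf 1690)) (.node (.leaf 1231) (.leaf 1910)))) (.node (.node (.node (.leaf 321) (.leaf 1594)) (.node (.leaf 1081) (.leaf 635))) (.node (.node (.leaf 728) (.leaf 1419)) (.leaf 1370)))) (.node (.node (.node (.node (.leaf 212) (.leaf 878)) (.node (.leaf 1003) (.leaf 1796))) (.node (.node (.leaf 632) (.leaf 1325)) (.node (.leaf 1203) (.leaf 1473)))) (.node (.node (.node (.leaf 427) (.leaf 492)) (.node (.leaf 1160) (.leaf 1892))) (.node (.node (.leaf 51) (.leaf 1521)) (.leaf 557)))))))) (.node (.node (.node (.node (.node (.node (.node (.node (.leaf 12) (.leaf 1441)) (.node (.leaf 833) (.leaf 1163))) (.node (.node (.leaf 446) (.leaf 1525)) (.node (.leaf 777) (.leaf 1877)))) (.node (.node (.node (.leaf 232) (.leaf 1550)) (.node (.leaf 1020) (.leaf 1350))) (.node (.node (.leaf 651) (.leaf 1734)) (.leaf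 1309)))) (.node (.node (.node (.node (.leaf 126) (.leaf 1501)) (.node (.leaf 570) (.leaf 969))) (.node (.node (.leaf 550) (.leaf 200)) (.node (.leaf 1247) (.leaf 1661)))) (.node (.node (.node (.leaf 340) (.leaf 1089)) (.node (.leaf 439) (.leaf 710))) (.node (.node (.leaf 747) (.leaf 432)) (.leaf 216))))) (.node (.node (.node (.node (.node (.leaf 71) (.leaf 1472)) (.node (.leaf 211) (.leaf 1769))) (.node (.node (.leaf 47) (.leaf 1323)) (.node (.leaf 1207) (.leaf 1621)))) (.node (.node (.node (.leaf 287) (.leaf 1581)) (.node (.leaf 1061) (.leaf 645))) (.node (.node (.leaf 698) (.leaf 1754)) (.leaf 1351)))) (.node (.node (.node (.node (.leaf 180) (.leaf 900)) (.node (.leaf 973) (.leaf 1421))) (.node (.node (.leaf 603) (.leaf 1710)) (.node (.leaf 577) (.leaf 1695)))) (.node (.node (.node (.leaf 394) (.leaf 1631)) (.node (.leaf 1137) (.leaf 1885))) (.node (.node (.leaf 679) (.leaf 1477)) (.leaf 1342)))))) (.node (.node (.node (.node (.node (.node (.leaf 43) (.leaf 1456)) (.node (.leaf 858) (.leaf 273))) (.node (.node (.leaf 264) (.leaf 907))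 (.node (.leaf 1190) (.leaf 1537)))) (.node (.node (.node (.leaf 259) (.leaf 250)) (.node (.leaf 406) (.leaf 1858))) (.node (.node (.leaf 674) (.leaf 1426)) (.leaf 909)))) (.node (.node (.node (.node (.leaf 152) (.leaf 1514)) (.node (.leaf 951) (.leaf 1725))) (.node (.node (.leaf 576) (.leaf 1430)) (.node (.leaf 1262) (.leaf 1154)))) (.node (.node (.node (.leaf 367) (.leaf 875)) (.node (.leaf 1112) (.leaf 1884))) (.node (.node (.leaf 85) (.leaf 1206)) (.leaf 122))))) (.node (.node (.node (.node (.node (.leaf 98) (.leaf 1485)) (.node (.leaf 908) (.leaf 1658))) (.node (.node (.leaf 523) (.leaf 1689)) (.node (.leaf 1227) (.leaf 708)))) (.node (.node (.node (.leaf 315) (.leaf 864)) (.node (.leaf 1075) (.leaf 1875))) (.node (.node (.leaf 722) (.leaf 1763)) (.leaf 1367)))) (.node (.node (.node (.node (.leaf 7) (.leaf 1540)) (.node (.leaf 997) (.leaf 1845))) (.node (.node (.leaf 624) (.leaf 1385)) (.node (.leaf 882) (.leaf 1894)))) (.node (.node (.node (.leaf 419) (.leaf 1302)) (.node (.leaf 1156) (.leaf 1789))) (.node (.node (.leaf 814) (.leaf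 1166)) (.leaf 676))))))) (.node (.node (.node (.node (.node (.node (.node (.leaf 28) (.leaf 1068)) (.node (.leaf 846) (.leaf 1179))) (.node (.node (.leaf 458) (.leaf 325)) (.node (.leaf 1012) (.leaf 1841)))) (.node (.node (.node (.leaf 246) (.leaf 271)) (.node (.leaf 1032) (.leaf 724))) (.node (.node (.leaf 663) (.leaf 1738)) (.leaf 1322)))) (.node (.node (.node (.node (.leaf 139) (.leaf 1506)) (.node (.leaf 593) (.leaf 1312))) (.node (.node (.leaf 563) (.leaf 1700)) (.node (.leaf 1252) (.leaf 1913)))) (.node (.node (.node (.leaf 353) (.leaf 1611)) (.node (.leaf 1105) (.leaf 1808))) (.node (.node (.leaf 756) (.leaf 301)) (.leaf 1391))))) (.node (.node (.node (.node (.node (.leaf 84) (.leaf 1476)) (.node (.leaf 895) (.leaf 434))) (.node (.node (.leaf 510) (.leaf 1679)) (.node (.leaf 660) (.leaf 1240)))) (.node (.node (.node (.leaf 300) (.leaf 979)) (.node (.leaf 1069) (.leaf 1872))) (.node (.node (.leaf 711) (.leaf 1731)) (.leaf 1359)))) (.node (.node (.node (.node (.leaf 191) (.leaf 1535)) (.node (.leaf 120) (.leaf 1106))) (.node (.node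 (.leaf 34) (.leaf 1717)) (.node (.leaf 1283) (.leaf 1832)))) (.node (.node (.node (.leaf 19) (.leaf 778)) (.node (.leaf 790) (.leaf 1393))) (.node (.node (.leaf 430) (.leaf 1786)) (.leaf 1420)))))) (.node (.node (.node (.node (.node (.node (.leaf 58) (.leaf 1465)) (.node (.leaf 870) (.leaf 1805))) (.node (.node (.leaf 484) (.leaf 329)) (.node (.leaf 1009) (.leaf 1810)))) (.node (.node (.node (.leaf 274) (.leaf 954)) (.node (.leaf 131) (.leaf 1862))) (.node (.node (.leaf 686) (.leaf 393)) (.leaf 1147)))) (.node (.node (.node (.node (.leaf 167) (.leaf 1519)) (.node (.leaf 964) (.leaf 1835))) (.node (.node (.leaf 589) (.leaf 1706)) (.node (.leaf 102) (.leaf 1893)))) (.node (.node (.node (.leaf 380) (.leaf 1626)) (.node (.leaf 1124) (.leaf 1829))) (.node (.node (.leaf 780) (.leaf 1653)) (.leaf 699))))) (.node (.node (.node (.node (.node (.leaf 112) (.leaf 1493)) (.node (.leaf 918) (.leaf 1822))) (.node (.node (.leaf 535) (.leaf 1337)) (.node (.leaf 1236) (.leaf 1851)))) (.node (.node (.node (.leaf 45) (.leaf 1595)) (.node (.leaf 366) (.leaf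 1454))) (.node (.node (.leaf 736) (.leaf 1320)) (.leaf 1373)))) (.node (.node (.node (.node (.leaf 218) (.leaf 153)) (.node (.leaf 1010) (.leaf 1848))) (.node (.node (.leaf 639) (.leaf 1729)) (.node (.leaf 901) (.leaf 1909)))) (.node (.node (.node (.leaf 257) (.leaf 1644)) (.node (.leaf 757) (.leaf 1078))) (.node (.node (.leaf 823) (.leaf 1751)) (.leaf 1432)))))))))

def twoNext4 : Janko.Tree (ℕ) :=
  (.node (.node (.node (.node (.node (.node (.node (.node (.node (.leaf 5) (.leaf 659)) (.node (.leaf 828) (.leaf 1135))) (.node (.node (.leaf 441) (.leaf 1648)) (.node (.leaf 1171) (.leaf 1330)))) (.node (.node (.node (.leaf 226) (.leaf 1547)) (.node (.leaf 1014) (.leaf 722))) (.node (.node (.leaf 645) (.leaf 1097)) (.leaf 1306)))) (.node (.node (.node (.node (.leaf 120) (.leaf 964)) (.node (.leaf 924) (.leaf 1449))) (.node (.node (.leaf 544) (.leaf 1160)) (.node (.leaf 1241) (.leaf 928)))) (.node (.node (.node (.leaf 16) (.leaf 843)) (.node (.leaf 1089) (.leaf 1879))) (.node (.node (.leaf 742) (.leaf 1712)) (.leaf 267))))) (.node (.node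 (.node (.node (.node (.leaf 65) (.leaf 674)) (.node (.leaf 876) (.leaf 1808))) (.node (.node (.leaf 492) (.leaf 1671)) (.node (.leaf 1203) (.leaf 1867)))) (.node (.node (.node (.leaf 12) (.leaf 1460)) (.node (.leaf 237) (.leaf 1315))) (.node (.node (.leaf 693) (.leaf 1749)) (.leaf 1346)))) (.node (.node (.node (.node (.leaf 174) (.leaf 1095)) (.node (.leaf 969) (.leaf 382))) (.node (.node (.leaf 596) (.leaf 999)) (.node (.leaf 1272) (.leaf 1794)))) (.node (.node (.node (.leaf 387) (.leaf 510)) (.node (.leaf 1132) (.leaf 1826))) (.node (.node (.leaf 786) (.leaf 1782)) (.leaf 1081)))))) (.node (.node (.node (.node (.node (.node (.leaf 36) (.leaf 705)) (.node (.leaf 854) (.leaf 1795))) (.node (.node (.leaf 172) (.leaf 277)) (.node (.leaf 1188) (.leaf 1717)))) (.node (.node (.node (.leaf 254) (.leaf 1511)) (.node (.leaf 1037) (.leaf 1533))) (.node (.node (.leaf 230) (.leaf 1741)) (.leaf 678)))) (.node (.node (.node (.node (.leaf 146) (.leaf 1279)) (.node (.leaf 946) (.leaf 1672))) (.node (.node (.leaf 570) (.leaf 1129)) (.node (.leaf 524)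 (.leaf 1884)))) (.node (.node (.node (.leaf 361) (.leaf 1616)) (.node (.leaf 908) (.leaf 1190))) (.node (.node (.leaf 763) (.leaf 698)) (.leaf 1054))))) (.node (.node (.node (.node (.node (.leaf 93) (.leaf 141)) (.node (.leaf 901) (.leaf 741))) (.node (.node (.leaf 518) (.leaf 1686)) (.node (.leaf 537) (.leaf 718)))) (.node (.node (.node (.leaf 309) (.leaf 1589)) (.node (.leaf 1071) (.leaf 367))) (.node (.node (.leaf 717) (.leaf 1761)) (.leaf 776)))) (.node (.node (.node (.node (.leaf 200) (.leaf 1538)) (.node (.leaf 142) (.leaf 1843))) (.node (.node (.leaf 619) (.leaf 985)) (.node (.leaf 1290) (.leaf 1045)))) (.node (.node (.node (.leaf 414) (.leaf 1061)) (.node (.leaf 362) (.leaf 1862))) (.node (.node (.leaf 808) (.leaf 563)) (.leaf 1256))))))) (.node (.node (.node (.node (.node (.node (.node (.leaf 21) (.leaf 1444)) (.node (.leaf 840) (.leaf 1100))) (.node (.node (.leaf 453) (.leaf 1653)) (.node (.leaf 1179) (.leaf 1553)))) (.node (.node (.node (.leaf 240) (.leaf 466)) (.node (.leaf 73) (.leaf 1084))) (.node (.node (.leaf 658) (.leaf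 1090)) (.leaf 1316)))) (.node (.node (.node (.node (.leaf 133) (.leaf 895)) (.node (.leaf 935) (.leaf 1786))) (.node (.node (.leaf 557) (.leaf 943)) (.node (.leaf 1205) (.leaf 1594)))) (.node (.node (.node (.leaf 347) (.leaf 1289)) (.node (.leaf 1101) (.leaf 1148))) (.node (.node (.leaf 571) (.leaf 1451)) (.leaf 365))))) (.node (.node (.node (.node (.node (.leaf 79) (.leaf 690)) (.node (.leaf 889) (.leaf 1814))) (.node (.node (.leaf 97) (.leaf 918)) (.node (.leaf 1212) (.leaf 1674)))) (.node (.node (.node (.leaf 294) (.leaf 961)) (.node (.leaf 989) (.leaf 1557))) (.node (.node (.leaf 706) (.leaf 1039)) (.leaf 1357)))) (.node (.node (.node (.node (.leaf 186) (.leaf 1528)) (.node (.leaf 215) (.leaf 364))) (.node (.node (.leaf 608) (.leaf 228)) (.node (.leaf 1281) (.leaf 1791)))) (.node (.node (.node (.leaf 401) (.leaf 1633)) (.node (.leaf 1143) (.leaf 1295))) (.node (.node (.leaf 796) (.leaf 1389)) (.leaf 1415)))))) (.node (.node (.node (.node (.node (.node (.leaf 51) (.leaf 1379)) (.node (.leaf 864) (.leaf 1587))) (.node (.node (.leaf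 477) (.leaf 1665)) (.node (.leaf 1196) (.leaf 1626)))) (.node (.node (.node (.leaf 48) (.leaf 539)) (.node (.leaf 1046) (.leaf 1343))) (.node (.node (.leaf 681) (.leaf 1744)) (.leaf 1336)))) (.node (.node (.node (.node (.leaf 26) (.leaf 1508)) (.node (.leaf 958) (.leaf 1297))) (.node (.node (.leaf 584) (.leaf 1228)) (.node (.leaf 978) (.leaf 1916)))) (.node (.node (.node (.leaf 375) (.leaf 1035)) (.node (.leaf 1119) (.leaf 669))) (.node (.node (.leaf 161) (.leaf 1559)) (.leaf 1064))))) (.node (.node (.node (.node (.node (.leaf 33) (.leaf 1491)) (.node (.leaf 914) (.leaf 1812))) (.node (.node (.leaf 77) (.leaf 1276)) (.node (.leaf 1137) (.leaf 566)))) (.node (.node (.node (.leaf 322) (.leaf 1468)) (.node (.leaf 1082) (.leaf 1873))) (.node (.node (.leaf 729) (.leaf 654)) (.leaf 927)))) (.node (.node (.node (.node (.leaf 213) (.leaf 342)) (.node (.leaf 1004) (.leaf 1637))) (.node (.node (.leaf 633) (.leaf 1503)) (.node (.leaf 1298) (.leaf 1772)))) (.node (.node (.node (.leaf 428) (.leaf 258)) (.node (.leaf 1161) (.leaf 1781))) (.node (.node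 (.leaf 298) (.leaf 1322)) (.leaf 1426)))))))) (.node (.node (.node (.node (.node (.node (.node (.node (.leaf 13) (.leaf 1168)) (.node (.leaf 834) (.leaf 1493))) (.node (.node (.leaf 447) (.leaf 1262)) (.node (.leaf 1177) (.leaf 1377)))) (.node (.node (.node (.leaf 233) (.leaf 1551)) (.node (.leaf 1021) (.leaf 1052))) (.node (.node (.leaf 652) (.leaf 1735)) (.leaf 407)))) (.node (.node (.node (.node (.leaf 127) (.leaf 1285)) (.node (.leaf 929) (.leaf 1654))) (.node (.node (.leaf 551) (.leaf 1313)) (.node (.leaf 700) (.leaf 1895)))) (.node (.node (.node (.leaf 341) (.leaf 1535)) (.node (.leaf 594) (.leaf 1592))) (.node (.node (.leaf 748) (.leaf 1763)) (.leaf 1382))))) (.node (.node (.node (.node (.node (.leaf 72) (.leaf 338)) (.node (.leaf 882) (.leaf 1548))) (.node (.node (.leaf 498) (.leaf 195)) (.node (.leaf 1030) (.leaf 1768)))) (.node (.node (.node (.leaf 288) (.leaf 651)) (.node (.leaf 1062) (.leaf 1651))) (.node (.node (.leaf 699) (.leaf 560)) (.leaf 1352)))) (.node (.node (.node (.node (.leaf 181) (.leaf 446)) (.node (.leaf 974)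 (.leaf 372))) (.node (.node (.leaf 121) (.leaf 754)) (.node (.leaf 304) (.leaf 1911)))) (.node (.node (.node (.leaf 75) (.leaf 942)) (.node (.leaf 1138) (.leaf 1230))) (.node (.node (.leaf 790) (.leaf 1358)) (.leaf 1410)))))) (.node (.node (.node (.node (.node (.node (.leaf 6) (.leaf 1457)) (.node (.leaf 859) (.leaf 1162))) (.node (.node (.leaf 471) (.leaf 1662)) (.node (.leaf 1191) (.leaf 1703)))) (.node (.node (.node (.leaf 260) (.leaf 1566)) (.node (.leaf 1042) (.leaf 1848))) (.node (.node (.leaf 675) (.leaf 1685)) (.leaf 1116)))) (.node (.node (.node (.node (.leaf 153) (.leaf 1338)) (.node (.leaf 952) (.leaf 1699))) (.node (.node (.leaf 577) (.leaf 1483)) (.node (.leaf 1263) (.leaf 1882)))) (.node (.node (.node (.leaf 368) (.leaf 1619)) (.node (.leaf 1113) (.leaf 1441))) (.node (.node (.leaf 769) (.leaf 1182)) (.leaf 618))))) (.node (.node (.node (.node (.node (.leaf 99) (.leaf 1248)) (.node (.leaf 909) (.leaf 292))) (.node (.node (.leaf 425) (.leaf 1198)) (.node (.leaf 583) (.leaf 1909)))) (.node (.node (.node (.leaf 316) (.leaf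 1563)) (.node (.leaf 1076) (.leaf 1416))) (.node (.node (.leaf 300) (.leaf 1678)) (.leaf 1287)))) (.node (.node (.node (.node (.leaf 8) (.leaf 519)) (.node (.leaf 998) (.leaf 1629))) (.node (.node (.leaf 625) (.leaf 1722)) (.node (.leaf 1049) (.leaf 1622)))) (.node (.node (.node (.leaf 420) (.leaf 1639)) (.node (.leaf 1157) (.leaf 1643))) (.node (.node (.leaf 815) (.leaf 1789)) (.leaf 851))))))) (.node (.node (.node (.node (.node (.node (.node (.leaf 29) (.leaf 1447)) (.node (.leaf 847) (.leaf 1102))) (.node (.node (.leaf 459) (.leaf 1583)) (.node (.leaf 1185) (.leaf 1083)))) (.node (.node (.node (.leaf 247) (.leaf 553)) (.node (.leaf 405) (.leaf 1701))) (.node (.node (.leaf 112) (.leaf 1739)) (.leaf 1134)))) (.node (.node (.node (.node (.leaf 140) (.leaf 1507)) (.node (.leaf 941) (.leaf 1829))) (.node (.node (.leaf 564) (.leaf 1509)) (.node (.leaf 1253) (.leaf 1891)))) (.node (.node (.node (.leaf 354) (.leaf 1612)) (.node (.leaf 1106) (.leaf 1431))) (.node (.node (.leaf 757) (.leaf 1775)) (.leaf 1354))))) (.node (.node (.node (.node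 (.node (.leaf 85) (.leaf 1477)) (.node (.leaf 193) (.leaf 639))) (.node (.node (.leaf 409) (.leaf 1680)) (.node (.leaf 508) (.leaf 1833)))) (.node (.node (.node (.leaf 301) (.leaf 491)) (.node (.leaf 810) (.leaf 1809))) (.node (.node (.leaf 712) (.leaf 1756)) (.leaf 1360)))) (.node (.node (.node (.node (.leaf 192) (.leaf 967)) (.node (.leaf 861) (.leaf 1842))) (.node (.node (.leaf 35) (.leaf 556)) (.node (.leaf 1284) (.leaf 1830)))) (.node (.node (.node (.leaf 20) (.leaf 324)) (.node (.leaf 1147) (.leaf 419))) (.node (.node (.leaf 801) (.leaf 1120)) (.leaf 1421)))))) (.node (.node (.node (.node (.node (.node (.leaf 59) (.leaf 589)) (.node (.leaf 871) (.leaf 885))) (.node (.node (.leaf 485) (.leaf 1187)) (.node (.leaf 290) (.leaf 1871)))) (.node (.node (.node (.leaf 275) (.leaf 1573)) (.node (.leaf 1051) (.leaf 1026))) (.node (.node (.leaf 687) (.leaf 1745)) (.leaf 1340)))) (.node (.node (.node (.node (.leaf 168) (.leaf 1252)) (.node (.leaf 478) (.leaf 1465))) (.node (.node (.leaf 590) (.leaf 1432)) (.node (.leaf 535) (.leaf 1885))))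 (.node (.node (.node (.leaf 381) (.leaf 462)) (.node (.leaf 1125) (.leaf 1792))) (.node (.node (.leaf 781) (.leaf 1780)) (.leaf 860))))) (.node (.node (.node (.node (.node (.leaf 113) (.leaf 839)) (.node (.leaf 919) (.leaf 1823))) (.node (.node (.leaf 536) (.leaf 533)) (.node (.leaf 306) (.leaf 1892)))) (.node (.node (.node (.leaf 327) (.leaf 561)) (.node (.leaf 80) (.leaf 1878))) (.node (.node (.leaf 737) (.leaf 1769)) (.leaf 225)))) (.node (.node (.node (.node (.leaf 219) (.leaf 751)) (.node (.leaf 199) (.leaf 1849))) (.node (.node (.leaf 640) (.leaf 1730)) (.node (.leaf 1303) (.leaf 1726)))) (.node (.node (.node (.leaf 435) (.leaf 1189)) (.node (.leaf 1032) (.leaf 1631))) (.node (.node (.leaf 824) (.leaf 1759)) (.leaf 1433)))))))))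

def twoNext5 : Janko.Tree (ℕ) :=
  (.node (.node (.node (.node (.node (.node (.node (.node (.node (.leaf 6) (.leaf 1437)) (.node (.leaf 829) (.leaf 1794))) (.node (.node (.leaf 252) (.leaf 1589)) (.node (.leaf 1172) (.leaf 739)))) (.node (.node (.node (.leaf 83) (.leaf 1492)) (.node (.leaf 1015) (.leaf 1680))) (.node (.node (.leaf 118) (.leaf 1733)) (.leaf 859)))) (.node (.node (.node (.node (.leaf 121) (.leaf 1497)) (.node (.leaf 925) (.leaf 1107))) (.node (.node (.leaf 545) (.leaf 696)) (.node (.leaf 1242) (.leaf 1443)))) (.node (.node (.node (.leaf 334) (.leaf 1600)) (.node (.leaf 1090) (.leaf 1705))) (.node (.node (.leaf 743) (.leaf 1523)) (.leaf 1377))))) (.node (.node (.node (.node (.node (.leaf 66) (.leaf 348)) (.node (.leaf 877) (.leaf 1609))) (.node (.node (.leaf 57) (.leaf 1672)) (.node (.leaf 528) (.leaf 1597)))) (.node (.node (.node (.leaf 281) (.leaf 1579)) (.node (.leaf 1057) (.leaf 1867))) (.node (.node (.leaf 291) (.leaf 766)) (.leaf 1347)))) (.node (.node (.node (.node (.leaf 9) (.leaf 1060)) (.node (.leaf 600) (.leaf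 1188))) (.node (.node (.leaf 597) (.leaf 976)) (.node (.leaf 488) (.leaf 1229)))) (.node (.node (.node (.leaf 388) (.leaf 1218)) (.node (.leaf 457) (.leaf 1479))) (.node (.node (.leaf 787) (.leaf 726)) (.leaf 1346)))))) (.node (.node (.node (.node (.node (.node (.leaf 37) (.leaf 681)) (.node (.leaf 99) (.leaf 1708))) (.node (.node (.leaf 466) (.leaf 1660)) (.node (.leaf 1189) (.leaf 1433)))) (.node (.node (.node (.leaf 255) (.leaf 1564)) (.node (.leaf 960) (.leaf 1683))) (.node (.node (.leaf 669) (.leaf 1742)) (.leaf 598)))) (.node (.node (.node (.node (.leaf 147) (.leaf 1511)) (.node (.leaf 588) (.leaf 1833))) (.node (.node (.leaf 571) (.leaf 1512)) (.node (.leaf 811) (.leaf 1901)))) (.node (.node (.node (.leaf 362) (.leaf 1274)) (.node (.leaf 1110) (.leaf 1883))) (.node (.node (.leaf 95) (.leaf 1094)) (.leaf 982))))) (.node (.node (.node (.node (.node (.leaf 94) (.leaf 1481)) (.node (.leaf 902) (.leaf 341))) (.node (.node (.leaf 314) (.leaf 335)) (.node (.leaf 1223) (.leaf 1665)))) (.node (.node (.node (.leaf 310) (.leaf 311)) (.node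 (.leaf 512) (.leaf 1590))) (.node (.node (.leaf 718) (.leaf 1762)) (.leaf 1195)))) (.node (.node (.node (.node (.leaf 125) (.leaf 608)) (.node (.leaf 992) (.leaf 852))) (.node (.node (.leaf 620) (.leaf 929)) (.node (.leaf 1291) (.leaf 1842)))) (.node (.node (.node (.leaf 415) (.leaf 940)) (.node (.leaf 1153) (.leaf 1881))) (.node (.node (.leaf 350) (.leaf 1528)) (.leaf 796))))))) (.node (.node (.node (.node (.node (.node (.node (.leaf 22) (.leaf 1445)) (.node (.leaf 841) (.leaf 376))) (.node (.node (.leaf 454) (.leaf 1654)) (.node (.leaf 1180) (.leaf 1898)))) (.node (.node (.node (.leaf 241) (.leaf 1557)) (.node (.leaf 813) (.leaf 1855))) (.node (.node (.leaf 659) (.leaf 1646)) (.leaf 1317)))) (.node (.node (.node (.node (.leaf 134) (.leaf 177)) (.node (.leaf 936) (.leaf 1381))) (.node (.node (.leaf 558) (.leaf 1699)) (.node (.leaf 640) (.leaf 1444)))) (.node (.node (.node (.leaf 192) (.leaf 742)) (.node (.leaf 1102) (.leaf 1016))) (.node (.node (.leaf 280) (.leaf 1425)) (.leaf 549))))) (.node (.node (.node (.node (.node (.leaf 80)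 (.leaf 623)) (.node (.leaf 890) (.leaf 1815))) (.node (.node (.leaf 505) (.leaf 1539)) (.node (.leaf 1213) (.leaf 1662)))) (.node (.node (.node (.leaf 157) (.leaf 879)) (.node (.leaf 1066) (.leaf 1871))) (.node (.node (.leaf 707) (.leaf 455)) (.leaf 1286)))) (.node (.node (.node (.node (.leaf 15) (.leaf 1529)) (.node (.leaf 981) (.leaf 587))) (.node (.node (.leaf 371) (.leaf 1070)) (.node (.leaf 185) (.leaf 1158)))) (.node (.node (.node (.leaf 243) (.leaf 1576)) (.node (.leaf 1144) (.leaf 1887))) (.node (.node (.leaf 797) (.leaf 873)) (.leaf 1416)))))) (.node (.node (.node (.node (.node (.node (.leaf 52) (.leaf 1461)) (.node (.leaf 865) (.leaf 704))) (.node (.node (.leaf 478) (.leaf 665)) (.node (.leaf 1197) (.leaf 1904)))) (.node (.node (.node (.leaf 268) (.leaf 946)) (.node (.leaf 140) (.leaf 1310))) (.node (.node (.leaf 490) (.leaf 809)) (.leaf 437)))) (.node (.node (.node (.node (.leaf 161) (.leaf 1516)) (.node (.leaf 959) (.leaf 1671))) (.node (.node (.leaf 60) (.leaf 1543)) (.node (.leaf 862) (.leaf 1019)))) (.node (.node (.node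 (.leaf 32) (.leaf 1235)) (.node (.leaf 1120) (.leaf 1675))) (.node (.node (.leaf 776) (.leaf 1357)) (.leaf 485))))) (.node (.node (.node (.node (.node (.leaf 106) (.leaf 1366)) (.node (.leaf 822) (.leaf 763))) (.node (.node (.leaf 530) (.leaf 1340)) (.node (.leaf 242) (.leaf 1691)))) (.node (.node (.node (.leaf 323) (.leaf 1560)) (.node (.leaf 78) (.leaf 1326))) (.node (.node (.leaf 730) (.leaf 1766)) (.leaf 1186)))) (.node (.node (.node (.node (.leaf 214) (.leaf 987)) (.node (.leaf 1005) (.leaf 1482))) (.node (.node (.leaf 634) (.leaf 1726)) (.node (.leaf 1299) (.leaf 1912)))) (.node (.node (.node (.leaf 429) (.leaf 1641)) (.node (.leaf 1162) (.leaf 1736))) (.node (.node (.leaf 820) (.leaf 1776)) (.leaf 1427)))))))) (.node (.node (.node (.node (.node (.node (.node (.node (.leaf 14) (.leaf 1442)) (.node (.leaf 835) (.leaf 1795))) (.node (.node (.leaf 448) (.leaf 1650)) (.node (.leaf 1092) (.leaf 1896)))) (.node (.node (.node (.leaf 234) (.leaf 1552)) (.node (.leaf 1022) (.leaf 824))) (.node (.node (.leaf 653) (.leaf 381)) (.leaf 892))))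 (.node (.node (.node (.node (.leaf 128) (.leaf 420)) (.node (.leaf 930) (.leaf 1046))) (.node (.node (.leaf 552) (.leaf 1697)) (.node (.leaf 1248) (.leaf 1696)))) (.node (.node (.node (.leaf 342) (.leaf 1604)) (.node (.leaf 1095) (.leaf 1880))) (.node (.node (.leaf 445) (.leaf 963)) (.leaf 646))))) (.node (.node (.node (.node (.node (.leaf 73) (.leaf 1360)) (.node (.leaf 883) (.leaf 1811))) (.node (.node (.leaf 247) (.leaf 1401)) (.node (.leaf 559) (.leaf 1756)))) (.node (.node (.node (.leaf 289) (.leaf 282)) (.node (.leaf 1063) (.leaf 1688))) (.node (.node (.leaf 700) (.leaf 1345)) (.leaf 1353)))) (.node (.node (.node (.node (.leaf 182) (.leaf 1524)) (.node (.leaf 975) (.leaf 1610))) (.node (.node (.leaf 604) (.leaf 1711)) (.node (.leaf 1276) (.leaf 1905)))) (.node (.node (.node (.leaf 395) (.leaf 1632)) (.node (.leaf 937) (.leaf 670))) (.node (.node (.leaf 791) (.leaf 677)) (.leaf 516)))))) (.node (.node (.node (.node (.node (.node (.leaf 44) (.leaf 1458)) (.node (.leaf 860) (.leaf 1191))) (.node (.node (.leaf 472) (.leaf 745)) (.node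 (.leaf 357) (.leaf 1739)))) (.node (.node (.node (.leaf 261) (.leaf 1096)) (.node (.leaf 1043) (.leaf 1843))) (.node (.node (.leaf 555) (.leaf 1743)) (.leaf 1251)))) (.node (.node (.node (.node (.leaf 154) (.leaf 1111)) (.node (.leaf 953) (.leaf 514))) (.node (.node (.leaf 578) (.leaf 1703)) (.node (.leaf 673) (.leaf 1859)))) (.node (.node (.node (.leaf 369) (.leaf 1055)) (.node (.leaf 1114) (.leaf 1547))) (.node (.node (.leaf 770) (.leaf 520)) (.leaf 671))))) (.node (.node (.node (.node (.node (.leaf 40) (.leaf 1486)) (.node (.leaf 910) (.leaf 1719))) (.node (.node (.leaf 524) (.leaf 1390)) (.node (.leaf 1228) (.leaf 1402)))) (.node (.node (.node (.leaf 317) (.leaf 662)) (.node (.leaf 1077) (.leaf 1876))) (.node (.node (.leaf 723) (.leaf 831)) (.leaf 1194)))) (.node (.node (.node (.node (.leaf 206) (.leaf 1136)) (.node (.leaf 999) (.leaf 1500))) (.node (.node (.leaf 626) (.leaf 905)) (.node (.leaf 1295) (.leaf 1300)))) (.node (.node (.node (.leaf 421) (.leaf 495)) (.node (.leaf 764) (.leaf 617))) (.node (.node (.leaf 506) (.leaf 1284))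 (.leaf 889))))))) (.node (.node (.node (.node (.node (.node (.node (.leaf 30) (.leaf 1448)) (.node (.leaf 848) (.leaf 1798))) (.node (.node (.leaf 460) (.leaf 1281)) (.node (.leaf 789) (.leaf 1846)))) (.node (.node (.node (.leaf 17) (.leaf 1145)) (.node (.leaf 1033) (.leaf 564))) (.node (.node (.leaf 664) (.leaf 1636)) (.leaf 916)))) (.node (.node (.node (.node (.leaf 141) (.leaf 1508)) (.node (.leaf 942) (.leaf 1830))) (.node (.node (.leaf 205) (.leaf 532)) (.node (.leaf 1254) (.leaf 1888)))) (.node (.node (.node (.leaf 129) (.leaf 1613)) (.node (.leaf 786) (.leaf 1882))) (.node (.node (.leaf 758) (.leaf 1504)) (.leaf 1062))))) (.node (.node (.node (.node (.node (.leaf 86) (.leaf 1050)) (.node (.leaf 896) (.leaf 1804))) (.node (.node (.leaf 511) (.leaf 1681)) (.node (.leaf 1217) (.leaf 1861)))) (.node (.node (.node (.leaf 302) (.leaf 1587)) (.node (.leaf 76) (.leaf 1823))) (.node (.node (.leaf 164) (.leaf 1757)) (.leaf 935)))) (.node (.node (.node (.node (.leaf 193) (.leaf 1536)) (.node (.leaf 584) (.leaf 1567))) (.node (.node (.leaf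 294) (.leaf 794)) (.node (.leaf 1285) (.leaf 1817)))) (.node (.node (.node (.leaf 407) (.leaf 1635)) (.node (.leaf 1148) (.leaf 1890))) (.node (.node (.leaf 483) (.leaf 1787)) (.leaf 1422)))))) (.node (.node (.node (.node (.node (.node (.leaf 0) (.leaf 1058)) (.node (.leaf 872) (.leaf 1806))) (.node (.node (.leaf 486) (.leaf 926)) (.node (.leaf 692) (.leaf 1225)))) (.node (.node (.node (.leaf 169) (.leaf 1574)) (.node (.leaf 1052) (.leaf 1863))) (.node (.node (.leaf 688) (.leaf 834)) (.leaf 1341)))) (.node (.node (.node (.node (.leaf 104) (.leaf 1115)) (.node (.leaf 389) (.leaf 412))) (.node (.node (.leaf 591) (.leaf 354)) (.node (.leaf 615) (.leaf 1839)))) (.node (.node (.node (.leaf 382) (.leaf 1499)) (.node (.leaf 1126) (.leaf 1788))) (.node (.node (.leaf 782) (.leaf 1410)) (.leaf 1403))))) (.node (.node (.node (.node (.node (.leaf 114) (.leaf 1494)) (.node (.leaf 61) (.leaf 1824))) (.node (.node (.leaf 537) (.leaf 1378)) (.node (.leaf 971) (.leaf 1399)))) (.node (.node (.node (.leaf 328) (.leaf 1447)) (.node (.leaf 1084) (.leaf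 1566))) (.node (.node (.leaf 453) (.leaf 1770)) (.leaf 1374)))) (.node (.node (.node (.node (.leaf 113) (.leaf 1450)) (.node (.leaf 1011) (.leaf 1314))) (.node (.node (.leaf 641) (.leaf 1673)) (.node (.leaf 1304) (.leaf 1917)))) (.node (.node (.node (.leaf 436) (.leaf 1645)) (.node (.leaf 1167) (.leaf 733))) (.node (.node (.leaf 694) (.leaf 1791)) (.leaf 1119)))))))))

def twoNext6 : Janko.Tree (ℕ) :=
  (.node (.node (.node (.node (.node (.node (.node (.node (.node (.leaf 7) (.leaf 1244)) (.node (.leaf 156) (.leaf 1372))) (.node (.node (.leaf 442) (.leaf 1555)) (.node (.leaf 1173) (.leaf 930)))) (.node (.node (.node (.leaf 227) (.leaf 837)) (.node (.leaf 1016) (.leaf 1524))) (.node (.node (.leaf 646) (.leaf 632)) (.leaf 1307)))) (.node (.node (.node (.node (.leaf 122) (.leaf 1498)) (.node (.leaf 926) (.leaf 1825))) (.node (.node (.leaf 546) (.leaf 1695)) (.node (.leaf 1243) (.leaf 1827)))) (.node (.node (.node (.leaf 335) (.leaf 1601)) (.node (.leaf 438) (.leaf 1767))) (.node (.node (.leaf 279) (.leaf 953)) (.leaf 1378))))) (.node (.node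 (.node (.node (.node (.leaf 67) (.leaf 1467)) (.node (.leaf 878) (.leaf 1480))) (.node (.node (.leaf 493) (.leaf 1673)) (.node (.leaf 1204) (.leaf 1572)))) (.node (.node (.node (.leaf 282) (.leaf 1522)) (.node (.leaf 1058) (.leaf 1836))) (.node (.node (.leaf 694) (.leaf 1750)) (.leaf 814)))) (.node (.node (.node (.node (.leaf 175) (.leaf 513)) (.node (.leaf 883) (.leaf 1689))) (.node (.node (.leaf 598) (.leaf 1707)) (.node (.leaf 105) (.leaf 1650)))) (.node (.node (.node (.leaf 389) (.leaf 574)) (.node (.leaf 1133) (.leaf 1066))) (.node (.node (.leaf 695) (.leaf 1536)) (.leaf 400)))))) (.node (.node (.node (.node (.node (.node (.leaf 38) (.leaf 1453)) (.node (.leaf 855) (.leaf 603))) (.node (.node (.leaf 467) (.leaf 1440)) (.node (.leaf 263) (.leaf 1184)))) (.node (.node (.node (.leaf 44) (.leaf 1374)) (.node (.leaf 1038) (.leaf 458))) (.node (.node (.leaf 670) (.leaf 1438)) (.leaf 1328)))) (.node (.node (.node (.node (.leaf 148) (.leaf 1512)) (.node (.leaf 947) (.leaf 1723))) (.node (.node (.leaf 572) (.leaf 775)) (.node (.leaf 1013)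 (.leaf 1391)))) (.node (.node (.node (.leaf 363) (.leaf 1617)) (.node (.leaf 256) (.leaf 1837))) (.node (.node (.leaf 764) (.leaf 1776)) (.leaf 1395))))) (.node (.node (.node (.node (.node (.leaf 95) (.leaf 1482)) (.node (.leaf 903) (.leaf 1819))) (.node (.node (.leaf 28) (.leaf 1687)) (.node (.leaf 1224) (.leaf 1728)))) (.node (.node (.node (.leaf 311) (.leaf 1590)) (.node (.leaf 784) (.leaf 1874))) (.node (.node (.leaf 123) (.leaf 1620)) (.leaf 1363)))) (.node (.node (.node (.node (.leaf 201) (.leaf 1105)) (.node (.leaf 993) (.leaf 1413))) (.node (.node (.leaf 212) (.leaf 975)) (.node (.leaf 1292) (.leaf 1904)))) (.node (.node (.node (.leaf 136) (.leaf 899)) (.node (.leaf 515) (.leaf 1091))) (.node (.node (.leaf 809) (.leaf 1770)) (.leaf 728))))))) (.node (.node (.node (.node (.node (.node (.node (.leaf 23) (.leaf 1121)) (.node (.leaf 842) (.leaf 1663))) (.node (.node (.leaf 455) (.leaf 887)) (.node (.leaf 1181) (.leaf 1172)))) (.node (.node (.node (.leaf 242) (.leaf 1558)) (.node (.leaf 1028) (.leaf 1856))) (.node (.node (.leaf 660)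 (.leaf 1351)) (.leaf 1318)))) (.node (.node (.node (.node (.leaf 135) (.leaf 1504)) (.node (.leaf 937) (.leaf 1550))) (.node (.node (.leaf 559) (.leaf 1656)) (.node (.leaf 1215) (.leaf 1682)))) (.node (.node (.node (.leaf 348) (.leaf 1349)) (.node (.leaf 857) (.leaf 1748))) (.node (.node (.leaf 191) (.leaf 997)) (.leaf 1387))))) (.node (.node (.node (.node (.node (.leaf 81) (.leaf 680)) (.node (.leaf 270) (.leaf 1574))) (.node (.node (.leaf 506) (.leaf 353)) (.node (.leaf 1214) (.leaf 1905)))) (.node (.node (.node (.leaf 295) (.leaf 1584)) (.node (.leaf 773) (.leaf 1754))) (.node (.node (.leaf 708) (.leaf 1585)) (.leaf 595)))) (.node (.node (.node (.node (.leaf 187) (.leaf 1530)) (.node (.leaf 982) (.leaf 1840))) (.node (.node (.leaf 609) (.leaf 970)) (.node (.leaf 1057) (.leaf 1915)))) (.node (.node (.node (.leaf 402) (.leaf 1502)) (.node (.leaf 1145) (.leaf 1063))) (.node (.node (.leaf 628) (.leaf 1445)) (.leaf 1417)))))) (.node (.node (.node (.node (.node (.node (.leaf 53) (.leaf 152)) (.node (.leaf 795) (.leaf 788))) (.node (.node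 (.leaf 479) (.leaf 1072)) (.node (.leaf 1087) (.leaf 1896)))) (.node (.node (.node (.leaf 269) (.leaf 581)) (.node (.leaf 1047) (.leaf 1260))) (.node (.node (.leaf 682) (.leaf 649)) (.leaf 1337)))) (.node (.node (.node (.node (.leaf 162) (.leaf 1517)) (.node (.leaf 960) (.leaf 1280))) (.node (.node (.leaf 585) (.leaf 601)) (.node (.leaf 1208) (.leaf 1913)))) (.node (.node (.node (.leaf 376) (.leaf 1577)) (.node (.leaf 84) (.leaf 816))) (.node (.node (.leaf 777) (.leaf 1088)) (.leaf 1399))))) (.node (.node (.node (.node (.node (.leaf 107) (.leaf 1492)) (.node (.leaf 915) (.leaf 812))) (.node (.node (.leaf 531) (.leaf 1149)) (.node (.leaf 444) (.leaf 1167)))) (.node (.node (.node (.leaf 103) (.leaf 1435)) (.node (.leaf 626) (.leaf 1855))) (.node (.node (.leaf 731) (.leaf 902)) (.leaf 863)))) (.node (.node (.node (.node (.leaf 82) (.leaf 1400)) (.node (.leaf 1006) (.leaf 1496))) (.node (.node (.leaf 635) (.leaf 1727)) (.node (.leaf 1300) (.leaf 1801)))) (.node (.node (.node (.leaf 430) (.leaf 1642)) (.node (.leaf 1163) (.leaf 1893))) (.node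 (.node (.leaf 821) (.leaf 1734)) (.leaf 1428)))))))) (.node (.node (.node (.node (.node (.node (.node (.node (.leaf 15) (.leaf 1443)) (.node (.leaf 836) (.leaf 955))) (.node (.node (.leaf 449) (.leaf 1518)) (.node (.leaf 939) (.leaf 1897)))) (.node (.node (.node (.leaf 235) (.leaf 1335)) (.node (.leaf 1023) (.leaf 334))) (.node (.node (.leaf 610) (.leaf 1239)) (.leaf 1310)))) (.node (.node (.node (.node (.leaf 129) (.leaf 832)) (.node (.leaf 931) (.leaf 1824))) (.node (.node (.leaf 31) (.leaf 1405)) (.node (.leaf 310) (.leaf 1270)))) (.node (.node (.node (.leaf 128) (.leaf 505)) (.node (.leaf 1096) (.leaf 1760))) (.node (.node (.leaf 749) (.leaf 244)) (.leaf 1383))))) (.node (.node (.node (.node (.node (.leaf 74) (.leaf 1473)) (.node (.leaf 884) (.leaf 1624))) (.node (.node (.leaf 499) (.leaf 1675)) (.node (.leaf 1159) (.leaf 1596)))) (.node (.node (.node (.leaf 106) (.leaf 1079)) (.node (.leaf 1001) (.leaf 1845))) (.node (.node (.leaf 614) (.leaf 1694)) (.leaf 829)))) (.node (.node (.node (.node (.leaf 30) (.leaf 1525)) (.node (.leaf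 976) (.leaf 1657))) (.node (.node (.leaf 272) (.leaf 1677)) (.node (.leaf 1277) (.leaf 1659)))) (.node (.node (.node (.leaf 396) (.leaf 780)) (.node (.leaf 265) (.leaf 1886))) (.node (.node (.leaf 792) (.leaf 1324)) (.leaf 360)))))) (.node (.node (.node (.node (.node (.node (.leaf 45) (.leaf 664)) (.node (.leaf 183) (.leaf 1711))) (.node (.node (.leaf 473) (.leaf 877)) (.node (.leaf 1192) (.leaf 1758)))) (.node (.node (.node (.leaf 262) (.leaf 1567)) (.node (.leaf 732) (.leaf 356))) (.node (.node (.leaf 676) (.leaf 906)) (.leaf 1332)))) (.node (.node (.node (.node (.leaf 155) (.leaf 723)) (.node (.leaf 954) (.leaf 1526))) (.node (.node (.leaf 579) (.leaf 826)) (.node (.leaf 1264) (.leaf 1729)))) (.node (.node (.node (.leaf 370) (.leaf 1411)) (.node (.leaf 868) (.leaf 1644))) (.node (.node (.leaf 771) (.leaf 1178)) (.leaf 1397))))) (.node (.node (.node (.node (.node (.leaf 100) (.leaf 1487)) (.node (.leaf 911) (.leaf 1424))) (.node (.node (.leaf 525) (.leaf 578)) (.node (.leaf 1229) (.leaf 1863)))) (.node (.node (.node (.leaf 318) (.leaf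 1593)) (.node (.leaf 1078) (.leaf 1858))) (.node (.node (.leaf 724) (.leaf 1764)) (.leaf 1368)))) (.node (.node (.node (.node (.leaf 207) (.leaf 1541)) (.node (.leaf 1000) (.leaf 1846))) (.node (.node (.leaf 627) (.leaf 217)) (.node (.leaf 388) (.leaf 1623)))) (.node (.node (.node (.leaf 422) (.leaf 1258)) (.node (.leaf 88) (.leaf 1103))) (.node (.node (.leaf 701) (.leaf 1448)) (.leaf 1005))))))) (.node (.node (.node (.node (.node (.node (.node (.leaf 0) (.leaf 395)) (.node (.leaf 849) (.leaf 1799))) (.node (.node (.leaf 461) (.leaf 734)) (.node (.leaf 134) (.leaf 1715)))) (.node (.node (.node (.leaf 248) (.leaf 898)) (.node (.leaf 468) (.leaf 1676))) (.node (.node (.leaf 665) (.leaf 1713)) (.leaf 1323)))) (.node (.node (.node (.node (.leaf 37) (.leaf 1461)) (.node (.leaf 482) (.leaf 1831))) (.node (.node (.leaf 565) (.leaf 1018)) (.node (.leaf 643) (.leaf 968)))) (.node (.node (.node (.leaf 355) (.leaf 1614)) (.node (.leaf 550) (.leaf 1367))) (.node (.node (.leaf 158) (.leaf 486)) (.leaf 369))))) (.node (.node (.node (.node (.node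 (.leaf 87) (.leaf 1478)) (.node (.leaf 897) (.leaf 1174))) (.node (.node (.leaf 512) (.leaf 1365)) (.node (.leaf 1218) (.leaf 1906)))) (.node (.node (.node (.leaf 303) (.leaf 1588)) (.node (.leaf 413) (.leaf 1779))) (.node (.node (.leaf 630) (.leaf 1640)) (.leaf 423)))) (.node (.node (.node (.node (.leaf 194) (.leaf 450)) (.node (.leaf 987) (.leaf 1008))) (.node (.node (.leaf 613) (.leaf 1718)) (.node (.leaf 1286) (.leaf 1807)))) (.node (.node (.node (.leaf 408) (.leaf 1575)) (.node (.leaf 268) (.leaf 1787))) (.node (.node (.leaf 802) (.leaf 377)) (.leaf 1109)))))) (.node (.node (.node (.node (.node (.node (.leaf 60) (.leaf 1466)) (.node (.leaf 873) (.leaf 1420))) (.node (.node (.leaf 94) (.leaf 1668)) (.node (.leaf 1200) (.leaf 1828)))) (.node (.node (.node (.leaf 276) (.leaf 1164)) (.node (.leaf 1053) (.leaf 1737))) (.node (.node (.leaf 689) (.leaf 1746)) (.leaf 1342)))) (.node (.node (.node (.node (.leaf 169) (.leaf 1384)) (.node (.leaf 374) (.leaf 1766))) (.node (.node (.leaf 117) (.leaf 1341)) (.node (.leaf 1269) (.leaf 1472))))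 (.node (.node (.node (.leaf 71) (.leaf 1627)) (.node (.leaf 1127) (.leaf 448))) (.node (.node (.leaf 707) (.leaf 411)) (.leaf 1404))))) (.node (.node (.node (.node (.node (.leaf 115) (.leaf 1495)) (.node (.leaf 62) (.leaf 980))) (.node (.node (.leaf 538) (.leaf 1692)) (.node (.leaf 1237) (.leaf 1317)))) (.node (.node (.node (.leaf 329) (.leaf 502)) (.node (.leaf 1085) (.leaf 685))) (.node (.node (.leaf 46) (.leaf 1458)) (.leaf 1375)))) (.node (.node (.node (.node (.leaf 220) (.leaf 1476)) (.node (.leaf 1012) (.leaf 1564))) (.node (.node (.leaf 642) (.leaf 1731)) (.node (.leaf 251) (.leaf 1898)))) (.node (.node (.node (.leaf 437) (.leaf 1646)) (.node (.leaf 709) (.leaf 1883))) (.node (.node (.leaf 825) (.leaf 1783)) (.leaf 1213)))))))))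

def twoNext7 : Janko.Tree (ℕ) :=
  (.node (.node (.node (.node (.node (.node (.node (.node (.node (.leaf 8) (.leaf 1438)) (.node (.leaf 830) (.leaf 572))) (.node (.node (.leaf 72) (.leaf 190)) (.node (.leaf 1174) (.leaf 1453)))) (.node (.node (.node (.leaf 228) (.leaf 779)) (.node (.leaf 127) (.leaf 1352))) (.node (.node (.leaf 647) (.leaf 1546)) (.leaf 1214)))) (.node (.node (.node (.node (.leaf 123) (.leaf 254)) (.node (.leaf 927) (.leaf 888))) (.node (.node (.leaf 547) (.leaf 993)) (.node (.leaf 1244) (.leaf 1741)))) (.node (.node (.node (.leaf 336) (.leaf 1249)) (.node (.leaf 1091) (.leaf 1143))) (.node (.node (.leaf 744) (.leaf 408)) (.leaf 1379))))) (.node (.node (.node (.node (.node (.leaf 68) (.leaf 1468)) (.node (.leaf 327) (.leaf 1809))) (.node (.node (.leaf 494) (.leaf 1674)) (.node (.leaf 1205) (.leaf 1549)))) (.node (.node (.node (.leaf 283) (.leaf 792)) (.node (.leaf 538) (.leaf 590))) (.node (.node (.leaf 695) (.leaf 915)) (.leaf 1348)))) (.node (.node (.node (.node (.leaf 176) (.leaf 1375)) (.node (.leaf 970) (.leaf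 313))) (.node (.node (.leaf 599) (.leaf 1409)) (.node (.leaf 1273) (.leaf 1498)))) (.node (.node (.node (.leaf 390) (.leaf 727)) (.node (.leaf 1134) (.leaf 1386))) (.node (.node (.leaf 788) (.leaf 1224)) (.leaf 575)))))) (.node (.node (.node (.node (.node (.node (.leaf 39) (.leaf 1085)) (.node (.leaf 497) (.leaf 1558))) (.node (.node (.leaf 468) (.leaf 1303)) (.node (.leaf 717) (.leaf 1155)))) (.node (.node (.node (.leaf 256) (.leaf 1495)) (.node (.leaf 1039) (.leaf 1857))) (.node (.node (.leaf 391) (.leaf 1428)) (.leaf 1329)))) (.node (.node (.node (.node (.leaf 149) (.leaf 1038)) (.node (.leaf 194) (.leaf 1785))) (.node (.node (.leaf 573) (.leaf 1628)) (.node (.leaf 842) (.leaf 1627)))) (.node (.node (.node (.leaf 364) (.leaf 1027)) (.node (.leaf 476) (.leaf 1814))) (.node (.node (.leaf 765) (.leaf 1439)) (.leaf 1334))))) (.node (.node (.node (.node (.node (.leaf 96) (.leaf 1483)) (.node (.leaf 904) (.leaf 288))) (.node (.node (.leaf 519) (.leaf 1080)) (.node (.leaf 1023) (.leaf 1908)))) (.node (.node (.node (.leaf 312) (.leaf 1591))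 (.node (.leaf 1072) (.leaf 1821))) (.node (.node (.leaf 719) (.leaf 397)) (.leaf 1245)))) (.node (.node (.node (.node (.leaf 202) (.leaf 151)) (.node (.leaf 994) (.leaf 849))) (.node (.node (.leaf 621) (.leaf 1720)) (.node (.leaf 884) (.leaf 1902)))) (.node (.node (.node (.leaf 416) (.leaf 806)) (.node (.leaf 481) (.leaf 1175))) (.node (.node (.leaf 810) (.leaf 1383)) (.leaf 219))))))) (.node (.node (.node (.node (.node (.node (.node (.leaf 24) (.leaf 226)) (.node (.leaf 843) (.leaf 1028))) (.node (.node (.leaf 456) (.leaf 1655)) (.node (.leaf 1182) (.leaf 1831)))) (.node (.node (.node (.leaf 27) (.leaf 1559)) (.node (.leaf 1029) (.leaf 655))) (.node (.node (.leaf 38) (.leaf 1737)) (.leaf 1319)))) (.node (.node (.node (.node (.leaf 136) (.leaf 838)) (.node (.leaf 881) (.leaf 1828))) (.node (.node (.leaf 560) (.leaf 1551)) (.node (.leaf 850) (.leaf 1722)))) (.node (.node (.node (.leaf 349) (.leaf 1608)) (.node (.leaf 1103) (.leaf 1491))) (.node (.node (.leaf 754) (.leaf 1773)) (.leaf 175))))) (.node (.node (.node (.node (.node (.leaf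 82) (.leaf 1475)) (.node (.leaf 891) (.leaf 1048))) (.node (.node (.leaf 507) (.leaf 1678)) (.node (.leaf 309) (.leaf 815)))) (.node (.node (.node (.leaf 296) (.leaf 473)) (.node (.leaf 687) (.leaf 1866))) (.node (.node (.leaf 435) (.leaf 1376)) (.leaf 1259)))) (.node (.node (.node (.node (.leaf 188) (.leaf 1531)) (.node (.leaf 983) (.leaf 1652))) (.node (.node (.leaf 610) (.leaf 320)) (.node (.leaf 854) (.leaf 1693)))) (.node (.node (.node (.leaf 403) (.leaf 352)) (.node (.leaf 150) (.leaf 1510))) (.node (.node (.leaf 798) (.leaf 275)) (.leaf 642)))))) (.node (.node (.node (.node (.node (.node (.leaf 54) (.leaf 801)) (.node (.leaf 866) (.leaf 1051))) (.node (.node (.leaf 480) (.leaf 1602)) (.node (.leaf 1198) (.leaf 714)))) (.node (.node (.node (.leaf 270) (.leaf 1570)) (.node (.leaf 443) (.leaf 1686))) (.node (.node (.leaf 683) (.leaf 804)) (.leaf 1338)))) (.node (.node (.node (.node (.leaf 163) (.leaf 1518)) (.node (.leaf 961) (.leaf 972))) (.node (.node (.leaf 586) (.leaf 536)) (.node (.leaf 1267) (.leaf 1185)))) (.node (.node (.node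 (.leaf 377) (.leaf 1623)) (.node (.leaf 1121) (.leaf 1318))) (.node (.node (.leaf 585) (.leaf 1562)) (.leaf 1400))))) (.node (.node (.node (.node (.node (.leaf 108) (.leaf 373)) (.node (.leaf 580) (.leaf 1065))) (.node (.node (.leaf 305) (.leaf 855)) (.node (.leaf 1232) (.leaf 1616)))) (.node (.node (.node (.leaf 324) (.leaf 819)) (.node (.leaf 1083) (.leaf 1406))) (.node (.node (.leaf 732) (.leaf 1767)) (.leaf 1371)))) (.node (.node (.node (.node (.leaf 215) (.leaf 198)) (.node (.leaf 1007) (.leaf 1648))) (.node (.node (.leaf 636) (.leaf 933)) (.node (.leaf 396) (.leaf 1355)))) (.node (.node (.node (.leaf 431) (.leaf 1643)) (.node (.leaf 1164) (.leaf 729))) (.node (.node (.leaf 501) (.leaf 1488)) (.leaf 1429)))))))) (.node (.node (.node (.node (.node (.node (.node (.node (.leaf 16) (.leaf 867)) (.node (.leaf 318) (.leaf 914))) (.node (.node (.leaf 450) (.leaf 845)) (.node (.leaf 1178) (.leaf 1878)))) (.node (.node (.node (.leaf 236) (.leaf 1553)) (.node (.leaf 1024) (.leaf 1825))) (.node (.node (.leaf 654) (.leaf 1462)) (.leaf 1311))))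 (.node (.node (.node (.node (.leaf 3) (.leaf 1502)) (.node (.leaf 932) (.leaf 1826))) (.node (.node (.leaf 553) (.leaf 1668)) (.node (.leaf 1098) (.leaf 1036)))) (.node (.node (.node (.leaf 343) (.leaf 836)) (.node (.leaf 1097) (.leaf 1277))) (.node (.node (.leaf 658) (.leaf 1606)) (.leaf 1384))))) (.node (.node (.node (.node (.node (.leaf 75) (.leaf 1067)) (.node (.leaf 885) (.leaf 1812))) (.node (.node (.leaf 500) (.leaf 1676)) (.node (.leaf 1208) (.leaf 769)))) (.node (.node (.node (.leaf 290) (.leaf 761)) (.node (.leaf 781) (.leaf 1074))) (.node (.node (.leaf 701) (.leaf 331)) (.leaf 1354)))) (.node (.node (.node (.node (.leaf 183) (.leaf 1526)) (.node (.leaf 316) (.leaf 1838))) (.node (.node (.leaf 231) (.leaf 1469)) (.node (.leaf 1278) (.leaf 1692)))) (.node (.node (.node (.leaf 155) (.leaf 637)) (.node (.leaf 1139) (.leaf 1614))) (.node (.node (.leaf 49) (.leaf 871)) (.leaf 1411)))))) (.node (.node (.node (.node (.node (.node (.leaf 46) (.leaf 1459)) (.node (.leaf 861) (.leaf 1554))) (.node (.node (.leaf 474) (.leaf 1663)) (.node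 (.leaf 1193) (.leaf 1746)))) (.node (.node (.node (.leaf 263) (.leaf 706)) (.node (.leaf 1044) (.leaf 1397))) (.node (.node (.leaf 174) (.leaf 1364)) (.leaf 133)))) (.node (.node (.node (.node (.leaf 156) (.leaf 922)) (.node (.leaf 955) (.leaf 1183))) (.node (.node (.leaf 69) (.leaf 1704)) (.node (.leaf 750) (.leaf 1664)))) (.node (.node (.node (.leaf 42) (.leaf 1620)) (.node (.leaf 339) (.leaf 1457))) (.node (.node (.leaf 240) (.leaf 1368)) (.leaf 977))))) (.node (.node (.node (.node (.node (.leaf 101) (.leaf 627)) (.node (.leaf 752) (.leaf 1820))) (.node (.node (.leaf 526) (.leaf 1586)) (.node (.leaf 245) (.leaf 1899)))) (.node (.node (.node (.leaf 13) (.leaf 168)) (.node (.leaf 509) (.leaf 1593))) (.node (.node (.leaf 725) (.leaf 1466)) (.leaf 958)))) (.node (.node (.node (.node (.leaf 208) (.leaf 1542)) (.node (.leaf 1001) (.leaf 551))) (.node (.node (.leaf 628) (.leaf 1723)) (.node (.leaf 731) (.leaf 1840)))) (.node (.node (.node (.leaf 423) (.leaf 1000)) (.node (.leaf 531) (.leaf 1819))) (.node (.node (.leaf 816) (.leaf 1362))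 (.leaf 1424))))))) (.node (.node (.node (.node (.node (.node (.node (.leaf 31) (.leaf 1449)) (.node (.leaf 107) (.leaf 1778))) (.node (.node (.leaf 462) (.leaf 667)) (.node (.leaf 720) (.leaf 1004)))) (.node (.node (.node (.leaf 249) (.leaf 652)) (.node (.leaf 1034) (.leaf 1755))) (.node (.node (.leaf 262) (.leaf 1647)) (.leaf 1324)))) (.node (.node (.node (.node (.leaf 142) (.leaf 1509)) (.node (.leaf 943) (.leaf 461))) (.node (.node (.leaf 566) (.leaf 347)) (.node (.leaf 1255) (.leaf 1161)))) (.node (.node (.node (.leaf 356) (.leaf 562)) (.node (.leaf 143) (.leaf 1328))) (.node (.node (.leaf 612) (.leaf 771)) (.leaf 1392))))) (.node (.node (.node (.node (.node (.leaf 88) (.leaf 596)) (.node (.leaf 898) (.leaf 286))) (.node (.node (.leaf 513) (.leaf 1682)) (.node (.leaf 1219) (.leaf 1907)))) (.node (.node (.node (.leaf 304) (.leaf 808)) (.node (.leaf 471) (.leaf 605))) (.node (.node (.leaf 713) (.leaf 1758)) (.leaf 1361)))) (.node (.node (.node (.node (.leaf 195) (.leaf 399)) (.node (.leaf 414) (.leaf 1721))) (.node (.node (.leaf 614)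 (.leaf 1395)) (.node (.leaf 602) (.leaf 1906)))) (.node (.node (.node (.leaf 409) (.leaf 1127)) (.node (.leaf 1149) (.leaf 1716))) (.node (.node (.leaf 803) (.leaf 441)) (.leaf 1423)))))) (.node (.node (.node (.node (.node (.node (.leaf 29) (.leaf 1415)) (.node (.leaf 544) (.leaf 1807))) (.node (.node (.leaf 487) (.leaf 1669)) (.node (.leaf 227) (.leaf 1638)))) (.node (.node (.node (.leaf 277) (.leaf 1575)) (.node (.leaf 368) (.leaf 1864))) (.node (.node (.leaf 690) (.leaf 1747)) (.leaf 1343)))) (.node (.node (.node (.node (.leaf 170) (.leaf 1520)) (.node (.leaf 965) (.leaf 1556))) (.node (.node (.leaf 592) (.leaf 785)) (.node (.leaf 307) (.leaf 1122)))) (.node (.node (.node (.leaf 383) (.leaf 1086)) (.node (.leaf 1128) (.leaf 1306))) (.node (.node (.leaf 783) (.leaf 1487)) (.leaf 1405))))) (.node (.node (.node (.node (.node (.leaf 116) (.leaf 1246)) (.node (.leaf 417) (.leaf 1275))) (.node (.node (.leaf 539) (.leaf 996)) (.node (.leaf 1238) (.leaf 1398)))) (.node (.node (.node (.leaf 330) (.leaf 1596)) (.node (.leaf 984) (.leaf 1053)))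 (.node (.node (.leaf 738) (.leaf 1290)) (.leaf 950)))) (.node (.node (.node (.node (.leaf 221) (.leaf 1037)) (.node (.leaf 631) (.leaf 554))) (.node (.node (.leaf 36) (.leaf 582)) (.node (.leaf 1305) (.leaf 1718)))) (.node (.node (.node (.leaf 438) (.leaf 322)) (.node (.leaf 1168) (.leaf 1455))) (.node (.node (.leaf 238) (.leaf 1792)) (.leaf 1434)))))))))

def twoNext : Janko.Tree (ℕ) := (.node (.node (.node twoNext0 twoNext4) (.node twoNext2 twoNext6)) (.node (.node twoNext1 twoNext5) (.node twoNext3 twoNext7)))

def twoWord0 : Janko.Tree (ℕ) :=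
  (.node (.node (.node (.node (.node (.node (.node (.node (.leaf 1) (.leaf 2579)) (.node (.leaf 912) (.leaf 6283))) (.node (.node (.leaf 367) (.leaf 3885)) (.node (.leaf 1634) (.leaf 12563)))) (.node (.node (.node (.leaf 155) (.leaf 3195)) (.node (.leaf 1242) (.leaf 8498))) (.node (.node (.leaf 632) (.leaf 4897)) (.leaf 2127)))) (.node (.node (.node (.node (.leaf 71) (.leaf 2855)) (.node (.leaf 1105) (.leaf 7001))) (.node (.node (.leaf 484) (.leaf 4450)) (.node (.leaf 1833) (.leaf 17476)))) (.node (.node (.node (.leaf 266) (.leaf 3496)) (.node (.leaf 1426) (.leaf 9653))) (.node (.node (.leaf 785) (.leaf 5395)) (.leaf 2330))))) (.node (.node (.node (.node (.node (.leaf 34) (.leaf 2669)) (.node (.leaf 984) (.leaf 6571))) (.node (.node (.leaf 424) (.leaf 4278)) (.node (.leaf 1709) (.leaf 13987)))) (.node (.node (.node (.leaf 205) (.leaf 3347)) (.node (.leaf 1333) (.leaf 8926))) (.node (.node (.leaf 689) (.leaf 5189)) (.leaf 2225)))) (.node (.node (.node (.node (.leaf 109) (.leaf 3035)) (.node (.leaf 1174) (.leaf 7495))) (.node (.node (.leaf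 572) (.leaf 4660)) (.node (.leaf 1928) (.leaf 21594)))) (.node (.node (.node (.leaf 316) (.leaf 3725)) (.node (.leaf 1557) (.leaf 10585))) (.node (.node (.leaf 839) (.leaf 5778)) (.leaf 2415)))))) (.node (.node (.node (.node (.node (.node (.leaf 17) (.leaf 2620)) (.node (.leaf 940) (.leaf 6469))) (.node (.node (.leaf 403) (.leaf 4228)) (.node (.leaf 1679) (.leaf 13346)))) (.node (.node (.node (.leaf 180) (.leaf 3255)) (.node (.leaf 1304) (.leaf 8776))) (.node (.node (.leaf 661) (.leaf 4987)) (.leaf 2191)))) (.node (.node (.node (.node (.leaf 89) (.leaf 2902)) (.node (.leaf 1135) (.leaf 7314))) (.node (.node (.leaf 547) (.leaf 4530)) (.node (.leaf 1875) (.leaf 18777)))) (.node (.node (.node (.leaf 291) (.leaf 3653)) (.node (.leaf 1458) (.leaf 10314))) (.node (.node (.leaf 808) (.leaf 5556)) (.leaf 2376))))) (.node (.node (.node (.node (.node (.leaf 51) (.leaf 2757)) (.node (.leaf 1065) (.leaf 6788))) (.node (.node (.leaf 457) (.leaf 4396)) (.node (.leaf 1753) (.leaf 15506)))) (.node (.node (.node (.leaf 229) (.leaf 3416)) (.node (.leaf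 1369) (.leaf 9399))) (.node (.node (.leaf 724) (.leaf 5283)) (.leaf 2270)))) (.node (.node (.node (.node (.leaf 137) (.leaf 3146)) (.node (.leaf 1205) (.leaf 7888))) (.node (.node (.leaf 594) (.leaf 4751)) (.node (.leaf 1989) (.leaf 27155)))) (.node (.node (.node (.leaf 338) (.leaf 3784)) (.node (.leaf 1596) (.leaf 11128))) (.node (.node (.leaf 859) (.leaf 6069)) (.leaf 2475))))))) (.node (.node (.node (.node (.node (.node (.node (.leaf 9) (.leaf 2599)) (.node (.leaf 930) (.leaf 6327))) (.node (.node (.leaf 394) (.leaf 3984)) (.node (.leaf 1647) (.leaf 12938)))) (.node (.node (.node (.leaf 167) (.leaf 3237)) (.node (.leaf 1290) (.leaf 8721))) (.node (.node (.leaf 651) (.leaf 4909)) (.leaf 2139)))) (.node (.node (.node (.node (.leaf 80) (.leaf 2886)) (.node (.leaf 1122) (.leaf 7115))) (.node (.node (.leaf 529) (.leaf 4496)) (.node (.leaf 1864) (.leaf 17837)))) (.node (.node (.node (.leaf 278) (.leaf 3516)) (.node (.leaf 1444) (.leaf 9818))) (.node (.node (.leaf 795) (.leaf 5521)) (.leaf 2353))))) (.node (.node (.node (.node (.node (.leaf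 42) (.leaf 2703)) (.node (.leaf 1005) (.leaf 6694))) (.node (.node (.leaf 437) (.leaf 4370)) (.node (.leaf 1736) (.leaf 14628)))) (.node (.node (.node (.leaf 214) (.leaf 3382)) (.node (.leaf 1351) (.leaf 9255))) (.node (.node (.leaf 712) (.leaf 5229)) (.leaf 2251)))) (.node (.node (.node (.node (.leaf 120) (.leaf 3113)) (.node (.leaf 1189) (.leaf 7725))) (.node (.node (.leaf 585) (.leaf 4699)) (.node (.leaf 1941) (.leaf 25783)))) (.node (.node (.node (.leaf 329) (.leaf 3751)) (.node (.leaf 1579) (.leaf 10771))) (.node (.node (.leaf 848) (.leaf 5832)) (.leaf 2452)))))) (.node (.node (.node (.node (.node (.node (.leaf 25) (.leaf 2650)) (.node (.leaf 956) (.leaf 6490))) (.node (.node (.leaf 414) (.leaf 4249)) (.node (.leaf 1694) (.leaf 13462)))) (.node (.node (.node (.leaf 197) (.leaf 3285)) (.node (.leaf 1319) (.leaf 8840))) (.node (.node (.leaf 674) (.leaf 5153)) (.leaf 2210)))) (.node (.node (.node (.node (.leaf 101) (.leaf 2939)) (.node (.leaf 1162) (.leaf 7351))) (.node (.node (.leaf 556) (.leaf 4630)) (.node (.leaf 1896) (.leaf 19623))))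 (.node (.node (.node (.leaf 300) (.leaf 3670)) (.node (.leaf 1509) (.leaf 10421))) (.node (.node (.leaf 821) (.leaf 5713)) (.leaf 2394))))) (.node (.node (.node (.node (.node (.leaf 59) (.leaf 2778)) (.node (.leaf 1095) (.leaf 6869))) (.node (.node (.leaf 469) (.leaf 4424)) (.node (.leaf 1810) (.leaf 16969)))) (.node (.node (.node (.leaf 241) (.leaf 3467)) (.node (.leaf 1388) (.leaf 9521))) (.node (.node (.leaf 753) (.leaf 5328)) (.leaf 2320)))) (.node (.node (.node (.node (.leaf 146) (.leaf 3163)) (.node (.leaf 1227) (.leaf 7981))) (.node (.node (.leaf 612) (.leaf 4817)) (.node (.leaf 2114) (.leaf 34952)))) (.node (.node (.node (.leaf 356) (.leaf 3862)) (.node (.leaf 1617) (.leaf 11664))) (.node (.node (.leaf 877) (.leaf 6232)) (.leaf 2530))))))))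

def twoWord1 : Janko.Tree (ℕ) :=
  (.node (.node (.node (.node (.node (.node (.node (.node (.leaf 2) (.leaf 2580)) (.node (.leaf 913) (.leaf 6294))) (.node (.node (.leaf 376) (.leaf 3938)) (.node (.leaf 1636) (.leaf 12589)))) (.node (.node (.node (.leaf 158) (.leaf 3211)) (.node (.leaf 1243) (.leaf 8516))) (.node (.node (.leaf 633) (.leaf 4898)) (.leaf 2128)))) (.node (.node (.node (.node (.leaf 72) (.leaf 2856)) (.node (.leaf 1106) (.leaf 7002))) (.node (.node (.leaf 485) (.leaf 4456)) (.node (.leaf 1835) (.leaf 17585)))) (.node (.node (.node (.leaf 267) (.leaf 3499)) (.node (.leaf 1427) (.leaf 9655))) (.node (.node (.leaf 786) (.leaf 5398)) (.leaf 2331))))) (.node (.node (.node (.node (.node (.leaf 35) (.leaf 2671)) (.node (.leaf 985) (.leaf 6577))) (.node (.node (.leaf 425) (.leaf 4279)) (.node (.leaf 1714) (.leaf 14032)))) (.node (.node (.node (.leaf 207) (.leaf 3350)) (.node (.leaf 1334) (.leaf 8977))) (.node (.node (.leaf 690) (.leaf 5191)) (.leaf 2228)))) (.node (.node (.node (.node (.leaf 111) (.leaf 3105)) (.node (.leaf 1176)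 (.leaf 7514))) (.node (.node (.leaf 573) (.leaf 4669)) (.node (.leaf 1929) (.leaf 21595)))) (.node (.node (.node (.leaf 317) (.leaf 3730)) (.node (.leaf 1558) (.leaf 10586))) (.node (.node (.leaf 840) (.leaf 5790)) (.leaf 2440)))))) (.node (.node (.node (.node (.node (.node (.leaf 18) (.leaf 2621)) (.node (.leaf 941) (.leaf 6471))) (.node (.node (.leaf 404) (.leaf 4229)) (.node (.leaf 1680) (.leaf 13349)))) (.node (.node (.node (.leaf 181) (.leaf 3269)) (.node (.leaf 1305) (.leaf 8777))) (.node (.node (.leaf 662) (.leaf 5060)) (.leaf 2194)))) (.node (.node (.node (.node (.leaf 90) (.leaf 2905)) (.node (.leaf 1144) (.leaf 7316))) (.node (.node (.leaf 548) (.leaf 4535)) (.node (.leaf 1878) (.leaf 18827)))) (.node (.node (.node (.leaf 292) (.leaf 3656)) (.node (.leaf 1460) (.leaf 10330))) (.node (.node (.leaf 809) (.leaf 5557)) (.leaf 2378))))) (.node (.node (.node (.node (.node (.leaf 52) (.leaf 2760)) (.node (.leaf 1067) (.leaf 6793))) (.node (.node (.leaf 458) (.leaf 4397)) (.node (.leaf 1754) (.leaf 15522)))) (.node (.node (.node (.leaf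 232) (.leaf 3418)) (.node (.leaf 1370) (.leaf 9413))) (.node (.node (.leaf 725) (.leaf 5292)) (.leaf 2289)))) (.node (.node (.node (.node (.leaf 138) (.leaf 3147)) (.node (.leaf 1206) (.leaf 7897))) (.node (.node (.leaf 595) (.leaf 4752)) (.node (.leaf 1992) (.leaf 29846)))) (.node (.node (.node (.leaf 339) (.leaf 3792)) (.node (.leaf 1597) (.leaf 11333))) (.node (.node (.leaf 866) (.leaf 6218)) (.leaf 2476))))))) (.node (.node (.node (.node (.node (.node (.node (.leaf 10) (.leaf 2603)) (.node (.leaf 931) (.leaf 6366))) (.node (.node (.leaf 395) (.leaf 3985)) (.node (.leaf 1656) (.leaf 12939)))) (.node (.node (.node (.leaf 168) (.leaf 3238)) (.node (.leaf 1291) (.leaf 8722))) (.node (.node (.leaf 652) (.leaf 4930)) (.leaf 2180)))) (.node (.node (.node (.node (.leaf 81) (.leaf 2887)) (.node (.leaf 1124) (.leaf 7130))) (.node (.node (.leaf 530) (.leaf 4497)) (.node (.leaf 1865) (.leaf 17852)))) (.node (.node (.node (.leaf 280) (.leaf 3554)) (.node (.leaf 1447) (.leaf 9869))) (.node (.node (.leaf 798) (.leaf 5537)) (.leaf 2354))))) (.node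 (.node (.node (.node (.node (.leaf 43) (.leaf 2704)) (.node (.leaf 1057) (.leaf 6695))) (.node (.node (.leaf 438) (.leaf 4371)) (.node (.leaf 1744) (.leaf 14637)))) (.node (.node (.node (.leaf 216) (.leaf 3383)) (.node (.leaf 1352) (.leaf 9284))) (.node (.node (.leaf 713) (.leaf 5231)) (.leaf 2256)))) (.node (.node (.node (.node (.leaf 121) (.leaf 3115)) (.node (.leaf 1190) (.leaf 7749))) (.node (.node (.leaf 586) (.leaf 4706)) (.node (.leaf 1942) (.leaf 25872)))) (.node (.node (.node (.leaf 330) (.leaf 3756)) (.node (.leaf 1580) (.leaf 10786))) (.node (.node (.leaf 849) (.leaf 5840)) (.leaf 2453)))))) (.node (.node (.node (.node (.node (.node (.leaf 26) (.leaf 2651)) (.node (.leaf 957) (.leaf 6491))) (.node (.node (.leaf 417) (.leaf 4251)) (.node (.leaf 1697) (.leaf 13576)))) (.node (.node (.node (.leaf 198) (.leaf 3288)) (.node (.leaf 1320) (.leaf 8841))) (.node (.node (.leaf 675) (.leaf 5154)) (.leaf 2211)))) (.node (.node (.node (.node (.leaf 102) (.leaf 3012)) (.node (.leaf 1163) (.leaf 7432))) (.node (.node (.leaf 557) (.leaf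 4642)) (.node (.leaf 1897) (.leaf 20264)))) (.node (.node (.node (.leaf 301) (.leaf 3672)) (.node (.leaf 1516) (.leaf 10422))) (.node (.node (.leaf 822) (.leaf 5715)) (.leaf 2395))))) (.node (.node (.node (.node (.node (.leaf 60) (.leaf 2779)) (.node (.leaf 1097) (.leaf 6878))) (.node (.node (.leaf 470) (.leaf 4426)) (.node (.leaf 1814) (.leaf 16984)))) (.node (.node (.node (.leaf 242) (.leaf 3472)) (.node (.leaf 1389) (.leaf 9572))) (.node (.node (.leaf 754) (.leaf 5329)) (.leaf 2321)))) (.node (.node (.node (.node (.leaf 147) (.leaf 3170)) (.node (.leaf 1232) (.leaf 8457))) (.node (.node (.leaf 613) (.leaf 4820)) (.node (.leaf 2116) (.leaf 37137)))) (.node (.node (.node (.leaf 357) (.leaf 3873)) (.node (.leaf 1618) (.leaf 12072))) (.node (.node (.leaf 879) (.leaf 6233)) (.leaf 2532))))))))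

def twoWord2 : Janko.Tree (ℕ) :=
  (.node (.node (.node (.node (.node (.node (.node (.node (.leaf 3) (.leaf 2581)) (.node (.leaf 914) (.leaf 6296))) (.node (.node (.leaf 377) (.leaf 3944)) (.node (.leaf 1637) (.leaf 12593)))) (.node (.node (.node (.leaf 161) (.leaf 3218)) (.node (.leaf 1246) (.leaf 8538))) (.node (.node (.leaf 635) (.leaf 4900)) (.leaf 2129)))) (.node (.node (.node (.node (.leaf 73) (.leaf 2857)) (.node (.leaf 1107) (.leaf 7012))) (.node (.node (.leaf 492) (.leaf 4458)) (.node (.leaf 1836) (.leaf 17591)))) (.node (.node (.node (.leaf 272) (.leaf 3500)) (.node (.leaf 1428) (.leaf 9660))) (.node (.node (.leaf 787) (.leaf 5406)) (.leaf 2334))))) (.node (.node (.node (.node (.node (.leaf 36) (.leaf 2680)) (.node (.leaf 986) (.leaf 6673))) (.node (.node (.leaf 427) (.leaf 4360)) (.node (.leaf 1716) (.leaf 14219)))) (.node (.node (.node (.leaf 208) (.leaf 3358)) (.node (.leaf 1335) (.leaf 8994))) (.node (.node (.leaf 692) (.leaf 5195)) (.leaf 2229)))) (.node (.node (.node (.node (.leaf 113) (.leaf 3106)) (.node (.leaf 1177)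 (.leaf 7532))) (.node (.node (.leaf 578) (.leaf 4680)) (.node (.leaf 1931) (.leaf 22177)))) (.node (.node (.node (.leaf 322) (.leaf 3731)) (.node (.leaf 1569) (.leaf 10587))) (.node (.node (.leaf 841) (.leaf 5793)) (.leaf 2441)))))) (.node (.node (.node (.node (.node (.node (.leaf 19) (.leaf 2632)) (.node (.leaf 945) (.leaf 6474))) (.node (.node (.leaf 405) (.leaf 4234)) (.node (.leaf 1682) (.leaf 13380)))) (.node (.node (.node (.leaf 182) (.leaf 3273)) (.node (.leaf 1306) (.leaf 8779))) (.node (.node (.leaf 664) (.leaf 5066)) (.leaf 2196)))) (.node (.node (.node (.node (.leaf 91) (.leaf 2906)) (.node (.leaf 1145) (.leaf 7318))) (.node (.node (.leaf 549) (.leaf 4578)) (.node (.leaf 1880) (.leaf 18978)))) (.node (.node (.node (.leaf 293) (.leaf 3657)) (.node (.leaf 1461) (.leaf 10376))) (.node (.node (.leaf 811) (.leaf 5559)) (.leaf 2379))))) (.node (.node (.node (.node (.node (.leaf 53) (.leaf 2768)) (.node (.leaf 1068) (.leaf 6794))) (.node (.node (.leaf 459) (.leaf 4401)) (.node (.leaf 1755) (.leaf 15532)))) (.node (.node (.node (.leaf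 233) (.leaf 3428)) (.node (.leaf 1371) (.leaf 9488))) (.node (.node (.leaf 726) (.leaf 5293)) (.leaf 2290)))) (.node (.node (.node (.node (.leaf 139) (.leaf 3148)) (.node (.leaf 1207) (.leaf 7953))) (.node (.node (.leaf 598) (.leaf 4757)) (.node (.leaf 1994) (.leaf 30900)))) (.node (.node (.node (.leaf 342) (.leaf 3795)) (.node (.leaf 1605) (.leaf 11426))) (.node (.node (.leaf 868) (.leaf 6219)) (.leaf 2477))))))) (.node (.node (.node (.node (.node (.node (.node (.leaf 11) (.leaf 2605)) (.node (.leaf 932) (.leaf 6422))) (.node (.node (.leaf 396) (.leaf 3988)) (.node (.leaf 1668) (.leaf 12952)))) (.node (.node (.node (.leaf 169) (.leaf 3239)) (.node (.leaf 1296) (.leaf 8723))) (.node (.node (.leaf 653) (.leaf 4933)) (.leaf 2181)))) (.node (.node (.node (.node (.leaf 82) (.leaf 2888)) (.node (.leaf 1125) (.leaf 7236))) (.node (.node (.leaf 531) (.leaf 4501)) (.node (.leaf 1866) (.leaf 17954)))) (.node (.node (.node (.leaf 281) (.leaf 3556)) (.node (.leaf 1448) (.leaf 9889))) (.node (.node (.leaf 801) (.leaf 5538)) (.leaf 2359))))) (.node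 (.node (.node (.node (.node (.leaf 44) (.leaf 2709)) (.node (.leaf 1058) (.leaf 6701))) (.node (.node (.leaf 439) (.leaf 4373)) (.node (.leaf 1745) (.leaf 14865)))) (.node (.node (.node (.leaf 217) (.leaf 3388)) (.node (.leaf 1354) (.leaf 9307))) (.node (.node (.leaf 714) (.leaf 5240)) (.leaf 2260)))) (.node (.node (.node (.node (.leaf 123) (.leaf 3116)) (.node (.leaf 1191) (.leaf 7752))) (.node (.node (.leaf 587) (.leaf 4708)) (.node (.leaf 1969) (.leaf 25905)))) (.node (.node (.node (.leaf 331) (.leaf 3757)) (.node (.leaf 1581) (.leaf 10787))) (.node (.node (.leaf 850) (.leaf 5843)) (.leaf 2454)))))) (.node (.node (.node (.node (.node (.node (.leaf 27) (.leaf 2658)) (.node (.leaf 964) (.leaf 6498))) (.node (.node (.leaf 418) (.leaf 4258)) (.node (.leaf 1698) (.leaf 13577)))) (.node (.node (.node (.leaf 199) (.leaf 3291)) (.node (.leaf 1323) (.leaf 8853))) (.node (.node (.leaf 676) (.leaf 5157)) (.leaf 2212)))) (.node (.node (.node (.node (.leaf 103) (.leaf 3013)) (.node (.leaf 1164) (.leaf 7433))) (.node (.node (.leaf 561) (.leaf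 4643)) (.node (.leaf 1899) (.leaf 20267)))) (.node (.node (.node (.leaf 305) (.leaf 3673)) (.node (.leaf 1517) (.leaf 10423))) (.node (.node (.leaf 823) (.leaf 5718)) (.leaf 2402))))) (.node (.node (.node (.node (.node (.leaf 61) (.leaf 2782)) (.node (.leaf 1098) (.leaf 6945))) (.node (.node (.leaf 472) (.leaf 4427)) (.node (.leaf 1825) (.leaf 16996)))) (.node (.node (.node (.leaf 246) (.leaf 3473)) (.node (.leaf 1391) (.leaf 9580))) (.node (.node (.leaf 758) (.leaf 5336)) (.leaf 2322)))) (.node (.node (.node (.node (.leaf 148) (.leaf 3173)) (.node (.leaf 1233) (.leaf 8458))) (.node (.node (.leaf 616) (.leaf 4822)) (.node (.leaf 2117) (.leaf 37979)))) (.node (.node (.node (.leaf 360) (.leaf 3874)) (.node (.leaf 1619) (.leaf 12073))) (.node (.node (.leaf 888) (.leaf 6234)) (.leaf 2533))))))))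

def twoWord3 : Janko.Tree (ℕ) :=
  (.node (.node (.node (.node (.node (.node (.node (.node (.leaf 4) (.leaf 2582)) (.node (.leaf 915) (.leaf 6316))) (.node (.node (.leaf 379) (.leaf 3947)) (.node (.leaf 1640) (.leaf 12651)))) (.node (.node (.node (.leaf 162) (.leaf 3220)) (.node (.leaf 1265) (.leaf 8539))) (.node (.node (.leaf 644) (.leaf 4903)) (.leaf 2131)))) (.node (.node (.node (.node (.leaf 74) (.leaf 2859)) (.node (.leaf 1110) (.leaf 7016))) (.node (.node (.leaf 493) (.leaf 4459)) (.node (.leaf 1837) (.leaf 17682)))) (.node (.node (.node (.leaf 273) (.leaf 3501)) (.node (.leaf 1429) (.leaf 9762))) (.node (.node (.leaf 789) (.leaf 5425)) (.leaf 2340))))) (.node (.node (.node (.node (.node (.leaf 37) (.leaf 2692)) (.node (.leaf 987) (.leaf 6674))) (.node (.node (.leaf 428) (.leaf 4361)) (.node (.leaf 1717) (.leaf 14261)))) (.node (.node (.node (.leaf 209) (.leaf 3361)) (.node (.leaf 1340) (.leaf 9003))) (.node (.node (.leaf 693) (.leaf 5196)) (.leaf 2230)))) (.node (.node (.node (.node (.leaf 114) (.leaf 3108)) (.node (.leaf 1179)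 (.leaf 7535))) (.node (.node (.leaf 580) (.leaf 4681)) (.node (.leaf 1936) (.leaf 23329)))) (.node (.node (.node (.leaf 324) (.leaf 3742)) (.node (.leaf 1570) (.leaf 10635))) (.node (.node (.leaf 842) (.leaf 5794)) (.leaf 2443)))))) (.node (.node (.node (.node (.node (.node (.leaf 20) (.leaf 2633)) (.node (.leaf 946) (.leaf 6475))) (.node (.node (.leaf 406) (.leaf 4235)) (.node (.leaf 1683) (.leaf 13383)))) (.node (.node (.node (.leaf 183) (.leaf 3274)) (.node (.leaf 1307) (.leaf 8792))) (.node (.node (.leaf 665) (.leaf 5067)) (.leaf 2198)))) (.node (.node (.node (.node (.leaf 94) (.leaf 2916)) (.node (.leaf 1147) (.leaf 7330))) (.node (.node (.leaf 550) (.leaf 4588)) (.node (.leaf 1881) (.leaf 18983)))) (.node (.node (.node (.leaf 294) (.leaf 3658)) (.node (.leaf 1463) (.leaf 10377))) (.node (.node (.leaf 812) (.leaf 5564)) (.leaf 2380))))) (.node (.node (.node (.node (.node (.leaf 54) (.leaf 2769)) (.node (.leaf 1069) (.leaf 6799))) (.node (.node (.leaf 464) (.leaf 4402)) (.node (.leaf 1758) (.leaf 15906)))) (.node (.node (.node (.leaf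 234) (.leaf 3432)) (.node (.leaf 1378) (.leaf 9489))) (.node (.node (.leaf 728) (.leaf 5297)) (.leaf 2294)))) (.node (.node (.node (.node (.leaf 140) (.leaf 3151)) (.node (.leaf 1220) (.leaf 7969))) (.node (.node (.leaf 600) (.leaf 4760)) (.node (.leaf 1995) (.leaf 30901)))) (.node (.node (.node (.leaf 344) (.leaf 3801)) (.node (.leaf 1608) (.leaf 11431))) (.node (.node (.leaf 872) (.leaf 6220)) (.leaf 2481))))))) (.node (.node (.node (.node (.node (.node (.node (.leaf 12) (.leaf 2609)) (.node (.leaf 933) (.leaf 6436))) (.node (.node (.leaf 397) (.leaf 3989)) (.node (.leaf 1672) (.leaf 13095)))) (.node (.node (.node (.leaf 171) (.leaf 3244)) (.node (.leaf 1297) (.leaf 8738))) (.node (.node (.leaf 655) (.leaf 4934)) (.leaf 2184)))) (.node (.node (.node (.node (.leaf 83) (.leaf 2889)) (.node (.leaf 1128) (.leaf 7237))) (.node (.node (.leaf 532) (.leaf 4502)) (.node (.leaf 1867) (.leaf 17989)))) (.node (.node (.node (.leaf 282) (.leaf 3557)) (.node (.leaf 1449) (.leaf 9890))) (.node (.node (.leaf 802) (.leaf 5539)) (.leaf 2364))))) (.node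 (.node (.node (.node (.node (.leaf 45) (.leaf 2712)) (.node (.leaf 1060) (.leaf 6717))) (.node (.node (.leaf 444) (.leaf 4376)) (.node (.leaf 1746) (.leaf 14923)))) (.node (.node (.node (.leaf 218) (.leaf 3394)) (.node (.leaf 1355) (.leaf 9362))) (.node (.node (.leaf 715) (.leaf 5241)) (.leaf 2261)))) (.node (.node (.node (.node (.leaf 124) (.leaf 3117)) (.node (.leaf 1196) (.leaf 7753))) (.node (.node (.leaf 588) (.leaf 4728)) (.node (.leaf 1970) (.leaf 26202)))) (.node (.node (.node (.leaf 332) (.leaf 3764)) (.node (.leaf 1585) (.leaf 10791))) (.node (.node (.leaf 851) (.leaf 5878)) (.leaf 2465)))))) (.node (.node (.node (.node (.node (.node (.leaf 28) (.leaf 2660)) (.node (.leaf 965) (.leaf 6539))) (.node (.node (.leaf 419) (.leaf 4262)) (.node (.leaf 1699) (.leaf 13598)))) (.node (.node (.node (.leaf 200) (.leaf 3336)) (.node (.leaf 1324) (.leaf 8882))) (.node (.node (.leaf 677) (.leaf 5159)) (.leaf 2213)))) (.node (.node (.node (.node (.leaf 104) (.leaf 3018)) (.node (.leaf 1165) (.leaf 7446))) (.node (.node (.leaf 562) (.leaf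 4647)) (.node (.leaf 1900) (.leaf 20753)))) (.node (.node (.node (.leaf 306) (.leaf 3674)) (.node (.leaf 1552) (.leaf 10462))) (.node (.node (.leaf 828) (.leaf 5720)) (.leaf 2408))))) (.node (.node (.node (.node (.node (.leaf 62) (.leaf 2833)) (.node (.leaf 1099) (.leaf 6983))) (.node (.node (.leaf 473) (.leaf 4429)) (.node (.leaf 1826) (.leaf 17032)))) (.node (.node (.node (.leaf 248) (.leaf 3489)) (.node (.leaf 1416) (.leaf 9633))) (.node (.node (.leaf 776) (.leaf 5384)) (.leaf 2323)))) (.node (.node (.node (.node (.leaf 149) (.leaf 3180)) (.node (.leaf 1236) (.leaf 8459))) (.node (.node (.leaf 618) (.leaf 4825)) (.node (.leaf 2121) (.leaf 40529)))) (.node (.node (.node (.leaf 361) (.leaf 3876)) (.node (.leaf 1622) (.leaf 12075))) (.node (.node (.leaf 889) (.leaf 6235)) (.leaf 2540))))))))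

def twoWord4 : Janko.Tree (ℕ) :=
  (.node (.node (.node (.node (.node (.node (.node (.node (.leaf 5) (.leaf 2594)) (.node (.leaf 916) (.leaf 6321))) (.node (.node (.leaf 388) (.leaf 3948)) (.node (.leaf 1642) (.leaf 12886)))) (.node (.node (.node (.leaf 163) (.leaf 3221)) (.node (.leaf 1266) (.leaf 8554))) (.node (.node (.leaf 645) (.leaf 4904)) (.leaf 2134)))) (.node (.node (.node (.node (.leaf 75) (.leaf 2860)) (.node (.leaf 1112) (.leaf 7019))) (.node (.node (.leaf 497) (.leaf 4461)) (.node (.leaf 1858) (.leaf 17683)))) (.node (.node (.node (.leaf 274) (.leaf 3506)) (.node (.leaf 1430) (.leaf 9797))) (.node (.node (.leaf 790) (.leaf 5431)) (.leaf 2341))))) (.node (.node (.node (.node (.node (.leaf 38) (.leaf 2696)) (.node (.leaf 994) (.leaf 6675))) (.node (.node (.leaf 429) (.leaf 4362)) (.node (.leaf 1718) (.leaf 14475)))) (.node (.node (.node (.leaf 210) (.leaf 3364)) (.node (.leaf 1346) (.leaf 9041))) (.node (.node (.leaf 694) (.leaf 5210)) (.leaf 2231)))) (.node (.node (.node (.node (.leaf 116) (.leaf 3109)) (.node (.leaf 1182)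 (.leaf 7568))) (.node (.node (.leaf 581) (.leaf 4683)) (.node (.leaf 1937) (.leaf 24145)))) (.node (.node (.node (.leaf 325) (.leaf 3745)) (.node (.leaf 1571) (.leaf 10646))) (.node (.node (.leaf 843) (.leaf 5795)) (.leaf 2448)))))) (.node (.node (.node (.node (.node (.node (.leaf 21) (.leaf 2635)) (.node (.leaf 948) (.leaf 6476))) (.node (.node (.leaf 408) (.leaf 4242)) (.node (.leaf 1685) (.leaf 13387)))) (.node (.node (.node (.leaf 188) (.leaf 3275)) (.node (.leaf 1310) (.leaf 8794))) (.node (.node (.leaf 666) (.leaf 5080)) (.leaf 2200)))) (.node (.node (.node (.node (.leaf 97) (.leaf 2920)) (.node (.leaf 1156) (.leaf 7335))) (.node (.node (.leaf 551) (.leaf 4624)) (.node (.leaf 1882) (.leaf 18989)))) (.node (.node (.node (.leaf 295) (.leaf 3659)) (.node (.leaf 1468) (.leaf 10379))) (.node (.node (.leaf 813) (.leaf 5666)) (.leaf 2381))))) (.node (.node (.node (.node (.node (.leaf 55) (.leaf 2772)) (.node (.leaf 1090) (.leaf 6800))) (.node (.node (.leaf 465) (.leaf 4412)) (.node (.leaf 1777) (.leaf 15941)))) (.node (.node (.node (.leaf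 235) (.leaf 3434)) (.node (.leaf 1380) (.leaf 9490))) (.node (.node (.leaf 729) (.leaf 5303)) (.leaf 2312)))) (.node (.node (.node (.node (.leaf 141) (.leaf 3158)) (.node (.leaf 1221) (.leaf 7970))) (.node (.node (.leaf 601) (.leaf 4762)) (.node (.leaf 2008) (.leaf 31813)))) (.node (.node (.node (.leaf 345) (.leaf 3806)) (.node (.leaf 1609) (.leaf 11542))) (.node (.node (.leaf 873) (.leaf 6223)) (.leaf 2482))))))) (.node (.node (.node (.node (.node (.node (.node (.leaf 13) (.leaf 2610)) (.node (.leaf 935) (.leaf 6443))) (.node (.node (.leaf 399) (.leaf 3990)) (.node (.leaf 1673) (.leaf 13100)))) (.node (.node (.node (.leaf 172) (.leaf 3245)) (.node (.leaf 1298) (.leaf 8739))) (.node (.node (.leaf 656) (.leaf 4935)) (.leaf 2185)))) (.node (.node (.node (.node (.leaf 84) (.leaf 2895)) (.node (.leaf 1130) (.leaf 7242))) (.node (.node (.leaf 533) (.leaf 4513)) (.node (.leaf 1871) (.leaf 18082)))) (.node (.node (.node (.leaf 283) (.leaf 3565)) (.node (.leaf 1451) (.leaf 9974))) (.node (.node (.leaf 803) (.leaf 5544)) (.leaf 2372))))) (.node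 (.node (.node (.node (.node (.leaf 47) (.leaf 2714)) (.node (.leaf 1061) (.leaf 6728))) (.node (.node (.leaf 445) (.leaf 4377)) (.node (.leaf 1747) (.leaf 14991)))) (.node (.node (.node (.leaf 219) (.leaf 3396)) (.node (.leaf 1356) (.leaf 9366))) (.node (.node (.leaf 720) (.leaf 5243)) (.leaf 2262)))) (.node (.node (.node (.node (.leaf 125) (.leaf 3138)) (.node (.leaf 1197) (.leaf 7761))) (.node (.node (.leaf 589) (.leaf 4744)) (.node (.leaf 1972) (.leaf 26774)))) (.node (.node (.node (.leaf 333) (.leaf 3765)) (.node (.leaf 1586) (.leaf 10797))) (.node (.node (.leaf 854) (.leaf 6027)) (.leaf 2466)))))) (.node (.node (.node (.node (.node (.node (.leaf 29) (.leaf 2661)) (.node (.leaf 968) (.leaf 6547))) (.node (.node (.leaf 420) (.leaf 4269)) (.node (.leaf 1700) (.leaf 13731)))) (.node (.node (.node (.leaf 201) (.leaf 3337)) (.node (.leaf 1325) (.leaf 8886))) (.node (.node (.leaf 678) (.leaf 5161)) (.leaf 2214)))) (.node (.node (.node (.node (.leaf 105) (.leaf 3019)) (.node (.leaf 1167) (.leaf 7460))) (.node (.node (.leaf 564) (.leaf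 4651)) (.node (.leaf 1901) (.leaf 20781)))) (.node (.node (.node (.leaf 308) (.leaf 3675)) (.node (.leaf 1553) (.leaf 10540))) (.node (.node (.leaf 834) (.leaf 5722)) (.leaf 2410))))) (.node (.node (.node (.node (.node (.leaf 66) (.leaf 2849)) (.node (.leaf 1100) (.leaf 6991))) (.node (.node (.leaf 474) (.leaf 4440)) (.node (.leaf 1828) (.leaf 17110)))) (.node (.node (.node (.leaf 249) (.leaf 3490)) (.node (.leaf 1417) (.leaf 9635))) (.node (.node (.leaf 777) (.leaf 5385)) (.leaf 2325)))) (.node (.node (.node (.node (.leaf 150) (.leaf 3181)) (.node (.leaf 1237) (.leaf 8469))) (.node (.node (.leaf 619) (.leaf 4826)) (.node (.leaf 2122) (.leaf 40534)))) (.node (.node (.node (.leaf 362) (.leaf 3879)) (.node (.leaf 1624) (.leaf 12436))) (.node (.node (.leaf 891) (.leaf 6276)) (.leaf 2541))))))))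

def twoWord5 : Janko.Tree (ℕ) :=
  (.node (.node (.node (.node (.node (.node (.node (.node (.leaf 6) (.leaf 2595)) (.node (.leaf 917) (.leaf 6324))) (.node (.node (.leaf 389) (.leaf 3949)) (.node (.leaf 1643) (.leaf 12888)))) (.node (.node (.node (.leaf 164) (.leaf 3222)) (.node (.leaf 1270) (.leaf 8555))) (.node (.node (.leaf 648) (.leaf 4905)) (.leaf 2136)))) (.node (.node (.node (.node (.leaf 76) (.leaf 2861)) (.node (.leaf 1113) (.leaf 7032))) (.node (.node (.leaf 498) (.leaf 4463)) (.node (.leaf 1861) (.leaf 17772)))) (.node (.node (.node (.leaf 275) (.leaf 3508)) (.node (.leaf 1441) (.leaf 9801))) (.node (.node (.leaf 792) (.leaf 5476)) (.leaf 2347))))) (.node (.node (.node (.node (.node (.leaf 39) (.leaf 2697)) (.node (.leaf 996) (.leaf 6690))) (.node (.node (.leaf 433) (.leaf 4363)) (.node (.leaf 1719) (.leaf 14516)))) (.node (.node (.node (.leaf 211) (.leaf 3365)) (.node (.leaf 1348) (.leaf 9249))) (.node (.node (.leaf 695) (.leaf 5211)) (.leaf 2244)))) (.node (.node (.node (.node (.leaf 117) (.leaf 3110)) (.node (.leaf 1186)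 (.leaf 7569))) (.node (.node (.leaf 582) (.leaf 4694)) (.node (.leaf 1938) (.leaf 24150)))) (.node (.node (.node (.leaf 326) (.leaf 3746)) (.node (.leaf 1573) (.leaf 10658))) (.node (.node (.leaf 844) (.leaf 5799)) (.leaf 2449)))))) (.node (.node (.node (.node (.node (.node (.leaf 22) (.leaf 2641)) (.node (.leaf 949) (.leaf 6479))) (.node (.node (.leaf 409) (.leaf 4244)) (.node (.leaf 1688) (.leaf 13388)))) (.node (.node (.node (.leaf 189) (.leaf 3280)) (.node (.leaf 1313) (.leaf 8795))) (.node (.node (.leaf 667) (.leaf 5081)) (.leaf 2201)))) (.node (.node (.node (.node (.leaf 98) (.leaf 2921)) (.node (.leaf 1157) (.leaf 7340))) (.node (.node (.leaf 552) (.leaf 4625)) (.node (.leaf 1883) (.leaf 19280)))) (.node (.node (.node (.leaf 296) (.leaf 3664)) (.node (.leaf 1469) (.leaf 10390))) (.node (.node (.leaf 817) (.leaf 5701)) (.leaf 2383))))) (.node (.node (.node (.node (.node (.leaf 56) (.leaf 2773)) (.node (.leaf 1092) (.leaf 6856))) (.node (.node (.leaf 466) (.leaf 4420)) (.node (.leaf 1778) (.leaf 15953)))) (.node (.node (.node (.leaf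 236) (.leaf 3435)) (.node (.leaf 1384) (.leaf 9491))) (.node (.node (.leaf 730) (.leaf 5317)) (.leaf 2313)))) (.node (.node (.node (.node (.leaf 143) (.leaf 3160)) (.node (.leaf 1224) (.leaf 7976))) (.node (.node (.leaf 602) (.leaf 4786)) (.node (.leaf 2009) (.leaf 31916)))) (.node (.node (.node (.leaf 346) (.leaf 3830)) (.node (.leaf 1610) (.leaf 11557))) (.node (.node (.leaf 874) (.leaf 6224)) (.leaf 2487))))))) (.node (.node (.node (.node (.node (.node (.node (.leaf 14) (.leaf 2612)) (.node (.leaf 936) (.leaf 6444))) (.node (.node (.leaf 400) (.leaf 4017)) (.node (.leaf 1674) (.leaf 13101)))) (.node (.node (.node (.leaf 173) (.leaf 3249)) (.node (.leaf 1299) (.leaf 8743))) (.node (.node (.leaf 658) (.leaf 4944)) (.leaf 2186)))) (.node (.node (.node (.node (.leaf 85) (.leaf 2896)) (.node (.leaf 1131) (.leaf 7243))) (.node (.node (.leaf 534) (.leaf 4520)) (.node (.leaf 1872) (.leaf 18568)))) (.node (.node (.node (.leaf 286) (.leaf 3618)) (.node (.leaf 1452) (.leaf 10132))) (.node (.node (.leaf 804) (.leaf 5547)) (.leaf 2373))))) (.node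 (.node (.node (.node (.node (.leaf 48) (.leaf 2715)) (.node (.leaf 1062) (.leaf 6731))) (.node (.node (.leaf 452) (.leaf 4382)) (.node (.leaf 1748) (.leaf 15137)))) (.node (.node (.node (.leaf 222) (.leaf 3397)) (.node (.leaf 1357) (.leaf 9388))) (.node (.node (.leaf 721) (.leaf 5266)) (.leaf 2264)))) (.node (.node (.node (.node (.leaf 132) (.leaf 3140)) (.node (.leaf 1201) (.leaf 7763))) (.node (.node (.leaf 591) (.leaf 4745)) (.node (.leaf 1973) (.leaf 26776)))) (.node (.node (.node (.leaf 335) (.leaf 3766)) (.node (.leaf 1588) (.leaf 11079))) (.node (.node (.leaf 856) (.leaf 6036)) (.leaf 2467)))))) (.node (.node (.node (.node (.node (.node (.leaf 30) (.leaf 2664)) (.node (.leaf 969) (.leaf 6550))) (.node (.node (.leaf 421) (.leaf 4273)) (.node (.leaf 1701) (.leaf 13756)))) (.node (.node (.node (.leaf 202) (.leaf 3344)) (.node (.leaf 1329) (.leaf 8912))) (.node (.node (.leaf 679) (.leaf 5163)) (.leaf 2215)))) (.node (.node (.node (.node (.leaf 106) (.leaf 3032)) (.node (.leaf 1170) (.leaf 7461))) (.node (.node (.leaf 565) (.leaf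 4653)) (.node (.leaf 1903) (.leaf 21317)))) (.node (.node (.node (.leaf 309) (.leaf 3716)) (.node (.leaf 1554) (.leaf 10541))) (.node (.node (.leaf 836) (.leaf 5723)) (.leaf 2411))))) (.node (.node (.node (.node (.node (.leaf 68) (.leaf 2850)) (.node (.leaf 1101) (.leaf 6992))) (.node (.node (.leaf 475) (.leaf 4441)) (.node (.leaf 1829) (.leaf 17442)))) (.node (.node (.node (.leaf 251) (.leaf 3491)) (.node (.leaf 1419) (.leaf 9640))) (.node (.node (.leaf 778) (.leaf 5392)) (.leaf 2326)))) (.node (.node (.node (.node (.leaf 152) (.leaf 3183)) (.node (.leaf 1238) (.leaf 8484))) (.node (.node (.leaf 620) (.leaf 4827)) (.node (.leaf 2123) (.leaf 48300)))) (.node (.node (.node (.leaf 363) (.leaf 3880)) (.node (.leaf 1625) (.leaf 12450))) (.node (.node (.leaf 904) (.leaf 6277)) (.leaf 2576))))))))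

def twoWord6 : Janko.Tree (ℕ) :=
  (.node (.node (.node (.node (.node (.node (.node (.node (.leaf 7) (.leaf 2597)) (.node (.leaf 918) (.leaf 6325))) (.node (.node (.leaf 392) (.leaf 3976)) (.node (.leaf 1644) (.leaf 12891)))) (.node (.node (.node (.leaf 165) (.leaf 3234)) (.node (.leaf 1288) (.leaf 8557))) (.node (.node (.leaf 649) (.leaf 4907)) (.leaf 2137)))) (.node (.node (.node (.node (.leaf 77) (.leaf 2882)) (.node (.leaf 1114) (.leaf 7108))) (.node (.node (.leaf 502) (.leaf 4488)) (.node (.leaf 1862) (.leaf 17825)))) (.node (.node (.node (.leaf 276) (.leaf 3509)) (.node (.leaf 1442) (.leaf 9811))) (.node (.node (.leaf 793) (.leaf 5484)) (.leaf 2348))))) (.node (.node (.node (.node (.node (.leaf 40) (.leaf 2698)) (.node (.leaf 997) (.leaf 6691))) (.node (.node (.leaf 434) (.leaf 4368)) (.node (.leaf 1732) (.leaf 14517)))) (.node (.node (.node (.leaf 212) (.leaf 3377)) (.node (.leaf 1349) (.leaf 9250))) (.node (.node (.leaf 708) (.leaf 5221)) (.leaf 2248)))) (.node (.node (.node (.node (.leaf 118) (.leaf 3111)) (.node (.leaf 1187)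 (.leaf 7612))) (.node (.node (.leaf 583) (.leaf 4696)) (.node (.leaf 1939) (.leaf 24900)))) (.node (.node (.node (.leaf 327) (.leaf 3747)) (.node (.leaf 1574) (.leaf 10673))) (.node (.node (.leaf 845) (.leaf 5804)) (.leaf 2450)))))) (.node (.node (.node (.node (.node (.node (.leaf 23) (.leaf 2646)) (.node (.leaf 950) (.leaf 6488))) (.node (.node (.leaf 410) (.leaf 4246)) (.node (.leaf 1690) (.leaf 13402)))) (.node (.node (.node (.leaf 194) (.leaf 3281)) (.node (.leaf 1316) (.leaf 8802))) (.node (.node (.leaf 670) (.leaf 5082)) (.leaf 2203)))) (.node (.node (.node (.node (.leaf 99) (.leaf 2923)) (.node (.leaf 1160) (.leaf 7345))) (.node (.node (.leaf 553) (.leaf 4626)) (.node (.leaf 1890) (.leaf 19290)))) (.node (.node (.node (.leaf 297) (.leaf 3665)) (.node (.leaf 1506) (.leaf 10392))) (.node (.node (.leaf 818) (.leaf 5705)) (.leaf 2392))))) (.node (.node (.node (.node (.node (.leaf 57) (.leaf 2774)) (.node (.leaf 1093) (.leaf 6864))) (.node (.node (.leaf 467) (.leaf 4422)) (.node (.leaf 1782) (.leaf 15958)))) (.node (.node (.node (.leaf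 237) (.leaf 3436)) (.node (.leaf 1386) (.leaf 9494))) (.node (.node (.leaf 731) (.leaf 5322)) (.leaf 2314)))) (.node (.node (.node (.node (.leaf 144) (.leaf 3161)) (.node (.leaf 1225) (.leaf 7977))) (.node (.node (.leaf 603) (.leaf 4790)) (.node (.leaf 2010) (.leaf 33969)))) (.node (.node (.node (.leaf 347) (.leaf 3857)) (.node (.leaf 1611) (.leaf 11586))) (.node (.node (.leaf 875) (.leaf 6225)) (.leaf 2492))))))) (.node (.node (.node (.node (.node (.node (.node (.leaf 15) (.leaf 2614)) (.node (.leaf 937) (.leaf 6445))) (.node (.node (.leaf 401) (.leaf 4018)) (.node (.leaf 1675) (.leaf 13125)))) (.node (.node (.node (.leaf 177) (.leaf 3250)) (.node (.leaf 1301) (.leaf 8753))) (.node (.node (.leaf 659) (.leaf 4945)) (.leaf 2187)))) (.node (.node (.node (.node (.leaf 86) (.leaf 2897)) (.node (.leaf 1132) (.leaf 7258))) (.node (.node (.leaf 545) (.leaf 4525)) (.node (.leaf 1873) (.leaf 18569)))) (.node (.node (.node (.leaf 289) (.leaf 3621)) (.node (.leaf 1453) (.leaf 10133))) (.node (.node (.leaf 805) (.leaf 5549)) (.leaf 2374))))) (.node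 (.node (.node (.node (.node (.leaf 49) (.leaf 2738)) (.node (.leaf 1063) (.leaf 6764))) (.node (.node (.leaf 453) (.leaf 4388)) (.node (.leaf 1749) (.leaf 15429)))) (.node (.node (.node (.leaf 226) (.leaf 3399)) (.node (.leaf 1359) (.leaf 9389))) (.node (.node (.leaf 722) (.leaf 5270)) (.leaf 2265)))) (.node (.node (.node (.node (.leaf 133) (.leaf 3141)) (.node (.leaf 1202) (.leaf 7766))) (.node (.node (.leaf 592) (.leaf 4746)) (.node (.leaf 1974) (.leaf 26924)))) (.node (.node (.node (.leaf 336) (.leaf 3767)) (.node (.leaf 1590) (.leaf 11088))) (.node (.node (.leaf 857) (.leaf 6037)) (.leaf 2472)))))) (.node (.node (.node (.node (.node (.node (.leaf 31) (.leaf 2667)) (.node (.leaf 970) (.leaf 6562))) (.node (.node (.leaf 422) (.leaf 4276)) (.node (.leaf 1703) (.leaf 13985)))) (.node (.node (.node (.leaf 203) (.leaf 3345)) (.node (.leaf 1330) (.leaf 8913))) (.node (.node (.leaf 684) (.leaf 5165)) (.leaf 2220)))) (.node (.node (.node (.node (.leaf 107) (.leaf 3033)) (.node (.leaf 1172) (.leaf 7490))) (.node (.node (.leaf 566) (.leaf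 4657)) (.node (.leaf 1912) (.leaf 21538)))) (.node (.node (.node (.leaf 310) (.leaf 3722)) (.node (.leaf 1555) (.leaf 10565))) (.node (.node (.leaf 837) (.leaf 5771)) (.leaf 2412))))) (.node (.node (.node (.node (.node (.leaf 69) (.leaf 2852)) (.node (.leaf 1103) (.leaf 6993))) (.node (.node (.leaf 478) (.leaf 4442)) (.node (.leaf 1831) (.leaf 17445)))) (.node (.node (.node (.leaf 264) (.leaf 3492)) (.node (.leaf 1424) (.leaf 9645))) (.node (.node (.leaf 779) (.leaf 5393)) (.leaf 2328)))) (.node (.node (.node (.node (.leaf 153) (.leaf 3192)) (.node (.leaf 1240) (.leaf 8492))) (.node (.node (.leaf 621) (.leaf 4830)) (.node (.leaf 2124) (.leaf 59693)))) (.node (.node (.node (.leaf 364) (.leaf 3881)) (.node (.leaf 1626) (.leaf 12465))) (.node (.node (.leaf 905) (.leaf 6280)) (.leaf 2577))))))))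

def twoWord7 : Janko.Tree (ℕ) :=
  (.node (.node (.node (.node (.node (.node (.node (.node (.leaf 8) (.leaf 2598)) (.node (.leaf 929) (.leaf 6326))) (.node (.node (.leaf 393) (.leaf 3979)) (.node (.leaf 1645) (.leaf 12936)))) (.node (.node (.node (.leaf 166) (.leaf 3235)) (.node (.leaf 1289) (.leaf 8720))) (.node (.node (.leaf 650) (.leaf 4908)) (.leaf 2138)))) (.node (.node (.node (.node (.leaf 79) (.leaf 2885)) (.node (.leaf 1115) (.leaf 7109))) (.node (.node (.leaf 528) (.leaf 4489)) (.node (.leaf 1863) (.leaf 17827)))) (.node (.node (.node (.leaf 277) (.leaf 3511)) (.node (.leaf 1443) (.leaf 9814))) (.node (.node (.leaf 794) (.leaf 5520)) (.leaf 2349))))) (.node (.node (.node (.node (.node (.leaf 41) (.leaf 2699)) (.node (.leaf 1004) (.leaf 6693))) (.node (.node (.leaf 436) (.leaf 4369)) (.node (.leaf 1733) (.leaf 14614)))) (.node (.node (.node (.leaf 213) (.leaf 3380)) (.node (.leaf 1350) (.leaf 9253))) (.node (.node (.leaf 709) (.leaf 5228)) (.leaf 2250)))) (.node (.node (.node (.node (.leaf 119) (.leaf 3112)) (.node (.leaf 1188)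 (.leaf 7714))) (.node (.node (.leaf 584) (.leaf 4698)) (.node (.leaf 1940) (.leaf 25773)))) (.node (.node (.node (.leaf 328) (.leaf 3749)) (.node (.leaf 1575) (.leaf 10769))) (.node (.node (.leaf 847) (.leaf 5813)) (.leaf 2451)))))) (.node (.node (.node (.node (.node (.node (.leaf 24) (.leaf 2648)) (.node (.leaf 951) (.leaf 6489))) (.node (.node (.leaf 411) (.leaf 4248)) (.node (.leaf 1691) (.leaf 13403)))) (.node (.node (.node (.leaf 196) (.leaf 3284)) (.node (.leaf 1317) (.leaf 8804))) (.node (.node (.leaf 673) (.leaf 5083)) (.leaf 2206)))) (.node (.node (.node (.node (.leaf 100) (.leaf 2936)) (.node (.leaf 1161) (.leaf 7349))) (.node (.node (.leaf 555) (.leaf 4627)) (.node (.leaf 1892) (.leaf 19320)))) (.node (.node (.node (.leaf 299) (.leaf 3667)) (.node (.leaf 1508) (.leaf 10420))) (.node (.node (.leaf 820) (.leaf 5706)) (.leaf 2393))))) (.node (.node (.node (.node (.node (.leaf 58) (.leaf 2777)) (.node (.leaf 1094) (.leaf 6865))) (.node (.node (.leaf 468) (.leaf 4423)) (.node (.leaf 1809) (.leaf 16914)))) (.node (.node (.node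 (.leaf 239) (.leaf 3439)) (.node (.leaf 1387) (.leaf 9502))) (.node (.node (.leaf 734) (.leaf 5323)) (.leaf 2315)))) (.node (.node (.node (.node (.leaf 145) (.leaf 3162)) (.node (.leaf 1226) (.leaf 7979))) (.node (.node (.leaf 610) (.leaf 4816)) (.node (.leaf 2011) (.leaf 34221)))) (.node (.node (.node (.leaf 354) (.leaf 3858)) (.node (.leaf 1616) (.leaf 11591))) (.node (.node (.leaf 876) (.leaf 6227)) (.leaf 2493))))))) (.node (.node (.node (.node (.node (.node (.node (.leaf 16) (.leaf 2615)) (.node (.leaf 939) (.leaf 6468))) (.node (.node (.leaf 402) (.leaf 4021)) (.node (.leaf 1677) (.leaf 13137)))) (.node (.node (.node (.leaf 178) (.leaf 3253)) (.node (.leaf 1302) (.leaf 8765))) (.node (.node (.leaf 660) (.leaf 4947)) (.leaf 2188)))) (.node (.node (.node (.node (.leaf 88) (.leaf 2899)) (.node (.leaf 1133) (.leaf 7307))) (.node (.node (.leaf 546) (.leaf 4529)) (.node (.leaf 1874) (.leaf 18615)))) (.node (.node (.node (.leaf 290) (.leaf 3629)) (.node (.leaf 1457) (.leaf 10165))) (.node (.node (.leaf 807) (.leaf 5554)) (.leaf 2375)))))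 (.node (.node (.node (.node (.node (.leaf 50) (.leaf 2742)) (.node (.leaf 1064) (.leaf 6767))) (.node (.node (.leaf 456) (.leaf 4389)) (.node (.leaf 1750) (.leaf 15450)))) (.node (.node (.node (.leaf 228) (.leaf 3400)) (.node (.leaf 1368) (.leaf 9393))) (.node (.node (.leaf 723) (.leaf 5282)) (.leaf 2267)))) (.node (.node (.node (.node (.leaf 136) (.leaf 3143)) (.node (.leaf 1204) (.leaf 7770))) (.node (.node (.leaf 593) (.leaf 4747)) (.node (.leaf 1988) (.leaf 26925)))) (.node (.node (.node (.leaf 337) (.leaf 3780)) (.node (.leaf 1591) (.leaf 11098))) (.node (.node (.leaf 858) (.leaf 6065)) (.leaf 2473)))))) (.node (.node (.node (.node (.node (.node (.leaf 33) (.leaf 2668)) (.node (.leaf 971) (.leaf 6568))) (.node (.node (.leaf 423) (.leaf 4277)) (.node (.leaf 1708) (.leaf 13986)))) (.node (.node (.node (.leaf 204) (.leaf 3346)) (.node (.leaf 1332) (.leaf 8918))) (.node (.node (.leaf 685) (.leaf 5188)) (.leaf 2221)))) (.node (.node (.node (.node (.leaf 108) (.leaf 3034)) (.node (.leaf 1173) (.leaf 7493))) (.node (.node (.leaf 567)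 (.leaf 4658)) (.node (.leaf 1915) (.leaf 21575)))) (.node (.node (.node (.leaf 311) (.leaf 3723)) (.node (.leaf 1556) (.leaf 10567))) (.node (.node (.leaf 838) (.leaf 5773)) (.leaf 2413))))) (.node (.node (.node (.node (.node (.leaf 70) (.leaf 2853)) (.node (.leaf 1104) (.leaf 6998))) (.node (.node (.leaf 482) (.leaf 4443)) (.node (.leaf 1832) (.leaf 17447)))) (.node (.node (.node (.leaf 265) (.leaf 3495)) (.node (.leaf 1425) (.leaf 9650))) (.node (.node (.leaf 784) (.leaf 5394)) (.leaf 2329)))) (.node (.node (.node (.node (.leaf 154) (.leaf 3193)) (.node (.leaf 1241) (.leaf 8497))) (.node (.node (.leaf 623) (.leaf 4881)) (.node (.leaf 2125) (.leaf 69905)))) (.node (.node (.node (.leaf 365) (.leaf 3883)) (.node (.leaf 1627) (.leaf 12561))) (.node (.node (.leaf 907) (.leaf 6281)) (.leaf 2578))))))))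

def twoWord : Janko.Tree (ℕ) := (.node (.node (.node twoWord0 twoWord4) (.node twoWord2 twoWord6)) (.node (.node twoWord1 twoWord5) (.node twoWord3 twoWord7)))

def twoPar0 : Janko.Tree (ℕ) :=
  (.node (.node (.node (.node (.node (.node (.node (.node (.leaf 0) (.leaf 1295)) (.node (.leaf 606) (.leaf 2269))) (.node (.node (.leaf 295) (.leaf 1747)) (.node (.leaf 938) (.leaf 3071)))) (.node (.node (.node (.leaf 141) (.leaf 1507)) (.node (.leaf 764) (.leaf 2608))) (.node (.node (.leaf 448) (.leaf 1993)) (.leaf 1117)))) (.node (.node (.node (.node (.leaf 67) (.leaf 1411)) (.node (.leaf 683) (.leaf 2437))) (.node (.node (.leaf 370) (.leaf 1856)) (.node (.leaf 1033) (.leaf 3350)))) (.node (.node (.node (.leaf 220) (.leaf 1626)) (.node (.leaf 850) (.leaf 2809))) (.node (.node (.leaf 525) (.leaf 2123)) (.leaf 1206))))) (.node (.node (.node (.node (.node (.leaf 32) (.leaf 1347)) (.node (.leaf 644) (.leaf 2353))) (.node (.node (.leaf 332) (.leaf 1808)) (.node (.leaf 985) (.leaf 3197)))) (.node (.node (.node (.leaf 179) (.leaf 1561)) (.node (.leaf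 809) (.leaf 2698))) (.node (.node (.leaf 487) (.leaf 2057)) (.leaf 1161)))) (.node (.node (.node (.node (.leaf 103) (.leaf 1461)) (.node (.leaf 724) (.leaf 2509))) (.node (.node (.leaf 410) (.leaf 1920)) (.node (.leaf 1076) (.leaf 3544)))) (.node (.node (.node (.leaf 258) (.leaf 1677)) (.node (.leaf 891) (.leaf 2915))) (.node (.node (.leaf 567) (.leaf 2198)) (.leaf 1253)))))) (.node (.node (.node (.node (.node (.node (.leaf 15) (.leaf 1320)) (.node (.leaf 626) (.leaf 2317))) (.node (.node (.leaf 313) (.leaf 1776)) (.node (.leaf 961) (.leaf 3140)))) (.node (.node (.node (.leaf 162) (.leaf 1535)) (.node (.leaf 786) (.leaf 2652))) (.node (.node (.leaf 467) (.leaf 2031)) (.leaf 1137)))) (.node (.node (.node (.node (.leaf 85) (.leaf 1432)) (.node (.leaf 703) (.leaf 2468))) (.node (.node (.leaf 391) (.leaf 1884)) (.node (.leaf 1053) (.leaf 3419)))) (.node (.node (.node (.leaf 239) (.leaf 1655)) (.node (.leaf 872) (.leaf 2868))) (.node (.node (.leaf 546) (.leaf 2160)) (.leaf 1230))))) (.node (.node (.node (.node (.node (.leaf 49) (.leaf 1383))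 (.node (.leaf 663) (.leaf 2390))) (.node (.node (.leaf 351) (.leaf 1830)) (.node (.leaf 1007) (.leaf 3286)))) (.node (.node (.node (.leaf 199) (.leaf 1598)) (.node (.leaf 829) (.leaf 2769))) (.node (.node (.leaf 504) (.leaf 2091)) (.leaf 1184)))) (.node (.node (.node (.node (.leaf 123) (.leaf 1482)) (.node (.leaf 747) (.leaf 2564))) (.node (.node (.leaf 428) (.leaf 1951)) (.node (.leaf 1097) (.leaf 3637)))) (.node (.node (.node (.leaf 276) (.leaf 1710)) (.node (.leaf 914) (.leaf 2982))) (.node (.node (.leaf 585) (.leaf 2239)) (.leaf 1273))))))) (.node (.node (.node (.node (.node (.node (.node (.leaf 7) (.leaf 1307)) (.node (.leaf 616) (.leaf 2289))) (.node (.node (.leaf 304) (.leaf 1762)) (.node (.leaf 949) (.leaf 3104)))) (.node (.node (.node (.leaf 151) (.leaf 1523)) (.node (.leaf 776) (.leaf 2629))) (.node (.node (.leaf 457) (.leaf 2005)) (.leaf 1127)))) (.node (.node (.node (.node (.leaf 76) (.leaf 1422)) (.node (.leaf 692) (.leaf 2455))) (.node (.node (.leaf 381) (.leaf 1868)) (.node (.leaf 1044) (.leaf 3391)))) (.node (.node (.node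 (.leaf 228) (.leaf 1638)) (.node (.leaf 860) (.leaf 2832))) (.node (.node (.leaf 535) (.leaf 2147)) (.leaf 1219))))) (.node (.node (.node (.node (.node (.leaf 40) (.leaf 1361)) (.node (.leaf 653) (.leaf 2368))) (.node (.node (.leaf 343) (.leaf 1816)) (.node (.leaf 996) (.leaf 3232)))) (.node (.node (.node (.leaf 188) (.leaf 1582)) (.node (.leaf 819) (.leaf 2735))) (.node (.node (.leaf 496) (.leaf 2077)) (.leaf 1173)))) (.node (.node (.node (.node (.leaf 114) (.leaf 1471)) (.node (.leaf 737) (.leaf 2545))) (.node (.node (.leaf 419) (.leaf 1935)) (.node (.leaf 1085) (.leaf 3597)))) (.node (.node (.node (.leaf 267) (.leaf 1697)) (.node (.leaf 903) (.leaf 2937))) (.node (.node (.leaf 576) (.leaf 2214)) (.leaf 1262)))))) (.node (.node (.node (.node (.node (.node (.leaf 23) (.leaf 1336)) (.node (.leaf 636) (.leaf 2328))) (.node (.node (.leaf 322) (.leaf 1789)) (.node (.leaf 974) (.leaf 3162)))) (.node (.node (.node (.leaf 171) (.leaf 1545)) (.node (.leaf 797) (.leaf 2666))) (.node (.node (.leaf 478) (.leaf 2043)) (.leaf 1152)))) (.node (.node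 (.node (.node (.leaf 95) (.leaf 1451)) (.node (.leaf 712) (.leaf 2489))) (.node (.node (.leaf 400) (.leaf 1902)) (.node (.leaf 1064) (.leaf 3469)))) (.node (.node (.node (.leaf 248) (.leaf 1666)) (.node (.leaf 883) (.leaf 2889))) (.node (.node (.leaf 557) (.leaf 2179)) (.leaf 1240))))) (.node (.node (.node (.node (.node (.leaf 57) (.leaf 1394)) (.node (.leaf 673) (.leaf 2409))) (.node (.node (.leaf 359) (.leaf 1844)) (.node (.leaf 1020) (.leaf 3323)))) (.node (.node (.node (.leaf 209) (.leaf 1615)) (.node (.leaf 840) (.leaf 2791))) (.node (.node (.leaf 515) (.leaf 2106)) (.leaf 1196)))) (.node (.node (.node (.node (.leaf 132) (.leaf 1493)) (.node (.leaf 755) (.leaf 2585))) (.node (.node (.leaf 438) (.leaf 1975)) (.node (.leaf 1106) (.leaf 3712)))) (.node (.node (.node (.leaf 286) (.leaf 1732)) (.node (.leaf 929) (.leaf 3024))) (.node (.node (.leaf 595) (.leaf 2260)) (.leaf 1286))))))))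

def twoPar1 : Janko.Tree (ℕ) :=
  (.node (.node (.node (.node (.node (.node (.node (.node (.leaf 0) (.leaf 1296)) (.node (.leaf 607) (.leaf 2274))) (.node (.node (.leaf 296) (.leaf 1748)) (.node (.leaf 940) (.leaf 3075)))) (.node (.node (.node (.leaf 142) (.leaf 1509)) (.node (.leaf 765) (.leaf 2612))) (.node (.node (.leaf 449) (.leaf 1994)) (.leaf 1118)))) (.node (.node (.node (.node (.leaf 68) (.leaf 1412)) (.node (.leaf 684) (.leaf 2438))) (.node (.node (.leaf 371) (.leaf 1858)) (.node (.leaf 1035) (.leaf 3367)))) (.node (.node (.node (.leaf 221) (.leaf 1629)) (.node (.leaf 851) (.leaf 2811))) (.node (.node (.leaf 526) (.leaf 2126)) (.leaf 1207))))) (.node (.node (.node (.node (.node (.leaf 33) (.leaf 1349)) (.node (.leaf 645) (.leaf 2355))) (.node (.node (.leaf 333) (.leaf 1809)) (.node (.leaf 988) (.leaf 3206)))) (.node (.node (.node (.leaf 181) (.leaf 1564)) (.node (.leaf 810) (.leaf 2701))) (.node (.node (.leaf 488) (.leaf 2059)) (.leaf 1164)))) (.node (.node (.node (.node (.leaf 105) (.leaf 1463)) (.node (.leaf 726) (.leaf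 2516))) (.node (.node (.leaf 411) (.leaf 1925)) (.node (.leaf 1077) (.leaf 3545)))) (.node (.node (.node (.leaf 259) (.leaf 1682)) (.node (.leaf 892) (.leaf 2916))) (.node (.node (.leaf 568) (.leaf 2200)) (.leaf 1254)))))) (.node (.node (.node (.node (.node (.node (.leaf 16) (.leaf 1321)) (.node (.leaf 627) (.leaf 2319))) (.node (.node (.leaf 314) (.leaf 1777)) (.node (.leaf 962) (.leaf 3143)))) (.node (.node (.node (.leaf 163) (.leaf 1537)) (.node (.leaf 787) (.leaf 2653))) (.node (.node (.leaf 468) (.leaf 2032)) (.leaf 1138)))) (.node (.node (.node (.node (.leaf 86) (.leaf 1435)) (.node (.leaf 704) (.leaf 2470))) (.node (.node (.leaf 392) (.leaf 1887)) (.node (.leaf 1054) (.leaf 3427)))) (.node (.node (.node (.leaf 240) (.leaf 1656)) (.node (.leaf 874) (.leaf 2876))) (.node (.node (.leaf 547) (.leaf 2161)) (.leaf 1232))))) (.node (.node (.node (.node (.node (.leaf 50) (.leaf 1384)) (.node (.leaf 665) (.leaf 2393))) (.node (.node (.leaf 352) (.leaf 1831)) (.node (.leaf 1008) (.leaf 3288)))) (.node (.node (.node (.leaf 200) (.leaf 1600))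 (.node (.leaf 830) (.leaf 2771))) (.node (.node (.leaf 505) (.leaf 2092)) (.leaf 1187)))) (.node (.node (.node (.node (.leaf 124) (.leaf 1483)) (.node (.leaf 748) (.leaf 2569))) (.node (.node (.leaf 429) (.leaf 1952)) (.node (.leaf 1098) (.leaf 3670)))) (.node (.node (.node (.leaf 277) (.leaf 1712)) (.node (.leaf 915) (.leaf 2985))) (.node (.node (.leaf 586) (.leaf 2248)) (.leaf 1274))))))) (.node (.node (.node (.node (.node (.node (.node (.leaf 8) (.leaf 1309)) (.node (.leaf 617) (.leaf 2298))) (.node (.node (.leaf 305) (.leaf 1763)) (.node (.leaf 950) (.leaf 3105)))) (.node (.node (.node (.leaf 152) (.leaf 1524)) (.node (.leaf 777) (.leaf 2630))) (.node (.node (.leaf 458) (.leaf 2006)) (.leaf 1128)))) (.node (.node (.node (.node (.leaf 77) (.leaf 1423)) (.node (.leaf 694) (.leaf 2456))) (.node (.node (.leaf 382) (.leaf 1869)) (.node (.leaf 1045) (.leaf 3392)))) (.node (.node (.node (.leaf 230) (.leaf 1640)) (.node (.leaf 863) (.leaf 2839))) (.node (.node (.leaf 536) (.leaf 2149)) (.leaf 1220))))) (.node (.node (.node (.node (.node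 (.leaf 41) (.leaf 1362)) (.node (.leaf 655) (.leaf 2369))) (.node (.node (.leaf 344) (.leaf 1817)) (.node (.leaf 998) (.leaf 3237)))) (.node (.node (.node (.leaf 190) (.leaf 1583)) (.node (.leaf 820) (.leaf 2738))) (.node (.node (.leaf 497) (.leaf 2079)) (.leaf 1174)))) (.node (.node (.node (.node (.leaf 115) (.leaf 1473)) (.node (.leaf 738) (.leaf 2549))) (.node (.node (.leaf 420) (.leaf 1936)) (.node (.leaf 1086) (.leaf 3598)))) (.node (.node (.node (.leaf 268) (.leaf 1698)) (.node (.leaf 904) (.leaf 2940))) (.node (.node (.leaf 577) (.leaf 2216)) (.leaf 1263)))))) (.node (.node (.node (.node (.node (.node (.leaf 24) (.leaf 1337)) (.node (.leaf 637) (.leaf 2329))) (.node (.node (.leaf 325) (.leaf 1791)) (.node (.leaf 977) (.leaf 3168)))) (.node (.node (.node (.leaf 172) (.leaf 1548)) (.node (.leaf 798) (.leaf 2667))) (.node (.node (.leaf 479) (.leaf 2044)) (.leaf 1153)))) (.node (.node (.node (.node (.leaf 96) (.leaf 1452)) (.node (.leaf 713) (.leaf 2490))) (.node (.node (.leaf 401) (.leaf 1906)) (.node (.leaf 1065) (.leaf 3482))))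 (.node (.node (.node (.leaf 249) (.leaf 1668)) (.node (.leaf 884) (.leaf 2890))) (.node (.node (.leaf 558) (.leaf 2181)) (.leaf 1241))))) (.node (.node (.node (.node (.node (.leaf 58) (.leaf 1395)) (.node (.leaf 675) (.leaf 2414))) (.node (.node (.leaf 360) (.leaf 1846)) (.node (.leaf 1022) (.leaf 3324)))) (.node (.node (.node (.leaf 210) (.leaf 1616)) (.node (.leaf 841) (.leaf 2794))) (.node (.node (.leaf 516) (.leaf 2107)) (.leaf 1197)))) (.node (.node (.node (.node (.leaf 133) (.leaf 1494)) (.node (.leaf 756) (.leaf 2593))) (.node (.node (.leaf 439) (.leaf 1976)) (.node (.leaf 1108) (.leaf 3739)))) (.node (.node (.node (.leaf 287) (.leaf 1735)) (.node (.leaf 930) (.leaf 3034))) (.node (.node (.leaf 597) (.leaf 2261)) (.leaf 1288))))))))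

def twoPar2 : Janko.Tree (ℕ) :=
  (.node (.node (.node (.node (.node (.node (.node (.node (.leaf 1) (.leaf 1297)) (.node (.leaf 608) (.leaf 2276))) (.node (.node (.leaf 297) (.leaf 1752)) (.node (.leaf 941) (.leaf 3077)))) (.node (.node (.node (.leaf 145) (.leaf 1512)) (.node (.leaf 766) (.leaf 2616))) (.node (.node (.leaf 451) (.leaf 1996)) (.leaf 1119)))) (.node (.node (.node (.node (.leaf 69) (.leaf 1413)) (.node (.leaf 685) (.leaf 2440))) (.node (.node (.leaf 372) (.leaf 1860)) (.node (.leaf 1036) (.leaf 3371)))) (.node (.node (.node (.leaf 222) (.leaf 1630)) (.node (.leaf 852) (.leaf 2812))) (.node (.node (.leaf 527) (.leaf 2128)) (.leaf 1208))))) (.node (.node (.node (.node (.node (.leaf 34) (.leaf 1350)) (.node (.leaf 646) (.leaf 2359))) (.node (.node (.leaf 335) (.leaf 1810)) (.node (.leaf 990) (.leaf 3215)))) (.node (.node (.node (.leaf 182) (.leaf 1568)) (.node (.leaf 811) (.leaf 2706))) (.node (.node (.leaf 490) (.leaf 2061)) (.leaf 1165)))) (.node (.node (.node (.node (.leaf 107) (.leaf 1464)) (.node (.leaf 727) (.leaf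 2522))) (.node (.node (.leaf 412) (.leaf 1926)) (.node (.leaf 1079) (.leaf 3549)))) (.node (.node (.node (.leaf 260) (.leaf 1683)) (.node (.leaf 895) (.leaf 2917))) (.node (.node (.leaf 569) (.leaf 2203)) (.leaf 1255)))))) (.node (.node (.node (.node (.node (.node (.leaf 17) (.leaf 1324)) (.node (.leaf 629) (.leaf 2320))) (.node (.node (.leaf 315) (.leaf 1780)) (.node (.leaf 964) (.leaf 3146)))) (.node (.node (.node (.leaf 164) (.leaf 1539)) (.node (.leaf 788) (.leaf 2655))) (.node (.node (.leaf 470) (.leaf 2036)) (.leaf 1140)))) (.node (.node (.node (.node (.leaf 87) (.leaf 1436)) (.node (.leaf 705) (.leaf 2472))) (.node (.node (.leaf 393) (.leaf 1890)) (.node (.leaf 1056) (.leaf 3430)))) (.node (.node (.node (.leaf 241) (.leaf 1657)) (.node (.leaf 875) (.leaf 2878))) (.node (.node (.leaf 549) (.leaf 2163)) (.leaf 1233))))) (.node (.node (.node (.node (.node (.leaf 51) (.leaf 1386)) (.node (.leaf 666) (.leaf 2394))) (.node (.node (.leaf 353) (.leaf 1833)) (.node (.leaf 1009) (.leaf 3292)))) (.node (.node (.node (.leaf 201) (.leaf 1602))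 (.node (.leaf 831) (.leaf 2776))) (.node (.node (.leaf 506) (.leaf 2093)) (.leaf 1188)))) (.node (.node (.node (.node (.leaf 125) (.leaf 1484)) (.node (.leaf 749) (.leaf 2573))) (.node (.node (.leaf 430) (.leaf 1955)) (.node (.leaf 1100) (.leaf 3678)))) (.node (.node (.node (.leaf 278) (.leaf 1715)) (.node (.leaf 919) (.leaf 2992))) (.node (.node (.leaf 588) (.leaf 2249)) (.leaf 1275))))))) (.node (.node (.node (.node (.node (.node (.node (.leaf 9) (.leaf 1311)) (.node (.leaf 618) (.leaf 2306))) (.node (.node (.leaf 306) (.leaf 1764)) (.node (.leaf 952) (.leaf 3112)))) (.node (.node (.node (.leaf 153) (.leaf 1525)) (.node (.leaf 778) (.leaf 2631))) (.node (.node (.leaf 459) (.leaf 2009)) (.leaf 1129)))) (.node (.node (.node (.node (.leaf 78) (.leaf 1424)) (.node (.leaf 695) (.leaf 2458))) (.node (.node (.leaf 383) (.leaf 1871)) (.node (.leaf 1046) (.leaf 3394)))) (.node (.node (.node (.leaf 231) (.leaf 1642)) (.node (.leaf 864) (.leaf 2843))) (.node (.node (.leaf 539) (.leaf 2150)) (.leaf 1223))))) (.node (.node (.node (.node (.node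 (.leaf 42) (.leaf 1365)) (.node (.leaf 656) (.leaf 2371))) (.node (.node (.leaf 345) (.leaf 1819)) (.node (.leaf 999) (.leaf 3251)))) (.node (.node (.node (.leaf 191) (.leaf 1584)) (.node (.leaf 822) (.leaf 2747))) (.node (.node (.leaf 498) (.leaf 2080)) (.leaf 1176)))) (.node (.node (.node (.node (.leaf 117) (.leaf 1474)) (.node (.leaf 739) (.leaf 2550))) (.node (.node (.leaf 421) (.leaf 1938)) (.node (.leaf 1089) (.leaf 3605)))) (.node (.node (.node (.leaf 269) (.leaf 1699)) (.node (.leaf 905) (.leaf 2941))) (.node (.node (.leaf 578) (.leaf 2219)) (.leaf 1264)))))) (.node (.node (.node (.node (.node (.node (.leaf 25) (.leaf 1338)) (.node (.leaf 638) (.leaf 2330))) (.node (.node (.leaf 326) (.leaf 1796)) (.node (.leaf 978) (.leaf 3169)))) (.node (.node (.node (.leaf 173) (.leaf 1551)) (.node (.leaf 801) (.leaf 2675))) (.node (.node (.leaf 480) (.leaf 2047)) (.leaf 1154)))) (.node (.node (.node (.node (.leaf 97) (.leaf 1453)) (.node (.leaf 714) (.leaf 2491))) (.node (.node (.leaf 403) (.leaf 1907)) (.node (.leaf 1067) (.leaf 3485))))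 (.node (.node (.node (.leaf 251) (.leaf 1669)) (.node (.leaf 885) (.leaf 2891))) (.node (.node (.leaf 559) (.leaf 2182)) (.leaf 1242))))) (.node (.node (.node (.node (.node (.leaf 59) (.leaf 1396)) (.node (.leaf 676) (.leaf 2419))) (.node (.node (.leaf 362) (.leaf 1847)) (.node (.leaf 1025) (.leaf 3328)))) (.node (.node (.node (.leaf 212) (.leaf 1617)) (.node (.leaf 843) (.leaf 2796))) (.node (.node (.leaf 518) (.leaf 2110)) (.leaf 1198)))) (.node (.node (.node (.node (.leaf 134) (.leaf 1497)) (.node (.leaf 757) (.leaf 2594))) (.node (.node (.leaf 440) (.leaf 1978)) (.node (.leaf 1109) (.leaf 3753)))) (.node (.node (.node (.leaf 288) (.leaf 1736)) (.node (.leaf 931) (.leaf 3035))) (.node (.node (.leaf 598) (.leaf 2262)) (.leaf 1289))))))))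

def twoPar3 : Janko.Tree (ℕ) :=
  (.node (.node (.node (.node (.node (.node (.node (.node (.leaf 2) (.leaf 1298)) (.node (.leaf 609) (.leaf 2280))) (.node (.node (.leaf 299) (.leaf 1755)) (.node (.leaf 942) (.leaf 3085)))) (.node (.node (.node (.leaf 146) (.leaf 1514)) (.node (.leaf 769) (.leaf 2617))) (.node (.node (.leaf 452) (.leaf 1999)) (.leaf 1121)))) (.node (.node (.node (.node (.leaf 70) (.leaf 1415)) (.node (.leaf 686) (.leaf 2442))) (.node (.node (.leaf 373) (.leaf 1861)) (.node (.leaf 1037) (.leaf 3378)))) (.node (.node (.node (.leaf 223) (.leaf 1631)) (.node (.leaf 853) (.leaf 2814))) (.node (.node (.leaf 529) (.leaf 2135)) (.leaf 1210))))) (.node (.node (.node (.node (.node (.leaf 35) (.leaf 1352)) (.node (.leaf 647) (.leaf 2360))) (.node (.node (.leaf 336) (.leaf 1811)) (.node (.leaf 991) (.leaf 3219)))) (.node (.node (.node (.leaf 183) (.leaf 1571)) (.node (.leaf 812) (.leaf 2709))) (.node (.node (.leaf 491) (.leaf 2062)) (.leaf 1166)))) (.node (.node (.node (.node (.leaf 108) (.leaf 1466)) (.node (.leaf 729) (.leaf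 2525))) (.node (.node (.leaf 414) (.leaf 1927)) (.node (.leaf 1080) (.leaf 3569)))) (.node (.node (.node (.leaf 262) (.leaf 1688)) (.node (.leaf 896) (.leaf 2923))) (.node (.node (.leaf 570) (.leaf 2204)) (.leaf 1257)))))) (.node (.node (.node (.node (.node (.node (.leaf 18) (.leaf 1325)) (.node (.leaf 630) (.leaf 2321))) (.node (.node (.leaf 316) (.leaf 1781)) (.node (.leaf 965) (.leaf 3149)))) (.node (.node (.node (.leaf 165) (.leaf 1540)) (.node (.leaf 789) (.leaf 2656))) (.node (.node (.leaf 471) (.leaf 2037)) (.leaf 1142)))) (.node (.node (.node (.node (.leaf 88) (.leaf 1440)) (.node (.leaf 707) (.leaf 2476))) (.node (.node (.leaf 394) (.leaf 1894)) (.node (.leaf 1057) (.leaf 3435)))) (.node (.node (.node (.leaf 242) (.leaf 1658)) (.node (.leaf 877) (.leaf 2879))) (.node (.node (.leaf 550) (.leaf 2164)) (.leaf 1234))))) (.node (.node (.node (.node (.node (.leaf 52) (.leaf 1387)) (.node (.leaf 667) (.leaf 2397))) (.node (.node (.leaf 354) (.leaf 1834)) (.node (.leaf 1010) (.leaf 3300)))) (.node (.node (.node (.leaf 202) (.leaf 1604))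 (.node (.leaf 832) (.leaf 2777))) (.node (.node (.leaf 508) (.leaf 2095)) (.leaf 1190)))) (.node (.node (.node (.node (.leaf 126) (.leaf 1487)) (.node (.leaf 750) (.leaf 2577))) (.node (.node (.leaf 432) (.leaf 1958)) (.node (.leaf 1101) (.leaf 3679)))) (.node (.node (.node (.leaf 280) (.leaf 1719)) (.node (.leaf 922) (.leaf 2995))) (.node (.node (.leaf 590) (.leaf 2250)) (.leaf 1277))))))) (.node (.node (.node (.node (.node (.node (.node (.leaf 10) (.leaf 1313)) (.node (.leaf 619) (.leaf 2308))) (.node (.node (.leaf 307) (.leaf 1765)) (.node (.leaf 954) (.leaf 3129)))) (.node (.node (.node (.leaf 155) (.leaf 1526)) (.node (.leaf 779) (.leaf 2638))) (.node (.node (.leaf 461) (.leaf 2010)) (.leaf 1130)))) (.node (.node (.node (.node (.leaf 79) (.leaf 1425)) (.node (.leaf 696) (.leaf 2459))) (.node (.node (.leaf 384) (.leaf 1872)) (.node (.leaf 1047) (.leaf 3397)))) (.node (.node (.node (.leaf 232) (.leaf 1643)) (.node (.leaf 865) (.leaf 2844))) (.node (.node (.leaf 540) (.leaf 2151)) (.leaf 1224))))) (.node (.node (.node (.node (.node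 (.leaf 43) (.leaf 1368)) (.node (.leaf 658) (.leaf 2373))) (.node (.node (.leaf 346) (.leaf 1822)) (.node (.leaf 1000) (.leaf 3259)))) (.node (.node (.node (.leaf 192) (.leaf 1586)) (.node (.leaf 823) (.leaf 2758))) (.node (.node (.leaf 499) (.leaf 2081)) (.leaf 1177)))) (.node (.node (.node (.node (.leaf 118) (.leaf 1475)) (.node (.leaf 740) (.leaf 2551))) (.node (.node (.leaf 422) (.leaf 1942)) (.node (.leaf 1090) (.leaf 3610)))) (.node (.node (.node (.leaf 270) (.leaf 1704)) (.node (.leaf 907) (.leaf 2945))) (.node (.node (.leaf 579) (.leaf 2224)) (.leaf 1267)))))) (.node (.node (.node (.node (.node (.node (.leaf 26) (.leaf 1340)) (.node (.leaf 639) (.leaf 2339))) (.node (.node (.leaf 327) (.leaf 1798)) (.node (.leaf 979) (.leaf 3174)))) (.node (.node (.node (.leaf 174) (.leaf 1556)) (.node (.leaf 802) (.leaf 2682))) (.node (.node (.leaf 481) (.leaf 2049)) (.leaf 1155)))) (.node (.node (.node (.node (.leaf 98) (.leaf 1456)) (.node (.leaf 715) (.leaf 2494))) (.node (.node (.leaf 404) (.leaf 1911)) (.node (.leaf 1068) (.leaf 3493))))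 (.node (.node (.node (.leaf 252) (.leaf 1670)) (.node (.leaf 886) (.leaf 2898))) (.node (.node (.leaf 560) (.leaf 2184)) (.leaf 1246))))) (.node (.node (.node (.node (.node (.leaf 60) (.leaf 1399)) (.node (.leaf 677) (.leaf 2427))) (.node (.node (.leaf 363) (.leaf 1849)) (.node (.leaf 1026) (.leaf 3330)))) (.node (.node (.node (.leaf 214) (.leaf 1619)) (.node (.leaf 844) (.leaf 2799))) (.node (.node (.leaf 520) (.leaf 2118)) (.leaf 1199)))) (.node (.node (.node (.node (.leaf 135) (.leaf 1500)) (.node (.leaf 758) (.leaf 2595))) (.node (.node (.leaf 442) (.leaf 1981)) (.node (.leaf 1111) (.leaf 3763)))) (.node (.node (.node (.leaf 289) (.leaf 1738)) (.node (.leaf 932) (.leaf 3037))) (.node (.node (.leaf 599) (.leaf 2263)) (.leaf 1290))))))))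

def twoPar4 : Janko.Tree (ℕ) :=
  (.node (.node (.node (.node (.node (.node (.node (.node (.leaf 3) (.leaf 1302)) (.node (.leaf 610) (.leaf 2283))) (.node (.node (.leaf 300) (.leaf 1756)) (.node (.leaf 944) (.leaf 3096)))) (.node (.node (.node (.leaf 147) (.leaf 1515)) (.node (.leaf 770) (.leaf 2622))) (.node (.node (.leaf 453) (.leaf 2000)) (.leaf 1122)))) (.node (.node (.node (.node (.leaf 71) (.leaf 1416)) (.node (.leaf 688) (.leaf 2445))) (.node (.node (.leaf 375) (.leaf 1863)) (.node (.leaf 1038) (.leaf 3379)))) (.node (.node (.node (.leaf 224) (.leaf 1632)) (.node (.leaf 854) (.leaf 2819))) (.node (.node (.leaf 530) (.leaf 2139)) (.leaf 1211))))) (.node (.node (.node (.node (.node (.leaf 36) (.leaf 1354)) (.node (.leaf 648) (.leaf 2361))) (.node (.node (.leaf 337) (.leaf 1812)) (.node (.leaf 992) (.leaf 3223)))) (.node (.node (.node (.leaf 184) (.leaf 1572)) (.node (.leaf 814) (.leaf 2715))) (.node (.node (.leaf 492) (.leaf 2068)) (.leaf 1167)))) (.node (.node (.node (.node (.leaf 110) (.leaf 1467)) (.node (.leaf 730) (.leaf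 2528))) (.node (.node (.leaf 415) (.leaf 1929)) (.node (.leaf 1081) (.leaf 3571)))) (.node (.node (.node (.leaf 263) (.leaf 1691)) (.node (.leaf 897) (.leaf 2926))) (.node (.node (.leaf 571) (.leaf 2205)) (.leaf 1258)))))) (.node (.node (.node (.node (.node (.node (.leaf 19) (.leaf 1327)) (.node (.leaf 632) (.leaf 2322))) (.node (.node (.leaf 318) (.leaf 1782)) (.node (.leaf 967) (.leaf 3151)))) (.node (.node (.node (.leaf 166) (.leaf 1541)) (.node (.leaf 790) (.leaf 2658))) (.node (.node (.leaf 472) (.leaf 2038)) (.leaf 1144)))) (.node (.node (.node (.node (.leaf 91) (.leaf 1442)) (.node (.leaf 708) (.leaf 2479))) (.node (.node (.leaf 395) (.leaf 1896)) (.node (.leaf 1058) (.leaf 3437)))) (.node (.node (.node (.leaf 243) (.leaf 1659)) (.node (.leaf 878) (.leaf 2881))) (.node (.node (.leaf 551) (.leaf 2166)) (.leaf 1235))))) (.node (.node (.node (.node (.node (.leaf 53) (.leaf 1388)) (.node (.leaf 668) (.leaf 2398))) (.node (.node (.leaf 355) (.leaf 1838)) (.node (.leaf 1013) (.leaf 3305)))) (.node (.node (.node (.leaf 203) (.leaf 1606))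 (.node (.leaf 834) (.leaf 2778))) (.node (.node (.leaf 509) (.leaf 2099)) (.leaf 1192)))) (.node (.node (.node (.node (.leaf 127) (.leaf 1488)) (.node (.leaf 751) (.leaf 2578))) (.node (.node (.leaf 433) (.leaf 1960)) (.node (.leaf 1102) (.leaf 3687)))) (.node (.node (.node (.leaf 281) (.leaf 1722)) (.node (.leaf 923) (.leaf 3004))) (.node (.node (.leaf 591) (.leaf 2253)) (.leaf 1278))))))) (.node (.node (.node (.node (.node (.node (.node (.leaf 11) (.leaf 1314)) (.node (.leaf 621) (.leaf 2313))) (.node (.node (.leaf 309) (.leaf 1766)) (.node (.leaf 955) (.leaf 3130)))) (.node (.node (.node (.leaf 156) (.leaf 1527)) (.node (.leaf 780) (.leaf 2639))) (.node (.node (.leaf 462) (.leaf 2011)) (.leaf 1131)))) (.node (.node (.node (.node (.leaf 80) (.leaf 1427)) (.node (.leaf 698) (.leaf 2460))) (.node (.node (.leaf 385) (.leaf 1875)) (.node (.leaf 1049) (.leaf 3400)))) (.node (.node (.node (.leaf 233) (.leaf 1645)) (.node (.leaf 867) (.leaf 2848))) (.node (.node (.leaf 541) (.leaf 2152)) (.leaf 1226))))) (.node (.node (.node (.node (.node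 (.leaf 45) (.leaf 1370)) (.node (.leaf 659) (.leaf 2376))) (.node (.node (.leaf 347) (.leaf 1823)) (.node (.leaf 1001) (.leaf 3265)))) (.node (.node (.node (.leaf 193) (.leaf 1588)) (.node (.leaf 824) (.leaf 2760))) (.node (.node (.leaf 500) (.leaf 2083)) (.leaf 1178)))) (.node (.node (.node (.node (.leaf 119) (.leaf 1476)) (.node (.leaf 741) (.leaf 2555))) (.node (.node (.leaf 423) (.leaf 1944)) (.node (.leaf 1092) (.leaf 3624)))) (.node (.node (.node (.leaf 271) (.leaf 1705)) (.node (.leaf 908) (.leaf 2947))) (.node (.node (.leaf 580) (.leaf 2229)) (.leaf 1268)))))) (.node (.node (.node (.node (.node (.node (.leaf 27) (.leaf 1341)) (.node (.leaf 640) (.leaf 2341))) (.node (.node (.leaf 328) (.leaf 1801)) (.node (.leaf 980) (.leaf 3183)))) (.node (.node (.node (.leaf 175) (.leaf 1557)) (.node (.leaf 803) (.leaf 2686))) (.node (.node (.leaf 482) (.leaf 2051)) (.leaf 1156)))) (.node (.node (.node (.node (.leaf 99) (.leaf 1457)) (.node (.leaf 717) (.leaf 2498))) (.node (.node (.leaf 406) (.leaf 1913)) (.node (.leaf 1069) (.leaf 3499))))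 (.node (.node (.node (.leaf 254) (.leaf 1671)) (.node (.leaf 887) (.leaf 2908))) (.node (.node (.leaf 562) (.leaf 2186)) (.leaf 1248))))) (.node (.node (.node (.node (.node (.leaf 62) (.leaf 1405)) (.node (.leaf 678) (.leaf 2431))) (.node (.node (.leaf 364) (.leaf 1852)) (.node (.leaf 1028) (.leaf 3338)))) (.node (.node (.node (.leaf 215) (.leaf 1620)) (.node (.leaf 845) (.leaf 2801))) (.node (.node (.leaf 521) (.leaf 2119)) (.leaf 1201)))) (.node (.node (.node (.node (.leaf 136) (.leaf 1501)) (.node (.leaf 759) (.leaf 2597))) (.node (.node (.leaf 443) (.leaf 1982)) (.node (.leaf 1112) (.leaf 3764)))) (.node (.node (.node (.leaf 290) (.leaf 1741)) (.node (.leaf 934) (.leaf 3042))) (.node (.node (.leaf 601) (.leaf 2264)) (.leaf 1291))))))))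

def twoPar5 : Janko.Tree (ℕ) :=
  (.node (.node (.node (.node (.node (.node (.node (.node (.leaf 4) (.leaf 1303)) (.node (.leaf 611) (.leaf 2286))) (.node (.node (.leaf 301) (.leaf 1757)) (.node (.leaf 945) (.leaf 3098)))) (.node (.node (.node (.leaf 148) (.leaf 1516)) (.node (.leaf 772) (.leaf 2623))) (.node (.node (.leaf 454) (.leaf 2001)) (.leaf 1124)))) (.node (.node (.node (.node (.leaf 72) (.leaf 1417)) (.node (.leaf 689) (.leaf 2448))) (.node (.node (.leaf 376) (.leaf 1865)) (.node (.leaf 1041) (.leaf 3384)))) (.node (.node (.node (.leaf 225) (.leaf 1634)) (.node (.leaf 857) (.leaf 2821))) (.node (.node (.leaf 532) (.leaf 2140)) (.leaf 1215))))) (.node (.node (.node (.node (.node (.leaf 37) (.leaf 1355)) (.node (.leaf 650) (.leaf 2364))) (.node (.node (.leaf 339) (.leaf 1813)) (.node (.leaf 993) (.leaf 3228)))) (.node (.node (.node (.leaf 185) (.leaf 1573)) (.node (.leaf 816) (.leaf 2729))) (.node (.node (.leaf 493) (.leaf 2069)) (.leaf 1168)))) (.node (.node (.node (.node (.leaf 111) (.leaf 1468)) (.node (.leaf 734) (.leaf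 2529))) (.node (.node (.leaf 416) (.leaf 1930)) (.node (.leaf 1082) (.leaf 3574)))) (.node (.node (.node (.leaf 264) (.leaf 1692)) (.node (.leaf 899) (.leaf 2930))) (.node (.node (.leaf 572) (.leaf 2207)) (.leaf 1259)))))) (.node (.node (.node (.node (.node (.node (.leaf 20) (.leaf 1331)) (.node (.leaf 633) (.leaf 2325))) (.node (.node (.leaf 319) (.leaf 1784)) (.node (.leaf 970) (.leaf 3152)))) (.node (.node (.node (.leaf 167) (.leaf 1542)) (.node (.leaf 793) (.leaf 2659))) (.node (.node (.leaf 473) (.leaf 2039)) (.leaf 1145)))) (.node (.node (.node (.node (.leaf 92) (.leaf 1443)) (.node (.leaf 709) (.leaf 2480))) (.node (.node (.leaf 396) (.leaf 1897)) (.node (.leaf 1059) (.leaf 3450)))) (.node (.node (.node (.leaf 244) (.leaf 1662)) (.node (.leaf 879) (.leaf 2884))) (.node (.node (.leaf 553) (.leaf 2171)) (.leaf 1237))))) (.node (.node (.node (.node (.node (.leaf 54) (.leaf 1389)) (.node (.leaf 670) (.leaf 2404))) (.node (.node (.leaf 356) (.leaf 1840)) (.node (.leaf 1014) (.leaf 3307)))) (.node (.node (.node (.leaf 204) (.leaf 1607))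 (.node (.leaf 836) (.leaf 2779))) (.node (.node (.leaf 510) (.leaf 2101)) (.leaf 1193)))) (.node (.node (.node (.node (.leaf 129) (.leaf 1490)) (.node (.leaf 752) (.leaf 2580))) (.node (.node (.leaf 434) (.leaf 1966)) (.node (.leaf 1103) (.leaf 3692)))) (.node (.node (.node (.leaf 282) (.leaf 1726)) (.node (.leaf 924) (.leaf 3009))) (.node (.node (.leaf 592) (.leaf 2254)) (.leaf 1283))))))) (.node (.node (.node (.node (.node (.node (.node (.leaf 12) (.leaf 1316)) (.node (.leaf 622) (.leaf 2314))) (.node (.node (.leaf 310) (.leaf 1769)) (.node (.leaf 956) (.leaf 3131)))) (.node (.node (.node (.leaf 157) (.leaf 1529)) (.node (.leaf 781) (.leaf 2643))) (.node (.node (.leaf 464) (.leaf 2012)) (.leaf 1132)))) (.node (.node (.node (.node (.leaf 81) (.leaf 1428)) (.node (.leaf 699) (.leaf 2461))) (.node (.node (.leaf 386) (.leaf 1876)) (.node (.leaf 1050) (.leaf 3410)))) (.node (.node (.node (.leaf 234) (.leaf 1646)) (.node (.leaf 868) (.leaf 2852))) (.node (.node (.leaf 542) (.leaf 2155)) (.leaf 1227))))) (.node (.node (.node (.node (.node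 (.leaf 46) (.leaf 1371)) (.node (.leaf 660) (.leaf 2379))) (.node (.node (.leaf 348) (.leaf 1824)) (.node (.leaf 1002) (.leaf 3273)))) (.node (.node (.node (.leaf 194) (.leaf 1589)) (.node (.leaf 825) (.leaf 2762))) (.node (.node (.leaf 501) (.leaf 2086)) (.leaf 1180)))) (.node (.node (.node (.node (.leaf 120) (.leaf 1478)) (.node (.leaf 743) (.leaf 2557))) (.node (.node (.leaf 425) (.leaf 1945)) (.node (.leaf 1093) (.leaf 3626)))) (.node (.node (.node (.leaf 273) (.leaf 1706)) (.node (.leaf 910) (.leaf 2967))) (.node (.node (.leaf 582) (.leaf 2230)) (.leaf 1269)))))) (.node (.node (.node (.node (.node (.node (.leaf 28) (.leaf 1342)) (.node (.leaf 641) (.leaf 2344))) (.node (.node (.leaf 329) (.leaf 1803)) (.node (.leaf 981) (.leaf 3186)))) (.node (.node (.node (.leaf 176) (.leaf 1558)) (.node (.leaf 805) (.leaf 2690))) (.node (.node (.leaf 483) (.leaf 2053)) (.leaf 1157)))) (.node (.node (.node (.node (.leaf 100) (.leaf 1458)) (.node (.leaf 720) (.leaf 2499))) (.node (.node (.leaf 407) (.leaf 1915)) (.node (.leaf 1071) (.leaf 3531))))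 (.node (.node (.node (.leaf 255) (.leaf 1672)) (.node (.leaf 888) (.leaf 2909))) (.node (.node (.leaf 564) (.leaf 2187)) (.leaf 1249))))) (.node (.node (.node (.node (.node (.leaf 64) (.leaf 1406)) (.node (.leaf 679) (.leaf 2432))) (.node (.node (.leaf 365) (.leaf 1853)) (.node (.leaf 1029) (.leaf 3344)))) (.node (.node (.node (.leaf 217) (.leaf 1621)) (.node (.leaf 847) (.leaf 2802))) (.node (.node (.leaf 522) (.leaf 2120)) (.leaf 1202)))) (.node (.node (.node (.node (.leaf 138) (.leaf 1503)) (.node (.leaf 760) (.leaf 2600))) (.node (.node (.leaf 444) (.leaf 1983)) (.node (.leaf 1113) (.leaf 3786)))) (.node (.node (.node (.leaf 291) (.leaf 1742)) (.node (.leaf 935) (.leaf 3052))) (.node (.node (.leaf 602) (.leaf 2265)) (.leaf 1292))))))))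

def twoPar6 : Janko.Tree (ℕ) :=
  (.node (.node (.node (.node (.node (.node (.node (.node (.leaf 5) (.leaf 1305)) (.node (.leaf 612) (.leaf 2287))) (.node (.node (.leaf 302) (.leaf 1758)) (.node (.leaf 946) (.leaf 3101)))) (.node (.node (.node (.leaf 149) (.leaf 1520)) (.node (.leaf 774) (.leaf 2625))) (.node (.node (.leaf 455) (.leaf 2003)) (.leaf 1125)))) (.node (.node (.node (.node (.leaf 73) (.leaf 1418)) (.node (.leaf 690) (.leaf 2450))) (.node (.node (.leaf 378) (.leaf 1866)) (.node (.leaf 1042) (.leaf 3387)))) (.node (.node (.node (.leaf 226) (.leaf 1635)) (.node (.leaf 858) (.leaf 2827))) (.node (.node (.leaf 533) (.leaf 2142)) (.leaf 1216))))) (.node (.node (.node (.node (.node (.leaf 38) (.leaf 1356)) (.node (.leaf 651) (.leaf 2365))) (.node (.node (.leaf 340) (.leaf 1814)) (.node (.leaf 994) (.leaf 3229)))) (.node (.node (.node (.leaf 186) (.leaf 1579)) (.node (.leaf 817) (.leaf 2730))) (.node (.node (.leaf 494) (.leaf 2073)) (.leaf 1170)))) (.node (.node (.node (.node (.leaf 112) (.leaf 1469)) (.node (.leaf 735) (.leaf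 2536))) (.node (.node (.leaf 417) (.leaf 1932)) (.node (.leaf 1083) (.leaf 3578)))) (.node (.node (.node (.leaf 265) (.leaf 1693)) (.node (.leaf 900) (.leaf 2933))) (.node (.node (.leaf 573) (.leaf 2208)) (.leaf 1260)))))) (.node (.node (.node (.node (.node (.node (.leaf 21) (.leaf 1332)) (.node (.leaf 634) (.leaf 2326))) (.node (.node (.leaf 320) (.leaf 1786)) (.node (.leaf 972) (.leaf 3156)))) (.node (.node (.node (.leaf 168) (.leaf 1543)) (.node (.leaf 794) (.leaf 2660))) (.node (.node (.leaf 474) (.leaf 2040)) (.leaf 1147)))) (.node (.node (.node (.node (.leaf 93) (.leaf 1445)) (.node (.leaf 710) (.leaf 2483))) (.node (.node (.leaf 397) (.leaf 1898)) (.node (.leaf 1060) (.leaf 3452)))) (.node (.node (.node (.leaf 245) (.leaf 1663)) (.node (.leaf 880) (.leaf 2886))) (.node (.node (.leaf 554) (.leaf 2173)) (.leaf 1238))))) (.node (.node (.node (.node (.node (.leaf 55) (.leaf 1390)) (.node (.leaf 671) (.leaf 2406))) (.node (.node (.leaf 357) (.leaf 1842)) (.node (.leaf 1016) (.leaf 3310)))) (.node (.node (.node (.leaf 205) (.leaf 1608))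 (.node (.leaf 838) (.leaf 2782))) (.node (.node (.leaf 511) (.leaf 2104)) (.leaf 1194)))) (.node (.node (.node (.node (.leaf 130) (.leaf 1491)) (.node (.leaf 753) (.leaf 2581))) (.node (.node (.leaf 435) (.leaf 1970)) (.node (.leaf 1104) (.leaf 3699)))) (.node (.node (.node (.leaf 283) (.leaf 1729)) (.node (.leaf 925) (.leaf 3012))) (.node (.node (.leaf 593) (.leaf 2255)) (.leaf 1284))))))) (.node (.node (.node (.node (.node (.node (.node (.leaf 13) (.leaf 1318)) (.node (.leaf 623) (.leaf 2315))) (.node (.node (.leaf 311) (.leaf 1770)) (.node (.leaf 957) (.leaf 3133)))) (.node (.node (.node (.leaf 159) (.leaf 1530)) (.node (.leaf 783) (.leaf 2647))) (.node (.node (.leaf 465) (.leaf 2013)) (.leaf 1133)))) (.node (.node (.node (.node (.leaf 82) (.leaf 1429)) (.node (.leaf 700) (.leaf 2462))) (.node (.node (.leaf 389) (.leaf 1881)) (.node (.leaf 1051) (.leaf 3411)))) (.node (.node (.node (.leaf 237) (.leaf 1649)) (.node (.leaf 869) (.leaf 2853))) (.node (.node (.leaf 543) (.leaf 2157)) (.leaf 1228))))) (.node (.node (.node (.node (.node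 (.leaf 47) (.leaf 1376)) (.node (.leaf 661) (.leaf 2384))) (.node (.node (.leaf 349) (.leaf 1826)) (.node (.leaf 1003) (.leaf 3279)))) (.node (.node (.node (.leaf 196) (.leaf 1591)) (.node (.leaf 827) (.leaf 2763))) (.node (.node (.leaf 502) (.leaf 2088)) (.leaf 1181)))) (.node (.node (.node (.node (.leaf 121) (.leaf 1479)) (.node (.leaf 744) (.leaf 2558))) (.node (.node (.leaf 426) (.leaf 1946)) (.node (.leaf 1094) (.leaf 3632)))) (.node (.node (.node (.leaf 274) (.leaf 1707)) (.node (.leaf 912) (.leaf 2968))) (.node (.node (.leaf 583) (.leaf 2231)) (.leaf 1270)))))) (.node (.node (.node (.node (.node (.node (.leaf 29) (.leaf 1345)) (.node (.leaf 642) (.leaf 2348))) (.node (.node (.leaf 330) (.leaf 1806)) (.node (.leaf 983) (.leaf 3195)))) (.node (.node (.node (.leaf 177) (.leaf 1559)) (.node (.leaf 806) (.leaf 2691))) (.node (.node (.leaf 484) (.leaf 2055)) (.leaf 1158)))) (.node (.node (.node (.node (.leaf 101) (.leaf 1459)) (.node (.leaf 722) (.leaf 2504))) (.node (.node (.leaf 408) (.leaf 1917)) (.node (.leaf 1072) (.leaf 3534))))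 (.node (.node (.node (.leaf 256) (.leaf 1674)) (.node (.leaf 889) (.leaf 2911))) (.node (.node (.leaf 565) (.leaf 2191)) (.leaf 1250))))) (.node (.node (.node (.node (.node (.leaf 65) (.leaf 1408)) (.node (.leaf 681) (.leaf 2433))) (.node (.node (.leaf 366) (.leaf 1854)) (.node (.leaf 1031) (.leaf 3347)))) (.node (.node (.node (.leaf 218) (.leaf 1622)) (.node (.leaf 848) (.leaf 2805))) (.node (.node (.leaf 523) (.leaf 2121)) (.leaf 1204)))) (.node (.node (.node (.node (.leaf 139) (.leaf 1504)) (.node (.leaf 762) (.leaf 2604))) (.node (.node (.leaf 445) (.leaf 1984)) (.node (.leaf 1114) (.leaf 3811)))) (.node (.node (.node (.leaf 292) (.leaf 1743)) (.node (.leaf 936) (.leaf 3057))) (.node (.node (.leaf 603) (.leaf 2266)) (.leaf 1293))))))))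

def twoPar7 : Janko.Tree (ℕ) :=
  (.node (.node (.node (.node (.node (.node (.node (.node (.leaf 6) (.leaf 1306)) (.node (.leaf 615) (.leaf 2288))) (.node (.node (.leaf 303) (.leaf 1761)) (.node (.leaf 947) (.leaf 3102)))) (.node (.node (.node (.leaf 150) (.leaf 1521)) (.node (.leaf 775) (.leaf 2628))) (.node (.node (.leaf 456) (.leaf 2004)) (.leaf 1126)))) (.node (.node (.node (.node (.leaf 75) (.leaf 1421)) (.node (.leaf 691) (.leaf 2451))) (.node (.node (.leaf 380) (.leaf 1867)) (.node (.leaf 1043) (.leaf 3389)))) (.node (.node (.node (.leaf 227) (.leaf 1637)) (.node (.leaf 859) (.leaf 2828))) (.node (.node (.leaf 534) (.leaf 2146)) (.leaf 1217))))) (.node (.node (.node (.node (.node (.leaf 39) (.leaf 1357)) (.node (.leaf 652) (.leaf 2367))) (.node (.node (.leaf 342) (.leaf 1815)) (.node (.leaf 995) (.leaf 3230)))) (.node (.node (.node (.leaf 187) (.leaf 1580)) (.node (.leaf 818) (.leaf 2733))) (.node (.node (.leaf 495) (.leaf 2076)) (.leaf 1172)))) (.node (.node (.node (.node (.leaf 113) (.leaf 1470)) (.node (.leaf 736) (.leaf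 2540))) (.node (.node (.leaf 418) (.leaf 1934)) (.node (.leaf 1084) (.leaf 3593)))) (.node (.node (.node (.leaf 266) (.leaf 1695)) (.node (.leaf 901) (.leaf 2935))) (.node (.node (.leaf 575) (.leaf 2213)) (.leaf 1261)))))) (.node (.node (.node (.node (.node (.node (.leaf 22) (.leaf 1334)) (.node (.leaf 635) (.leaf 2327))) (.node (.node (.leaf 321) (.leaf 1788)) (.node (.leaf 973) (.leaf 3157)))) (.node (.node (.node (.leaf 170) (.leaf 1544)) (.node (.leaf 795) (.leaf 2662))) (.node (.node (.leaf 477) (.leaf 2041)) (.leaf 1148)))) (.node (.node (.node (.node (.leaf 94) (.leaf 1448)) (.node (.leaf 711) (.leaf 2487))) (.node (.node (.leaf 399) (.leaf 1899)) (.node (.leaf 1062) (.leaf 3460)))) (.node (.node (.node (.leaf 247) (.leaf 1665)) (.node (.leaf 882) (.leaf 2888))) (.node (.node (.leaf 556) (.leaf 2174)) (.leaf 1239))))) (.node (.node (.node (.node (.node (.leaf 56) (.leaf 1393)) (.node (.leaf 672) (.leaf 2407))) (.node (.node (.leaf 358) (.leaf 1843)) (.node (.leaf 1019) (.leaf 3314)))) (.node (.node (.node (.leaf 207) (.leaf 1611))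 (.node (.leaf 839) (.leaf 2784))) (.node (.node (.leaf 512) (.leaf 2105)) (.leaf 1195)))) (.node (.node (.node (.node (.leaf 131) (.leaf 1492)) (.node (.leaf 754) (.leaf 2583))) (.node (.node (.leaf 436) (.leaf 1974)) (.node (.leaf 1105) (.leaf 3705)))) (.node (.node (.node (.leaf 284) (.leaf 1730)) (.node (.leaf 928) (.leaf 3017))) (.node (.node (.leaf 594) (.leaf 2257)) (.leaf 1285))))))) (.node (.node (.node (.node (.node (.node (.node (.leaf 14) (.leaf 1319)) (.node (.leaf 625) (.leaf 2316))) (.node (.node (.leaf 312) (.leaf 1773)) (.node (.leaf 959) (.leaf 3135)))) (.node (.node (.node (.leaf 160) (.leaf 1533)) (.node (.leaf 784) (.leaf 2651))) (.node (.node (.leaf 466) (.leaf 2015)) (.leaf 1134)))) (.node (.node (.node (.node (.leaf 84) (.leaf 1431)) (.node (.leaf 701) (.leaf 2465))) (.node (.node (.leaf 390) (.leaf 1883)) (.node (.leaf 1052) (.leaf 3413)))) (.node (.node (.node (.leaf 238) (.leaf 1651)) (.node (.leaf 871) (.leaf 2861))) (.node (.node (.leaf 545) (.leaf 2158)) (.leaf 1229))))) (.node (.node (.node (.node (.node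 (.leaf 48) (.leaf 1380)) (.node (.leaf 662) (.leaf 2387))) (.node (.node (.leaf 350) (.leaf 1827)) (.node (.leaf 1004) (.leaf 3280)))) (.node (.node (.node (.leaf 198) (.leaf 1592)) (.node (.leaf 828) (.leaf 2765))) (.node (.node (.leaf 503) (.leaf 2090)) (.leaf 1183)))) (.node (.node (.node (.node (.leaf 122) (.leaf 1481)) (.node (.leaf 746) (.leaf 2560))) (.node (.node (.leaf 427) (.leaf 1947)) (.node (.leaf 1096) (.leaf 3633)))) (.node (.node (.node (.leaf 275) (.leaf 1708)) (.node (.leaf 913) (.leaf 2972))) (.node (.node (.leaf 584) (.leaf 2235)) (.leaf 1271)))))) (.node (.node (.node (.node (.node (.node (.leaf 31) (.leaf 1346)) (.node (.leaf 643) (.leaf 2350))) (.node (.node (.leaf 331) (.leaf 1807)) (.node (.leaf 984) (.leaf 3196)))) (.node (.node (.node (.leaf 178) (.leaf 1560)) (.node (.leaf 808) (.leaf 2694))) (.node (.node (.leaf 485) (.leaf 2056)) (.leaf 1159)))) (.node (.node (.node (.node (.leaf 102) (.leaf 1460)) (.node (.leaf 723) (.leaf 2507))) (.node (.node (.leaf 409) (.leaf 1918)) (.node (.leaf 1075) (.leaf 3541))))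 (.node (.node (.node (.leaf 257) (.leaf 1675)) (.node (.leaf 890) (.leaf 2913))) (.node (.node (.leaf 566) (.leaf 2193)) (.leaf 1251))))) (.node (.node (.node (.node (.node (.leaf 66) (.leaf 1409)) (.node (.leaf 682) (.leaf 2434))) (.node (.node (.leaf 368) (.leaf 1855)) (.node (.leaf 1032) (.leaf 3349)))) (.node (.node (.node (.leaf 219) (.leaf 1625)) (.node (.leaf 849) (.leaf 2806))) (.node (.node (.leaf 524) (.leaf 2122)) (.leaf 1205)))) (.node (.node (.node (.node (.leaf 140) (.leaf 1505)) (.node (.leaf 763) (.leaf 2607))) (.node (.node (.leaf 447) (.leaf 1987)) (.node (.leaf 1115) (.leaf 3825)))) (.node (.node (.node (.leaf 293) (.leaf 1745)) (.node (.leaf 937) (.leaf 3069))) (.node (.node (.leaf 605) (.leaf 2267)) (.leaf 1294))))))))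

def twoPar : Janko.Tree (ℕ) := (.node (.node (.node twoPar0 twoPar4) (.node twoPar2 twoPar6)) (.node (.node twoPar1 twoPar5) (.node twoPar3 twoPar7)))

def twoL0 : Janko.Tree (List ℤ) :=
  (.node (.node (.node (.node (.node (.node (.node (.node (.node (.leaf []) (.leaf [(-45), 7])) (.node (.leaf []) (.leaf [(-27), 9]))) (.node (.node (.leaf []) (.leaf [])) (.node (.leaf [10]) (.leaf [(-62), 11])))) (.node (.node (.node (.leaf []) (.leaf [12, (-2)])) (.node (.leaf [274, (-47)]) (.leaf []))) (.node (.node (.leaf [(-1)]) (.leaf [52, (-10)])) (.node (.leaf [(-1157), 204]) (.leaf []))))) (.node (.node (.node (.node (.leaf [1]) (.leaf [1])) (.node (.leaf []) (.leaf [(-13)]))) (.node (.node (.leaf []) (.leaf [74, (-12)])) (.node (.leaf [5, 2]) (.leaf [])))) (.node (.node (.node (.leaf []) (.leaf [])) (.node (.leaf []) (.leaf [19806, (-3546)]))) (.node (.node (.leaf []) (.leaf [24696, (-4582)])) (.leaf []))))) (.node (.node (.node (.node (.node (.leaf []) (.leaf [1, (-2)])) (.node (.leaf [(-4)]) (.leaf [6340, (-1246)]))) (.node (.node (.leaf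 []) (.leaf [(-91), (-5)])) (.node (.leaf []) (.leaf [(-14), 2])))) (.node (.node (.node (.leaf []) (.leaf [])) (.node (.leaf [(-2), (-1)]) (.leaf []))) (.node (.node (.leaf []) (.leaf [(-1069), 201])) (.leaf [])))) (.node (.node (.node (.node (.leaf []) (.leaf [26, 3])) (.node (.leaf []) (.leaf [1]))) (.node (.node (.leaf []) (.leaf [(-7), 1])) (.node (.leaf [(-3)]) (.leaf [(-3398), 535])))) (.node (.node (.node (.leaf []) (.leaf [(-7424), 1417])) (.node (.leaf [4]) (.leaf [20072, (-3762)]))) (.node (.node (.leaf [1]) (.leaf [157, (-30)])) (.leaf [])))))) (.node (.node (.node (.node (.node (.node (.leaf []) (.leaf [])) (.node (.leaf []) (.leaf []))) (.node (.node (.leaf [133, (-22)]) (.leaf [(-1022), 188])) (.node (.leaf []) (.leaf [(-846), 173])))) (.node (.node (.node (.leaf []) (.leaf [3])) (.node (.leaf [(-2)]) (.leaf [6558, (-1142)]))) (.node (.node (.leaf [4]) (.leaf [])) (.leaf [])))) (.node (.node (.node (.node (.leaf []) (.leaf [])) (.node (.leaf []) (.leaf []))) (.node (.node (.leaf []) (.leaf [19])) (.node (.leaf [582, (-97)])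 (.leaf [6832, (-987)])))) (.node (.node (.node (.leaf []) (.leaf [(-6844), 1888])) (.node (.leaf []) (.leaf [77, (-30)]))) (.node (.node (.leaf []) (.leaf [(-2), (-2)])) (.leaf []))))) (.node (.node (.node (.node (.node (.leaf []) (.leaf [])) (.node (.leaf [27, (-3)]) (.leaf []))) (.node (.node (.leaf []) (.leaf [])) (.node (.leaf []) (.leaf [79, (-30)])))) (.node (.node (.node (.leaf []) (.leaf [(-1)])) (.node (.leaf []) (.leaf [3]))) (.node (.node (.leaf []) (.leaf [(-318), 47])) (.leaf [23, (-1)])))) (.node (.node (.node (.node (.leaf []) (.leaf [710, (-95)])) (.node (.leaf []) (.leaf []))) (.node (.node (.leaf []) (.leaf [])) (.node (.leaf []) (.leaf [(-216), 25])))) (.node (.node (.node (.leaf []) (.leaf [])) (.node (.leaf []) (.leaf [(-1)]))) (.node (.node (.leaf []) (.leaf [4])) (.leaf [(-232), 39]))))))) (.node (.node (.node (.node (.node (.node (.node (.leaf []) (.leaf [1])) (.node (.leaf [(-7444), 1401]) (.leaf [3]))) (.node (.node (.leaf [8, 2]) (.leaf [])) (.node (.leaf [1207, (-213)]) (.leaf [(-449), 75])))) (.node (.node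 (.node (.leaf [1]) (.leaf [])) (.node (.leaf []) (.leaf []))) (.node (.node (.leaf []) (.leaf [])) (.leaf [])))) (.node (.node (.node (.node (.leaf []) (.leaf [(-1395), 247])) (.node (.leaf []) (.leaf [161, (-25)]))) (.node (.node (.leaf []) (.leaf [])) (.node (.leaf [(-57), 14]) (.leaf [6216, (-1109)])))) (.node (.node (.node (.leaf []) (.leaf [])) (.node (.leaf []) (.leaf [755, (-140)]))) (.node (.node (.leaf []) (.leaf [(-184), 28])) (.leaf []))))) (.node (.node (.node (.node (.node (.leaf []) (.leaf [])) (.node (.leaf []) (.leaf []))) (.node (.node (.leaf []) (.leaf [(-11), 13])) (.node (.leaf []) (.leaf [(-1037), 132])))) (.node (.node (.node (.leaf []) (.leaf [])) (.node (.leaf [1]) (.leaf [1]))) (.node (.node (.leaf []) (.leaf [(-137), 36])) (.leaf [])))) (.node (.node (.node (.node (.leaf [(-1)]) (.leaf [(-21), 2])) (.node (.leaf []) (.leaf []))) (.node (.node (.leaf []) (.leaf [(-48), 10])) (.node (.leaf [4]) (.leaf [3])))) (.node (.node (.node (.leaf []) (.leaf [1])) (.node (.leaf []) (.leaf [(-6096), 1175]))) (.node (.node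 (.leaf []) (.leaf [])) (.leaf [])))))) (.node (.node (.node (.node (.node (.node (.leaf []) (.leaf [(-175), 30])) (.node (.leaf []) (.leaf [121, (-17)]))) (.node (.node (.leaf []) (.leaf [])) (.node (.leaf []) (.leaf [])))) (.node (.node (.node (.leaf []) (.leaf [(-2488), 402])) (.node (.leaf [1]) (.leaf [447, (-98)]))) (.node (.node (.leaf []) (.leaf [(-233), 30])) (.leaf [])))) (.node (.node (.node (.node (.leaf []) (.leaf [])) (.node (.leaf [58, (-13)]) (.leaf [3]))) (.node (.node (.leaf []) (.leaf [(-3), 10])) (.node (.leaf []) (.leaf [1])))) (.node (.node (.node (.leaf []) (.leaf [])) (.node (.leaf []) (.leaf [0, (-3)]))) (.node (.node (.leaf []) (.leaf [])) (.leaf [(-129), 23]))))) (.node (.node (.node (.node (.node (.leaf []) (.leaf [])) (.node (.leaf [1]) (.leaf [6]))) (.node (.node (.leaf [4]) (.leaf [(-263), 77])) (.node (.leaf [(-11), (-2)]) (.leaf [(-611), 108])))) (.node (.node (.node (.leaf []) (.leaf [(-139), 25])) (.node (.leaf [(-1165), 230]) (.leaf [(-6770), 1304]))) (.node (.node (.leaf []) (.leaf [])) (.leaf []))))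 (.node (.node (.node (.node (.leaf []) (.leaf [])) (.node (.leaf []) (.leaf [(-11253), 1745]))) (.node (.node (.leaf []) (.leaf [(-44), 5])) (.node (.leaf []) (.leaf [3550, (-554)])))) (.node (.node (.node (.leaf []) (.leaf [285, (-20)])) (.node (.leaf []) (.leaf []))) (.node (.node (.leaf []) (.leaf [(-1)])) (.leaf [])))))))) (.node (.node (.node (.node (.node (.node (.node (.node (.leaf []) (.leaf [])) (.node (.leaf []) (.leaf [(-217), 48]))) (.node (.node (.leaf []) (.leaf [(-5), 2])) (.node (.leaf []) (.leaf [(-1695), 304])))) (.node (.node (.node (.leaf []) (.leaf [4])) (.node (.leaf []) (.leaf [1, (-3)]))) (.node (.node (.leaf []) (.leaf [1657, (-280)])) (.node (.leaf [22, (-1)]) (.leaf [3]))))) (.node (.node (.node (.node (.leaf []) (.leaf [])) (.node (.leaf [(-1)]) (.leaf [1304, (-240)]))) (.node (.node (.leaf []) (.leaf [12386, (-2380)])) (.node (.leaf []) (.leaf [96, (-12)])))) (.node (.node (.node (.leaf []) (.leaf [])) (.node (.leaf []) (.leaf [366, (-62)]))) (.node (.node (.leaf []) (.leaf [1])) (.leaf [(-45), 12])))))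 (.node (.node (.node (.node (.node (.leaf []) (.leaf [])) (.node (.leaf []) (.leaf [35, (-3)]))) (.node (.node (.leaf []) (.leaf [(-10), 2])) (.node (.leaf []) (.leaf [(-417), 39])))) (.node (.node (.node (.leaf []) (.leaf [])) (.node (.leaf []) (.leaf []))) (.node (.node (.leaf []) (.leaf [])) (.leaf [3])))) (.node (.node (.node (.node (.leaf []) (.leaf [])) (.node (.leaf []) (.leaf []))) (.node (.node (.leaf []) (.leaf [])) (.node (.leaf []) (.leaf [(-21200), 3885])))) (.node (.node (.node (.leaf []) (.leaf [])) (.node (.leaf [11, 1]) (.leaf [(-51), 5]))) (.node (.node (.leaf [178, 2]) (.leaf [806, (-138)])) (.leaf [])))))) (.node (.node (.node (.node (.node (.node (.leaf []) (.leaf [])) (.node (.leaf []) (.leaf []))) (.node (.node (.leaf [(-1)]) (.leaf [])) (.node (.leaf [4]) (.leaf [])))) (.node (.node (.node (.leaf []) (.leaf [])) (.node (.leaf []) (.leaf [544, (-92)]))) (.node (.node (.leaf []) (.leaf [(-4)])) (.leaf [(-1)])))) (.node (.node (.node (.node (.leaf []) (.leaf [])) (.node (.leaf []) (.leaf [1]))) (.node (.node (.leaf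 [1]) (.leaf [])) (.node (.leaf []) (.leaf [484, 155])))) (.node (.node (.node (.leaf [1]) (.leaf [])) (.node (.leaf []) (.leaf [93, (-16)]))) (.node (.node (.leaf []) (.leaf [243, (-36)])) (.leaf []))))) (.node (.node (.node (.node (.node (.leaf [1]) (.leaf [])) (.node (.leaf []) (.leaf []))) (.node (.node (.leaf []) (.leaf [55, (-14)])) (.node (.leaf []) (.leaf [(-10), 1])))) (.node (.node (.node (.leaf []) (.leaf [569, (-97)])) (.node (.leaf []) (.leaf [(-38491), 6993]))) (.node (.node (.leaf []) (.leaf [3])) (.leaf [])))) (.node (.node (.node (.node (.leaf []) (.leaf [])) (.node (.leaf []) (.leaf [37, (-4)]))) (.node (.node (.leaf []) (.leaf [29, (-2)])) (.node (.leaf [(-4)]) (.leaf [(-305), (-21)])))) (.node (.node (.node (.leaf []) (.leaf [])) (.node (.leaf []) (.leaf [(-625), 105]))) (.node (.node (.leaf []) (.leaf [19883, (-4226)])) (.leaf [(-28061), 5215]))))))) (.node (.node (.node (.node (.node (.node (.node (.leaf []) (.leaf [(-689), 251])) (.node (.leaf [1]) (.leaf []))) (.node (.node (.leaf []) (.leaf [7148, (-1373)]))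 (.node (.leaf []) (.leaf [(-1121), 535])))) (.node (.node (.node (.leaf []) (.leaf [])) (.node (.leaf [(-31), 3]) (.leaf [530, (-89)]))) (.node (.node (.leaf []) (.leaf [(-1086), 199])) (.leaf [])))) (.node (.node (.node (.node (.leaf []) (.leaf [])) (.node (.leaf []) (.leaf [600, (-100)]))) (.node (.node (.leaf [4]) (.leaf [(-95), 17])) (.node (.leaf []) (.leaf [320, (-90)])))) (.node (.node (.node (.leaf []) (.leaf [])) (.node (.leaf []) (.leaf [17]))) (.node (.node (.leaf [933, (-146)]) (.leaf [])) (.leaf []))))) (.node (.node (.node (.node (.node (.leaf []) (.leaf [(-1), (-2)])) (.node (.leaf []) (.leaf [(-343), (-16)]))) (.node (.node (.leaf [2]) (.leaf [12])) (.node (.leaf [1882, (-627)]) (.leaf [(-29721), 5251])))) (.node (.node (.node (.leaf []) (.leaf [(-36), 8])) (.node (.leaf []) (.leaf [(-188), 27]))) (.node (.node (.leaf []) (.leaf [(-209), 33])) (.leaf [(-13), 2])))) (.node (.node (.node (.node (.leaf [2]) (.leaf [])) (.node (.leaf []) (.leaf []))) (.node (.node (.leaf [(-84), 31]) (.leaf [])) (.node (.leaf []) (.leaf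 [95, (-6)])))) (.node (.node (.node (.leaf []) (.leaf [(-1), 3])) (.node (.leaf [181, (-39)]) (.leaf []))) (.node (.node (.leaf []) (.leaf [40, (-5)])) (.leaf [45, (-4)])))))) (.node (.node (.node (.node (.node (.node (.leaf []) (.leaf [])) (.node (.leaf []) (.leaf [(-2647), 773]))) (.node (.node (.leaf []) (.leaf [])) (.node (.leaf []) (.leaf [572, (-98)])))) (.node (.node (.node (.leaf []) (.leaf [])) (.node (.leaf []) (.leaf []))) (.node (.node (.leaf []) (.leaf [8, (-3)])) (.leaf [109, (-20)])))) (.node (.node (.node (.node (.leaf []) (.leaf [72, (-15)])) (.node (.leaf []) (.leaf [(-995), 120]))) (.node (.node (.leaf []) (.leaf [76, (-12)])) (.node (.leaf [49, (-7)]) (.leaf [(-9319), 1756])))) (.node (.node (.node (.leaf []) (.leaf [(-238), 35])) (.node (.leaf []) (.leaf [1194, (-185)]))) (.node (.node (.leaf []) (.leaf [175, (-35)])) (.leaf []))))) (.node (.node (.node (.node (.node (.leaf []) (.leaf [28, (-3)])) (.node (.leaf []) (.leaf [(-21), 1]))) (.node (.node (.leaf []) (.leaf [(-1)])) (.node (.leaf []) (.leaf [4])))) (.node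 (.node (.node (.leaf []) (.leaf [(-14), 1])) (.node (.leaf [607, (-445)]) (.leaf [860, (-236)]))) (.node (.node (.leaf []) (.leaf [(-614), 148])) (.leaf [4])))) (.node (.node (.node (.node (.leaf []) (.leaf [403, (-44)])) (.node (.leaf [4]) (.leaf [(-366), 70]))) (.node (.node (.leaf []) (.leaf [91, (-7)])) (.node (.leaf []) (.leaf [118, 14])))) (.node (.node (.node (.leaf []) (.leaf [1])) (.node (.leaf [(-1)]) (.leaf [(-461), 85]))) (.node (.node (.leaf []) (.leaf [29, (-2)])) (.leaf [])))))))))

def twoL1 : Janko.Tree (List ℤ) :=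
  (.node (.node (.node (.node (.node (.node (.node (.node (.node (.leaf []) (.leaf [])) (.node (.leaf []) (.leaf [2]))) (.node (.node (.leaf []) (.leaf [(-3), 2])) (.node (.leaf []) (.leaf [(-722), 126])))) (.node (.node (.node (.leaf []) (.leaf [1])) (.node (.leaf [235, (-43)]) (.leaf [(-326), 55]))) (.node (.node (.leaf []) (.leaf [(-4)])) (.node (.leaf []) (.leaf []))))) (.node (.node (.node (.node (.leaf []) (.leaf [24, (-4)])) (.node (.leaf []) (.leaf [240, (-42)]))) (.node (.node (.leaf []) (.leaf [41, (-5)])) (.node (.leaf []) (.leaf [7240, (-1724)])))) (.node (.node (.node (.leaf []) (.leaf [])) (.node (.leaf []) (.leaf [(-56), 13]))) (.node (.node (.leaf []) (.leaf [])) (.leaf [(-12), (-1)]))))) (.node (.node (.node (.node (.node (.leaf []) (.leaf [(-51), 8])) (.node (.leaf []) (.leaf [3]))) (.node (.node (.leaf []) (.leaf [])) (.node (.leaf [156, (-26)]) (.leaf [(-29736), 5253])))) (.node (.node (.node (.leaf []) (.leaf [])) (.node (.leaf []) (.leaf [4170, (-840)]))) (.node (.node (.leaf [(-2)]) (.leaf [])) (.leaf [(-2)]))))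 (.node (.node (.node (.node (.leaf []) (.leaf [2])) (.node (.leaf []) (.leaf []))) (.node (.node (.leaf []) (.leaf [(-37), 4])) (.node (.leaf []) (.leaf [(-438), 90])))) (.node (.node (.node (.leaf []) (.leaf [(-7650), 1392])) (.node (.leaf []) (.leaf [(-13), (-1)]))) (.node (.node (.leaf []) (.leaf [])) (.leaf [])))))) (.node (.node (.node (.node (.node (.node (.leaf []) (.leaf [])) (.node (.leaf []) (.leaf []))) (.node (.node (.leaf []) (.leaf [])) (.node (.leaf []) (.leaf [(-475), 72])))) (.node (.node (.node (.leaf []) (.leaf [500, (-85)])) (.node (.leaf []) (.leaf [6208, (-1174)]))) (.node (.node (.leaf []) (.leaf [1])) (.leaf [])))) (.node (.node (.node (.node (.leaf [(-3)]) (.leaf [23292, (-4323)])) (.node (.leaf []) (.leaf [1212, (-232)]))) (.node (.node (.leaf []) (.leaf [(-23), 5])) (.node (.leaf []) (.leaf [29736, (-5253)])))) (.node (.node (.node (.leaf []) (.leaf [])) (.node (.leaf [807, (-130)]) (.leaf [(-260), 50]))) (.node (.node (.leaf []) (.leaf [(-1731), 293])) (.leaf [(-162), 31]))))) (.node (.node (.node (.node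 (.node (.leaf []) (.leaf [(-7), (-2)])) (.node (.leaf []) (.leaf []))) (.node (.node (.leaf []) (.leaf [232, (-43)])) (.node (.leaf [(-836), 190]) (.leaf [(-208), 18])))) (.node (.node (.node (.leaf []) (.leaf [(-565), 101])) (.node (.leaf [(-3)]) (.leaf [(-28), 9]))) (.node (.node (.leaf []) (.leaf [])) (.leaf [35, (-3)])))) (.node (.node (.node (.node (.leaf []) (.leaf [187, (-10)])) (.node (.leaf []) (.leaf [1345, (-318)]))) (.node (.node (.leaf []) (.leaf [])) (.node (.leaf []) (.leaf [(-99)])))) (.node (.node (.node (.leaf []) (.leaf [])) (.node (.leaf []) (.leaf [1544, (-270)]))) (.node (.node (.leaf []) (.leaf [51, (-12)])) (.leaf [3]))))))) (.node (.node (.node (.node (.node (.node (.node (.leaf []) (.leaf [3, (-4)])) (.node (.leaf []) (.leaf [(-3227), 564]))) (.node (.node (.leaf []) (.leaf [])) (.node (.leaf []) (.leaf [(-49), 10])))) (.node (.node (.node (.leaf []) (.leaf [])) (.node (.leaf []) (.leaf [(-39), (-17)]))) (.node (.node (.leaf [2]) (.leaf [(-83), 15])) (.leaf [])))) (.node (.node (.node (.node (.leaf []) (.leaf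 [])) (.node (.leaf [(-318), 77]) (.leaf [(-10461), 1745]))) (.node (.node (.leaf [(-3)]) (.leaf [21, (-2)])) (.node (.leaf [728, (-124)]) (.leaf [32, (-3)])))) (.node (.node (.node (.leaf []) (.leaf [153, (-26)])) (.node (.leaf []) (.leaf [(-6557), 1394]))) (.node (.node (.leaf []) (.leaf [(-5)])) (.leaf [(-2)]))))) (.node (.node (.node (.node (.node (.leaf []) (.leaf [])) (.node (.leaf []) (.leaf [48, (-4)]))) (.node (.node (.leaf []) (.leaf [(-566), 98])) (.node (.leaf []) (.leaf [(-580), 44])))) (.node (.node (.node (.leaf []) (.leaf [131, (-14)])) (.node (.leaf []) (.leaf [(-36), 7]))) (.node (.node (.leaf []) (.leaf [(-1), 8])) (.leaf [2])))) (.node (.node (.node (.node (.leaf []) (.leaf [])) (.node (.leaf []) (.leaf [(-1436), 255]))) (.node (.node (.leaf [(-935), 142]) (.leaf [])) (.node (.leaf []) (.leaf [127, (-16)])))) (.node (.node (.node (.leaf []) (.leaf [(-36), 3])) (.node (.leaf [3]) (.leaf [(-1611), 410]))) (.node (.node (.leaf []) (.leaf [580, (-94)])) (.leaf [])))))) (.node (.node (.node (.node (.node (.node (.leaf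 []) (.leaf [(-1), (-2)])) (.node (.leaf [3, 4]) (.leaf [489, (-7)]))) (.node (.node (.leaf [(-11012), 2072]) (.leaf [(-1733), 325])) (.node (.leaf [718, (-118)]) (.leaf [])))) (.node (.node (.node (.leaf []) (.leaf [])) (.node (.leaf [42, (-7)]) (.leaf [426, (-84)]))) (.node (.node (.leaf []) (.leaf [(-2)])) (.leaf [341, (-70)])))) (.node (.node (.node (.node (.leaf []) (.leaf [1])) (.node (.leaf []) (.leaf [260, (-50)]))) (.node (.node (.leaf []) (.leaf [2924, (-558)])) (.node (.leaf [54, (-4)]) (.leaf [198, (-35)])))) (.node (.node (.node (.leaf []) (.leaf [(-6), 3])) (.node (.leaf []) (.leaf [(-16)]))) (.node (.node (.leaf []) (.leaf [11254, (-1745)])) (.leaf [(-111), 13]))))) (.node (.node (.node (.node (.node (.leaf []) (.leaf [])) (.node (.leaf []) (.leaf [10, 1]))) (.node (.node (.leaf []) (.leaf [278, (-59)])) (.node (.leaf []) (.leaf [(-1026), 147])))) (.node (.node (.node (.leaf [(-2)]) (.leaf [(-1)])) (.node (.leaf []) (.leaf [(-2)]))) (.node (.node (.leaf [(-2)]) (.leaf [(-34), 2])) (.leaf [3289, (-597)])))) (.node (.node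 (.node (.node (.leaf []) (.leaf [])) (.node (.leaf [2]) (.leaf [(-1303), 242]))) (.node (.node (.leaf []) (.leaf [])) (.node (.leaf []) (.leaf [])))) (.node (.node (.node (.leaf []) (.leaf [])) (.node (.leaf []) (.leaf []))) (.node (.node (.leaf []) (.leaf [])) (.leaf [130, (-28)])))))))) (.node (.node (.node (.node (.node (.node (.node (.node (.leaf []) (.leaf [])) (.node (.leaf []) (.leaf [(-2)]))) (.node (.node (.leaf []) (.leaf [])) (.node (.leaf []) (.leaf [])))) (.node (.node (.node (.leaf []) (.leaf [])) (.node (.leaf []) (.leaf [11, (-5)]))) (.node (.node (.leaf []) (.leaf [196, (-35)])) (.node (.leaf []) (.leaf [4]))))) (.node (.node (.node (.node (.leaf [2]) (.leaf [2585, (-498)])) (.node (.leaf []) (.leaf [2]))) (.node (.node (.leaf [(-2)]) (.leaf [71, (-5)])) (.node (.leaf [54, (-3)]) (.leaf [342, (-70)])))) (.node (.node (.node (.leaf []) (.leaf [(-3508), 672])) (.node (.leaf []) (.leaf [2311, (-432)]))) (.node (.node (.leaf []) (.leaf [(-1), (-2)])) (.leaf []))))) (.node (.node (.node (.node (.node (.leaf []) (.leaf []))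 (.node (.leaf []) (.leaf [(-795), 132]))) (.node (.node (.leaf []) (.leaf [14])) (.node (.leaf [46, (-7)]) (.leaf [(-3)])))) (.node (.node (.node (.leaf []) (.leaf [3597, (-605)])) (.node (.leaf [(-456), 77]) (.leaf [(-540), 27]))) (.node (.node (.leaf []) (.leaf [])) (.leaf [])))) (.node (.node (.node (.node (.leaf []) (.leaf [])) (.node (.leaf [(-132), 22]) (.leaf []))) (.node (.node (.leaf []) (.leaf [2])) (.node (.leaf [21875, (-4000)]) (.leaf [(-4047), 835])))) (.node (.node (.node (.leaf []) (.leaf [1])) (.node (.leaf []) (.leaf [487, (-85)]))) (.node (.node (.leaf [2]) (.leaf [])) (.leaf [])))))) (.node (.node (.node (.node (.node (.node (.leaf []) (.leaf [2])) (.node (.leaf []) (.leaf [0, 5]))) (.node (.node (.leaf []) (.leaf [(-636), 83])) (.node (.leaf [365, (-81)]) (.leaf [206, (-30)])))) (.node (.node (.node (.leaf []) (.leaf [2])) (.node (.leaf []) (.leaf [969, (-167)]))) (.node (.node (.leaf []) (.leaf [82, (-10)])) (.leaf [])))) (.node (.node (.node (.node (.leaf [(-1)]) (.leaf [5124, (-1017)])) (.node (.leaf []) (.leaf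 [(-121), 35]))) (.node (.node (.leaf []) (.leaf [])) (.node (.leaf []) (.leaf [])))) (.node (.node (.node (.leaf []) (.leaf [2])) (.node (.leaf [13, (-1)]) (.leaf [2]))) (.node (.node (.leaf []) (.leaf [])) (.leaf [(-3)]))))) (.node (.node (.node (.node (.node (.leaf []) (.leaf [(-150), 52])) (.node (.leaf []) (.leaf [(-361), 62]))) (.node (.node (.leaf []) (.leaf [(-534), 89])) (.node (.leaf [(-2)]) (.leaf [(-207), 36])))) (.node (.node (.node (.leaf [2]) (.leaf [])) (.node (.leaf [(-174), 27]) (.leaf [4244, (-845)]))) (.node (.node (.leaf [(-3)]) (.leaf [(-150), 25])) (.leaf [])))) (.node (.node (.node (.node (.leaf []) (.leaf [319, (-82)])) (.node (.leaf []) (.leaf []))) (.node (.node (.leaf [(-3)]) (.leaf [29, (-3)])) (.node (.leaf []) (.leaf [(-819), (-64)])))) (.node (.node (.node (.leaf [(-3)]) (.leaf [(-300), 70])) (.node (.leaf [23925, (-4608)]) (.leaf [(-851), 150]))) (.node (.node (.leaf []) (.leaf [])) (.leaf [(-83)]))))))) (.node (.node (.node (.node (.node (.node (.node (.leaf []) (.leaf [])) (.node (.leaf []) (.leaf [3])))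 (.node (.node (.leaf []) (.leaf [])) (.node (.leaf []) (.leaf [(-8345), 1922])))) (.node (.node (.node (.leaf []) (.leaf [])) (.node (.leaf []) (.leaf [8726, (-1659)]))) (.node (.node (.leaf []) (.leaf [44, (-2)])) (.leaf [])))) (.node (.node (.node (.node (.leaf []) (.leaf [])) (.node (.leaf []) (.leaf [528, (-90)]))) (.node (.node (.leaf []) (.leaf [(-1)])) (.node (.leaf []) (.leaf [69, (-45)])))) (.node (.node (.node (.leaf []) (.leaf [(-6554), 1840])) (.node (.leaf [3]) (.leaf [10]))) (.node (.node (.leaf [1454, (-227)]) (.leaf [(-127), 16])) (.leaf []))))) (.node (.node (.node (.node (.node (.leaf []) (.leaf [2, (-3)])) (.node (.leaf []) (.leaf [168, (-104)]))) (.node (.node (.leaf []) (.leaf [(-3)])) (.node (.leaf []) (.leaf [])))) (.node (.node (.node (.leaf []) (.leaf [])) (.node (.leaf [32, (-7)]) (.leaf [(-187), 26]))) (.node (.node (.leaf []) (.leaf [1])) (.leaf [])))) (.node (.node (.node (.node (.leaf []) (.leaf [])) (.node (.leaf []) (.leaf [(-2310), 522]))) (.node (.node (.leaf []) (.leaf [])) (.node (.leaf [(-1), 1])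 (.leaf [283, (-48)])))) (.node (.node (.node (.leaf []) (.leaf [(-14), 1])) (.node (.leaf []) (.leaf []))) (.node (.node (.leaf []) (.leaf [(-1)])) (.leaf [])))))) (.node (.node (.node (.node (.node (.node (.leaf []) (.leaf [])) (.node (.leaf []) (.leaf []))) (.node (.node (.leaf []) (.leaf [])) (.node (.leaf [(-57), 9]) (.leaf [138, (-22)])))) (.node (.node (.node (.leaf []) (.leaf [])) (.node (.leaf []) (.leaf [1386, (-242)]))) (.node (.node (.leaf []) (.leaf [(-4698), 877])) (.leaf [])))) (.node (.node (.node (.node (.leaf []) (.leaf [2])) (.node (.leaf []) (.leaf [(-103), 5]))) (.node (.node (.leaf [33, (-1)]) (.leaf [3])) (.node (.leaf [317, (-77)]) (.leaf [(-29), 1])))) (.node (.node (.node (.leaf [(-1077), 194]) (.leaf [])) (.node (.leaf [(-3)]) (.leaf [542, (-88)]))) (.node (.node (.leaf [(-796), 132]) (.leaf [(-87), 24])) (.leaf [1841, (-670)]))))) (.node (.node (.node (.node (.node (.leaf []) (.leaf [(-4)])) (.node (.leaf []) (.leaf []))) (.node (.node (.leaf []) (.leaf [364, (-53)])) (.node (.leaf []) (.leaf [])))) (.node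 (.node (.node (.leaf [(-3)]) (.leaf [(-25), 2])) (.node (.leaf [(-5)]) (.leaf [(-52), 5]))) (.node (.node (.leaf []) (.leaf [])) (.leaf [])))) (.node (.node (.node (.node (.leaf []) (.leaf [9, (-2)])) (.node (.leaf []) (.leaf [(-316), 82]))) (.node (.node (.leaf [2]) (.leaf [])) (.node (.leaf [(-1)]) (.leaf [(-193), 42])))) (.node (.node (.node (.leaf []) (.leaf [86, (-31)])) (.node (.leaf []) (.leaf [(-60), (-1)]))) (.node (.node (.leaf [1]) (.leaf [250, (-40)])) (.leaf [])))))))))

def twoL2 : Janko.Tree (List ℤ) :=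
  (.node (.node (.node (.node (.node (.node (.node (.node (.node (.leaf []) (.leaf [40, (-28)])) (.node (.leaf []) (.leaf [(-251), 56]))) (.node (.node (.leaf [(-1)]) (.leaf [(-8), 3])) (.node (.leaf [(-68), 628]) (.leaf [(-443), 98])))) (.node (.node (.node (.leaf []) (.leaf [])) (.node (.leaf [458, (-77)]) (.leaf []))) (.node (.node (.leaf []) (.leaf [208, (-39)])) (.node (.leaf []) (.leaf [1, 0]))))) (.node (.node (.node (.node (.leaf []) (.leaf [(-4533), 920])) (.node (.leaf []) (.leaf [706, (-124)]))) (.node (.node (.leaf []) (.leaf [])) (.node (.leaf []) (.leaf [3194, (-517)])))) (.node (.node (.node (.leaf []) (.leaf [])) (.node (.leaf [493, (-82)]) (.leaf [1]))) (.node (.node (.leaf [(-1), 3]) (.leaf [(-176), 35])) (.leaf [(-101), 8]))))) (.node (.node (.node (.node (.node (.leaf []) (.leaf [(-43), 2])) (.node (.leaf []) (.leaf [(-1926), 635]))) (.node (.node (.leaf []) (.leaf [3])) (.node (.leaf []) (.leaf [])))) (.node (.node (.node (.leaf []) (.leaf [(-336), 80])) (.node (.leaf []) (.leaf []))) (.node (.node (.leaf []) (.leaf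 [1])) (.leaf [])))) (.node (.node (.node (.node (.leaf []) (.leaf [57, (-10)])) (.node (.leaf [(-1)]) (.leaf [43, (-2)]))) (.node (.node (.leaf [2]) (.leaf [(-15308), 3395])) (.node (.leaf []) (.leaf [(-69), (-10)])))) (.node (.node (.node (.leaf [2]) (.leaf [])) (.node (.leaf []) (.leaf [(-48), 4]))) (.node (.node (.leaf []) (.leaf [1755, (-306)])) (.leaf [(-3)])))))) (.node (.node (.node (.node (.node (.node (.leaf []) (.leaf [2])) (.node (.leaf []) (.leaf [1]))) (.node (.node (.leaf []) (.leaf [])) (.node (.leaf []) (.leaf [(-4773), 937])))) (.node (.node (.node (.leaf []) (.leaf [128, (-18)])) (.node (.leaf []) (.leaf [2519, (-472)]))) (.node (.node (.leaf []) (.leaf [9312, (-1894)])) (.leaf [])))) (.node (.node (.node (.node (.leaf []) (.leaf [(-612), 97])) (.node (.leaf [(-1)]) (.leaf [(-319), 45]))) (.node (.node (.leaf [(-246), 33]) (.leaf [1])) (.node (.leaf []) (.leaf [(-1579), 330])))) (.node (.node (.node (.leaf []) (.leaf [(-23613), 4362])) (.node (.leaf []) (.leaf [380, (-68)]))) (.node (.node (.leaf []) (.leaf [(-1894),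 344])) (.leaf [6, (-1)]))))) (.node (.node (.node (.node (.node (.leaf []) (.leaf [])) (.node (.leaf []) (.leaf [4]))) (.node (.node (.leaf []) (.leaf [])) (.node (.leaf []) (.leaf [2881, (-270)])))) (.node (.node (.node (.leaf []) (.leaf [(-41242), 8159])) (.node (.leaf [(-342), 24]) (.leaf [1772, (-313)]))) (.node (.node (.leaf [4]) (.leaf [(-13), (-1)])) (.leaf [])))) (.node (.node (.node (.node (.leaf []) (.leaf [])) (.node (.leaf []) (.leaf [(-41), 8]))) (.node (.node (.leaf []) (.leaf [])) (.node (.leaf []) (.leaf [(-2832), 509])))) (.node (.node (.node (.leaf []) (.leaf [])) (.node (.leaf [2]) (.leaf [(-589), 96]))) (.node (.node (.leaf []) (.leaf [])) (.leaf [(-359), 58]))))))) (.node (.node (.node (.node (.node (.node (.node (.leaf []) (.leaf [(-4), (-2)])) (.node (.leaf []) (.leaf [18748, (-4076)]))) (.node (.node (.leaf []) (.leaf [])) (.node (.leaf [(-1)]) (.leaf [3550, (-555)])))) (.node (.node (.node (.leaf []) (.leaf [])) (.node (.leaf []) (.leaf [52, (-5)]))) (.node (.node (.leaf []) (.leaf [6, (-3)])) (.leaf []))))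 (.node (.node (.node (.node (.leaf []) (.leaf [1])) (.node (.leaf []) (.leaf [(-338), 63]))) (.node (.node (.leaf []) (.leaf [])) (.node (.leaf []) (.leaf [5686, (-1240)])))) (.node (.node (.node (.leaf [(-2)]) (.leaf [])) (.node (.leaf [1]) (.leaf [(-4), 2]))) (.node (.node (.leaf []) (.leaf [(-30), 5])) (.leaf []))))) (.node (.node (.node (.node (.node (.leaf []) (.leaf [])) (.node (.leaf []) (.leaf [1]))) (.node (.node (.leaf []) (.leaf [(-12), 1])) (.node (.leaf []) (.leaf [21853, (-4139)])))) (.node (.node (.node (.leaf [(-1)]) (.leaf [1])) (.node (.leaf []) (.leaf []))) (.node (.node (.leaf []) (.leaf [])) (.leaf [])))) (.node (.node (.node (.node (.leaf []) (.leaf [(-119), 23])) (.node (.leaf []) (.leaf [44636, (-8212)]))) (.node (.node (.leaf []) (.leaf [(-4380), 795])) (.node (.leaf [(-2), 2]) (.leaf [])))) (.node (.node (.node (.leaf []) (.leaf [(-7), 4])) (.node (.leaf []) (.leaf [(-1), (-2)]))) (.node (.node (.leaf []) (.leaf [])) (.leaf [4])))))) (.node (.node (.node (.node (.node (.node (.leaf []) (.leaf [(-8)])) (.node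 (.leaf [2]) (.leaf [162, (-17)]))) (.node (.node (.leaf []) (.leaf [(-256), 58])) (.node (.leaf []) (.leaf [(-1776), 310])))) (.node (.node (.node (.leaf []) (.leaf [(-4)])) (.node (.leaf [(-6), (-2)]) (.leaf []))) (.node (.node (.leaf []) (.leaf [4104, (-752)])) (.leaf [])))) (.node (.node (.node (.node (.leaf []) (.leaf [(-649), 91])) (.node (.leaf []) (.leaf [984, (-140)]))) (.node (.node (.leaf []) (.leaf [])) (.node (.leaf [17, (-2)]) (.leaf [(-114), 15])))) (.node (.node (.node (.leaf []) (.leaf [(-1)])) (.node (.leaf []) (.leaf [(-8725), 1659]))) (.node (.node (.leaf []) (.leaf [3411, (-624)])) (.leaf []))))) (.node (.node (.node (.node (.node (.leaf []) (.leaf [3506, (-697)])) (.node (.leaf []) (.leaf []))) (.node (.node (.leaf []) (.leaf [6, (-1)])) (.node (.leaf [(-395), 65]) (.leaf [1842, (-302)])))) (.node (.node (.node (.leaf []) (.leaf [])) (.node (.leaf []) (.leaf [3299, (-616)]))) (.node (.node (.leaf []) (.leaf [])) (.leaf [])))) (.node (.node (.node (.node (.leaf []) (.leaf [2, 2])) (.node (.leaf []) (.leaf []))) (.node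 (.node (.leaf []) (.leaf [])) (.node (.leaf [(-370), 61]) (.leaf [50, (-15)])))) (.node (.node (.node (.leaf []) (.leaf [(-82), 17])) (.node (.leaf [370, (-81)]) (.leaf [(-18674), 3240]))) (.node (.node (.leaf []) (.leaf [1436, (-255)])) (.leaf [3134, (-636)])))))))) (.node (.node (.node (.node (.node (.node (.node (.node (.leaf []) (.leaf [131, (-24)])) (.node (.leaf [4]) (.leaf [130, 50]))) (.node (.node (.leaf []) (.leaf [(-1), (-2)])) (.node (.leaf [1078, (-194)]) (.leaf [464, (-68)])))) (.node (.node (.node (.leaf []) (.leaf [])) (.node (.leaf []) (.leaf []))) (.node (.node (.leaf []) (.leaf [(-2375), 372])) (.node (.leaf [(-1)]) (.leaf [4]))))) (.node (.node (.node (.node (.leaf []) (.leaf [])) (.node (.leaf [6556, (-1840)]) (.leaf [(-1)]))) (.node (.node (.leaf []) (.leaf [])) (.node (.leaf []) (.leaf [831, (-29)])))) (.node (.node (.node (.leaf []) (.leaf [])) (.node (.leaf []) (.leaf [118, (-34)]))) (.node (.node (.leaf [(-2)]) (.leaf [2949, (-586)])) (.leaf []))))) (.node (.node (.node (.node (.node (.leaf [1]) (.leaf []))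 (.node (.leaf []) (.leaf []))) (.node (.node (.leaf []) (.leaf [(-26), 5])) (.node (.leaf [3]) (.leaf [(-2), 4])))) (.node (.node (.node (.leaf []) (.leaf [3744, (-618)])) (.node (.leaf []) (.leaf [7, (-5)]))) (.node (.node (.leaf [3]) (.leaf [])) (.leaf [])))) (.node (.node (.node (.node (.leaf []) (.leaf [])) (.node (.leaf []) (.leaf [102, (-2)]))) (.node (.node (.leaf []) (.leaf [])) (.node (.leaf []) (.leaf [])))) (.node (.node (.node (.leaf []) (.leaf [0, 5])) (.node (.leaf []) (.leaf [155, (-19)]))) (.node (.node (.leaf []) (.leaf [1])) (.leaf [])))))) (.node (.node (.node (.node (.node (.node (.leaf []) (.leaf [])) (.node (.leaf [46, (-6)]) (.leaf [(-200), 37]))) (.node (.node (.leaf []) (.leaf [869, (-125)])) (.node (.leaf [(-1)]) (.leaf [])))) (.node (.node (.node (.leaf [2]) (.leaf [])) (.node (.leaf [558, (-98)]) (.leaf [741, (-130)]))) (.node (.node (.leaf []) (.leaf [(-43), 5])) (.leaf [])))) (.node (.node (.node (.node (.leaf []) (.leaf [6, (-2)])) (.node (.leaf []) (.leaf [5, 2]))) (.node (.node (.leaf []) (.leaf []))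 (.node (.leaf []) (.leaf [])))) (.node (.node (.node (.leaf []) (.leaf [])) (.node (.leaf [2]) (.leaf [733, (-101)]))) (.node (.node (.leaf []) (.leaf [546, (-102)])) (.leaf [40, (-3)]))))) (.node (.node (.node (.node (.node (.leaf [(-1)]) (.leaf [6])) (.node (.leaf []) (.leaf [251, (-36)]))) (.node (.node (.leaf []) (.leaf [])) (.node (.leaf []) (.leaf [290, (-60)])))) (.node (.node (.node (.leaf []) (.leaf [4, 1])) (.node (.leaf []) (.leaf [996, (-192)]))) (.node (.node (.leaf []) (.leaf [(-18), (-18)])) (.leaf [])))) (.node (.node (.node (.node (.leaf []) (.leaf [(-1)])) (.node (.leaf []) (.leaf [(-224), 45]))) (.node (.node (.leaf []) (.leaf [])) (.node (.leaf []) (.leaf [(-566), 109])))) (.node (.node (.node (.leaf []) (.leaf [(-43), 5])) (.node (.leaf []) (.leaf [3636, (-688)]))) (.node (.node (.leaf []) (.leaf [])) (.leaf [1]))))))) (.node (.node (.node (.node (.node (.node (.node (.leaf []) (.leaf [6, (-4)])) (.node (.leaf []) (.leaf []))) (.node (.node (.leaf []) (.leaf [(-37), 10])) (.node (.leaf [(-569), 90]) (.leaf []))))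 (.node (.node (.node (.leaf []) (.leaf [])) (.node (.leaf []) (.leaf [1]))) (.node (.node (.leaf []) (.leaf [])) (.leaf [258, (-58)])))) (.node (.node (.node (.node (.leaf [4]) (.leaf [])) (.node (.leaf []) (.leaf [29, (-5)]))) (.node (.node (.leaf []) (.leaf [4301, (-492)])) (.node (.leaf []) (.leaf [700, (-149)])))) (.node (.node (.node (.leaf []) (.leaf [])) (.node (.leaf [(-369), 48]) (.leaf []))) (.node (.node (.leaf []) (.leaf [183, (-6)])) (.leaf []))))) (.node (.node (.node (.node (.node (.leaf []) (.leaf [1, (-2)])) (.node (.leaf []) (.leaf []))) (.node (.node (.leaf []) (.leaf [(-16), 4])) (.node (.leaf []) (.leaf [2021, (-352)])))) (.node (.node (.node (.leaf []) (.leaf [])) (.node (.leaf []) (.leaf [29947, (-5286)]))) (.node (.node (.leaf []) (.leaf [(-13)])) (.leaf [(-4)])))) (.node (.node (.node (.node (.leaf []) (.leaf [])) (.node (.leaf []) (.leaf [(-15180), 2805]))) (.node (.node (.leaf []) (.leaf [])) (.node (.leaf [4]) (.leaf [(-1)])))) (.node (.node (.node (.leaf []) (.leaf [])) (.node (.leaf [(-74), 16]) (.leaf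 [(-361), 81]))) (.node (.node (.leaf [(-1)]) (.leaf [])) (.leaf [])))))) (.node (.node (.node (.node (.node (.node (.leaf []) (.leaf [])) (.node (.leaf []) (.leaf []))) (.node (.node (.leaf []) (.leaf [(-231), 25])) (.node (.leaf [160, (-26)]) (.leaf [(-19), 3])))) (.node (.node (.node (.leaf []) (.leaf [])) (.node (.leaf []) (.leaf []))) (.node (.node (.leaf [1]) (.leaf [131, (-22)])) (.leaf [1])))) (.node (.node (.node (.node (.leaf []) (.leaf [(-4)])) (.node (.leaf []) (.leaf [(-556), 72]))) (.node (.node (.leaf []) (.leaf [14, (-7)])) (.node (.leaf []) (.leaf [(-27), 3])))) (.node (.node (.node (.leaf []) (.leaf [])) (.node (.leaf []) (.leaf [(-7), 1]))) (.node (.node (.leaf []) (.leaf [32, (-15)])) (.leaf []))))) (.node (.node (.node (.node (.node (.leaf []) (.leaf [718, (-124)])) (.node (.leaf [57, (-14)]) (.leaf []))) (.node (.node (.leaf []) (.leaf [])) (.node (.leaf []) (.leaf [(-44217), 8148])))) (.node (.node (.node (.leaf []) (.leaf [(-630), 109])) (.node (.leaf [(-179), 30]) (.leaf []))) (.node (.node (.leaf []) (.leaf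 [])) (.leaf [134, (-25)])))) (.node (.node (.node (.node (.leaf [(-1)]) (.leaf [])) (.node (.leaf []) (.leaf [(-1029), 147]))) (.node (.node (.leaf []) (.leaf [(-64), 13])) (.node (.leaf []) (.leaf [4, (-1)])))) (.node (.node (.node (.leaf []) (.leaf [(-4048), 748])) (.node (.leaf []) (.leaf []))) (.node (.node (.leaf [(-3)]) (.leaf [14, 1])) (.leaf [])))))))))

def twoL3 : Janko.Tree (List ℤ) :=
  (.node (.node (.node (.node (.node (.node (.node (.node (.node (.leaf []) (.leaf [])) (.node (.leaf [15]) (.leaf []))) (.node (.node (.leaf []) (.leaf [(-140), 17])) (.node (.leaf []) (.leaf [(-249), 56])))) (.node (.node (.node (.leaf []) (.leaf [935, (-142)])) (.node (.leaf []) (.leaf [(-7376), 1438]))) (.node (.node (.leaf [(-3)]) (.leaf [])) (.node (.leaf [(-266), 70]) (.leaf [5]))))) (.node (.node (.node (.node (.leaf []) (.leaf [])) (.node (.leaf []) (.leaf [(-79), 11]))) (.node (.node (.leaf []) (.leaf [])) (.node (.leaf [3]) (.leaf [(-5852), 1095])))) (.node (.node (.node (.leaf [2]) (.leaf [3])) (.node (.leaf []) (.leaf [(-64), 13])))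 (.node (.node (.leaf []) (.leaf [])) (.leaf [75, (-16)]))))) (.node (.node (.node (.node (.node (.leaf []) (.leaf [])) (.node (.leaf [(-3)]) (.leaf [(-2)]))) (.node (.node (.leaf []) (.leaf [(-528), 90])) (.node (.leaf [127, (-20)]) (.leaf [(-1569), 270])))) (.node (.node (.node (.leaf []) (.leaf [])) (.node (.leaf []) (.leaf [(-4)]))) (.node (.node (.leaf [(-43), 5]) (.leaf [130, (-24)])) (.leaf [(-2), 1])))) (.node (.node (.node (.node (.leaf []) (.leaf [(-2)])) (.node (.leaf []) (.leaf [119, (-12)]))) (.node (.node (.leaf []) (.leaf [(-18597), 4024])) (.node (.leaf [(-5)]) (.leaf [(-697), 149])))) (.node (.node (.node (.leaf []) (.leaf [])) (.node (.leaf []) (.leaf [(-168), 27]))) (.node (.node (.leaf [818, (-114)]) (.leaf [3717, (-663)])) (.leaf [])))))) (.node (.node (.node (.node (.node (.node (.leaf []) (.leaf [])) (.node (.leaf []) (.leaf [(-341), 70]))) (.node (.node (.leaf []) (.leaf [])) (.node (.leaf []) (.leaf [301, (-70)])))) (.node (.node (.node (.leaf []) (.leaf [])) (.node (.leaf [(-3)]) (.leaf [4125, (-823)]))) (.node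 (.node (.leaf []) (.leaf [181, (-37)])) (.leaf [])))) (.node (.node (.node (.node (.leaf []) (.leaf [(-1020), 163])) (.node (.leaf []) (.leaf [36, (-10)]))) (.node (.node (.leaf []) (.leaf [20, (-2)])) (.node (.leaf []) (.leaf [4087, (-693)])))) (.node (.node (.node (.leaf []) (.leaf [(-2502), 476])) (.node (.leaf []) (.leaf [58, (-13)]))) (.node (.node (.leaf []) (.leaf [(-6), (-2)])) (.leaf []))))) (.node (.node (.node (.node (.node (.leaf []) (.leaf [])) (.node (.leaf [3]) (.leaf [(-28), 28]))) (.node (.node (.leaf []) (.leaf [])) (.node (.leaf []) (.leaf [(-960), 365])))) (.node (.node (.node (.leaf []) (.leaf [1779, (-352)])) (.node (.leaf [(-251), 33]) (.leaf []))) (.node (.node (.leaf []) (.leaf [])) (.leaf [(-2)])))) (.node (.node (.node (.node (.leaf []) (.leaf [2])) (.node (.leaf []) (.leaf [(-56), 10]))) (.node (.node (.leaf []) (.leaf [39, (-3)])) (.node (.leaf []) (.leaf [])))) (.node (.node (.node (.leaf []) (.leaf [5, 2])) (.node (.leaf []) (.leaf [(-540), 82]))) (.node (.node (.leaf []) (.leaf [339, (-80)])) (.leaf [5,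 (-3)]))))))) (.node (.node (.node (.node (.node (.node (.node (.leaf []) (.leaf [3])) (.node (.leaf []) (.leaf [(-3182), 556]))) (.node (.node (.leaf [2]) (.leaf [(-5)])) (.node (.leaf [1085, (-199)]) (.leaf [2])))) (.node (.node (.node (.leaf []) (.leaf [(-53), 15])) (.node (.leaf [2]) (.leaf []))) (.node (.node (.leaf []) (.leaf [64, (-13)])) (.leaf [])))) (.node (.node (.node (.node (.leaf []) (.leaf [(-1206), 213])) (.node (.leaf [(-6339), 1246]) (.leaf []))) (.node (.node (.leaf []) (.leaf [(-365), 105])) (.node (.leaf []) (.leaf [2673, (-651)])))) (.node (.node (.node (.leaf []) (.leaf [])) (.node (.leaf []) (.leaf [50, (-8)]))) (.node (.node (.leaf []) (.leaf [(-1)])) (.leaf [(-1306), 240]))))) (.node (.node (.node (.node (.node (.leaf [2]) (.leaf [9, (-3)])) (.node (.leaf [(-2)]) (.leaf [43, (-4)]))) (.node (.node (.leaf []) (.leaf [])) (.node (.leaf []) (.leaf [(-362), 77])))) (.node (.node (.node (.leaf []) (.leaf [])) (.node (.leaf [38, (-9)]) (.leaf []))) (.node (.node (.leaf []) (.leaf [])) (.leaf [])))) (.node (.node (.node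 (.node (.leaf [(-3)]) (.leaf [3])) (.node (.leaf []) (.leaf [19743, (-3594)]))) (.node (.node (.leaf []) (.leaf [])) (.node (.leaf []) (.leaf [509, (-80)])))) (.node (.node (.node (.leaf []) (.leaf [(-43), 4])) (.node (.leaf []) (.leaf [(-338), 53]))) (.node (.node (.leaf []) (.leaf [(-2451), 485])) (.leaf [])))))) (.node (.node (.node (.node (.node (.node (.leaf []) (.leaf [])) (.node (.leaf []) (.leaf [4]))) (.node (.node (.leaf [(-1)]) (.leaf [(-1754), 306])) (.node (.leaf [1]) (.leaf [(-298), 18])))) (.node (.node (.node (.leaf []) (.leaf [])) (.node (.leaf []) (.leaf []))) (.node (.node (.leaf []) (.leaf [235, (-38)])) (.leaf [])))) (.node (.node (.node (.node (.leaf []) (.leaf [14, (-2)])) (.node (.leaf [2]) (.leaf []))) (.node (.node (.leaf []) (.leaf [3227, (-564)])) (.node (.leaf []) (.leaf [])))) (.node (.node (.node (.leaf []) (.leaf [])) (.node (.leaf []) (.leaf [(-7816), 1505]))) (.node (.node (.leaf []) (.leaf [])) (.leaf [4]))))) (.node (.node (.node (.node (.node (.leaf []) (.leaf [])) (.node (.leaf [11533, (-2147)])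 (.leaf [(-692), 122]))) (.node (.node (.leaf []) (.leaf [])) (.node (.leaf []) (.leaf [])))) (.node (.node (.node (.leaf []) (.leaf [])) (.node (.leaf []) (.leaf [1396, (-283)]))) (.node (.node (.leaf []) (.leaf [(-35), 2])) (.leaf [])))) (.node (.node (.node (.node (.leaf []) (.leaf [42, (-8)])) (.node (.leaf []) (.leaf [314, (-62)]))) (.node (.node (.leaf []) (.leaf [0, 2])) (.node (.leaf [(-571), 98]) (.leaf [357, (-79)])))) (.node (.node (.node (.leaf []) (.leaf [(-4)])) (.node (.leaf []) (.leaf []))) (.node (.node (.leaf []) (.leaf [907, (-160)])) (.leaf [137, (-38)])))))))) (.node (.node (.node (.node (.node (.node (.node (.node (.leaf []) (.leaf [])) (.node (.leaf []) (.leaf [(-2), 1]))) (.node (.node (.leaf []) (.leaf [(-43), 8])) (.node (.leaf [2]) (.leaf [537, (-82)])))) (.node (.node (.node (.leaf []) (.leaf [])) (.node (.leaf []) (.leaf [4]))) (.node (.node (.leaf []) (.leaf [])) (.node (.leaf []) (.leaf [4]))))) (.node (.node (.node (.node (.leaf []) (.leaf [])) (.node (.leaf [(-503), 90]) (.leaf [1714, (-345)]))) (.node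 (.node (.leaf []) (.leaf [])) (.node (.leaf []) (.leaf [1054, (-170)])))) (.node (.node (.node (.leaf []) (.leaf [3349, (-627)])) (.node (.leaf [(-1)]) (.leaf [756, (-138)]))) (.node (.node (.leaf []) (.leaf [2826, (-563)])) (.leaf [3]))))) (.node (.node (.node (.node (.node (.leaf []) (.leaf [])) (.node (.leaf [7, 2]) (.leaf [(-208), 38]))) (.node (.node (.leaf [(-2)]) (.leaf [2])) (.node (.leaf []) (.leaf [(-2), 1])))) (.node (.node (.node (.leaf []) (.leaf [])) (.node (.leaf []) (.leaf [(-2)]))) (.node (.node (.leaf []) (.leaf [])) (.leaf [])))) (.node (.node (.node (.node (.leaf []) (.leaf [(-25), 2])) (.node (.leaf []) (.leaf [(-11), 3]))) (.node (.node (.leaf []) (.leaf [])) (.node (.leaf [(-366), 53]) (.leaf [(-183), 22])))) (.node (.node (.node (.leaf []) (.leaf [])) (.node (.leaf []) (.leaf []))) (.node (.node (.leaf [27922, (-5202)]) (.leaf [(-2826), 563])) (.leaf [(-5)])))))) (.node (.node (.node (.node (.node (.node (.leaf []) (.leaf [])) (.node (.leaf []) (.leaf []))) (.node (.node (.leaf [(-3)]) (.leaf [(-930), 154]))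 (.node (.leaf []) (.leaf [18, (-14)])))) (.node (.node (.node (.leaf []) (.leaf [1076, (-193)])) (.node (.leaf [(-1)]) (.leaf []))) (.node (.node (.leaf []) (.leaf [(-3)])) (.leaf [(-3)])))) (.node (.node (.node (.node (.leaf []) (.leaf [])) (.node (.leaf []) (.leaf [9, 1]))) (.node (.node (.leaf []) (.leaf [(-3)])) (.node (.leaf []) (.leaf [(-349), 37])))) (.node (.node (.node (.leaf []) (.leaf [54, (-10)])) (.node (.leaf []) (.leaf []))) (.node (.node (.leaf [(-2)]) (.leaf [771, (-167)])) (.leaf []))))) (.node (.node (.node (.node (.node (.leaf []) (.leaf [])) (.node (.leaf []) (.leaf [216, (-31)]))) (.node (.node (.leaf []) (.leaf [])) (.node (.leaf []) (.leaf [113, (-25)])))) (.node (.node (.node (.leaf []) (.leaf [4])) (.node (.leaf []) (.leaf []))) (.node (.node (.leaf []) (.leaf [])) (.leaf [])))) (.node (.node (.node (.node (.leaf []) (.leaf [])) (.node (.leaf []) (.leaf []))) (.node (.node (.leaf []) (.leaf [1577, (-330)])) (.node (.leaf [(-3)]) (.leaf [4298, (-726)])))) (.node (.node (.node (.leaf []) (.leaf [150, (-30)]))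 (.node (.leaf []) (.leaf [3674, (-642)]))) (.node (.node (.leaf []) (.leaf [44, (-10)])) (.leaf [456, (-77)]))))))) (.node (.node (.node (.node (.node (.node (.node (.leaf []) (.leaf [3, (-1)])) (.node (.leaf []) (.leaf [1302, (-218)]))) (.node (.node (.leaf []) (.leaf [(-2)])) (.node (.leaf [28875, (-5220)]) (.leaf [(-2923), 280])))) (.node (.node (.node (.leaf []) (.leaf [(-2)])) (.node (.leaf []) (.leaf [(-13), 1]))) (.node (.node (.leaf []) (.leaf [])) (.leaf [])))) (.node (.node (.node (.node (.leaf []) (.leaf [])) (.node (.leaf [2]) (.leaf [127, (-25)]))) (.node (.node (.leaf []) (.leaf [])) (.node (.leaf []) (.leaf [])))) (.node (.node (.node (.leaf []) (.leaf [])) (.node (.leaf []) (.leaf [364, (-62)]))) (.node (.node (.leaf []) (.leaf [5])) (.leaf []))))) (.node (.node (.node (.node (.node (.leaf []) (.leaf [])) (.node (.leaf []) (.leaf [6241, (-1188)]))) (.node (.node (.leaf []) (.leaf [])) (.node (.leaf [210, (-33)]) (.leaf [(-4)])))) (.node (.node (.node (.leaf []) (.leaf [(-548), 90])) (.node (.leaf []) (.leaf []))) (.node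 (.node (.leaf []) (.leaf [(-198), 33])) (.leaf [])))) (.node (.node (.node (.node (.leaf []) (.leaf [])) (.node (.leaf [(-2)]) (.leaf [(-355), 74]))) (.node (.node (.leaf []) (.leaf [])) (.node (.leaf []) (.leaf [808, (-94)])))) (.node (.node (.node (.leaf []) (.leaf [(-34), 3])) (.node (.leaf [(-87), 9]) (.leaf [(-39), 3]))) (.node (.node (.leaf [5885, (-1113)]) (.leaf [])) (.leaf [])))))) (.node (.node (.node (.node (.node (.node (.leaf []) (.leaf [])) (.node (.leaf []) (.leaf []))) (.node (.node (.leaf []) (.leaf [(-2)])) (.node (.leaf [(-3), 3]) (.leaf [12103, (-2351)])))) (.node (.node (.node (.leaf []) (.leaf [(-75), 17])) (.node (.leaf [(-2)]) (.leaf []))) (.node (.node (.leaf []) (.leaf [3])) (.leaf [(-10), 2])))) (.node (.node (.node (.node (.leaf []) (.leaf [])) (.node (.leaf []) (.leaf []))) (.node (.node (.leaf []) (.leaf [])) (.node (.leaf []) (.leaf [(-159), 26])))) (.node (.node (.node (.leaf []) (.leaf [])) (.node (.leaf []) (.leaf [0, (-3)]))) (.node (.node (.leaf []) (.leaf [227, (-45)])) (.leaf [4]))))) (.node (.node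 (.node (.node (.node (.leaf []) (.leaf [])) (.node (.leaf []) (.leaf []))) (.node (.node (.leaf []) (.leaf [(-3)])) (.node (.leaf []) (.leaf [(-35), 12])))) (.node (.node (.node (.leaf [1]) (.leaf [])) (.node (.leaf [(-1)]) (.leaf [(-7), 1]))) (.node (.node (.leaf []) (.leaf [565, (-98)])) (.leaf [])))) (.node (.node (.node (.node (.leaf []) (.leaf [])) (.node (.leaf []) (.leaf []))) (.node (.node (.leaf []) (.leaf [])) (.node (.leaf [2]) (.leaf [(-642), 101])))) (.node (.node (.node (.leaf [2]) (.leaf [])) (.node (.leaf [(-3)]) (.leaf [3517, (-666)]))) (.node (.node (.leaf []) (.leaf [15])) (.leaf [])))))))))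

def twoL4 : Janko.Tree (List ℤ) :=
  (.node (.node (.node (.node (.node (.node (.node (.node (.node (.leaf []) (.leaf [4])) (.node (.leaf []) (.leaf [(-1)]))) (.node (.node (.leaf []) (.leaf [])) (.node (.leaf []) (.leaf [48, (-9)])))) (.node (.node (.node (.leaf []) (.leaf [])) (.node (.leaf []) (.leaf [445, (-77)]))) (.node (.node (.leaf []) (.leaf [757, (-138)])) (.node (.leaf []) (.leaf [2]))))) (.node (.node (.node (.node (.leaf []) (.leaf [55, (-13)])) (.node (.leaf []) (.leaf [71, 41]))) (.node (.node (.leaf []) (.leaf [181, (-32)])) (.node (.leaf []) (.leaf [3])))) (.node (.node (.node (.leaf []) (.leaf [381, (-42)])) (.node (.leaf []) (.leaf []))) (.node (.node (.leaf []) (.leaf [553, (-98)])) (.leaf [44, (-11)]))))) (.node (.node (.node (.node (.node (.leaf []) (.leaf [(-1)])) (.node (.leaf []) (.leaf []))) (.node (.node (.leaf []) (.leaf [])) (.node (.leaf []) (.leaf [3966, (-761)])))) (.node (.node (.node (.leaf []) (.leaf [3, 2])) (.node (.leaf [1]) (.leaf [1898, (-284)]))) (.node (.node (.leaf []) (.leaf [])) (.leaf []))))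 (.node (.node (.node (.node (.leaf []) (.leaf [474, (-82)])) (.node (.leaf []) (.leaf [1156, (-333)]))) (.node (.node (.leaf []) (.leaf [(-833), 147])) (.node (.leaf []) (.leaf [33, (-9)])))) (.node (.node (.node (.leaf []) (.leaf [(-417), 48])) (.node (.leaf []) (.leaf [(-164), 26]))) (.node (.node (.leaf []) (.leaf [])) (.leaf [457, (-95)])))))) (.node (.node (.node (.node (.node (.node (.leaf []) (.leaf [(-33), 17])) (.node (.leaf []) (.leaf [6, (-1)]))) (.node (.node (.leaf [4]) (.leaf [1418, (-243)])) (.node (.leaf []) (.leaf [(-5334), 1051])))) (.node (.node (.node (.leaf []) (.leaf [21436, (-3876)])) (.node (.leaf []) (.leaf [(-14232), 2666]))) (.node (.node (.leaf [(-1)]) (.leaf [])) (.leaf [(-1321), 215])))) (.node (.node (.node (.node (.leaf []) (.leaf [356, (-74)])) (.node (.leaf []) (.leaf [1291, (-186)]))) (.node (.node (.leaf []) (.leaf [(-19), 3])) (.node (.leaf [(-1)]) (.leaf [29, (-2)])))) (.node (.node (.node (.leaf []) (.leaf [])) (.node (.leaf [16, (-1)]) (.leaf [320, (-89)]))) (.node (.node (.leaf []) (.leaf [1]))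 (.leaf [41, (-4)]))))) (.node (.node (.node (.node (.node (.leaf []) (.leaf [])) (.node (.leaf []) (.leaf [(-19), 5]))) (.node (.node (.leaf []) (.leaf [])) (.node (.leaf [(-54), 3]) (.leaf [(-616), 144])))) (.node (.node (.node (.leaf []) (.leaf [])) (.node (.leaf []) (.leaf []))) (.node (.node (.leaf []) (.leaf [])) (.leaf [(-6343), 1247])))) (.node (.node (.node (.node (.leaf []) (.leaf [])) (.node (.leaf [3]) (.leaf []))) (.node (.node (.leaf []) (.leaf [4])) (.node (.leaf []) (.leaf [(-202), 55])))) (.node (.node (.node (.leaf []) (.leaf [(-3791), 688])) (.node (.leaf [936, (-142)]) (.leaf [(-3985), 780]))) (.node (.node (.leaf []) (.leaf [(-69), 10])) (.leaf [6, (-4)]))))))) (.node (.node (.node (.node (.node (.node (.node (.leaf []) (.leaf [])) (.node (.leaf []) (.leaf [1422, (-218)]))) (.node (.node (.leaf []) (.leaf [])) (.node (.leaf []) (.leaf [(-1)])))) (.node (.node (.node (.leaf []) (.leaf [1])) (.node (.leaf []) (.leaf [(-1), 2]))) (.node (.node (.leaf []) (.leaf [(-4), 3])) (.leaf [])))) (.node (.node (.node (.node (.leaf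 []) (.leaf [5413, (-991)])) (.node (.leaf []) (.leaf [(-201), 41]))) (.node (.node (.leaf []) (.leaf [4])) (.node (.leaf [(-34), 4]) (.leaf [(-173), 19])))) (.node (.node (.node (.leaf []) (.leaf [(-37), 4])) (.node (.leaf []) (.leaf [32, (-6)]))) (.node (.node (.leaf [(-11532), 2147]) (.leaf [(-4), 1])) (.leaf [1]))))) (.node (.node (.node (.node (.node (.leaf []) (.leaf [4])) (.node (.leaf []) (.leaf []))) (.node (.node (.leaf [1]) (.leaf [4])) (.node (.leaf []) (.leaf [40, 17])))) (.node (.node (.node (.leaf []) (.leaf [110, (-13)])) (.node (.leaf [36, (-6)]) (.leaf [54, (-15)]))) (.node (.node (.leaf []) (.leaf [(-1)])) (.leaf [])))) (.node (.node (.node (.node (.leaf []) (.leaf [])) (.node (.leaf [1]) (.leaf [(-106), 14]))) (.node (.node (.leaf []) (.leaf [(-4268), 778])) (.node (.leaf []) (.leaf [400, (-86)])))) (.node (.node (.node (.leaf []) (.leaf [])) (.node (.leaf []) (.leaf [13, (-2)]))) (.node (.node (.leaf []) (.leaf [6689, (-1287)])) (.leaf [])))))) (.node (.node (.node (.node (.node (.node (.leaf []) (.leaf [230, (-40)]))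 (.node (.leaf []) (.leaf [(-18246), 2688]))) (.node (.node (.leaf []) (.leaf [])) (.node (.leaf []) (.leaf [636, (-157)])))) (.node (.node (.node (.leaf [1]) (.leaf [(-2592), 503])) (.node (.leaf []) (.leaf [4]))) (.node (.node (.leaf []) (.leaf [])) (.leaf [])))) (.node (.node (.node (.node (.leaf [1]) (.leaf [])) (.node (.leaf []) (.leaf [(-2068), 415]))) (.node (.node (.leaf []) (.leaf [11018, (-2609)])) (.node (.leaf [4, 1]) (.leaf [])))) (.node (.node (.node (.leaf []) (.leaf [(-143), 20])) (.node (.leaf []) (.leaf [3]))) (.node (.node (.leaf [1]) (.leaf [523, (-91)])) (.leaf [(-56), 13]))))) (.node (.node (.node (.node (.node (.leaf [2]) (.leaf [])) (.node (.leaf []) (.leaf [78, (-13)]))) (.node (.node (.leaf [(-4)]) (.leaf [407, (-43)])) (.node (.leaf [(-2), (-3)]) (.leaf [(-22528), 4133])))) (.node (.node (.node (.leaf []) (.leaf [(-1098), 168])) (.node (.leaf []) (.leaf [(-45), 10]))) (.node (.node (.leaf []) (.leaf [(-4)])) (.leaf [19, (-7)])))) (.node (.node (.node (.node (.leaf []) (.leaf [13, (-2)])) (.node (.leaf []) (.leaf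 [(-50), 9]))) (.node (.node (.leaf []) (.leaf [(-142), 29])) (.node (.leaf []) (.leaf [(-79), 15])))) (.node (.node (.node (.leaf []) (.leaf [21347, (-3889)])) (.node (.leaf []) (.leaf [1695, (-363)]))) (.node (.node (.leaf [(-1)]) (.leaf [(-220), 22])) (.leaf [])))))))) (.node (.node (.node (.node (.node (.node (.node (.node (.leaf []) (.leaf [7, (-5)])) (.node (.leaf []) (.leaf [(-630), 152]))) (.node (.node (.leaf []) (.leaf [(-3)])) (.node (.leaf []) (.leaf [18618, (-3999)])))) (.node (.node (.node (.leaf []) (.leaf [])) (.node (.leaf []) (.leaf [6, 5]))) (.node (.node (.leaf []) (.leaf [])) (.node (.leaf [(-4)]) (.leaf [0, 1]))))) (.node (.node (.node (.node (.leaf []) (.leaf [(-3465), 687])) (.node (.leaf []) (.leaf [31, (-19)]))) (.node (.node (.leaf []) (.leaf [(-3)])) (.node (.leaf [135, 302]) (.leaf [3144, (-652)])))) (.node (.node (.node (.leaf []) (.leaf [(-254), 79])) (.node (.leaf [(-654), 106]) (.leaf [194, (-35)]))) (.node (.node (.leaf []) (.leaf [655, (-150)])) (.leaf []))))) (.node (.node (.node (.node (.node (.leaf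 []) (.leaf [(-39), 5])) (.node (.leaf []) (.leaf [18401, (-3199)]))) (.node (.node (.leaf []) (.leaf [])) (.node (.leaf [(-10), 5]) (.leaf [(-1708), 270])))) (.node (.node (.node (.leaf []) (.leaf [250, (-41)])) (.node (.leaf []) (.leaf [280, (-46)]))) (.node (.node (.leaf []) (.leaf [6063, (-877)])) (.leaf [])))) (.node (.node (.node (.node (.leaf []) (.leaf [1])) (.node (.leaf []) (.leaf [(-56860), 10548]))) (.node (.node (.leaf [1]) (.leaf [(-936), 142])) (.node (.leaf [(-97), 18]) (.leaf [2554, (-499)])))) (.node (.node (.node (.leaf [1]) (.leaf [(-20), 2])) (.node (.leaf []) (.leaf [(-134), 20]))) (.node (.node (.leaf []) (.leaf [133, (-26)])) (.leaf [])))))) (.node (.node (.node (.node (.node (.node (.leaf [1]) (.leaf [])) (.node (.leaf []) (.leaf [(-1)]))) (.node (.node (.leaf []) (.leaf [])) (.node (.leaf []) (.leaf [(-658), 150])))) (.node (.node (.node (.leaf []) (.leaf [])) (.node (.leaf []) (.leaf [790, (-145)]))) (.node (.node (.leaf []) (.leaf [(-78), 13])) (.leaf [(-16), 3])))) (.node (.node (.node (.node (.leaf []) (.leaf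 [(-406), 41])) (.node (.leaf []) (.leaf [(-540), 110]))) (.node (.node (.leaf []) (.leaf [32, (-5)])) (.node (.leaf []) (.leaf [(-4), 1])))) (.node (.node (.node (.leaf []) (.leaf [])) (.node (.leaf []) (.leaf [(-1)]))) (.node (.node (.leaf []) (.leaf [(-24572), 4406])) (.leaf [(-1)]))))) (.node (.node (.node (.node (.node (.leaf []) (.leaf [3968, (-756)])) (.node (.leaf []) (.leaf []))) (.node (.node (.leaf [(-78), 18]) (.leaf [37, (-18)])) (.node (.leaf [(-4763), 925]) (.leaf [])))) (.node (.node (.node (.leaf []) (.leaf [255, (-15)])) (.node (.leaf []) (.leaf [5344, (-1050)]))) (.node (.node (.leaf [796, (-132)]) (.leaf [(-748), 123])) (.leaf [0, (-3)])))) (.node (.node (.node (.node (.leaf []) (.leaf [46, (-5)])) (.node (.leaf []) (.leaf [265, (-43)]))) (.node (.node (.leaf []) (.leaf [])) (.node (.leaf [2, 3]) (.leaf [365, (-77)])))) (.node (.node (.node (.leaf []) (.leaf [])) (.node (.leaf []) (.leaf [4]))) (.node (.node (.leaf []) (.leaf [])) (.leaf [(-99), 18]))))))) (.node (.node (.node (.node (.node (.node (.node (.leaf [])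 (.leaf [])) (.node (.leaf []) (.leaf [(-567), 101]))) (.node (.node (.leaf []) (.leaf [4568, (-863)])) (.node (.leaf []) (.leaf [823, (-162)])))) (.node (.node (.node (.leaf []) (.leaf [2, 2])) (.node (.leaf [4]) (.leaf [35, (-3)]))) (.node (.node (.leaf [(-6367), 1158]) (.leaf [])) (.leaf [(-47), 9])))) (.node (.node (.node (.node (.leaf []) (.leaf [])) (.node (.leaf []) (.leaf []))) (.node (.node (.leaf []) (.leaf [(-134), 26])) (.node (.leaf []) (.leaf [3639, (-387)])))) (.node (.node (.node (.leaf []) (.leaf [])) (.node (.leaf []) (.leaf [4]))) (.node (.node (.leaf []) (.leaf [])) (.leaf [(-242), 37]))))) (.node (.node (.node (.node (.node (.leaf []) (.leaf [])) (.node (.leaf [1]) (.leaf [2921, (-610)]))) (.node (.node (.leaf []) (.leaf [])) (.node (.leaf [4]) (.leaf [(-299), (-14)])))) (.node (.node (.node (.leaf []) (.leaf [1])) (.node (.leaf [10, (-3)]) (.leaf [29835, (-5303)]))) (.node (.node (.leaf []) (.leaf [])) (.leaf [])))) (.node (.node (.node (.node (.leaf []) (.leaf [31, (-9)])) (.node (.leaf [(-50), 7]) (.leaf [])))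 (.node (.node (.leaf []) (.leaf [71, (-15)])) (.node (.leaf []) (.leaf [13494, (-2500)])))) (.node (.node (.node (.leaf []) (.leaf [3])) (.node (.leaf []) (.leaf []))) (.node (.node (.leaf []) (.leaf [4])) (.leaf [])))))) (.node (.node (.node (.node (.node (.node (.leaf []) (.leaf [(-32), 1])) (.node (.leaf []) (.leaf [265, (-39)]))) (.node (.node (.leaf []) (.leaf [21, 3])) (.node (.leaf [1]) (.leaf [(-12), 7])))) (.node (.node (.node (.leaf []) (.leaf [])) (.node (.leaf []) (.leaf [(-14), 5]))) (.node (.node (.leaf []) (.leaf [])) (.leaf [])))) (.node (.node (.node (.node (.leaf []) (.leaf [(-503), 85])) (.node (.leaf [(-381), 65]) (.leaf [28, (-1)]))) (.node (.node (.leaf []) (.leaf [(-25), (-3)])) (.node (.leaf [(-1)]) (.leaf [24, (-2)])))) (.node (.node (.node (.leaf []) (.leaf [431, (-75)])) (.node (.leaf []) (.leaf [(-7), (-1)]))) (.node (.node (.leaf []) (.leaf [])) (.leaf [(-493), 142]))))) (.node (.node (.node (.node (.node (.leaf []) (.leaf [(-26123), 4637])) (.node (.leaf []) (.leaf []))) (.node (.node (.leaf []) (.leaf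 [165, (-32)])) (.node (.leaf [1]) (.leaf [4107, (-845)])))) (.node (.node (.node (.leaf []) (.leaf [(-22), 1])) (.node (.leaf []) (.leaf []))) (.node (.node (.leaf []) (.leaf [])) (.leaf [(-2)])))) (.node (.node (.node (.node (.leaf []) (.leaf [(-1)])) (.node (.leaf [(-4)]) (.leaf []))) (.node (.node (.leaf []) (.leaf [])) (.node (.leaf []) (.leaf [(-4004), 700])))) (.node (.node (.node (.leaf []) (.leaf [(-4985), 1002])) (.node (.leaf [(-5), 5]) (.leaf [(-91), 15]))) (.node (.node (.leaf []) (.leaf [9, 1])) (.leaf [])))))))))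

def twoL5 : Janko.Tree (List ℤ) :=
  (.node (.node (.node (.node (.node (.node (.node (.node (.node (.leaf []) (.leaf [])) (.node (.leaf []) (.leaf []))) (.node (.node (.leaf [(-3)]) (.leaf [(-216), 31])) (.node (.leaf []) (.leaf [(-2)])))) (.node (.node (.node (.leaf [(-1)]) (.leaf [932, (-132)])) (.node (.leaf []) (.leaf [(-6481), 1233]))) (.node (.node (.leaf [1]) (.leaf [])) (.node (.leaf [(-128), 22]) (.leaf [(-1)]))))) (.node (.node (.node (.node (.leaf []) (.leaf [])) (.node (.leaf []) (.leaf [(-530), 149]))) (.node (.node (.leaf []) (.leaf [3811, (-695)])) (.node (.leaf []) (.leaf [742, (-126)])))) (.node (.node (.node (.leaf []) (.leaf [])) (.node (.leaf []) (.leaf [13, 34]))) (.node (.node (.leaf []) (.leaf [(-1), (-2)])) (.leaf []))))) (.node (.node (.node (.node (.node (.leaf []) (.leaf [(-35), 1])) (.node (.leaf []) (.leaf [(-963), 155]))) (.node (.node (.leaf [3]) (.leaf [])) (.node (.leaf [38, (-4)]) (.leaf [(-1)])))) (.node (.node (.node (.leaf []) (.leaf [])) (.node (.leaf []) (.leaf []))) (.node (.node (.leaf [(-202),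 56]) (.leaf [6, (-5)])) (.leaf [])))) (.node (.node (.node (.node (.leaf [(-2)]) (.leaf [(-15), 2])) (.node (.leaf [(-3)]) (.leaf [264, (-160)]))) (.node (.node (.leaf []) (.leaf [(-72), 6])) (.node (.leaf [(-1)]) (.leaf [3])))) (.node (.node (.node (.leaf []) (.leaf [(-380), 42])) (.node (.leaf [(-1)]) (.leaf [4]))) (.node (.node (.leaf []) (.leaf [1])) (.leaf [(-5)])))))) (.node (.node (.node (.node (.node (.node (.leaf []) (.leaf [78, (-4)])) (.node (.leaf [(-2)]) (.leaf [192, (-27)]))) (.node (.node (.leaf []) (.leaf [])) (.node (.leaf []) (.leaf [(-12210), 2374])))) (.node (.node (.node (.leaf []) (.leaf [])) (.node (.leaf [12, (-2)]) (.leaf [(-818), 145]))) (.node (.node (.leaf []) (.leaf [])) (.leaf [(-3960), 679])))) (.node (.node (.node (.node (.leaf []) (.leaf [])) (.node (.leaf [(-3)]) (.leaf []))) (.node (.node (.leaf []) (.leaf [(-600), 97])) (.node (.leaf [(-5), 2]) (.leaf [548, (-91)])))) (.node (.node (.node (.leaf []) (.leaf [(-44635), 8212])) (.node (.leaf []) (.leaf []))) (.node (.node (.leaf [3]) (.leaf [3506, (-697)]))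 (.leaf [2]))))) (.node (.node (.node (.node (.node (.leaf []) (.leaf [])) (.node (.leaf []) (.leaf [(-235), 53]))) (.node (.node (.leaf [2]) (.leaf [(-2)])) (.node (.leaf []) (.leaf [28, 9])))) (.node (.node (.node (.leaf []) (.leaf [36, (-3)])) (.node (.leaf [4]) (.leaf [(-276), 45]))) (.node (.node (.leaf []) (.leaf [])) (.leaf [1472, (-260)])))) (.node (.node (.node (.node (.leaf [2]) (.leaf [28, (-9)])) (.node (.leaf []) (.leaf [(-4)]))) (.node (.node (.leaf []) (.leaf [5, (-1)])) (.node (.leaf []) (.leaf [(-832), 136])))) (.node (.node (.node (.leaf []) (.leaf [14, (-2)])) (.node (.leaf []) (.leaf [(-3940), 790]))) (.node (.node (.leaf [(-20), 2]) (.leaf [2])) (.leaf [62, (-13)]))))))) (.node (.node (.node (.node (.node (.node (.node (.leaf []) (.leaf [])) (.node (.leaf []) (.leaf [1223, (-180)]))) (.node (.node (.leaf []) (.leaf [])) (.node (.leaf []) (.leaf [])))) (.node (.node (.node (.leaf []) (.leaf [])) (.node (.leaf [(-211), 33]) (.leaf []))) (.node (.node (.leaf []) (.leaf [(-659), 116])) (.leaf [])))) (.node (.node (.node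 (.node (.leaf []) (.leaf [11159, (-2064)])) (.node (.leaf []) (.leaf [(-30217), 5389]))) (.node (.node (.leaf []) (.leaf [])) (.node (.leaf [(-270), 47]) (.leaf [(-16), 2])))) (.node (.node (.node (.leaf [(-3)]) (.leaf [(-13), 2])) (.node (.leaf []) (.leaf [(-119), 25]))) (.node (.node (.leaf [(-1)]) (.leaf [(-9495), 1922])) (.leaf [(-7), (-2)]))))) (.node (.node (.node (.node (.node (.leaf []) (.leaf [35, (-6)])) (.node (.leaf []) (.leaf []))) (.node (.node (.leaf []) (.leaf [(-1552), 319])) (.node (.leaf []) (.leaf [(-2303), 330])))) (.node (.node (.node (.leaf [(-3)]) (.leaf [205, (-31)])) (.node (.leaf []) (.leaf []))) (.node (.node (.leaf []) (.leaf [(-4), (-3)])) (.leaf [18, (-1)])))) (.node (.node (.node (.node (.leaf [1]) (.leaf [])) (.node (.leaf []) (.leaf [(-110), 11]))) (.node (.node (.leaf [2]) (.leaf [(-2544), 533])) (.node (.leaf [(-2)]) (.leaf [(-2)])))) (.node (.node (.node (.leaf [2]) (.leaf [(-44), 4])) (.node (.leaf []) (.leaf []))) (.node (.node (.leaf []) (.leaf [(-47), 8])) (.leaf [])))))) (.node (.node (.node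 (.node (.node (.node (.leaf []) (.leaf [])) (.node (.leaf []) (.leaf [(-17917), 2608]))) (.node (.node (.leaf []) (.leaf [171, (-30)])) (.node (.leaf []) (.leaf [])))) (.node (.node (.node (.leaf []) (.leaf [6344, (-1247)])) (.node (.leaf [3]) (.leaf [5, (-1)]))) (.node (.node (.leaf [363, (-61)]) (.leaf [(-89), 15])) (.leaf [407, (-41)])))) (.node (.node (.node (.node (.leaf []) (.leaf [])) (.node (.leaf []) (.leaf [(-2292), 367]))) (.node (.node (.leaf [(-2)]) (.leaf [4326, (-499)])) (.node (.leaf [2]) (.leaf [3])))) (.node (.node (.node (.leaf [(-2)]) (.leaf [(-3)])) (.node (.leaf []) (.leaf [(-4637), 794]))) (.node (.node (.leaf []) (.leaf [(-3606), 383])) (.leaf [1381, (-95)]))))) (.node (.node (.node (.node (.node (.leaf []) (.leaf [(-30), 5])) (.node (.leaf [5267, (-1015)]) (.leaf [(-4)]))) (.node (.node (.leaf []) (.leaf [2])) (.node (.leaf [(-4)]) (.leaf [(-214), 118])))) (.node (.node (.node (.leaf []) (.leaf [(-165), 25])) (.node (.leaf []) (.leaf [(-6016), 1105]))) (.node (.node (.leaf []) (.leaf [])) (.leaf [214, (-42)]))))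 (.node (.node (.node (.node (.leaf []) (.leaf [42, (-5)])) (.node (.leaf []) (.leaf [4]))) (.node (.node (.leaf []) (.leaf [])) (.node (.leaf []) (.leaf [(-3547), 554])))) (.node (.node (.node (.leaf []) (.leaf [])) (.node (.leaf []) (.leaf [6562, (-1395)]))) (.node (.node (.leaf []) (.leaf [8, 2])) (.leaf [])))))))) (.node (.node (.node (.node (.node (.node (.node (.node (.leaf []) (.leaf [])) (.node (.leaf []) (.leaf []))) (.node (.node (.leaf []) (.leaf [])) (.node (.leaf [(-3448), 668]) (.leaf [])))) (.node (.node (.node (.leaf []) (.leaf [])) (.node (.leaf []) (.leaf [(-37), 10]))) (.node (.node (.leaf []) (.leaf [3])) (.node (.leaf [397, (-65)]) (.leaf [(-42), 8]))))) (.node (.node (.node (.node (.leaf []) (.leaf [(-3506), 697])) (.node (.leaf []) (.leaf [165, (-26)]))) (.node (.node (.leaf []) (.leaf [])) (.node (.leaf []) (.leaf [(-4081), 875])))) (.node (.node (.node (.leaf []) (.leaf [])) (.node (.leaf []) (.leaf []))) (.node (.node (.leaf [(-3)]) (.leaf [(-2076), 395])) (.leaf [(-48), 12]))))) (.node (.node (.node (.node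 (.node (.leaf []) (.leaf [(-15)])) (.node (.leaf []) (.leaf []))) (.node (.node (.leaf [177, (-30)]) (.leaf [9, (-2)])) (.node (.leaf [(-6), 3]) (.leaf [(-471), 68])))) (.node (.node (.node (.leaf []) (.leaf [(-2)])) (.node (.leaf []) (.leaf [(-195), 42]))) (.node (.node (.leaf []) (.leaf [12, (-5)])) (.leaf [])))) (.node (.node (.node (.node (.leaf []) (.leaf [])) (.node (.leaf []) (.leaf [(-5047), 999]))) (.node (.node (.leaf []) (.leaf [])) (.node (.leaf []) (.leaf [(-696), 93])))) (.node (.node (.node (.leaf []) (.leaf [])) (.node (.leaf [(-21), 1]) (.leaf [(-2)]))) (.node (.node (.leaf []) (.leaf [197, (-36)])) (.leaf [121, (-35)])))))) (.node (.node (.node (.node (.node (.node (.leaf []) (.leaf [])) (.node (.leaf []) (.leaf [88, (-14)]))) (.node (.node (.leaf []) (.leaf [(-194), 35])) (.node (.leaf [102, (-8)]) (.leaf [(-298), 75])))) (.node (.node (.node (.leaf []) (.leaf [1065, (-188)])) (.node (.leaf []) (.leaf [(-164), 71]))) (.node (.node (.leaf [(-842), 142]) (.leaf [])) (.leaf [56, (-14)])))) (.node (.node (.node (.node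 (.leaf []) (.leaf [2])) (.node (.leaf []) (.leaf [(-2)]))) (.node (.node (.leaf []) (.leaf [])) (.node (.leaf [50, (-8)]) (.leaf [(-459), 81])))) (.node (.node (.node (.leaf []) (.leaf [50, (-8)])) (.node (.leaf []) (.leaf [(-602), 91]))) (.node (.node (.leaf []) (.leaf [(-1234), 232])) (.leaf [38, (-4)]))))) (.node (.node (.node (.node (.node (.leaf [(-3)]) (.leaf [])) (.node (.leaf []) (.leaf [425, (-75)]))) (.node (.node (.leaf []) (.leaf [855, (-138)])) (.node (.leaf []) (.leaf [557, (-123)])))) (.node (.node (.node (.leaf []) (.leaf [(-126), 15])) (.node (.leaf []) (.leaf []))) (.node (.node (.leaf []) (.leaf [(-47), 8])) (.leaf [(-196), 28])))) (.node (.node (.node (.node (.leaf []) (.leaf [(-513), 60])) (.node (.leaf []) (.leaf [(-228), 45]))) (.node (.node (.leaf []) (.leaf [6, (-2)])) (.node (.leaf []) (.leaf [1688, (-210)])))) (.node (.node (.node (.leaf []) (.leaf [(-4)])) (.node (.leaf [2]) (.leaf [1, (-23)]))) (.node (.node (.leaf [2]) (.leaf [42, (-8)])) (.leaf [433, (-76)]))))))) (.node (.node (.node (.node (.node (.node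 (.node (.leaf []) (.leaf [])) (.node (.leaf []) (.leaf []))) (.node (.node (.leaf []) (.leaf [(-33), 25])) (.node (.leaf [2]) (.leaf [1221, (-229)])))) (.node (.node (.node (.leaf [(-2)]) (.leaf [(-43), 10])) (.node (.leaf []) (.leaf [(-2)]))) (.node (.node (.leaf []) (.leaf [10, (-3)])) (.leaf [2])))) (.node (.node (.node (.node (.leaf []) (.leaf [])) (.node (.leaf []) (.leaf []))) (.node (.node (.leaf [(-1)]) (.leaf [(-14), 2])) (.node (.leaf []) (.leaf [3346, (-564)])))) (.node (.node (.node (.leaf [(-1)]) (.leaf [])) (.node (.leaf [(-3741), 618]) (.leaf []))) (.node (.node (.leaf []) (.leaf [(-3631), 688])) (.leaf [(-35), 7]))))) (.node (.node (.node (.node (.node (.leaf []) (.leaf [847, (-170)])) (.node (.leaf []) (.leaf [5042, (-1317)]))) (.node (.node (.leaf []) (.leaf [])) (.node (.leaf []) (.leaf [(-28), 23])))) (.node (.node (.node (.leaf []) (.leaf [])) (.node (.leaf []) (.leaf [29905, (-5313)]))) (.node (.node (.leaf [(-6047), 1138]) (.leaf [])) (.leaf [(-3)])))) (.node (.node (.node (.node (.leaf []) (.leaf [])) (.node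 (.leaf [437, (-130)]) (.leaf [(-5676), 1128]))) (.node (.node (.leaf [(-206), 35]) (.leaf [(-619), 85])) (.node (.leaf []) (.leaf [8222, (-1538)])))) (.node (.node (.node (.leaf []) (.leaf [])) (.node (.leaf []) (.leaf []))) (.node (.node (.leaf [(-3)]) (.leaf [])) (.leaf [])))))) (.node (.node (.node (.node (.node (.node (.leaf []) (.leaf [2])) (.node (.leaf []) (.leaf []))) (.node (.node (.leaf []) (.leaf [(-2), 1])) (.node (.leaf [174, (-27)]) (.leaf [1])))) (.node (.node (.node (.leaf [2]) (.leaf [])) (.node (.leaf []) (.leaf []))) (.node (.node (.leaf []) (.leaf [146, (-20)])) (.leaf [])))) (.node (.node (.node (.node (.leaf [2]) (.leaf [(-3)])) (.node (.leaf [(-130), 24]) (.leaf [1, 2]))) (.node (.node (.leaf []) (.leaf [(-2)])) (.node (.leaf [1, 1]) (.leaf [257, (-63)])))) (.node (.node (.node (.leaf []) (.leaf [1227, (-217)])) (.node (.leaf []) (.leaf [52]))) (.node (.node (.leaf []) (.leaf [(-626), 118])) (.leaf []))))) (.node (.node (.node (.node (.node (.leaf []) (.leaf [])) (.node (.leaf []) (.leaf []))) (.node (.node (.leaf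 []) (.leaf [279, (-47)])) (.node (.leaf [224, (-39)]) (.leaf [41, (-5)])))) (.node (.node (.node (.leaf []) (.leaf [(-1353), 258])) (.node (.leaf []) (.leaf [(-818), 162]))) (.node (.node (.leaf [2]) (.leaf [])) (.leaf [])))) (.node (.node (.node (.node (.leaf [(-3)]) (.leaf [2, 3])) (.node (.leaf []) (.leaf [(-768), 137]))) (.node (.node (.leaf []) (.leaf [(-40), 5])) (.node (.leaf []) (.leaf [650, (-138)])))) (.node (.node (.node (.leaf []) (.leaf [])) (.node (.leaf []) (.leaf [(-2)]))) (.node (.node (.leaf [(-5)]) (.leaf [])) (.leaf [(-3)])))))))))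

def twoL6 : Janko.Tree (List ℤ) :=
  (.node (.node (.node (.node (.node (.node (.node (.node (.node (.leaf []) (.leaf [67, (-85)])) (.node (.leaf [93, (-17)]) (.leaf [1498, (-306)]))) (.node (.node (.leaf []) (.leaf [(-366), 81])) (.node (.leaf []) (.leaf [(-187), 33])))) (.node (.node (.node (.leaf []) (.leaf [(-431), 75])) (.node (.leaf []) (.leaf [26, (-2)]))) (.node (.node (.leaf []) (.leaf [1])) (.node (.leaf []) (.leaf [3]))))) (.node (.node (.node (.node (.leaf []) (.leaf [])) (.node (.leaf []) (.leaf []))) (.node (.node (.leaf []) (.leaf [])) (.node (.leaf []) (.leaf [(-84), 18])))) (.node (.node (.node (.leaf []) (.leaf [])) (.node (.leaf [4]) (.leaf [3, (-1)]))) (.node (.node (.leaf [4]) (.leaf [(-3740), 399])) (.leaf []))))) (.node (.node (.node (.node (.node (.leaf []) (.leaf [])) (.node (.leaf []) (.leaf [(-4294), 856]))) (.node (.node (.leaf []) (.leaf [])) (.node (.leaf []) (.leaf [4244, (-775)])))) (.node (.node (.node (.leaf []) (.leaf [718, (-118)])) (.node (.leaf []) (.leaf [24, (-2)]))) (.node (.node (.leaf [])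 (.leaf [])) (.leaf [10459, (-1745)])))) (.node (.node (.node (.node (.leaf []) (.leaf [(-518), 89])) (.node (.leaf [(-6), (-2)]) (.leaf [(-225), 45]))) (.node (.node (.leaf []) (.leaf [])) (.node (.leaf []) (.leaf [559, (-28)])))) (.node (.node (.node (.leaf []) (.leaf [(-55), 14])) (.node (.leaf []) (.leaf [(-849), 170]))) (.node (.node (.leaf [206, (-56)]) (.leaf [723, (-126)])) (.leaf [41, (-5)])))))) (.node (.node (.node (.node (.node (.node (.leaf []) (.leaf [])) (.node (.leaf []) (.leaf [103, (-7)]))) (.node (.node (.leaf []) (.leaf [(-47), 9])) (.node (.leaf [213, (-32)]) (.leaf [1])))) (.node (.node (.node (.leaf [1]) (.leaf [(-2058), 388])) (.node (.leaf []) (.leaf [11832, (-2217)]))) (.node (.node (.leaf []) (.leaf [(-178), 30])) (.leaf [])))) (.node (.node (.node (.node (.leaf []) (.leaf [])) (.node (.leaf []) (.leaf [65, (-10)]))) (.node (.node (.leaf []) (.leaf [3154, (-588)])) (.node (.leaf [(-272), 47]) (.leaf [1])))) (.node (.node (.node (.leaf []) (.leaf [])) (.node (.leaf [1]) (.leaf [29, (-17)]))) (.node (.node (.leaf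 []) (.leaf [])) (.leaf []))))) (.node (.node (.node (.node (.node (.leaf []) (.leaf [])) (.node (.leaf []) (.leaf []))) (.node (.node (.leaf []) (.leaf [])) (.node (.leaf []) (.leaf [(-334), (-19)])))) (.node (.node (.node (.leaf []) (.leaf [])) (.node (.leaf [(-6), (-2)]) (.leaf []))) (.node (.node (.leaf [(-4)]) (.leaf [(-6), (-2)])) (.leaf [])))) (.node (.node (.node (.node (.leaf []) (.leaf [808, (-131)])) (.node (.leaf []) (.leaf [(-150), 27]))) (.node (.node (.leaf [(-1)]) (.leaf [(-1)])) (.node (.leaf []) (.leaf [(-738), 155])))) (.node (.node (.node (.leaf [(-1)]) (.leaf [129, (-22)])) (.node (.leaf [237, (-33)]) (.leaf [1]))) (.node (.node (.leaf []) (.leaf [(-17), 2])) (.leaf [714, (-130)]))))))) (.node (.node (.node (.node (.node (.node (.node (.leaf []) (.leaf [65, 2])) (.node (.leaf []) (.leaf [650, (-100)]))) (.node (.node (.leaf []) (.leaf [4])) (.node (.leaf []) (.leaf [1])))) (.node (.node (.node (.leaf []) (.leaf [])) (.node (.leaf []) (.leaf []))) (.node (.node (.leaf []) (.leaf [45, (-3)])) (.leaf [])))) (.node (.node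 (.node (.node (.leaf []) (.leaf [])) (.node (.leaf []) (.leaf [(-129), 16]))) (.node (.node (.leaf []) (.leaf [2132, (-440)])) (.node (.leaf [(-2), 2]) (.leaf [2546, (-417)])))) (.node (.node (.node (.leaf []) (.leaf [(-70), 5])) (.node (.leaf [121, (-24)]) (.leaf [(-17), 14]))) (.node (.node (.leaf [1158, (-204)]) (.leaf [(-240), 44])) (.leaf []))))) (.node (.node (.node (.node (.node (.leaf []) (.leaf [(-1)])) (.node (.leaf [(-588), 74]) (.leaf [2]))) (.node (.node (.leaf []) (.leaf [(-2)])) (.node (.leaf []) (.leaf [])))) (.node (.node (.node (.leaf []) (.leaf [])) (.node (.leaf [1, 1]) (.leaf [17, (-20)]))) (.node (.node (.leaf []) (.leaf [0, (-3)])) (.leaf [4])))) (.node (.node (.node (.node (.leaf []) (.leaf [])) (.node (.leaf []) (.leaf []))) (.node (.node (.leaf []) (.leaf [(-1)])) (.node (.leaf [(-2), 2]) (.leaf [(-1705), 635])))) (.node (.node (.node (.leaf []) (.leaf [515, (-85)])) (.node (.leaf []) (.leaf [1]))) (.node (.node (.leaf [(-38), 8]) (.leaf [(-253), 30])) (.leaf [])))))) (.node (.node (.node (.node (.node (.node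 (.leaf []) (.leaf [362, (-62)])) (.node (.leaf []) (.leaf [(-129), 20]))) (.node (.node (.leaf []) (.leaf [(-5971), 1135])) (.node (.leaf [(-190), 20]) (.leaf [(-237), 37])))) (.node (.node (.node (.leaf []) (.leaf [(-246), 45])) (.node (.leaf []) (.leaf [220, (-44)]))) (.node (.node (.leaf []) (.leaf [1])) (.leaf [])))) (.node (.node (.node (.node (.leaf []) (.leaf [])) (.node (.leaf []) (.leaf [104, (-20)]))) (.node (.node (.leaf []) (.leaf [1])) (.node (.leaf [135, (-25)]) (.leaf [30])))) (.node (.node (.node (.leaf []) (.leaf [(-205), 30])) (.node (.leaf []) (.leaf [849, (-196)]))) (.node (.node (.leaf []) (.leaf [(-1)])) (.leaf []))))) (.node (.node (.node (.node (.node (.leaf []) (.leaf [])) (.node (.leaf []) (.leaf [1]))) (.node (.node (.leaf []) (.leaf [(-8), 2])) (.node (.leaf [(-26582), 4856]) (.leaf [71, (-18)])))) (.node (.node (.node (.leaf [(-1)]) (.leaf [90, (-15)])) (.node (.leaf [(-3)]) (.leaf [(-40), 5]))) (.node (.node (.leaf []) (.leaf [(-466), 85])) (.leaf [(-2), (-4)])))) (.node (.node (.node (.node (.leaf [4])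 (.leaf [50, (-5)])) (.node (.leaf []) (.leaf [(-11446), 1780]))) (.node (.node (.leaf []) (.leaf [])) (.node (.leaf []) (.leaf [(-109), 10])))) (.node (.node (.node (.leaf []) (.leaf [])) (.node (.leaf []) (.leaf []))) (.node (.node (.leaf []) (.leaf [(-195), 35])) (.leaf [])))))))) (.node (.node (.node (.node (.node (.node (.node (.node (.leaf []) (.leaf [])) (.node (.leaf []) (.leaf [(-4285), 489]))) (.node (.node (.leaf []) (.leaf [500, (-85)])) (.node (.leaf [(-4068), 763]) (.leaf [])))) (.node (.node (.node (.leaf []) (.leaf [(-340), 70])) (.node (.leaf []) (.leaf []))) (.node (.node (.leaf [(-72), 12]) (.leaf [(-261), 20])) (.node (.leaf []) (.leaf [(-48), 12]))))) (.node (.node (.node (.node (.leaf []) (.leaf [(-634), 103])) (.node (.leaf []) (.leaf []))) (.node (.node (.leaf []) (.leaf [7, (-5)])) (.node (.leaf [1]) (.leaf [(-11), 4])))) (.node (.node (.node (.leaf [4]) (.leaf [1])) (.node (.leaf []) (.leaf [8493, (-1396)]))) (.node (.node (.leaf []) (.leaf [])) (.leaf []))))) (.node (.node (.node (.node (.node (.leaf []) (.leaf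 [])) (.node (.leaf []) (.leaf [207, (-30)]))) (.node (.node (.leaf []) (.leaf [])) (.node (.leaf []) (.leaf [(-18158), 3577])))) (.node (.node (.node (.leaf [4]) (.leaf [3541, (-649)])) (.node (.leaf [(-29222), 5297]) (.leaf [(-113), 35]))) (.node (.node (.leaf []) (.leaf [1550, (-305)])) (.leaf [539, (-110)])))) (.node (.node (.node (.node (.leaf [1]) (.leaf [])) (.node (.leaf []) (.leaf [19, 31]))) (.node (.node (.leaf [(-1453), 227]) (.leaf [15])) (.node (.leaf []) (.leaf [(-3153), 657])))) (.node (.node (.node (.leaf []) (.leaf [(-40), 4])) (.node (.leaf [1]) (.leaf []))) (.node (.node (.leaf []) (.leaf [1019, (-167)])) (.leaf [(-127), 8])))))) (.node (.node (.node (.node (.node (.node (.leaf []) (.leaf [(-1)])) (.node (.leaf [1]) (.leaf [192, (-27)]))) (.node (.node (.leaf []) (.leaf [(-4)])) (.node (.leaf []) (.leaf [(-38), 10])))) (.node (.node (.node (.leaf []) (.leaf [])) (.node (.leaf [5, (-3)]) (.leaf [(-4088), 693]))) (.node (.node (.leaf []) (.leaf [(-34), 3])) (.leaf [])))) (.node (.node (.node (.node (.leaf []) (.leaf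 [(-1)])) (.node (.leaf []) (.leaf [(-161), 33]))) (.node (.node (.leaf []) (.leaf [(-31), 7])) (.node (.leaf []) (.leaf [(-1)])))) (.node (.node (.node (.leaf []) (.leaf [(-470), 100])) (.node (.leaf [(-21077), 3859]) (.leaf [(-2881), 270]))) (.node (.node (.leaf []) (.leaf [(-6108), 1187])) (.leaf []))))) (.node (.node (.node (.node (.node (.leaf []) (.leaf [])) (.node (.leaf []) (.leaf [139, (-22)]))) (.node (.node (.leaf []) (.leaf [1])) (.node (.leaf []) (.leaf [6182, (-955)])))) (.node (.node (.node (.leaf []) (.leaf [])) (.node (.leaf []) (.leaf [(-967), 167]))) (.node (.node (.leaf []) (.leaf [])) (.leaf [])))) (.node (.node (.node (.node (.leaf []) (.leaf [])) (.node (.leaf []) (.leaf []))) (.node (.node (.leaf []) (.leaf [])) (.node (.leaf [(-64), (-2)]) (.leaf [117, (-24)])))) (.node (.node (.node (.leaf []) (.leaf [(-51), 8])) (.node (.leaf []) (.leaf [1]))) (.node (.node (.leaf [(-1805), 665]) (.leaf [21, (-14)])) (.leaf [(-8)]))))))) (.node (.node (.node (.node (.node (.node (.node (.leaf []) (.leaf [1])) (.node (.leaf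 []) (.leaf []))) (.node (.node (.leaf []) (.leaf [4])) (.node (.leaf [6, 2]) (.leaf [2557, (-550)])))) (.node (.node (.node (.leaf []) (.leaf [(-21), (-2)])) (.node (.leaf [4, (-5)]) (.leaf [12]))) (.node (.node (.leaf []) (.leaf [(-588), 63])) (.leaf [])))) (.node (.node (.node (.node (.leaf [(-1)]) (.leaf [852, (-167)])) (.node (.leaf [83, (-24)]) (.leaf []))) (.node (.node (.leaf []) (.leaf [234, (-35)])) (.node (.leaf [(-2), 4]) (.leaf [3])))) (.node (.node (.node (.leaf []) (.leaf [])) (.node (.leaf [34, (-10)]) (.leaf [4]))) (.node (.node (.leaf [1]) (.leaf [(-1931), 319])) (.leaf [1]))))) (.node (.node (.node (.node (.node (.leaf []) (.leaf [])) (.node (.leaf []) (.leaf [(-973), 182]))) (.node (.node (.leaf []) (.leaf [6085, (-1138)])) (.node (.leaf []) (.leaf [])))) (.node (.node (.node (.leaf []) (.leaf [])) (.node (.leaf [(-1)]) (.leaf [(-56), 13]))) (.node (.node (.leaf [(-758), 138]) (.leaf [582, (-95)])) (.leaf [228, (-37)])))) (.node (.node (.node (.node (.leaf []) (.leaf [1])) (.node (.leaf []) (.leaf [(-2), 1]))) (.node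 (.node (.leaf []) (.leaf [])) (.node (.leaf []) (.leaf [4003, (-689)])))) (.node (.node (.node (.leaf []) (.leaf [(-30), (-5)])) (.node (.leaf [1]) (.leaf [(-4), 1]))) (.node (.node (.leaf []) (.leaf [(-717), 130])) (.leaf [51, (-9)])))))) (.node (.node (.node (.node (.node (.node (.leaf []) (.leaf [])) (.node (.leaf []) (.leaf [6326, (-1244)]))) (.node (.node (.leaf [1]) (.leaf [])) (.node (.leaf []) (.leaf [313, (-76)])))) (.node (.node (.node (.leaf []) (.leaf [(-81), 13])) (.node (.leaf []) (.leaf [308, (-46)]))) (.node (.node (.leaf []) (.leaf [])) (.leaf [])))) (.node (.node (.node (.node (.leaf []) (.leaf [52, (-12)])) (.node (.leaf [4]) (.leaf [(-435), 75]))) (.node (.node (.leaf [1]) (.leaf [(-639), 121])) (.node (.leaf []) (.leaf [1])))) (.node (.node (.node (.leaf [1]) (.leaf [])) (.node (.leaf []) (.leaf [(-9), (-1)]))) (.node (.node (.leaf [(-532), 92]) (.leaf [(-1074), 192])) (.leaf []))))) (.node (.node (.node (.node (.node (.leaf []) (.leaf [])) (.node (.leaf []) (.leaf [590, (-116)]))) (.node (.node (.leaf []) (.leaf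 [])) (.node (.leaf []) (.leaf [1])))) (.node (.node (.node (.leaf []) (.leaf [1])) (.node (.leaf []) (.leaf [(-41), 9]))) (.node (.node (.leaf []) (.leaf [529, (-87)])) (.leaf [])))) (.node (.node (.node (.node (.leaf []) (.leaf [3, 2])) (.node (.leaf []) (.leaf [1437, (-583)]))) (.node (.node (.leaf []) (.leaf [])) (.node (.leaf [(-3853), 701]) (.leaf [0, 1])))) (.node (.node (.node (.leaf []) (.leaf [])) (.node (.leaf [502, (-85)]) (.leaf [(-270), 80]))) (.node (.node (.leaf []) (.leaf [(-721), 126])) (.leaf [(-498), 85])))))))))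

def twoL7 : Janko.Tree (List ℤ) :=
  (.node (.node (.node (.node (.node (.node (.node (.node (.node (.leaf []) (.leaf [])) (.node (.leaf []) (.leaf [1795, (-349)]))) (.node (.node (.leaf [1]) (.leaf [3])) (.node (.leaf []) (.leaf [14])))) (.node (.node (.node (.leaf []) (.leaf [470, (-76)])) (.node (.leaf [(-2)]) (.leaf [4]))) (.node (.node (.leaf []) (.leaf [(-663), 80])) (.node (.leaf [23, (-1)]) (.leaf [3]))))) (.node (.node (.node (.node (.leaf []) (.leaf [3])) (.node (.leaf []) (.leaf [1496, (-277)]))) (.node (.node (.leaf []) (.leaf [4])) (.node (.leaf []) (.leaf [454, (-80)])))) (.node (.node (.node (.leaf []) (.leaf [559, (-72)])) (.node (.leaf []) (.leaf [184, (-33)]))) (.node (.node (.leaf []) (.leaf [(-2)])) (.leaf []))))) (.node (.node (.node (.node (.node (.leaf []) (.leaf [])) (.node (.leaf [2]) (.leaf []))) (.node (.node (.leaf []) (.leaf [])) (.node (.leaf []) (.leaf [(-399), 58])))) (.node (.node (.node (.leaf []) (.leaf [(-1)])) (.node (.leaf [(-5), (-1)]) (.leaf [3]))) (.node (.node (.leaf []) (.leaf [(-892), 156]))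 (.leaf [])))) (.node (.node (.node (.node (.leaf []) (.leaf [(-100), (-5)])) (.node (.leaf []) (.leaf []))) (.node (.node (.leaf []) (.leaf [(-365), 62])) (.node (.leaf []) (.leaf [(-114), 15])))) (.node (.node (.node (.leaf []) (.leaf [(-73), 17])) (.node (.leaf []) (.leaf [(-1133), 197]))) (.node (.node (.leaf []) (.leaf [569, (-100)])) (.leaf [(-1)])))))) (.node (.node (.node (.node (.node (.node (.leaf []) (.leaf [(-545), 102])) (.node (.leaf [137, (-25)]) (.leaf [2]))) (.node (.node (.leaf []) (.leaf [2])) (.node (.leaf [530, (-73)]) (.leaf [(-470), 76])))) (.node (.node (.node (.leaf []) (.leaf [(-3438), 653])) (.node (.leaf []) (.leaf []))) (.node (.node (.leaf [(-3)]) (.leaf [2])) (.leaf [])))) (.node (.node (.node (.node (.leaf []) (.leaf [6780, (-1273)])) (.node (.leaf [1]) (.leaf [18760, (-3255)]))) (.node (.node (.leaf []) (.leaf [982, (-115)])) (.node (.leaf [(-3)]) (.leaf [(-6789), 1305])))) (.node (.node (.node (.leaf []) (.leaf [(-63), 85])) (.node (.leaf [796, (-132)]) (.leaf [656, (-159)]))) (.node (.node (.leaf [])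 (.leaf [(-27), 14])) (.leaf [(-148), 38]))))) (.node (.node (.node (.node (.node (.leaf []) (.leaf [])) (.node (.leaf []) (.leaf []))) (.node (.node (.leaf []) (.leaf [(-16), 10])) (.node (.leaf [500, (-85)]) (.leaf [])))) (.node (.node (.node (.leaf []) (.leaf [])) (.node (.leaf []) (.leaf [(-218), 35]))) (.node (.node (.leaf []) (.leaf [(-2)])) (.leaf [2294, (-367)])))) (.node (.node (.node (.node (.leaf []) (.leaf [])) (.node (.leaf []) (.leaf [(-4)]))) (.node (.node (.leaf []) (.leaf [])) (.node (.leaf [2]) (.leaf [(-13821), 2583])))) (.node (.node (.node (.leaf []) (.leaf [154, (-20)])) (.node (.leaf [38, (-4)]) (.leaf [(-5630), 1121]))) (.node (.node (.leaf []) (.leaf [553, (-96)])) (.leaf [(-2)]))))))) (.node (.node (.node (.node (.node (.node (.node (.leaf []) (.leaf [(-2)])) (.node (.leaf []) (.leaf [260, (-21)]))) (.node (.node (.leaf []) (.leaf [])) (.node (.leaf []) (.leaf [16277, (-2950)])))) (.node (.node (.node (.leaf [3]) (.leaf [])) (.node (.leaf []) (.leaf [4387, (-734)]))) (.node (.node (.leaf []) (.leaf [])) (.leaf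 [])))) (.node (.node (.node (.node (.leaf []) (.leaf [1538, (-304)])) (.node (.leaf [(-4), 1]) (.leaf []))) (.node (.node (.leaf []) (.leaf [127, (-25)])) (.node (.leaf [2]) (.leaf [(-469), 128])))) (.node (.node (.node (.leaf []) (.leaf [])) (.node (.leaf []) (.leaf [9]))) (.node (.node (.leaf []) (.leaf [])) (.leaf [(-224), 39]))))) (.node (.node (.node (.node (.node (.leaf []) (.leaf [])) (.node (.leaf []) (.leaf [2, 2]))) (.node (.node (.leaf []) (.leaf [])) (.node (.leaf [3, (-2)]) (.leaf [(-239), 42])))) (.node (.node (.node (.leaf []) (.leaf [2594, (-503)])) (.node (.leaf [2]) (.leaf [(-218), 38]))) (.node (.node (.leaf [2]) (.leaf [9, (-2)])) (.leaf [13, (-1)])))) (.node (.node (.node (.node (.leaf []) (.leaf [])) (.node (.leaf []) (.leaf [(-355), 52]))) (.node (.node (.leaf []) (.leaf [(-126), 21])) (.node (.leaf [(-53), 10]) (.leaf [(-5831), 1500])))) (.node (.node (.node (.leaf []) (.leaf [(-10), 1])) (.node (.leaf [(-2)]) (.leaf [(-197), 36]))) (.node (.node (.leaf []) (.leaf [(-500), 85])) (.leaf [(-1)])))))) (.node (.node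 (.node (.node (.node (.node (.leaf []) (.leaf [(-254), 38])) (.node (.leaf []) (.leaf [(-363), 62]))) (.node (.node (.leaf []) (.leaf [(-69), (-49)])) (.node (.leaf []) (.leaf [(-805), 138])))) (.node (.node (.node (.leaf []) (.leaf [])) (.node (.leaf [2, (-3)]) (.leaf [467, (-50)]))) (.node (.node (.leaf []) (.leaf [(-46), 7])) (.leaf [])))) (.node (.node (.node (.node (.leaf []) (.leaf [])) (.node (.leaf []) (.leaf [239, (-40)]))) (.node (.node (.leaf []) (.leaf [(-43), 6])) (.node (.leaf []) (.leaf [317, (-89)])))) (.node (.node (.node (.leaf []) (.leaf [])) (.node (.leaf []) (.leaf [8, (-4)]))) (.node (.node (.leaf [(-2704), 499]) (.leaf [17925, (-2623)])) (.leaf []))))) (.node (.node (.node (.node (.node (.leaf []) (.leaf [(-4)])) (.node (.leaf [2]) (.leaf [(-9), 3]))) (.node (.node (.leaf [(-3)]) (.leaf [(-29), 5])) (.node (.leaf []) (.leaf [1162, (-146)])))) (.node (.node (.node (.leaf []) (.leaf [(-1)])) (.node (.leaf []) (.leaf [(-1)]))) (.node (.node (.leaf []) (.leaf [])) (.leaf [])))) (.node (.node (.node (.node (.leaf [])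 (.leaf [10, (-2)])) (.node (.leaf []) (.leaf [(-1)]))) (.node (.node (.leaf []) (.leaf [(-6), 5])) (.node (.leaf [(-557), 98]) (.leaf [(-237), 35])))) (.node (.node (.node (.leaf []) (.leaf [])) (.node (.leaf []) (.leaf [3]))) (.node (.node (.leaf [(-3)]) (.leaf [5, 2])) (.leaf [])))))))) (.node (.node (.node (.node (.node (.node (.node (.node (.leaf []) (.leaf [(-152), 26])) (.node (.leaf [(-1)]) (.leaf [734, (-115)]))) (.node (.node (.leaf []) (.leaf [(-1)])) (.node (.leaf []) (.leaf [116, (-11)])))) (.node (.node (.node (.leaf []) (.leaf [])) (.node (.leaf []) (.leaf [2347, (-370)]))) (.node (.node (.leaf []) (.leaf [515, (-108)])) (.node (.leaf []) (.leaf [1]))))) (.node (.node (.node (.node (.leaf []) (.leaf [])) (.node (.leaf []) (.leaf []))) (.node (.node (.leaf []) (.leaf [(-5)])) (.node (.leaf [(-10509), 1984]) (.leaf [(-6282), 925])))) (.node (.node (.node (.leaf []) (.leaf [(-54), 3])) (.node (.leaf []) (.leaf [(-607), 88]))) (.node (.node (.leaf [2, 3]) (.leaf [(-169), 26])) (.leaf []))))) (.node (.node (.node (.node (.node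 (.leaf []) (.leaf [2])) (.node (.leaf []) (.leaf []))) (.node (.node (.leaf []) (.leaf [])) (.node (.leaf []) (.leaf [(-21277), 3835])))) (.node (.node (.node (.leaf []) (.leaf [(-90), 14])) (.node (.leaf [(-28735), 5207]) (.leaf [31, (-5)]))) (.node (.node (.leaf []) (.leaf [1330, (-257)])) (.leaf [])))) (.node (.node (.node (.node (.leaf []) (.leaf [])) (.node (.leaf [(-3), (-1)]) (.leaf []))) (.node (.node (.leaf [(-22), 11]) (.leaf [(-551), 98])) (.node (.leaf []) (.leaf [(-360), 54])))) (.node (.node (.node (.leaf [(-932), 146]) (.leaf [(-5), 4])) (.node (.leaf []) (.leaf [(-541), 85]))) (.node (.node (.leaf []) (.leaf [(-1255), 186])) (.leaf [])))))) (.node (.node (.node (.node (.node (.node (.leaf []) (.leaf [])) (.node (.leaf []) (.leaf [(-3)]))) (.node (.node (.leaf []) (.leaf [])) (.node (.leaf []) (.leaf [(-317), 89])))) (.node (.node (.node (.leaf []) (.leaf [5630, (-1121)])) (.node (.leaf []) (.leaf [(-4894), 913]))) (.node (.node (.leaf [1]) (.leaf [2])) (.leaf [(-42), 7])))) (.node (.node (.node (.node (.leaf []) (.leaf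 [(-359), 31])) (.node (.leaf []) (.leaf [(-206), 30]))) (.node (.node (.leaf [3]) (.leaf [])) (.node (.leaf [20, (-3)]) (.leaf [244, (-120)])))) (.node (.node (.node (.leaf [3]) (.leaf [])) (.node (.leaf [17, (-3)]) (.leaf [(-2), 1]))) (.node (.node (.leaf [(-10), 4]) (.leaf [517, (-95)])) (.leaf [(-3)]))))) (.node (.node (.node (.node (.node (.leaf []) (.leaf [(-3806), 695])) (.node (.leaf [(-4), 1]) (.leaf []))) (.node (.node (.leaf []) (.leaf [235, (-53)])) (.node (.leaf [(-4)]) (.leaf [1662, (-660)])))) (.node (.node (.node (.leaf []) (.leaf [])) (.node (.leaf [4]) (.leaf [(-276), 45]))) (.node (.node (.leaf []) (.leaf [2])) (.leaf [2])))) (.node (.node (.node (.node (.leaf []) (.leaf [])) (.node (.leaf []) (.leaf [3]))) (.node (.node (.leaf []) (.leaf [])) (.node (.leaf [2]) (.leaf [118, (-12)])))) (.node (.node (.node (.leaf []) (.leaf [(-198), 35])) (.node (.leaf [(-136), 25]) (.leaf [805, (-138)]))) (.node (.node (.leaf []) (.leaf [20, (-3)])) (.leaf []))))))) (.node (.node (.node (.node (.node (.node (.node (.leaf []) (.leaf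 [])) (.node (.leaf [3]) (.leaf [4050, (-800)]))) (.node (.node (.leaf []) (.leaf [1, 3])) (.node (.leaf [(-800), 132]) (.leaf [5635, (-1124)])))) (.node (.node (.node (.leaf []) (.leaf [(-6), 5])) (.node (.leaf []) (.leaf [(-7), 4]))) (.node (.node (.leaf [(-10), (-1)]) (.leaf [3, (-1)])) (.leaf [])))) (.node (.node (.node (.node (.leaf []) (.leaf [])) (.node (.leaf []) (.leaf [(-855), 118]))) (.node (.node (.leaf []) (.leaf [(-2)])) (.node (.leaf []) (.leaf [53, (-15)])))) (.node (.node (.node (.leaf []) (.leaf [4])) (.node (.leaf [(-2)]) (.leaf [(-229), 43]))) (.node (.node (.leaf [132, (-22)]) (.leaf [(-3475), 636])) (.leaf []))))) (.node (.node (.node (.node (.node (.leaf []) (.leaf [36, (-7)])) (.node (.leaf []) (.leaf []))) (.node (.node (.leaf []) (.leaf [])) (.node (.leaf []) (.leaf [])))) (.node (.node (.node (.leaf []) (.leaf [(-12), 1])) (.node (.leaf [8, (-4)]) (.leaf [(-2)]))) (.node (.node (.leaf []) (.leaf [])) (.leaf [])))) (.node (.node (.node (.node (.leaf []) (.leaf [10, 1])) (.node (.leaf [(-32), 6]) (.leaf [(-3429),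 639]))) (.node (.node (.leaf []) (.leaf [2])) (.node (.leaf [4, 3]) (.leaf [7750, (-1523)])))) (.node (.node (.node (.leaf []) (.leaf [14, (-2)])) (.node (.leaf []) (.leaf [(-13129), 2516]))) (.node (.node (.leaf []) (.leaf [(-2)])) (.leaf [])))))) (.node (.node (.node (.node (.node (.node (.leaf [(-1)]) (.leaf [212, (-12)])) (.node (.leaf [2]) (.leaf []))) (.node (.node (.leaf []) (.leaf [])) (.node (.leaf [(-3), 4]) (.leaf [26959, (-5235)])))) (.node (.node (.node (.leaf []) (.leaf [])) (.node (.leaf [(-40), 4]) (.leaf []))) (.node (.node (.leaf []) (.leaf [])) (.leaf [])))) (.node (.node (.node (.node (.leaf []) (.leaf [])) (.node (.leaf []) (.leaf [52, (-10)]))) (.node (.node (.leaf []) (.leaf [(-617), 123])) (.node (.leaf [1]) (.leaf [35, (-2)])))) (.node (.node (.node (.leaf []) (.leaf [25474, (-4557)])) (.node (.leaf []) (.leaf [(-171), 30]))) (.node (.node (.leaf []) (.leaf [1840, (-313)])) (.leaf []))))) (.node (.node (.node (.node (.node (.leaf []) (.leaf [(-715), 132])) (.node (.leaf [214, (-35)]) (.leaf [322, (-48)]))) (.node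 (.node (.leaf []) (.leaf [4])) (.node (.leaf []) (.leaf [(-6), 2])))) (.node (.node (.node (.leaf []) (.leaf [])) (.node (.leaf [655, (-115)]) (.leaf [(-15), 6]))) (.node (.node (.leaf []) (.leaf [54, (-10)])) (.leaf [(-3)])))) (.node (.node (.node (.node (.leaf []) (.leaf [(-1), 3])) (.node (.leaf [(-3)]) (.leaf [(-2)]))) (.node (.node (.leaf []) (.leaf [(-4)])) (.node (.leaf []) (.leaf [727, (-149)])))) (.node (.node (.node (.leaf []) (.leaf [3])) (.node (.leaf []) (.leaf [8, 1]))) (.node (.node (.leaf [(-1)]) (.leaf [])) (.leaf [])))))))))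

def twoL : Janko.Tree (List ℤ) := (.node (.node (.node twoL0 twoL4) (.node twoL2 twoL6)) (.node (.node twoL1 twoL5) (.node twoL3 twoL7)))

def twoKind0 : Janko.Tree (ℕ) :=
  (.node (.node (.node (.node (.node (.node (.node (.node (.node (.leaf 0) (.leaf 3)) (.node (.leaf 3) (.leaf 3))) (.node (.node (.leaf 0) (.leaf 0)) (.node (.leaf 3) (.leaf 3)))) (.node (.node (.node (.leaf 0) (.leaf 3)) (.node (.leaf 3) (.leaf 0))) (.node (.node (.leaf 3) (.leaf 3)) (.node (.leaf 3) (.leaf 1))))) (.node (.node (.node (.node (.leaf 3) (.leaf 3)) (.node (.leaf 0) (.leaf 3))) (.node (.node (.leaf 0) (.leaf 3)) (.node (.leaf 3) (.leaf 0)))) (.node (.node (.node (.leaf 0) (.leaf 0)) (.node (.leaf 0) (.leaf 3))) (.node (.node (.leaf 0) (.leaf 3)) (.leaf 0))))) (.node (.node (.node (.node (.node (.leaf 0) (.leaf 3)) (.node (.leaf 3) (.leaf 3))) (.node (.node (.leaf 0) (.leaf 3)) (.node (.leaf 0) (.leaf 3)))) (.node (.node (.node (.leaf 0) (.leaf 0)) (.node (.leaf 3) (.leaf 0))) (.node (.node (.leaf 0) (.leaf 3)) (.leaf 0)))) (.node (.node (.node (.node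 (.leaf 0) (.leaf 3)) (.node (.leaf 0) (.leaf 3))) (.node (.node (.leaf 0) (.leaf 3)) (.node (.leaf 3) (.leaf 3)))) (.node (.node (.node (.leaf 0) (.leaf 3)) (.node (.leaf 3) (.leaf 3))) (.node (.node (.leaf 3) (.leaf 3)) (.leaf 0)))))) (.node (.node (.node (.node (.node (.node (.leaf 0) (.leaf 0)) (.node (.leaf 0) (.leaf 0))) (.node (.node (.leaf 3) (.leaf 3)) (.node (.leaf 0) (.leaf 3)))) (.node (.node (.node (.leaf 0) (.leaf 3)) (.node (.leaf 3) (.leaf 3))) (.node (.node (.leaf 3) (.leaf 0)) (.leaf 0)))) (.node (.node (.node (.node (.leaf 0) (.leaf 0)) (.node (.leaf 0) (.leaf 0))) (.node (.node (.leaf 0) (.leaf 3)) (.node (.leaf 3) (.leaf 3)))) (.node (.node (.node (.leaf 0) (.leaf 3)) (.node (.leaf 0) (.leaf 3))) (.node (.node (.leaf 0) (.leaf 3)) (.leaf 0))))) (.node (.node (.node (.node (.node (.leaf 0) (.leaf 3)) (.node (.leaf 3) (.leaf 0))) (.node (.node (.leaf 0) (.leaf 0)) (.node (.leaf 0) (.leaf 3)))) (.node (.node (.node (.leaf 0) (.leaf 3)) (.node (.leaf 0) (.leaf 3))) (.node (.node (.leaf 0) (.leaf 3)) (.leaf 3)))) (.node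 (.node (.node (.node (.leaf 0) (.leaf 3)) (.node (.leaf 0) (.leaf 3))) (.node (.node (.leaf 0) (.leaf 0)) (.node (.leaf 3) (.leaf 3)))) (.node (.node (.node (.leaf 0) (.leaf 0)) (.node (.leaf 0) (.leaf 3))) (.node (.node (.leaf 0) (.leaf 3)) (.leaf 3))))))) (.node (.node (.node (.node (.node (.node (.node (.leaf 0) (.leaf 3)) (.node (.leaf 3) (.leaf 3))) (.node (.node (.leaf 3) (.leaf 3)) (.node (.leaf 3) (.leaf 3)))) (.node (.node (.node (.leaf 3) (.leaf 0)) (.node (.leaf 0) (.leaf 0))) (.node (.node (.leaf 0) (.leaf 0)) (.leaf 0)))) (.node (.node (.node (.node (.leaf 3) (.leaf 3)) (.node (.leaf 0) (.leaf 3))) (.node (.node (.leaf 0) (.leaf 3)) (.node (.leaf 3) (.leaf 3)))) (.node (.node (.node (.leaf 0) (.leaf 0)) (.node (.leaf 0) (.leaf 3))) (.node (.node (.leaf 0) (.leaf 3)) (.leaf 0))))) (.node (.node (.node (.node (.node (.leaf 0) (.leaf 0)) (.node (.leaf 0) (.leaf 0))) (.node (.node (.leaf 0) (.leaf 3)) (.node (.leaf 0) (.leaf 3)))) (.node (.node (.node (.leaf 0) (.leaf 0)) (.node (.leaf 3) (.leaf 3))) (.node (.node (.leaf 0)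 (.leaf 3)) (.leaf 0)))) (.node (.node (.node (.node (.leaf 3) (.leaf 3)) (.node (.leaf 0) (.leaf 0))) (.node (.node (.leaf 0) (.leaf 3)) (.node (.leaf 3) (.leaf 3)))) (.node (.node (.node (.leaf 0) (.leaf 3)) (.node (.leaf 0) (.leaf 3))) (.node (.node (.leaf 3) (.leaf 0)) (.leaf 0)))))) (.node (.node (.node (.node (.node (.node (.leaf 0) (.leaf 3)) (.node (.leaf 0) (.leaf 3))) (.node (.node (.leaf 0) (.leaf 0)) (.node (.leaf 0) (.leaf 0)))) (.node (.node (.node (.leaf 0) (.leaf 3)) (.node (.leaf 3) (.leaf 3))) (.node (.node (.leaf 0) (.leaf 3)) (.leaf 0)))) (.node (.node (.node (.node (.leaf 0) (.leaf 0)) (.node (.leaf 3) (.leaf 3))) (.node (.node (.leaf 0) (.leaf 3)) (.node (.leaf 0) (.leaf 3)))) (.node (.node (.node (.leaf 0) (.leaf 0)) (.node (.leaf 0) (.leaf 3))) (.node (.node (.leaf 0) (.leaf 0)) (.leaf 3))))) (.node (.node (.node (.node (.node (.leaf 0) (.leaf 0)) (.node (.leaf 3) (.leaf 3))) (.node (.node (.leaf 3) (.leaf 3)) (.node (.leaf 3) (.leaf 3)))) (.node (.node (.node (.leaf 0) (.leaf 3)) (.node (.leaf 3) (.leaf 3)))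 (.node (.node (.leaf 0) (.leaf 3)) (.leaf 3)))) (.node (.node (.node (.node (.leaf 0) (.leaf 0)) (.node (.leaf 0) (.leaf 3))) (.node (.node (.leaf 0) (.leaf 3)) (.node (.leaf 0) (.leaf 3)))) (.node (.node (.node (.leaf 0) (.leaf 3)) (.node (.leaf 0) (.leaf 3))) (.node (.node (.leaf 0) (.leaf 3)) (.leaf 0)))))))) (.node (.node (.node (.node (.node (.node (.node (.node (.leaf 0) (.leaf 0)) (.node (.leaf 0) (.leaf 3))) (.node (.node (.leaf 0) (.leaf 3)) (.node (.leaf 0) (.leaf 3)))) (.node (.node (.node (.leaf 0) (.leaf 3)) (.node (.leaf 0) (.leaf 3))) (.node (.node (.leaf 0) (.leaf 3)) (.node (.leaf 3) (.leaf 3))))) (.node (.node (.node (.node (.leaf 0) (.leaf 0)) (.node (.leaf 3) (.leaf 3))) (.node (.node (.leaf 0) (.leaf 3)) (.node (.leaf 0) (.leaf 3)))) (.node (.node (.node (.leaf 0) (.leaf 0)) (.node (.leaf 0) (.leaf 3))) (.node (.node (.leaf 0) (.leaf 3)) (.leaf 3))))) (.node (.node (.node (.node (.node (.leaf 0) (.leaf 0)) (.node (.leaf 0) (.leaf 3))) (.node (.node (.leaf 0) (.leaf 3)) (.node (.leaf 0) (.leaf 3)))) (.node (.node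 (.node (.leaf 0) (.leaf 0)) (.node (.leaf 0) (.leaf 0))) (.node (.node (.leaf 0) (.leaf 0)) (.leaf 3)))) (.node (.node (.node (.node (.leaf 0) (.leaf 0)) (.node (.leaf 0) (.leaf 3))) (.node (.node (.leaf 0) (.leaf 0)) (.node (.leaf 0) (.leaf 3)))) (.node (.node (.node (.leaf 0) (.leaf 0)) (.node (.leaf 3) (.leaf 3))) (.node (.node (.leaf 3) (.leaf 3)) (.leaf 3)))))) (.node (.node (.node (.node (.node (.node (.leaf 0) (.leaf 0)) (.node (.leaf 0) (.leaf 0))) (.node (.node (.leaf 3) (.leaf 0)) (.node (.leaf 3) (.leaf 0)))) (.node (.node (.node (.leaf 0) (.leaf 0)) (.node (.leaf 0) (.leaf 3))) (.node (.node (.leaf 0) (.leaf 3)) (.leaf 3)))) (.node (.node (.node (.node (.leaf 0) (.leaf 0)) (.node (.leaf 0) (.leaf 3))) (.node (.node (.leaf 3) (.leaf 3)) (.node (.leaf 0) (.leaf 3)))) (.node (.node (.node (.leaf 3) (.leaf 0)) (.node (.leaf 0) (.leaf 3))) (.node (.node (.leaf 0) (.leaf 3)) (.leaf 0))))) (.node (.node (.node (.node (.node (.leaf 3) (.leaf 0)) (.node (.leaf 0) (.leaf 3))) (.node (.node (.leaf 0) (.leaf 3)) (.node (.leaf 0) (.leaf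 3)))) (.node (.node (.node (.leaf 0) (.leaf 3)) (.node (.leaf 0) (.leaf 3))) (.node (.node (.leaf 0) (.leaf 3)) (.leaf 0)))) (.node (.node (.node (.node (.leaf 0) (.leaf 0)) (.node (.leaf 3) (.leaf 3))) (.node (.node (.leaf 0) (.leaf 3)) (.node (.leaf 3) (.leaf 3)))) (.node (.node (.node (.leaf 0) (.leaf 0)) (.node (.leaf 0) (.leaf 3))) (.node (.node (.leaf 0) (.leaf 3)) (.leaf 3))))))) (.node (.node (.node (.node (.node (.node (.node (.leaf 0) (.leaf 3)) (.node (.leaf 3) (.leaf 0))) (.node (.node (.leaf 0) (.leaf 3)) (.node (.leaf 0) (.leaf 3)))) (.node (.node (.node (.leaf 0) (.leaf 0)) (.node (.leaf 3) (.leaf 3))) (.node (.node (.leaf 3) (.leaf 3)) (.leaf 0)))) (.node (.node (.node (.node (.leaf 0) (.leaf 0)) (.node (.leaf 0) (.leaf 3))) (.node (.node (.leaf 3) (.leaf 3)) (.node (.leaf 0) (.leaf 3)))) (.node (.node (.node (.leaf 0) (.leaf 0)) (.node (.leaf 0) (.leaf 3))) (.node (.node (.leaf 3) (.leaf 0)) (.leaf 0))))) (.node (.node (.node (.node (.node (.leaf 0) (.leaf 3)) (.node (.leaf 0) (.leaf 3))) (.node (.node (.leaf 3) (.leaf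 3)) (.node (.leaf 3) (.leaf 3)))) (.node (.node (.node (.leaf 0) (.leaf 3)) (.node (.leaf 0) (.leaf 3))) (.node (.node (.leaf 3) (.leaf 3)) (.leaf 3)))) (.node (.node (.node (.node (.leaf 3) (.leaf 0)) (.node (.leaf 0) (.leaf 0))) (.node (.node (.leaf 3) (.leaf 0)) (.node (.leaf 0) (.leaf 3)))) (.node (.node (.node (.leaf 0) (.leaf 3)) (.node (.leaf 3) (.leaf 0))) (.node (.node (.leaf 0) (.leaf 3)) (.leaf 3)))))) (.node (.node (.node (.node (.node (.node (.leaf 0) (.leaf 0)) (.node (.leaf 0) (.leaf 3))) (.node (.node (.leaf 0) (.leaf 0)) (.node (.leaf 0) (.leaf 3)))) (.node (.node (.node (.leaf 0) (.leaf 0)) (.node (.leaf 0) (.leaf 0))) (.node (.node (.leaf 0) (.leaf 3)) (.leaf 3)))) (.node (.node (.node (.node (.leaf 0) (.leaf 3)) (.node (.leaf 0) (.leaf 3))) (.node (.node (.leaf 0) (.leaf 3)) (.node (.leaf 3) (.leaf 3)))) (.node (.node (.node (.leaf 0) (.leaf 3)) (.node (.leaf 0) (.leaf 3))) (.node (.node (.leaf 0) (.leaf 3)) (.leaf 0))))) (.node (.node (.node (.node (.node (.leaf 0) (.leaf 3)) (.node (.leaf 0) (.leaf 3))) (.node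 (.node (.leaf 0) (.leaf 3)) (.node (.leaf 0) (.leaf 3)))) (.node (.node (.node (.leaf 0) (.leaf 3)) (.node (.leaf 3) (.leaf 3))) (.node (.node (.leaf 0) (.leaf 3)) (.leaf 3)))) (.node (.node (.node (.node (.leaf 0) (.leaf 3)) (.node (.leaf 3) (.leaf 3))) (.node (.node (.leaf 0) (.leaf 3)) (.node (.leaf 0) (.leaf 3)))) (.node (.node (.node (.leaf 0) (.leaf 3)) (.node (.leaf 3) (.leaf 3))) (.node (.node (.leaf 0) (.leaf 3)) (.leaf 0)))))))))

def twoKind1 : Janko.Tree (ℕ) :=
  (.node (.node (.node (.node (.node (.node (.node (.node (.node (.leaf 0) (.leaf 0)) (.node (.leaf 0) (.leaf 3))) (.node (.node (.leaf 3) (.leaf 3)) (.node (.leaf 0) (.leaf 3)))) (.node (.node (.node (.leaf 0) (.leaf 3)) (.node (.leaf 3) (.leaf 3))) (.node (.node (.leaf 0) (.leaf 3)) (.node (.leaf 3) (.leaf 1))))) (.node (.node (.node (.node (.leaf 0) (.leaf 3)) (.node (.leaf 0) (.leaf 3))) (.node (.node (.leaf 0) (.leaf 3)) (.node (.leaf 0) (.leaf 3)))) (.node (.node (.node (.leaf 0) (.leaf 0)) (.node (.leaf 0) (.leaf 3))) (.node (.node (.leaf 0) (.leaf 0)) (.leaf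 3))))) (.node (.node (.node (.node (.node (.leaf 0) (.leaf 3)) (.node (.leaf 0) (.leaf 3))) (.node (.node (.leaf 0) (.leaf 0)) (.node (.leaf 3) (.leaf 3)))) (.node (.node (.node (.leaf 0) (.leaf 0)) (.node (.leaf 0) (.leaf 3))) (.node (.node (.leaf 3) (.leaf 0)) (.leaf 3)))) (.node (.node (.node (.node (.leaf 0) (.leaf 3)) (.node (.leaf 0) (.leaf 0))) (.node (.node (.leaf 0) (.leaf 3)) (.node (.leaf 0) (.leaf 3)))) (.node (.node (.node (.leaf 0) (.leaf 3)) (.node (.leaf 0) (.leaf 3))) (.node (.node (.leaf 0) (.leaf 0)) (.leaf 3)))))) (.node (.node (.node (.node (.node (.node (.leaf 0) (.leaf 0)) (.node (.leaf 0) (.leaf 0))) (.node (.node (.leaf 0) (.leaf 0)) (.node (.leaf 3) (.leaf 3)))) (.node (.node (.node (.leaf 0) (.leaf 3)) (.node (.leaf 0) (.leaf 3))) (.node (.node (.leaf 0) (.leaf 3)) (.leaf 3)))) (.node (.node (.node (.node (.leaf 3) (.leaf 3)) (.node (.leaf 3) (.leaf 3))) (.node (.node (.leaf 0) (.leaf 3)) (.node (.leaf 0) (.leaf 3)))) (.node (.node (.node (.leaf 0) (.leaf 0)) (.node (.leaf 3) (.leaf 3))) (.node (.node (.leaf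 0) (.leaf 3)) (.leaf 3))))) (.node (.node (.node (.node (.node (.leaf 0) (.leaf 3)) (.node (.leaf 0) (.leaf 0))) (.node (.node (.leaf 0) (.leaf 3)) (.node (.leaf 3) (.leaf 3)))) (.node (.node (.node (.leaf 0) (.leaf 3)) (.node (.leaf 3) (.leaf 3))) (.node (.node (.leaf 0) (.leaf 0)) (.leaf 3)))) (.node (.node (.node (.node (.leaf 0) (.leaf 3)) (.node (.leaf 0) (.leaf 3))) (.node (.node (.leaf 0) (.leaf 3)) (.node (.leaf 0) (.leaf 3)))) (.node (.node (.node (.leaf 0) (.leaf 0)) (.node (.leaf 0) (.leaf 3))) (.node (.node (.leaf 0) (.leaf 3)) (.leaf 3))))))) (.node (.node (.node (.node (.node (.node (.node (.leaf 0) (.leaf 3)) (.node (.leaf 0) (.leaf 3))) (.node (.node (.leaf 0) (.leaf 0)) (.node (.leaf 3) (.leaf 3)))) (.node (.node (.node (.leaf 0) (.leaf 0)) (.node (.leaf 0) (.leaf 3))) (.node (.node (.leaf 3) (.leaf 3)) (.leaf 0)))) (.node (.node (.node (.node (.leaf 0) (.leaf 0)) (.node (.leaf 3) (.leaf 3))) (.node (.node (.leaf 3) (.leaf 3)) (.node (.leaf 3) (.leaf 3)))) (.node (.node (.node (.leaf 0) (.leaf 3)) (.node (.leaf 0) (.leaf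 3))) (.node (.node (.leaf 0) (.leaf 3)) (.leaf 3))))) (.node (.node (.node (.node (.node (.leaf 0) (.leaf 3)) (.node (.leaf 0) (.leaf 3))) (.node (.node (.leaf 0) (.leaf 3)) (.node (.leaf 0) (.leaf 3)))) (.node (.node (.node (.leaf 0) (.leaf 3)) (.node (.leaf 0) (.leaf 3))) (.node (.node (.leaf 0) (.leaf 3)) (.leaf 3)))) (.node (.node (.node (.node (.leaf 0) (.leaf 0)) (.node (.leaf 0) (.leaf 3))) (.node (.node (.leaf 3) (.leaf 0)) (.node (.leaf 0) (.leaf 3)))) (.node (.node (.node (.leaf 0) (.leaf 3)) (.node (.leaf 3) (.leaf 3))) (.node (.node (.leaf 0) (.leaf 3)) (.leaf 0)))))) (.node (.node (.node (.node (.node (.node (.leaf 0) (.leaf 3)) (.node (.leaf 3) (.leaf 3))) (.node (.node (.leaf 3) (.leaf 3)) (.node (.leaf 3) (.leaf 0)))) (.node (.node (.node (.leaf 0) (.leaf 0)) (.node (.leaf 3) (.leaf 3))) (.node (.node (.leaf 0) (.leaf 3)) (.leaf 3)))) (.node (.node (.node (.node (.leaf 0) (.leaf 3)) (.node (.leaf 0) (.leaf 3))) (.node (.node (.leaf 0) (.leaf 3)) (.node (.leaf 3) (.leaf 3)))) (.node (.node (.node (.leaf 0) (.leaf 3))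 (.node (.leaf 0) (.leaf 3))) (.node (.node (.leaf 0) (.leaf 3)) (.leaf 3))))) (.node (.node (.node (.node (.node (.leaf 0) (.leaf 0)) (.node (.leaf 0) (.leaf 3))) (.node (.node (.leaf 0) (.leaf 3)) (.node (.leaf 0) (.leaf 3)))) (.node (.node (.node (.leaf 3) (.leaf 3)) (.node (.leaf 0) (.leaf 3))) (.node (.node (.leaf 3) (.leaf 3)) (.leaf 3)))) (.node (.node (.node (.node (.leaf 0) (.leaf 0)) (.node (.leaf 3) (.leaf 3))) (.node (.node (.leaf 0) (.leaf 0)) (.node (.leaf 0) (.leaf 0)))) (.node (.node (.node (.leaf 0) (.leaf 0)) (.node (.leaf 0) (.leaf 0))) (.node (.node (.leaf 0) (.leaf 0)) (.leaf 3)))))))) (.node (.node (.node (.node (.node (.node (.node (.node (.leaf 0) (.leaf 0)) (.node (.leaf 0) (.leaf 3))) (.node (.node (.leaf 0) (.leaf 0)) (.node (.leaf 0) (.leaf 0)))) (.node (.node (.node (.leaf 0) (.leaf 0)) (.node (.leaf 0) (.leaf 3))) (.node (.node (.leaf 0) (.leaf 3)) (.node (.leaf 0) (.leaf 3))))) (.node (.node (.node (.node (.leaf 3) (.leaf 3)) (.node (.leaf 0) (.leaf 3))) (.node (.node (.leaf 3) (.leaf 3)) (.node (.leaf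 3) (.leaf 3)))) (.node (.node (.node (.leaf 0) (.leaf 3)) (.node (.leaf 0) (.leaf 3))) (.node (.node (.leaf 0) (.leaf 3)) (.leaf 0))))) (.node (.node (.node (.node (.node (.leaf 0) (.leaf 0)) (.node (.leaf 0) (.leaf 3))) (.node (.node (.leaf 0) (.leaf 3)) (.node (.leaf 3) (.leaf 3)))) (.node (.node (.node (.leaf 0) (.leaf 3)) (.node (.leaf 3) (.leaf 3))) (.node (.node (.leaf 0) (.leaf 0)) (.leaf 0)))) (.node (.node (.node (.node (.leaf 0) (.leaf 0)) (.node (.leaf 3) (.leaf 0))) (.node (.node (.leaf 0) (.leaf 3)) (.node (.leaf 3) (.leaf 3)))) (.node (.node (.node (.leaf 0) (.leaf 3)) (.node (.leaf 0) (.leaf 3))) (.node (.node (.leaf 3) (.leaf 0)) (.leaf 0)))))) (.node (.node (.node (.node (.node (.node (.leaf 0) (.leaf 3)) (.node (.leaf 0) (.leaf 3))) (.node (.node (.leaf 0) (.leaf 3)) (.node (.leaf 3) (.leaf 3)))) (.node (.node (.node (.leaf 0) (.leaf 3)) (.node (.leaf 0) (.leaf 3))) (.node (.node (.leaf 0) (.leaf 3)) (.leaf 0)))) (.node (.node (.node (.node (.leaf 3) (.leaf 3)) (.node (.leaf 0) (.leaf 3))) (.node (.node (.leaf 0) (.leaf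 0)) (.node (.leaf 0) (.leaf 0)))) (.node (.node (.node (.leaf 0) (.leaf 3)) (.node (.leaf 3) (.leaf 3))) (.node (.node (.leaf 0) (.leaf 0)) (.leaf 3))))) (.node (.node (.node (.node (.node (.leaf 0) (.leaf 3)) (.node (.leaf 0) (.leaf 3))) (.node (.node (.leaf 0) (.leaf 3)) (.node (.leaf 3) (.leaf 3)))) (.node (.node (.node (.leaf 3) (.leaf 0)) (.node (.leaf 3) (.leaf 3))) (.node (.node (.leaf 3) (.leaf 3)) (.leaf 0)))) (.node (.node (.node (.node (.leaf 0) (.leaf 3)) (.node (.leaf 0) (.leaf 0))) (.node (.node (.leaf 3) (.leaf 3)) (.node (.leaf 0) (.leaf 3)))) (.node (.node (.node (.leaf 3) (.leaf 3)) (.node (.leaf 3) (.leaf 3))) (.node (.node (.leaf 0) (.leaf 3)) (.leaf 3))))))) (.node (.node (.node (.node (.node (.node (.node (.leaf 0) (.leaf 0)) (.node (.leaf 0) (.leaf 3))) (.node (.node (.leaf 3) (.leaf 0)) (.node (.leaf 0) (.leaf 3)))) (.node (.node (.node (.leaf 0) (.leaf 0)) (.node (.leaf 0) (.leaf 3))) (.node (.node (.leaf 0) (.leaf 3)) (.leaf 0)))) (.node (.node (.node (.node (.leaf 0) (.leaf 3)) (.node (.leaf 0) (.leaf 3)))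 (.node (.node (.leaf 0) (.leaf 3)) (.node (.leaf 3) (.leaf 3)))) (.node (.node (.node (.leaf 0) (.leaf 3)) (.node (.leaf 3) (.leaf 3))) (.node (.node (.leaf 3) (.leaf 3)) (.leaf 0))))) (.node (.node (.node (.node (.node (.leaf 3) (.leaf 3)) (.node (.leaf 0) (.leaf 3))) (.node (.node (.leaf 0) (.leaf 3)) (.node (.leaf 0) (.leaf 3)))) (.node (.node (.node (.leaf 0) (.leaf 0)) (.node (.leaf 3) (.leaf 3))) (.node (.node (.leaf 0) (.leaf 3)) (.leaf 0)))) (.node (.node (.node (.node (.leaf 0) (.leaf 0)) (.node (.leaf 0) (.leaf 3))) (.node (.node (.leaf 0) (.leaf 0)) (.node (.leaf 3) (.leaf 3)))) (.node (.node (.node (.leaf 0) (.leaf 3)) (.node (.leaf 0) (.leaf 0))) (.node (.node (.leaf 0) (.leaf 3)) (.leaf 0)))))) (.node (.node (.node (.node (.node (.node (.leaf 0) (.leaf 0)) (.node (.leaf 0) (.leaf 0))) (.node (.node (.leaf 0) (.leaf 0)) (.node (.leaf 3) (.leaf 3)))) (.node (.node (.node (.leaf 0) (.leaf 0)) (.node (.leaf 0) (.leaf 3))) (.node (.node (.leaf 0) (.leaf 3)) (.leaf 0)))) (.node (.node (.node (.node (.leaf 0) (.leaf 3)) (.node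 (.leaf 3) (.leaf 3))) (.node (.node (.leaf 3) (.leaf 3)) (.node (.leaf 3) (.leaf 3)))) (.node (.node (.node (.leaf 3) (.leaf 0)) (.node (.leaf 3) (.leaf 3))) (.node (.node (.leaf 3) (.leaf 3)) (.leaf 3))))) (.node (.node (.node (.node (.node (.leaf 0) (.leaf 3)) (.node (.leaf 0) (.leaf 3))) (.node (.node (.leaf 0) (.leaf 3)) (.node (.leaf 0) (.leaf 0)))) (.node (.node (.node (.leaf 3) (.leaf 3)) (.node (.leaf 3) (.leaf 3))) (.node (.node (.leaf 0) (.leaf 0)) (.leaf 0)))) (.node (.node (.node (.node (.leaf 0) (.leaf 3)) (.node (.leaf 0) (.leaf 3))) (.node (.node (.leaf 3) (.leaf 0)) (.node (.leaf 3) (.leaf 3)))) (.node (.node (.node (.leaf 0) (.leaf 3)) (.node (.leaf 0) (.leaf 3))) (.node (.node (.leaf 3) (.leaf 3)) (.leaf 0)))))))))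

def twoKind2 : Janko.Tree (ℕ) :=
  (.node (.node (.node (.node (.node (.node (.node (.node (.node (.leaf 0) (.leaf 3)) (.node (.leaf 0) (.leaf 3))) (.node (.node (.leaf 3) (.leaf 3)) (.node (.leaf 3) (.leaf 3)))) (.node (.node (.node (.leaf 0) (.leaf 0)) (.node (.leaf 3) (.leaf 0))) (.node (.node (.leaf 0) (.leaf 3)) (.node (.leaf 3) (.leaf 2))))) (.node (.node (.node (.node (.leaf 0) (.leaf 3)) (.node (.leaf 0) (.leaf 3))) (.node (.node (.leaf 0) (.leaf 0)) (.node (.leaf 0) (.leaf 3)))) (.node (.node (.node (.leaf 0) (.leaf 0)) (.node (.leaf 3) (.leaf 3))) (.node (.node (.leaf 3) (.leaf 3)) (.leaf 3))))) (.node (.node (.node (.node (.node (.leaf 0) (.leaf 3)) (.node (.leaf 0) (.leaf 3))) (.node (.node (.leaf 0) (.leaf 3)) (.node (.leaf 0) (.leaf 3)))) (.node (.node (.node (.leaf 0) (.leaf 3)) (.node (.leaf 0) (.leaf 0))) (.node (.node (.leaf 0) (.leaf 3)) (.leaf 0)))) (.node (.node (.node (.node (.leaf 0) (.leaf 3)) (.node (.leaf 3) (.leaf 3))) (.node (.node (.leaf 3) (.leaf 3)) (.node (.leaf 0) (.leaf 3)))) (.node (.node (.node (.leaf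 3) (.leaf 0)) (.node (.leaf 0) (.leaf 3))) (.node (.node (.leaf 0) (.leaf 3)) (.leaf 3)))))) (.node (.node (.node (.node (.node (.node (.leaf 0) (.leaf 3)) (.node (.leaf 0) (.leaf 3))) (.node (.node (.leaf 0) (.leaf 0)) (.node (.leaf 3) (.leaf 3)))) (.node (.node (.node (.leaf 0) (.leaf 3)) (.node (.leaf 0) (.leaf 3))) (.node (.node (.leaf 0) (.leaf 3)) (.leaf 0)))) (.node (.node (.node (.node (.leaf 0) (.leaf 3)) (.node (.leaf 3) (.leaf 3))) (.node (.node (.leaf 3) (.leaf 3)) (.node (.leaf 0) (.leaf 3)))) (.node (.node (.node (.leaf 0) (.leaf 3)) (.node (.leaf 0) (.leaf 3))) (.node (.node (.leaf 0) (.leaf 3)) (.leaf 3))))) (.node (.node (.node (.node (.node (.leaf 0) (.leaf 0)) (.node (.leaf 0) (.leaf 3))) (.node (.node (.leaf 0) (.leaf 0)) (.node (.leaf 0) (.leaf 3)))) (.node (.node (.node (.leaf 0) (.leaf 3)) (.node (.leaf 3) (.leaf 3))) (.node (.node (.leaf 3) (.leaf 3)) (.leaf 0)))) (.node (.node (.node (.node (.leaf 0) (.leaf 0)) (.node (.leaf 0) (.leaf 3))) (.node (.node (.leaf 0) (.leaf 3)) (.node (.leaf 0) (.leaf 3)))) (.node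 (.node (.node (.leaf 0) (.leaf 3)) (.node (.leaf 3) (.leaf 3))) (.node (.node (.leaf 0) (.leaf 0)) (.leaf 3))))))) (.node (.node (.node (.node (.node (.node (.node (.leaf 0) (.leaf 3)) (.node (.leaf 0) (.leaf 3))) (.node (.node (.leaf 0) (.leaf 0)) (.node (.leaf 3) (.leaf 3)))) (.node (.node (.node (.leaf 0) (.leaf 0)) (.node (.leaf 0) (.leaf 3))) (.node (.node (.leaf 0) (.leaf 3)) (.leaf 0)))) (.node (.node (.node (.node (.leaf 0) (.leaf 3)) (.node (.leaf 0) (.leaf 3))) (.node (.node (.leaf 0) (.leaf 0)) (.node (.leaf 0) (.leaf 3)))) (.node (.node (.node (.leaf 3) (.leaf 0)) (.node (.leaf 3) (.leaf 3))) (.node (.node (.leaf 0) (.leaf 3)) (.leaf 0))))) (.node (.node (.node (.node (.node (.leaf 0) (.leaf 3)) (.node (.leaf 0) (.leaf 3))) (.node (.node (.leaf 0) (.leaf 3)) (.node (.leaf 3) (.leaf 3)))) (.node (.node (.node (.leaf 3) (.leaf 3)) (.node (.leaf 0) (.leaf 0))) (.node (.node (.leaf 0) (.leaf 0)) (.leaf 3)))) (.node (.node (.node (.node (.leaf 0) (.leaf 3)) (.node (.leaf 0) (.leaf 3))) (.node (.node (.leaf 0) (.leaf 3)) (.node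 (.leaf 3) (.leaf 3)))) (.node (.node (.node (.leaf 0) (.leaf 3)) (.node (.leaf 0) (.leaf 3))) (.node (.node (.leaf 0) (.leaf 3)) (.leaf 3)))))) (.node (.node (.node (.node (.node (.node (.leaf 0) (.leaf 3)) (.node (.leaf 3) (.leaf 3))) (.node (.node (.leaf 0) (.leaf 3)) (.node (.leaf 0) (.leaf 3)))) (.node (.node (.node (.leaf 0) (.leaf 3)) (.node (.leaf 3) (.leaf 0))) (.node (.node (.leaf 0) (.leaf 3)) (.leaf 0)))) (.node (.node (.node (.node (.leaf 0) (.leaf 3)) (.node (.leaf 0) (.leaf 3))) (.node (.node (.leaf 0) (.leaf 0)) (.node (.leaf 3) (.leaf 3)))) (.node (.node (.node (.leaf 0) (.leaf 3)) (.node (.leaf 0) (.leaf 3))) (.node (.node (.leaf 0) (.leaf 3)) (.leaf 0))))) (.node (.node (.node (.node (.node (.leaf 0) (.leaf 3)) (.node (.leaf 0) (.leaf 0))) (.node (.node (.leaf 0) (.leaf 3)) (.node (.leaf 3) (.leaf 3)))) (.node (.node (.node (.leaf 0) (.leaf 3)) (.node (.leaf 0) (.leaf 3))) (.node (.node (.leaf 0) (.leaf 0)) (.leaf 0)))) (.node (.node (.node (.node (.leaf 0) (.leaf 3)) (.node (.leaf 3) (.leaf 0))) (.node (.node (.leaf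 0) (.leaf 0)) (.node (.leaf 3) (.leaf 3)))) (.node (.node (.node (.leaf 0) (.leaf 3)) (.node (.leaf 3) (.leaf 3))) (.node (.node (.leaf 0) (.leaf 3)) (.leaf 3)))))))) (.node (.node (.node (.node (.node (.node (.node (.node (.leaf 0) (.leaf 3)) (.node (.leaf 3) (.leaf 3))) (.node (.node (.leaf 0) (.leaf 3)) (.node (.leaf 3) (.leaf 3)))) (.node (.node (.node (.leaf 0) (.leaf 0)) (.node (.leaf 0) (.leaf 0))) (.node (.node (.leaf 0) (.leaf 3)) (.node (.leaf 3) (.leaf 3))))) (.node (.node (.node (.node (.leaf 0) (.leaf 0)) (.node (.leaf 3) (.leaf 3))) (.node (.node (.leaf 0) (.leaf 0)) (.node (.leaf 0) (.leaf 3)))) (.node (.node (.node (.leaf 0) (.leaf 0)) (.node (.leaf 0) (.leaf 3))) (.node (.node (.leaf 3) (.leaf 3)) (.leaf 0))))) (.node (.node (.node (.node (.node (.leaf 3) (.leaf 0)) (.node (.leaf 0) (.leaf 0))) (.node (.node (.leaf 0) (.leaf 3)) (.node (.leaf 3) (.leaf 3)))) (.node (.node (.node (.leaf 0) (.leaf 3)) (.node (.leaf 0) (.leaf 3))) (.node (.node (.leaf 3) (.leaf 0)) (.leaf 0)))) (.node (.node (.node (.node (.leaf 0) (.leaf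 0)) (.node (.leaf 0) (.leaf 3))) (.node (.node (.leaf 0) (.leaf 0)) (.node (.leaf 0) (.leaf 0)))) (.node (.node (.node (.leaf 0) (.leaf 3)) (.node (.leaf 0) (.leaf 3))) (.node (.node (.leaf 0) (.leaf 3)) (.leaf 0)))))) (.node (.node (.node (.node (.node (.node (.leaf 0) (.leaf 0)) (.node (.leaf 3) (.leaf 3))) (.node (.node (.leaf 0) (.leaf 3)) (.node (.leaf 3) (.leaf 0)))) (.node (.node (.node (.leaf 3) (.leaf 3)) (.node (.leaf 3) (.leaf 3))) (.node (.node (.leaf 0) (.leaf 3)) (.leaf 0)))) (.node (.node (.node (.node (.leaf 0) (.leaf 3)) (.node (.leaf 0) (.leaf 3))) (.node (.node (.leaf 0) (.leaf 0)) (.node (.leaf 0) (.leaf 3)))) (.node (.node (.node (.leaf 0) (.leaf 3)) (.node (.leaf 3) (.leaf 3))) (.node (.node (.leaf 0) (.leaf 3)) (.leaf 3))))) (.node (.node (.node (.node (.node (.leaf 3) (.leaf 3)) (.node (.leaf 0) (.leaf 3))) (.node (.node (.leaf 0) (.leaf 0)) (.node (.leaf 0) (.leaf 3)))) (.node (.node (.node (.leaf 0) (.leaf 3)) (.node (.leaf 0) (.leaf 3))) (.node (.node (.leaf 0) (.leaf 3)) (.leaf 0)))) (.node (.node (.node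 (.node (.leaf 0) (.leaf 3)) (.node (.leaf 0) (.leaf 3))) (.node (.node (.leaf 0) (.leaf 0)) (.node (.leaf 0) (.leaf 3)))) (.node (.node (.node (.leaf 0) (.leaf 3)) (.node (.leaf 0) (.leaf 3))) (.node (.node (.leaf 0) (.leaf 3)) (.leaf 3))))))) (.node (.node (.node (.node (.node (.node (.node (.leaf 0) (.leaf 3)) (.node (.leaf 0) (.leaf 0))) (.node (.node (.leaf 3) (.leaf 3)) (.node (.leaf 3) (.leaf 0)))) (.node (.node (.node (.leaf 0) (.leaf 0)) (.node (.leaf 0) (.leaf 3))) (.node (.node (.leaf 0) (.leaf 3)) (.leaf 3)))) (.node (.node (.node (.node (.leaf 3) (.leaf 3)) (.node (.leaf 0) (.leaf 3))) (.node (.node (.leaf 0) (.leaf 3)) (.node (.leaf 3) (.leaf 3)))) (.node (.node (.node (.leaf 0) (.leaf 0)) (.node (.leaf 3) (.leaf 0))) (.node (.node (.leaf 0) (.leaf 3)) (.leaf 0))))) (.node (.node (.node (.node (.node (.leaf 3) (.leaf 3)) (.node (.leaf 0) (.leaf 0))) (.node (.node (.leaf 0) (.leaf 3)) (.node (.leaf 0) (.leaf 3)))) (.node (.node (.node (.leaf 0) (.leaf 0)) (.node (.leaf 0) (.leaf 3))) (.node (.node (.leaf 0) (.leaf 3)) (.leaf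 3)))) (.node (.node (.node (.node (.leaf 0) (.leaf 0)) (.node (.leaf 0) (.leaf 3))) (.node (.node (.leaf 0) (.leaf 0)) (.node (.leaf 3) (.leaf 3)))) (.node (.node (.node (.leaf 0) (.leaf 0)) (.node (.leaf 3) (.leaf 3))) (.node (.node (.leaf 3) (.leaf 0)) (.leaf 0)))))) (.node (.node (.node (.node (.node (.node (.leaf 0) (.leaf 0)) (.node (.leaf 0) (.leaf 0))) (.node (.node (.leaf 0) (.leaf 3)) (.node (.leaf 3) (.leaf 3)))) (.node (.node (.node (.leaf 0) (.leaf 3)) (.node (.leaf 0) (.leaf 3))) (.node (.node (.leaf 3) (.leaf 3)) (.leaf 3)))) (.node (.node (.node (.node (.leaf 0) (.leaf 3)) (.node (.leaf 0) (.leaf 3))) (.node (.node (.leaf 0) (.leaf 3)) (.node (.leaf 0) (.leaf 3)))) (.node (.node (.node (.leaf 0) (.leaf 0)) (.node (.leaf 0) (.leaf 3))) (.node (.node (.leaf 0) (.leaf 3)) (.leaf 0))))) (.node (.node (.node (.node (.node (.leaf 0) (.leaf 3)) (.node (.leaf 3) (.leaf 3))) (.node (.node (.leaf 0) (.leaf 0)) (.node (.leaf 0) (.leaf 3)))) (.node (.node (.node (.leaf 0) (.leaf 3)) (.node (.leaf 3) (.leaf 0))) (.node (.node (.leaf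 0) (.leaf 3)) (.leaf 3)))) (.node (.node (.node (.node (.leaf 3) (.leaf 0)) (.node (.leaf 0) (.leaf 3))) (.node (.node (.leaf 0) (.leaf 3)) (.node (.leaf 0) (.leaf 3)))) (.node (.node (.node (.leaf 0) (.leaf 3)) (.node (.leaf 0) (.leaf 0))) (.node (.node (.leaf 3) (.leaf 3)) (.leaf 3)))))))))

def twoKind3 : Janko.Tree (ℕ) :=
  (.node (.node (.node (.node (.node (.node (.node (.node (.node (.leaf 0) (.leaf 0)) (.node (.leaf 3) (.leaf 0))) (.node (.node (.leaf 0) (.leaf 3)) (.node (.leaf 0) (.leaf 3)))) (.node (.node (.node (.leaf 0) (.leaf 3)) (.node (.leaf 0) (.leaf 3))) (.node (.node (.leaf 3) (.leaf 0)) (.node (.leaf 3) (.leaf 3))))) (.node (.node (.node (.node (.leaf 0) (.leaf 0)) (.node (.leaf 0) (.leaf 3))) (.node (.node (.leaf 0) (.leaf 0)) (.node (.leaf 3) (.leaf 3)))) (.node (.node (.node (.leaf 3) (.leaf 3)) (.node (.leaf 0) (.leaf 3))) (.node (.node (.leaf 0) (.leaf 0)) (.leaf 3))))) (.node (.node (.node (.node (.node (.leaf 0) (.leaf 3)) (.node (.leaf 3) (.leaf 3))) (.node (.node (.leaf 0) (.leaf 3)) (.node (.leaf 3) (.leaf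 3)))) (.node (.node (.node (.leaf 3) (.leaf 0)) (.node (.leaf 0) (.leaf 3))) (.node (.node (.leaf 3) (.leaf 3)) (.leaf 3)))) (.node (.node (.node (.node (.leaf 3) (.leaf 3)) (.node (.leaf 0) (.leaf 3))) (.node (.node (.leaf 0) (.leaf 3)) (.node (.leaf 3) (.leaf 3)))) (.node (.node (.node (.leaf 0) (.leaf 0)) (.node (.leaf 0) (.leaf 3))) (.node (.node (.leaf 3) (.leaf 3)) (.leaf 0)))))) (.node (.node (.node (.node (.node (.node (.leaf 0) (.leaf 0)) (.node (.leaf 0) (.leaf 3))) (.node (.node (.leaf 0) (.leaf 0)) (.node (.leaf 0) (.leaf 3)))) (.node (.node (.node (.leaf 0) (.leaf 0)) (.node (.leaf 3) (.leaf 3))) (.node (.node (.leaf 0) (.leaf 3)) (.leaf 0)))) (.node (.node (.node (.node (.leaf 0) (.leaf 3)) (.node (.leaf 0) (.leaf 3))) (.node (.node (.leaf 0) (.leaf 3)) (.node (.leaf 0) (.leaf 3)))) (.node (.node (.node (.leaf 0) (.leaf 3)) (.node (.leaf 0) (.leaf 3))) (.node (.node (.leaf 0) (.leaf 3)) (.leaf 0))))) (.node (.node (.node (.node (.node (.leaf 0) (.leaf 0)) (.node (.leaf 3) (.leaf 3))) (.node (.node (.leaf 0) (.leaf 0))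 (.node (.leaf 0) (.leaf 3)))) (.node (.node (.node (.leaf 0) (.leaf 3)) (.node (.leaf 3) (.leaf 0))) (.node (.node (.leaf 0) (.leaf 0)) (.leaf 3)))) (.node (.node (.node (.node (.leaf 0) (.leaf 3)) (.node (.leaf 0) (.leaf 3))) (.node (.node (.leaf 0) (.leaf 3)) (.node (.leaf 0) (.leaf 0)))) (.node (.node (.node (.leaf 0) (.leaf 3)) (.node (.leaf 0) (.leaf 3))) (.node (.node (.leaf 0) (.leaf 3)) (.leaf 3))))))) (.node (.node (.node (.node (.node (.node (.node (.leaf 0) (.leaf 3)) (.node (.leaf 0) (.leaf 3))) (.node (.node (.leaf 3) (.leaf 3)) (.node (.leaf 3) (.leaf 3)))) (.node (.node (.node (.leaf 0) (.leaf 3)) (.node (.leaf 3) (.leaf 0))) (.node (.node (.leaf 0) (.leaf 3)) (.leaf 0)))) (.node (.node (.node (.node (.leaf 0) (.leaf 3)) (.node (.leaf 3) (.leaf 0))) (.node (.node (.leaf 0) (.leaf 3)) (.node (.leaf 0) (.leaf 3)))) (.node (.node (.node (.leaf 0) (.leaf 0)) (.node (.leaf 0) (.leaf 3))) (.node (.node (.leaf 0) (.leaf 3)) (.leaf 3))))) (.node (.node (.node (.node (.node (.leaf 3) (.leaf 3)) (.node (.leaf 3) (.leaf 3))) (.node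 (.node (.leaf 0) (.leaf 0)) (.node (.leaf 0) (.leaf 3)))) (.node (.node (.node (.leaf 0) (.leaf 0)) (.node (.leaf 3) (.leaf 0))) (.node (.node (.leaf 0) (.leaf 3)) (.leaf 0)))) (.node (.node (.node (.node (.leaf 3) (.leaf 3)) (.node (.leaf 0) (.leaf 3))) (.node (.node (.leaf 0) (.leaf 0)) (.node (.leaf 0) (.leaf 3)))) (.node (.node (.node (.leaf 0) (.leaf 3)) (.node (.leaf 0) (.leaf 3))) (.node (.node (.leaf 0) (.leaf 3)) (.leaf 0)))))) (.node (.node (.node (.node (.node (.node (.leaf 0) (.leaf 0)) (.node (.leaf 0) (.leaf 3))) (.node (.node (.leaf 3) (.leaf 3)) (.node (.leaf 3) (.leaf 3)))) (.node (.node (.node (.leaf 0) (.leaf 0)) (.node (.leaf 0) (.leaf 0))) (.node (.node (.leaf 0) (.leaf 3)) (.leaf 0)))) (.node (.node (.node (.node (.leaf 0) (.leaf 3)) (.node (.leaf 3) (.leaf 0))) (.node (.node (.leaf 0) (.leaf 3)) (.node (.leaf 0) (.leaf 0)))) (.node (.node (.node (.leaf 0) (.leaf 0)) (.node (.leaf 0) (.leaf 3))) (.node (.node (.leaf 0) (.leaf 0)) (.leaf 3))))) (.node (.node (.node (.node (.node (.leaf 0) (.leaf 0)) (.node (.leaf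 3) (.leaf 3))) (.node (.node (.leaf 0) (.leaf 0)) (.node (.leaf 0) (.leaf 0)))) (.node (.node (.node (.leaf 0) (.leaf 0)) (.node (.leaf 0) (.leaf 3))) (.node (.node (.leaf 0) (.leaf 3)) (.leaf 0)))) (.node (.node (.node (.node (.leaf 0) (.leaf 3)) (.node (.leaf 0) (.leaf 3))) (.node (.node (.leaf 0) (.leaf 3)) (.node (.leaf 3) (.leaf 3)))) (.node (.node (.node (.leaf 0) (.leaf 3)) (.node (.leaf 0) (.leaf 0))) (.node (.node (.leaf 3) (.leaf 3)) (.leaf 3)))))))) (.node (.node (.node (.node (.node (.node (.node (.node (.leaf 0) (.leaf 0)) (.node (.leaf 0) (.leaf 3))) (.node (.node (.leaf 0) (.leaf 3)) (.node (.leaf 3) (.leaf 3)))) (.node (.node (.node (.leaf 0) (.leaf 0)) (.node (.leaf 0) (.leaf 3))) (.node (.node (.leaf 0) (.leaf 0)) (.node (.leaf 0) (.leaf 3))))) (.node (.node (.node (.node (.leaf 0) (.leaf 0)) (.node (.leaf 3) (.leaf 3))) (.node (.node (.leaf 0) (.leaf 3)) (.node (.leaf 0) (.leaf 3)))) (.node (.node (.node (.leaf 0) (.leaf 3)) (.node (.leaf 3) (.leaf 3))) (.node (.node (.leaf 0) (.leaf 3)) (.leaf 3))))) (.node (.node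 (.node (.node (.node (.leaf 0) (.leaf 0)) (.node (.leaf 3) (.leaf 3))) (.node (.node (.leaf 3) (.leaf 3)) (.node (.leaf 0) (.leaf 3)))) (.node (.node (.node (.leaf 0) (.leaf 0)) (.node (.leaf 0) (.leaf 3))) (.node (.node (.leaf 0) (.leaf 0)) (.leaf 0)))) (.node (.node (.node (.node (.leaf 0) (.leaf 3)) (.node (.leaf 0) (.leaf 3))) (.node (.node (.leaf 0) (.leaf 0)) (.node (.leaf 3) (.leaf 3)))) (.node (.node (.node (.leaf 0) (.leaf 0)) (.node (.leaf 0) (.leaf 0))) (.node (.node (.leaf 3) (.leaf 3)) (.leaf 3)))))) (.node (.node (.node (.node (.node (.node (.leaf 0) (.leaf 0)) (.node (.leaf 0) (.leaf 3))) (.node (.node (.leaf 3) (.leaf 3)) (.node (.leaf 0) (.leaf 3)))) (.node (.node (.node (.leaf 0) (.leaf 3)) (.node (.leaf 3) (.leaf 0))) (.node (.node (.leaf 0) (.leaf 3)) (.leaf 3)))) (.node (.node (.node (.node (.leaf 0) (.leaf 0)) (.node (.leaf 0) (.leaf 3))) (.node (.node (.leaf 0) (.leaf 3)) (.node (.leaf 0) (.leaf 3)))) (.node (.node (.node (.leaf 0) (.leaf 3)) (.node (.leaf 0) (.leaf 0))) (.node (.node (.leaf 3) (.leaf 3)) (.leaf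 3))))) (.node (.node (.node (.node (.node (.leaf 0) (.leaf 0)) (.node (.leaf 0) (.leaf 3))) (.node (.node (.leaf 0) (.leaf 0)) (.node (.leaf 0) (.leaf 3)))) (.node (.node (.node (.leaf 0) (.leaf 3)) (.node (.leaf 0) (.leaf 0))) (.node (.node (.leaf 0) (.leaf 0)) (.leaf 0)))) (.node (.node (.node (.node (.leaf 3) (.leaf 0)) (.node (.leaf 0) (.leaf 0))) (.node (.node (.leaf 0) (.leaf 3)) (.node (.leaf 3) (.leaf 3)))) (.node (.node (.node (.leaf 0) (.leaf 3)) (.node (.leaf 0) (.leaf 3))) (.node (.node (.leaf 0) (.leaf 3)) (.leaf 3))))))) (.node (.node (.node (.node (.node (.node (.node (.leaf 0) (.leaf 3)) (.node (.leaf 0) (.leaf 3))) (.node (.node (.leaf 0) (.leaf 3)) (.node (.leaf 3) (.leaf 3)))) (.node (.node (.node (.leaf 0) (.leaf 3)) (.node (.leaf 0) (.leaf 3))) (.node (.node (.leaf 0) (.leaf 0)) (.leaf 0)))) (.node (.node (.node (.node (.leaf 0) (.leaf 0)) (.node (.leaf 3) (.leaf 3))) (.node (.node (.leaf 0) (.leaf 0)) (.node (.leaf 0) (.leaf 0)))) (.node (.node (.node (.leaf 0) (.leaf 0)) (.node (.leaf 0) (.leaf 3))) (.node (.node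 (.leaf 0) (.leaf 3)) (.leaf 0))))) (.node (.node (.node (.node (.node (.leaf 0) (.leaf 0)) (.node (.leaf 0) (.leaf 3))) (.node (.node (.leaf 0) (.leaf 0)) (.node (.leaf 3) (.leaf 3)))) (.node (.node (.node (.leaf 0) (.leaf 3)) (.node (.leaf 0) (.leaf 0))) (.node (.node (.leaf 0) (.leaf 3)) (.leaf 0)))) (.node (.node (.node (.node (.leaf 0) (.leaf 0)) (.node (.leaf 3) (.leaf 3))) (.node (.node (.leaf 3) (.leaf 0)) (.node (.leaf 0) (.leaf 3)))) (.node (.node (.node (.leaf 3) (.leaf 3)) (.node (.leaf 3) (.leaf 3))) (.node (.node (.leaf 3) (.leaf 0)) (.leaf 0)))))) (.node (.node (.node (.node (.node (.node (.leaf 0) (.leaf 0)) (.node (.leaf 0) (.leaf 0))) (.node (.node (.leaf 0) (.leaf 3)) (.node (.leaf 3) (.leaf 3)))) (.node (.node (.node (.leaf 0) (.leaf 3)) (.node (.leaf 3) (.leaf 0))) (.node (.node (.leaf 0) (.leaf 3)) (.leaf 3)))) (.node (.node (.node (.node (.leaf 0) (.leaf 0)) (.node (.leaf 0) (.leaf 0))) (.node (.node (.leaf 0) (.leaf 0)) (.node (.leaf 3) (.leaf 3)))) (.node (.node (.node (.leaf 0) (.leaf 0)) (.node (.leaf 0) (.leaf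 3))) (.node (.node (.leaf 0) (.leaf 3)) (.leaf 3))))) (.node (.node (.node (.node (.node (.leaf 0) (.leaf 0)) (.node (.leaf 0) (.leaf 0))) (.node (.node (.leaf 0) (.leaf 3)) (.node (.leaf 0) (.leaf 3)))) (.node (.node (.node (.leaf 3) (.leaf 0)) (.node (.leaf 3) (.leaf 3))) (.node (.node (.leaf 0) (.leaf 3)) (.leaf 0)))) (.node (.node (.node (.node (.leaf 0) (.leaf 3)) (.node (.leaf 0) (.leaf 0))) (.node (.node (.leaf 0) (.leaf 0)) (.node (.leaf 3) (.leaf 3)))) (.node (.node (.node (.leaf 3) (.leaf 0)) (.node (.leaf 3) (.leaf 3))) (.node (.node (.leaf 0) (.leaf 3)) (.leaf 0)))))))))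

def twoKind4 : Janko.Tree (ℕ) :=
  (.node (.node (.node (.node (.node (.node (.node (.node (.node (.leaf 0) (.leaf 3)) (.node (.leaf 0) (.leaf 3))) (.node (.node (.leaf 0) (.leaf 0)) (.node (.leaf 0) (.leaf 3)))) (.node (.node (.node (.leaf 0) (.leaf 0)) (.node (.leaf 0) (.leaf 3))) (.node (.node (.leaf 0) (.leaf 3)) (.node (.leaf 0) (.leaf 3))))) (.node (.node (.node (.node (.leaf 0) (.leaf 3)) (.node (.leaf 0) (.leaf 3))) (.node (.node (.leaf 0) (.leaf 3)) (.node (.leaf 0) (.leaf 3)))) (.node (.node (.node (.leaf 3) (.leaf 3)) (.node (.leaf 0) (.leaf 0))) (.node (.node (.leaf 0) (.leaf 3)) (.leaf 3))))) (.node (.node (.node (.node (.node (.leaf 0) (.leaf 3)) (.node (.leaf 0) (.leaf 0))) (.node (.node (.leaf 0) (.leaf 0)) (.node (.leaf 0) (.leaf 3)))) (.node (.node (.node (.leaf 3) (.leaf 3)) (.node (.leaf 3) (.leaf 3))) (.node (.node (.leaf 0) (.leaf 0)) (.leaf 0)))) (.node (.node (.node (.node (.leaf 0) (.leaf 3)) (.node (.leaf 0) (.leaf 3))) (.node (.node (.leaf 0) (.leaf 3)) (.node (.leaf 0) (.leaf 3)))) (.node (.node (.node (.leaf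 0) (.leaf 3)) (.node (.leaf 0) (.leaf 3))) (.node (.node (.leaf 0) (.leaf 0)) (.leaf 3)))))) (.node (.node (.node (.node (.node (.node (.leaf 0) (.leaf 3)) (.node (.leaf 0) (.leaf 3))) (.node (.node (.leaf 3) (.leaf 3)) (.node (.leaf 0) (.leaf 3)))) (.node (.node (.node (.leaf 0) (.leaf 3)) (.node (.leaf 0) (.leaf 3))) (.node (.node (.leaf 3) (.leaf 0)) (.leaf 3)))) (.node (.node (.node (.node (.leaf 0) (.leaf 3)) (.node (.leaf 0) (.leaf 3))) (.node (.node (.leaf 0) (.leaf 3)) (.node (.leaf 3) (.leaf 3)))) (.node (.node (.node (.leaf 0) (.leaf 0)) (.node (.leaf 3) (.leaf 3))) (.node (.node (.leaf 0) (.leaf 3)) (.leaf 3))))) (.node (.node (.node (.node (.node (.leaf 0) (.leaf 3)) (.node (.leaf 0) (.leaf 3))) (.node (.node (.leaf 0) (.leaf 0)) (.node (.leaf 3) (.leaf 3)))) (.node (.node (.node (.leaf 0) (.leaf 0)) (.node (.leaf 0) (.leaf 3))) (.node (.node (.leaf 0) (.leaf 0)) (.leaf 3)))) (.node (.node (.node (.node (.leaf 0) (.leaf 0)) (.node (.leaf 3) (.leaf 0))) (.node (.node (.leaf 0) (.leaf 3)) (.node (.leaf 0) (.leaf 3)))) (.node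 (.node (.node (.leaf 0) (.leaf 3)) (.node (.leaf 3) (.leaf 3))) (.node (.node (.leaf 0) (.leaf 3)) (.leaf 3))))))) (.node (.node (.node (.node (.node (.node (.node (.leaf 0) (.leaf 0)) (.node (.leaf 0) (.leaf 3))) (.node (.node (.leaf 0) (.leaf 0)) (.node (.leaf 0) (.leaf 3)))) (.node (.node (.node (.leaf 0) (.leaf 3)) (.node (.leaf 3) (.leaf 3))) (.node (.node (.leaf 0) (.leaf 3)) (.leaf 0)))) (.node (.node (.node (.node (.leaf 0) (.leaf 3)) (.node (.leaf 0) (.leaf 3))) (.node (.node (.leaf 0) (.leaf 3)) (.node (.leaf 3) (.leaf 3)))) (.node (.node (.node (.leaf 0) (.leaf 3)) (.node (.leaf 0) (.leaf 3))) (.node (.node (.leaf 3) (.leaf 3)) (.leaf 3))))) (.node (.node (.node (.node (.node (.leaf 0) (.leaf 3)) (.node (.leaf 0) (.leaf 0))) (.node (.node (.leaf 3) (.leaf 3)) (.node (.leaf 0) (.leaf 3)))) (.node (.node (.node (.leaf 0) (.leaf 3)) (.node (.leaf 3) (.leaf 3))) (.node (.node (.leaf 0) (.leaf 3)) (.leaf 0)))) (.node (.node (.node (.node (.leaf 0) (.leaf 0)) (.node (.leaf 3) (.leaf 3))) (.node (.node (.leaf 0) (.leaf 3)) (.node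 (.leaf 0) (.leaf 3)))) (.node (.node (.node (.leaf 0) (.leaf 0)) (.node (.leaf 0) (.leaf 3))) (.node (.node (.leaf 0) (.leaf 3)) (.leaf 0)))))) (.node (.node (.node (.node (.node (.node (.leaf 0) (.leaf 3)) (.node (.leaf 0) (.leaf 3))) (.node (.node (.leaf 0) (.leaf 0)) (.node (.leaf 0) (.leaf 3)))) (.node (.node (.node (.leaf 3) (.leaf 3)) (.node (.leaf 0) (.leaf 3))) (.node (.node (.leaf 0) (.leaf 0)) (.leaf 0)))) (.node (.node (.node (.node (.leaf 3) (.leaf 3)) (.node (.leaf 0) (.leaf 3))) (.node (.node (.leaf 0) (.leaf 3)) (.node (.leaf 3) (.leaf 0)))) (.node (.node (.node (.leaf 0) (.leaf 3)) (.node (.leaf 0) (.leaf 3))) (.node (.node (.leaf 3) (.leaf 3)) (.leaf 3))))) (.node (.node (.node (.node (.node (.leaf 3) (.leaf 0)) (.node (.leaf 0) (.leaf 3))) (.node (.node (.leaf 3) (.leaf 3)) (.node (.leaf 3) (.leaf 3)))) (.node (.node (.node (.leaf 0) (.leaf 3)) (.node (.leaf 0) (.leaf 3))) (.node (.node (.leaf 0) (.leaf 3)) (.leaf 3)))) (.node (.node (.node (.node (.leaf 0) (.leaf 3)) (.node (.leaf 0) (.leaf 3))) (.node (.node (.leaf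 0) (.leaf 3)) (.node (.leaf 0) (.leaf 3)))) (.node (.node (.node (.leaf 0) (.leaf 3)) (.node (.leaf 0) (.leaf 3))) (.node (.node (.leaf 3) (.leaf 3)) (.leaf 0)))))))) (.node (.node (.node (.node (.node (.node (.node (.node (.leaf 0) (.leaf 3)) (.node (.leaf 0) (.leaf 3))) (.node (.node (.leaf 0) (.leaf 3)) (.node (.leaf 0) (.leaf 3)))) (.node (.node (.node (.leaf 0) (.leaf 0)) (.node (.leaf 0) (.leaf 3))) (.node (.node (.leaf 0) (.leaf 0)) (.node (.leaf 3) (.leaf 2))))) (.node (.node (.node (.node (.leaf 0) (.leaf 3)) (.node (.leaf 0) (.leaf 3))) (.node (.node (.leaf 0) (.leaf 3)) (.node (.leaf 3) (.leaf 3)))) (.node (.node (.node (.leaf 0) (.leaf 3)) (.node (.leaf 3) (.leaf 3))) (.node (.node (.leaf 0) (.leaf 3)) (.leaf 0))))) (.node (.node (.node (.node (.node (.leaf 0) (.leaf 3)) (.node (.leaf 0) (.leaf 3))) (.node (.node (.leaf 0) (.leaf 3)) (.node (.leaf 3) (.leaf 3)))) (.node (.node (.node (.leaf 0) (.leaf 3)) (.node (.leaf 0) (.leaf 3))) (.node (.node (.leaf 0) (.leaf 3)) (.leaf 0)))) (.node (.node (.node (.node (.leaf 0) (.leaf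 3)) (.node (.leaf 0) (.leaf 3))) (.node (.node (.leaf 3) (.leaf 3)) (.node (.leaf 3) (.leaf 3)))) (.node (.node (.node (.leaf 3) (.leaf 3)) (.node (.leaf 0) (.leaf 3))) (.node (.node (.leaf 0) (.leaf 3)) (.leaf 0)))))) (.node (.node (.node (.node (.node (.node (.leaf 3) (.leaf 0)) (.node (.leaf 0) (.leaf 3))) (.node (.node (.leaf 0) (.leaf 0)) (.node (.leaf 0) (.leaf 3)))) (.node (.node (.node (.leaf 0) (.leaf 0)) (.node (.leaf 0) (.leaf 3))) (.node (.node (.leaf 0) (.leaf 3)) (.leaf 3)))) (.node (.node (.node (.node (.leaf 0) (.leaf 3)) (.node (.leaf 0) (.leaf 3))) (.node (.node (.leaf 0) (.leaf 3)) (.node (.leaf 0) (.leaf 3)))) (.node (.node (.node (.leaf 0) (.leaf 0)) (.node (.leaf 0) (.leaf 3))) (.node (.node (.leaf 0) (.leaf 3)) (.leaf 3))))) (.node (.node (.node (.node (.node (.leaf 0) (.leaf 3)) (.node (.leaf 0) (.leaf 3))) (.node (.node (.leaf 3) (.leaf 3)) (.node (.leaf 3) (.leaf 0)))) (.node (.node (.node (.leaf 0) (.leaf 3)) (.node (.leaf 0) (.leaf 3))) (.node (.node (.leaf 3) (.leaf 3)) (.leaf 3)))) (.node (.node (.node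 (.node (.leaf 3) (.leaf 3)) (.node (.leaf 0) (.leaf 3))) (.node (.node (.leaf 0) (.leaf 0)) (.node (.leaf 3) (.leaf 3)))) (.node (.node (.node (.leaf 0) (.leaf 0)) (.node (.leaf 0) (.leaf 3))) (.node (.node (.leaf 0) (.leaf 0)) (.leaf 3))))))) (.node (.node (.node (.node (.node (.node (.node (.leaf 0) (.leaf 0)) (.node (.leaf 0) (.leaf 3))) (.node (.node (.leaf 0) (.leaf 3)) (.node (.leaf 0) (.leaf 3)))) (.node (.node (.node (.leaf 0) (.leaf 3)) (.node (.leaf 3) (.leaf 3))) (.node (.node (.leaf 3) (.leaf 0)) (.leaf 3)))) (.node (.node (.node (.node (.leaf 0) (.leaf 0)) (.node (.leaf 0) (.leaf 0))) (.node (.node (.leaf 0) (.leaf 3)) (.node (.leaf 0) (.leaf 3)))) (.node (.node (.node (.leaf 0) (.leaf 0)) (.node (.leaf 0) (.leaf 3))) (.node (.node (.leaf 0) (.leaf 0)) (.leaf 3))))) (.node (.node (.node (.node (.node (.leaf 0) (.leaf 0)) (.node (.leaf 3) (.leaf 3))) (.node (.node (.leaf 3) (.leaf 0)) (.node (.leaf 3) (.leaf 3)))) (.node (.node (.node (.leaf 0) (.leaf 3)) (.node (.leaf 3) (.leaf 3))) (.node (.node (.leaf 0) (.leaf 0)) (.leaf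 0)))) (.node (.node (.node (.node (.leaf 0) (.leaf 3)) (.node (.leaf 3) (.leaf 0))) (.node (.node (.leaf 3) (.leaf 3)) (.node (.leaf 0) (.leaf 3)))) (.node (.node (.node (.leaf 3) (.leaf 3)) (.node (.leaf 0) (.leaf 3))) (.node (.node (.leaf 0) (.leaf 3)) (.leaf 0)))))) (.node (.node (.node (.node (.node (.node (.leaf 0) (.leaf 3)) (.node (.leaf 0) (.leaf 3))) (.node (.node (.leaf 0) (.leaf 3)) (.node (.leaf 3) (.leaf 3)))) (.node (.node (.node (.leaf 0) (.leaf 0)) (.node (.leaf 0) (.leaf 3))) (.node (.node (.leaf 0) (.leaf 0)) (.leaf 0)))) (.node (.node (.node (.node (.leaf 0) (.leaf 3)) (.node (.leaf 3) (.leaf 3))) (.node (.node (.leaf 0) (.leaf 3)) (.node (.leaf 3) (.leaf 3)))) (.node (.node (.node (.leaf 0) (.leaf 3)) (.node (.leaf 0) (.leaf 3))) (.node (.node (.leaf 0) (.leaf 0)) (.leaf 3))))) (.node (.node (.node (.node (.node (.leaf 0) (.leaf 3)) (.node (.leaf 0) (.leaf 0))) (.node (.node (.leaf 0) (.leaf 3)) (.node (.leaf 3) (.leaf 3)))) (.node (.node (.node (.leaf 0) (.leaf 3)) (.node (.leaf 3) (.leaf 0))) (.node (.node (.leaf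 0) (.leaf 0)) (.leaf 3)))) (.node (.node (.node (.node (.leaf 0) (.leaf 3)) (.node (.leaf 3) (.leaf 0))) (.node (.node (.leaf 0) (.leaf 0)) (.node (.leaf 0) (.leaf 3)))) (.node (.node (.node (.leaf 0) (.leaf 3)) (.node (.leaf 3) (.leaf 3))) (.node (.node (.leaf 0) (.leaf 3)) (.leaf 0)))))))))

def twoKind5 : Janko.Tree (ℕ) :=
  (.node (.node (.node (.node (.node (.node (.node (.node (.node (.leaf 0) (.leaf 0)) (.node (.leaf 0) (.leaf 0))) (.node (.node (.leaf 3) (.leaf 3)) (.node (.leaf 0) (.leaf 3)))) (.node (.node (.node (.leaf 3) (.leaf 3)) (.node (.leaf 0) (.leaf 3))) (.node (.node (.leaf 3) (.leaf 0)) (.node (.leaf 3) (.leaf 3))))) (.node (.node (.node (.node (.leaf 0) (.leaf 0)) (.node (.leaf 0) (.leaf 3))) (.node (.node (.leaf 0) (.leaf 3)) (.node (.leaf 0) (.leaf 3)))) (.node (.node (.node (.leaf 0) (.leaf 0)) (.node (.leaf 0) (.leaf 3))) (.node (.node (.leaf 0) (.leaf 3)) (.leaf 0))))) (.node (.node (.node (.node (.node (.leaf 0) (.leaf 3)) (.node (.leaf 0) (.leaf 3))) (.node (.node (.leaf 3) (.leaf 0)) (.node (.leaf 3) (.leaf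 3)))) (.node (.node (.node (.leaf 0) (.leaf 0)) (.node (.leaf 0) (.leaf 0))) (.node (.node (.leaf 3) (.leaf 3)) (.leaf 0)))) (.node (.node (.node (.node (.leaf 3) (.leaf 3)) (.node (.leaf 3) (.leaf 3))) (.node (.node (.leaf 0) (.leaf 3)) (.node (.leaf 3) (.leaf 3)))) (.node (.node (.node (.leaf 0) (.leaf 3)) (.node (.leaf 3) (.leaf 3))) (.node (.node (.leaf 0) (.leaf 3)) (.leaf 3)))))) (.node (.node (.node (.node (.node (.node (.leaf 0) (.leaf 3)) (.node (.leaf 3) (.leaf 3))) (.node (.node (.leaf 0) (.leaf 0)) (.node (.leaf 0) (.leaf 3)))) (.node (.node (.node (.leaf 0) (.leaf 0)) (.node (.leaf 3) (.leaf 3))) (.node (.node (.leaf 0) (.leaf 0)) (.leaf 3)))) (.node (.node (.node (.node (.leaf 0) (.leaf 0)) (.node (.leaf 3) (.leaf 0))) (.node (.node (.leaf 0) (.leaf 3)) (.node (.leaf 3) (.leaf 3)))) (.node (.node (.node (.leaf 0) (.leaf 3)) (.node (.leaf 0) (.leaf 0))) (.node (.node (.leaf 3) (.leaf 3)) (.leaf 3))))) (.node (.node (.node (.node (.node (.leaf 0) (.leaf 0)) (.node (.leaf 0) (.leaf 3))) (.node (.node (.leaf 3) (.leaf 3))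 (.node (.leaf 0) (.leaf 3)))) (.node (.node (.node (.leaf 0) (.leaf 3)) (.node (.leaf 3) (.leaf 3))) (.node (.node (.leaf 0) (.leaf 0)) (.leaf 3)))) (.node (.node (.node (.node (.leaf 3) (.leaf 3)) (.node (.leaf 0) (.leaf 3))) (.node (.node (.leaf 0) (.leaf 3)) (.node (.leaf 0) (.leaf 3)))) (.node (.node (.node (.leaf 0) (.leaf 3)) (.node (.leaf 0) (.leaf 3))) (.node (.node (.leaf 3) (.leaf 3)) (.leaf 3))))))) (.node (.node (.node (.node (.node (.node (.node (.leaf 0) (.leaf 0)) (.node (.leaf 0) (.leaf 3))) (.node (.node (.leaf 0) (.leaf 0)) (.node (.leaf 0) (.leaf 0)))) (.node (.node (.node (.leaf 0) (.leaf 0)) (.node (.leaf 3) (.leaf 0))) (.node (.node (.leaf 0) (.leaf 3)) (.leaf 0)))) (.node (.node (.node (.node (.leaf 0) (.leaf 3)) (.node (.leaf 0) (.leaf 3))) (.node (.node (.leaf 0) (.leaf 0)) (.node (.leaf 3) (.leaf 3)))) (.node (.node (.node (.leaf 3) (.leaf 3)) (.node (.leaf 0) (.leaf 3))) (.node (.node (.leaf 3) (.leaf 3)) (.leaf 3))))) (.node (.node (.node (.node (.node (.leaf 0) (.leaf 3)) (.node (.leaf 0) (.leaf 0))) (.node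 (.node (.leaf 0) (.leaf 3)) (.node (.leaf 0) (.leaf 3)))) (.node (.node (.node (.leaf 3) (.leaf 3)) (.node (.leaf 0) (.leaf 0))) (.node (.node (.leaf 0) (.leaf 3)) (.leaf 3)))) (.node (.node (.node (.node (.leaf 3) (.leaf 0)) (.node (.leaf 0) (.leaf 3))) (.node (.node (.leaf 3) (.leaf 3)) (.node (.leaf 3) (.leaf 3)))) (.node (.node (.node (.leaf 3) (.leaf 3)) (.node (.leaf 0) (.leaf 0))) (.node (.node (.leaf 0) (.leaf 3)) (.leaf 0)))))) (.node (.node (.node (.node (.node (.node (.leaf 0) (.leaf 0)) (.node (.leaf 0) (.leaf 3))) (.node (.node (.leaf 0) (.leaf 3)) (.node (.leaf 0) (.leaf 0)))) (.node (.node (.node (.leaf 0) (.leaf 3)) (.node (.leaf 3) (.leaf 3))) (.node (.node (.leaf 3) (.leaf 3)) (.leaf 3)))) (.node (.node (.node (.node (.leaf 0) (.leaf 0)) (.node (.leaf 0) (.leaf 3))) (.node (.node (.leaf 3) (.leaf 3)) (.node (.leaf 3) (.leaf 3)))) (.node (.node (.node (.leaf 3) (.leaf 3)) (.node (.leaf 0) (.leaf 3))) (.node (.node (.leaf 0) (.leaf 3)) (.leaf 3))))) (.node (.node (.node (.node (.node (.leaf 0) (.leaf 3)) (.node (.leaf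 3) (.leaf 3))) (.node (.node (.leaf 0) (.leaf 3)) (.node (.leaf 3) (.leaf 3)))) (.node (.node (.node (.leaf 0) (.leaf 3)) (.node (.leaf 3) (.leaf 3))) (.node (.node (.leaf 0) (.leaf 0)) (.leaf 3)))) (.node (.node (.node (.node (.leaf 0) (.leaf 3)) (.node (.leaf 0) (.leaf 3))) (.node (.node (.leaf 0) (.leaf 0)) (.node (.leaf 0) (.leaf 3)))) (.node (.node (.node (.leaf 0) (.leaf 0)) (.node (.leaf 0) (.leaf 3))) (.node (.node (.leaf 0) (.leaf 3)) (.leaf 0)))))))) (.node (.node (.node (.node (.node (.node (.node (.node (.leaf 0) (.leaf 0)) (.node (.leaf 0) (.leaf 0))) (.node (.node (.leaf 0) (.leaf 0)) (.node (.leaf 3) (.leaf 0)))) (.node (.node (.node (.leaf 0) (.leaf 0)) (.node (.leaf 0) (.leaf 3))) (.node (.node (.leaf 0) (.leaf 3)) (.node (.leaf 3) (.leaf 3))))) (.node (.node (.node (.node (.leaf 0) (.leaf 3)) (.node (.leaf 0) (.leaf 3))) (.node (.node (.leaf 0) (.leaf 0)) (.node (.leaf 0) (.leaf 3)))) (.node (.node (.node (.leaf 0) (.leaf 0)) (.node (.leaf 0) (.leaf 0))) (.node (.node (.leaf 3) (.leaf 3)) (.leaf 3))))) (.node (.node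 (.node (.node (.node (.leaf 0) (.leaf 3)) (.node (.leaf 0) (.leaf 0))) (.node (.node (.leaf 3) (.leaf 3)) (.node (.leaf 3) (.leaf 3)))) (.node (.node (.node (.leaf 0) (.leaf 3)) (.node (.leaf 0) (.leaf 3))) (.node (.node (.leaf 0) (.leaf 3)) (.leaf 0)))) (.node (.node (.node (.node (.leaf 0) (.leaf 0)) (.node (.leaf 0) (.leaf 3))) (.node (.node (.leaf 0) (.leaf 0)) (.node (.leaf 0) (.leaf 3)))) (.node (.node (.node (.leaf 0) (.leaf 0)) (.node (.leaf 3) (.leaf 3))) (.node (.node (.leaf 0) (.leaf 3)) (.leaf 3)))))) (.node (.node (.node (.node (.node (.node (.leaf 0) (.leaf 0)) (.node (.leaf 0) (.leaf 3))) (.node (.node (.leaf 0) (.leaf 3)) (.node (.leaf 3) (.leaf 3)))) (.node (.node (.node (.leaf 0) (.leaf 3)) (.node (.leaf 0) (.leaf 3))) (.node (.node (.leaf 3) (.leaf 0)) (.leaf 3)))) (.node (.node (.node (.node (.leaf 0) (.leaf 3)) (.node (.leaf 0) (.leaf 3))) (.node (.node (.leaf 0) (.leaf 0)) (.node (.leaf 3) (.leaf 3)))) (.node (.node (.node (.leaf 0) (.leaf 3)) (.node (.leaf 0) (.leaf 3))) (.node (.node (.leaf 0) (.leaf 3)) (.leaf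 3))))) (.node (.node (.node (.node (.node (.leaf 3) (.leaf 0)) (.node (.leaf 0) (.leaf 3))) (.node (.node (.leaf 0) (.leaf 3)) (.node (.leaf 0) (.leaf 3)))) (.node (.node (.node (.leaf 0) (.leaf 3)) (.node (.leaf 0) (.leaf 0))) (.node (.node (.leaf 0) (.leaf 3)) (.leaf 3)))) (.node (.node (.node (.node (.leaf 0) (.leaf 3)) (.node (.leaf 0) (.leaf 3))) (.node (.node (.leaf 0) (.leaf 3)) (.node (.leaf 0) (.leaf 3)))) (.node (.node (.node (.leaf 0) (.leaf 3)) (.node (.leaf 3) (.leaf 3))) (.node (.node (.leaf 3) (.leaf 3)) (.leaf 3))))))) (.node (.node (.node (.node (.node (.node (.node (.leaf 0) (.leaf 0)) (.node (.leaf 0) (.leaf 0))) (.node (.node (.leaf 0) (.leaf 3)) (.node (.leaf 3) (.leaf 3)))) (.node (.node (.node (.leaf 3) (.leaf 3)) (.node (.leaf 0) (.leaf 3))) (.node (.node (.leaf 0) (.leaf 3)) (.leaf 3)))) (.node (.node (.node (.node (.leaf 0) (.leaf 0)) (.node (.leaf 0) (.leaf 0))) (.node (.node (.leaf 3) (.leaf 3)) (.node (.leaf 0) (.leaf 3)))) (.node (.node (.node (.leaf 3) (.leaf 0)) (.node (.leaf 3) (.leaf 0))) (.node (.node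 (.leaf 0) (.leaf 3)) (.leaf 3))))) (.node (.node (.node (.node (.node (.leaf 0) (.leaf 3)) (.node (.leaf 0) (.leaf 3))) (.node (.node (.leaf 0) (.leaf 0)) (.node (.leaf 0) (.leaf 3)))) (.node (.node (.node (.leaf 0) (.leaf 0)) (.node (.leaf 3) (.leaf 3))) (.node (.node (.leaf 3) (.leaf 0)) (.leaf 3)))) (.node (.node (.node (.node (.leaf 0) (.leaf 0)) (.node (.leaf 3) (.leaf 3))) (.node (.node (.leaf 3) (.leaf 3)) (.node (.leaf 0) (.leaf 3)))) (.node (.node (.node (.leaf 0) (.leaf 0)) (.node (.leaf 0) (.leaf 0))) (.node (.node (.leaf 3) (.leaf 0)) (.leaf 0)))))) (.node (.node (.node (.node (.node (.node (.leaf 3) (.leaf 3)) (.node (.leaf 0) (.leaf 0))) (.node (.node (.leaf 0) (.leaf 3)) (.node (.leaf 3) (.leaf 3)))) (.node (.node (.node (.leaf 3) (.leaf 0)) (.node (.leaf 0) (.leaf 0))) (.node (.node (.leaf 0) (.leaf 3)) (.leaf 0)))) (.node (.node (.node (.node (.leaf 3) (.leaf 3)) (.node (.leaf 3) (.leaf 3))) (.node (.node (.leaf 0) (.leaf 3)) (.node (.leaf 3) (.leaf 3)))) (.node (.node (.node (.leaf 0) (.leaf 3)) (.node (.leaf 0) (.leaf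 3))) (.node (.node (.leaf 0) (.leaf 3)) (.leaf 0))))) (.node (.node (.node (.node (.node (.leaf 0) (.leaf 0)) (.node (.leaf 3) (.leaf 0))) (.node (.node (.leaf 0) (.leaf 3)) (.node (.leaf 3) (.leaf 3)))) (.node (.node (.node (.leaf 0) (.leaf 3)) (.node (.leaf 0) (.leaf 3))) (.node (.node (.leaf 3) (.leaf 0)) (.leaf 0)))) (.node (.node (.node (.node (.leaf 3) (.leaf 3)) (.node (.leaf 0) (.leaf 3))) (.node (.node (.leaf 0) (.leaf 3)) (.node (.leaf 0) (.leaf 3)))) (.node (.node (.node (.leaf 0) (.leaf 0)) (.node (.leaf 0) (.leaf 3))) (.node (.node (.leaf 3) (.leaf 0)) (.leaf 3)))))))))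

def twoKind6 : Janko.Tree (ℕ) :=
  (.node (.node (.node (.node (.node (.node (.node (.node (.node (.leaf 0) (.leaf 3)) (.node (.leaf 3) (.leaf 3))) (.node (.node (.leaf 0) (.leaf 3)) (.node (.leaf 0) (.leaf 3)))) (.node (.node (.node (.leaf 0) (.leaf 3)) (.node (.leaf 0) (.leaf 3))) (.node (.node (.leaf 0) (.leaf 3)) (.node (.leaf 0) (.leaf 3))))) (.node (.node (.node (.node (.leaf 0) (.leaf 0)) (.node (.leaf 0) (.leaf 0))) (.node (.node (.leaf 0) (.leaf 0)) (.node (.leaf 0) (.leaf 3)))) (.node (.node (.node (.leaf 0) (.leaf 0)) (.node (.leaf 3) (.leaf 3))) (.node (.node (.leaf 3) (.leaf 3)) (.leaf 0))))) (.node (.node (.node (.node (.node (.leaf 0) (.leaf 0)) (.node (.leaf 0) (.leaf 3))) (.node (.node (.leaf 0) (.leaf 0)) (.node (.leaf 0) (.leaf 3)))) (.node (.node (.node (.leaf 0) (.leaf 3)) (.node (.leaf 0) (.leaf 3))) (.node (.node (.leaf 0) (.leaf 0)) (.leaf 3)))) (.node (.node (.node (.node (.leaf 0) (.leaf 3)) (.node (.leaf 3) (.leaf 3))) (.node (.node (.leaf 0) (.leaf 0)) (.node (.leaf 3) (.leaf 3)))) (.node (.node (.node (.leaf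 0) (.leaf 3)) (.node (.leaf 0) (.leaf 3))) (.node (.node (.leaf 3) (.leaf 3)) (.leaf 3)))))) (.node (.node (.node (.node (.node (.node (.leaf 0) (.leaf 0)) (.node (.leaf 0) (.leaf 3))) (.node (.node (.leaf 0) (.leaf 3)) (.node (.leaf 3) (.leaf 3)))) (.node (.node (.node (.leaf 3) (.leaf 3)) (.node (.leaf 0) (.leaf 3))) (.node (.node (.leaf 0) (.leaf 3)) (.leaf 0)))) (.node (.node (.node (.node (.leaf 0) (.leaf 0)) (.node (.leaf 0) (.leaf 3))) (.node (.node (.leaf 0) (.leaf 3)) (.node (.leaf 3) (.leaf 3)))) (.node (.node (.node (.leaf 0) (.leaf 0)) (.node (.leaf 3) (.leaf 3))) (.node (.node (.leaf 0) (.leaf 0)) (.leaf 0))))) (.node (.node (.node (.node (.node (.leaf 0) (.leaf 0)) (.node (.leaf 0) (.leaf 0))) (.node (.node (.leaf 3) (.leaf 0)) (.node (.leaf 0) (.leaf 3)))) (.node (.node (.node (.leaf 0) (.leaf 0)) (.node (.leaf 3) (.leaf 0))) (.node (.node (.leaf 3) (.leaf 3)) (.leaf 0)))) (.node (.node (.node (.node (.leaf 0) (.leaf 3)) (.node (.leaf 0) (.leaf 3))) (.node (.node (.leaf 3) (.leaf 3)) (.node (.leaf 0) (.leaf 3)))) (.node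 (.node (.node (.leaf 3) (.leaf 3)) (.node (.leaf 3) (.leaf 3))) (.node (.node (.leaf 0) (.leaf 3)) (.leaf 3))))))) (.node (.node (.node (.node (.node (.node (.node (.leaf 0) (.leaf 3)) (.node (.leaf 0) (.leaf 3))) (.node (.node (.leaf 0) (.leaf 3)) (.node (.leaf 0) (.leaf 3)))) (.node (.node (.node (.leaf 0) (.leaf 0)) (.node (.leaf 0) (.leaf 0))) (.node (.node (.leaf 0) (.leaf 3)) (.leaf 0)))) (.node (.node (.node (.node (.leaf 0) (.leaf 0)) (.node (.leaf 0) (.leaf 3))) (.node (.node (.leaf 0) (.leaf 3)) (.node (.leaf 3) (.leaf 3)))) (.node (.node (.node (.leaf 0) (.leaf 3)) (.node (.leaf 3) (.leaf 3))) (.node (.node (.leaf 3) (.leaf 3)) (.leaf 0))))) (.node (.node (.node (.node (.node (.leaf 0) (.leaf 3)) (.node (.leaf 3) (.leaf 3))) (.node (.node (.leaf 0) (.leaf 3)) (.node (.leaf 0) (.leaf 0)))) (.node (.node (.node (.leaf 0) (.leaf 0)) (.node (.leaf 3) (.leaf 3))) (.node (.node (.leaf 0) (.leaf 3)) (.leaf 3)))) (.node (.node (.node (.node (.leaf 0) (.leaf 0)) (.node (.leaf 0) (.leaf 0))) (.node (.node (.leaf 0) (.leaf 3)) (.node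 (.leaf 3) (.leaf 3)))) (.node (.node (.node (.leaf 0) (.leaf 3)) (.node (.leaf 0) (.leaf 3))) (.node (.node (.leaf 3) (.leaf 3)) (.leaf 0)))))) (.node (.node (.node (.node (.node (.node (.leaf 0) (.leaf 3)) (.node (.leaf 3) (.leaf 3))) (.node (.node (.leaf 0) (.leaf 3)) (.node (.leaf 3) (.leaf 3)))) (.node (.node (.node (.leaf 0) (.leaf 3)) (.node (.leaf 0) (.leaf 3))) (.node (.node (.leaf 0) (.leaf 3)) (.leaf 0)))) (.node (.node (.node (.node (.leaf 0) (.leaf 0)) (.node (.leaf 0) (.leaf 3))) (.node (.node (.leaf 0) (.leaf 3)) (.node (.leaf 3) (.leaf 3)))) (.node (.node (.node (.leaf 0) (.leaf 3)) (.node (.leaf 3) (.leaf 3))) (.node (.node (.leaf 0) (.leaf 3)) (.leaf 0))))) (.node (.node (.node (.node (.node (.leaf 0) (.leaf 0)) (.node (.leaf 0) (.leaf 3))) (.node (.node (.leaf 0) (.leaf 3)) (.node (.leaf 3) (.leaf 3)))) (.node (.node (.node (.leaf 3) (.leaf 3)) (.node (.leaf 3) (.leaf 3))) (.node (.node (.leaf 0) (.leaf 3)) (.leaf 3)))) (.node (.node (.node (.node (.leaf 3) (.leaf 3)) (.node (.leaf 0) (.leaf 3))) (.node (.node (.leaf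 0) (.leaf 0)) (.node (.leaf 0) (.leaf 3)))) (.node (.node (.node (.leaf 0) (.leaf 0)) (.node (.leaf 0) (.leaf 0))) (.node (.node (.leaf 0) (.leaf 3)) (.leaf 0)))))))) (.node (.node (.node (.node (.node (.node (.node (.node (.leaf 0) (.leaf 0)) (.node (.leaf 0) (.leaf 3))) (.node (.node (.leaf 0) (.leaf 3)) (.node (.leaf 3) (.leaf 0)))) (.node (.node (.node (.leaf 0) (.leaf 3)) (.node (.leaf 0) (.leaf 3))) (.node (.node (.leaf 3) (.leaf 3)) (.node (.leaf 0) (.leaf 3))))) (.node (.node (.node (.node (.leaf 0) (.leaf 3)) (.node (.leaf 0) (.leaf 3))) (.node (.node (.leaf 3) (.leaf 3)) (.node (.leaf 3) (.leaf 3)))) (.node (.node (.node (.leaf 3) (.leaf 3)) (.node (.leaf 0) (.leaf 3))) (.node (.node (.leaf 0) (.leaf 3)) (.leaf 0))))) (.node (.node (.node (.node (.node (.leaf 0) (.leaf 0)) (.node (.leaf 0) (.leaf 3))) (.node (.node (.leaf 0) (.leaf 0)) (.node (.leaf 3) (.leaf 3)))) (.node (.node (.node (.leaf 3) (.leaf 3)) (.node (.leaf 3) (.leaf 3))) (.node (.node (.leaf 3) (.leaf 3)) (.leaf 3)))) (.node (.node (.node (.node (.leaf 3) (.leaf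 0)) (.node (.leaf 0) (.leaf 3))) (.node (.node (.leaf 3) (.leaf 3)) (.node (.leaf 0) (.leaf 3)))) (.node (.node (.node (.leaf 0) (.leaf 3)) (.node (.leaf 3) (.leaf 0))) (.node (.node (.leaf 0) (.leaf 3)) (.leaf 3)))))) (.node (.node (.node (.node (.node (.node (.leaf 0) (.leaf 3)) (.node (.leaf 3) (.leaf 3))) (.node (.node (.leaf 0) (.leaf 3)) (.node (.leaf 0) (.leaf 3)))) (.node (.node (.node (.leaf 0) (.leaf 0)) (.node (.leaf 3) (.leaf 3))) (.node (.node (.leaf 0) (.leaf 3)) (.leaf 0)))) (.node (.node (.node (.node (.leaf 0) (.leaf 3)) (.node (.leaf 0) (.leaf 3))) (.node (.node (.leaf 0) (.leaf 3)) (.node (.leaf 0) (.leaf 3)))) (.node (.node (.node (.leaf 0) (.leaf 3)) (.node (.leaf 3) (.leaf 3))) (.node (.node (.leaf 0) (.leaf 3)) (.leaf 0))))) (.node (.node (.node (.node (.node (.leaf 0) (.leaf 0)) (.node (.leaf 0) (.leaf 3))) (.node (.node (.leaf 0) (.leaf 3)) (.node (.leaf 0) (.leaf 3)))) (.node (.node (.node (.leaf 0) (.leaf 0)) (.node (.leaf 0) (.leaf 3))) (.node (.node (.leaf 0) (.leaf 0)) (.leaf 0)))) (.node (.node (.node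 (.node (.leaf 0) (.leaf 0)) (.node (.leaf 0) (.leaf 0))) (.node (.node (.leaf 0) (.leaf 3)) (.node (.leaf 3) (.leaf 3)))) (.node (.node (.node (.leaf 0) (.leaf 3)) (.node (.leaf 3) (.leaf 3))) (.node (.node (.leaf 3) (.leaf 3)) (.leaf 3))))))) (.node (.node (.node (.node (.node (.node (.node (.leaf 3) (.leaf 3)) (.node (.leaf 0) (.leaf 0))) (.node (.node (.leaf 0) (.leaf 3)) (.node (.leaf 3) (.leaf 3)))) (.node (.node (.node (.leaf 0) (.leaf 3)) (.node (.leaf 3) (.leaf 3))) (.node (.node (.leaf 0) (.leaf 3)) (.leaf 0)))) (.node (.node (.node (.node (.leaf 3) (.leaf 3)) (.node (.leaf 3) (.leaf 0))) (.node (.node (.leaf 0) (.leaf 3)) (.node (.leaf 3) (.leaf 3)))) (.node (.node (.node (.leaf 0) (.leaf 0)) (.node (.leaf 3) (.leaf 3))) (.node (.node (.leaf 3) (.leaf 3)) (.leaf 3))))) (.node (.node (.node (.node (.node (.leaf 0) (.leaf 0)) (.node (.leaf 0) (.leaf 3))) (.node (.node (.leaf 0) (.leaf 3)) (.node (.leaf 0) (.leaf 0)))) (.node (.node (.node (.leaf 0) (.leaf 0)) (.node (.leaf 3) (.leaf 3))) (.node (.node (.leaf 3) (.leaf 3)) (.leaf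 3)))) (.node (.node (.node (.node (.leaf 0) (.leaf 3)) (.node (.leaf 0) (.leaf 3))) (.node (.node (.leaf 0) (.leaf 0)) (.node (.leaf 0) (.leaf 3)))) (.node (.node (.node (.leaf 0) (.leaf 3)) (.node (.leaf 3) (.leaf 3))) (.node (.node (.leaf 0) (.leaf 3)) (.leaf 3)))))) (.node (.node (.node (.node (.node (.node (.leaf 0) (.leaf 0)) (.node (.leaf 0) (.leaf 3))) (.node (.node (.leaf 3) (.leaf 0)) (.node (.leaf 0) (.leaf 3)))) (.node (.node (.node (.leaf 0) (.leaf 3)) (.node (.leaf 0) (.leaf 3))) (.node (.node (.leaf 0) (.leaf 0)) (.leaf 0)))) (.node (.node (.node (.node (.leaf 0) (.leaf 3)) (.node (.leaf 3) (.leaf 3))) (.node (.node (.leaf 3) (.leaf 3)) (.node (.leaf 0) (.leaf 3)))) (.node (.node (.node (.leaf 3) (.leaf 0)) (.node (.leaf 0) (.leaf 3))) (.node (.node (.leaf 3) (.leaf 3)) (.leaf 0))))) (.node (.node (.node (.node (.node (.leaf 0) (.leaf 0)) (.node (.leaf 3) (.leaf 3))) (.node (.node (.leaf 0) (.leaf 0)) (.node (.leaf 0) (.leaf 3)))) (.node (.node (.node (.leaf 0) (.leaf 3)) (.node (.leaf 0) (.leaf 3))) (.node (.node (.leaf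 3) (.leaf 3)) (.leaf 0)))) (.node (.node (.node (.node (.leaf 0) (.leaf 3)) (.node (.leaf 0) (.leaf 3))) (.node (.node (.leaf 0) (.leaf 0)) (.node (.leaf 3) (.leaf 3)))) (.node (.node (.node (.leaf 0) (.leaf 0)) (.node (.leaf 3) (.leaf 3))) (.node (.node (.leaf 0) (.leaf 3)) (.leaf 3)))))))))

def twoKind7 : Janko.Tree (ℕ) :=
  (.node (.node (.node (.node (.node (.node (.node (.node (.node (.leaf 0) (.leaf 0)) (.node (.leaf 0) (.leaf 3))) (.node (.node (.leaf 3) (.leaf 3)) (.node (.leaf 0) (.leaf 3)))) (.node (.node (.node (.leaf 0) (.leaf 3)) (.node (.leaf 3) (.leaf 3))) (.node (.node (.leaf 0) (.leaf 3)) (.node (.leaf 3) (.leaf 3))))) (.node (.node (.node (.node (.leaf 0) (.leaf 3)) (.node (.leaf 0) (.leaf 3))) (.node (.node (.leaf 0) (.leaf 3)) (.node (.leaf 0) (.leaf 3)))) (.node (.node (.node (.leaf 0) (.leaf 3)) (.node (.leaf 0) (.leaf 3))) (.node (.node (.leaf 0) (.leaf 3)) (.leaf 0))))) (.node (.node (.node (.node (.node (.leaf 0) (.leaf 0)) (.node (.leaf 3) (.leaf 0))) (.node (.node (.leaf 0) (.leaf 0)) (.node (.leaf 0) (.leaf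 3)))) (.node (.node (.node (.leaf 0) (.leaf 3)) (.node (.leaf 3) (.leaf 3))) (.node (.node (.leaf 0) (.leaf 3)) (.leaf 0)))) (.node (.node (.node (.node (.leaf 0) (.leaf 3)) (.node (.leaf 0) (.leaf 3))) (.node (.node (.leaf 0) (.leaf 3)) (.node (.leaf 0) (.leaf 3)))) (.node (.node (.node (.leaf 0) (.leaf 3)) (.node (.leaf 0) (.leaf 3))) (.node (.node (.leaf 0) (.leaf 3)) (.leaf 3)))))) (.node (.node (.node (.node (.node (.node (.leaf 0) (.leaf 3)) (.node (.leaf 3) (.leaf 3))) (.node (.node (.leaf 0) (.leaf 3)) (.node (.leaf 3) (.leaf 3)))) (.node (.node (.node (.leaf 0) (.leaf 3)) (.node (.leaf 0) (.leaf 0))) (.node (.node (.leaf 3) (.leaf 3)) (.leaf 0)))) (.node (.node (.node (.node (.leaf 0) (.leaf 3)) (.node (.leaf 3) (.leaf 3))) (.node (.node (.leaf 0) (.leaf 3)) (.node (.leaf 3) (.leaf 3)))) (.node (.node (.node (.leaf 0) (.leaf 3)) (.node (.leaf 3) (.leaf 3))) (.node (.node (.leaf 0) (.leaf 3)) (.leaf 3))))) (.node (.node (.node (.node (.node (.leaf 0) (.leaf 0)) (.node (.leaf 0) (.leaf 3))) (.node (.node (.leaf 0) (.leaf 3))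 (.node (.leaf 3) (.leaf 0)))) (.node (.node (.node (.leaf 0) (.leaf 0)) (.node (.leaf 0) (.leaf 3))) (.node (.node (.leaf 0) (.leaf 3)) (.leaf 3)))) (.node (.node (.node (.node (.leaf 0) (.leaf 3)) (.node (.leaf 0) (.leaf 3))) (.node (.node (.leaf 0) (.leaf 0)) (.node (.leaf 3) (.leaf 3)))) (.node (.node (.node (.leaf 0) (.leaf 3)) (.node (.leaf 3) (.leaf 3))) (.node (.node (.leaf 0) (.leaf 3)) (.leaf 3))))))) (.node (.node (.node (.node (.node (.node (.node (.leaf 0) (.leaf 3)) (.node (.leaf 0) (.leaf 3))) (.node (.node (.leaf 0) (.leaf 0)) (.node (.leaf 0) (.leaf 3)))) (.node (.node (.node (.leaf 3) (.leaf 0)) (.node (.leaf 0) (.leaf 3))) (.node (.node (.leaf 3) (.leaf 0)) (.leaf 0)))) (.node (.node (.node (.node (.leaf 0) (.leaf 3)) (.node (.leaf 3) (.leaf 0))) (.node (.node (.leaf 0) (.leaf 3)) (.node (.leaf 3) (.leaf 3)))) (.node (.node (.node (.leaf 0) (.leaf 0)) (.node (.leaf 0) (.leaf 3))) (.node (.node (.leaf 0) (.leaf 0)) (.leaf 3))))) (.node (.node (.node (.node (.node (.leaf 0) (.leaf 0)) (.node (.leaf 0) (.leaf 3))) (.node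 (.node (.leaf 0) (.leaf 0)) (.node (.leaf 3) (.leaf 3)))) (.node (.node (.node (.leaf 0) (.leaf 3)) (.node (.leaf 3) (.leaf 3))) (.node (.node (.leaf 3) (.leaf 3)) (.leaf 3)))) (.node (.node (.node (.node (.leaf 0) (.leaf 0)) (.node (.leaf 0) (.leaf 3))) (.node (.node (.leaf 0) (.leaf 3)) (.node (.leaf 3) (.leaf 3)))) (.node (.node (.node (.leaf 0) (.leaf 3)) (.node (.leaf 3) (.leaf 3))) (.node (.node (.leaf 0) (.leaf 3)) (.leaf 3)))))) (.node (.node (.node (.node (.node (.node (.leaf 0) (.leaf 3)) (.node (.leaf 0) (.leaf 3))) (.node (.node (.leaf 0) (.leaf 3)) (.node (.leaf 0) (.leaf 3)))) (.node (.node (.node (.leaf 0) (.leaf 0)) (.node (.leaf 3) (.leaf 3))) (.node (.node (.leaf 0) (.leaf 3)) (.leaf 0)))) (.node (.node (.node (.node (.leaf 0) (.leaf 0)) (.node (.leaf 0) (.leaf 3))) (.node (.node (.leaf 0) (.leaf 3)) (.node (.leaf 0) (.leaf 3)))) (.node (.node (.node (.leaf 0) (.leaf 0)) (.node (.leaf 0) (.leaf 3))) (.node (.node (.leaf 3) (.leaf 3)) (.leaf 0))))) (.node (.node (.node (.node (.node (.leaf 0) (.leaf 3)) (.node (.leaf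 3) (.leaf 3))) (.node (.node (.leaf 3) (.leaf 3)) (.node (.leaf 0) (.leaf 3)))) (.node (.node (.node (.leaf 0) (.leaf 3)) (.node (.leaf 0) (.leaf 3))) (.node (.node (.leaf 0) (.leaf 0)) (.leaf 0)))) (.node (.node (.node (.node (.leaf 0) (.leaf 3)) (.node (.leaf 0) (.leaf 3))) (.node (.node (.leaf 0) (.leaf 3)) (.node (.leaf 3) (.leaf 3)))) (.node (.node (.node (.leaf 0) (.leaf 0)) (.node (.leaf 0) (.leaf 3))) (.node (.node (.leaf 3) (.leaf 3)) (.leaf 0)))))))) (.node (.node (.node (.node (.node (.node (.node (.node (.leaf 0) (.leaf 3)) (.node (.leaf 3) (.leaf 3))) (.node (.node (.leaf 0) (.leaf 3)) (.node (.leaf 0) (.leaf 3)))) (.node (.node (.node (.leaf 0) (.leaf 0)) (.node (.leaf 0) (.leaf 3))) (.node (.node (.leaf 0) (.leaf 3)) (.node (.leaf 0) (.leaf 3))))) (.node (.node (.node (.node (.leaf 3) (.leaf 0)) (.node (.leaf 0) (.leaf 0))) (.node (.node (.leaf 0) (.leaf 3)) (.node (.leaf 3) (.leaf 3)))) (.node (.node (.node (.leaf 0) (.leaf 3)) (.node (.leaf 0) (.leaf 3))) (.node (.node (.leaf 3) (.leaf 3)) (.leaf 0))))) (.node (.node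 (.node (.node (.node (.leaf 0) (.leaf 3)) (.node (.leaf 0) (.leaf 0))) (.node (.node (.leaf 0) (.leaf 0)) (.node (.leaf 0) (.leaf 3)))) (.node (.node (.node (.leaf 0) (.leaf 3)) (.node (.leaf 3) (.leaf 3))) (.node (.node (.leaf 0) (.leaf 3)) (.leaf 0)))) (.node (.node (.node (.node (.leaf 0) (.leaf 0)) (.node (.leaf 3) (.leaf 0))) (.node (.node (.leaf 3) (.leaf 3)) (.node (.leaf 0) (.leaf 3)))) (.node (.node (.node (.leaf 3) (.leaf 3)) (.node (.leaf 0) (.leaf 3))) (.node (.node (.leaf 3) (.leaf 3)) (.leaf 0)))))) (.node (.node (.node (.node (.node (.node (.leaf 0) (.leaf 0)) (.node (.leaf 0) (.leaf 3))) (.node (.node (.leaf 0) (.leaf 0)) (.node (.leaf 0) (.leaf 3)))) (.node (.node (.node (.leaf 0) (.leaf 3)) (.node (.leaf 0) (.leaf 3))) (.node (.node (.leaf 3) (.leaf 3)) (.leaf 3)))) (.node (.node (.node (.node (.leaf 0) (.leaf 3)) (.node (.leaf 0) (.leaf 3))) (.node (.node (.leaf 3) (.leaf 0)) (.node (.leaf 3) (.leaf 3)))) (.node (.node (.node (.leaf 3) (.leaf 0)) (.node (.leaf 3) (.leaf 3))) (.node (.node (.leaf 3) (.leaf 3)) (.leaf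 3))))) (.node (.node (.node (.node (.node (.leaf 0) (.leaf 3)) (.node (.leaf 3) (.leaf 0))) (.node (.node (.leaf 0) (.leaf 3)) (.node (.leaf 3) (.leaf 3)))) (.node (.node (.node (.leaf 3) (.leaf 3)) (.node (.leaf 3) (.leaf 3))) (.node (.node (.leaf 0) (.leaf 3)) (.leaf 3)))) (.node (.node (.node (.node (.leaf 0) (.leaf 0)) (.node (.leaf 0) (.leaf 3))) (.node (.node (.leaf 0) (.leaf 0)) (.node (.leaf 3) (.leaf 3)))) (.node (.node (.node (.leaf 0) (.leaf 3)) (.node (.leaf 3) (.leaf 3))) (.node (.node (.leaf 0) (.leaf 3)) (.leaf 0))))))) (.node (.node (.node (.node (.node (.node (.node (.leaf 0) (.leaf 0)) (.node (.leaf 3) (.leaf 3))) (.node (.node (.leaf 0) (.leaf 3)) (.node (.leaf 3) (.leaf 3)))) (.node (.node (.node (.leaf 0) (.leaf 3)) (.node (.leaf 0) (.leaf 3))) (.node (.node (.leaf 3) (.leaf 3)) (.leaf 0)))) (.node (.node (.node (.node (.leaf 0) (.leaf 0)) (.node (.leaf 0) (.leaf 3))) (.node (.node (.leaf 0) (.leaf 3)) (.node (.leaf 0) (.leaf 3)))) (.node (.node (.node (.leaf 0) (.leaf 3)) (.node (.leaf 3) (.leaf 3))) (.node (.node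 (.leaf 3) (.leaf 3)) (.leaf 0))))) (.node (.node (.node (.node (.node (.leaf 0) (.leaf 3)) (.node (.leaf 0) (.leaf 3))) (.node (.node (.leaf 0) (.leaf 0)) (.node (.leaf 0) (.leaf 0)))) (.node (.node (.node (.leaf 0) (.leaf 3)) (.node (.leaf 3) (.leaf 3))) (.node (.node (.leaf 0) (.leaf 0)) (.leaf 0)))) (.node (.node (.node (.node (.leaf 0) (.leaf 3)) (.node (.leaf 3) (.leaf 3))) (.node (.node (.leaf 0) (.leaf 3)) (.node (.leaf 3) (.leaf 3)))) (.node (.node (.node (.leaf 0) (.leaf 3)) (.node (.leaf 0) (.leaf 3))) (.node (.node (.leaf 0) (.leaf 3)) (.leaf 0)))))) (.node (.node (.node (.node (.node (.node (.leaf 3) (.leaf 3)) (.node (.leaf 3) (.leaf 0))) (.node (.node (.leaf 0) (.leaf 0)) (.node (.leaf 3) (.leaf 3)))) (.node (.node (.node (.leaf 0) (.leaf 0)) (.node (.leaf 3) (.leaf 0))) (.node (.node (.leaf 0) (.leaf 0)) (.leaf 0)))) (.node (.node (.node (.node (.leaf 0) (.leaf 0)) (.node (.leaf 0) (.leaf 3))) (.node (.node (.leaf 0) (.leaf 3)) (.node (.leaf 3) (.leaf 3)))) (.node (.node (.node (.leaf 0) (.leaf 3)) (.node (.leaf 0) (.leaf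 3))) (.node (.node (.leaf 0) (.leaf 3)) (.leaf 0))))) (.node (.node (.node (.node (.node (.leaf 0) (.leaf 3)) (.node (.leaf 3) (.leaf 3))) (.node (.node (.leaf 0) (.leaf 3)) (.node (.leaf 0) (.leaf 3)))) (.node (.node (.node (.leaf 0) (.leaf 0)) (.node (.leaf 3) (.leaf 3))) (.node (.node (.leaf 0) (.leaf 3)) (.leaf 3)))) (.node (.node (.node (.node (.leaf 0) (.leaf 3)) (.node (.leaf 3) (.leaf 3))) (.node (.node (.leaf 3) (.leaf 3)) (.node (.leaf 0) (.leaf 3)))) (.node (.node (.node (.leaf 0) (.leaf 3)) (.node (.leaf 0) (.leaf 3))) (.node (.node (.leaf 3) (.leaf 0)) (.leaf 0)))))))))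

def twoKind : Janko.Tree (ℕ) := (.node (.node (.node twoKind0 twoKind4) (.node twoKind2 twoKind6)) (.node (.node twoKind1 twoKind5) (.node twoKind3 twoKind7)))

def twoRank0 : Janko.Tree (ℕ) :=
  (.node (.node (.node (.node (.node (.node (.node (.node (.node (.leaf 0) (.leaf 2818)) (.node (.leaf 2013) (.leaf 2691))) (.node (.node (.leaf 438) (.leaf 1646)) (.node (.leaf 2526) (.leaf 2823)))) (.node (.node (.node (.leaf 221) (.leaf 2769)) (.node (.leaf 3152) (.leaf 1849))) (.node (.node (.leaf 2193) (.leaf 2953)) (.node (.leaf 3415) (.leaf 1919))))) (.node (.node (.node (.node (.leaf 2095) (.leaf 2153)) (.node (.leaf 919) (.leaf 2659))) (.node (.node (.leaf 539) (.leaf 2752)) (.node (.leaf 2538) (.leaf 1911)))) (.node (.node (.node (.leaf 330) (.leaf 1596)) (.node (.leaf 1085) (.leaf 3777))) (.node (.node (.leaf 738) (.leaf 3771)) (.leaf 1375))))) (.node (.node (.node (.node (.node (.leaf 60) (.leaf 2630)) (.node (.leaf 2439) (.leaf 3574))) (.node (.node (.leaf 487) (.leaf 3137)) (.node (.leaf 1200) (.leaf 2678)))) (.node (.node (.node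 (.leaf 277) (.leaf 1575)) (.node (.leaf 2515) (.leaf 1864))) (.node (.node (.leaf 690) (.leaf 3130)) (.leaf 1343)))) (.node (.node (.node (.node (.leaf 170) (.leaf 3232)) (.node (.leaf 965) (.leaf 2351))) (.node (.node (.leaf 592) (.leaf 2512)) (.node (.leaf 2434) (.leaf 3631)))) (.node (.node (.node (.leaf 383) (.leaf 3583)) (.node (.leaf 2271) (.leaf 3833))) (.node (.node (.leaf 2224) (.leaf 2911)) (.leaf 1405)))))) (.node (.node (.node (.node (.node (.node (.leaf 31) (.leaf 1449)) (.node (.leaf 849) (.leaf 1799))) (.node (.node (.leaf 2970) (.leaf 3355)) (.node (.leaf 1185) (.leaf 3396)))) (.node (.node (.node (.leaf 249) (.leaf 2251)) (.node (.leaf 2070) (.leaf 3853))) (.node (.node (.leaf 2306) (.leaf 1739)) (.leaf 1324)))) (.node (.node (.node (.node (.leaf 142) (.leaf 1509)) (.node (.leaf 943) (.leaf 1831))) (.node (.node (.leaf 566) (.leaf 2741)) (.node (.leaf 2994) (.leaf 3845)))) (.node (.node (.node (.leaf 356) (.leaf 3821)) (.node (.leaf 1106) (.leaf 3129))) (.node (.node (.leaf 758) (.leaf 2529)) (.leaf 1392))))) (.node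 (.node (.node (.node (.node (.leaf 88) (.leaf 2557)) (.node (.leaf 2586) (.leaf 1816))) (.node (.node (.leaf 513) (.leaf 1682)) (.node (.leaf 1219) (.leaf 3245)))) (.node (.node (.node (.leaf 304) (.leaf 2440)) (.node (.leaf 1069) (.leaf 2475))) (.node (.node (.leaf 713) (.leaf 3264)) (.leaf 2609)))) (.node (.node (.node (.node (.leaf 195) (.leaf 3306)) (.node (.leaf 987) (.leaf 1973))) (.node (.node (.leaf 614) (.leaf 1718)) (.node (.leaf 2354) (.leaf 3493)))) (.node (.node (.node (.leaf 409) (.leaf 1635)) (.node (.leaf 1149) (.leaf 2036))) (.node (.node (.leaf 803) (.leaf 2079)) (.leaf 3109))))))) (.node (.node (.node (.node (.node (.node (.node (.leaf 16) (.leaf 2178)) (.node (.leaf 3643) (.leaf 2379))) (.node (.node (.leaf 2559) (.leaf 1989)) (.node (.leaf 3161) (.leaf 2999)))) (.node (.node (.node (.leaf 2278) (.leaf 1553)) (.node (.leaf 1024) (.leaf 1852))) (.node (.node (.leaf 654) (.leaf 1735)) (.leaf 1311)))) (.node (.node (.node (.node (.leaf 2026) (.leaf 3162)) (.node (.leaf 932) (.leaf 2966))) (.node (.node (.leaf 553) (.leaf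 1987)) (.node (.leaf 2908) (.leaf 3740)))) (.node (.node (.node (.leaf 343) (.leaf 1604)) (.node (.leaf 1097) (.leaf 3199))) (.node (.node (.leaf 749) (.leaf 2864)) (.leaf 1384))))) (.node (.node (.node (.node (.node (.leaf 75) (.leaf 1473)) (.node (.leaf 885) (.leaf 1812))) (.node (.node (.leaf 500) (.leaf 3329)) (.node (.leaf 1208) (.leaf 3291)))) (.node (.node (.node (.leaf 290) (.leaf 1581)) (.node (.leaf 2287) (.leaf 2114))) (.node (.node (.leaf 701) (.leaf 2942)) (.leaf 1354)))) (.node (.node (.node (.node (.leaf 2421) (.leaf 2608)) (.node (.leaf 976) (.leaf 1838))) (.node (.node (.leaf 604) (.leaf 2790)) (.node (.leaf 2167) (.leaf 2257)))) (.node (.node (.node (.leaf 396) (.leaf 2350)) (.node (.leaf 1139) (.leaf 3596))) (.node (.node (.leaf 2014) (.leaf 1783)) (.leaf 1411)))))) (.node (.node (.node (.node (.node (.node (.leaf 46) (.leaf 2922)) (.node (.leaf 861) (.leaf 2861))) (.node (.node (.leaf 474) (.leaf 1663)) (.node (.leaf 1193) (.leaf 1901)))) (.node (.node (.node (.leaf 263) (.leaf 3796)) (.node (.leaf 2300) (.leaf 3081)))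 (.node (.node (.leaf 676) (.leaf 3026)) (.leaf 1332)))) (.node (.node (.node (.node (.leaf 156) (.leaf 1514)) (.node (.leaf 3441) (.leaf 2324))) (.node (.node (.leaf 579) (.leaf 3052)) (.node (.leaf 1264) (.leaf 2161)))) (.node (.node (.node (.leaf 370) (.leaf 1620)) (.node (.leaf 1114) (.leaf 3728))) (.node (.node (.leaf 771) (.leaf 1777)) (.leaf 2847))))) (.node (.node (.node (.node (.node (.leaf 101) (.leaf 1487)) (.node (.leaf 2209) (.leaf 2437))) (.node (.node (.leaf 2335) (.leaf 3252)) (.node (.leaf 2851) (.leaf 3011)))) (.node (.node (.node (.leaf 318) (.leaf 2712)) (.node (.leaf 3641) (.leaf 3681))) (.node (.node (.leaf 725) (.leaf 1982)) (.leaf 2000)))) (.node (.node (.node (.node (.leaf 208) (.leaf 1542)) (.node (.leaf 1001) (.leaf 3755))) (.node (.node (.leaf 628) (.leaf 2761)) (.node (.leaf 1295) (.leaf 3634)))) (.node (.node (.node (.leaf 423) (.leaf 3363)) (.node (.leaf 1157) (.leaf 1968))) (.node (.node (.leaf 816) (.leaf 2366)) (.leaf 1424)))))))) (.node (.node (.node (.node (.node (.node (.node (.node (.leaf 8) (.leaf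 1438)) (.node (.leaf 830) (.leaf 3076))) (.node (.node (.leaf 442) (.leaf 2700)) (.node (.leaf 1174) (.leaf 3476)))) (.node (.node (.node (.leaf 228) (.leaf 2260)) (.node (.leaf 1016) (.leaf 2775))) (.node (.node (.leaf 647) (.leaf 3366)) (.node (.leaf 2576) (.leaf 2058))))) (.node (.node (.node (.node (.leaf 123) (.leaf 1498)) (.node (.leaf 2449) (.leaf 3369))) (.node (.node (.leaf 547) (.leaf 3578)) (.node (.leaf 1244) (.leaf 3090)))) (.node (.node (.node (.leaf 336) (.leaf 1601)) (.node (.leaf 1091) (.leaf 3055))) (.node (.node (.leaf 744) (.leaf 2037)) (.leaf 2786))))) (.node (.node (.node (.node (.node (.leaf 68) (.leaf 1468)) (.node (.leaf 878) (.leaf 2598))) (.node (.node (.leaf 494) (.leaf 2800)) (.node (.leaf 1205) (.leaf 3361)))) (.node (.node (.node (.leaf 283) (.leaf 1579)) (.node (.leaf 1058) (.leaf 1867))) (.node (.node (.leaf 695) (.leaf 1750)) (.leaf 2208)))) (.node (.node (.node (.node (.leaf 176) (.leaf 1520)) (.node (.leaf 970) (.leaf 1974))) (.node (.node (.leaf 599) (.leaf 1707)) (.node (.leaf 1273) (.leaf 3761))))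 (.node (.node (.node (.leaf 390) (.leaf 1629)) (.node (.leaf 2523) (.leaf 2855))) (.node (.node (.leaf 3587) (.leaf 3218)) (.leaf 1999)))))) (.node (.node (.node (.node (.node (.node (.leaf 39) (.leaf 1453)) (.node (.leaf 855) (.leaf 1801))) (.node (.node (.leaf 2382) (.leaf 1660)) (.node (.leaf 2429) (.leaf 1899)))) (.node (.node (.node (.leaf 256) (.leaf 1564)) (.node (.leaf 1039) (.leaf 3117))) (.node (.node (.leaf 670) (.leaf 2194)) (.leaf 2445)))) (.node (.node (.node (.node (.leaf 149) (.leaf 1512)) (.node (.leaf 947) (.leaf 2326))) (.node (.node (.leaf 2206) (.leaf 1986)) (.node (.leaf 1258) (.leaf 3687)))) (.node (.node (.node (.leaf 2471) (.leaf 1617)) (.node (.leaf 1110) (.leaf 3283))) (.node (.node (.leaf 765) (.leaf 3399)) (.leaf 1395))))) (.node (.node (.node (.node (.node (.leaf 2217) (.leaf 1483)) (.node (.leaf 904) (.leaf 1977))) (.node (.node (.leaf 519) (.leaf 2902)) (.node (.leaf 1224) (.leaf 2679)))) (.node (.node (.node (.leaf 312) (.leaf 3012)) (.node (.leaf 1072) (.leaf 3841))) (.node (.node (.leaf 719) (.leaf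 2302)) (.leaf 1363)))) (.node (.node (.node (.node (.leaf 202) (.leaf 1538)) (.node (.leaf 2454) (.leaf 2677))) (.node (.node (.leaf 621) (.leaf 2645)) (.node (.leaf 2347) (.leaf 3501)))) (.node (.node (.node (.leaf 416) (.leaf 1637)) (.node (.leaf 1153) (.leaf 3167))) (.node (.node (.leaf 810) (.leaf 3811)) (.leaf 3852))))))) (.node (.node (.node (.node (.node (.node (.node (.leaf 24) (.leaf 3747)) (.node (.leaf 2357) (.leaf 1795))) (.node (.node (.leaf 456) (.leaf 3795)) (.node (.leaf 1182) (.leaf 3701)))) (.node (.node (.node (.leaf 242) (.leaf 1559)) (.node (.leaf 2640) (.leaf 3010))) (.node (.node (.leaf 2017) (.leaf 3180)) (.leaf 1319)))) (.node (.node (.node (.node (.leaf 136) (.leaf 1504)) (.node (.leaf 937) (.leaf 3001))) (.node (.node (.leaf 2406) (.leaf 2967)) (.node (.leaf 1250) (.leaf 3432)))) (.node (.node (.node (.leaf 349) (.leaf 1608)) (.node (.leaf 1103) (.leaf 2949))) (.node (.node (.leaf 3406) (.leaf 1773)) (.leaf 1387))))) (.node (.node (.node (.node (.node (.leaf 82) (.leaf 2564)) (.node (.leaf 891) (.leaf 3673)))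 (.node (.node (.leaf 2222) (.leaf 2574)) (.node (.leaf 3692) (.leaf 3849)))) (.node (.node (.node (.leaf 296) (.leaf 3096)) (.node (.leaf 1066) (.leaf 2878))) (.node (.node (.leaf 2016) (.leaf 2965)) (.leaf 2670)))) (.node (.node (.node (.node (.leaf 2268) (.leaf 1531)) (.node (.leaf 983) (.leaf 1840))) (.node (.node (.leaf 3246) (.leaf 1713)) (.node (.leaf 1281) (.leaf 2873)))) (.node (.node (.node (.leaf 403) (.leaf 3155)) (.node (.leaf 3075) (.leaf 1887))) (.node (.node (.leaf 798) (.leaf 2806)) (.leaf 2708)))))) (.node (.node (.node (.node (.node (.node (.leaf 54) (.leaf 1461)) (.node (.leaf 866) (.leaf 3693))) (.node (.node (.leaf 480) (.leaf 1665)) (.node (.leaf 1198) (.leaf 3016)))) (.node (.node (.node (.leaf 270) (.leaf 1570)) (.node (.leaf 1047) (.leaf 1860))) (.node (.node (.leaf 683) (.leaf 2634)) (.leaf 2716)))) (.node (.node (.node (.node (.leaf 163) (.leaf 2909)) (.node (.leaf 961) (.leaf 3382))) (.node (.node (.leaf 586) (.leaf 2892)) (.node (.leaf 2918) (.leaf 3608)))) (.node (.node (.node (.leaf 377) (.leaf 2939))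 (.node (.leaf 1121) (.leaf 3290))) (.node (.node (.leaf 777) (.leaf 3296)) (.leaf 1400))))) (.node (.node (.node (.node (.node (.leaf 108) (.leaf 2639)) (.node (.leaf 915) (.leaf 2575))) (.node (.node (.leaf 531) (.leaf 2455)) (.node (.leaf 1232) (.leaf 2680)))) (.node (.node (.node (.leaf 324) (.leaf 2569)) (.node (.leaf 3708) (.leaf 3786))) (.node (.node (.leaf 732) (.leaf 3612)) (.leaf 2127)))) (.node (.node (.node (.node (.leaf 215) (.leaf 3379)) (.node (.leaf 2188) (.leaf 3590))) (.node (.node (.leaf 636) (.leaf 2944)) (.node (.leaf 1300) (.leaf 3404)))) (.node (.node (.node (.leaf 431) (.leaf 2172)) (.node (.leaf 2254) (.leaf 3335))) (.node (.node (.leaf 821) (.leaf 2772)) (.leaf 1429)))))))))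

def twoRank1 : Janko.Tree (ℕ) :=
  (.node (.node (.node (.node (.node (.node (.node (.node (.node (.leaf 1) (.leaf 1434)) (.node (.leaf 825) (.leaf 2383))) (.node (.node (.leaf 1956) (.leaf 2633)) (.node (.leaf 1168) (.leaf 3210)))) (.node (.node (.node (.leaf 222) (.leaf 2342)) (.node (.leaf 3150) (.leaf 3439))) (.node (.node (.leaf 642) (.leaf 2457)) (.node (.leaf 1940) (.leaf 1920))))) (.node (.node (.node (.node (.leaf 116) (.leaf 2903)) (.node (.leaf 920) (.leaf 3385))) (.node (.node (.leaf 540) (.leaf 2750)) (.node (.leaf 1238) (.leaf 3700)))) (.node (.node (.node (.leaf 331) (.leaf 1597)) (.node (.leaf 1086) (.leaf 2946))) (.node (.node (.leaf 739) (.leaf 1770)) (.leaf 2651))))) (.node (.node (.node (.node (.node (.leaf 61) (.leaf 2701)) (.node (.leaf 873) (.leaf 2391))) (.node (.node (.leaf 488) (.leaf 1669)) (.node (.leaf 2850) (.leaf 3846)))) (.node (.node (.node (.leaf 278) (.leaf 1576)) (.node (.leaf 1053) (.leaf 3698))) (.node (.node (.leaf 2301) (.leaf 1747)) (.leaf 2451)))) (.node (.node (.node (.node (.leaf 171) (.leaf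 2061)) (.node (.leaf 966) (.leaf 1835))) (.node (.node (.leaf 593) (.leaf 2646)) (.node (.leaf 1269) (.leaf 3431)))) (.node (.node (.node (.leaf 384) (.leaf 3581)) (.node (.leaf 1128) (.leaf 2554))) (.node (.node (.leaf 783) (.leaf 1780)) (.leaf 1937)))))) (.node (.node (.node (.node (.node (.node (.leaf 32) (.leaf 1450)) (.node (.leaf 850) (.leaf 1800))) (.node (.node (.leaf 462) (.leaf 1656)) (.node (.leaf 1943) (.leaf 3398)))) (.node (.node (.node (.leaf 250) (.leaf 3255)) (.node (.leaf 1034) (.leaf 3784))) (.node (.node (.leaf 665) (.leaf 2163)) (.leaf 1939)))) (.node (.node (.node (.node (.leaf 2461) (.leaf 3766)) (.node (.leaf 1948) (.leaf 3552))) (.node (.node (.leaf 567) (.leaf 2751)) (.node (.leaf 1255) (.leaf 3848)))) (.node (.node (.node (.leaf 357) (.leaf 1614)) (.node (.leaf 3059) (.leaf 2937))) (.node (.node (.leaf 759) (.leaf 3365)) (.leaf 2832))))) (.node (.node (.node (.node (.node (.leaf 89) (.leaf 2519)) (.node (.leaf 898) (.leaf 1817))) (.node (.node (.leaf 514) (.leaf 3121)) (.node (.leaf 3323) (.leaf 3243)))) (.node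 (.node (.node (.leaf 305) (.leaf 2982)) (.node (.leaf 2373) (.leaf 2792))) (.node (.node (.leaf 714) (.leaf 1758)) (.leaf 2675)))) (.node (.node (.node (.node (.leaf 196) (.leaf 3529)) (.node (.leaf 988) (.leaf 3559))) (.node (.node (.leaf 615) (.leaf 1929)) (.node (.leaf 1286) (.leaf 3495)))) (.node (.node (.node (.leaf 410) (.leaf 1636)) (.node (.leaf 1150) (.leaf 3443))) (.node (.node (.leaf 804) (.leaf 2784)) (.leaf 2190))))))) (.node (.node (.node (.node (.node (.node (.node (.leaf 17) (.leaf 2636)) (.node (.leaf 836) (.leaf 3629))) (.node (.node (.leaf 450) (.leaf 1650)) (.node (.leaf 1944) (.leaf 2738)))) (.node (.node (.node (.leaf 236) (.leaf 1554)) (.node (.leaf 1025) (.leaf 3316))) (.node (.node (.leaf 2179) (.leaf 3094)) (.leaf 1312)))) (.node (.node (.node (.node (.leaf 129) (.leaf 1502)) (.node (.leaf 3423) (.leaf 3690))) (.node (.node (.leaf 2101) (.leaf 2583)) (.node (.leaf 3731) (.leaf 2619)))) (.node (.node (.node (.leaf 344) (.leaf 2824)) (.node (.leaf 1098) (.leaf 3749))) (.node (.node (.leaf 750) (.leaf 2685)) (.leaf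 2120))))) (.node (.node (.node (.node (.node (.leaf 76) (.leaf 1935)) (.node (.leaf 886) (.leaf 2593))) (.node (.node (.leaf 501) (.leaf 2930)) (.node (.leaf 1209) (.leaf 3293)))) (.node (.node (.node (.leaf 291) (.leaf 3657)) (.node (.leaf 1063) (.leaf 2755))) (.node (.node (.leaf 702) (.leaf 3327)) (.leaf 2144)))) (.node (.node (.node (.node (.leaf 183) (.leaf 1526)) (.node (.leaf 977) (.leaf 3487))) (.node (.node (.leaf 3421) (.leaf 1711)) (.node (.leaf 1278) (.leaf 3216)))) (.node (.node (.node (.leaf 397) (.leaf 2591)) (.node (.leaf 2377) (.leaf 3720))) (.node (.node (.leaf 792) (.leaf 3057)) (.leaf 1412)))))) (.node (.node (.node (.node (.node (.node (.leaf 47) (.leaf 2549)) (.node (.leaf 2732) (.leaf 3672))) (.node (.node (.leaf 3800) (.leaf 3463)) (.node (.leaf 3226) (.leaf 1902)))) (.node (.node (.node (.leaf 264) (.leaf 1567)) (.node (.leaf 3191) (.leaf 3123))) (.node (.node (.leaf 677) (.leaf 2062)) (.leaf 3077)))) (.node (.node (.node (.node (.leaf 157) (.leaf 2092)) (.node (.leaf 955) (.leaf 2938))) (.node (.node (.leaf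 580) (.leaf 3468)) (.node (.leaf 2684) (.leaf 2837)))) (.node (.node (.node (.leaf 371) (.leaf 2721)) (.node (.leaf 1115) (.leaf 2774))) (.node (.node (.leaf 772) (.leaf 3756)) (.leaf 3039))))) (.node (.node (.node (.node (.node (.leaf 102) (.leaf 1488)) (.node (.leaf 911) (.leaf 2516))) (.node (.node (.leaf 526) (.leaf 3640)) (.node (.leaf 1229) (.leaf 3362)))) (.node (.node (.node (.leaf 2425) (.leaf 2244)) (.node (.leaf 1078) (.leaf 2056))) (.node (.node (.leaf 2084) (.leaf 2623)) (.leaf 3626)))) (.node (.node (.node (.node (.leaf 209) (.leaf 1543)) (.node (.leaf 2165) (.leaf 3368))) (.node (.node (.leaf 629) (.leaf 1723)) (.node (.leaf 1296) (.leaf 1918)))) (.node (.node (.node (.leaf 424) (.leaf 1639)) (.node (.leaf 1158) (.leaf 1890))) (.node (.node (.leaf 817) (.leaf 1789)) (.leaf 2983)))))))) (.node (.node (.node (.node (.node (.node (.node (.node (.leaf 9) (.leaf 1439)) (.node (.leaf 831) (.leaf 2395))) (.node (.node (.leaf 443) (.leaf 1648)) (.node (.leaf 1175) (.leaf 1894)))) (.node (.node (.node (.leaf 229) (.leaf 1547))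 (.node (.leaf 1017) (.leaf 2771))) (.node (.node (.leaf 648) (.leaf 2835)) (.node (.leaf 1307) (.leaf 2071))))) (.node (.node (.node (.node (.leaf 2467) (.leaf 3466)) (.node (.leaf 927) (.leaf 2261))) (.node (.node (.leaf 2352) (.leaf 3025)) (.node (.leaf 3313) (.leaf 3079)))) (.node (.node (.node (.leaf 337) (.leaf 3645)) (.node (.leaf 1092) (.leaf 3726))) (.node (.node (.leaf 745) (.leaf 2745)) (.leaf 1379))))) (.node (.node (.node (.node (.node (.leaf 69) (.leaf 1469)) (.node (.leaf 879) (.leaf 3064))) (.node (.node (.leaf 495) (.leaf 2570)) (.node (.leaf 2819) (.leaf 2292)))) (.node (.node (.node (.leaf 284) (.leaf 3676)) (.node (.leaf 3147) (.leaf 3499))) (.node (.node (.leaf 696) (.leaf 1751)) (.leaf 1348)))) (.node (.node (.node (.node (.leaf 177) (.leaf 1521)) (.node (.leaf 2971) (.leaf 1836))) (.node (.node (.leaf 600) (.leaf 2788)) (.node (.leaf 3764) (.leaf 3779)))) (.node (.node (.node (.leaf 391) (.leaf 2355)) (.node (.leaf 1134) (.leaf 2998))) (.node (.node (.leaf 2428) (.leaf 1782)) (.leaf 1407)))))) (.node (.node (.node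 (.node (.node (.node (.leaf 40) (.leaf 2308)) (.node (.leaf 856) (.leaf 2856))) (.node (.node (.leaf 468) (.leaf 3514)) (.node (.leaf 3133) (.leaf 2869)))) (.node (.node (.node (.leaf 257) (.leaf 2386)) (.node (.leaf 1040) (.leaf 3114))) (.node (.node (.leaf 671) (.leaf 3103)) (.leaf 1329)))) (.node (.node (.node (.node (.leaf 2269) (.leaf 3616)) (.node (.leaf 948) (.leaf 3091))) (.node (.node (.leaf 573) (.leaf 1700)) (.node (.leaf 1259) (.leaf 1913)))) (.node (.node (.node (.leaf 364) (.leaf 2330)) (.node (.leaf 2799) (.leaf 2184))) (.node (.node (.leaf 766) (.leaf 1776)) (.leaf 3097))))) (.node (.node (.node (.node (.node (.leaf 96) (.leaf 3543)) (.node (.leaf 905) (.leaf 2924))) (.node (.node (.leaf 520) (.leaf 3044)) (.node (.leaf 2236) (.leaf 3242)))) (.node (.node (.node (.leaf 2333) (.leaf 1591)) (.node (.leaf 2830) (.leaf 3780))) (.node (.node (.leaf 2151) (.leaf 2950)) (.leaf 1364)))) (.node (.node (.node (.node (.leaf 203) (.leaf 3436)) (.node (.leaf 994) (.leaf 1843))) (.node (.node (.leaf 2477) (.leaf 2649)) (.node (.leaf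 1292) (.leaf 3546)))) (.node (.node (.node (.leaf 2304) (.leaf 3614)) (.node (.leaf 3773) (.leaf 3165))) (.node (.node (.leaf 811) (.leaf 1927)) (.leaf 3850))))))) (.node (.node (.node (.node (.node (.node (.node (.leaf 25) (.leaf 1445)) (.node (.leaf 843) (.leaf 2258))) (.node (.node (.leaf 1955) (.leaf 1655)) (.node (.leaf 1183) (.leaf 3706)))) (.node (.node (.node (.leaf 243) (.leaf 1560)) (.node (.leaf 1029) (.leaf 3679))) (.node (.node (.leaf 660) (.leaf 2628)) (.leaf 1320)))) (.node (.node (.node (.node (.leaf 137) (.leaf 1934)) (.node (.leaf 938) (.leaf 3003))) (.node (.node (.leaf 560) (.leaf 2611)) (.node (.leaf 1942) (.leaf 3430)))) (.node (.node (.node (.leaf 350) (.leaf 3819)) (.node (.leaf 2085) (.leaf 2725))) (.node (.node (.leaf 3408) (.leaf 3215)) (.leaf 1388))))) (.node (.node (.node (.node (.node (.leaf 1963) (.leaf 2562)) (.node (.leaf 892) (.leaf 3671))) (.node (.node (.leaf 507) (.leaf 2571)) (.node (.leaf 1214) (.leaf 1921)))) (.node (.node (.node (.leaf 297) (.leaf 1584)) (.node (.leaf 2748) (.leaf 2880))) (.node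 (.node (.leaf 708) (.leaf 2068)) (.leaf 1357)))) (.node (.node (.node (.node (.leaf 188) (.leaf 1532)) (.node (.leaf 984) (.leaf 3703))) (.node (.node (.leaf 610) (.leaf 1714)) (.node (.leaf 2498) (.leaf 3074)))) (.node (.node (.node (.leaf 404) (.leaf 2604)) (.node (.leaf 1145) (.leaf 1888))) (.node (.node (.leaf 799) (.leaf 2088)) (.leaf 1417)))))) (.node (.node (.node (.node (.node (.node (.leaf 55) (.leaf 1462)) (.node (.leaf 867) (.leaf 1802))) (.node (.node (.leaf 481) (.leaf 1666)) (.node (.leaf 2840) (.leaf 3021)))) (.node (.node (.node (.leaf 271) (.leaf 1571)) (.node (.leaf 1048) (.leaf 3356))) (.node (.node (.leaf 684) (.leaf 3656)) (.leaf 1338)))) (.node (.node (.node (.node (.leaf 164) (.leaf 2138)) (.node (.leaf 1947) (.leaf 3492))) (.node (.node (.leaf 2613) (.leaf 2125)) (.node (.leaf 3424) (.leaf 3271)))) (.node (.node (.node (.leaf 3178) (.leaf 1623)) (.node (.leaf 2338) (.leaf 3287))) (.node (.node (.leaf 3062) (.leaf 3389)) (.leaf 3710))))) (.node (.node (.node (.node (.node (.leaf 109) (.leaf 2486)) (.node (.leaf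 916) (.leaf 1923))) (.node (.node (.leaf 532) (.leaf 3236)) (.node (.leaf 1233) (.leaf 1910)))) (.node (.node (.node (.leaf 2336) (.leaf 2802)) (.node (.leaf 2482) (.leaf 2916))) (.node (.node (.leaf 733) (.leaf 1767)) (.leaf 1371)))) (.node (.node (.node (.node (.leaf 216) (.leaf 2658)) (.node (.leaf 1007) (.leaf 3437))) (.node (.node (.leaf 2192) (.leaf 1727)) (.node (.leaf 3006) (.leaf 3073)))) (.node (.node (.node (.leaf 432) (.leaf 3247)) (.node (.leaf 1164) (.leaf 3330))) (.node (.node (.leaf 2238) (.leaf 3375)) (.leaf 1430)))))))))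

def twoRank2 : Janko.Tree (ℕ) :=
  (.node (.node (.node (.node (.node (.node (.node (.node (.node (.leaf 2) (.leaf 3659)) (.node (.leaf 826) (.leaf 3084))) (.node (.node (.leaf 2086) (.leaf 2631)) (.node (.leaf 3812) (.leaf 3082)))) (.node (.node (.node (.leaf 223) (.leaf 1545)) (.node (.leaf 3146) (.leaf 1850))) (.node (.node (.leaf 643) (.leaf 3053)) (.node (.leaf 2002) (.leaf 2029))))) (.node (.node (.node (.node (.leaf 117) (.leaf 3567)) (.node (.leaf 921) (.leaf 3391))) (.node (.node (.leaf 541) (.leaf 1692)) (.node (.leaf 1239) (.leaf 3806)))) (.node (.node (.node (.leaf 332) (.leaf 1598)) (.node (.leaf 3192) (.leaf 2030))) (.node (.node (.leaf 2565) (.leaf 3295)) (.leaf 2888))))) (.node (.node (.node (.node (.node (.leaf 62) (.leaf 2629)) (.node (.leaf 874) (.leaf 3689))) (.node (.node (.leaf 489) (.leaf 2400)) (.node (.leaf 1201) (.leaf 1967)))) (.node (.node (.node (.leaf 279) (.leaf 3124)) (.node (.leaf 1054) (.leaf 1865))) (.node (.node (.leaf 691) (.leaf 2181)) (.leaf 1344)))) (.node (.node (.node (.node (.leaf 172) (.leaf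 2780)) (.node (.leaf 2124) (.leaf 2671))) (.node (.node (.leaf 2210) (.leaf 3817)) (.node (.leaf 1270) (.leaf 3341)))) (.node (.node (.node (.leaf 2108) (.leaf 1627)) (.node (.leaf 1129) (.leaf 2683))) (.node (.node (.leaf 784) (.leaf 3588)) (.leaf 2448)))))) (.node (.node (.node (.node (.node (.node (.leaf 33) (.leaf 2182)) (.node (.leaf 851) (.leaf 2033))) (.node (.node (.leaf 463) (.leaf 1657)) (.node (.leaf 2006) (.leaf 3617)))) (.node (.node (.node (.leaf 251) (.leaf 2991)) (.node (.leaf 1035) (.leaf 3792))) (.node (.node (.leaf 666) (.leaf 3855)) (.leaf 1325)))) (.node (.node (.node (.node (.leaf 143) (.leaf 3447)) (.node (.leaf 2412) (.leaf 3102))) (.node (.node (.leaf 3407) (.leaf 2038)) (.node (.leaf 1256) (.leaf 3662)))) (.node (.node (.node (.leaf 358) (.leaf 3765)) (.node (.leaf 1107) (.leaf 3438))) (.node (.node (.leaf 760) (.leaf 3444)) (.leaf 2507))))) (.node (.node (.node (.node (.node (.leaf 90) (.leaf 1478)) (.node (.leaf 899) (.leaf 3098))) (.node (.node (.leaf 515) (.leaf 1683)) (.node (.leaf 1220) (.leaf 3685))))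 (.node (.node (.node (.leaf 306) (.leaf 3813)) (.node (.leaf 3453) (.leaf 3446))) (.node (.node (.leaf 2089) (.leaf 2551)) (.leaf 1361)))) (.node (.node (.node (.node (.leaf 197) (.leaf 1536)) (.node (.leaf 989) (.leaf 2698))) (.node (.node (.leaf 616) (.leaf 1985)) (.node (.leaf 1287) (.leaf 3652)))) (.node (.node (.node (.leaf 411) (.leaf 1990)) (.node (.leaf 2345) (.leaf 3284))) (.node (.node (.leaf 805) (.leaf 1787)) (.leaf 2926))))))) (.node (.node (.node (.node (.node (.node (.node (.leaf 18) (.leaf 2560)) (.node (.leaf 837) (.leaf 3814))) (.node (.node (.leaf 451) (.leaf 1651)) (.node (.leaf 2389) (.leaf 3632)))) (.node (.node (.node (.leaf 237) (.leaf 1555)) (.node (.leaf 1026) (.leaf 2917))) (.node (.node (.leaf 655) (.leaf 2727)) (.leaf 1313)))) (.node (.node (.node (.node (.leaf 130) (.leaf 2044)) (.node (.leaf 933) (.leaf 3714))) (.node (.node (.leaf 554) (.leaf 1697)) (.node (.leaf 1248) (.leaf 3688)))) (.node (.node (.node (.leaf 2396) (.leaf 1605)) (.node (.leaf 2093) (.leaf 2625))) (.node (.node (.leaf 751) (.leaf 2960))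 (.leaf 1385))))) (.node (.node (.node (.node (.node (.leaf 77) (.leaf 1997)) (.node (.leaf 887) (.leaf 2227))) (.node (.node (.leaf 502) (.leaf 2798)) (.node (.leaf 2005) (.leaf 3844)))) (.node (.node (.node (.leaf 2242) (.leaf 2041)) (.node (.leaf 1064) (.leaf 1868))) (.node (.node (.leaf 703) (.leaf 1754)) (.leaf 2001)))) (.node (.node (.node (.node (.leaf 184) (.leaf 2910)) (.node (.leaf 978) (.leaf 3768))) (.node (.node (.leaf 605) (.leaf 3791)) (.node (.leaf 3065) (.leaf 1965)))) (.node (.node (.node (.leaf 398) (.leaf 2842)) (.node (.leaf 1140) (.leaf 3088))) (.node (.node (.leaf 793) (.leaf 1979)) (.leaf 2158)))))) (.node (.node (.node (.node (.node (.node (.leaf 48) (.leaf 2726)) (.node (.leaf 2359) (.leaf 2877))) (.node (.node (.leaf 475) (.leaf 3591)) (.node (.leaf 1194) (.leaf 3491)))) (.node (.node (.node (.leaf 265) (.leaf 2385)) (.node (.leaf 2556) (.leaf 1858))) (.node (.node (.leaf 678) (.leaf 3624)) (.leaf 1333)))) (.node (.node (.node (.node (.leaf 158) (.leaf 3602)) (.node (.leaf 956) (.leaf 3315))) (.node (.node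 (.leaf 581) (.leaf 1704)) (.node (.leaf 2665) (.leaf 3174)))) (.node (.node (.node (.leaf 372) (.leaf 2329)) (.node (.leaf 1116) (.leaf 3680))) (.node (.node (.leaf 773) (.leaf 3754)) (.leaf 1397))))) (.node (.node (.node (.node (.node (.leaf 103) (.leaf 3472)) (.node (.leaf 912) (.leaf 1820))) (.node (.node (.leaf 527) (.leaf 2501)) (.node (.leaf 3007) (.leaf 3513)))) (.node (.node (.node (.leaf 319) (.leaf 1992)) (.node (.leaf 1079) (.leaf 3665))) (.node (.node (.leaf 726) (.leaf 1764)) (.leaf 1368)))) (.node (.node (.node (.node (.leaf 210) (.leaf 2533)) (.node (.leaf 2011) (.leaf 1846))) (.node (.node (.leaf 630) (.leaf 1724)) (.node (.leaf 3020) (.leaf 3338)))) (.node (.node (.node (.leaf 425) (.leaf 2988)) (.node (.leaf 3131) (.leaf 3759))) (.node (.node (.leaf 818) (.leaf 3488)) (.leaf 3642)))))))) (.node (.node (.node (.node (.node (.node (.node (.node (.leaf 10) (.leaf 2976)) (.node (.leaf 2328) (.leaf 3498))) (.node (.node (.leaf 444) (.leaf 3259)) (.node (.leaf 3179) (.leaf 3456)))) (.node (.node (.node (.leaf 230) (.leaf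 1548)) (.node (.leaf 1018) (.leaf 1851))) (.node (.node (.leaf 649) (.leaf 3805)) (.node (.leaf 2409) (.leaf 2067))))) (.node (.node (.node (.node (.leaf 124) (.leaf 1499)) (.node (.leaf 3820) (.leaf 2040))) (.node (.node (.leaf 548) (.leaf 1695)) (.node (.leaf 1245) (.leaf 3545)))) (.node (.node (.node (.leaf 338) (.leaf 1602)) (.node (.leaf 1093) (.leaf 3089))) (.node (.node (.leaf 2266) (.leaf 3722)) (.leaf 1380))))) (.node (.node (.node (.node (.node (.leaf 2094) (.leaf 1470)) (.node (.leaf 880) (.leaf 1809))) (.node (.node (.leaf 496) (.leaf 3095)) (.node (.leaf 2424) (.leaf 3189)))) (.node (.node (.node (.leaf 285) (.leaf 3674)) (.node (.leaf 1059) (.leaf 2853))) (.node (.node (.leaf 2277) (.leaf 1752)) (.leaf 1349)))) (.node (.node (.node (.node (.leaf 178) (.leaf 1522)) (.node (.leaf 971) (.leaf 3494))) (.node (.node (.leaf 601) (.leaf 1708)) (.node (.leaf 1274) (.leaf 1916)))) (.node (.node (.node (.leaf 392) (.leaf 2734)) (.node (.leaf 1135) (.leaf 3027))) (.node (.node (.leaf 788) (.leaf 2091)) (.leaf 1408)))))) (.node (.node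 (.node (.node (.node (.node (.leaf 41) (.leaf 1454)) (.node (.leaf 2920) (.leaf 3017))) (.node (.node (.leaf 469) (.leaf 3677)) (.node (.leaf 2228) (.leaf 1900)))) (.node (.node (.node (.leaf 2059) (.leaf 1994)) (.node (.leaf 3014) (.leaf 3112))) (.node (.node (.leaf 672) (.leaf 2807)) (.leaf 1330)))) (.node (.node (.node (.node (.leaf 150) (.leaf 2632)) (.node (.leaf 949) (.leaf 2544))) (.node (.node (.leaf 574) (.leaf 1701)) (.node (.leaf 1260) (.leaf 1966)))) (.node (.node (.node (.leaf 365) (.leaf 1991)) (.node (.leaf 2145) (.leaf 3551))) (.node (.node (.leaf 767) (.leaf 3047)) (.leaf 2622))))) (.node (.node (.node (.node (.node (.leaf 2286) (.leaf 2293)) (.node (.leaf 906) (.leaf 2865))) (.node (.node (.leaf 521) (.leaf 1687)) (.node (.leaf 1225) (.leaf 3342)))) (.node (.node (.node (.leaf 313) (.leaf 2817)) (.node (.leaf 1073) (.leaf 3826))) (.node (.node (.leaf 720) (.leaf 3318)) (.leaf 1365)))) (.node (.node (.node (.node (.leaf 204) (.leaf 2393)) (.node (.leaf 995) (.leaf 3299))) (.node (.node (.leaf 622) (.leaf 1720)) (.node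 (.leaf 1293) (.leaf 3401)))) (.node (.node (.node (.leaf 417) (.leaf 3311)) (.node (.leaf 1154) (.leaf 3646))) (.node (.node (.leaf 812) (.leaf 1978)) (.leaf 2047))))))) (.node (.node (.node (.node (.node (.node (.node (.leaf 26) (.leaf 2656)) (.node (.leaf 844) (.leaf 1796))) (.node (.node (.leaf 2021) (.leaf 2897)) (.node (.leaf 3738) (.leaf 1898)))) (.node (.node (.node (.leaf 244) (.leaf 1561)) (.node (.leaf 1030) (.leaf 2444))) (.node (.node (.leaf 661) (.leaf 1983)) (.leaf 3440)))) (.node (.node (.node (.node (.leaf 2281) (.leaf 1995)) (.node (.leaf 939) (.leaf 2805))) (.node (.node (.leaf 561) (.leaf 3737)) (.node (.leaf 2004) (.leaf 3344)))) (.node (.node (.node (.leaf 351) (.leaf 1609)) (.node (.leaf 3586) (.leaf 1880))) (.node (.node (.leaf 754) (.leaf 3138)) (.leaf 1389))))) (.node (.node (.node (.node (.node (.leaf 2027) (.leaf 2743)) (.node (.leaf 893) (.leaf 1815))) (.node (.node (.leaf 508) (.leaf 2810)) (.node (.leaf 1215) (.leaf 3445)))) (.node (.node (.node (.leaf 298) (.leaf 1585)) (.node (.leaf 1067) (.leaf 3847)))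 (.node (.node (.leaf 709) (.leaf 2524)) (.leaf 2405)))) (.node (.node (.node (.node (.leaf 189) (.leaf 1533)) (.node (.leaf 985) (.leaf 3808))) (.node (.node (.leaf 611) (.leaf 1715)) (.node (.leaf 2100) (.leaf 2231)))) (.node (.node (.node (.leaf 405) (.leaf 1633)) (.node (.leaf 2891) (.leaf 3134))) (.node (.node (.leaf 2427) (.leaf 1784)) (.leaf 1418)))))) (.node (.node (.node (.node (.node (.node (.leaf 56) (.leaf 1463)) (.node (.leaf 868) (.leaf 1803))) (.node (.node (.leaf 482) (.leaf 3145)) (.node (.leaf 2848) (.leaf 3418)))) (.node (.node (.node (.leaf 272) (.leaf 1993)) (.node (.leaf 1049) (.leaf 1971))) (.node (.node (.leaf 2284) (.leaf 3069)) (.leaf 2204)))) (.node (.node (.node (.node (.leaf 165) (.leaf 2139)) (.node (.leaf 962) (.leaf 3380))) (.node (.node (.leaf 587) (.leaf 2735)) (.node (.leaf 1267) (.leaf 2618)))) (.node (.node (.node (.leaf 378) (.leaf 1624)) (.node (.leaf 1122) (.leaf 2723))) (.node (.node (.leaf 778) (.leaf 3051)) (.leaf 1401))))) (.node (.node (.node (.node (.node (.leaf 110) (.leaf 3045)) (.node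 (.leaf 2900) (.leaf 1975))) (.node (.node (.leaf 533) (.leaf 1690)) (.node (.leaf 1234) (.leaf 3769)))) (.node (.node (.node (.leaf 325) (.leaf 3042)) (.node (.leaf 2969) (.leaf 1876))) (.node (.node (.leaf 734) (.leaf 1981)) (.leaf 2859)))) (.node (.node (.node (.node (.leaf 2196) (.leaf 1544)) (.node (.leaf 1008) (.leaf 3359))) (.node (.node (.leaf 637) (.leaf 2948)) (.node (.leaf 1301) (.leaf 2505)))) (.node (.node (.node (.leaf 433) (.leaf 3807)) (.node (.leaf 1165) (.leaf 1893))) (.node (.node (.leaf 2290) (.leaf 2555)) (.leaf 1998)))))))))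

def twoRank3 : Janko.Tree (ℕ) :=
  (.node (.node (.node (.node (.node (.node (.node (.node (.node (.leaf 3) (.leaf 1435)) (.node (.leaf 3224) (.leaf 1792))) (.node (.node (.leaf 439) (.leaf 3658)) (.node (.leaf 1169) (.leaf 3086)))) (.node (.node (.node (.leaf 224) (.leaf 3416)) (.node (.leaf 1012) (.leaf 3606))) (.node (.node (.leaf 2189) (.leaf 1731)) (.node (.leaf 3425) (.leaf 2128))))) (.node (.node (.node (.node (.leaf 118) (.leaf 1495)) (.node (.leaf 922) (.leaf 3388))) (.node (.node (.leaf 542) (.leaf 1693)) (.node (.leaf 2325) (.leaf 3803)))) (.node (.node (.node (.leaf 2397) (.leaf 2235)) (.node (.leaf 1087) (.leaf 2779))) (.node (.node (.leaf 740) (.leaf 1771)) (.leaf 2890))))) (.node (.node (.node (.node (.node (.leaf 63) (.leaf 1936)) (.node (.leaf 2168) (.leaf 2388))) (.node (.node (.leaf 490) (.leaf 3002)) (.node (.leaf 2992) (.leaf 3556)))) (.node (.node (.node (.leaf 1959) (.leaf 1577)) (.node (.leaf 1055) (.leaf 2403))) (.node (.node (.leaf 2686) (.leaf 2978)) (.leaf 2506)))) (.node (.node (.node (.node (.leaf 1961)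 (.leaf 2346)) (.node (.leaf 967) (.leaf 3240))) (.node (.node (.leaf 594) (.leaf 3815)) (.node (.leaf 2438) (.leaf 3343)))) (.node (.node (.node (.leaf 385) (.leaf 1628)) (.node (.leaf 1130) (.leaf 2828))) (.node (.node (.leaf 3454) (.leaf 3593)) (.leaf 1406)))))) (.node (.node (.node (.node (.node (.node (.leaf 34) (.leaf 1451)) (.node (.leaf 852) (.leaf 3078))) (.node (.node (.leaf 464) (.leaf 1658)) (.node (.leaf 1186) (.leaf 3613)))) (.node (.node (.node (.leaf 252) (.leaf 1562)) (.node (.leaf 2065) (.leaf 3788))) (.node (.node (.leaf 667) (.leaf 2985)) (.leaf 1326)))) (.node (.node (.node (.node (.leaf 144) (.leaf 3449)) (.node (.leaf 944) (.leaf 3071))) (.node (.node (.leaf 568) (.leaf 2578)) (.node (.leaf 1257) (.leaf 3668)))) (.node (.node (.node (.leaf 359) (.leaf 3729)) (.node (.leaf 1108) (.leaf 2945))) (.node (.node (.leaf 761) (.leaf 2532)) (.leaf 1393))))) (.node (.node (.node (.node (.node (.leaf 91) (.leaf 1479)) (.node (.leaf 2404) (.leaf 3532))) (.node (.node (.leaf 516) (.leaf 1684)) (.node (.leaf 1221) (.leaf 3683))))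 (.node (.node (.node (.leaf 307) (.leaf 3730)) (.node (.leaf 3223) (.leaf 1872))) (.node (.node (.leaf 715) (.leaf 1759)) (.leaf 2414)))) (.node (.node (.node (.node (.leaf 198) (.leaf 2394)) (.node (.leaf 990) (.leaf 2709))) (.node (.node (.leaf 617) (.leaf 2620)) (.node (.leaf 1288) (.leaf 1917)))) (.node (.node (.node (.leaf 412) (.leaf 2669)) (.node (.leaf 1151) (.leaf 3282))) (.node (.node (.leaf 806) (.leaf 3364)) (.leaf 2845))))))) (.node (.node (.node (.node (.node (.node (.node (.leaf 19) (.leaf 2175)) (.node (.leaf 838) (.leaf 3625))) (.node (.node (.leaf 2381) (.leaf 2673)) (.node (.leaf 3181) (.leaf 2052)))) (.node (.node (.node (.leaf 238) (.leaf 2736)) (.node (.leaf 2077) (.leaf 1853))) (.node (.node (.leaf 656) (.leaf 2947)) (.leaf 1314)))) (.node (.node (.node (.node (.leaf 131) (.leaf 3160)) (.node (.leaf 3573) (.leaf 1826))) (.node (.node (.leaf 555) (.leaf 3639)) (.node (.leaf 1249) (.leaf 3682)))) (.node (.node (.node (.leaf 345) (.leaf 1606)) (.node (.leaf 1099) (.leaf 2767))) (.node (.node (.leaf 752) (.leaf 2055))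 (.leaf 3370))))) (.node (.node (.node (.node (.node (.leaf 2279) (.leaf 2568)) (.node (.leaf 2103) (.leaf 2597))) (.node (.node (.leaf 503) (.leaf 1676)) (.node (.leaf 1210) (.leaf 3512)))) (.node (.node (.node (.leaf 292) (.leaf 1582)) (.node (.leaf 3040) (.leaf 1869))) (.node (.node (.leaf 704) (.leaf 1928)) (.leaf 1355)))) (.node (.node (.node (.node (.leaf 2418) (.leaf 2341)) (.node (.leaf 979) (.leaf 3770))) (.node (.node (.leaf 606) (.leaf 1712)) (.node (.leaf 1279) (.leaf 3166)))) (.node (.node (.node (.leaf 399) (.leaf 2596)) (.node (.leaf 1141) (.leaf 3273))) (.node (.node (.leaf 794) (.leaf 3718)) (.leaf 1413)))))) (.node (.node (.node (.node (.node (.node (.leaf 49) (.leaf 1459)) (.node (.leaf 862) (.leaf 2247))) (.node (.node (.leaf 2223) (.leaf 3589)) (.node (.leaf 2432) (.leaf 3497)))) (.node (.node (.node (.leaf 266) (.leaf 1568)) (.node (.leaf 1044) (.leaf 1859))) (.node (.node (.leaf 679) (.leaf 3106)) (.leaf 1334)))) (.node (.node (.node (.node (.leaf 159) (.leaf 2801)) (.node (.leaf 2123) (.leaf 1833))) (.node (.node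 (.leaf 582) (.leaf 3628)) (.node (.leaf 1265) (.leaf 1914)))) (.node (.node (.node (.leaf 373) (.leaf 1621)) (.node (.leaf 1117) (.leaf 3678))) (.node (.node (.leaf 774) (.leaf 1778)) (.leaf 2462))))) (.node (.node (.node (.node (.node (.leaf 104) (.leaf 1489)) (.node (.leaf 3797) (.leaf 3115))) (.node (.node (.leaf 528) (.leaf 1689)) (.node (.leaf 1230) (.leaf 1909)))) (.node (.node (.node (.leaf 320) (.leaf 1593)) (.node (.leaf 1080) (.leaf 3667))) (.node (.node (.leaf 727) (.leaf 2626)) (.leaf 1369)))) (.node (.node (.node (.node (.leaf 211) (.leaf 2697)) (.node (.leaf 1002) (.leaf 3477))) (.node (.node (.leaf 631) (.leaf 2811)) (.node (.leaf 3015) (.leaf 3340)))) (.node (.node (.node (.leaf 426) (.leaf 2441)) (.node (.leaf 1159) (.leaf 1891))) (.node (.node (.leaf 1950) (.leaf 3336)) (.leaf 3592)))))))) (.node (.node (.node (.node (.node (.node (.node (.node (.leaf 11) (.leaf 1440)) (.node (.leaf 832) (.leaf 2497))) (.node (.node (.leaf 445) (.leaf 2696)) (.node (.leaf 2390) (.leaf 3281)))) (.node (.node (.node (.leaf 231) (.leaf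 1549)) (.node (.leaf 1019) (.leaf 2402))) (.node (.node (.leaf 650) (.leaf 1733)) (.node (.leaf 1308) (.leaf 2076))))) (.node (.node (.node (.node (.leaf 125) (.leaf 1500)) (.node (.leaf 3525) (.leaf 3371))) (.node (.node (.leaf 549) (.leaf 1930)) (.node (.leaf 1246) (.leaf 3358)))) (.node (.node (.node (.leaf 339) (.leaf 3565)) (.node (.leaf 2157) (.leaf 3164))) (.node (.node (.leaf 746) (.leaf 3724)) (.leaf 2476))))) (.node (.node (.node (.node (.node (.leaf 70) (.leaf 1471)) (.node (.leaf 2895) (.leaf 3275))) (.node (.node (.leaf 2250) (.leaf 2213)) (.node (.leaf 1206) (.leaf 2545)))) (.node (.node (.node (.leaf 286) (.leaf 1580)) (.node (.leaf 1060) (.leaf 2111))) (.node (.node (.leaf 697) (.leaf 1753)) (.leaf 1350)))) (.node (.node (.node (.node (.leaf 179) (.leaf 2579)) (.node (.leaf 972) (.leaf 2719))) (.node (.node (.leaf 602) (.leaf 1709)) (.node (.leaf 3235) (.leaf 3028)))) (.node (.node (.node (.leaf 393) (.leaf 1630)) (.node (.leaf 1136) (.leaf 1884))) (.node (.node (.leaf 3835) (.leaf 3723)) (.leaf 2955)))))) (.node (.node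 (.node (.node (.node (.node (.leaf 42) (.leaf 1455)) (.node (.leaf 857) (.leaf 1926))) (.node (.node (.leaf 2376) (.leaf 3009)) (.node (.leaf 1189) (.leaf 3083)))) (.node (.node (.node (.leaf 258) (.leaf 3177)) (.node (.leaf 2492) (.leaf 1857))) (.node (.node (.leaf 673) (.leaf 2132)) (.leaf 2907)))) (.node (.node (.node (.node (.leaf 151) (.leaf 1513)) (.node (.leaf 950) (.leaf 3187))) (.node (.node (.leaf 575) (.leaf 2130)) (.node (.leaf 1261) (.leaf 3458)))) (.node (.node (.node (.leaf 366) (.leaf 2705)) (.node (.leaf 1111) (.leaf 1883))) (.node (.node (.leaf 2378) (.leaf 3434)) (.leaf 1938))))) (.node (.node (.node (.node (.node (.leaf 97) (.leaf 1484)) (.node (.leaf 907) (.leaf 2962))) (.node (.node (.leaf 522) (.leaf 1688)) (.node (.leaf 1226) (.leaf 3350)))) (.node (.node (.node (.leaf 314) (.leaf 2435)) (.node (.leaf 1074) (.leaf 1874))) (.node (.node (.leaf 721) (.leaf 1762)) (.leaf 1366)))) (.node (.node (.node (.node (.leaf 1960) (.leaf 1539)) (.node (.leaf 996) (.leaf 1844))) (.node (.node (.leaf 623) (.leaf 3663)) (.node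 (.leaf 2363) (.leaf 3653)))) (.node (.node (.node (.leaf 418) (.leaf 3309)) (.node (.leaf 1155) (.leaf 3650))) (.node (.node (.leaf 813) (.leaf 3257)) (.leaf 3148))))))) (.node (.node (.node (.node (.node (.node (.node (.leaf 27) (.leaf 2654)) (.node (.leaf 845) (.leaf 3715))) (.node (.node (.leaf 457) (.leaf 2365)) (.node (.leaf 3851) (.leaf 3686)))) (.node (.node (.node (.leaf 245) (.leaf 2256)) (.node (.leaf 1031) (.leaf 2796))) (.node (.node (.leaf 662) (.leaf 1737)) (.leaf 1321)))) (.node (.node (.node (.node (.leaf 138) (.leaf 1505)) (.node (.leaf 2413) (.leaf 2989))) (.node (.node (.leaf 562) (.leaf 1699)) (.node (.leaf 1251) (.leaf 1912)))) (.node (.node (.node (.leaf 352) (.leaf 1610)) (.node (.leaf 1104) (.leaf 3397))) (.node (.node (.leaf 755) (.leaf 2295)) (.leaf 1390))))) (.node (.node (.node (.node (.node (.leaf 83) (.leaf 1475)) (.node (.leaf 894) (.leaf 3595))) (.node (.node (.leaf 509) (.leaf 1678)) (.node (.leaf 2964) (.leaf 2547)))) (.node (.node (.node (.leaf 299) (.leaf 3305)) (.node (.leaf 1068) (.leaf 1871)))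 (.node (.node (.leaf 710) (.leaf 3033)) (.leaf 1358)))) (.node (.node (.node (.node (.leaf 190) (.leaf 1534)) (.node (.leaf 2474) (.leaf 3601))) (.node (.node (.leaf 1954) (.leaf 1716)) (.node (.leaf 1282) (.leaf 3292)))) (.node (.node (.node (.leaf 1957) (.leaf 2599)) (.node (.leaf 2886) (.leaf 2621))) (.node (.node (.leaf 3584) (.leaf 1785)) (.leaf 1419)))))) (.node (.node (.node (.node (.node (.node (.leaf 57) (.leaf 1464)) (.node (.leaf 869) (.leaf 1804))) (.node (.node (.leaf 483) (.leaf 2411)) (.node (.leaf 2846) (.leaf 3622)))) (.node (.node (.node (.leaf 273) (.leaf 2951)) (.node (.leaf 2176) (.leaf 1861))) (.node (.node (.leaf 685) (.leaf 2064)) (.leaf 2661)))) (.node (.node (.node (.node (.leaf 166) (.leaf 1518)) (.node (.leaf 963) (.leaf 1834))) (.node (.node (.leaf 588) (.leaf 1705)) (.node (.leaf 1941) (.leaf 3030)))) (.node (.node (.node (.leaf 379) (.leaf 1625)) (.node (.leaf 1123) (.leaf 2546))) (.node (.node (.leaf 779) (.leaf 3300)) (.leaf 2481))))) (.node (.node (.node (.node (.node (.leaf 111) (.leaf 1492)) (.node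 (.leaf 917) (.leaf 1821))) (.node (.node (.leaf 534) (.leaf 2459)) (.node (.leaf 1235) (.leaf 3270)))) (.node (.node (.node (.leaf 2265) (.leaf 1594)) (.node (.leaf 2468) (.leaf 3188))) (.node (.node (.leaf 735) (.leaf 2931)) (.leaf 1372)))) (.node (.node (.node (.node (.leaf 217) (.leaf 1932)) (.node (.leaf 1009) (.leaf 1847))) (.node (.node (.leaf 638) (.leaf 1728)) (.node (.leaf 2410) (.leaf 3402)))) (.node (.node (.node (.leaf 2087) (.leaf 1643)) (.node (.leaf 2259) (.leaf 3648))) (.node (.node (.leaf 822) (.leaf 2553)) (.leaf 1431)))))))))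

def twoRank4 : Janko.Tree (ℕ) :=
  (.node (.node (.node (.node (.node (.node (.node (.node (.node (.leaf 4) (.leaf 2066)) (.node (.leaf 827) (.leaf 2043))) (.node (.node (.leaf 440) (.leaf 1647)) (.node (.leaf 1170) (.leaf 2695)))) (.node (.node (.node (.leaf 225) (.leaf 1546)) (.node (.leaf 1013) (.leaf 3638))) (.node (.node (.leaf 644) (.leaf 3159)) (.node (.leaf 1305) (.leaf 2051))))) (.node (.node (.node (.node (.leaf 119) (.leaf 2789)) (.node (.leaf 923) (.leaf 3328))) (.node (.node (.leaf 543) (.leaf 3023)) (.node (.leaf 1240) (.leaf 2452)))) (.node (.node (.node (.leaf 2023) (.leaf 3377)) (.node (.leaf 1088) (.leaf 1878))) (.node (.node (.leaf 741) (.leaf 2932)) (.leaf 3542))))) (.node (.node (.node (.node (.node (.leaf 64) (.leaf 2074)) (.node (.leaf 875) (.leaf 1807))) (.node (.node (.leaf 491) (.leaf 1670)) (.node (.leaf 1202) (.leaf 3793)))) (.node (.node (.node (.leaf 2024) (.leaf 2548)) (.node (.leaf 2073) (.leaf 3787))) (.node (.node (.leaf 692) (.leaf 1748)) (.leaf 1345)))) (.node (.node (.node (.node (.leaf 173) (.leaf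 3175)) (.node (.leaf 968) (.leaf 3721))) (.node (.node (.leaf 595) (.leaf 3198)) (.node (.leaf 1271) (.leaf 2692)))) (.node (.node (.node (.leaf 386) (.leaf 3384)) (.node (.leaf 1131) (.leaf 2825))) (.node (.node (.leaf 785) (.leaf 1781)) (.leaf 3522)))))) (.node (.node (.node (.node (.node (.node (.leaf 35) (.leaf 3043)) (.node (.leaf 853) (.leaf 2883))) (.node (.node (.leaf 2245) (.leaf 3464)) (.node (.leaf 1187) (.leaf 3621)))) (.node (.node (.node (.leaf 253) (.leaf 3775)) (.node (.leaf 1036) (.leaf 3832))) (.node (.node (.leaf 2180) (.leaf 1740)) (.leaf 3527)))) (.node (.node (.node (.node (.leaf 145) (.leaf 3600)) (.node (.leaf 945) (.leaf 3515))) (.node (.node (.leaf 569) (.leaf 2663)) (.node (.leaf 2360) (.leaf 3272)))) (.node (.node (.node (.leaf 360) (.leaf 1615)) (.node (.leaf 2797) (.leaf 3127))) (.node (.node (.leaf 762) (.leaf 2035)) (.leaf 2616))))) (.node (.node (.node (.node (.node (.leaf 92) (.leaf 1996)) (.node (.leaf 900) (.leaf 3144))) (.node (.node (.leaf 517) (.leaf 1685)) (.node (.leaf 3312) (.leaf 3599)))) (.node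 (.node (.node (.leaf 308) (.leaf 1588)) (.node (.leaf 1070) (.leaf 1970))) (.node (.node (.leaf 716) (.leaf 1760)) (.leaf 3575)))) (.node (.node (.node (.node (.leaf 199) (.leaf 1537)) (.node (.leaf 2469) (.leaf 1842))) (.node (.node (.leaf 618) (.leaf 2487)) (.node (.leaf 1289) (.leaf 3483)))) (.node (.node (.node (.leaf 413) (.leaf 3794)) (.node (.leaf 3420) (.leaf 3562))) (.node (.node (.leaf 807) (.leaf 2693)) (.leaf 2843))))))) (.node (.node (.node (.node (.node (.node (.node (.leaf 20) (.leaf 1443)) (.node (.leaf 839) (.leaf 3414))) (.node (.node (.leaf 452) (.leaf 1652)) (.node (.leaf 1178) (.leaf 2034)))) (.node (.node (.node (.leaf 239) (.leaf 2248)) (.node (.leaf 2010) (.leaf 2508))) (.node (.node (.leaf 657) (.leaf 2624)) (.leaf 1315)))) (.node (.node (.node (.node (.leaf 132) (.leaf 3831)) (.node (.leaf 934) (.leaf 3750))) (.node (.node (.leaf 556) (.leaf 2140)) (.node (.leaf 2587) (.leaf 2876)))) (.node (.node (.node (.leaf 346) (.leaf 2674)) (.node (.leaf 1100) (.leaf 2720))) (.node (.node (.leaf 3798) (.leaf 2647)) (.leaf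 2118))))) (.node (.node (.node (.node (.node (.leaf 78) (.leaf 2372)) (.node (.leaf 888) (.leaf 1813))) (.node (.node (.leaf 2221) (.leaf 2906)) (.node (.leaf 1211) (.leaf 3317)))) (.node (.node (.node (.leaf 293) (.leaf 3231)) (.node (.leaf 2757) (.leaf 2737))) (.node (.node (.leaf 705) (.leaf 2046)) (.leaf 1356)))) (.node (.node (.node (.node (.leaf 185) (.leaf 1527)) (.node (.leaf 2463) (.leaf 3239))) (.node (.node (.leaf 607) (.leaf 3743)) (.node (.leaf 1280) (.leaf 3334)))) (.node (.node (.node (.leaf 400) (.leaf 1632)) (.node (.leaf 1142) (.leaf 2540))) (.node (.node (.leaf 795) (.leaf 3618)) (.leaf 1414)))))) (.node (.node (.node (.node (.node (.node (.leaf 50) (.leaf 3373)) (.node (.leaf 863) (.leaf 3824))) (.node (.node (.leaf 476) (.leaf 1664)) (.node (.leaf 1195) (.leaf 3557)))) (.node (.node (.node (.leaf 2220) (.leaf 3471)) (.node (.leaf 1045) (.leaf 2458))) (.node (.node (.leaf 680) (.leaf 1743)) (.leaf 1335)))) (.node (.node (.node (.node (.leaf 2218) (.leaf 2490)) (.node (.leaf 957) (.leaf 3558))) (.node (.node (.leaf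 583) (.leaf 3818)) (.node (.leaf 2667) (.leaf 1915)))) (.node (.node (.node (.leaf 374) (.leaf 2941)) (.node (.leaf 1118) (.leaf 2177))) (.node (.node (.leaf 2374) (.leaf 3194)) (.leaf 2781))))) (.node (.node (.node (.node (.node (.leaf 2096) (.leaf 1490)) (.node (.leaf 913) (.leaf 2875))) (.node (.node (.leaf 2320) (.leaf 3248)) (.node (.leaf 2566) (.leaf 3776)))) (.node (.node (.node (.leaf 321) (.leaf 3611)) (.node (.leaf 1081) (.leaf 3670))) (.node (.node (.leaf 728) (.leaf 2185)) (.leaf 2952)))) (.node (.node (.node (.node (.leaf 212) (.leaf 2662)) (.node (.leaf 1003) (.leaf 2986))) (.node (.node (.leaf 632) (.leaf 3186)) (.node (.leaf 1297) (.leaf 3345)))) (.node (.node (.node (.leaf 427) (.leaf 3762)) (.node (.leaf 1160) (.leaf 3752))) (.node (.node (.leaf 2232) (.leaf 3539)) (.leaf 1425)))))))) (.node (.node (.node (.node (.node (.node (.node (.node (.leaf 12) (.leaf 2642)) (.node (.leaf 833) (.leaf 3433))) (.node (.node (.leaf 446) (.leaf 2356)) (.node (.leaf 1176) (.leaf 3816)))) (.node (.node (.node (.leaf 232) (.leaf 1550))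 (.node (.leaf 1020) (.leaf 2854))) (.node (.node (.leaf 651) (.leaf 1734)) (.node (.leaf 3004) (.leaf 2496))))) (.node (.node (.node (.node (.leaf 126) (.leaf 3475)) (.node (.leaf 928) (.leaf 3390))) (.node (.node (.leaf 550) (.leaf 2401)) (.node (.leaf 3709) (.leaf 3561)))) (.node (.node (.node (.leaf 340) (.leaf 3319)) (.node (.leaf 3204) (.leaf 2833))) (.node (.node (.leaf 747) (.leaf 3428)) (.leaf 1381))))) (.node (.node (.node (.node (.node (.leaf 71) (.leaf 2749)) (.node (.leaf 881) (.leaf 3758))) (.node (.node (.leaf 497) (.leaf 1988)) (.node (.leaf 2643) (.leaf 3597)))) (.node (.node (.node (.leaf 287) (.leaf 2981)) (.node (.leaf 1061) (.leaf 3085))) (.node (.node (.leaf 698) (.leaf 3744)) (.leaf 1351)))) (.node (.node (.node (.node (.leaf 180) (.leaf 2339)) (.node (.leaf 973) (.leaf 3843))) (.node (.node (.leaf 2117) (.leaf 3417)) (.node (.leaf 2710) (.leaf 3782)))) (.node (.node (.node (.leaf 2072) (.leaf 2602)) (.node (.leaf 1137) (.leaf 2990))) (.node (.node (.leaf 789) (.leaf 2912)) (.leaf 1409)))))) (.node (.node (.node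 (.node (.node (.node (.leaf 2275) (.leaf 1456)) (.node (.leaf 858) (.leaf 2262))) (.node (.node (.leaf 470) (.leaf 1661)) (.node (.leaf 1190) (.leaf 3347)))) (.node (.node (.node (.leaf 259) (.leaf 1565)) (.node (.leaf 1041) (.leaf 3547))) (.node (.node (.leaf 674) (.leaf 2753)) (.leaf 2808)))) (.node (.node (.node (.node (.leaf 152) (.leaf 3249)) (.node (.leaf 951) (.leaf 3510))) (.node (.node (.leaf 576) (.leaf 2957)) (.node (.leaf 1262) (.leaf 2499)))) (.node (.node (.node (.leaf 367) (.leaf 1618)) (.node (.leaf 1112) (.leaf 2183))) (.node (.node (.leaf 768) (.leaf 3827)) (.leaf 2484))))) (.node (.node (.node (.node (.node (.leaf 98) (.leaf 3649)) (.node (.leaf 908) (.leaf 1976))) (.node (.node (.leaf 2899) (.leaf 3303)) (.node (.leaf 3523) (.leaf 1908)))) (.node (.node (.node (.leaf 315) (.leaf 3435)) (.node (.leaf 1075) (.leaf 3620))) (.node (.node (.leaf 3061) (.leaf 3111)) (.leaf 2729)))) (.node (.node (.node (.node (.leaf 2025) (.leaf 3310)) (.node (.leaf 997) (.leaf 3387))) (.node (.node (.leaf 624) (.leaf 1721)) (.node (.leaf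 2528) (.leaf 3511)))) (.node (.node (.node (.leaf 419) (.leaf 1638)) (.node (.leaf 1156) (.leaf 3533))) (.node (.node (.leaf 814) (.leaf 1788)) (.leaf 3022))))))) (.node (.node (.node (.node (.node (.node (.node (.leaf 28) (.leaf 1446)) (.node (.leaf 846) (.leaf 3214))) (.node (.node (.leaf 458) (.leaf 3655)) (.node (.leaf 1184) (.leaf 3395)))) (.node (.node (.node (.leaf 246) (.leaf 3256)) (.node (.leaf 2173) (.leaf 2803))) (.node (.node (.leaf 3783) (.leaf 1738)) (.leaf 2694)))) (.node (.node (.node (.node (.leaf 139) (.leaf 1506)) (.node (.leaf 940) (.leaf 1828))) (.node (.node (.leaf 563) (.leaf 2913)) (.node (.leaf 1252) (.leaf 3735)))) (.node (.node (.node (.leaf 353) (.leaf 1611)) (.node (.leaf 1105) (.leaf 2131))) (.node (.node (.leaf 756) (.leaf 1774)) (.leaf 3105))))) (.node (.node (.node (.node (.node (.leaf 84) (.leaf 1476)) (.node (.leaf 2398) (.leaf 3704))) (.node (.node (.leaf 2288) (.leaf 1679)) (.node (.leaf 2239) (.leaf 3548)))) (.node (.node (.node (.leaf 300) (.leaf 2433)) (.node (.leaf 2572) (.leaf 3838))) (.node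 (.node (.leaf 711) (.leaf 1755)) (.leaf 1359)))) (.node (.node (.node (.node (.leaf 191) (.leaf 2793)) (.node (.leaf 2919) (.leaf 1841))) (.node (.node (.leaf 2018) (.leaf 3139)) (.node (.leaf 1283) (.leaf 3742)))) (.node (.node (.node (.leaf 2022) (.leaf 2353)) (.node (.leaf 1146) (.leaf 1969))) (.node (.node (.leaf 800) (.leaf 2134)) (.leaf 1420)))))) (.node (.node (.node (.node (.node (.node (.leaf 58) (.leaf 2614)) (.node (.leaf 870) (.leaf 3393))) (.node (.node (.leaf 484) (.leaf 3234)) (.node (.leaf 2420) (.leaf 2858)))) (.node (.node (.node (.leaf 274) (.leaf 1572)) (.node (.leaf 1050) (.leaf 2815))) (.node (.node (.leaf 686) (.leaf 1744)) (.leaf 1339)))) (.node (.node (.node (.node (.leaf 167) (.leaf 2933)) (.node (.leaf 2980) (.leaf 2746))) (.node (.node (.leaf 589) (.leaf 3233)) (.node (.leaf 2318) (.leaf 3031)))) (.node (.node (.node (.leaf 380) (.leaf 3280)) (.node (.leaf 1124) (.leaf 3211))) (.node (.node (.leaf 780) (.leaf 1779)) (.leaf 3427))))) (.node (.node (.node (.node (.node (.leaf 112) (.leaf 3829)) (.node (.leaf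 918) (.leaf 1822))) (.node (.node (.leaf 535) (.leaf 2954)) (.node (.leaf 2322) (.leaf 3778)))) (.node (.node (.node (.leaf 326) (.leaf 2584)) (.node (.leaf 2009) (.leaf 1877))) (.node (.node (.leaf 736) (.leaf 1768)) (.leaf 2115)))) (.node (.node (.node (.node (.leaf 218) (.leaf 2344)) (.node (.leaf 2202) (.leaf 1848))) (.node (.node (.leaf 639) (.leaf 1729)) (.node (.leaf 1302) (.leaf 3654)))) (.node (.node (.node (.leaf 434) (.leaf 3603)) (.node (.leaf 2637) (.leaf 3000))) (.node (.node (.leaf 823) (.leaf 2558)) (.leaf 1432)))))))))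

def twoRank5 : Janko.Tree (ℕ) :=
  (.node (.node (.node (.node (.node (.node (.node (.node (.node (.leaf 5) (.leaf 1436)) (.node (.leaf 828) (.leaf 1793))) (.node (.node (.leaf 2090) (.leaf 2961)) (.node (.leaf 1171) (.leaf 2384)))) (.node (.node (.node (.leaf 2060) (.leaf 3457)) (.node (.leaf 1014) (.leaf 3785))) (.node (.node (.leaf 2116) (.leaf 1732)) (.node (.leaf 3261) (.leaf 2054))))) (.node (.node (.node (.node (.leaf 120) (.leaf 1496)) (.node (.leaf 924) (.leaf 3325))) (.node (.node (.leaf 544) (.leaf 3519)) (.node (.leaf 1241) (.leaf 3120)))) (.node (.node (.node (.leaf 333) (.leaf 1599)) (.node (.leaf 1089) (.leaf 3429))) (.node (.node (.leaf 742) (.leaf 2542)) (.leaf 1376))))) (.node (.node (.node (.node (.node (.leaf 65) (.leaf 2612)) (.node (.leaf 876) (.leaf 3713))) (.node (.node (.leaf 2419) (.leaf 1671)) (.node (.leaf 2588) (.leaf 2234)))) (.node (.node (.node (.leaf 280) (.leaf 1578)) (.node (.leaf 1056) (.leaf 1866))) (.node (.node (.leaf 3136) (.leaf 2638)) (.leaf 1346)))) (.node (.node (.node (.node (.leaf 2276)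 (.leaf 2539)) (.node (.leaf 2126) (.leaf 3719))) (.node (.node (.leaf 596) (.leaf 3196)) (.node (.leaf 2423) (.leaf 2297)))) (.node (.node (.node (.leaf 387) (.leaf 3378)) (.node (.leaf 2343) (.leaf 2305))) (.node (.node (.leaf 786) (.leaf 2491)) (.leaf 3036)))))) (.node (.node (.node (.node (.node (.node (.leaf 36) (.leaf 3038)) (.node (.leaf 2323) (.leaf 2881))) (.node (.node (.leaf 465) (.leaf 1659)) (.node (.leaf 1188) (.leaf 3623)))) (.node (.node (.node (.leaf 254) (.leaf 1563)) (.node (.leaf 2650) (.leaf 3801))) (.node (.node (.leaf 668) (.leaf 1741)) (.leaf 3627)))) (.node (.node (.node (.node (.leaf 146) (.leaf 1510)) (.node (.leaf 2416) (.leaf 1832))) (.node (.node (.leaf 570) (.leaf 3058)) (.node (.leaf 2600) (.leaf 3274)))) (.node (.node (.node (.leaf 361) (.leaf 3767)) (.node (.leaf 1109) (.leaf 1882))) (.node (.node (.leaf 2249) (.leaf 3474)) (.leaf 2485))))) (.node (.node (.node (.node (.node (.leaf 93) (.leaf 1480)) (.node (.leaf 901) (.leaf 3142))) (.node (.node (.leaf 2321) (.leaf 2442)) (.node (.leaf 1222) (.leaf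 3268)))) (.node (.node (.node (.leaf 309) (.leaf 2590)) (.node (.leaf 2283) (.leaf 3107))) (.node (.node (.leaf 717) (.leaf 1761)) (.leaf 3490)))) (.node (.node (.node (.node (.leaf 2197) (.leaf 2791)) (.node (.leaf 991) (.leaf 2605))) (.node (.node (.leaf 619) (.leaf 2511)) (.node (.leaf 1290) (.leaf 3485)))) (.node (.node (.node (.leaf 414) (.leaf 2682)) (.node (.leaf 1152) (.leaf 3564))) (.node (.node (.leaf 2577) (.leaf 2367)) (.leaf 2841))))))) (.node (.node (.node (.node (.node (.node (.node (.leaf 21) (.leaf 1444)) (.node (.leaf 840) (.leaf 3412))) (.node (.node (.leaf 453) (.leaf 1653)) (.node (.leaf 1179) (.leaf 1897)))) (.node (.node (.node (.leaf 240) (.leaf 1556)) (.node (.leaf 2963) (.leaf 1854))) (.node (.node (.leaf 658) (.leaf 3269)) (.leaf 1316)))) (.node (.node (.node (.node (.leaf 133) (.leaf 3644)) (.node (.leaf 935) (.leaf 3839))) (.node (.node (.leaf 557) (.leaf 1698)) (.node (.leaf 3151) (.leaf 2773)))) (.node (.node (.node (.leaf 2407) (.leaf 2676)) (.node (.leaf 1101) (.leaf 2984))) (.node (.node (.leaf 2392)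 (.leaf 3854)) (.leaf 2894))))) (.node (.node (.node (.node (.node (.leaf 79) (.leaf 2760)) (.node (.leaf 889) (.leaf 1814))) (.node (.node (.leaf 504) (.leaf 3540)) (.node (.leaf 1212) (.leaf 3550)))) (.node (.node (.node (.leaf 2246) (.leaf 3229)) (.node (.leaf 1065) (.leaf 1870))) (.node (.node (.leaf 706) (.leaf 2653)) (.leaf 2603)))) (.node (.node (.node (.node (.leaf 2219) (.leaf 1528)) (.node (.leaf 980) (.leaf 3241))) (.node (.node (.leaf 2473) (.leaf 3372)) (.node (.leaf 2170) (.leaf 2053)))) (.node (.node (.node (.leaf 2299) (.leaf 2594)) (.node (.leaf 1143) (.leaf 1886))) (.node (.node (.leaf 796) (.leaf 3066)) (.leaf 1415)))))) (.node (.node (.node (.node (.node (.node (.leaf 51) (.leaf 1460)) (.node (.leaf 864) (.leaf 3822))) (.node (.node (.leaf 477) (.leaf 3265)) (.node (.leaf 1196) (.leaf 1903)))) (.node (.node (.node (.leaf 267) (.leaf 3576)) (.node (.leaf 2303) (.leaf 2502))) (.node (.node (.leaf 2925) (.leaf 2821)) (.leaf 3250)))) (.node (.node (.node (.node (.leaf 160) (.leaf 1515)) (.node (.leaf 958) (.leaf 3554)))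 (.node (.node (.leaf 2399) (.leaf 3733)) (.node (.leaf 2319) (.leaf 2133)))) (.node (.node (.node (.leaf 2207) (.leaf 3072)) (.node (.leaf 1119) (.leaf 3635))) (.node (.node (.leaf 775) (.leaf 3736)) (.leaf 3836))))) (.node (.node (.node (.node (.node (.leaf 105) (.leaf 2958)) (.node (.leaf 3524) (.leaf 2264))) (.node (.node (.leaf 529) (.leaf 2456)) (.node (.leaf 2371) (.leaf 3505)))) (.node (.node (.node (.leaf 322) (.leaf 2862)) (.node (.leaf 1945) (.leaf 3789))) (.node (.node (.leaf 729) (.leaf 1765)) (.leaf 2923)))) (.node (.node (.node (.node (.leaf 213) (.leaf 2762)) (.node (.leaf 1004) (.leaf 2648))) (.node (.node (.leaf 633) (.leaf 1725)) (.node (.leaf 1298) (.leaf 3633)))) (.node (.node (.node (.leaf 428) (.leaf 1640)) (.node (.leaf 1161) (.leaf 3748))) (.node (.node (.leaf 819) (.leaf 2531)) (.leaf 1426)))))))) (.node (.node (.node (.node (.node (.node (.node (.node (.leaf 13) (.leaf 1441)) (.node (.leaf 834) (.leaf 1794))) (.node (.node (.leaf 447) (.leaf 1649)) (.node (.leaf 3469) (.leaf 1895)))) (.node (.node (.node (.leaf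 233) (.leaf 1551)) (.node (.leaf 1021) (.leaf 2852))) (.node (.node (.leaf 652) (.leaf 2160)) (.node (.leaf 3008) (.leaf 2689))))) (.node (.node (.node (.node (.leaf 127) (.leaf 3473)) (.node (.leaf 929) (.leaf 2826))) (.node (.node (.leaf 551) (.leaf 1696)) (.node (.leaf 1247) (.leaf 3699)))) (.node (.node (.node (.leaf 341) (.leaf 1603)) (.node (.leaf 1094) (.leaf 1879))) (.node (.node (.leaf 2272) (.leaf 3727)) (.leaf 2783))))) (.node (.node (.node (.node (.node (.leaf 72) (.leaf 2742)) (.node (.leaf 882) (.leaf 1810))) (.node (.node (.leaf 2968) (.leaf 2812)) (.node (.leaf 3260) (.leaf 3289)))) (.node (.node (.node (.leaf 288) (.leaf 2225)) (.node (.leaf 1062) (.leaf 3087))) (.node (.node (.leaf 699) (.leaf 2816)) (.leaf 1352)))) (.node (.node (.node (.node (.leaf 181) (.leaf 1523)) (.node (.leaf 974) (.leaf 3751))) (.node (.node (.leaf 603) (.leaf 1710)) (.node (.leaf 1275) (.leaf 3651)))) (.node (.node (.node (.leaf 394) (.leaf 1631)) (.node (.leaf 2610) (.leaf 2187))) (.node (.node (.leaf 790) (.leaf 3207)) (.leaf 3092))))))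 (.node (.node (.node (.node (.node (.node (.leaf 43) (.leaf 1457)) (.node (.leaf 859) (.leaf 2885))) (.node (.node (.leaf 471) (.leaf 3308)) (.node (.leaf 2887) (.leaf 3126)))) (.node (.node (.node (.leaf 260) (.leaf 3184)) (.node (.leaf 1042) (.leaf 3502))) (.node (.node (.leaf 3411) (.leaf 1742)) (.leaf 2905)))) (.node (.node (.node (.node (.leaf 153) (.leaf 2156)) (.node (.leaf 952) (.leaf 2331))) (.node (.node (.leaf 577) (.leaf 1702)) (.node (.leaf 2702) (.leaf 3172)))) (.node (.node (.node (.leaf 368) (.leaf 2707)) (.node (.leaf 1113) (.leaf 3460))) (.node (.node (.leaf 769) (.leaf 3825)) (.leaf 2617))))) (.node (.node (.node (.node (.node (.leaf 2282) (.leaf 1485)) (.node (.leaf 909) (.leaf 3118))) (.node (.node (.leaf 523) (.leaf 3140)) (.node (.leaf 1227) (.leaf 3392)))) (.node (.node (.node (.leaf 316) (.leaf 3037)) (.node (.leaf 1076) (.leaf 1875))) (.node (.node (.leaf 722) (.leaf 2706)) (.leaf 3230)))) (.node (.node (.node (.node (.leaf 205) (.leaf 3307)) (.node (.leaf 998) (.leaf 3297))) (.node (.node (.leaf 625) (.leaf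 2509)) (.node (.leaf 1294) (.leaf 3549)))) (.node (.node (.node (.leaf 420) (.leaf 2436)) (.node (.leaf 2255) (.leaf 3531))) (.node (.node (.leaf 2233) (.leaf 2699)) (.leaf 3019))))))) (.node (.node (.node (.node (.node (.node (.node (.leaf 29) (.leaf 1447)) (.node (.leaf 847) (.leaf 1797))) (.node (.node (.leaf 459) (.leaf 3660)) (.node (.leaf 2226) (.leaf 3400)))) (.node (.node (.node (.leaf 2470) (.leaf 3258)) (.node (.leaf 1032) (.leaf 2212))) (.node (.node (.leaf 663) (.leaf 2722)) (.leaf 2443)))) (.node (.node (.node (.node (.leaf 140) (.leaf 1507)) (.node (.leaf 941) (.leaf 1829))) (.node (.node (.leaf 2211) (.leaf 2666)) (.node (.leaf 1253) (.leaf 3630)))) (.node (.node (.node (.leaf 2109) (.leaf 1612)) (.node (.leaf 3675) (.leaf 1881))) (.node (.node (.leaf 757) (.leaf 3647)) (.leaf 2747))))) (.node (.node (.node (.node (.node (.leaf 85) (.leaf 3322)) (.node (.leaf 895) (.leaf 3702))) (.node (.node (.leaf 510) (.leaf 1680)) (.node (.leaf 1216) (.leaf 3360)))) (.node (.node (.node (.leaf 301) (.leaf 1586)) (.node (.leaf 1946)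 (.leaf 3840))) (.node (.node (.leaf 3585) (.leaf 1756)) (.leaf 2143)))) (.node (.node (.node (.node (.leaf 192) (.leaf 1535)) (.node (.leaf 3426) (.leaf 3571))) (.node (.node (.leaf 3100) (.leaf 3141)) (.node (.leaf 1284) (.leaf 3605)))) (.node (.node (.node (.leaf 406) (.leaf 1634)) (.node (.leaf 1147) (.leaf 1889))) (.node (.node (.leaf 2430) (.leaf 1786)) (.leaf 1421)))))) (.node (.node (.node (.node (.node (.node (.leaf 1964) (.leaf 2075)) (.node (.leaf 871) (.leaf 1805))) (.node (.node (.leaf 485) (.leaf 2500)) (.node (.leaf 2829) (.leaf 2241)))) (.node (.node (.node (.leaf 2243) (.leaf 1573)) (.node (.leaf 1051) (.leaf 1862))) (.node (.node (.leaf 687) (.leaf 2940)) (.leaf 1340)))) (.node (.node (.node (.node (.leaf 2422) (.leaf 2135)) (.node (.leaf 2977) (.leaf 2744))) (.node (.node (.leaf 590) (.leaf 2112)) (.node (.leaf 2681) (.leaf 3484)))) (.node (.node (.node (.leaf 381) (.leaf 3354)) (.node (.leaf 1125) (.leaf 3331))) (.node (.node (.leaf 781) (.leaf 3176)) (.leaf 1402))))) (.node (.node (.node (.node (.node (.leaf 113)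 (.leaf 1493)) (.node (.leaf 1949) (.leaf 1823))) (.node (.node (.leaf 536) (.leaf 3197)) (.node (.leaf 2974) (.leaf 2764)))) (.node (.node (.node (.leaf 327) (.leaf 3480)) (.node (.leaf 1083) (.leaf 3394))) (.node (.node (.leaf 2267) (.leaf 1769)) (.leaf 1373)))) (.node (.node (.node (.node (.leaf 2200) (.leaf 2561)) (.node (.leaf 1010) (.leaf 3530))) (.node (.node (.leaf 640) (.leaf 2765)) (.node (.leaf 1303) (.leaf 3403)))) (.node (.node (.node (.leaf 435) (.leaf 1644)) (.node (.leaf 1166) (.leaf 2368))) (.node (.node (.leaf 2294) (.leaf 1790)) (.leaf 2080)))))))))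

def twoRank6 : Janko.Tree (ℕ) :=
  (.node (.node (.node (.node (.node (.node (.node (.node (.node (.leaf 6) (.leaf 3508)) (.node (.leaf 2711) (.leaf 3541))) (.node (.node (.leaf 441) (.leaf 3132)) (.node (.leaf 1172) (.leaf 3035)))) (.node (.node (.node (.leaf 226) (.leaf 3279)) (.node (.leaf 1015) (.leaf 2580))) (.node (.node (.leaf 645) (.leaf 2166)) (.node (.leaf 1306) (.leaf 2069))))) (.node (.node (.node (.node (.leaf 121) (.leaf 1497)) (.node (.leaf 925) (.leaf 1824))) (.node (.node (.leaf 545) (.leaf 1694)) (.node (.leaf 1242) (.leaf 3716)))) (.node (.node (.node (.leaf 334) (.leaf 1600)) (.node (.leaf 2147) (.leaf 3032))) (.node (.node (.leaf 2375) (.leaf 3734)) (.leaf 1377))))) (.node (.node (.node (.node (.node (.leaf 66) (.leaf 1466)) (.node (.leaf 877) (.leaf 3615))) (.node (.node (.leaf 492) (.leaf 1672)) (.node (.leaf 1203) (.leaf 3717)))) (.node (.node (.node (.leaf 281) (.leaf 3538)) (.node (.leaf 1057) (.leaf 2601))) (.node (.node (.leaf 693) (.leaf 1749)) (.leaf 3691)))) (.node (.node (.node (.node (.leaf 174) (.leaf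 3225)) (.node (.leaf 2896) (.leaf 3153))) (.node (.node (.leaf 597) (.leaf 1706)) (.node (.leaf 2003) (.leaf 3500)))) (.node (.node (.node (.leaf 388) (.leaf 2904)) (.node (.leaf 1132) (.leaf 3321))) (.node (.node (.leaf 3135) (.leaf 3209)) (.leaf 2687)))))) (.node (.node (.node (.node (.node (.node (.leaf 37) (.leaf 1452)) (.node (.leaf 854) (.leaf 2889))) (.node (.node (.leaf 466) (.leaf 2979)) (.node (.leaf 3450) (.leaf 2229)))) (.node (.node (.node (.leaf 2082) (.leaf 3465)) (.node (.leaf 1037) (.leaf 3799))) (.node (.node (.leaf 669) (.leaf 3070)) (.leaf 1327)))) (.node (.node (.node (.node (.leaf 147) (.leaf 1511)) (.node (.leaf 946) (.leaf 3093))) (.node (.node (.leaf 571) (.leaf 3739)) (.node (.leaf 3149) (.leaf 2057)))) (.node (.node (.node (.leaf 362) (.leaf 1616)) (.node (.leaf 2146) (.leaf 3049))) (.node (.node (.leaf 763) (.leaf 1775)) (.leaf 1394))))) (.node (.node (.node (.node (.node (.leaf 94) (.leaf 1481)) (.node (.leaf 902) (.leaf 1818))) (.node (.node (.leaf 2020) (.leaf 1686)) (.node (.leaf 1223) (.leaf 3504))))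 (.node (.node (.node (.leaf 310) (.leaf 1589)) (.node (.leaf 2527) (.leaf 1873))) (.node (.node (.leaf 2465) (.leaf 2537)) (.leaf 1362)))) (.node (.node (.node (.node (.leaf 200) (.leaf 3448)) (.node (.leaf 992) (.leaf 2839))) (.node (.node (.leaf 2472) (.leaf 2049)) (.node (.leaf 1291) (.leaf 3496)))) (.node (.node (.node (.leaf 2298) (.leaf 3482)) (.node (.leaf 3222) (.leaf 2150))) (.node (.node (.leaf 808) (.leaf 2541)) (.leaf 3157))))))) (.node (.node (.node (.node (.node (.node (.node (.leaf 22) (.leaf 3302)) (.node (.leaf 841) (.leaf 3461))) (.node (.node (.leaf 454) (.leaf 2362)) (.node (.leaf 1180) (.leaf 2387)))) (.node (.node (.node (.leaf 241) (.leaf 1557)) (.node (.leaf 1027) (.leaf 1855))) (.node (.node (.leaf 659) (.leaf 2777)) (.leaf 1317)))) (.node (.node (.node (.node (.leaf 134) (.leaf 1503)) (.node (.leaf 936) (.leaf 3217))) (.node (.node (.leaf 558) (.leaf 3566)) (.node (.leaf 2581) (.leaf 3802)))) (.node (.node (.node (.leaf 347) (.leaf 3024)) (.node (.leaf 2914) (.leaf 3048))) (.node (.node (.leaf 3422) (.leaf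 2956)) (.leaf 1386))))) (.node (.node (.node (.node (.node (.leaf 80) (.leaf 2313)) (.node (.leaf 3410) (.leaf 2230))) (.node (.node (.leaf 505) (.leaf 2215)) (.node (.leaf 1213) (.leaf 1904)))) (.node (.node (.node (.leaf 294) (.leaf 1583)) (.node (.leaf 3182) (.leaf 3376))) (.node (.node (.leaf 707) (.leaf 3099)) (.leaf 2415)))) (.node (.node (.node (.node (.leaf 186) (.leaf 1529)) (.node (.leaf 981) (.leaf 1839))) (.node (.node (.leaf 608) (.leaf 2119)) (.node (.leaf 2514) (.leaf 3695)))) (.node (.node (.node (.leaf 401) (.leaf 3205)) (.node (.leaf 1144) (.leaf 2312))) (.node (.node (.leaf 2688) (.leaf 3637)) (.leaf 1416)))))) (.node (.node (.node (.node (.node (.node (.leaf 52) (.leaf 2996)) (.node (.leaf 2431) (.leaf 2993))) (.node (.node (.leaf 478) (.leaf 3579)) (.node (.leaf 3352) (.leaf 3221)))) (.node (.node (.node (.leaf 268) (.leaf 3526)) (.node (.leaf 1046) (.leaf 3154))) (.node (.node (.leaf 681) (.leaf 2078)) (.leaf 1336)))) (.node (.node (.node (.node (.leaf 161) (.leaf 1516)) (.node (.leaf 959) (.leaf 3110))) (.node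 (.node (.leaf 584) (.leaf 2122)) (.node (.leaf 2715) (.leaf 3339)))) (.node (.node (.node (.leaf 375) (.leaf 2868)) (.node (.leaf 2008) (.leaf 3324))) (.node (.node (.leaf 776) (.leaf 2154)) (.leaf 1398))))) (.node (.node (.node (.node (.node (.leaf 106) (.leaf 1491)) (.node (.leaf 914) (.leaf 2032))) (.node (.node (.leaf 530) (.leaf 2657)) (.node (.leaf 3772) (.leaf 3267)))) (.node (.node (.node (.leaf 2332) (.leaf 2822)) (.node (.leaf 2480) (.leaf 2763))) (.node (.node (.leaf 730) (.leaf 3288)) (.leaf 2733)))) (.node (.node (.node (.node (.leaf 2460) (.leaf 2915)) (.node (.leaf 1005) (.leaf 3757))) (.node (.node (.leaf 634) (.leaf 1726)) (.node (.leaf 1299) (.leaf 3173)))) (.node (.node (.node (.leaf 429) (.leaf 1641)) (.node (.leaf 1162) (.leaf 1892))) (.node (.node (.leaf 820) (.leaf 2836)) (.leaf 1427)))))))) (.node (.node (.node (.node (.node (.node (.node (.node (.leaf 14) (.leaf 1442)) (.node (.leaf 835) (.leaf 3732))) (.node (.node (.leaf 448) (.leaf 2934)) (.node (.leaf 3489) (.leaf 1896)))) (.node (.node (.node (.leaf 234)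 (.leaf 3080)) (.node (.leaf 1022) (.leaf 1972))) (.node (.node (.leaf 2893) (.leaf 3203)) (.node (.leaf 1309) (.leaf 3056))))) (.node (.node (.node (.node (.leaf 128) (.leaf 3163)) (.node (.leaf 930) (.leaf 2740))) (.node (.node (.leaf 2019) (.leaf 2778)) (.node (.leaf 2358) (.leaf 2690)))) (.node (.node (.node (.leaf 2199) (.leaf 2039)) (.node (.leaf 1095) (.leaf 3707))) (.node (.node (.leaf 748) (.leaf 1980)) (.leaf 1382))))) (.node (.node (.node (.node (.node (.leaf 73) (.leaf 1472)) (.node (.leaf 883) (.leaf 2867))) (.node (.node (.leaf 498) (.leaf 1674)) (.node (.leaf 2252) (.leaf 3810)))) (.node (.node (.node (.leaf 2417) (.leaf 3521)) (.node (.leaf 3834) (.leaf 3349))) (.node (.node (.leaf 2479) (.leaf 3479)) (.leaf 3509)))) (.node (.node (.node (.node (.leaf 2274) (.leaf 1524)) (.node (.leaf 975) (.leaf 3478))) (.node (.node (.leaf 3409) (.leaf 2795)) (.node (.leaf 1276) (.leaf 3560)))) (.node (.node (.node (.leaf 395) (.leaf 2592)) (.node (.leaf 2380) (.leaf 1885))) (.node (.node (.leaf 791) (.leaf 3598)) (.leaf 3278))))))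 (.node (.node (.node (.node (.node (.node (.leaf 44) (.leaf 2307)) (.node (.leaf 2315) (.leaf 2879))) (.node (.node (.leaf 472) (.leaf 2104)) (.node (.leaf 1191) (.leaf 3332)))) (.node (.node (.node (.leaf 261) (.leaf 1566)) (.node (.leaf 2536) (.leaf 3669))) (.node (.node (.leaf 675) (.leaf 2804)) (.leaf 1331)))) (.node (.node (.node (.node (.leaf 154) (.leaf 2155)) (.node (.leaf 953) (.leaf 2871))) (.node (.node (.leaf 578) (.leaf 2756)) (.node (.leaf 1263) (.leaf 2494)))) (.node (.node (.node (.leaf 369) (.leaf 3200)) (.node (.leaf 3763) (.leaf 3684))) (.node (.node (.leaf 770) (.leaf 3577)) (.leaf 1396))))) (.node (.node (.node (.node (.node (.leaf 99) (.leaf 1486)) (.node (.leaf 910) (.leaf 3018))) (.node (.node (.leaf 524) (.leaf 2453)) (.node (.leaf 1228) (.leaf 3746)))) (.node (.node (.node (.leaf 317) (.leaf 1592)) (.node (.leaf 1077) (.leaf 3119))) (.node (.node (.leaf 723) (.leaf 1763)) (.leaf 1367)))) (.node (.node (.node (.node (.leaf 206) (.leaf 1540)) (.node (.leaf 999) (.leaf 1845))) (.node (.node (.leaf 626) (.leaf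 1984)) (.node (.leaf 3301) (.leaf 2872)))) (.node (.node (.node (.leaf 421) (.leaf 2838)) (.node (.leaf 2007) (.leaf 2489))) (.node (.node (.leaf 3711) (.leaf 2943)) (.leaf 2627))))))) (.node (.node (.node (.node (.node (.node (.node (.leaf 2028) (.leaf 2045)) (.node (.leaf 848) (.leaf 1798))) (.node (.node (.leaf 460) (.leaf 2337)) (.node (.leaf 2518) (.leaf 3610)))) (.node (.node (.node (.leaf 247) (.leaf 3262)) (.node (.leaf 2644) (.leaf 3285))) (.node (.node (.leaf 664) (.leaf 3661)) (.leaf 1322)))) (.node (.node (.node (.node (.leaf 2466) (.leaf 3320)) (.node (.leaf 3451) (.leaf 1830))) (.node (.node (.leaf 564) (.leaf 3104)) (.node (.leaf 2728) (.leaf 2121)))) (.node (.node (.node (.leaf 354) (.leaf 1613)) (.node (.leaf 2898) (.leaf 2129))) (.node (.node (.leaf 2253) (.leaf 3516)) (.leaf 2048))))) (.node (.node (.node (.node (.node (.leaf 86) (.leaf 1477)) (.node (.leaf 896) (.leaf 3185))) (.node (.node (.leaf 511) (.leaf 3804)) (.node (.leaf 1217) (.leaf 1905)))) (.node (.node (.node (.leaf 302) (.leaf 1587)) (.node (.leaf 2369)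 (.leaf 2785))) (.node (.node (.leaf 3158) (.leaf 3486)) (.leaf 3101)))) (.node (.node (.node (.node (.leaf 193) (.leaf 2042)) (.node (.leaf 986) (.leaf 3067))) (.node (.node (.leaf 612) (.leaf 1717)) (.node (.leaf 1285) (.leaf 3609)))) (.node (.node (.node (.leaf 407) (.leaf 2870)) (.node (.leaf 2273) (.leaf 2504))) (.node (.node (.leaf 801) (.leaf 3156)) (.leaf 2987)))))) (.node (.node (.node (.node (.node (.node (.leaf 59) (.leaf 1465)) (.node (.leaf 872) (.leaf 3572))) (.node (.node (.leaf 2426) (.leaf 1667)) (.node (.leaf 1199) (.leaf 3544)))) (.node (.node (.node (.leaf 275) (.leaf 2860)) (.node (.leaf 1052) (.leaf 3029))) (.node (.node (.leaf 688) (.leaf 1745)) (.leaf 1341)))) (.node (.node (.node (.node (.leaf 168) (.leaf 2782)) (.node (.leaf 2478) (.leaf 2997))) (.node (.node (.leaf 2216) (.leaf 3535)) (.node (.leaf 1268) (.leaf 2314)))) (.node (.node (.node (.leaf 2107) (.leaf 1626)) (.node (.leaf 1126) (.leaf 2522))) (.node (.node (.leaf 3193) (.leaf 3183)) (.leaf 1403))))) (.node (.node (.node (.node (.node (.leaf 114) (.leaf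 1494)) (.node (.leaf 2012) (.leaf 3534))) (.node (.node (.leaf 537) (.leaf 1691)) (.node (.leaf 1236) (.leaf 2214)))) (.node (.node (.node (.leaf 328) (.leaf 2237)) (.node (.leaf 1084) (.leaf 2766))) (.node (.node (.leaf 2015) (.leaf 2927)) (.leaf 1374)))) (.node (.node (.node (.node (.leaf 219) (.leaf 2563)) (.node (.leaf 1011) (.leaf 3694))) (.node (.node (.leaf 641) (.leaf 1730)) (.node (.leaf 3594) (.leaf 3337)))) (.node (.node (.node (.leaf 436) (.leaf 1645)) (.node (.leaf 3253) (.leaf 3333))) (.node (.node (.leaf 824) (.leaf 3208)) (.leaf 2935)))))))))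

def twoRank7 : Janko.Tree (ℕ) :=
  (.node (.node (.node (.node (.node (.node (.node (.node (.node (.leaf 7) (.leaf 1437)) (.node (.leaf 829) (.leaf 3462))) (.node (.node (.leaf 2081) (.leaf 2102)) (.node (.leaf 1173) (.leaf 2525)))) (.node (.node (.node (.leaf 227) (.leaf 3276)) (.node (.leaf 2191) (.leaf 2408))) (.node (.node (.leaf 646) (.leaf 3413)) (.node (.leaf 2585) (.leaf 2083))))) (.node (.node (.node (.node (.leaf 122) (.leaf 2149)) (.node (.leaf 926) (.leaf 3367))) (.node (.node (.leaf 546) (.leaf 2447)) (.node (.leaf 1243) (.leaf 3171)))) (.node (.node (.node (.leaf 335) (.leaf 3381)) (.node (.leaf 1090) (.leaf 3034))) (.node (.node (.leaf 743) (.leaf 2310)) (.leaf 1378))))) (.node (.node (.node (.node (.node (.leaf 67) (.leaf 1467)) (.node (.leaf 2098) (.leaf 1808))) (.node (.node (.leaf 493) (.leaf 1673)) (.node (.leaf 1204) (.leaf 3712)))) (.node (.node (.node (.leaf 282) (.leaf 3228)) (.node (.leaf 2517) (.leaf 2142))) (.node (.node (.leaf 694) (.leaf 3113)) (.leaf 1347)))) (.node (.node (.node (.node (.leaf 175) (.leaf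 3536)) (.node (.leaf 969) (.leaf 1922))) (.node (.node (.leaf 598) (.leaf 3054)) (.node (.leaf 1272) (.leaf 3195)))) (.node (.node (.node (.leaf 389) (.leaf 2901)) (.node (.leaf 1133) (.leaf 3725))) (.node (.node (.leaf 787) (.leaf 3213)) (.leaf 2198)))))) (.node (.node (.node (.node (.node (.node (.leaf 38) (.leaf 3046)) (.node (.leaf 2713) (.leaf 2263))) (.node (.node (.leaf 467) (.leaf 2105)) (.node (.leaf 3452) (.leaf 3277)))) (.node (.node (.node (.leaf 255) (.leaf 3467)) (.node (.leaf 1038) (.leaf 1856))) (.node (.node (.leaf 2174) (.leaf 2195)) (.leaf 1328)))) (.node (.node (.node (.node (.leaf 148) (.leaf 3580)) (.node (.leaf 2205) (.leaf 3760))) (.node (.node (.leaf 572) (.leaf 3383)) (.node (.leaf 2589) (.leaf 3619)))) (.node (.node (.node (.leaf 363) (.leaf 3507)) (.node (.leaf 3063) (.leaf 3348))) (.node (.node (.leaf 764) (.leaf 3050)) (.leaf 3304))))) (.node (.node (.node (.node (.node (.leaf 95) (.leaf 1482)) (.node (.leaf 903) (.leaf 1924))) (.node (.node (.leaf 518) (.leaf 3442)) (.node (.leaf 2936) (.leaf 1907))))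 (.node (.node (.node (.leaf 311) (.leaf 1590)) (.node (.leaf 1071) (.leaf 3419))) (.node (.node (.leaf 718) (.leaf 2309)) (.leaf 3555)))) (.node (.node (.node (.node (.leaf 201) (.leaf 1933)) (.node (.leaf 993) (.leaf 2595))) (.node (.node (.leaf 620) (.leaf 1719)) (.node (.leaf 2348) (.leaf 3741)))) (.node (.node (.node (.leaf 415) (.leaf 3263)) (.node (.leaf 3227) (.leaf 3569))) (.node (.node (.leaf 809) (.leaf 2929)) (.leaf 2159))))))) (.node (.node (.node (.node (.node (.node (.node (.leaf 23) (.leaf 2063)) (.node (.leaf 842) (.leaf 3459))) (.node (.node (.leaf 455) (.leaf 1654)) (.node (.leaf 1181) (.leaf 3809)))) (.node (.node (.node (.leaf 2285) (.leaf 1558)) (.node (.leaf 1028) (.leaf 3636))) (.node (.node (.leaf 1952) (.leaf 1736)) (.leaf 1318)))) (.node (.node (.node (.node (.leaf 135) (.leaf 3582)) (.node (.leaf 2672) (.leaf 1827))) (.node (.node (.leaf 559) (.leaf 3168)) (.node (.leaf 2361) (.leaf 3790)))) (.node (.node (.node (.leaf 348) (.leaf 1607)) (.node (.leaf 1102) (.leaf 2724))) (.node (.node (.leaf 753) (.leaf 1772))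 (.leaf 2973))))) (.node (.node (.node (.node (.node (.leaf 81) (.leaf 1474)) (.node (.leaf 890) (.leaf 2550))) (.node (.node (.leaf 506) (.leaf 1677)) (.node (.leaf 2582) (.leaf 3386)))) (.node (.node (.node (.leaf 295) (.leaf 3470)) (.node (.leaf 2370) (.leaf 3374))) (.node (.node (.leaf 2152) (.leaf 2513)) (.leaf 2607)))) (.node (.node (.node (.node (.leaf 187) (.leaf 1530)) (.node (.leaf 982) (.leaf 3237))) (.node (.node (.leaf 609) (.leaf 2975)) (.node (.leaf 2703) (.leaf 3697)))) (.node (.node (.node (.leaf 402) (.leaf 2606)) (.node (.leaf 2340) (.leaf 3206))) (.node (.node (.leaf 797) (.leaf 3254)) (.leaf 2164)))))) (.node (.node (.node (.node (.node (.node (.leaf 53) (.leaf 2866)) (.node (.leaf 865) (.leaf 2995))) (.node (.node (.leaf 479) (.leaf 3326)) (.node (.leaf 1197) (.leaf 3219)))) (.node (.node (.node (.leaf 269) (.leaf 1569)) (.node (.leaf 2534) (.leaf 3503))) (.node (.node (.leaf 682) (.leaf 2820)) (.leaf 1337)))) (.node (.node (.node (.node (.leaf 162) (.leaf 1517)) (.node (.leaf 960) (.leaf 3108))) (.node (.node (.leaf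 585) (.leaf 2921)) (.node (.leaf 1266) (.leaf 3125)))) (.node (.node (.node (.leaf 376) (.leaf 1622)) (.node (.leaf 1120) (.leaf 2813))) (.node (.node (.leaf 3753) (.leaf 3823)) (.leaf 1399))))) (.node (.node (.node (.node (.node (.leaf 107) (.leaf 2483)) (.node (.leaf 2450) (.leaf 2573))) (.node (.node (.leaf 2327) (.leaf 2718)) (.node (.leaf 1231) (.leaf 3294)))) (.node (.node (.node (.leaf 323) (.leaf 2493)) (.node (.leaf 1082) (.leaf 2495))) (.node (.node (.leaf 731) (.leaf 1766)) (.leaf 1370)))) (.node (.node (.node (.node (.leaf 214) (.leaf 2660)) (.node (.leaf 1006) (.leaf 2099))) (.node (.node (.leaf 635) (.leaf 2770)) (.node (.leaf 3013) (.leaf 3170)))) (.node (.node (.node (.leaf 430) (.leaf 1642)) (.node (.leaf 1163) (.leaf 2136))) (.node (.node (.leaf 2240) (.leaf 2530)) (.leaf 1428)))))))) (.node (.node (.node (.node (.node (.node (.node (.node (.leaf 15) (.leaf 2849)) (.node (.leaf 2317) (.leaf 3528))) (.node (.node (.leaf 449) (.leaf 2334)) (.node (.leaf 1177) (.leaf 3169)))) (.node (.node (.node (.leaf 235) (.leaf 1552))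 (.node (.leaf 1023) (.leaf 3553))) (.node (.node (.leaf 653) (.leaf 3201)) (.node (.leaf 1310) (.leaf 2031))))) (.node (.node (.node (.node (.leaf 1962) (.leaf 1501)) (.node (.leaf 931) (.leaf 1825))) (.node (.node (.leaf 552) (.leaf 2776)) (.node (.leaf 3830) (.leaf 3745)))) (.node (.node (.node (.leaf 342) (.leaf 3314)) (.node (.leaf 1096) (.leaf 3705))) (.node (.node (.leaf 2652) (.leaf 2827)) (.leaf 1383))))) (.node (.node (.node (.node (.node (.leaf 74) (.leaf 2311)) (.node (.leaf 884) (.leaf 1811))) (.node (.node (.leaf 499) (.leaf 1675)) (.node (.leaf 1207) (.leaf 3774)))) (.node (.node (.node (.leaf 289) (.leaf 2884)) (.node (.leaf 3837) (.leaf 2959))) (.node (.node (.leaf 700) (.leaf 3481)) (.leaf 1353)))) (.node (.node (.node (.node (.leaf 182) (.leaf 1525)) (.node (.leaf 2668) (.leaf 1837))) (.node (.node (.leaf 2794) (.leaf 2928)) (.node (.leaf 1277) (.leaf 3357)))) (.node (.node (.node (.leaf 3405) (.leaf 2844)) (.node (.leaf 1138) (.leaf 3286))) (.node (.node (.leaf 1951) (.leaf 3604)) (.leaf 1410)))))) (.node (.node (.node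 (.node (.node (.node (.leaf 45) (.leaf 1458)) (.node (.leaf 860) (.leaf 2882))) (.node (.node (.leaf 473) (.leaf 1662)) (.node (.leaf 1192) (.leaf 3128)))) (.node (.node (.node (.leaf 262) (.leaf 3568)) (.node (.leaf 1043) (.leaf 3664))) (.node (.node (.leaf 2289) (.leaf 2110)) (.leaf 3190)))) (.node (.node (.node (.node (.leaf 155) (.leaf 3251)) (.node (.leaf 954) (.leaf 2874))) (.node (.node (.leaf 2203) (.leaf 1703)) (.node (.leaf 2717) (.leaf 3506)))) (.node (.node (.node (.leaf 2464) (.leaf 1619)) (.node (.leaf 2809) (.leaf 2552))) (.node (.node (.leaf 2567) (.leaf 3351)) (.leaf 2488))))) (.node (.node (.node (.node (.node (.leaf 100) (.leaf 3520)) (.node (.leaf 2503) (.leaf 1819))) (.node (.node (.leaf 525) (.leaf 3143)) (.node (.leaf 2296) (.leaf 3696)))) (.node (.node (.node (.leaf 1958) (.leaf 1931)) (.node (.leaf 2291) (.leaf 3116))) (.node (.node (.leaf 724) (.leaf 2186)) (.leaf 2113)))) (.node (.node (.node (.node (.leaf 207) (.leaf 1541)) (.node (.leaf 1000) (.leaf 2364))) (.node (.node (.leaf 627) (.leaf 1722)) (.node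 (.leaf 2270) (.leaf 3244)))) (.node (.node (.node (.leaf 422) (.leaf 2834)) (.node (.leaf 2714) (.leaf 3220))) (.node (.node (.leaf 815) (.leaf 2664)) (.leaf 1423))))))) (.node (.node (.node (.node (.node (.node (.node (.leaf 30) (.leaf 1448)) (.node (.leaf 2349) (.leaf 3563))) (.node (.node (.leaf 461) (.leaf 2535)) (.node (.leaf 3060) (.leaf 3570)))) (.node (.node (.node (.leaf 248) (.leaf 2641)) (.node (.leaf 1033) (.leaf 2814))) (.node (.node (.leaf 2520) (.leaf 3068)) (.leaf 1323)))) (.node (.node (.node (.node (.leaf 141) (.leaf 1508)) (.node (.leaf 942) (.leaf 3455))) (.node (.node (.leaf 565) (.leaf 2141)) (.node (.leaf 1254) (.leaf 2857)))) (.node (.node (.node (.leaf 355) (.leaf 3005)) (.node (.leaf 2148) (.leaf 3122))) (.node (.node (.leaf 2972) (.leaf 3518)) (.leaf 1391))))) (.node (.node (.node (.node (.node (.leaf 87) (.leaf 2754)) (.node (.leaf 897) (.leaf 1925))) (.node (.node (.leaf 512) (.leaf 1681)) (.node (.leaf 1218) (.leaf 1906)))) (.node (.node (.node (.leaf 303) (.leaf 2863)) (.node (.leaf 2759) (.leaf 2787)))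 (.node (.node (.leaf 712) (.leaf 1757)) (.leaf 1360)))) (.node (.node (.node (.node (.leaf 194) (.leaf 2521)) (.node (.leaf 2758) (.leaf 3666))) (.node (.node (.leaf 613) (.leaf 2050)) (.node (.leaf 2730) (.leaf 3607)))) (.node (.node (.node (.leaf 408) (.leaf 2704)) (.node (.leaf 1148) (.leaf 3781))) (.node (.node (.leaf 802) (.leaf 2137)) (.leaf 1422)))))) (.node (.node (.node (.node (.node (.node (.leaf 2097) (.leaf 3202)) (.node (.leaf 2171) (.leaf 1806))) (.node (.node (.leaf 486) (.leaf 1668)) (.node (.leaf 2635) (.leaf 3842)))) (.node (.node (.node (.leaf 276) (.leaf 1574)) (.node (.leaf 2615) (.leaf 1863))) (.node (.node (.leaf 689) (.leaf 1746)) (.leaf 1342)))) (.node (.node (.node (.node (.leaf 169) (.leaf 1519)) (.node (.leaf 964) (.leaf 2739))) (.node (.node (.leaf 591) (.leaf 3537)) (.node (.leaf 2316) (.leaf 2543)))) (.node (.node (.node (.leaf 382) (.leaf 3828)) (.node (.leaf 1127) (.leaf 3266))) (.node (.node (.leaf 782) (.leaf 3517)) (.leaf 1404))))) (.node (.node (.node (.node (.node (.leaf 115) (.leaf 3353)) (.node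 (.leaf 2831) (.leaf 3238))) (.node (.node (.leaf 538) (.leaf 2201)) (.node (.leaf 1237) (.leaf 2510)))) (.node (.node (.node (.leaf 329) (.leaf 1595)) (.node (.leaf 3041) (.leaf 2768))) (.node (.node (.leaf 737) (.leaf 3298)) (.leaf 2731)))) (.node (.node (.node (.node (.leaf 220) (.leaf 2655)) (.node (.leaf 2162) (.leaf 2106))) (.node (.node (.leaf 1953) (.leaf 2446)) (.node (.leaf 1304) (.leaf 3346)))) (.node (.node (.node (.leaf 437) (.leaf 2169)) (.node (.leaf 1167) (.leaf 3212))) (.node (.node (.leaf 2280) (.leaf 1791)) (.leaf 1433)))))))))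

def twoRank : Janko.Tree (ℕ) := (.node (.node (.node twoRank0 twoRank4) (.node twoRank2 twoRank6)) (.node (.node twoRank1 twoRank5) (.node twoRank3 twoRank7)))

def twoVia0 : Janko.Tree (ℕ × ℕ) :=
  (.node (.node (.node (.node (.node (.node (.node (.node (.node (.leaf (0, 0)) (.leaf (13, 1694))) (.node (.leaf (0, 512)) (.leaf (13, 1774)))) (.node (.node (.leaf (0, 0)) (.leaf (0, 0))) (.node (.leaf (0, 1544)) (.leaf (13, 1792))))) (.node (.node (.node (.leaf (0, 0)) (.leaf (12, 1068))) (.node (.leaf (15, 640)) (.leaf (0, 0)))) (.node (.node (.leaf (15, 384)) (.leaf (15, 1408))) (.node (.leaf (14, 1654)) (.leaf (0, 0)))))) (.node (.node (.node (.node (.leaf (11, 257)) (.leaf (15, 1088))) (.node (.leaf (0, 0)) (.leaf (12, 1215)))) (.node (.node (.leaf (0, 0)) (.leaf (15, 1344))) (.node (.leaf (11, 1459)) (.leaf (0, 0))))) (.node (.node (.node (.leaf (0, 0)) (.leaf (0, 0))) (.node (.leaf (0, 0)) (.leaf (11, 1794)))) (.node (.node (.leaf (0, 0)) (.leaf (15, 1472))) (.leaf (0, 0)))))) (.node (.node (.node (.node (.node (.leaf (0, 0)) (.leaf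 (10, 545))) (.node (.leaf (5, 106)) (.leaf (15, 1568)))) (.node (.node (.leaf (0, 0)) (.leaf (13, 1766))) (.node (.leaf (0, 0)) (.leaf (12, 1226))))) (.node (.node (.node (.leaf (0, 0)) (.leaf (0, 0))) (.node (.leaf (12, 167)) (.leaf (0, 0)))) (.node (.node (.leaf (0, 0)) (.leaf (12, 1746))) (.leaf (0, 0))))) (.node (.node (.node (.node (.leaf (0, 0)) (.leaf (12, 1194))) (.node (.leaf (0, 0)) (.leaf (10, 101)))) (.node (.node (.leaf (0, 0)) (.leaf (12, 603))) (.node (.leaf (5, 319)) (.leaf (15, 1888))))) (.node (.node (.node (.leaf (0, 0)) (.leaf (13, 1448))) (.node (.leaf (9, 153)) (.leaf (15, 1760)))) (.node (.node (.leaf (8, 480)) (.leaf (12, 1099))) (.leaf (0, 0))))))) (.node (.node (.node (.node (.node (.node (.leaf (0, 0)) (.leaf (0, 0))) (.node (.leaf (0, 0)) (.leaf (0, 0)))) (.node (.node (.leaf (13, 701)) (.leaf (14, 1499))) (.node (.leaf (0, 0)) (.leaf (14, 1723))))) (.node (.node (.node (.leaf (0, 0)) (.leaf (15, 1168))) (.node (.leaf (6, 393)) (.leaf (14, 1568)))) (.node (.node (.leaf (15, 400)) (.leaf (0, 0))) (.leaf (0,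 0))))) (.node (.node (.node (.node (.leaf (0, 0)) (.leaf (0, 0))) (.node (.leaf (0, 0)) (.leaf (0, 0)))) (.node (.node (.leaf (0, 0)) (.leaf (12, 1254))) (.node (.leaf (12, 1563)) (.leaf (11, 1833))))) (.node (.node (.node (.leaf (0, 0)) (.leaf (14, 1766))) (.node (.leaf (0, 0)) (.leaf (15, 1744)))) (.node (.node (.leaf (0, 0)) (.leaf (12, 697))) (.leaf (0, 0)))))) (.node (.node (.node (.node (.node (.leaf (0, 0)) (.leaf (10, 399))) (.node (.leaf (10, 500)) (.leaf (0, 0)))) (.node (.node (.leaf (0, 0)) (.leaf (0, 0))) (.node (.leaf (0, 0)) (.leaf (15, 1882))))) (.node (.node (.node (.leaf (0, 0)) (.leaf (0, 1200))) (.node (.leaf (0, 0)) (.leaf (15, 1712)))) (.node (.node (.leaf (0, 0)) (.leaf (12, 692))) (.leaf (12, 151))))) (.node (.node (.node (.node (.leaf (0, 0)) (.leaf (5, 1586))) (.node (.leaf (0, 0)) (.leaf (0, 1648)))) (.node (.node (.leaf (0, 0)) (.leaf (0, 0))) (.node (.leaf (7, 1262)) (.leaf (15, 1904))))) (.node (.node (.node (.leaf (0, 0)) (.leaf (0, 0))) (.node (.leaf (0, 0)) (.leaf (0, 1776)))) (.node (.node (.leaf (0,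 0)) (.leaf (6, 226))) (.leaf (12, 972)))))))) (.node (.node (.node (.node (.node (.node (.node (.leaf (0, 0)) (.leaf (4, 1032))) (.node (.leaf (14, 1738)) (.leaf (15, 1544)))) (.node (.node (.leaf (12, 262)) (.leaf (0, 1288))) (.node (.leaf (15, 1173)) (.leaf (13, 1800))))) (.node (.node (.node (.leaf (11, 402)) (.leaf (0, 0))) (.node (.leaf (0, 0)) (.leaf (0, 0)))) (.node (.node (.leaf (0, 0)) (.leaf (0, 0))) (.leaf (0, 0))))) (.node (.node (.node (.node (.leaf (0, 72)) (.leaf (12, 1346))) (.node (.leaf (0, 0)) (.leaf (13, 1608)))) (.node (.node (.leaf (0, 0)) (.leaf (0, 1352))) (.node (.leaf (5, 1251)) (.leaf (14, 1905))))) (.node (.node (.node (.leaf (0, 0)) (.leaf (0, 0))) (.node (.leaf (0, 0)) (.leaf (12, 1416)))) (.node (.node (.leaf (0, 0)) (.leaf (10, 796))) (.leaf (0, 0)))))) (.node (.node (.node (.node (.node (.leaf (0, 0)) (.leaf (0, 0))) (.node (.leaf (0, 0)) (.leaf (0, 0)))) (.node (.node (.leaf (0, 0)) (.leaf (12, 1318))) (.node (.leaf (0, 0)) (.leaf (14, 1795))))) (.node (.node (.node (.leaf (0, 0)) (.leaf (0, 0))) (.node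 (.leaf (10, 20)) (.leaf (15, 1704)))) (.node (.node (.leaf (0, 0)) (.leaf (12, 1448))) (.leaf (0, 0))))) (.node (.node (.node (.node (.leaf (11, 162)) (.leaf (12, 1128))) (.node (.leaf (0, 0)) (.leaf (0, 0)))) (.node (.node (.leaf (0, 0)) (.leaf (12, 1418))) (.node (.leaf (3, 872)) (.leaf (15, 1896))))) (.node (.node (.node (.leaf (0, 0)) (.leaf (15, 1256))) (.node (.leaf (0, 0)) (.leaf (12, 493)))) (.node (.node (.leaf (0, 488)) (.leaf (0, 0))) (.leaf (0, 0))))))) (.node (.node (.node (.node (.node (.node (.leaf (0, 0)) (.leaf (12, 957))) (.node (.leaf (0, 0)) (.leaf (5, 1010)))) (.node (.node (.leaf (0, 0)) (.leaf (0, 0))) (.node (.leaf (0, 0)) (.leaf (0, 0))))) (.node (.node (.node (.leaf (0, 0)) (.leaf (14, 1681))) (.node (.leaf (11, 4)) (.leaf (5, 1335)))) (.node (.node (.leaf (0, 0)) (.leaf (15, 1608))) (.leaf (0, 0))))) (.node (.node (.node (.node (.leaf (0, 0)) (.leaf (0, 0))) (.node (.leaf (12, 1404)) (.leaf (15, 1624)))) (.node (.node (.leaf (0, 0)) (.leaf (5, 951))) (.node (.leaf (0, 0)) (.leaf (4, 377))))) (.node (.node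 (.node (.leaf (0, 0)) (.leaf (0, 0))) (.node (.leaf (0, 0)) (.leaf (15, 1752)))) (.node (.node (.leaf (0, 0)) (.leaf (0, 0))) (.leaf (12, 982)))))) (.node (.node (.node (.node (.node (.leaf (0, 0)) (.leaf (0, 0))) (.node (.leaf (8, 340)) (.leaf (10, 184)))) (.node (.node (.leaf (11, 845)) (.leaf (14, 1764))) (.node (.leaf (12, 421)) (.leaf (12, 1848))))) (.node (.node (.node (.leaf (0, 0)) (.leaf (13, 1208))) (.node (.leaf (14, 1027)) (.leaf (13, 1875)))) (.node (.node (.leaf (0, 0)) (.leaf (0, 1464))) (.leaf (0, 952))))) (.node (.node (.node (.node (.leaf (0, 0)) (.leaf (0, 0))) (.node (.leaf (0, 0)) (.leaf (14, 1876)))) (.node (.node (.leaf (0, 0)) (.leaf (12, 751))) (.node (.leaf (0, 0)) (.leaf (15, 1912))))) (.node (.node (.node (.leaf (0, 0)) (.leaf (12, 1592))) (.node (.leaf (0, 0)) (.leaf (0, 1784)))) (.node (.node (.leaf (0, 0)) (.leaf (0, 1528))) (.leaf (0, 0))))))))) (.node (.node (.node (.node (.node (.node (.node (.node (.leaf (0, 0)) (.leaf (0, 0))) (.node (.leaf (0, 0)) (.leaf (13, 1540)))) (.node (.node (.leaf (0, 0))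 (.leaf (5, 1525))) (.node (.leaf (0, 0)) (.leaf (12, 1548))))) (.node (.node (.node (.leaf (0, 0)) (.leaf (8, 1168))) (.node (.leaf (0, 0)) (.leaf (9, 1532)))) (.node (.node (.leaf (0, 0)) (.leaf (15, 1412))) (.node (.leaf (11, 590)) (.leaf (8, 1395)))))) (.node (.node (.node (.node (.leaf (0, 0)) (.leaf (0, 0))) (.node (.leaf (5, 218)) (.leaf (5, 1604)))) (.node (.node (.leaf (0, 0)) (.leaf (14, 1495))) (.node (.leaf (0, 0)) (.leaf (5, 1860))))) (.node (.node (.node (.leaf (0, 0)) (.leaf (0, 0))) (.node (.leaf (0, 0)) (.leaf (15, 1732)))) (.node (.node (.leaf (0, 0)) (.leaf (15, 1476))) (.leaf (3, 1712)))))) (.node (.node (.node (.node (.node (.leaf (0, 0)) (.leaf (0, 0))) (.node (.leaf (0, 0)) (.leaf (12, 25)))) (.node (.node (.leaf (0, 0)) (.leaf (12, 565))) (.node (.leaf (0, 0)) (.leaf (15, 1848))))) (.node (.node (.node (.leaf (0, 0)) (.leaf (0, 0))) (.node (.leaf (0, 0)) (.leaf (0, 0)))) (.node (.node (.leaf (0, 0)) (.leaf (0, 0))) (.leaf (15, 932))))) (.node (.node (.node (.node (.leaf (0, 0)) (.leaf (0, 0))) (.node (.leaf (0,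 0)) (.leaf (0, 1636)))) (.node (.node (.leaf (0, 0)) (.leaf (0, 0))) (.node (.leaf (0, 0)) (.leaf (15, 1892))))) (.node (.node (.node (.leaf (0, 0)) (.leaf (0, 0))) (.node (.leaf (10, 134)) (.leaf (12, 1678)))) (.node (.node (.leaf (12, 717)) (.leaf (12, 1508))) (.leaf (0, 996))))))) (.node (.node (.node (.node (.node (.node (.leaf (0, 0)) (.leaf (0, 0))) (.node (.leaf (0, 0)) (.leaf (0, 0)))) (.node (.node (.leaf (15, 276)) (.leaf (0, 0))) (.node (.leaf (6, 168)) (.leaf (0, 0))))) (.node (.node (.node (.leaf (0, 0)) (.leaf (0, 0))) (.node (.leaf (0, 0)) (.leaf (13, 1684)))) (.node (.node (.leaf (0, 0)) (.leaf (5, 386))) (.leaf (11, 32))))) (.node (.node (.node (.node (.leaf (0, 0)) (.leaf (0, 0))) (.node (.leaf (0, 0)) (.leaf (11, 512)))) (.node (.node (.leaf (6, 194)) (.leaf (0, 1364))) (.node (.leaf (0, 0)) (.leaf (15, 1876))))) (.node (.node (.node (.leaf (15, 212)) (.leaf (0, 0))) (.node (.leaf (0, 0)) (.leaf (13, 1877)))) (.node (.node (.leaf (0, 0)) (.leaf (14, 1799))) (.leaf (0, 0)))))) (.node (.node (.node (.node (.node (.leaf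 (11, 52)) (.leaf (0, 0))) (.node (.leaf (0, 0)) (.leaf (0, 1588)))) (.node (.node (.leaf (0, 0)) (.leaf (5, 574))) (.node (.leaf (0, 0)) (.leaf (12, 1844))))) (.node (.node (.node (.leaf (0, 0)) (.leaf (12, 1204))) (.node (.leaf (0, 0)) (.leaf (14, 1849)))) (.node (.node (.leaf (0, 0)) (.leaf (15, 1460))) (.leaf (0, 0))))) (.node (.node (.node (.node (.leaf (0, 0)) (.leaf (0, 0))) (.node (.leaf (3, 1335)) (.leaf (5, 1289)))) (.node (.node (.leaf (0, 0)) (.leaf (12, 650))) (.node (.leaf (5, 326)) (.leaf (12, 1908))))) (.node (.node (.node (.leaf (0, 0)) (.leaf (0, 0))) (.node (.leaf (0, 0)) (.leaf (15, 1780)))) (.node (.node (.leaf (0, 0)) (.leaf (14, 1524))) (.leaf (15, 1012)))))))) (.node (.node (.node (.node (.node (.node (.node (.leaf (0, 0)) (.leaf (14, 1794))) (.node (.leaf (4, 524)) (.leaf (0, 0)))) (.node (.node (.leaf (0, 0)) (.leaf (14, 1761))) (.node (.leaf (0, 0)) (.leaf (12, 1720))))) (.node (.node (.node (.leaf (0, 0)) (.leaf (0, 0))) (.node (.leaf (11, 1674)) (.leaf (15, 1676)))) (.node (.node (.leaf (0, 396)) (.leaf (12,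 1010))) (.leaf (0, 0))))) (.node (.node (.node (.node (.leaf (0, 0)) (.leaf (0, 0))) (.node (.leaf (0, 0)) (.leaf (9, 1230)))) (.node (.node (.leaf (11, 941)) (.leaf (12, 1356))) (.node (.leaf (0, 0)) (.leaf (12, 448))))) (.node (.node (.node (.leaf (0, 0)) (.leaf (0, 0))) (.node (.leaf (0, 0)) (.leaf (12, 1419)))) (.node (.node (.leaf (15, 460)) (.leaf (0, 0))) (.leaf (0, 0)))))) (.node (.node (.node (.node (.node (.leaf (0, 0)) (.leaf (11, 680))) (.node (.leaf (0, 0)) (.leaf (15, 1580)))) (.node (.node (.leaf (7, 298)) (.leaf (3, 1324))) (.node (.leaf (13, 1803)) (.leaf (15, 1836))))) (.node (.node (.node (.leaf (0, 0)) (.leaf (14, 1516))) (.node (.leaf (0, 0)) (.leaf (12, 1380)))) (.node (.node (.leaf (0, 428)) (.leaf (15, 1452))) (.leaf (9, 589))))) (.node (.node (.node (.node (.leaf (9, 5)) (.leaf (0, 0))) (.node (.leaf (0, 0)) (.leaf (0, 0)))) (.node (.node (.leaf (12, 364)) (.leaf (0, 0))) (.node (.leaf (0, 0)) (.leaf (11, 1337))))) (.node (.node (.node (.leaf (0, 0)) (.leaf (14, 1341))) (.node (.leaf (12, 1726)) (.leaf (0, 0))))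 (.node (.node (.leaf (0, 0)) (.leaf (5, 1431))) (.leaf (5, 875))))))) (.node (.node (.node (.node (.node (.node (.leaf (0, 0)) (.leaf (0, 0))) (.node (.leaf (0, 0)) (.leaf (14, 1564)))) (.node (.node (.leaf (0, 0)) (.leaf (0, 0))) (.node (.leaf (0, 0)) (.leaf (15, 1820))))) (.node (.node (.node (.leaf (0, 0)) (.leaf (0, 0))) (.node (.leaf (0, 0)) (.leaf (0, 0)))) (.node (.node (.leaf (0, 0)) (.leaf (9, 1109))) (.leaf (12, 1127))))) (.node (.node (.node (.node (.leaf (0, 0)) (.leaf (12, 309))) (.node (.leaf (0, 0)) (.leaf (5, 1249)))) (.node (.node (.leaf (0, 0)) (.leaf (12, 395))) (.node (.leaf (12, 1208)) (.leaf (15, 1884))))) (.node (.node (.node (.leaf (0, 0)) (.leaf (15, 1434))) (.node (.leaf (0, 0)) (.leaf (15, 1756)))) (.node (.node (.leaf (0, 0)) (.leaf (5, 1063))) (.leaf (0, 0)))))) (.node (.node (.node (.node (.node (.leaf (0, 0)) (.leaf (12, 402))) (.node (.leaf (0, 0)) (.leaf (12, 353)))) (.node (.node (.leaf (0, 0)) (.leaf (0, 1340))) (.node (.leaf (0, 0)) (.leaf (5, 1340))))) (.node (.node (.node (.leaf (0, 0)) (.leaf (5,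 810))) (.node (.leaf (14, 1880)) (.leaf (15, 1724)))) (.node (.node (.leaf (0, 0)) (.leaf (14, 1741))) (.leaf (10, 358))))) (.node (.node (.node (.node (.leaf (0, 0)) (.leaf (15, 1600))) (.node (.leaf (3, 636)) (.leaf (14, 1606)))) (.node (.node (.leaf (0, 0)) (.leaf (12, 991))) (.node (.leaf (0, 0)) (.leaf (13, 1916))))) (.node (.node (.node (.leaf (0, 0)) (.leaf (15, 1276))) (.node (.leaf (0, 764)) (.leaf (15, 1898)))) (.node (.node (.leaf (0, 0)) (.leaf (5, 1403))) (.leaf (0, 0))))))))))

def twoVia1 : Janko.Tree (ℕ × ℕ) :=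
  (.node (.node (.node (.node (.node (.node (.node (.node (.node (.leaf (0, 0)) (.leaf (0, 0))) (.node (.leaf (0, 0)) (.leaf (9, 46)))) (.node (.node (.leaf (1, 256)) (.leaf (15, 1109))) (.node (.leaf (0, 0)) (.leaf (15, 1507))))) (.node (.node (.node (.leaf (0, 0)) (.leaf (10, 86))) (.node (.leaf (15, 851)) (.leaf (15, 1745)))) (.node (.node (.leaf (0, 0)) (.leaf (5, 579))) (.node (.leaf (1, 896)) (.leaf (0, 0)))))) (.node (.node (.node (.node (.leaf (0, 0)) (.leaf (15, 1332))) (.node (.leaf (0, 0)) (.leaf (15, 1485)))) (.node (.node (.leaf (0, 0)) (.leaf (15, 1062))) (.node (.leaf (0, 0)) (.leaf (15, 1805))))) (.node (.node (.node (.leaf (0, 0)) (.leaf (0, 0))) (.node (.leaf (0, 0)) (.leaf (11, 1879)))) (.node (.node (.leaf (0, 0)) (.leaf (0, 0))) (.leaf (15, 1450)))))) (.node (.node (.node (.node (.node (.leaf (0, 0)) (.leaf (12, 1237))) (.node (.leaf (0, 0)) (.leaf (9, 475)))) (.node (.node (.leaf (0, 0)) (.leaf (0, 0))) (.node (.leaf (15, 867)) (.leaf (15, 1872))))) (.node (.node (.node (.leaf (0, 0)) (.leaf (0, 0))) (.node (.leaf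 (0, 0)) (.leaf (15, 1693)))) (.node (.node (.leaf (15, 664)) (.leaf (0, 0))) (.leaf (1, 928))))) (.node (.node (.node (.node (.leaf (0, 0)) (.leaf (15, 1021))) (.node (.leaf (0, 0)) (.leaf (0, 0)))) (.node (.node (.leaf (0, 0)) (.leaf (11, 235))) (.node (.leaf (0, 0)) (.leaf (15, 1772))))) (.node (.node (.node (.leaf (0, 0)) (.leaf (13, 1220))) (.node (.leaf (0, 0)) (.leaf (1, 1760)))) (.node (.node (.leaf (0, 0)) (.leaf (0, 0))) (.leaf (1, 992))))))) (.node (.node (.node (.node (.node (.node (.leaf (0, 0)) (.leaf (0, 0))) (.node (.leaf (0, 0)) (.leaf (0, 0)))) (.node (.node (.leaf (0, 0)) (.leaf (0, 0))) (.node (.leaf (1, 784)) (.leaf (15, 1878))))) (.node (.node (.node (.leaf (0, 0)) (.leaf (15, 1156))) (.node (.leaf (0, 0)) (.leaf (14, 1911)))) (.node (.node (.leaf (0, 0)) (.leaf (8, 1013))) (.leaf (1, 912))))) (.node (.node (.node (.node (.leaf (15, 123)) (.leaf (14, 1358))) (.node (.leaf (1, 592)) (.leaf (15, 1749)))) (.node (.node (.leaf (0, 0)) (.leaf (15, 684))) (.node (.leaf (0, 0)) (.leaf (15, 1607))))) (.node (.node (.node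 (.leaf (0, 0)) (.leaf (0, 0))) (.node (.leaf (12, 1512)) (.leaf (13, 1434)))) (.node (.node (.leaf (0, 0)) (.leaf (15, 1272))) (.leaf (12, 113)))))) (.node (.node (.node (.node (.node (.leaf (0, 0)) (.leaf (15, 783))) (.node (.leaf (0, 0)) (.leaf (0, 0)))) (.node (.node (.leaf (0, 0)) (.leaf (15, 1430))) (.node (.leaf (13, 1605)) (.leaf (15, 1852))))) (.node (.node (.node (.leaf (0, 0)) (.leaf (13, 1577))) (.node (.leaf (15, 1066)) (.leaf (15, 1119)))) (.node (.node (.leaf (0, 0)) (.leaf (0, 0))) (.leaf (10, 348))))) (.node (.node (.node (.node (.leaf (0, 0)) (.leaf (12, 914))) (.node (.leaf (0, 0)) (.leaf (15, 1626)))) (.node (.node (.leaf (0, 0)) (.leaf (1, 1392))) (.node (.leaf (0, 0)) (.leaf (15, 1637))))) (.node (.node (.node (.leaf (0, 0)) (.leaf (0, 0))) (.node (.leaf (0, 0)) (.leaf (15, 1131)))) (.node (.node (.leaf (0, 0)) (.leaf (15, 730))) (.leaf (1, 1008)))))))) (.node (.node (.node (.node (.node (.node (.node (.leaf (0, 0)) (.leaf (15, 1441))) (.node (.leaf (0, 0)) (.leaf (15, 1453)))) (.node (.node (.leaf (0, 0)) (.leaf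 (0, 0))) (.node (.leaf (1, 776)) (.leaf (6, 762))))) (.node (.node (.node (.leaf (0, 0)) (.leaf (0, 0))) (.node (.leaf (0, 0)) (.leaf (12, 1670)))) (.node (.node (.leaf (15, 1032)) (.leaf (13, 1673))) (.leaf (0, 0))))) (.node (.node (.node (.node (.leaf (0, 0)) (.leaf (0, 0))) (.node (.leaf (13, 860)) (.leaf (15, 1569)))) (.node (.node (.leaf (15, 877)) (.leaf (4, 900))) (.node (.leaf (15, 800)) (.leaf (15, 1885))))) (.node (.node (.node (.leaf (0, 0)) (.leaf (15, 1792))) (.node (.leaf (0, 0)) (.leaf (15, 1775)))) (.node (.node (.leaf (0, 0)) (.leaf (15, 1761))) (.leaf (5, 358)))))) (.node (.node (.node (.node (.node (.leaf (0, 0)) (.leaf (1, 1064))) (.node (.leaf (0, 0)) (.leaf (3, 1288)))) (.node (.node (.leaf (0, 0)) (.leaf (15, 1383))) (.node (.leaf (0, 0)) (.leaf (15, 1813))))) (.node (.node (.node (.leaf (0, 0)) (.leaf (15, 1294))) (.node (.leaf (0, 0)) (.leaf (15, 1743)))) (.node (.node (.leaf (0, 0)) (.leaf (15, 1527))) (.leaf (1, 1359))))) (.node (.node (.node (.node (.leaf (0, 0)) (.leaf (0, 0))) (.node (.leaf (0, 0)) (.leaf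 (15, 1521)))) (.node (.node (.leaf (15, 754)) (.leaf (0, 0))) (.node (.leaf (0, 0)) (.leaf (1, 1896))))) (.node (.node (.node (.leaf (0, 0)) (.leaf (15, 1632))) (.node (.leaf (1, 744)) (.leaf (15, 1830)))) (.node (.node (.leaf (0, 0)) (.leaf (14, 1858))) (.leaf (0, 0))))))) (.node (.node (.node (.node (.node (.node (.leaf (0, 0)) (.leaf (10, 784))) (.node (.leaf (12, 355)) (.leaf (15, 1480)))) (.node (.node (.leaf (12, 826)) (.leaf (15, 1140))) (.node (.leaf (12, 835)) (.leaf (0, 0))))) (.node (.node (.node (.leaf (0, 0)) (.leaf (0, 0))) (.node (.leaf (15, 1047)) (.leaf (15, 1537)))) (.node (.node (.leaf (0, 0)) (.leaf (1, 1432))) (.leaf (12, 265))))) (.node (.node (.node (.node (.leaf (0, 0)) (.leaf (11, 428))) (.node (.leaf (0, 0)) (.leaf (15, 1575)))) (.node (.node (.leaf (0, 0)) (.leaf (15, 774))) (.node (.leaf (11, 740)) (.leaf (15, 1531))))) (.node (.node (.node (.leaf (0, 0)) (.leaf (9, 855))) (.node (.leaf (0, 0)) (.leaf (15, 1697)))) (.node (.node (.leaf (0, 0)) (.leaf (15, 1656))) (.leaf (13, 1674)))))) (.node (.node (.node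 (.node (.node (.leaf (0, 0)) (.leaf (0, 0))) (.node (.leaf (0, 0)) (.leaf (9, 675)))) (.node (.node (.leaf (0, 0)) (.leaf (15, 1666))) (.node (.leaf (0, 0)) (.leaf (1, 1861))))) (.node (.node (.node (.leaf (15, 805)) (.leaf (15, 759))) (.node (.leaf (0, 0)) (.leaf (5, 975)))) (.node (.node (.leaf (5, 147)) (.leaf (12, 404))) (.leaf (15, 1149))))) (.node (.node (.node (.node (.leaf (0, 0)) (.leaf (0, 0))) (.node (.leaf (1, 1011)) (.leaf (12, 757)))) (.node (.node (.leaf (0, 0)) (.leaf (0, 0))) (.node (.leaf (0, 0)) (.leaf (0, 0))))) (.node (.node (.node (.leaf (0, 0)) (.leaf (0, 0))) (.node (.leaf (0, 0)) (.leaf (0, 0)))) (.node (.node (.leaf (0, 0)) (.leaf (0, 0))) (.leaf (12, 1264))))))))) (.node (.node (.node (.node (.node (.node (.node (.node (.leaf (0, 0)) (.leaf (0, 0))) (.node (.leaf (0, 0)) (.leaf (1, 1540)))) (.node (.node (.leaf (0, 0)) (.leaf (0, 0))) (.node (.leaf (0, 0)) (.leaf (0, 0))))) (.node (.node (.node (.leaf (0, 0)) (.leaf (0, 0))) (.node (.leaf (0, 0)) (.leaf (15, 1311)))) (.node (.node (.leaf (0, 0)) (.leaf (12,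 78))) (.node (.leaf (0, 0)) (.leaf (9, 229)))))) (.node (.node (.node (.node (.leaf (15, 79)) (.leaf (14, 1844))) (.node (.leaf (0, 0)) (.leaf (11, 1605)))) (.node (.node (.leaf (6, 101)) (.leaf (15, 1227))) (.node (.leaf (15, 818)) (.leaf (15, 1897))))) (.node (.node (.node (.leaf (0, 0)) (.leaf (15, 712))) (.node (.leaf (0, 0)) (.leaf (15, 1478)))) (.node (.node (.leaf (0, 0)) (.leaf (15, 1151))) (.leaf (0, 0)))))) (.node (.node (.node (.node (.node (.leaf (0, 0)) (.leaf (0, 0))) (.node (.leaf (0, 0)) (.leaf (15, 1513)))) (.node (.node (.leaf (0, 0)) (.leaf (10, 1212))) (.node (.leaf (15, 1024)) (.leaf (15, 1774))))) (.node (.node (.node (.leaf (0, 0)) (.leaf (15, 1768))) (.node (.leaf (15, 641)) (.leaf (15, 1541)))) (.node (.node (.leaf (0, 0)) (.leaf (0, 0))) (.leaf (0, 0))))) (.node (.node (.node (.node (.leaf (0, 0)) (.leaf (0, 0))) (.node (.leaf (15, 365)) (.leaf (0, 0)))) (.node (.node (.leaf (0, 0)) (.leaf (1, 1711))) (.node (.leaf (15, 840)) (.leaf (15, 1854))))) (.node (.node (.node (.leaf (0, 0)) (.leaf (15, 880))) (.node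 (.leaf (0, 0)) (.leaf (15, 1631)))) (.node (.node (.leaf (15, 493)) (.leaf (0, 0))) (.leaf (0, 0))))))) (.node (.node (.node (.node (.node (.node (.leaf (0, 0)) (.leaf (11, 1047))) (.node (.leaf (0, 0)) (.leaf (15, 1764)))) (.node (.node (.leaf (0, 0)) (.leaf (15, 1849))) (.node (.leaf (12, 1376)) (.leaf (15, 1243))))) (.node (.node (.node (.leaf (0, 0)) (.leaf (15, 1177))) (.node (.leaf (0, 0)) (.leaf (13, 1590)))) (.node (.node (.leaf (0, 0)) (.leaf (12, 1354))) (.leaf (0, 0))))) (.node (.node (.node (.node (.leaf (15, 108)) (.leaf (15, 1571))) (.node (.leaf (0, 0)) (.leaf (3, 1770)))) (.node (.node (.leaf (0, 0)) (.leaf (0, 0))) (.node (.leaf (0, 0)) (.leaf (0, 0))))) (.node (.node (.node (.leaf (0, 0)) (.leaf (11, 1241))) (.node (.leaf (15, 1321)) (.leaf (11, 1750)))) (.node (.node (.leaf (0, 0)) (.leaf (0, 0))) (.leaf (13, 1196)))))) (.node (.node (.node (.node (.node (.leaf (0, 0)) (.leaf (12, 962))) (.node (.leaf (0, 0)) (.leaf (12, 856)))) (.node (.node (.leaf (0, 0)) (.leaf (15, 1042))) (.node (.leaf (15, 299)) (.leaf (15,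 1289))))) (.node (.node (.node (.leaf (15, 187)) (.leaf (0, 0))) (.node (.leaf (15, 1198)) (.leaf (12, 645)))) (.node (.node (.leaf (15, 1779)) (.leaf (15, 1740))) (.leaf (0, 0))))) (.node (.node (.node (.node (.leaf (0, 0)) (.leaf (12, 496))) (.node (.leaf (0, 0)) (.leaf (0, 0)))) (.node (.node (.leaf (1, 965)) (.leaf (6, 876))) (.node (.leaf (0, 0)) (.leaf (13, 1861))))) (.node (.node (.node (.leaf (1, 666)) (.leaf (15, 1265))) (.node (.leaf (14, 1547)) (.leaf (15, 1860)))) (.node (.node (.leaf (0, 0)) (.leaf (1, 1524))) (.leaf (15, 679)))))))) (.node (.node (.node (.node (.node (.node (.node (.leaf (0, 0)) (.leaf (0, 0))) (.node (.leaf (0, 0)) (.leaf (15, 467)))) (.node (.node (.leaf (1, 268)) (.leaf (0, 0))) (.node (.leaf (0, 0)) (.leaf (15, 1644))))) (.node (.node (.node (.leaf (0, 0)) (.leaf (0, 0))) (.node (.leaf (0, 0)) (.leaf (15, 1679)))) (.node (.node (.leaf (0, 0)) (.leaf (15, 1015))) (.leaf (0, 0))))) (.node (.node (.node (.node (.leaf (0, 0)) (.leaf (1, 1100))) (.node (.leaf (0, 0)) (.leaf (15, 1350)))) (.node (.node (.leaf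 (0, 0)) (.leaf (15, 944))) (.node (.leaf (1, 844)) (.leaf (12, 1158))))) (.node (.node (.node (.leaf (0, 0)) (.leaf (15, 1370))) (.node (.leaf (15, 148)) (.leaf (12, 1459)))) (.node (.node (.leaf (12, 1392)) (.leaf (5, 1774))) (.leaf (0, 0)))))) (.node (.node (.node (.node (.node (.leaf (1, 44)) (.leaf (12, 38))) (.node (.leaf (0, 0)) (.leaf (14, 1691)))) (.node (.node (.leaf (0, 0)) (.leaf (9, 1212))) (.node (.leaf (0, 0)) (.leaf (1, 1836))))) (.node (.node (.node (.leaf (0, 0)) (.leaf (0, 0))) (.node (.leaf (15, 1360)) (.leaf (15, 1559)))) (.node (.node (.leaf (0, 0)) (.leaf (10, 132))) (.leaf (0, 0))))) (.node (.node (.node (.node (.leaf (0, 0)) (.leaf (0, 0))) (.node (.leaf (0, 0)) (.leaf (15, 1804)))) (.node (.node (.leaf (0, 0)) (.leaf (0, 0))) (.node (.leaf (12, 1040)) (.leaf (15, 1911))))) (.node (.node (.node (.leaf (0, 0)) (.leaf (15, 1286))) (.node (.leaf (0, 0)) (.leaf (0, 0)))) (.node (.node (.leaf (0, 0)) (.leaf (15, 1101))) (.leaf (0, 0))))))) (.node (.node (.node (.node (.node (.node (.leaf (0, 0)) (.leaf (0, 0))) (.node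 (.leaf (0, 0)) (.leaf (0, 0)))) (.node (.node (.leaf (0, 0)) (.leaf (0, 0))) (.node (.leaf (12, 488)) (.leaf (15, 1557))))) (.node (.node (.node (.leaf (0, 0)) (.leaf (0, 0))) (.node (.leaf (0, 0)) (.leaf (12, 1296)))) (.node (.node (.leaf (0, 0)) (.leaf (13, 1450))) (.leaf (0, 0))))) (.node (.node (.node (.node (.leaf (0, 0)) (.leaf (1, 1519))) (.node (.leaf (1, 604)) (.leaf (14, 1584)))) (.node (.node (.leaf (15, 675)) (.leaf (6, 363))) (.node (.leaf (15, 897)) (.leaf (15, 1851))))) (.node (.node (.node (.leaf (12, 278)) (.leaf (0, 0))) (.node (.leaf (15, 1295)) (.leaf (15, 1614)))) (.node (.node (.leaf (15, 438)) (.leaf (15, 1290))) (.leaf (15, 838)))))) (.node (.node (.node (.node (.node (.leaf (0, 0)) (.leaf (5, 370))) (.node (.leaf (0, 0)) (.leaf (1, 1596)))) (.node (.node (.leaf (0, 0)) (.leaf (15, 926))) (.node (.leaf (0, 0)) (.leaf (0, 0))))) (.node (.node (.node (.leaf (15, 312)) (.leaf (15, 1324))) (.node (.leaf (5, 988)) (.leaf (15, 1147)))) (.node (.node (.leaf (0, 0)) (.leaf (0, 0))) (.leaf (0, 0))))) (.node (.node (.node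 (.node (.leaf (0, 0)) (.leaf (15, 1339))) (.node (.leaf (0, 0)) (.leaf (15, 894)))) (.node (.node (.leaf (1, 643)) (.leaf (0, 0))) (.node (.leaf (15, 562)) (.leaf (13, 1911))))) (.node (.node (.node (.leaf (0, 0)) (.leaf (15, 1387))) (.node (.leaf (0, 0)) (.leaf (12, 1534)))) (.node (.node (.leaf (10, 506)) (.leaf (15, 1866))) (.leaf (0, 0))))))))))

def twoVia2 : Janko.Tree (ℕ × ℕ) :=
  (.node (.node (.node (.node (.node (.node (.node (.node (.node (.leaf (0, 0)) (.leaf (13, 1276))) (.node (.leaf (0, 0)) (.leaf (12, 1537)))) (.node (.node (.leaf (6, 148)) (.leaf (12, 393))) (.node (.leaf (14, 1667)) (.leaf (10, 920))))) (.node (.node (.node (.leaf (0, 0)) (.leaf (0, 0))) (.node (.leaf (12, 341)) (.leaf (0, 0)))) (.node (.node (.leaf (0, 0)) (.leaf (5, 1704))) (.node (.leaf (0, 897)) (.leaf (0, 0)))))) (.node (.node (.node (.node (.leaf (0, 0)) (.leaf (13, 1741))) (.node (.leaf (0, 0)) (.leaf (12, 527)))) (.node (.node (.leaf (0, 0)) (.leaf (0, 0))) (.node (.leaf (0, 0)) (.leaf (15, 1857))))) (.node (.node (.node (.leaf (0, 0)) (.leaf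 (0, 0))) (.node (.leaf (15, 919)) (.leaf (2, 1729)))) (.node (.node (.leaf (12, 447)) (.leaf (14, 1771))) (.leaf (15, 961)))))) (.node (.node (.node (.node (.node (.leaf (0, 0)) (.leaf (15, 1464))) (.node (.leaf (0, 0)) (.leaf (14, 1865)))) (.node (.node (.leaf (0, 0)) (.leaf (15, 1313))) (.node (.leaf (0, 0)) (.leaf (0, 1825))))) (.node (.node (.node (.leaf (0, 0)) (.leaf (14, 1813))) (.node (.leaf (0, 0)) (.leaf (0, 0)))) (.node (.node (.leaf (0, 0)) (.leaf (10, 73))) (.leaf (0, 0))))) (.node (.node (.node (.node (.leaf (0, 0)) (.leaf (15, 1417))) (.node (.leaf (15, 609)) (.leaf (12, 1054)))) (.node (.node (.leaf (6, 61)) (.leaf (14, 1806))) (.node (.leaf (0, 0)) (.leaf (15, 1889))))) (.node (.node (.node (.leaf (7, 223)) (.leaf (0, 0))) (.node (.leaf (0, 0)) (.leaf (12, 940)))) (.node (.node (.leaf (0, 0)) (.leaf (12, 1100))) (.leaf (15, 993))))))) (.node (.node (.node (.node (.node (.node (.leaf (0, 0)) (.leaf (3, 1441))) (.node (.leaf (0, 0)) (.leaf (15, 1553)))) (.node (.node (.leaf (0, 0)) (.leaf (0, 0))) (.node (.leaf (0, 785))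 (.leaf (15, 1809))))) (.node (.node (.node (.leaf (0, 0)) (.leaf (12, 1743))) (.node (.leaf (0, 0)) (.leaf (14, 1902)))) (.node (.node (.leaf (0, 0)) (.leaf (15, 1425))) (.leaf (0, 0))))) (.node (.node (.node (.node (.leaf (0, 0)) (.leaf (14, 1822))) (.node (.leaf (5, 117)) (.leaf (12, 1235)))) (.node (.node (.leaf (12, 196)) (.leaf (15, 1361))) (.node (.leaf (0, 0)) (.leaf (14, 1873))))) (.node (.node (.node (.leaf (0, 0)) (.leaf (15, 1233))) (.node (.leaf (0, 0)) (.leaf (13, 1745)))) (.node (.node (.leaf (0, 0)) (.leaf (15, 1491))) (.leaf (15, 977)))))) (.node (.node (.node (.node (.node (.leaf (0, 0)) (.leaf (0, 0))) (.node (.leaf (0, 0)) (.leaf (15, 1585)))) (.node (.node (.leaf (0, 0)) (.leaf (0, 0))) (.node (.leaf (0, 0)) (.leaf (5, 1754))))) (.node (.node (.node (.leaf (0, 0)) (.leaf (12, 1596))) (.node (.leaf (12, 1594)) (.leaf (12, 1822)))) (.node (.node (.leaf (11, 1101)) (.leaf (5, 740))) (.leaf (0, 0))))) (.node (.node (.node (.node (.leaf (0, 0)) (.leaf (0, 0))) (.node (.leaf (0, 0)) (.leaf (3, 1649)))) (.node (.node (.leaf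 (0, 0)) (.leaf (0, 1393))) (.node (.leaf (0, 0)) (.leaf (12, 1694))))) (.node (.node (.node (.leaf (0, 0)) (.leaf (0, 1265))) (.node (.leaf (4, 151)) (.leaf (14, 1748)))) (.node (.node (.leaf (0, 0)) (.leaf (0, 0))) (.leaf (15, 1009)))))))) (.node (.node (.node (.node (.node (.node (.node (.leaf (0, 0)) (.leaf (15, 1033))) (.node (.leaf (0, 0)) (.leaf (9, 1149)))) (.node (.node (.leaf (0, 0)) (.leaf (0, 0))) (.node (.leaf (5, 161)) (.leaf (12, 1914))))) (.node (.node (.node (.leaf (0, 0)) (.leaf (0, 0))) (.node (.leaf (0, 0)) (.leaf (15, 1673)))) (.node (.node (.leaf (0, 0)) (.leaf (5, 1049))) (.leaf (0, 0))))) (.node (.node (.node (.node (.leaf (0, 0)) (.leaf (15, 1097))) (.node (.leaf (0, 0)) (.leaf (12, 439)))) (.node (.node (.leaf (0, 0)) (.leaf (0, 0))) (.node (.leaf (0, 0)) (.leaf (13, 1913))))) (.node (.node (.node (.leaf (5, 33)) (.leaf (0, 0))) (.node (.leaf (6, 428)) (.leaf (11, 370)))) (.node (.node (.leaf (0, 0)) (.leaf (15, 1481))) (.leaf (0, 0)))))) (.node (.node (.node (.node (.node (.leaf (0, 0)) (.leaf (0, 1065))) (.node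 (.leaf (0, 0)) (.leaf (15, 1577)))) (.node (.node (.leaf (0, 0)) (.leaf (3, 1321))) (.node (.leaf (0, 809)) (.leaf (14, 1847))))) (.node (.node (.node (.leaf (5, 97)) (.leaf (15, 1193))) (.node (.leaf (0, 0)) (.leaf (0, 0)))) (.node (.node (.leaf (0, 0)) (.leaf (0, 0))) (.leaf (0, 937))))) (.node (.node (.node (.node (.leaf (0, 0)) (.leaf (13, 1509))) (.node (.leaf (0, 0)) (.leaf (15, 1641)))) (.node (.node (.leaf (0, 0)) (.leaf (15, 1722))) (.node (.leaf (9, 1513)) (.leaf (0, 1897))))) (.node (.node (.node (.leaf (0, 0)) (.leaf (15, 1257))) (.node (.leaf (0, 0)) (.leaf (12, 239)))) (.node (.node (.leaf (0, 0)) (.leaf (0, 1513))) (.leaf (3, 1013))))))) (.node (.node (.node (.node (.node (.node (.leaf (0, 0)) (.leaf (15, 1424))) (.node (.leaf (10, 55)) (.leaf (10, 1697)))) (.node (.node (.leaf (0, 0)) (.leaf (14, 1891))) (.node (.leaf (0, 0)) (.leaf (12, 1195))))) (.node (.node (.node (.leaf (0, 0)) (.leaf (5, 279))) (.node (.leaf (5, 666)) (.leaf (0, 0)))) (.node (.node (.leaf (0, 0)) (.leaf (15, 1807))) (.leaf (0, 0))))) (.node (.node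 (.node (.node (.leaf (0, 0)) (.leaf (15, 1511))) (.node (.leaf (0, 0)) (.leaf (12, 836)))) (.node (.node (.leaf (0, 0)) (.leaf (0, 0))) (.node (.leaf (12, 857)) (.leaf (9, 1741))))) (.node (.node (.node (.leaf (0, 0)) (.leaf (0, 1241))) (.node (.leaf (0, 0)) (.leaf (15, 1753)))) (.node (.node (.leaf (0, 0)) (.leaf (15, 1497))) (.leaf (0, 0)))))) (.node (.node (.node (.node (.node (.leaf (0, 0)) (.leaf (12, 1488))) (.node (.leaf (0, 0)) (.leaf (0, 0)))) (.node (.node (.leaf (0, 0)) (.leaf (15, 1337))) (.node (.leaf (11, 1766)) (.leaf (13, 1849))))) (.node (.node (.node (.leaf (0, 0)) (.leaf (0, 1209))) (.node (.leaf (0, 0)) (.leaf (12, 648)))) (.node (.node (.leaf (0, 0)) (.leaf (0, 0))) (.leaf (0, 0))))) (.node (.node (.node (.node (.leaf (0, 0)) (.leaf (0, 1488))) (.node (.leaf (0, 633)) (.leaf (0, 0)))) (.node (.node (.leaf (0, 0)) (.leaf (0, 0))) (.node (.leaf (11, 1557)) (.leaf (12, 953))))) (.node (.node (.node (.leaf (0, 0)) (.leaf (12, 185))) (.node (.leaf (5, 1299)) (.leaf (14, 1630)))) (.node (.node (.leaf (0, 0)) (.leaf (15,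 1529))) (.leaf (14, 1156))))))))) (.node (.node (.node (.node (.node (.node (.node (.node (.leaf (0, 0)) (.leaf (12, 365))) (.node (.leaf (15, 517)) (.leaf (14, 1886)))) (.node (.node (.leaf (0, 0)) (.leaf (15, 1285))) (.node (.leaf (15, 773)) (.leaf (13, 1797))))) (.node (.node (.node (.leaf (0, 0)) (.leaf (0, 0))) (.node (.leaf (0, 0)) (.leaf (0, 0)))) (.node (.node (.leaf (0, 0)) (.leaf (14, 1755))) (.node (.leaf (0, 901)) (.leaf (10, 149)))))) (.node (.node (.node (.node (.leaf (0, 0)) (.leaf (0, 0))) (.node (.leaf (15, 581)) (.leaf (0, 1605)))) (.node (.node (.leaf (0, 0)) (.leaf (0, 0))) (.node (.leaf (0, 0)) (.leaf (14, 1861))))) (.node (.node (.node (.leaf (0, 0)) (.leaf (0, 0))) (.node (.leaf (0, 0)) (.leaf (12, 1733)))) (.node (.node (.leaf (5, 86)) (.leaf (14, 1261))) (.leaf (0, 0)))))) (.node (.node (.node (.node (.node (.leaf (11, 37)) (.leaf (0, 0))) (.node (.leaf (0, 0)) (.leaf (0, 0)))) (.node (.node (.leaf (0, 0)) (.leaf (5, 1317))) (.node (.leaf (4, 805)) (.leaf (15, 1829))))) (.node (.node (.node (.leaf (0, 0)) (.leaf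 (14, 1580))) (.node (.leaf (0, 0)) (.leaf (15, 1701)))) (.node (.node (.leaf (15, 421)) (.leaf (0, 0))) (.leaf (0, 0))))) (.node (.node (.node (.node (.leaf (0, 0)) (.leaf (0, 0))) (.node (.leaf (0, 0)) (.leaf (12, 1588)))) (.node (.node (.leaf (0, 0)) (.leaf (0, 0))) (.node (.leaf (0, 0)) (.leaf (0, 0))))) (.node (.node (.node (.leaf (0, 0)) (.leaf (12, 101))) (.node (.leaf (0, 0)) (.leaf (13, 1765)))) (.node (.node (.leaf (0, 0)) (.leaf (15, 1509))) (.leaf (0, 0))))))) (.node (.node (.node (.node (.node (.node (.leaf (0, 0)) (.leaf (0, 0))) (.node (.leaf (12, 212)) (.leaf (12, 1740)))) (.node (.node (.leaf (0, 0)) (.leaf (12, 892))) (.node (.leaf (10, 789)) (.leaf (0, 0))))) (.node (.node (.node (.leaf (8, 149)) (.leaf (0, 1173))) (.node (.leaf (15, 661)) (.leaf (5, 1670)))) (.node (.node (.leaf (0, 0)) (.leaf (15, 1516))) (.leaf (0, 0))))) (.node (.node (.node (.node (.leaf (0, 0)) (.leaf (12, 1109))) (.node (.leaf (0, 0)) (.leaf (0, 1621)))) (.node (.node (.leaf (0, 0)) (.leaf (0, 0))) (.node (.leaf (0, 0)) (.leaf (0, 1877)))))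 (.node (.node (.node (.leaf (0, 0)) (.leaf (0, 1237))) (.node (.leaf (3, 1097)) (.leaf (14, 1662)))) (.node (.node (.leaf (0, 0)) (.leaf (15, 1493))) (.leaf (15, 1393)))))) (.node (.node (.node (.node (.node (.leaf (11, 72)) (.leaf (9, 98))) (.node (.leaf (0, 0)) (.leaf (12, 1393)))) (.node (.node (.leaf (0, 0)) (.leaf (0, 0))) (.node (.leaf (0, 0)) (.leaf (14, 1845))))) (.node (.node (.node (.leaf (0, 0)) (.leaf (15, 1863))) (.node (.leaf (0, 0)) (.leaf (15, 1717)))) (.node (.node (.leaf (0, 0)) (.leaf (12, 1834))) (.leaf (0, 0))))) (.node (.node (.node (.node (.leaf (0, 0)) (.leaf (0, 1141))) (.node (.leaf (0, 0)) (.leaf (11, 1088)))) (.node (.node (.leaf (0, 0)) (.leaf (0, 0))) (.node (.leaf (0, 0)) (.leaf (12, 1249))))) (.node (.node (.node (.leaf (0, 0)) (.leaf (11, 863))) (.node (.leaf (0, 0)) (.leaf (12, 1611)))) (.node (.node (.leaf (0, 0)) (.leaf (0, 1525))) (.leaf (15, 1013)))))))) (.node (.node (.node (.node (.node (.node (.node (.leaf (0, 0)) (.leaf (15, 1037))) (.node (.leaf (0, 0)) (.leaf (0, 0)))) (.node (.node (.leaf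 (0, 269)) (.leaf (13, 1293))) (.node (.leaf (14, 1711)) (.leaf (0, 0))))) (.node (.node (.node (.leaf (0, 0)) (.leaf (0, 0))) (.node (.leaf (0, 0)) (.leaf (15, 1677)))) (.node (.node (.leaf (0, 0)) (.leaf (0, 1421))) (.leaf (14, 1404))))) (.node (.node (.node (.node (.leaf (9, 6)) (.leaf (0, 1101))) (.node (.leaf (0, 0)) (.leaf (12, 1212)))) (.node (.node (.leaf (0, 0)) (.leaf (15, 1512))) (.node (.leaf (0, 845)) (.leaf (15, 1869))))) (.node (.node (.node (.leaf (0, 0)) (.leaf (0, 0))) (.node (.leaf (15, 717)) (.leaf (0, 0)))) (.node (.node (.leaf (0, 0)) (.leaf (12, 1485))) (.leaf (0, 0)))))) (.node (.node (.node (.node (.node (.leaf (0, 45)) (.leaf (5, 1254))) (.node (.leaf (0, 0)) (.leaf (0, 0)))) (.node (.node (.leaf (0, 0)) (.leaf (12, 339))) (.node (.leaf (0, 0)) (.leaf (14, 1647))))) (.node (.node (.node (.leaf (0, 0)) (.leaf (0, 0))) (.node (.leaf (0, 0)) (.leaf (15, 1709)))) (.node (.node (.leaf (0, 0)) (.leaf (12, 1043))) (.leaf (15, 941))))) (.node (.node (.node (.node (.leaf (0, 0)) (.leaf (0, 0))) (.node (.leaf (0, 0))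 (.leaf (10, 1804)))) (.node (.node (.leaf (0, 0)) (.leaf (0, 0))) (.node (.leaf (7, 1648)) (.leaf (0, 1901))))) (.node (.node (.node (.leaf (0, 0)) (.leaf (0, 0))) (.node (.leaf (15, 749)) (.leaf (15, 1773)))) (.node (.node (.leaf (0, 493)) (.leaf (0, 0))) (.leaf (0, 0))))))) (.node (.node (.node (.node (.node (.node (.leaf (0, 0)) (.leaf (0, 0))) (.node (.leaf (0, 0)) (.leaf (0, 0)))) (.node (.node (.leaf (0, 0)) (.leaf (12, 1309))) (.node (.leaf (5, 1032)) (.leaf (12, 1207))))) (.node (.node (.node (.leaf (0, 0)) (.leaf (0, 1181))) (.node (.leaf (0, 0)) (.leaf (0, 1693)))) (.node (.node (.leaf (4, 413)) (.leaf (12, 383))) (.leaf (15, 925))))) (.node (.node (.node (.node (.leaf (0, 0)) (.leaf (15, 1117))) (.node (.leaf (0, 0)) (.leaf (12, 1629)))) (.node (.node (.leaf (0, 0)) (.leaf (5, 1824))) (.node (.leaf (0, 0)) (.leaf (3, 1885))))) (.node (.node (.node (.leaf (0, 0)) (.leaf (0, 0))) (.node (.leaf (0, 0)) (.leaf (10, 833)))) (.node (.node (.leaf (0, 0)) (.leaf (12, 397))) (.leaf (0, 0)))))) (.node (.node (.node (.node (.node (.leaf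 (0, 0)) (.leaf (11, 496))) (.node (.leaf (12, 147)) (.leaf (0, 1597)))) (.node (.node (.leaf (0, 0)) (.leaf (0, 0))) (.node (.leaf (0, 0)) (.leaf (14, 1672))))) (.node (.node (.node (.leaf (0, 0)) (.leaf (15, 1213))) (.node (.leaf (15, 701)) (.leaf (0, 0)))) (.node (.node (.leaf (0, 0)) (.leaf (0, 1469))) (.leaf (13, 1822))))) (.node (.node (.node (.node (.leaf (5, 71)) (.leaf (0, 0))) (.node (.leaf (0, 0)) (.leaf (14, 1852)))) (.node (.node (.leaf (0, 0)) (.leaf (15, 1405))) (.node (.leaf (0, 0)) (.leaf (0, 1917))))) (.node (.node (.node (.leaf (0, 0)) (.leaf (14, 1857))) (.node (.leaf (0, 0)) (.leaf (0, 0)))) (.node (.node (.leaf (5, 174)) (.leaf (10, 740))) (.leaf (0, 1021))))))))))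

def twoVia3 : Janko.Tree (ℕ × ℕ) :=
  (.node (.node (.node (.node (.node (.node (.node (.node (.node (.leaf (0, 0)) (.leaf (0, 0))) (.node (.leaf (15, 755)) (.leaf (0, 0)))) (.node (.node (.leaf (0, 0)) (.leaf (15, 1436))) (.node (.leaf (0, 0)) (.leaf (15, 1702))))) (.node (.node (.node (.leaf (0, 0)) (.leaf (13, 1380))) (.node (.leaf (0, 0)) (.leaf (15, 1839)))) (.node (.node (.leaf (15, 636)) (.leaf (0, 0))) (.node (.leaf (15, 622)) (.leaf (3, 970)))))) (.node (.node (.node (.node (.leaf (0, 0)) (.leaf (0, 0))) (.node (.leaf (0, 0)) (.leaf (15, 1654)))) (.node (.node (.leaf (0, 0)) (.leaf (0, 0))) (.node (.leaf (15, 181)) (.leaf (15, 1867))))) (.node (.node (.node (.leaf (15, 201)) (.leaf (4, 1597))) (.node (.leaf (0, 0)) (.leaf (13, 1417)))) (.node (.node (.leaf (0, 0)) (.leaf (0, 0))) (.leaf (15, 1555)))))) (.node (.node (.node (.node (.node (.leaf (0, 0)) (.leaf (1, 1057))) (.node (.leaf (15, 872)) (.leaf (15, 1803)))) (.node (.node (.leaf (0, 0)) (.leaf (15, 1612))) (.node (.leaf (15, 1169)) (.leaf (15, 1314))))) (.node (.node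 (.node (.leaf (1, 161)) (.leaf (0, 0))) (.node (.leaf (0, 0)) (.leaf (1, 1697)))) (.node (.node (.leaf (12, 1073)) (.leaf (15, 1750))) (.leaf (12, 619))))) (.node (.node (.node (.node (.leaf (1, 97)) (.leaf (6, 150))) (.node (.leaf (0, 0)) (.leaf (15, 1642)))) (.node (.node (.leaf (0, 0)) (.leaf (15, 1545))) (.node (.leaf (15, 1592)) (.leaf (15, 1845))))) (.node (.node (.node (.leaf (0, 0)) (.leaf (0, 0))) (.node (.leaf (0, 0)) (.leaf (12, 97)))) (.node (.node (.leaf (15, 689)) (.leaf (15, 1660))) (.leaf (0, 0))))))) (.node (.node (.node (.node (.node (.node (.leaf (0, 0)) (.leaf (0, 0))) (.node (.leaf (0, 0)) (.leaf (15, 1802)))) (.node (.node (.leaf (0, 0)) (.leaf (0, 0))) (.node (.leaf (0, 0)) (.leaf (12, 902))))) (.node (.node (.node (.leaf (0, 0)) (.leaf (0, 0))) (.node (.leaf (1, 1437)) (.leaf (12, 398)))) (.node (.node (.leaf (0, 0)) (.leaf (12, 547))) (.leaf (0, 0))))) (.node (.node (.node (.node (.leaf (0, 0)) (.leaf (12, 592))) (.node (.leaf (0, 0)) (.leaf (11, 870)))) (.node (.node (.leaf (0, 0)) (.leaf (15, 1354))) (.node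 (.leaf (0, 0)) (.leaf (15, 1423))))) (.node (.node (.node (.leaf (0, 0)) (.leaf (14, 1708))) (.node (.leaf (0, 0)) (.leaf (10, 991)))) (.node (.node (.leaf (0, 0)) (.leaf (11, 1776))) (.leaf (0, 0)))))) (.node (.node (.node (.node (.node (.leaf (0, 0)) (.leaf (0, 0))) (.node (.leaf (15, 115)) (.leaf (15, 1451)))) (.node (.node (.leaf (0, 0)) (.leaf (0, 0))) (.node (.leaf (0, 0)) (.leaf (12, 1455))))) (.node (.node (.node (.leaf (0, 0)) (.leaf (13, 1685))) (.node (.leaf (12, 1273)) (.leaf (0, 0)))) (.node (.node (.leaf (0, 0)) (.leaf (0, 0))) (.leaf (1, 945))))) (.node (.node (.node (.node (.leaf (0, 0)) (.leaf (15, 1141))) (.node (.leaf (0, 0)) (.leaf (9, 1127)))) (.node (.node (.leaf (0, 0)) (.leaf (12, 368))) (.node (.leaf (0, 0)) (.leaf (0, 0))))) (.node (.node (.node (.leaf (0, 0)) (.leaf (12, 316))) (.node (.leaf (0, 0)) (.leaf (15, 1877)))) (.node (.node (.leaf (0, 0)) (.leaf (12, 1552))) (.leaf (12, 57)))))))) (.node (.node (.node (.node (.node (.node (.node (.leaf (0, 0)) (.leaf (1, 1033))) (.node (.leaf (0, 0)) (.leaf (14,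 1646)))) (.node (.node (.leaf (15, 743)) (.leaf (15, 1633))) (.node (.leaf (15, 1420)) (.leaf (4, 1802))))) (.node (.node (.node (.leaf (0, 0)) (.leaf (13, 1597))) (.node (.leaf (11, 656)) (.leaf (0, 0)))) (.node (.node (.leaf (0, 0)) (.leaf (15, 1879))) (.leaf (0, 0))))) (.node (.node (.node (.node (.leaf (0, 0)) (.leaf (12, 1173))) (.node (.leaf (12, 772)) (.leaf (0, 0)))) (.node (.node (.leaf (0, 0)) (.leaf (12, 1426))) (.node (.leaf (0, 0)) (.leaf (14, 1856))))) (.node (.node (.node (.leaf (0, 0)) (.leaf (0, 0))) (.node (.leaf (0, 0)) (.leaf (15, 1727)))) (.node (.node (.leaf (0, 0)) (.leaf (5, 1082))) (.leaf (15, 1604)))))) (.node (.node (.node (.node (.node (.leaf (15, 136)) (.leaf (12, 240))) (.node (.leaf (15, 323)) (.leaf (15, 1811)))) (.node (.node (.leaf (0, 0)) (.leaf (0, 0))) (.node (.leaf (0, 0)) (.leaf (15, 1910))))) (.node (.node (.node (.leaf (0, 0)) (.leaf (0, 0))) (.node (.leaf (15, 620)) (.leaf (0, 0)))) (.node (.node (.leaf (0, 0)) (.leaf (1, 1449))) (.leaf (0, 0))))) (.node (.node (.node (.node (.leaf (15, 167))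 (.leaf (15, 266))) (.node (.leaf (0, 0)) (.leaf (15, 1853)))) (.node (.node (.leaf (0, 0)) (.leaf (0, 0))) (.node (.leaf (0, 0)) (.leaf (15, 1793))))) (.node (.node (.node (.leaf (0, 0)) (.leaf (15, 1184))) (.node (.leaf (0, 0)) (.leaf (12, 1042)))) (.node (.node (.leaf (0, 0)) (.leaf (15, 1827))) (.leaf (0, 0))))))) (.node (.node (.node (.node (.node (.node (.leaf (0, 0)) (.leaf (0, 0))) (.node (.leaf (0, 0)) (.leaf (15, 1209)))) (.node (.node (.leaf (15, 300)) (.leaf (15, 1505))) (.node (.leaf (15, 539)) (.leaf (15, 1907))))) (.node (.node (.node (.leaf (0, 0)) (.leaf (0, 0))) (.node (.leaf (0, 0)) (.leaf (0, 0)))) (.node (.node (.leaf (0, 0)) (.leaf (12, 614))) (.leaf (0, 0))))) (.node (.node (.node (.node (.leaf (0, 0)) (.leaf (15, 1316))) (.node (.leaf (15, 1371)) (.leaf (0, 0)))) (.node (.node (.leaf (0, 0)) (.leaf (15, 1144))) (.node (.leaf (0, 0)) (.leaf (0, 0))))) (.node (.node (.node (.leaf (0, 0)) (.leaf (0, 0))) (.node (.leaf (0, 0)) (.leaf (14, 1910)))) (.node (.node (.leaf (0, 0)) (.leaf (0, 0))) (.leaf (15, 702))))))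 (.node (.node (.node (.node (.node (.leaf (0, 0)) (.leaf (0, 0))) (.node (.leaf (15, 1176)) (.leaf (15, 1590)))) (.node (.node (.leaf (0, 0)) (.leaf (0, 0))) (.node (.leaf (0, 0)) (.leaf (0, 0))))) (.node (.node (.node (.leaf (0, 0)) (.leaf (0, 0))) (.node (.leaf (0, 0)) (.leaf (15, 1837)))) (.node (.node (.leaf (0, 0)) (.leaf (15, 1737))) (.leaf (0, 0))))) (.node (.node (.node (.node (.leaf (0, 0)) (.leaf (15, 1525))) (.node (.leaf (0, 0)) (.leaf (15, 1796)))) (.node (.node (.leaf (0, 0)) (.leaf (12, 1325))) (.node (.leaf (12, 1203)) (.leaf (14, 1898))))) (.node (.node (.node (.leaf (0, 0)) (.leaf (5, 492))) (.node (.leaf (0, 0)) (.leaf (0, 0)))) (.node (.node (.leaf (1, 505)) (.leaf (5, 1528))) (.leaf (15, 1305))))))))) (.node (.node (.node (.node (.node (.node (.node (.node (.leaf (0, 0)) (.leaf (0, 0))) (.node (.leaf (0, 0)) (.leaf (12, 1163)))) (.node (.node (.leaf (0, 0)) (.leaf (13, 1525))) (.node (.leaf (15, 777)) (.leaf (14, 1877))))) (.node (.node (.node (.leaf (0, 0)) (.leaf (0, 0))) (.node (.leaf (0, 0)) (.leaf (11, 1350))))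 (.node (.node (.leaf (0, 0)) (.leaf (0, 0))) (.node (.leaf (0, 0)) (.leaf (11, 1058)))))) (.node (.node (.node (.node (.leaf (0, 0)) (.leaf (0, 0))) (.node (.leaf (15, 822)) (.leaf (15, 1224)))) (.node (.node (.leaf (0, 0)) (.leaf (1, 1349))) (.node (.leaf (0, 0)) (.leaf (13, 1896))))) (.node (.node (.node (.leaf (0, 0)) (.leaf (13, 1915))) (.node (.leaf (5, 439)) (.leaf (15, 1095)))) (.node (.node (.leaf (0, 0)) (.leaf (15, 1783))) (.leaf (15, 216)))))) (.node (.node (.node (.node (.node (.leaf (0, 0)) (.leaf (0, 0))) (.node (.leaf (15, 956)) (.leaf (11, 1901)))) (.node (.node (.leaf (15, 95)) (.leaf (1, 1678))) (.node (.leaf (0, 0)) (.leaf (12, 1621))))) (.node (.node (.node (.leaf (0, 0)) (.leaf (0, 0))) (.node (.leaf (0, 0)) (.leaf (1, 1701)))) (.node (.node (.leaf (0, 0)) (.leaf (0, 0))) (.leaf (0, 0))))) (.node (.node (.node (.node (.leaf (0, 0)) (.leaf (12, 5))) (.node (.leaf (0, 0)) (.leaf (13, 1421)))) (.node (.node (.leaf (0, 0)) (.leaf (0, 0))) (.node (.leaf (13, 1310)) (.leaf (15, 1787))))) (.node (.node (.node (.leaf (0,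 0)) (.leaf (0, 0))) (.node (.leaf (0, 0)) (.leaf (0, 0)))) (.node (.node (.leaf (14, 1825)) (.leaf (15, 1477))) (.leaf (15, 1342))))))) (.node (.node (.node (.node (.node (.node (.leaf (0, 0)) (.leaf (0, 0))) (.node (.leaf (0, 0)) (.leaf (1, 1557)))) (.node (.node (.leaf (15, 451)) (.leaf (12, 336))) (.node (.leaf (0, 0)) (.leaf (12, 1164))))) (.node (.node (.node (.leaf (0, 0)) (.leaf (15, 1410))) (.node (.leaf (5, 406)) (.leaf (0, 0)))) (.node (.node (.leaf (0, 0)) (.leaf (15, 1742))) (.leaf (15, 1322))))) (.node (.node (.node (.node (.leaf (0, 0)) (.leaf (0, 0))) (.node (.leaf (0, 0)) (.leaf (12, 989)))) (.node (.node (.leaf (0, 0)) (.leaf (10, 206))) (.node (.leaf (0, 0)) (.leaf (15, 1777))))) (.node (.node (.node (.leaf (0, 0)) (.leaf (15, 1284))) (.node (.leaf (0, 0)) (.leaf (0, 0)))) (.node (.node (.leaf (15, 159)) (.leaf (15, 1542))) (.leaf (1, 981)))))) (.node (.node (.node (.node (.node (.leaf (0, 0)) (.leaf (0, 0))) (.node (.leaf (0, 0)) (.leaf (15, 1482)))) (.node (.node (.leaf (0, 0)) (.leaf (0, 0))) (.node (.leaf (0, 0))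 (.leaf (15, 1703))))) (.node (.node (.node (.leaf (0, 0)) (.leaf (15, 864))) (.node (.leaf (0, 0)) (.leaf (0, 0)))) (.node (.node (.leaf (0, 0)) (.leaf (0, 0))) (.leaf (0, 0))))) (.node (.node (.node (.node (.leaf (1, 117)) (.leaf (0, 0))) (.node (.leaf (0, 0)) (.leaf (0, 0)))) (.node (.node (.leaf (0, 0)) (.leaf (15, 1873))) (.node (.leaf (15, 1291)) (.leaf (15, 1905))))) (.node (.node (.node (.leaf (0, 0)) (.leaf (13, 863))) (.node (.leaf (0, 0)) (.leaf (15, 1099)))) (.node (.node (.leaf (0, 0)) (.leaf (15, 1166))) (.leaf (15, 1001)))))))) (.node (.node (.node (.node (.node (.node (.node (.leaf (0, 0)) (.leaf (15, 752))) (.node (.leaf (0, 0)) (.leaf (15, 1609)))) (.node (.node (.leaf (0, 0)) (.leaf (15, 551))) (.node (.leaf (15, 986)) (.leaf (13, 1841))))) (.node (.node (.node (.leaf (0, 0)) (.leaf (1, 1165))) (.node (.leaf (0, 0)) (.leaf (12, 724)))) (.node (.node (.leaf (0, 0)) (.leaf (0, 0))) (.leaf (0, 0))))) (.node (.node (.node (.node (.leaf (0, 0)) (.leaf (0, 0))) (.node (.leaf (15, 593)) (.leaf (15, 1273)))) (.node (.node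 (.leaf (0, 0)) (.leaf (0, 0))) (.node (.leaf (0, 0)) (.leaf (0, 0))))) (.node (.node (.node (.leaf (0, 0)) (.leaf (0, 0))) (.node (.leaf (0, 0)) (.leaf (14, 1808)))) (.node (.node (.leaf (0, 0)) (.leaf (1, 1485))) (.leaf (0, 0)))))) (.node (.node (.node (.node (.node (.leaf (0, 0)) (.leaf (0, 0))) (.node (.leaf (0, 0)) (.leaf (9, 434)))) (.node (.node (.leaf (0, 0)) (.leaf (0, 0))) (.node (.leaf (15, 1396)) (.leaf (5, 1240))))) (.node (.node (.node (.leaf (0, 0)) (.leaf (15, 1390))) (.node (.leaf (0, 0)) (.leaf (0, 0)))) (.node (.node (.leaf (0, 0)) (.leaf (5, 1731))) (.leaf (0, 0))))) (.node (.node (.node (.node (.leaf (0, 0)) (.leaf (0, 0))) (.node (.leaf (1, 621)) (.leaf (15, 1106)))) (.node (.node (.leaf (1, 365)) (.leaf (0, 0))) (.node (.leaf (0, 0)) (.leaf (15, 1832))))) (.node (.node (.node (.leaf (1, 237)) (.leaf (15, 1572))) (.node (.leaf (12, 1532)) (.leaf (1, 1773)))) (.node (.node (.leaf (15, 1248)) (.leaf (0, 0))) (.leaf (0, 0))))))) (.node (.node (.node (.node (.node (.node (.leaf (0, 0)) (.leaf (0, 0))) (.node (.leaf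 (0, 0)) (.leaf (0, 0)))) (.node (.node (.leaf (0, 0)) (.leaf (1, 1309))) (.node (.leaf (15, 1200)) (.leaf (15, 1810))))) (.node (.node (.node (.leaf (0, 0)) (.leaf (15, 1186))) (.node (.leaf (15, 235)) (.leaf (0, 0)))) (.node (.node (.leaf (0, 0)) (.leaf (15, 393))) (.leaf (15, 1340))))) (.node (.node (.node (.node (.leaf (0, 0)) (.leaf (0, 0))) (.node (.leaf (0, 0)) (.leaf (0, 0)))) (.node (.node (.leaf (0, 0)) (.leaf (0, 0))) (.node (.leaf (1, 861)) (.leaf (15, 1695))))) (.node (.node (.node (.leaf (0, 0)) (.leaf (0, 0))) (.node (.leaf (0, 0)) (.leaf (15, 1621)))) (.node (.node (.leaf (0, 0)) (.leaf (15, 1653))) (.leaf (15, 699)))))) (.node (.node (.node (.node (.node (.leaf (0, 0)) (.leaf (0, 0))) (.node (.leaf (0, 0)) (.leaf (0, 0)))) (.node (.node (.leaf (0, 0)) (.leaf (15, 1690))) (.node (.leaf (0, 0)) (.leaf (3, 1851))))) (.node (.node (.node (.leaf (9, 45)) (.leaf (0, 0))) (.node (.leaf (15, 366)) (.leaf (15, 1757)))) (.node (.node (.leaf (0, 0)) (.leaf (15, 1523))) (.leaf (0, 0))))) (.node (.node (.node (.node (.leaf (0, 0))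 (.leaf (1, 1149))) (.node (.leaf (0, 0)) (.leaf (0, 0)))) (.node (.node (.leaf (0, 0)) (.leaf (0, 0))) (.node (.leaf (15, 901)) (.leaf (12, 1909))))) (.node (.node (.node (.leaf (15, 257)) (.leaf (0, 0))) (.node (.leaf (1, 1548)) (.leaf (15, 1526)))) (.node (.node (.leaf (0, 0)) (.leaf (15, 1457))) (.leaf (0, 0))))))))))

def twoVia4 : Janko.Tree (ℕ × ℕ) :=
  (.node (.node (.node (.node (.node (.node (.node (.node (.node (.leaf (0, 0)) (.leaf (15, 1026))) (.node (.leaf (0, 0)) (.leaf (0, 1538)))) (.node (.node (.leaf (0, 0)) (.leaf (0, 0))) (.node (.leaf (0, 0)) (.leaf (15, 1794))))) (.node (.node (.node (.leaf (0, 0)) (.leaf (0, 0))) (.node (.leaf (0, 0)) (.leaf (14, 1773)))) (.node (.node (.leaf (0, 0)) (.leaf (0, 1410))) (.node (.leaf (0, 0)) (.leaf (4, 1395)))))) (.node (.node (.node (.node (.leaf (0, 0)) (.leaf (11, 1711))) (.node (.leaf (0, 0)) (.leaf (15, 1602)))) (.node (.node (.leaf (0, 0)) (.leaf (12, 1345))) (.node (.leaf (0, 0)) (.leaf (15, 1858))))) (.node (.node (.node (.leaf (0, 194)) (.leaf (14, 1410))) (.node (.leaf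 (0, 0)) (.leaf (0, 0)))) (.node (.node (.leaf (0, 0)) (.leaf (15, 1474))) (.leaf (12, 604)))))) (.node (.node (.node (.node (.node (.leaf (0, 0)) (.leaf (0, 1058))) (.node (.leaf (0, 0)) (.leaf (0, 0)))) (.node (.node (.leaf (0, 0)) (.leaf (0, 0))) (.node (.leaf (0, 0)) (.leaf (15, 1826))))) (.node (.node (.node (.leaf (0, 162)) (.leaf (0, 1460))) (.node (.leaf (10, 19)) (.leaf (14, 1884)))) (.node (.node (.leaf (0, 0)) (.leaf (0, 0))) (.leaf (0, 0))))) (.node (.node (.node (.node (.leaf (0, 0)) (.leaf (12, 347))) (.node (.leaf (0, 0)) (.leaf (15, 1634)))) (.node (.node (.leaf (0, 0)) (.leaf (12, 1776))) (.node (.leaf (0, 0)) (.leaf (15, 1890))))) (.node (.node (.node (.leaf (0, 0)) (.leaf (12, 1628))) (.node (.leaf (0, 0)) (.leaf (12, 1133)))) (.node (.node (.leaf (0, 0)) (.leaf (0, 0))) (.leaf (13, 1283))))))) (.node (.node (.node (.node (.node (.node (.leaf (0, 0)) (.leaf (13, 1332))) (.node (.leaf (0, 0)) (.leaf (11, 743)))) (.node (.node (.leaf (11, 759)) (.leaf (15, 1298))) (.node (.leaf (0, 0)) (.leaf (14, 1875))))) (.node (.node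 (.node (.leaf (0, 0)) (.leaf (13, 1615))) (.node (.leaf (0, 0)) (.leaf (14, 1879)))) (.node (.node (.leaf (15, 402)) (.leaf (0, 0))) (.leaf (14, 1632))))) (.node (.node (.node (.node (.leaf (0, 0)) (.leaf (14, 1913))) (.node (.leaf (0, 0)) (.leaf (12, 1851)))) (.node (.node (.leaf (0, 0)) (.leaf (12, 117))) (.node (.leaf (5, 324)) (.leaf (12, 367))))) (.node (.node (.node (.leaf (0, 0)) (.leaf (0, 0))) (.node (.leaf (9, 724)) (.leaf (11, 1439)))) (.node (.node (.leaf (0, 0)) (.leaf (15, 1490))) (.leaf (15, 978)))))) (.node (.node (.node (.node (.node (.leaf (0, 0)) (.leaf (0, 1074))) (.node (.leaf (0, 0)) (.leaf (15, 1586)))) (.node (.node (.leaf (0, 0)) (.leaf (0, 0))) (.node (.leaf (12, 1544)) (.leaf (12, 1511))))) (.node (.node (.node (.leaf (0, 0)) (.leaf (0, 0))) (.node (.leaf (0, 0)) (.leaf (0, 1714)))) (.node (.node (.leaf (0, 0)) (.leaf (0, 0))) (.leaf (12, 351))))) (.node (.node (.node (.node (.leaf (0, 0)) (.leaf (0, 0))) (.node (.leaf (4, 626)) (.leaf (0, 0)))) (.node (.node (.leaf (0, 0)) (.leaf (6, 370))) (.node (.leaf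 (0, 0)) (.leaf (14, 1734))))) (.node (.node (.node (.leaf (0, 0)) (.leaf (12, 1266))) (.node (.leaf (10, 966)) (.leaf (14, 1692)))) (.node (.node (.leaf (0, 0)) (.leaf (13, 1667))) (.leaf (9, 1257)))))))) (.node (.node (.node (.node (.node (.node (.node (.leaf (0, 0)) (.leaf (0, 0))) (.node (.leaf (0, 0)) (.leaf (15, 1546)))) (.node (.node (.leaf (0, 0)) (.leaf (0, 0))) (.node (.leaf (0, 0)) (.leaf (0, 1802))))) (.node (.node (.node (.leaf (0, 0)) (.leaf (11, 1802))) (.node (.leaf (0, 650)) (.leaf (12, 32)))) (.node (.node (.leaf (0, 0)) (.leaf (12, 215))) (.leaf (0, 0))))) (.node (.node (.node (.node (.leaf (0, 0)) (.leaf (15, 1098))) (.node (.leaf (0, 0)) (.leaf (12, 1330)))) (.node (.node (.leaf (0, 0)) (.leaf (3, 1361))) (.node (.leaf (12, 560)) (.leaf (0, 1900))))) (.node (.node (.node (.leaf (0, 0)) (.leaf (12, 507))) (.node (.leaf (0, 0)) (.leaf (15, 1738)))) (.node (.node (.leaf (15, 458)) (.leaf (12, 141))) (.leaf (11, 958)))))) (.node (.node (.node (.node (.node (.leaf (0, 0)) (.leaf (6, 242))) (.node (.leaf (0, 0)) (.leaf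 (0, 0)))) (.node (.node (.leaf (8, 90)) (.leaf (9, 339))) (.node (.leaf (0, 0)) (.leaf (15, 1834))))) (.node (.node (.node (.leaf (0, 0)) (.leaf (15, 1194))) (.node (.leaf (12, 17)) (.leaf (15, 1706)))) (.node (.node (.leaf (0, 0)) (.leaf (0, 1450))) (.leaf (0, 0))))) (.node (.node (.node (.node (.leaf (0, 0)) (.leaf (0, 0))) (.node (.leaf (11, 1395)) (.leaf (12, 1396)))) (.node (.node (.leaf (0, 0)) (.leaf (14, 1816))) (.node (.leaf (0, 0)) (.leaf (12, 1185))))) (.node (.node (.node (.leaf (0, 0)) (.leaf (0, 0))) (.node (.leaf (0, 0)) (.leaf (15, 1770)))) (.node (.node (.leaf (0, 0)) (.leaf (12, 1210))) (.leaf (0, 0))))))) (.node (.node (.node (.node (.node (.node (.leaf (0, 0)) (.leaf (12, 1703))) (.node (.leaf (0, 0)) (.leaf (15, 1562)))) (.node (.node (.leaf (0, 0)) (.leaf (0, 0))) (.node (.leaf (0, 0)) (.leaf (15, 1818))))) (.node (.node (.node (.leaf (10, 2)) (.leaf (15, 1178))) (.node (.leaf (0, 0)) (.leaf (3, 1690)))) (.node (.node (.leaf (0, 0)) (.leaf (0, 0))) (.leaf (0, 0))))) (.node (.node (.node (.node (.leaf (11, 7)) (.leaf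 (3, 1783))) (.node (.leaf (0, 0)) (.leaf (14, 1818)))) (.node (.node (.leaf (0, 0)) (.leaf (14, 1874))) (.node (.leaf (5, 858)) (.leaf (0, 0))))) (.node (.node (.node (.leaf (0, 0)) (.leaf (15, 1242))) (.node (.leaf (0, 0)) (.leaf (15, 1754)))) (.node (.node (.leaf (8, 154)) (.leaf (12, 300))) (.leaf (12, 621)))))) (.node (.node (.node (.node (.node (.leaf (6, 3)) (.leaf (0, 0))) (.node (.leaf (0, 0)) (.leaf (15, 1594)))) (.node (.node (.leaf (5, 183)) (.leaf (15, 1338))) (.node (.leaf (15, 826)) (.leaf (14, 1850))))) (.node (.node (.node (.leaf (0, 0)) (.leaf (12, 1903))) (.node (.leaf (0, 0)) (.leaf (12, 985)))) (.node (.node (.leaf (0, 0)) (.leaf (5, 405))) (.leaf (13, 1424))))) (.node (.node (.node (.node (.leaf (0, 0)) (.leaf (3, 1339))) (.node (.leaf (0, 0)) (.leaf (15, 1658)))) (.node (.node (.leaf (0, 0)) (.leaf (14, 1848))) (.node (.leaf (0, 0)) (.leaf (13, 1914))))) (.node (.node (.node (.leaf (0, 0)) (.leaf (14, 1892))) (.node (.leaf (0, 0)) (.leaf (12, 1610)))) (.node (.node (.leaf (5, 173)) (.leaf (14, 1594))) (.leaf (0,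 0))))))))) (.node (.node (.node (.node (.node (.node (.node (.node (.leaf (0, 0)) (.leaf (9, 764))) (.node (.leaf (0, 0)) (.leaf (14, 1757)))) (.node (.node (.leaf (0, 0)) (.leaf (5, 548))) (.node (.leaf (0, 0)) (.leaf (15, 1798))))) (.node (.node (.node (.leaf (0, 0)) (.leaf (0, 0))) (.node (.leaf (0, 0)) (.leaf (12, 1701)))) (.node (.node (.leaf (0, 0)) (.leaf (0, 0))) (.node (.leaf (12, 685)) (.leaf (1, 0)))))) (.node (.node (.node (.node (.leaf (0, 0)) (.leaf (15, 1145))) (.node (.leaf (0, 0)) (.leaf (15, 1606)))) (.node (.node (.leaf (0, 0)) (.leaf (0, 1350))) (.node (.leaf (12, 1649)) (.leaf (12, 1648))))) (.node (.node (.node (.leaf (0, 0)) (.leaf (12, 1792))) (.node (.leaf (13, 1415)) (.leaf (12, 629)))) (.node (.node (.leaf (0, 0)) (.leaf (14, 1368))) (.leaf (0, 0)))))) (.node (.node (.node (.node (.node (.leaf (0, 0)) (.leaf (13, 1151))) (.node (.leaf (0, 0)) (.leaf (14, 1895)))) (.node (.node (.leaf (0, 0)) (.leaf (0, 1318))) (.node (.leaf (0, 1168)) (.leaf (12, 434))))) (.node (.node (.node (.leaf (0, 0)) (.leaf (15, 1190)))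 (.node (.leaf (0, 0)) (.leaf (11, 1184)))) (.node (.node (.leaf (0, 0)) (.leaf (14, 1446))) (.leaf (0, 0))))) (.node (.node (.node (.node (.leaf (0, 0)) (.leaf (10, 84))) (.node (.leaf (0, 0)) (.leaf (15, 1638)))) (.node (.node (.leaf (11, 34)) (.leaf (15, 1382))) (.node (.leaf (13, 1056)) (.leaf (11, 1882))))) (.node (.node (.node (.leaf (9, 393)) (.leaf (15, 1699))) (.node (.leaf (0, 0)) (.leaf (15, 1766)))) (.node (.node (.leaf (0, 0)) (.leaf (5, 1509))) (.leaf (0, 0))))))) (.node (.node (.node (.node (.node (.node (.leaf (10, 0)) (.leaf (0, 0))) (.node (.leaf (0, 0)) (.leaf (0, 1558)))) (.node (.node (.leaf (0, 0)) (.leaf (0, 0))) (.node (.leaf (0, 0)) (.leaf (10, 1889))))) (.node (.node (.node (.leaf (0, 0)) (.leaf (0, 0))) (.node (.leaf (0, 0)) (.leaf (15, 1861)))) (.node (.node (.leaf (0, 0)) (.leaf (12, 1858))) (.leaf (12, 911))))) (.node (.node (.node (.node (.leaf (0, 0)) (.leaf (5, 1110))) (.node (.leaf (0, 0)) (.leaf (15, 1622)))) (.node (.node (.leaf (0, 0)) (.leaf (12, 949))) (.node (.leaf (0, 0)) (.leaf (12, 1019)))))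 (.node (.node (.node (.leaf (0, 0)) (.leaf (0, 0))) (.node (.leaf (0, 0)) (.leaf (0, 1750)))) (.node (.node (.leaf (0, 0)) (.leaf (14, 1810))) (.leaf (0, 982)))))) (.node (.node (.node (.node (.node (.leaf (0, 0)) (.leaf (12, 1911))) (.node (.leaf (0, 0)) (.leaf (0, 1590)))) (.node (.node (.leaf (13, 1088)) (.leaf (14, 1737))) (.node (.leaf (12, 932)) (.leaf (0, 0))))) (.node (.node (.node (.leaf (0, 0)) (.leaf (15, 1206))) (.node (.leaf (0, 0)) (.leaf (14, 1791)))) (.node (.node (.leaf (5, 720)) (.leaf (14, 1052))) (.leaf (12, 845))))) (.node (.node (.node (.node (.leaf (0, 118)) (.leaf (15, 1142))) (.node (.leaf (0, 0)) (.leaf (12, 153)))) (.node (.node (.leaf (0, 0)) (.leaf (0, 0))) (.node (.leaf (12, 1460)) (.leaf (12, 1910))))) (.node (.node (.node (.leaf (0, 0)) (.leaf (0, 0))) (.node (.leaf (0, 0)) (.leaf (14, 1782)))) (.node (.node (.leaf (0, 0)) (.leaf (0, 0))) (.leaf (10, 292)))))))) (.node (.node (.node (.node (.node (.node (.node (.leaf (0, 0)) (.leaf (0, 0))) (.node (.leaf (0, 0)) (.leaf (12, 1224)))) (.node (.node (.leaf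 (0, 0)) (.leaf (14, 1882))) (.node (.leaf (0, 0)) (.leaf (15, 1806))))) (.node (.node (.node (.leaf (0, 0)) (.leaf (12, 186))) (.node (.leaf (3, 674)) (.leaf (12, 242)))) (.node (.node (.leaf (14, 1894)) (.leaf (0, 0))) (.leaf (13, 1538))))) (.node (.node (.node (.node (.leaf (0, 0)) (.leaf (0, 0))) (.node (.leaf (0, 0)) (.leaf (0, 0)))) (.node (.node (.leaf (0, 0)) (.leaf (0, 1510))) (.node (.leaf (0, 0)) (.leaf (14, 1908))))) (.node (.node (.node (.leaf (0, 0)) (.leaf (0, 0))) (.node (.leaf (0, 0)) (.leaf (3, 1742)))) (.node (.node (.leaf (0, 0)) (.leaf (0, 0))) (.leaf (12, 1742)))))) (.node (.node (.node (.node (.node (.leaf (0, 0)) (.leaf (0, 0))) (.node (.leaf (11, 3)) (.leaf (13, 1768)))) (.node (.node (.leaf (10, 76)) (.leaf (0, 0))) (.node (.leaf (9, 97)) (.leaf (13, 1910))))) (.node (.node (.node (.leaf (0, 0)) (.leaf (6, 93))) (.node (.leaf (0, 1476)) (.leaf (12, 641)))) (.node (.node (.leaf (0, 0)) (.leaf (0, 0))) (.leaf (0, 0))))) (.node (.node (.node (.node (.leaf (0, 0)) (.leaf (15, 1138))) (.node (.leaf (11, 517)) (.leaf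 (0, 0)))) (.node (.node (.leaf (0, 366)) (.leaf (14, 1485))) (.node (.leaf (0, 0)) (.leaf (15, 1902))))) (.node (.node (.node (.leaf (0, 238)) (.leaf (15, 1262))) (.node (.leaf (0, 0)) (.leaf (0, 1774)))) (.node (.node (.leaf (0, 0)) (.leaf (3, 1518))) (.leaf (0, 0))))))) (.node (.node (.node (.node (.node (.node (.leaf (0, 0)) (.leaf (15, 1054))) (.node (.leaf (0, 0)) (.leaf (11, 1601)))) (.node (.node (.leaf (0, 0)) (.leaf (12, 821))) (.node (.leaf (15, 798)) (.leaf (15, 1822))))) (.node (.node (.node (.leaf (0, 0)) (.leaf (0, 0))) (.node (.leaf (0, 0)) (.leaf (12, 345)))) (.node (.node (.leaf (0, 0)) (.leaf (0, 0))) (.leaf (0, 0))))) (.node (.node (.node (.node (.leaf (0, 0)) (.leaf (12, 412))) (.node (.leaf (13, 1041)) (.leaf (12, 593)))) (.node (.node (.leaf (0, 0)) (.leaf (15, 1374))) (.node (.leaf (5, 318)) (.leaf (12, 407))))) (.node (.node (.node (.leaf (0, 0)) (.leaf (5, 764))) (.node (.leaf (0, 0)) (.leaf (3, 1758)))) (.node (.node (.leaf (0, 0)) (.leaf (0, 0))) (.leaf (15, 990)))))) (.node (.node (.node (.node (.node (.leaf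 (0, 0)) (.leaf (14, 1669))) (.node (.leaf (0, 0)) (.leaf (0, 0)))) (.node (.node (.leaf (0, 0)) (.leaf (9, 954))) (.node (.leaf (11, 6)) (.leaf (14, 1912))))) (.node (.node (.node (.leaf (0, 0)) (.leaf (5, 900))) (.node (.leaf (0, 702)) (.leaf (0, 0)))) (.node (.node (.leaf (0, 0)) (.leaf (0, 0))) (.leaf (8, 958))))) (.node (.node (.node (.node (.leaf (0, 0)) (.leaf (5, 457))) (.node (.leaf (11, 996)) (.leaf (0, 0)))) (.node (.node (.leaf (0, 0)) (.leaf (0, 0))) (.node (.leaf (0, 0)) (.leaf (15, 1918))))) (.node (.node (.node (.leaf (0, 0)) (.leaf (12, 1476))) (.node (.leaf (12, 799)) (.leaf (15, 1800)))) (.node (.node (.leaf (0, 0)) (.leaf (5, 1135))) (.leaf (0, 0))))))))))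

def twoVia5 : Janko.Tree (ℕ × ℕ) :=
  (.node (.node (.node (.node (.node (.node (.node (.node (.node (.leaf (0, 0)) (.leaf (0, 0))) (.node (.leaf (0, 0)) (.leaf (0, 0)))) (.node (.node (.leaf (15, 433)) (.leaf (12, 958))) (.node (.leaf (0, 0)) (.leaf (1, 1794))))) (.node (.node (.node (.leaf (15, 149)) (.leaf (15, 1797))) (.node (.leaf (0, 0)) (.leaf (15, 1308)))) (.node (.node (.leaf (15, 958)) (.leaf (0, 0))) (.node (.leaf (15, 859)) (.leaf (5, 1553)))))) (.node (.node (.node (.node (.leaf (0, 0)) (.leaf (0, 0))) (.node (.leaf (0, 0)) (.leaf (12, 1755)))) (.node (.node (.leaf (0, 0)) (.leaf (15, 1096))) (.node (.leaf (0, 0)) (.leaf (15, 1719))))) (.node (.node (.node (.leaf (0, 0)) (.leaf (0, 0))) (.node (.leaf (0, 0)) (.leaf (12, 1071)))) (.node (.node (.leaf (0, 0)) (.leaf (12, 667))) (.leaf (0, 0)))))) (.node (.node (.node (.node (.node (.leaf (0, 0)) (.leaf (12, 237))) (.node (.leaf (0, 0)) (.leaf (15, 1549)))) (.node (.node (.leaf (1, 290)) (.leaf (0, 0))) (.node (.leaf (11, 292)) (.leaf (15, 1597))))) (.node (.node (.node (.leaf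 (0, 0)) (.leaf (0, 0))) (.node (.leaf (0, 0)) (.leaf (0, 0)))) (.node (.node (.leaf (15, 483)) (.leaf (15, 766))) (.leaf (0, 0))))) (.node (.node (.node (.node (.leaf (5, 22)) (.leaf (12, 832))) (.node (.leaf (1, 1372)) (.leaf (15, 1468)))) (.node (.node (.leaf (0, 0)) (.leaf (12, 1091))) (.node (.leaf (15, 488)) (.leaf (1, 1890))))) (.node (.node (.node (.leaf (0, 0)) (.leaf (15, 1218))) (.node (.leaf (1, 1152)) (.leaf (15, 1479)))) (.node (.node (.leaf (0, 0)) (.leaf (6, 252))) (.leaf (5, 1346))))))) (.node (.node (.node (.node (.node (.node (.leaf (0, 0)) (.leaf (3, 1211))) (.node (.leaf (15, 830)) (.leaf (9, 1163)))) (.node (.node (.leaf (0, 0)) (.leaf (0, 0))) (.node (.leaf (0, 0)) (.leaf (15, 1593))))) (.node (.node (.node (.leaf (0, 0)) (.leaf (0, 0))) (.node (.leaf (9, 1040)) (.leaf (15, 1683)))) (.node (.node (.leaf (0, 0)) (.leaf (0, 0))) (.leaf (13, 1144))))) (.node (.node (.node (.node (.leaf (0, 0)) (.leaf (0, 0))) (.node (.leaf (15, 939)) (.leaf (0, 0)))) (.node (.node (.leaf (0, 0)) (.leaf (15, 1649))) (.node (.leaf (11,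 523)) (.leaf (5, 1901))))) (.node (.node (.node (.leaf (0, 0)) (.leaf (15, 1274))) (.node (.leaf (0, 0)) (.leaf (0, 0)))) (.node (.node (.leaf (15, 1162)) (.leaf (15, 1776))) (.leaf (15, 982)))))) (.node (.node (.node (.node (.node (.leaf (0, 0)) (.leaf (0, 0))) (.node (.leaf (0, 0)) (.leaf (15, 1197)))) (.node (.node (.leaf (15, 314)) (.leaf (5, 568))) (.node (.leaf (0, 0)) (.leaf (12, 1665))))) (.node (.node (.node (.leaf (0, 0)) (.leaf (12, 311))) (.node (.leaf (15, 512)) (.leaf (3, 1590)))) (.node (.node (.leaf (0, 0)) (.leaf (0, 0))) (.leaf (15, 775))))) (.node (.node (.node (.node (.leaf (15, 125)) (.leaf (15, 1384))) (.node (.leaf (0, 0)) (.leaf (1, 1650)))) (.node (.node (.leaf (0, 0)) (.leaf (9, 619))) (.node (.leaf (0, 0)) (.leaf (12, 1122))))) (.node (.node (.node (.leaf (0, 0)) (.leaf (15, 940))) (.node (.leaf (0, 0)) (.leaf (15, 1915)))) (.node (.node (.leaf (12, 350)) (.leaf (15, 1528))) (.leaf (15, 847)))))))) (.node (.node (.node (.node (.node (.node (.node (.leaf (0, 0)) (.leaf (0, 0))) (.node (.leaf (0, 0)) (.leaf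 (12, 1058)))) (.node (.node (.leaf (0, 0)) (.leaf (0, 0))) (.node (.leaf (0, 0)) (.leaf (0, 0))))) (.node (.node (.node (.leaf (0, 0)) (.leaf (0, 0))) (.node (.leaf (13, 1824)) (.leaf (0, 0)))) (.node (.node (.leaf (0, 0)) (.leaf (12, 652))) (.leaf (0, 0))))) (.node (.node (.node (.node (.leaf (0, 0)) (.leaf (5, 895))) (.node (.leaf (0, 0)) (.leaf (15, 1710)))) (.node (.node (.leaf (0, 0)) (.leaf (0, 0))) (.node (.leaf (15, 1014)) (.leaf (10, 738))))) (.node (.node (.node (.leaf (15, 332)) (.leaf (15, 937))) (.node (.leaf (0, 0)) (.leaf (15, 1264)))) (.node (.node (.leaf (5, 280)) (.leaf (10, 1818))) (.leaf (13, 1633)))))) (.node (.node (.node (.node (.node (.leaf (0, 0)) (.leaf (15, 414))) (.node (.leaf (0, 0)) (.leaf (0, 0)))) (.node (.node (.leaf (0, 0)) (.leaf (15, 1530))) (.node (.leaf (0, 0)) (.leaf (15, 1662))))) (.node (.node (.node (.leaf (15, 274)) (.leaf (13, 1367))) (.node (.leaf (0, 0)) (.leaf (0, 0)))) (.node (.node (.leaf (0, 0)) (.leaf (15, 1040))) (.leaf (12, 1286))))) (.node (.node (.node (.node (.leaf (8, 52)) (.leaf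 (0, 0))) (.node (.leaf (0, 0)) (.leaf (15, 1258)))) (.node (.node (.leaf (15, 371)) (.leaf (15, 1461))) (.node (.leaf (15, 322)) (.leaf (1, 1898))))) (.node (.node (.node (.leaf (15, 243)) (.leaf (15, 1288))) (.node (.leaf (0, 0)) (.leaf (0, 0)))) (.node (.node (.leaf (0, 0)) (.leaf (12, 21))) (.leaf (0, 0))))))) (.node (.node (.node (.node (.node (.node (.leaf (0, 0)) (.leaf (0, 0))) (.node (.leaf (0, 0)) (.leaf (13, 1564)))) (.node (.node (.leaf (0, 0)) (.leaf (15, 1456))) (.node (.leaf (0, 0)) (.leaf (0, 0))))) (.node (.node (.node (.leaf (0, 0)) (.leaf (15, 946))) (.node (.leaf (15, 140)) (.leaf (9, 926)))) (.node (.node (.leaf (12, 490)) (.leaf (13, 809))) (.leaf (15, 1110))))) (.node (.node (.node (.node (.leaf (0, 0)) (.leaf (0, 0))) (.node (.leaf (0, 0)) (.leaf (15, 1825)))) (.node (.node (.leaf (15, 558)) (.leaf (15, 1543))) (.node (.leaf (15, 862)) (.leaf (1, 1882))))) (.node (.node (.node (.leaf (15, 340)) (.leaf (15, 1427))) (.node (.leaf (0, 0)) (.leaf (14, 1675)))) (.node (.node (.leaf (0, 0)) (.leaf (15, 1870))) (.leaf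 (13, 999)))))) (.node (.node (.node (.node (.node (.leaf (0, 0)) (.leaf (15, 1366))) (.node (.leaf (12, 678)) (.leaf (5, 763)))) (.node (.node (.leaf (0, 0)) (.leaf (11, 1340))) (.node (.leaf (5, 242)) (.leaf (11, 1304))))) (.node (.node (.node (.leaf (0, 0)) (.leaf (13, 1560))) (.node (.leaf (1, 698)) (.leaf (15, 1698)))) (.node (.node (.leaf (0, 0)) (.leaf (0, 0))) (.leaf (15, 1048))))) (.node (.node (.node (.node (.leaf (0, 0)) (.leaf (15, 1400))) (.node (.leaf (0, 0)) (.leaf (3, 1482)))) (.node (.node (.leaf (0, 0)) (.leaf (0, 0))) (.node (.leaf (0, 0)) (.leaf (15, 1919))))) (.node (.node (.node (.leaf (0, 0)) (.leaf (0, 0))) (.node (.leaf (0, 0)) (.leaf (12, 1721)))) (.node (.node (.leaf (0, 0)) (.leaf (10, 697))) (.leaf (0, 0))))))))) (.node (.node (.node (.node (.node (.node (.node (.node (.leaf (0, 0)) (.leaf (0, 0))) (.node (.leaf (0, 0)) (.leaf (0, 0)))) (.node (.node (.leaf (0, 0)) (.leaf (0, 0))) (.node (.leaf (15, 1171)) (.leaf (0, 0))))) (.node (.node (.node (.leaf (0, 0)) (.leaf (0, 0))) (.node (.leaf (0, 0)) (.leaf (13,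 904)))) (.node (.node (.leaf (0, 0)) (.leaf (15, 381))) (.node (.leaf (15, 825)) (.leaf (13, 575)))))) (.node (.node (.node (.node (.leaf (0, 0)) (.leaf (15, 1081))) (.node (.leaf (0, 0)) (.leaf (15, 1762)))) (.node (.node (.leaf (0, 0)) (.leaf (0, 0))) (.node (.leaf (0, 0)) (.leaf (15, 1899))))) (.node (.node (.node (.leaf (0, 0)) (.leaf (0, 0))) (.node (.leaf (0, 0)) (.leaf (0, 0)))) (.node (.node (.leaf (15, 736)) (.leaf (15, 997))) (.leaf (11, 362)))))) (.node (.node (.node (.node (.node (.leaf (0, 0)) (.leaf (10, 241))) (.node (.leaf (0, 0)) (.leaf (0, 0)))) (.node (.node (.leaf (12, 980)) (.leaf (5, 1325))) (.node (.leaf (12, 1168)) (.leaf (15, 1467))))) (.node (.node (.node (.leaf (0, 0)) (.leaf (5, 480))) (.node (.leaf (0, 0)) (.leaf (15, 1688)))) (.node (.node (.leaf (0, 0)) (.leaf (15, 1694))) (.leaf (0, 0))))) (.node (.node (.node (.node (.leaf (0, 0)) (.leaf (0, 0))) (.node (.leaf (0, 0)) (.leaf (12, 716)))) (.node (.node (.leaf (0, 0)) (.leaf (0, 0))) (.node (.leaf (0, 0)) (.leaf (15, 1917))))) (.node (.node (.node (.leaf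 (0, 0)) (.leaf (0, 0))) (.node (.leaf (11, 1135)) (.leaf (1, 1766)))) (.node (.node (.leaf (0, 0)) (.leaf (15, 1887))) (.leaf (15, 1459))))))) (.node (.node (.node (.node (.node (.node (.leaf (0, 0)) (.leaf (0, 0))) (.node (.leaf (0, 0)) (.leaf (15, 1163)))) (.node (.node (.leaf (0, 0)) (.leaf (15, 1136))) (.node (.leaf (15, 603)) (.leaf (15, 1578))))) (.node (.node (.node (.leaf (0, 0)) (.leaf (15, 1503))) (.node (.leaf (0, 0)) (.leaf (13, 1908)))) (.node (.node (.leaf (15, 555)) (.leaf (0, 0))) (.leaf (15, 1251))))) (.node (.node (.node (.node (.leaf (0, 0)) (.leaf (6, 1111))) (.node (.leaf (0, 0)) (.leaf (1, 1622)))) (.node (.node (.leaf (0, 0)) (.leaf (0, 0))) (.node (.leaf (15, 1237)) (.leaf (15, 1741))))) (.node (.node (.node (.leaf (0, 0)) (.leaf (15, 1055))) (.node (.leaf (0, 0)) (.leaf (15, 1739)))) (.node (.node (.leaf (0, 0)) (.leaf (15, 837))) (.leaf (15, 619)))))) (.node (.node (.node (.node (.node (.leaf (15, 77)) (.leaf (0, 0))) (.node (.leaf (0, 0)) (.leaf (15, 1684)))) (.node (.node (.leaf (0, 0)) (.leaf (12, 1390)))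 (.node (.leaf (0, 0)) (.leaf (12, 1402))))) (.node (.node (.node (.leaf (0, 0)) (.leaf (13, 1559))) (.node (.leaf (0, 0)) (.leaf (0, 0)))) (.node (.node (.leaf (0, 0)) (.leaf (10, 405))) (.leaf (15, 1260))))) (.node (.node (.node (.node (.leaf (0, 0)) (.leaf (12, 403))) (.node (.leaf (0, 0)) (.leaf (13, 1770)))) (.node (.node (.leaf (0, 0)) (.leaf (15, 1674))) (.node (.leaf (0, 0)) (.leaf (15, 1838))))) (.node (.node (.node (.leaf (0, 0)) (.leaf (1, 1270))) (.node (.leaf (11, 764)) (.leaf (12, 1314)))) (.node (.node (.leaf (15, 506)) (.leaf (10, 261))) (.leaf (15, 1591)))))))) (.node (.node (.node (.node (.node (.node (.node (.leaf (0, 0)) (.leaf (0, 0))) (.node (.leaf (0, 0)) (.leaf (0, 0)))) (.node (.node (.leaf (0, 0)) (.leaf (15, 1025))) (.node (.leaf (1, 1190)) (.leaf (5, 1402))))) (.node (.node (.node (.leaf (15, 626)) (.leaf (15, 1127))) (.node (.leaf (0, 0)) (.leaf (5, 564)))) (.node (.node (.leaf (0, 0)) (.leaf (15, 1636))) (.leaf (1, 1330))))) (.node (.node (.node (.node (.leaf (0, 0)) (.leaf (0, 0))) (.node (.leaf (0, 0))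 (.leaf (0, 0)))) (.node (.node (.leaf (15, 353)) (.leaf (15, 857))) (.node (.leaf (0, 0)) (.leaf (15, 1868))))) (.node (.node (.node (.leaf (15, 225)) (.leaf (0, 0))) (.node (.leaf (15, 1189)) (.leaf (0, 0)))) (.node (.node (.leaf (0, 0)) (.leaf (15, 1781))) (.leaf (13, 1737)))))) (.node (.node (.node (.node (.node (.leaf (0, 0)) (.leaf (15, 1763))) (.node (.leaf (0, 0)) (.leaf (12, 1882)))) (.node (.node (.leaf (0, 0)) (.leaf (0, 0))) (.node (.leaf (0, 0)) (.leaf (15, 1661))))) (.node (.node (.node (.leaf (0, 0)) (.leaf (0, 0))) (.node (.leaf (1, 686)) (.leaf (15, 1823)))) (.node (.node (.leaf (15, 291)) (.leaf (0, 0))) (.leaf (1, 1699))))) (.node (.node (.node (.node (.leaf (0, 0)) (.leaf (0, 0))) (.node (.leaf (15, 559)) (.leaf (15, 1279)))) (.node (.node (.leaf (11, 1451)) (.leaf (12, 1483))) (.node (.leaf (0, 0)) (.leaf (11, 1640))))) (.node (.node (.node (.leaf (0, 0)) (.leaf (0, 0))) (.node (.leaf (0, 0)) (.leaf (0, 0)))) (.node (.node (.leaf (15, 788)) (.leaf (0, 0))) (.leaf (0, 0))))))) (.node (.node (.node (.node (.node (.node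 (.leaf (1, 30)) (.leaf (15, 1058))) (.node (.leaf (0, 0)) (.leaf (0, 0)))) (.node (.node (.leaf (0, 0)) (.leaf (12, 926))) (.node (.leaf (15, 1588)) (.leaf (1, 1826))))) (.node (.node (.node (.leaf (15, 169)) (.leaf (0, 0))) (.node (.leaf (0, 0)) (.leaf (0, 0)))) (.node (.node (.leaf (0, 0)) (.leaf (5, 1244))) (.leaf (0, 0))))) (.node (.node (.node (.node (.leaf (15, 104)) (.leaf (15, 1518))) (.node (.leaf (15, 1029)) (.leaf (15, 1252)))) (.node (.node (.leaf (0, 0)) (.leaf (5, 354))) (.node (.leaf (10, 1054)) (.leaf (14, 1839))))) (.node (.node (.node (.leaf (0, 0)) (.leaf (15, 1499))) (.node (.leaf (0, 0)) (.leaf (15, 1534)))) (.node (.node (.leaf (0, 0)) (.leaf (15, 1733))) (.leaf (0, 0)))))) (.node (.node (.node (.node (.node (.leaf (0, 0)) (.leaf (0, 0))) (.node (.leaf (1, 574)) (.leaf (0, 0)))) (.node (.node (.leaf (0, 0)) (.leaf (15, 1483))) (.node (.leaf (15, 1241)) (.leaf (15, 1723))))) (.node (.node (.node (.leaf (0, 0)) (.leaf (14, 1793))) (.node (.leaf (0, 0)) (.leaf (15, 1655)))) (.node (.node (.leaf (15, 453)) (.leaf (0,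 0))) (.leaf (0, 0))))) (.node (.node (.node (.node (.leaf (15, 199)) (.leaf (12, 268))) (.node (.leaf (0, 0)) (.leaf (15, 1625)))) (.node (.node (.leaf (0, 0)) (.leaf (15, 1399))) (.node (.leaf (0, 0)) (.leaf (15, 1909))))) (.node (.node (.node (.leaf (0, 0)) (.leaf (0, 0))) (.node (.leaf (0, 0)) (.leaf (1, 1790)))) (.node (.node (.leaf (15, 1077)) (.leaf (0, 0))) (.leaf (10, 130))))))))))

def twoVia6 : Janko.Tree (ℕ × ℕ) :=
  (.node (.node (.node (.node (.node (.node (.node (.node (.node (.leaf (0, 0)) (.leaf (15, 1027))) (.node (.leaf (12, 52)) (.leaf (15, 1539)))) (.node (.node (.leaf (0, 0)) (.leaf (15, 1283))) (.node (.leaf (0, 0)) (.leaf (15, 1795))))) (.node (.node (.node (.leaf (0, 0)) (.leaf (12, 721))) (.node (.leaf (0, 0)) (.leaf (15, 1667)))) (.node (.node (.leaf (0, 0)) (.leaf (15, 1411))) (.node (.leaf (0, 0)) (.leaf (6, 149)))))) (.node (.node (.node (.node (.leaf (0, 0)) (.leaf (0, 0))) (.node (.leaf (0, 0)) (.leaf (0, 0)))) (.node (.node (.leaf (0, 0)) (.leaf (0, 0))) (.node (.leaf (0, 0)) (.leaf (15, 1859))))) (.node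 (.node (.node (.leaf (0, 0)) (.leaf (0, 0))) (.node (.leaf (3, 723)) (.leaf (5, 1695)))) (.node (.node (.leaf (3, 474)) (.leaf (15, 1475))) (.leaf (0, 0)))))) (.node (.node (.node (.node (.node (.leaf (0, 0)) (.leaf (0, 0))) (.node (.leaf (0, 0)) (.leaf (14, 1817)))) (.node (.node (.leaf (0, 0)) (.leaf (0, 0))) (.node (.leaf (0, 0)) (.leaf (14, 1916))))) (.node (.node (.node (.leaf (0, 0)) (.leaf (15, 1187))) (.node (.leaf (0, 0)) (.leaf (12, 180)))) (.node (.node (.leaf (0, 0)) (.leaf (0, 0))) (.leaf (15, 931))))) (.node (.node (.node (.node (.leaf (0, 0)) (.leaf (12, 1766))) (.node (.leaf (15, 611)) (.leaf (13, 1897)))) (.node (.node (.leaf (0, 0)) (.leaf (0, 0))) (.node (.leaf (0, 867)) (.leaf (15, 1891))))) (.node (.node (.node (.leaf (0, 0)) (.leaf (9, 1332))) (.node (.leaf (0, 0)) (.leaf (12, 1763)))) (.node (.node (.leaf (12, 1486)) (.leaf (11, 252))) (.leaf (15, 995))))))) (.node (.node (.node (.node (.node (.node (.leaf (0, 0)) (.leaf (0, 0))) (.node (.leaf (0, 0)) (.leaf (12, 49)))) (.node (.node (.leaf (0, 0)) (.leaf (13,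 1750))) (.node (.leaf (15, 1139)) (.leaf (10, 163))))) (.node (.node (.node (.leaf (4, 147)) (.leaf (14, 890))) (.node (.leaf (0, 0)) (.leaf (14, 1694)))) (.node (.node (.leaf (0, 0)) (.leaf (13, 1647))) (.leaf (0, 0))))) (.node (.node (.node (.node (.leaf (0, 0)) (.leaf (0, 0))) (.node (.leaf (0, 0)) (.leaf (12, 1406)))) (.node (.node (.leaf (0, 0)) (.leaf (14, 1403))) (.node (.leaf (13, 1734)) (.leaf (15, 1875))))) (.node (.node (.node (.leaf (0, 0)) (.leaf (0, 0))) (.node (.leaf (9, 144)) (.leaf (11, 1422)))) (.node (.node (.leaf (0, 0)) (.leaf (0, 0))) (.leaf (0, 0)))))) (.node (.node (.node (.node (.node (.leaf (0, 0)) (.leaf (0, 0))) (.node (.leaf (0, 0)) (.leaf (0, 0)))) (.node (.node (.leaf (0, 307)) (.leaf (0, 0))) (.node (.leaf (0, 0)) (.leaf (13, 1879))))) (.node (.node (.node (.leaf (0, 0)) (.leaf (0, 0))) (.node (.leaf (10, 783)) (.leaf (0, 0)))) (.node (.node (.leaf (15, 435)) (.leaf (12, 181))) (.leaf (0, 0))))) (.node (.node (.node (.node (.leaf (0, 0)) (.leaf (12, 1139))) (.node (.leaf (0, 0)) (.leaf (15, 1651)))) (.node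 (.node (.leaf (0, 371)) (.leaf (0, 1395))) (.node (.leaf (0, 0)) (.leaf (13, 1907))))) (.node (.node (.node (.leaf (5, 98)) (.leaf (15, 1267))) (.node (.leaf (12, 271)) (.leaf (4, 249)))) (.node (.node (.leaf (0, 0)) (.leaf (5, 734))) (.leaf (15, 1519)))))))) (.node (.node (.node (.node (.node (.node (.node (.leaf (0, 0)) (.leaf (15, 1035))) (.node (.leaf (0, 0)) (.leaf (15, 1547)))) (.node (.node (.leaf (0, 0)) (.leaf (6, 326))) (.node (.leaf (0, 0)) (.leaf (11, 48))))) (.node (.node (.node (.leaf (0, 0)) (.leaf (0, 0))) (.node (.leaf (0, 0)) (.leaf (0, 0)))) (.node (.node (.leaf (0, 0)) (.leaf (15, 1419))) (.leaf (0, 0))))) (.node (.node (.node (.node (.leaf (0, 0)) (.leaf (0, 0))) (.node (.leaf (0, 0)) (.leaf (15, 1611)))) (.node (.node (.leaf (0, 0)) (.leaf (15, 1496))) (.node (.leaf (12, 260)) (.leaf (14, 1762))))) (.node (.node (.node (.leaf (0, 0)) (.leaf (12, 1555))) (.node (.leaf (11, 1358)) (.leaf (12, 1757)))) (.node (.node (.leaf (15, 896)) (.leaf (11, 318))) (.leaf (0, 0)))))) (.node (.node (.node (.node (.node (.leaf (0,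 0)) (.leaf (11, 40))) (.node (.leaf (12, 1586)) (.leaf (3, 1811)))) (.node (.node (.leaf (0, 0)) (.leaf (11, 61))) (.node (.leaf (0, 0)) (.leaf (0, 0))))) (.node (.node (.node (.leaf (0, 0)) (.leaf (0, 0))) (.node (.leaf (15, 683)) (.leaf (12, 1707)))) (.node (.node (.leaf (0, 0)) (.leaf (12, 1039))) (.leaf (10, 117))))) (.node (.node (.node (.node (.leaf (0, 0)) (.leaf (0, 0))) (.node (.leaf (0, 0)) (.leaf (0, 0)))) (.node (.node (.leaf (0, 0)) (.leaf (0, 1387))) (.node (.leaf (12, 135)) (.leaf (12, 1805))))) (.node (.node (.node (.leaf (0, 0)) (.leaf (15, 1259))) (.node (.leaf (0, 0)) (.leaf (15, 1771)))) (.node (.node (.leaf (12, 91)) (.leaf (15, 1515))) (.leaf (0, 0))))))) (.node (.node (.node (.node (.node (.node (.leaf (0, 0)) (.leaf (15, 1051))) (.node (.leaf (11, 288)) (.leaf (11, 1563)))) (.node (.node (.leaf (0, 0)) (.leaf (14, 1701))) (.node (.leaf (12, 539)) (.leaf (15, 1819))))) (.node (.node (.node (.leaf (0, 0)) (.leaf (12, 382))) (.node (.leaf (0, 0)) (.leaf (12, 925)))) (.node (.node (.leaf (0, 0)) (.leaf (15, 1435)))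 (.leaf (0, 0))))) (.node (.node (.node (.node (.leaf (0, 0)) (.leaf (0, 0))) (.node (.leaf (0, 0)) (.leaf (5, 1647)))) (.node (.node (.leaf (0, 0)) (.leaf (4, 1371))) (.node (.leaf (5, 531)) (.leaf (14, 1883))))) (.node (.node (.node (.leaf (0, 0)) (.leaf (11, 1255))) (.node (.leaf (0, 731)) (.leaf (15, 1755)))) (.node (.node (.leaf (0, 0)) (.leaf (0, 1499))) (.leaf (0, 0)))))) (.node (.node (.node (.node (.node (.leaf (0, 0)) (.leaf (0, 0))) (.node (.leaf (0, 0)) (.leaf (15, 1595)))) (.node (.node (.leaf (0, 0)) (.leaf (12, 111))) (.node (.leaf (14, 1887)) (.leaf (12, 1306))))) (.node (.node (.node (.leaf (5, 30)) (.leaf (15, 1211))) (.node (.leaf (5, 142)) (.leaf (12, 1323)))) (.node (.node (.leaf (0, 0)) (.leaf (12, 1493))) (.leaf (15, 955))))) (.node (.node (.node (.node (.leaf (3, 147)) (.leaf (12, 1129))) (.node (.leaf (0, 0)) (.leaf (15, 1659)))) (.node (.node (.leaf (0, 0)) (.leaf (0, 0))) (.node (.leaf (0, 0)) (.leaf (10, 760))))) (.node (.node (.node (.leaf (0, 0)) (.leaf (0, 0))) (.node (.leaf (0, 0)) (.leaf (0, 0)))) (.node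 (.node (.leaf (0, 0)) (.leaf (11, 1531))) (.leaf (0, 0))))))))) (.node (.node (.node (.node (.node (.node (.node (.node (.leaf (0, 0)) (.leaf (0, 0))) (.node (.leaf (0, 0)) (.leaf (14, 1752)))) (.node (.node (.leaf (0, 0)) (.leaf (15, 1287))) (.node (.leaf (12, 1126)) (.leaf (0, 0))))) (.node (.node (.node (.leaf (0, 0)) (.leaf (11, 113))) (.node (.leaf (0, 0)) (.leaf (0, 1671)))) (.node (.node (.leaf (15, 1372)) (.leaf (15, 1415))) (.node (.leaf (0, 0)) (.leaf (14, 1776)))))) (.node (.node (.node (.node (.leaf (0, 0)) (.leaf (11, 998))) (.node (.leaf (0, 0)) (.leaf (5, 1556)))) (.node (.node (.leaf (0, 327)) (.leaf (11, 1419))) (.node (.leaf (10, 28)) (.leaf (13, 1863))))) (.node (.node (.node (.leaf (11, 575)) (.leaf (15, 1223))) (.node (.leaf (0, 0)) (.leaf (15, 1751)))) (.node (.node (.leaf (0, 0)) (.leaf (0, 1479))) (.leaf (0, 0)))))) (.node (.node (.node (.node (.node (.leaf (0, 0)) (.leaf (0, 0))) (.node (.leaf (0, 0)) (.leaf (12, 1575)))) (.node (.node (.leaf (0, 0)) (.leaf (0, 0))) (.node (.leaf (9, 273)) (.leaf (15, 1831)))))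 (.node (.node (.node (.leaf (3, 167)) (.leaf (15, 1346))) (.node (.leaf (12, 1414)) (.leaf (9, 1814)))) (.node (.node (.leaf (11, 213)) (.leaf (14, 1863))) (.leaf (12, 1027))))) (.node (.node (.node (.node (.leaf (11, 103)) (.leaf (0, 0))) (.node (.leaf (0, 0)) (.leaf (15, 1692)))) (.node (.node (.leaf (15, 359)) (.leaf (0, 1677))) (.node (.leaf (0, 0)) (.leaf (15, 1895))))) (.node (.node (.node (.leaf (0, 0)) (.leaf (12, 287))) (.node (.leaf (10, 85)) (.leaf (0, 0)))) (.node (.node (.leaf (0, 0)) (.leaf (12, 1679))) (.leaf (12, 1378))))))) (.node (.node (.node (.node (.node (.node (.leaf (0, 0)) (.leaf (0, 1047))) (.node (.leaf (10, 13)) (.leaf (10, 1559)))) (.node (.node (.leaf (0, 0)) (.leaf (5, 330))) (.node (.leaf (0, 0)) (.leaf (13, 1815))))) (.node (.node (.node (.leaf (0, 0)) (.leaf (0, 0))) (.node (.leaf (15, 667)) (.leaf (15, 1687)))) (.node (.node (.leaf (0, 0)) (.leaf (15, 1678))) (.leaf (0, 0))))) (.node (.node (.node (.node (.leaf (0, 0)) (.leaf (0, 1111))) (.node (.leaf (0, 0)) (.leaf (15, 1623)))) (.node (.node (.leaf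 (0, 0)) (.leaf (15, 1367))) (.node (.leaf (0, 0)) (.leaf (0, 1879))))) (.node (.node (.node (.leaf (0, 0)) (.leaf (14, 1416))) (.node (.leaf (14, 1900)) (.leaf (5, 1856)))) (.node (.node (.leaf (0, 0)) (.leaf (15, 1495))) (.leaf (0, 0)))))) (.node (.node (.node (.node (.node (.leaf (0, 0)) (.leaf (0, 0))) (.node (.leaf (0, 0)) (.leaf (12, 1706)))) (.node (.node (.leaf (0, 0)) (.leaf (6, 62))) (.node (.leaf (0, 0)) (.leaf (15, 1847))))) (.node (.node (.node (.leaf (0, 0)) (.leaf (0, 0))) (.node (.leaf (0, 0)) (.leaf (10, 1719)))) (.node (.node (.leaf (0, 0)) (.leaf (0, 0))) (.leaf (0, 0))))) (.node (.node (.node (.node (.leaf (0, 0)) (.leaf (0, 0))) (.node (.leaf (0, 0)) (.leaf (0, 0)))) (.node (.node (.leaf (0, 0)) (.leaf (0, 1399))) (.node (.leaf (12, 1653)) (.leaf (12, 1284))))) (.node (.node (.node (.leaf (0, 0)) (.leaf (13, 1531))) (.node (.leaf (0, 759)) (.leaf (10, 145)))) (.node (.node (.leaf (15, 503)) (.leaf (5, 1527))) (.leaf (12, 1737)))))))) (.node (.node (.node (.node (.node (.node (.node (.leaf (0, 15)) (.leaf (15, 1039)))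 (.node (.leaf (0, 0)) (.leaf (0, 0)))) (.node (.node (.leaf (0, 0)) (.leaf (9, 260))) (.node (.leaf (12, 538)) (.leaf (14, 1903))))) (.node (.node (.node (.leaf (0, 0)) (.leaf (12, 833))) (.node (.leaf (5, 1168)) (.leaf (12, 1829)))) (.node (.node (.leaf (0, 0)) (.leaf (12, 1423))) (.leaf (0, 0))))) (.node (.node (.node (.node (.leaf (5, 82)) (.leaf (14, 1792))) (.node (.leaf (12, 741)) (.leaf (0, 0)))) (.node (.node (.leaf (0, 0)) (.leaf (15, 1617))) (.node (.leaf (12, 127)) (.leaf (15, 1871))))) (.node (.node (.node (.leaf (0, 0)) (.leaf (0, 0))) (.node (.leaf (15, 1293)) (.leaf (3, 1743)))) (.node (.node (.leaf (4, 463)) (.leaf (14, 1851))) (.leaf (15, 975)))))) (.node (.node (.node (.node (.node (.leaf (0, 0)) (.leaf (0, 0))) (.node (.leaf (0, 0)) (.leaf (12, 384)))) (.node (.node (.leaf (0, 0)) (.leaf (15, 1328))) (.node (.leaf (0, 0)) (.leaf (0, 0))))) (.node (.node (.node (.leaf (0, 0)) (.leaf (0, 0))) (.node (.leaf (0, 687)) (.leaf (12, 254)))) (.node (.node (.leaf (13, 1411)) (.leaf (5, 1665))) (.leaf (15, 943))))) (.node (.node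 (.node (.node (.leaf (0, 0)) (.leaf (15, 1135))) (.node (.leaf (0, 0)) (.leaf (11, 1280)))) (.node (.node (.leaf (0, 0)) (.leaf (0, 0))) (.node (.leaf (0, 0)) (.leaf (12, 1874))))) (.node (.node (.node (.leaf (0, 0)) (.leaf (12, 634))) (.node (.leaf (10, 108)) (.leaf (12, 729)))) (.node (.node (.leaf (0, 0)) (.leaf (12, 1341))) (.leaf (12, 1421))))))) (.node (.node (.node (.node (.node (.node (.leaf (0, 0)) (.leaf (0, 0))) (.node (.leaf (0, 0)) (.leaf (15, 1567)))) (.node (.node (.leaf (15, 287)) (.leaf (0, 0))) (.node (.leaf (0, 0)) (.leaf (12, 1774))))) (.node (.node (.node (.leaf (0, 0)) (.leaf (12, 1181))) (.node (.leaf (0, 0)) (.leaf (12, 978)))) (.node (.node (.leaf (0, 0)) (.leaf (0, 0))) (.leaf (0, 0))))) (.node (.node (.node (.node (.leaf (0, 0)) (.leaf (12, 1712))) (.node (.leaf (15, 607)) (.leaf (10, 1169)))) (.node (.node (.leaf (9, 61)) (.leaf (14, 1599))) (.node (.leaf (0, 0)) (.leaf (10, 239))))) (.node (.node (.node (.leaf (8, 64)) (.leaf (0, 0))) (.node (.leaf (0, 0)) (.leaf (15, 1759)))) (.node (.node (.leaf (13, 705))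 (.leaf (10, 278))) (.leaf (0, 0)))))) (.node (.node (.node (.node (.node (.leaf (0, 0)) (.leaf (0, 0))) (.node (.leaf (0, 575)) (.leaf (15, 1782)))) (.node (.node (.leaf (0, 0)) (.leaf (0, 0))) (.node (.leaf (0, 0)) (.leaf (15, 1855))))) (.node (.node (.node (.leaf (0, 0)) (.leaf (15, 1215))) (.node (.leaf (0, 0)) (.leaf (12, 1403)))) (.node (.node (.leaf (0, 447)) (.leaf (12, 1061))) (.leaf (0, 0))))) (.node (.node (.node (.node (.leaf (0, 0)) (.leaf (11, 1151))) (.node (.leaf (0, 0)) (.leaf (14, 1846)))) (.node (.node (.leaf (0, 0)) (.leaf (0, 0))) (.node (.leaf (15, 1100)) (.leaf (14, 1919))))) (.node (.node (.node (.leaf (0, 0)) (.leaf (0, 0))) (.node (.leaf (12, 922)) (.leaf (15, 1815)))) (.node (.node (.leaf (0, 0)) (.leaf (12, 1509))) (.leaf (12, 1021))))))))))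

def twoVia7 : Janko.Tree (ℕ × ℕ) :=
  (.node (.node (.node (.node (.node (.node (.node (.node (.node (.leaf (0, 0)) (.leaf (0, 0))) (.node (.leaf (0, 0)) (.leaf (13, 1739)))) (.node (.node (.leaf (6, 130)) (.leaf (1, 1283))) (.node (.leaf (0, 0)) (.leaf (11, 1453))))) (.node (.node (.node (.leaf (0, 0)) (.leaf (13, 1874))) (.node (.leaf (15, 224)) (.leaf (15, 1352)))) (.node (.node (.leaf (0, 0)) (.leaf (15, 1378))) (.node (.leaf (15, 1214)) (.leaf (7, 147)))))) (.node (.node (.node (.node (.leaf (0, 0)) (.leaf (15, 254))) (.node (.leaf (0, 0)) (.leaf (14, 1412)))) (.node (.node (.leaf (0, 0)) (.leaf (1, 1407))) (.node (.leaf (0, 0)) (.leaf (11, 1551))))) (.node (.node (.node (.leaf (0, 0)) (.leaf (15, 1629))) (.node (.leaf (0, 0)) (.leaf (15, 1554)))) (.node (.node (.leaf (0, 0)) (.leaf (5, 680))) (.leaf (0, 0)))))) (.node (.node (.node (.node (.node (.leaf (0, 0)) (.leaf (0, 0))) (.node (.leaf (15, 327)) (.leaf (0, 0)))) (.node (.node (.leaf (0, 0)) (.leaf (0, 0))) (.node (.leaf (0, 0)) (.leaf (12, 503))))) (.node (.node (.node (.leaf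 (0, 0)) (.leaf (15, 1123))) (.node (.leaf (15, 803)) (.leaf (15, 590)))) (.node (.node (.leaf (0, 0)) (.leaf (15, 1685))) (.leaf (0, 0))))) (.node (.node (.node (.node (.leaf (0, 0)) (.leaf (15, 1375))) (.node (.leaf (0, 0)) (.leaf (1, 1635)))) (.node (.node (.leaf (0, 0)) (.leaf (12, 1141))) (.node (.leaf (0, 0)) (.leaf (13, 1708))))) (.node (.node (.node (.leaf (0, 0)) (.leaf (15, 844))) (.node (.leaf (0, 0)) (.leaf (15, 1103)))) (.node (.node (.leaf (0, 0)) (.leaf (15, 1758))) (.leaf (15, 575))))))) (.node (.node (.node (.node (.node (.node (.leaf (0, 0)) (.leaf (15, 1085))) (.node (.leaf (15, 1208)) (.leaf (15, 1558)))) (.node (.node (.leaf (0, 0)) (.leaf (15, 1303))) (.node (.leaf (15, 1105)) (.leaf (15, 1901))))) (.node (.node (.node (.leaf (0, 0)) (.leaf (15, 1368))) (.node (.leaf (0, 0)) (.leaf (0, 0)))) (.node (.node (.leaf (15, 654)) (.leaf (15, 1428))) (.leaf (0, 0))))) (.node (.node (.node (.node (.leaf (0, 0)) (.leaf (15, 1307))) (.node (.leaf (11, 194)) (.leaf (15, 1785)))) (.node (.node (.leaf (0, 0)) (.leaf (12, 939)))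 (.node (.leaf (15, 842)) (.leaf (15, 1627))))) (.node (.node (.node (.leaf (0, 0)) (.leaf (15, 1438))) (.node (.leaf (15, 1111)) (.leaf (15, 1814)))) (.node (.node (.leaf (0, 0)) (.leaf (15, 1747))) (.leaf (14, 1354)))))) (.node (.node (.node (.node (.node (.leaf (0, 0)) (.leaf (0, 0))) (.node (.leaf (0, 0)) (.leaf (1, 1587)))) (.node (.node (.leaf (0, 0)) (.leaf (12, 1080))) (.node (.leaf (15, 1023)) (.leaf (0, 0))))) (.node (.node (.node (.leaf (0, 0)) (.leaf (0, 0))) (.node (.leaf (0, 0)) (.leaf (15, 1821)))) (.node (.node (.leaf (0, 0)) (.leaf (1, 1459))) (.leaf (15, 1671))))) (.node (.node (.node (.node (.leaf (0, 0)) (.leaf (1, 1139))) (.node (.leaf (0, 0)) (.leaf (1, 1651)))) (.node (.node (.leaf (0, 0)) (.leaf (0, 0))) (.node (.leaf (11, 884)) (.leaf (15, 1886))))) (.node (.node (.node (.leaf (0, 0)) (.leaf (15, 1167))) (.node (.leaf (9, 961)) (.leaf (15, 1711)))) (.node (.node (.leaf (0, 0)) (.leaf (15, 1469))) (.leaf (6, 128)))))))) (.node (.node (.node (.node (.node (.node (.node (.leaf (0, 0)) (.leaf (5, 226))) (.node (.leaf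 (0, 0)) (.leaf (15, 1748)))) (.node (.node (.leaf (0, 0)) (.leaf (0, 0))) (.node (.leaf (0, 0)) (.leaf (15, 1645))))) (.node (.node (.node (.leaf (15, 413)) (.leaf (0, 0))) (.node (.leaf (0, 0)) (.leaf (15, 1707)))) (.node (.node (.leaf (1, 395)) (.leaf (0, 0))) (.leaf (0, 0))))) (.node (.node (.node (.node (.leaf (0, 0)) (.leaf (15, 1448))) (.node (.leaf (11, 1258)) (.leaf (0, 0)))) (.node (.node (.leaf (0, 0)) (.leaf (12, 1780))) (.node (.leaf (15, 850)) (.leaf (15, 1353))))) (.node (.node (.node (.leaf (0, 0)) (.leaf (0, 0))) (.node (.leaf (0, 0)) (.leaf (12, 1491)))) (.node (.node (.leaf (0, 0)) (.leaf (0, 0))) (.leaf (15, 612)))))) (.node (.node (.node (.node (.node (.leaf (0, 0)) (.leaf (0, 0))) (.node (.leaf (0, 0)) (.leaf (15, 1181)))) (.node (.node (.leaf (0, 0)) (.leaf (0, 0))) (.node (.leaf (15, 843)) (.leaf (15, 841))))) (.node (.node (.node (.leaf (0, 0)) (.leaf (12, 1365))) (.node (.leaf (15, 687)) (.leaf (12, 669)))) (.node (.node (.leaf (1, 719)) (.leaf (15, 1376))) (.leaf (15, 352))))) (.node (.node (.node (.node (.leaf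 (0, 0)) (.leaf (0, 0))) (.node (.leaf (0, 0)) (.leaf (15, 1844)))) (.node (.node (.leaf (0, 0)) (.leaf (15, 971))) (.node (.leaf (15, 1056)) (.leaf (15, 1862))))) (.node (.node (.node (.leaf (0, 0)) (.leaf (15, 852))) (.node (.leaf (15, 1126)) (.leaf (13, 1887)))) (.node (.node (.leaf (0, 0)) (.leaf (15, 1112))) (.leaf (1, 1424))))))) (.node (.node (.node (.node (.node (.node (.leaf (0, 0)) (.leaf (12, 801))) (.node (.leaf (0, 0)) (.leaf (15, 848)))) (.node (.node (.leaf (0, 0)) (.leaf (13, 1128))) (.node (.leaf (0, 0)) (.leaf (15, 1587))))) (.node (.node (.node (.leaf (0, 0)) (.leaf (0, 0))) (.node (.leaf (11, 552)) (.leaf (15, 1908)))) (.node (.node (.leaf (0, 0)) (.leaf (15, 1520))) (.leaf (0, 0))))) (.node (.node (.node (.node (.leaf (0, 0)) (.leaf (0, 0))) (.node (.leaf (0, 0)) (.leaf (12, 1590)))) (.node (.node (.leaf (0, 0)) (.leaf (15, 536))) (.node (.leaf (0, 0)) (.leaf (13, 1624))))) (.node (.node (.node (.leaf (0, 0)) (.leaf (0, 0))) (.node (.leaf (0, 0)) (.leaf (15, 1449)))) (.node (.node (.leaf (14, 1610)) (.leaf (15, 1092)))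 (.leaf (0, 0)))))) (.node (.node (.node (.node (.node (.leaf (0, 0)) (.leaf (1, 1083))) (.node (.leaf (15, 580)) (.leaf (15, 1065)))) (.node (.node (.leaf (15, 1620)) (.leaf (15, 750))) (.node (.leaf (0, 0)) (.leaf (15, 1874))))) (.node (.node (.node (.leaf (0, 0)) (.leaf (5, 819))) (.node (.leaf (0, 0)) (.leaf (5, 1406)))) (.node (.node (.leaf (0, 0)) (.leaf (0, 0))) (.leaf (0, 0))))) (.node (.node (.node (.node (.leaf (0, 0)) (.leaf (10, 736))) (.node (.leaf (0, 0)) (.leaf (15, 1648)))) (.node (.node (.leaf (0, 0)) (.leaf (12, 933))) (.node (.leaf (15, 1204)) (.leaf (10, 1018))))) (.node (.node (.node (.leaf (0, 0)) (.leaf (0, 0))) (.node (.leaf (0, 0)) (.leaf (1, 1787)))) (.node (.node (.leaf (15, 814)) (.leaf (15, 1488))) (.leaf (0, 0))))))))) (.node (.node (.node (.node (.node (.node (.node (.node (.leaf (0, 0)) (.leaf (9, 492))) (.node (.leaf (1, 863)) (.leaf (12, 1360)))) (.node (.node (.leaf (0, 0)) (.leaf (15, 845))) (.node (.leaf (0, 0)) (.leaf (3, 1878))))) (.node (.node (.node (.leaf (0, 0)) (.leaf (0, 0))) (.node (.leaf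 (0, 0)) (.leaf (12, 293)))) (.node (.node (.leaf (0, 0)) (.leaf (5, 1239))) (.node (.leaf (0, 0)) (.leaf (15, 1729)))))) (.node (.node (.node (.node (.leaf (1, 71)) (.leaf (0, 0))) (.node (.leaf (0, 0)) (.leaf (0, 0)))) (.node (.node (.leaf (0, 0)) (.leaf (15, 1668))) (.node (.leaf (15, 1086)) (.leaf (15, 1447))))) (.node (.node (.node (.leaf (0, 0)) (.leaf (15, 1605))) (.node (.leaf (0, 0)) (.leaf (15, 1582)))) (.node (.node (.leaf (15, 1150)) (.leaf (15, 1533))) (.leaf (0, 0)))))) (.node (.node (.node (.node (.node (.leaf (0, 0)) (.leaf (1, 1475))) (.node (.leaf (0, 0)) (.leaf (0, 0)))) (.node (.node (.leaf (0, 0)) (.leaf (0, 0))) (.node (.leaf (0, 0)) (.leaf (15, 1615))))) (.node (.node (.node (.leaf (0, 0)) (.leaf (12, 789))) (.node (.leaf (15, 781)) (.leaf (15, 1074)))) (.node (.node (.leaf (0, 0)) (.leaf (15, 811))) (.leaf (0, 0))))) (.node (.node (.node (.node (.leaf (0, 0)) (.leaf (0, 0))) (.node (.leaf (15, 858)) (.leaf (0, 0)))) (.node (.node (.leaf (12, 231)) (.leaf (12, 1469))) (.node (.leaf (0, 0)) (.leaf (15, 1548)))))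 (.node (.node (.node (.leaf (14, 1917)) (.leaf (15, 1010))) (.node (.leaf (0, 0)) (.leaf (5, 1614)))) (.node (.node (.leaf (1, 487)) (.leaf (15, 1278))) (.leaf (0, 0))))))) (.node (.node (.node (.node (.node (.node (.leaf (0, 0)) (.leaf (0, 0))) (.node (.leaf (0, 0)) (.leaf (15, 1708)))) (.node (.node (.leaf (0, 0)) (.leaf (0, 0))) (.node (.leaf (0, 0)) (.leaf (15, 1746))))) (.node (.node (.node (.leaf (0, 0)) (.leaf (12, 1420))) (.node (.leaf (0, 0)) (.leaf (15, 1713)))) (.node (.node (.leaf (15, 302)) (.leaf (15, 1364))) (.leaf (13, 1829))))) (.node (.node (.node (.node (.leaf (0, 0)) (.leaf (15, 873))) (.node (.leaf (0, 0)) (.leaf (9, 1812)))) (.node (.node (.leaf (15, 638)) (.leaf (0, 0))) (.node (.leaf (15, 924)) (.leaf (15, 1843))))) (.node (.node (.node (.leaf (15, 618)) (.leaf (0, 0))) (.node (.leaf (15, 918)) (.leaf (12, 1457)))) (.node (.node (.leaf (12, 276)) (.leaf (10, 708))) (.leaf (15, 1394)))))) (.node (.node (.node (.node (.node (.leaf (0, 0)) (.leaf (15, 930))) (.node (.leaf (12, 752)) (.leaf (0, 0)))) (.node (.node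 (.leaf (0, 0)) (.leaf (15, 1159))) (.node (.leaf (15, 419)) (.leaf (14, 1914))))) (.node (.node (.node (.leaf (1, 183)) (.leaf (1, 1207))) (.node (.leaf (15, 509)) (.leaf (15, 1714)))) (.node (.node (.leaf (0, 0)) (.leaf (15, 1466))) (.leaf (1, 1374))))) (.node (.node (.node (.node (.leaf (0, 0)) (.leaf (0, 0))) (.node (.leaf (0, 0)) (.leaf (1, 1655)))) (.node (.node (.leaf (0, 0)) (.leaf (0, 0))) (.node (.leaf (15, 731)) (.leaf (15, 1900))))) (.node (.node (.node (.leaf (0, 0)) (.leaf (15, 1734))) (.node (.leaf (10, 157)) (.leaf (15, 1535)))) (.node (.node (.leaf (0, 0)) (.leaf (15, 1362))) (.leaf (0, 0)))))))) (.node (.node (.node (.node (.node (.node (.node (.leaf (0, 0)) (.leaf (0, 0))) (.node (.leaf (15, 884)) (.leaf (14, 1897)))) (.node (.node (.leaf (0, 0)) (.leaf (15, 552))) (.node (.leaf (15, 691)) (.leaf (15, 1418))))) (.node (.node (.node (.leaf (0, 0)) (.leaf (15, 1084))) (.node (.leaf (0, 0)) (.leaf (15, 1318)))) (.node (.node (.leaf (12, 783)) (.leaf (15, 1647))) (.leaf (0, 0))))) (.node (.node (.node (.node (.leaf (0,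 0)) (.leaf (0, 0))) (.node (.leaf (0, 0)) (.leaf (15, 513)))) (.node (.node (.leaf (0, 0)) (.leaf (6, 204))) (.node (.leaf (0, 0)) (.leaf (11, 179))))) (.node (.node (.node (.leaf (0, 0)) (.leaf (15, 902))) (.node (.leaf (10, 82)) (.leaf (15, 1020)))) (.node (.node (.leaf (15, 764)) (.leaf (15, 1402))) (.leaf (0, 0)))))) (.node (.node (.node (.node (.node (.leaf (0, 0)) (.leaf (12, 684))) (.node (.leaf (0, 0)) (.leaf (1, 1583)))) (.node (.node (.leaf (0, 0)) (.leaf (0, 0))) (.node (.leaf (0, 0)) (.leaf (0, 0))))) (.node (.node (.node (.leaf (0, 0)) (.leaf (15, 1560))) (.node (.leaf (11, 411)) (.leaf (15, 966)))) (.node (.node (.leaf (0, 0)) (.leaf (0, 0))) (.leaf (0, 0))))) (.node (.node (.node (.node (.leaf (0, 0)) (.leaf (15, 1538))) (.node (.leaf (15, 682)) (.leaf (15, 1721)))) (.node (.node (.leaf (0, 0)) (.leaf (15, 1395))) (.node (.leaf (11, 1364)) (.leaf (15, 1906))))) (.node (.node (.node (.leaf (0, 0)) (.leaf (10, 878))) (.node (.leaf (0, 0)) (.leaf (15, 1786)))) (.node (.node (.leaf (0, 0)) (.leaf (15, 729))) (.leaf (0, 0)))))))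 (.node (.node (.node (.node (.node (.node (.leaf (15, 58)) (.leaf (15, 1462))) (.node (.leaf (1, 874)) (.leaf (0, 0)))) (.node (.node (.leaf (0, 0)) (.leaf (0, 0))) (.node (.leaf (12, 227)) (.leaf (15, 1716))))) (.node (.node (.node (.leaf (0, 0)) (.leaf (0, 0))) (.node (.leaf (12, 905)) (.leaf (0, 0)))) (.node (.node (.leaf (0, 0)) (.leaf (0, 0))) (.leaf (0, 0))))) (.node (.node (.node (.node (.leaf (0, 0)) (.leaf (0, 0))) (.node (.leaf (0, 0)) (.leaf (15, 1556)))) (.node (.node (.leaf (0, 0)) (.leaf (15, 785))) (.node (.leaf (4, 535)) (.leaf (6, 1060))))) (.node (.node (.node (.leaf (0, 0)) (.leaf (15, 1494))) (.node (.leaf (0, 0)) (.leaf (15, 1072)))) (.node (.node (.leaf (0, 0)) (.leaf (15, 1583))) (.leaf (0, 0)))))) (.node (.node (.node (.node (.node (.leaf (0, 0)) (.leaf (12, 1246))) (.node (.leaf (15, 491)) (.leaf (15, 1652)))) (.node (.node (.leaf (0, 0)) (.leaf (15, 996))) (.node (.leaf (0, 0)) (.leaf (1, 1855))))) (.node (.node (.node (.leaf (0, 0)) (.leaf (0, 0))) (.node (.leaf (15, 984)) (.leaf (15, 1053)))) (.node (.node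 (.leaf (0, 0)) (.leaf (15, 1500))) (.leaf (15, 950))))) (.node (.node (.node (.node (.leaf (0, 0)) (.leaf (15, 1212))) (.node (.leaf (15, 1880)) (.leaf (1, 1663)))) (.node (.node (.leaf (1, 383)) (.leaf (5, 932))) (.node (.leaf (0, 0)) (.leaf (15, 1914))))) (.node (.node (.node (.leaf (0, 0)) (.leaf (1, 1279))) (.node (.leaf (0, 0)) (.leaf (11, 1758)))) (.node (.node (.leaf (15, 238)) (.leaf (0, 0))) (.leaf (0, 0))))))))))

def twoVia : Janko.Tree (ℕ × ℕ) := (.node (.node (.node twoVia0 twoVia4) (.node twoVia2 twoVia6)) (.node (.node twoVia1 twoVia5) (.node twoVia3 twoVia7)))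

def twoRels : List (List Bool) := [[false, false, false, false, false], [true, true, true, true, true], [false, true, true, true, false, true, true, true], [false, true, false, true, false, true, false, true, false, true], [false, false, true, true, true, false, true, false, true, true, true], [false, false, false, false, true, true, false, false, false, false, true, true], [false, false, false, true, true, true, false, true, false, true, false, true, true, true], [false, false, true, false, true, true, true, false, false, true, false, true, true, true], [false, false, true, true, true, false, true, false, false, true, true, true, false, true], [false, false, false, true, false, true, true, true, false, false, true, false, true, false, true, true, true], [false, false, false, true, true, true, false, true, false, true, false, false, true, true, true, false, true], [false, false, true, false, false, true, true, true, false, true, false, false, true, false, true, true, true], [false, false, false, true, false, false, true, true, false,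 true, false, true, true, false, true, false, false, true], [false, true, true, false, true, true, false, true, true, false, true, true, false, true, true, false, true, true], [false, false, false, true, false, false, false, true, false, false, false, true, false, false, false, true, false, false, false, true, false, false, false, true, false, false, false, true, false, false, false, true], [false, true, true, true, false, true, true, true]]

/-- the certificate -/
def twoCert : CentralCoded.Cert :=
  { op := mulC, one := oneC, N := 1920, g0 := 762558932972366626176694121556195912270727793948, g1 := 2507720298840879115245774134652300862091289596015, m0 := 5, m1 := 5, rels := twoRels, P := 2,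
    elt := twoElt, next := twoNext, word := twoWord, par := twoPar, L := twoL, kind := twoKind, rank := twoRank,
    via := twoVia, pv := [3842, 3852] }

def twoOrd0 : Janko.Tree (ℕ) :=
  (.node (.node (.node (.node (.node (.node (.node (.node (.leaf 1585) (.leaf 1802)) (.node (.leaf 1476) (.leaf 1522))) (.node (.node (.leaf 1361) (.leaf 808)) (.node (.leaf 301) (.leaf 1117)))) (.node (.node (.node (.leaf 881) (.leaf 1179)) (.node (.leaf 1641) (.leaf 1743))) (.node (.node (.leaf 1016) (.leaf 1267)) (.leaf 365)))) (.node (.node (.node (.node (.leaf 1313) (.leaf 417)) (.node (.leaf 1249) (.leaf 118))) (.node (.node (.leaf 654) (.leaf 1207)) (.node (.leaf 869) (.leaf 1010)))) (.node (.node (.node (.leaf 821) (.leaf 757)) (.node (.leaf 708) (.leaf 1389))) (.node (.node (.leaf 1540) (.leaf 450)) (.leaf 445))))) (.node (.node (.node (.node (.node (.leaf 825) (.leaf 1300)) (.node (.leaf 1462) (.leaf 111))) (.node (.node (.leaf 1450) (.leaf 1684)) (.node (.leaf 1202) (.leaf 1786)))) (.node (.node (.node (.leaf 1723) (.leaf 1544)) (.node (.leaf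 71) (.leaf 1700))) (.node (.node (.leaf 568) (.leaf 1457)) (.leaf 702)))) (.node (.node (.node (.node (.leaf 472) (.leaf 167)) (.node (.leaf 1542) (.leaf 1385))) (.node (.node (.leaf 1100) (.leaf 736)) (.node (.leaf 401) (.leaf 392)))) (.node (.node (.node (.leaf 1046) (.leaf 1238)) (.node (.leaf 465) (.leaf 1424))) (.node (.node (.leaf 1279) (.leaf 400)) (.leaf 101)))))) (.node (.node (.node (.node (.node (.node (.leaf 256) (.leaf 1787)) (.node (.leaf 413) (.leaf 609))) (.node (.node (.leaf 221) (.leaf 1111)) (.node (.leaf 154) (.leaf 13)))) (.node (.node (.node (.leaf 1688) (.leaf 1106)) (.node (.leaf 610) (.leaf 646))) (.node (.node (.leaf 268) (.leaf 1029)) (.leaf 38)))) (.node (.node (.node (.node (.leaf 1103) (.leaf 137)) (.node (.leaf 1531) (.leaf 636))) (.node (.node (.leaf 65) (.leaf 786)) (.node (.leaf 1153) (.leaf 952)))) (.node (.node (.node (.leaf 927) (.leaf 1119)) (.node (.leaf 1530) (.leaf 880))) (.node (.node (.leaf 1417) (.leaf 1557)) (.leaf 651))))) (.node (.node (.node (.node (.node (.leaf 1595) (.leaf 714)) (.node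 (.leaf 69) (.leaf 1042))) (.node (.node (.leaf 1431) (.leaf 1083)) (.node (.leaf 1863) (.leaf 619)))) (.node (.node (.node (.leaf 1266) (.leaf 540)) (.node (.leaf 1304) (.leaf 676))) (.node (.node (.leaf 22) (.leaf 1449)) (.leaf 545)))) (.node (.node (.node (.node (.leaf 629) (.leaf 1872)) (.node (.leaf 1566) (.leaf 833))) (.node (.node (.leaf 1197) (.leaf 157)) (.node (.leaf 405) (.leaf 1425)))) (.node (.node (.node (.leaf 1590) (.leaf 433)) (.node (.leaf 1051) (.leaf 1785))) (.node (.node (.leaf 322) (.leaf 763)) (.leaf 1795))))))) (.node (.node (.node (.node (.node (.node (.node (.leaf 1134) (.leaf 690)) (.node (.leaf 787) (.leaf 1069))) (.node (.node (.leaf 47) (.leaf 92)) (.node (.leaf 1039) (.leaf 129)))) (.node (.node (.node (.leaf 559) (.leaf 1006)) (.node (.leaf 97) (.leaf 555))) (.node (.node (.leaf 1436) (.leaf 1768)) (.leaf 1583)))) (.node (.node (.node (.node (.leaf 349) (.leaf 1263)) (.node (.leaf 1188) (.leaf 288))) (.node (.node (.leaf 1057) (.leaf 138)) (.node (.leaf 1842) (.leaf 1286)))) (.node (.node (.node (.leaf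 1144) (.leaf 803)) (.node (.leaf 529) (.leaf 1864))) (.node (.node (.leaf 847) (.leaf 527)) (.leaf 1719))))) (.node (.node (.node (.node (.node (.leaf 885) (.leaf 945)) (.node (.leaf 126) (.leaf 1110))) (.node (.node (.leaf 156) (.leaf 1268)) (.node (.leaf 1294) (.leaf 862)))) (.node (.node (.node (.leaf 788) (.leaf 551)) (.node (.leaf 1467) (.leaf 100))) (.node (.node (.leaf 375) (.leaf 56)) (.leaf 366)))) (.node (.node (.node (.node (.leaf 1149) (.leaf 1491)) (.node (.leaf 1310) (.leaf 1596))) (.node (.node (.leaf 1173) (.leaf 211)) (.node (.leaf 1253) (.leaf 76)))) (.node (.node (.node (.leaf 457) (.leaf 1572)) (.node (.leaf 796) (.leaf 201))) (.node (.node (.leaf 1231) (.leaf 656)) (.leaf 1499)))))) (.node (.node (.node (.node (.node (.node (.leaf 189) (.leaf 314)) (.node (.leaf 1578) (.leaf 860))) (.node (.node (.leaf 1333) (.leaf 1791)) (.node (.leaf 435) (.leaf 1433)))) (.node (.node (.node (.leaf 122) (.leaf 1722)) (.node (.leaf 1331) (.leaf 1634))) (.node (.node (.leaf 741) (.leaf 1534)) (.leaf 72)))) (.node (.node (.node (.node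 (.leaf 1865) (.leaf 1070)) (.node (.leaf 1012) (.leaf 342))) (.node (.node (.leaf 1561) (.leaf 1705)) (.node (.leaf 505) (.leaf 248)))) (.node (.node (.node (.leaf 871) (.leaf 1739)) (.node (.leaf 759) (.leaf 1154))) (.node (.node (.leaf 754) (.leaf 1834)) (.leaf 230))))) (.node (.node (.node (.node (.node (.leaf 1654) (.leaf 231)) (.node (.leaf 1577) (.leaf 1159))) (.node (.node (.leaf 1917) (.leaf 697)) (.node (.leaf 355) (.leaf 407)))) (.node (.node (.node (.leaf 1821) (.leaf 162)) (.node (.leaf 335) (.leaf 826))) (.node (.node (.leaf 1584) (.leaf 1335)) (.leaf 1778)))) (.node (.node (.node (.node (.leaf 1203) (.leaf 267)) (.node (.leaf 399) (.leaf 1260))) (.node (.node (.leaf 1171) (.leaf 1771)) (.node (.leaf 797) (.leaf 237)))) (.node (.node (.node (.leaf 1092) (.leaf 1564)) (.node (.leaf 1779) (.leaf 1160))) (.node (.node (.leaf 968) (.leaf 901)) (.leaf 1073))))))))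

def twoOrd1 : Janko.Tree (ℕ) :=
  (.node (.node (.node (.node (.node (.node (.node (.node (.leaf 1737) (.leaf 315)) (.node (.leaf 1503) (.leaf 31))) (.node (.node (.leaf 1128) (.leaf 1498)) (.node (.leaf 168) (.leaf 1189)))) (.node (.node (.node (.leaf 282) (.leaf 993)) (.node (.leaf 350) (.leaf 605))) (.node (.node (.leaf 976) (.leaf 1847)) (.leaf 1246)))) (.node (.node (.node (.node (.leaf 941) (.leaf 984)) (.node (.leaf 1314) (.leaf 53))) (.node (.node (.leaf 1015) (.leaf 423)) (.node (.leaf 296) (.leaf 1824)))) (.node (.node (.node (.leaf 332) (.leaf 1470)) (.node (.leaf 594) (.leaf 1526))) (.node (.node (.leaf 1340) (.leaf 583)) (.leaf 899))))) (.node (.node (.node (.node (.node (.leaf 444) (.leaf 1548)) (.node (.leaf 810) (.leaf 710))) (.node (.node (.leaf 1721) (.leaf 1553)) (.node (.leaf 960) (.leaf 816)))) (.node (.node (.node (.leaf 1618) (.leaf 1177)) (.node (.leaf 1613) (.leaf 1883))) (.node (.node (.leaf 74) (.leaf 108)) (.leaf 257)))) (.node (.node (.node (.node (.leaf 590) (.leaf 897)) (.node (.leaf 410) (.leaf 1328)))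 (.node (.node (.leaf 909) (.leaf 598)) (.node (.leaf 677) (.leaf 892)))) (.node (.node (.node (.leaf 1379) (.leaf 1856)) (.node (.leaf 1194) (.leaf 779))) (.node (.node (.leaf 1593) (.leaf 949)) (.leaf 1271)))))) (.node (.node (.node (.node (.node (.node (.leaf 158) (.leaf 1816)) (.node (.leaf 1237) (.leaf 1364))) (.node (.node (.leaf 704) (.leaf 1784)) (.node (.leaf 196) (.leaf 1065)))) (.node (.node (.node (.leaf 863) (.leaf 530)) (.node (.leaf 1758) (.leaf 1765))) (.node (.node (.leaf 584) (.leaf 346)) (.leaf 1274)))) (.node (.node (.node (.node (.leaf 1032) (.leaf 1250)) (.node (.leaf 1184) (.leaf 1120))) (.node (.node (.leaf 520) (.leaf 1827)) (.node (.leaf 305) (.leaf 371)))) (.node (.node (.node (.leaf 418) (.leaf 1890)) (.node (.leaf 1794) (.leaf 813))) (.node (.node (.leaf 30) (.leaf 523)) (.leaf 1549))))) (.node (.node (.node (.node (.node (.leaf 934) (.leaf 567)) (.node (.leaf 398) (.leaf 55))) (.node (.node (.leaf 939) (.leaf 1524)) (.node (.leaf 1734) (.leaf 182)))) (.node (.node (.node (.leaf 684) (.leaf 131)) (.node (.leaf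 1772) (.leaf 253))) (.node (.node (.leaf 453) (.leaf 1044)) (.leaf 1002)))) (.node (.node (.node (.node (.leaf 1375) (.leaf 1245)) (.node (.leaf 443) (.leaf 1082))) (.node (.node (.leaf 273) (.leaf 601)) (.node (.leaf 830) (.leaf 59)))) (.node (.node (.node (.leaf 12) (.leaf 887)) (.node (.leaf 751) (.leaf 679))) (.node (.node (.leaf 364) (.leaf 1043)) (.leaf 1227))))))) (.node (.node (.node (.node (.node (.node (.node (.leaf 66) (.leaf 1814)) (.node (.leaf 159) (.leaf 524))) (.node (.node (.leaf 358) (.leaf 1546)) (.node (.leaf 1386) (.leaf 1437)))) (.node (.node (.node (.leaf 1419) (.leaf 876)) (.node (.leaf 1370) (.leaf 764))) (.node (.node (.leaf 798) (.leaf 1170)) (.leaf 1009)))) (.node (.node (.node (.node (.leaf 998) (.leaf 849)) (.node (.leaf 1866) (.leaf 672))) (.node (.node (.leaf 683) (.leaf 475)) (.node (.leaf 43) (.leaf 1014)))) (.node (.node (.node (.leaf 694) (.leaf 203)) (.node (.leaf 1541) (.leaf 1124))) (.node (.node (.leaf 1428) (.leaf 1137)) (.leaf 596))))) (.node (.node (.node (.node (.node (.leaf 1565) (.leaf 1623))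 (.node (.leaf 1718) (.leaf 1782))) (.node (.node (.leaf 1611) (.leaf 1836)) (.node (.leaf 208) (.leaf 1636)))) (.node (.node (.node (.leaf 1329) (.leaf 121)) (.node (.leaf 1350) (.leaf 1078))) (.node (.node (.leaf 1283) (.leaf 990)) (.leaf 223)))) (.node (.node (.node (.node (.leaf 758) (.leaf 1000)) (.node (.leaf 415) (.leaf 967))) (.node (.node (.leaf 5) (.leaf 566)) (.node (.leaf 119) (.leaf 478)))) (.node (.node (.node (.leaf 61) (.leaf 1691)) (.node (.leaf 1830) (.leaf 45))) (.node (.node (.leaf 1554) (.leaf 37)) (.leaf 1213)))))) (.node (.node (.node (.node (.node (.node (.leaf 1435) (.leaf 421)) (.node (.leaf 917) (.leaf 1712))) (.node (.node (.leaf 915) (.leaf 1422)) (.node (.leaf 626) (.leaf 1053)))) (.node (.node (.node (.leaf 678) (.leaf 379)) (.node (.leaf 1353) (.leaf 18))) (.node (.node (.leaf 905) (.leaf 436)) (.leaf 52)))) (.node (.node (.node (.node (.leaf 1087) (.leaf 1761)) (.node (.leaf 711) (.leaf 971))) (.node (.node (.leaf 1319) (.leaf 1368)) (.node (.leaf 306) (.leaf 637)))) (.node (.node (.node (.leaf 377) (.leaf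 328)) (.node (.leaf 474) (.leaf 1430))) (.node (.node (.leaf 286) (.leaf 913)) (.leaf 329))))) (.node (.node (.node (.node (.node (.leaf 1485) (.leaf 319)) (.node (.leaf 1041) (.leaf 244))) (.node (.node (.leaf 141) (.leaf 1140)) (.node (.leaf 200) (.leaf 495)))) (.node (.node (.node (.leaf 1374) (.leaf 103)) (.node (.leaf 250) (.leaf 628))) (.node (.node (.leaf 1646) (.leaf 1673)) (.leaf 657)))) (.node (.node (.node (.node (.leaf 1573) (.leaf 980)) (.node (.leaf 497) (.leaf 455))) (.node (.node (.leaf 792) (.leaf 1377)) (.node (.leaf 235) (.leaf 1236)))) (.node (.node (.node (.leaf 1717) (.leaf 467)) (.node (.leaf 416) (.leaf 1512))) (.node (.node (.leaf 582) (.leaf 761)) (.leaf 1735))))))))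

def twoOrd2 : Janko.Tree (ℕ) :=
  (.node (.node (.node (.node (.node (.node (.node (.node (.leaf 1599) (.leaf 1838)) (.node (.leaf 1255) (.leaf 1210))) (.node (.node (.leaf 1677) (.leaf 730)) (.node (.leaf 82) (.leaf 1275)))) (.node (.node (.node (.leaf 795) (.leaf 210)) (.node (.leaf 805) (.leaf 446))) (.node (.node (.leaf 117) (.leaf 479)) (.leaf 60)))) (.node (.node (.node (.node (.leaf 1720) (.leaf 89)) (.node (.leaf 1062) (.leaf 163))) (.node (.node (.leaf 558) (.leaf 3)) (.node (.leaf 766) (.leaf 519)))) (.node (.node (.node (.leaf 737) (.leaf 471)) (.node (.leaf 1694) (.leaf 912))) (.node (.node (.leaf 1019) (.leaf 1862)) (.leaf 1035))))) (.node (.node (.node (.node (.node (.leaf 1730) (.leaf 789)) (.node (.leaf 343) (.leaf 411))) (.node (.node (.leaf 1186) (.leaf 128)) (.node (.leaf 747) (.leaf 1679)))) (.node (.node (.node (.leaf 218) (.leaf 384)) (.node (.leaf 1342) (.leaf 285))) (.node (.node (.leaf 463) (.leaf 367)) (.leaf 716)))) (.node (.node (.node (.node (.leaf 1600) (.leaf 327)) (.node (.leaf 1004) (.leaf 1647))) (.node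 (.node (.leaf 1269) (.leaf 35)) (.node (.leaf 139) (.leaf 623)))) (.node (.node (.node (.leaf 873) (.leaf 1201)) (.node (.leaf 1205) (.leaf 1919))) (.node (.node (.leaf 90) (.leaf 1799)) (.leaf 1644)))))) (.node (.node (.node (.node (.node (.node (.leaf 1464) (.leaf 1874)) (.node (.leaf 274) (.leaf 331))) (.node (.node (.leaf 587) (.leaf 972)) (.node (.leaf 107) (.leaf 302)))) (.node (.node (.node (.leaf 1362) (.leaf 199)) (.node (.leaf 482) (.leaf 1040))) (.node (.node (.leaf 195) (.leaf 1200)) (.leaf 1859)))) (.node (.node (.node (.node (.leaf 1191) (.leaf 773)) (.node (.leaf 1399) (.leaf 1666))) (.node (.node (.leaf 414) (.leaf 1445)) (.node (.leaf 132) (.leaf 360)))) (.node (.node (.node (.leaf 1215) (.leaf 1873)) (.node (.leaf 1652) (.leaf 513))) (.node (.node (.leaf 1762) (.leaf 1259)) (.leaf 307))))) (.node (.node (.node (.node (.node (.leaf 1247) (.leaf 812)) (.node (.leaf 466) (.leaf 1020))) (.node (.node (.leaf 280) (.leaf 1876)) (.node (.leaf 95) (.leaf 528)))) (.node (.node (.node (.leaf 1337) (.leaf 890)) (.node (.leaf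 1846) (.leaf 920))) (.node (.node (.leaf 1755) (.leaf 81)) (.leaf 1671)))) (.node (.node (.node (.node (.leaf 238) (.leaf 1598)) (.node (.leaf 700) (.leaf 1754))) (.node (.node (.leaf 1198) (.leaf 992)) (.node (.leaf 279) (.leaf 964)))) (.node (.node (.node (.leaf 1642) (.leaf 1707)) (.node (.leaf 1288) (.leaf 1812))) (.node (.node (.leaf 48) (.leaf 1049)) (.leaf 1741))))))) (.node (.node (.node (.node (.node (.node (.node (.leaf 341) (.leaf 687)) (.node (.leaf 79) (.leaf 588))) (.node (.node (.leaf 1468) (.leaf 756)) (.node (.leaf 115) (.leaf 344)))) (.node (.node (.node (.leaf 1860) (.leaf 265)) (.node (.leaf 1112) (.leaf 1687))) (.node (.node (.leaf 1064) (.leaf 1738)) (.leaf 252)))) (.node (.node (.node (.node (.leaf 542) (.leaf 739)) (.node (.leaf 1218) (.leaf 923))) (.node (.node (.leaf 538) (.leaf 393)) (.node (.leaf 356) (.leaf 337)))) (.node (.node (.node (.leaf 1139) (.leaf 1033)) (.node (.leaf 94) (.leaf 134))) (.node (.node (.leaf 309) (.leaf 959)) (.leaf 1023))))) (.node (.node (.node (.node (.node (.leaf 1893) (.leaf 114))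 (.node (.leaf 381) (.leaf 160))) (.node (.node (.leaf 1632) (.leaf 819)) (.node (.leaf 1167) (.leaf 1420)))) (.node (.node (.node (.leaf 929) (.leaf 1826)) (.node (.leaf 229) (.leaf 1616))) (.node (.node (.leaf 627) (.leaf 1880)) (.leaf 1427)))) (.node (.node (.node (.node (.leaf 1352) (.leaf 1089)) (.node (.leaf 54) (.leaf 1312))) (.node (.node (.leaf 1220) (.leaf 1769)) (.node (.leaf 493) (.leaf 425)))) (.node (.node (.node (.leaf 187) (.leaf 631)) (.node (.leaf 1505) (.leaf 492))) (.node (.node (.leaf 1807) (.leaf 1109)) (.leaf 838)))))) (.node (.node (.node (.node (.node (.node (.leaf 1520) (.leaf 853)) (.node (.leaf 828) (.leaf 1514))) (.node (.node (.leaf 577) (.leaf 753)) (.node (.leaf 1182) (.leaf 1757)))) (.node (.node (.node (.leaf 503) (.leaf 1869)) (.node (.leaf 219) (.leaf 1545))) (.node (.node (.leaf 214) (.leaf 1569)) (.leaf 989)))) (.node (.node (.node (.node (.leaf 986) (.leaf 616)) (.node (.leaf 1438) (.leaf 670))) (.node (.node (.leaf 1589) (.leaf 1517)) (.node (.leaf 266) (.leaf 951)))) (.node (.node (.node (.leaf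 29) (.leaf 1833)) (.node (.leaf 639) (.leaf 721))) (.node (.node (.leaf 898) (.leaf 62)) (.leaf 336))))) (.node (.node (.node (.node (.node (.leaf 395) (.leaf 78)) (.node (.leaf 1494) (.leaf 965))) (.node (.node (.leaf 1608) (.leaf 767)) (.node (.leaf 49) (.leaf 931)))) (.node (.node (.node (.leaf 345) (.leaf 486)) (.node (.leaf 1751) (.leaf 152))) (.node (.node (.leaf 1367) (.leaf 172)) (.leaf 1326)))) (.node (.node (.node (.node (.leaf 1841) (.leaf 376)) (.node (.leaf 387) (.leaf 611))) (.node (.node (.leaf 510) (.leaf 1887)) (.node (.leaf 1506) (.leaf 1800)))) (.node (.node (.node (.leaf 1879) (.leaf 620)) (.node (.leaf 1490) (.leaf 1226))) (.node (.node (.leaf 851) (.leaf 1488)) (.leaf 1270))))))))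

def twoOrd3 : Janko.Tree (ℕ) :=
  (.node (.node (.node (.node (.node (.node (.node (.node (.leaf 67) (.leaf 304)) (.node (.leaf 485) (.leaf 1001))) (.node (.node (.leaf 1650) (.leaf 1559)) (.node (.leaf 814) (.leaf 1702)))) (.node (.node (.node (.leaf 919) (.leaf 1716)) (.node (.leaf 544) (.leaf 1857))) (.node (.node (.leaf 836) (.leaf 1653)) (.leaf 1098)))) (.node (.node (.node (.node (.leaf 1383) (.leaf 228)) (.node (.leaf 1251) (.leaf 1889))) (.node (.node (.leaf 317) (.leaf 937)) (.node (.leaf 1190) (.leaf 1461)))) (.node (.node (.node (.leaf 1133) (.leaf 930)) (.node (.leaf 1242) (.leaf 247))) (.node (.node (.leaf 330) (.leaf 462)) (.leaf 1770))))) (.node (.node (.node (.node (.node (.leaf 829) (.leaf 581)) (.node (.leaf 888) (.leaf 1147))) (.node (.node (.leaf 260) (.leaf 1077)) (.node (.leaf 1574) (.leaf 1875)))) (.node (.node (.node (.leaf 740) (.leaf 996)) (.node (.leaf 622) (.leaf 981))) (.node (.node (.leaf 924) (.leaf 1801)) (.leaf 1442)))) (.node (.node (.node (.node (.leaf 113) (.leaf 125)) (.node (.leaf 190) (.leaf 1359)))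 (.node (.node (.leaf 1728) (.leaf 652)) (.node (.leaf 354) (.leaf 1308)))) (.node (.node (.node (.leaf 585) (.leaf 531)) (.node (.leaf 1281) (.leaf 846))) (.node (.node (.leaf 438) (.leaf 1576)) (.leaf 1913)))))) (.node (.node (.node (.node (.node (.node (.leaf 9) (.leaf 390)) (.node (.leaf 647) (.leaf 464))) (.node (.node (.leaf 85) (.leaf 608)) (.node (.leaf 573) (.leaf 1125)))) (.node (.node (.node (.leaf 1336) (.leaf 1405)) (.node (.leaf 1884) (.leaf 685))) (.node (.node (.leaf 1507) (.leaf 1508)) (.leaf 338)))) (.node (.node (.node (.node (.leaf 1776) (.leaf 855)) (.node (.leaf 8) (.leaf 281))) (.node (.node (.leaf 289) (.leaf 988)) (.node (.leaf 1527) (.leaf 1143)))) (.node (.node (.node (.leaf 1373) (.leaf 404)) (.node (.leaf 91) (.leaf 470))) (.node (.node (.leaf 762) (.leaf 1523)) (.leaf 15))))) (.node (.node (.node (.node (.node (.leaf 1115) (.leaf 774)) (.node (.leaf 1132) (.leaf 1760))) (.node (.node (.leaf 426) (.leaf 277)) (.node (.leaf 515) (.leaf 1148)))) (.node (.node (.node (.leaf 1034) (.leaf 339)) (.node (.leaf 1465)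 (.leaf 429))) (.node (.node (.leaf 1605) (.leaf 1378)) (.leaf 916)))) (.node (.node (.node (.node (.leaf 147) (.leaf 1416)) (.node (.leaf 1818) (.leaf 1466))) (.node (.node (.leaf 1571) (.leaf 632)) (.node (.leaf 1592) (.leaf 1211)))) (.node (.node (.node (.leaf 17) (.leaf 1156)) (.node (.leaf 23) (.leaf 1217))) (.node (.node (.leaf 1363) (.leaf 1567)) (.leaf 817))))))) (.node (.node (.node (.node (.node (.node (.node (.leaf 1096) (.leaf 1469)) (.node (.leaf 194) (.leaf 1861))) (.node (.node (.leaf 707) (.leaf 1614)) (.node (.leaf 459) (.leaf 1176)))) (.node (.node (.node (.leaf 1415) (.leaf 570)) (.node (.leaf 1851) (.leaf 749))) (.node (.node (.leaf 439) (.leaf 86)) (.leaf 1478)))) (.node (.node (.node (.node (.leaf 1615) (.leaf 499)) (.node (.leaf 1038) (.leaf 487))) (.node (.node (.leaf 313) (.leaf 1085)) (.node (.leaf 135) (.leaf 1849)))) (.node (.node (.node (.leaf 1278) (.leaf 1348)) (.node (.leaf 226) (.leaf 1471))) (.node (.node (.leaf 419) (.leaf 1130)) (.leaf 680))))) (.node (.node (.node (.node (.node (.leaf 1643) (.leaf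 1432)) (.node (.leaf 431) (.leaf 224))) (.node (.node (.leaf 1297) (.leaf 1587)) (.node (.leaf 811) (.leaf 946)))) (.node (.node (.node (.leaf 292) (.leaf 922)) (.node (.leaf 1277) (.leaf 1365))) (.node (.node (.leaf 370) (.leaf 621)) (.leaf 130)))) (.node (.node (.node (.node (.leaf 593) (.leaf 1025)) (.node (.leaf 1185) (.leaf 1781))) (.node (.node (.leaf 192) (.leaf 263)) (.node (.leaf 1181) (.leaf 1232)))) (.node (.node (.node (.leaf 512) (.leaf 406)) (.node (.leaf 1390) (.leaf 806))) (.node (.node (.leaf 1736) (.leaf 1056)) (.leaf 213)))))) (.node (.node (.node (.node (.node (.node (.leaf 397) (.leaf 1710)) (.node (.leaf 1685) (.leaf 979))) (.node (.node (.leaf 1753) (.leaf 1906)) (.node (.leaf 1672) (.leaf 1280)))) (.node (.node (.node (.leaf 204) (.leaf 942)) (.node (.leaf 270) (.leaf 1766))) (.node (.node (.leaf 675) (.leaf 1452)) (.leaf 550)))) (.node (.node (.node (.node (.leaf 914) (.leaf 1447)) (.node (.leaf 1341) (.leaf 703))) (.node (.node (.leaf 1501) (.leaf 1052)) (.node (.leaf 827) (.leaf 1165)))) (.node (.node (.node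 (.leaf 1588) (.leaf 1396)) (.node (.leaf 1746) (.leaf 1458))) (.node (.node (.leaf 1815) (.leaf 954)) (.leaf 1252))))) (.node (.node (.node (.node (.node (.leaf 173) (.leaf 151)) (.node (.leaf 1243) (.leaf 1484))) (.node (.node (.leaf 44) (.leaf 1410)) (.node (.leaf 665) (.leaf 1629)))) (.node (.node (.node (.leaf 1905) (.leaf 752)) (.node (.leaf 718) (.leaf 557))) (.node (.node (.leaf 461) (.leaf 955)) (.leaf 734)))) (.node (.node (.node (.node (.leaf 73) (.leaf 940)) (.node (.leaf 1474) (.leaf 1088))) (.node (.node (.leaf 1742) (.leaf 316)) (.node (.leaf 546) (.leaf 1667)))) (.node (.node (.node (.leaf 1152) (.leaf 295)) (.node (.leaf 1774) (.leaf 956))) (.node (.node (.leaf 1582) (.leaf 1400)) (.leaf 1664))))))))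

def twoOrd4 : Janko.Tree (ℕ) :=
  (.node (.node (.node (.node (.node (.node (.node (.node (.leaf 0) (.leaf 386)) (.node (.leaf 21) (.leaf 1744))) (.node (.node (.leaf 1344) (.leaf 802)) (.node (.leaf 1453) (.leaf 181)))) (.node (.node (.node (.leaf 19) (.leaf 701)) (.node (.leaf 1094) (.leaf 938))) (.node (.node (.leaf 1660) (.leaf 1516)) (.leaf 804)))) (.node (.node (.node (.node (.leaf 1843) (.leaf 974)) (.node (.leaf 368) (.leaf 592))) (.node (.node (.leaf 565) (.leaf 4)) (.node (.leaf 1844) (.leaf 745)))) (.node (.node (.node (.leaf 1343) (.leaf 1510)) (.node (.leaf 511) (.leaf 859))) (.node (.node (.leaf 973) (.leaf 948)) (.leaf 572))))) (.node (.node (.node (.node (.node (.leaf 1555) (.leaf 1315)) (.node (.leaf 64) (.leaf 1624))) (.node (.node (.leaf 1022) (.leaf 359)) (.node (.leaf 975) (.leaf 170)))) (.node (.node (.node (.leaf 1586) (.leaf 1570)) (.node (.leaf 633) (.leaf 2))) (.node (.node (.leaf 1899) (.leaf 800)) (.leaf 1199)))) (.node (.node (.node (.node (.leaf 205) (.leaf 498)) (.node (.leaf 75) (.leaf 27))) (.node (.node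 (.leaf 1138) (.leaf 1101)) (.node (.leaf 664) (.leaf 908)))) (.node (.node (.node (.leaf 1518) (.leaf 1071)) (.node (.leaf 815) (.leaf 452))) (.node (.node (.leaf 1005) (.leaf 468)) (.leaf 1180)))))) (.node (.node (.node (.node (.node (.node (.leaf 1384) (.leaf 589)) (.node (.leaf 563) (.leaf 1489))) (.node (.node (.leaf 1912) (.leaf 1309)) (.node (.leaf 717) (.leaf 1116)))) (.node (.node (.node (.leaf 1798) (.leaf 1550)) (.node (.leaf 1151) (.leaf 1441))) (.node (.node (.leaf 562) (.leaf 882)) (.leaf 412)))) (.node (.node (.node (.node (.leaf 1293) (.leaf 1332)) (.node (.leaf 308) (.leaf 1480))) (.node (.node (.leaf 837) (.leaf 148)) (.node (.leaf 1045) (.leaf 1131)))) (.node (.node (.node (.leaf 26) (.leaf 1896)) (.node (.leaf 1345) (.leaf 216))) (.node (.node (.leaf 1320) (.leaf 1162)) (.leaf 893))))) (.node (.node (.node (.node (.node (.leaf 207) (.leaf 1257)) (.node (.leaf 689) (.leaf 1529))) (.node (.node (.leaf 536) (.leaf 1387)) (.node (.leaf 1397) (.leaf 1048)))) (.node (.node (.node (.leaf 1021) (.leaf 994)) (.node (.leaf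 239) (.leaf 1463))) (.node (.node (.leaf 347) (.leaf 1885)) (.leaf 1858)))) (.node (.node (.node (.node (.leaf 947) (.leaf 1848)) (.node (.leaf 648) (.leaf 724))) (.node (.node (.leaf 926) (.leaf 635)) (.node (.leaf 1497) (.leaf 1696)))) (.node (.node (.node (.leaf 430) (.leaf 661)) (.node (.leaf 896) (.leaf 290))) (.node (.node (.leaf 548) (.leaf 575)) (.leaf 1193))))))) (.node (.node (.node (.node (.node (.node (.node (.leaf 978) (.leaf 1141)) (.node (.leaf 1295) (.leaf 1008))) (.node (.node (.leaf 1129) (.leaf 300)) (.node (.leaf 554) (.leaf 269)))) (.node (.node (.node (.leaf 845) (.leaf 1591)) (.node (.leaf 480) (.leaf 16))) (.node (.node (.leaf 220) (.leaf 957)) (.leaf 1091)))) (.node (.node (.node (.node (.leaf 561) (.leaf 1426)) (.node (.leaf 1460) (.leaf 864))) (.node (.node (.leaf 1206) (.leaf 667)) (.node (.leaf 1519) (.leaf 1439)))) (.node (.node (.node (.leaf 603) (.leaf 709)) (.node (.leaf 352) (.leaf 556))) (.node (.node (.leaf 1547) (.leaf 1804)) (.leaf 726))))) (.node (.node (.node (.node (.node (.leaf 1580) (.leaf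 746)) (.node (.leaf 1731) (.leaf 1183))) (.node (.node (.leaf 668) (.leaf 144)) (.node (.leaf 743) (.leaf 1135)))) (.node (.node (.node (.leaf 1714) (.leaf 928)) (.node (.leaf 1556) (.leaf 1535))) (.node (.node (.leaf 127) (.leaf 258)) (.leaf 1169)))) (.node (.node (.node (.node (.leaf 185) (.leaf 385)) (.node (.leaf 1318) (.leaf 1532))) (.node (.node (.leaf 720) (.leaf 174)) (.node (.leaf 1068) (.leaf 875)))) (.node (.node (.node (.leaf 1692) (.leaf 841)) (.node (.leaf 369) (.leaf 188))) (.node (.node (.leaf 143) (.leaf 1221)) (.leaf 1796)))))) (.node (.node (.node (.node (.node (.node (.leaf 543) (.leaf 1195)) (.node (.leaf 1663) (.leaf 904))) (.node (.node (.leaf 1121) (.leaf 1486)) (.node (.leaf 674) (.leaf 599)))) (.node (.node (.node (.leaf 727) (.leaf 298)) (.node (.leaf 699) (.leaf 1837))) (.node (.node (.leaf 217) (.leaf 1509)) (.leaf 1305)))) (.node (.node (.node (.node (.leaf 1347) (.leaf 1357)) (.node (.leaf 1604) (.leaf 264))) (.node (.node (.leaf 451) (.leaf 98)) (.node (.leaf 1372) (.leaf 1626)))) (.node (.node (.node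 (.leaf 553) (.leaf 932)) (.node (.leaf 32) (.leaf 1454))) (.node (.node (.leaf 693) (.leaf 606)) (.leaf 491))))) (.node (.node (.node (.node (.node (.leaf 807) (.leaf 440)) (.node (.leaf 1054) (.leaf 1789))) (.node (.node (.leaf 1455) (.leaf 120)) (.node (.leaf 865) (.leaf 649)))) (.node (.node (.node (.leaf 1612) (.leaf 602)) (.node (.leaf 1656) (.leaf 935))) (.node (.node (.leaf 1657) (.leaf 1482)) (.leaf 1803)))) (.node (.node (.node (.node (.leaf 227) (.leaf 1823)) (.node (.leaf 484) (.leaf 1108))) (.node (.node (.leaf 1792) (.leaf 1552)) (.node (.leaf 1704) (.leaf 1575)))) (.node (.node (.node (.leaf 14) (.leaf 105)) (.node (.leaf 1479) (.leaf 96))) (.node (.node (.leaf 287) (.leaf 483)) (.leaf 533))))))))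

def twoOrd5 : Janko.Tree (ℕ) :=
  (.node (.node (.node (.node (.node (.node (.node (.node (.leaf 428) (.leaf 1855)) (.node (.leaf 1393) (.leaf 1063))) (.node (.node (.leaf 1301) (.leaf 894)) (.node (.leaf 1625) (.leaf 870)))) (.node (.node (.node (.leaf 1325) (.leaf 1168)) (.node (.leaf 106) (.leaf 249))) (.node (.node (.leaf 537) (.leaf 1235)) (.leaf 1407)))) (.node (.node (.node (.node (.leaf 1003) (.leaf 1881)) (.node (.leaf 1543) (.leaf 362))) (.node (.node (.leaf 333) (.leaf 1074)) (.node (.leaf 750) (.leaf 1066)))) (.node (.node (.node (.leaf 1805) (.leaf 116)) (.node (.leaf 1136) (.leaf 456))) (.node (.node (.leaf 198) (.leaf 1840)) (.leaf 722))))) (.node (.node (.node (.node (.node (.leaf 34) (.leaf 607)) (.node (.leaf 958) (.leaf 1208))) (.node (.node (.leaf 1813) (.leaf 99)) (.node (.leaf 1366) (.leaf 1395)))) (.node (.node (.node (.leaf 944) (.leaf 645)) (.node (.leaf 1) (.leaf 809))) (.node (.node (.leaf 1726) (.leaf 1322)) (.leaf 1225)))) (.node (.node (.node (.node (.leaf 879) (.leaf 380)) (.node (.leaf 1284) (.leaf 396)))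 (.node (.node (.leaf 1222) (.leaf 723)) (.node (.leaf 1307) (.leaf 1832)))) (.node (.node (.node (.leaf 507) (.leaf 1697)) (.node (.leaf 320) (.leaf 191))) (.node (.node (.leaf 1360) (.leaf 1394)) (.leaf 517)))))) (.node (.node (.node (.node (.node (.node (.leaf 1258) (.leaf 692)) (.node (.leaf 1894) (.leaf 1443))) (.node (.node (.leaf 489) (.leaf 1562)) (.node (.leaf 1448) (.leaf 84)))) (.node (.node (.node (.leaf 225) (.leaf 1358)) (.node (.leaf 614) (.leaf 240))) (.node (.node (.leaf 1204) (.leaf 1104)) (.leaf 458)))) (.node (.node (.node (.node (.leaf 618) (.leaf 560)) (.node (.leaf 613) (.leaf 1354))) (.node (.node (.leaf 166) (.leaf 895)) (.node (.leaf 1915) (.leaf 983)))) (.node (.node (.node (.leaf 1825) (.leaf 1285)) (.node (.leaf 1675) (.leaf 999))) (.node (.node (.leaf 110) (.leaf 142)) (.leaf 183))))) (.node (.node (.node (.node (.node (.leaf 177) (.leaf 70)) (.node (.leaf 294) (.leaf 1334))) (.node (.node (.leaf 715) (.leaf 391)) (.node (.leaf 1809) (.leaf 1475)))) (.node (.node (.node (.leaf 402) (.leaf 1127)) (.node (.leaf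 1914) (.leaf 1740))) (.node (.node (.leaf 155) (.leaf 420)) (.leaf 508)))) (.node (.node (.node (.node (.leaf 1767) (.leaf 1609)) (.node (.leaf 165) (.leaf 1007))) (.node (.node (.leaf 255) (.leaf 176)) (.node (.leaf 1724) (.leaf 1414)))) (.node (.node (.node (.leaf 624) (.leaf 617)) (.node (.leaf 1090) (.leaf 571))) (.node (.node (.leaf 481) (.leaf 351)) (.leaf 1248))))))) (.node (.node (.node (.node (.node (.node (.node (.leaf 549) (.leaf 1759)) (.node (.leaf 271) (.leaf 1579))) (.node (.node (.leaf 83) (.leaf 1408)) (.node (.leaf 378) (.leaf 104)))) (.node (.node (.node (.leaf 535) (.leaf 374)) (.node (.leaf 733) (.leaf 1693))) (.node (.node (.leaf 1695) (.leaf 39)) (.leaf 1406)))) (.node (.node (.node (.node (.leaf 150) (.leaf 1502)) (.node (.leaf 995) (.leaf 1773))) (.node (.node (.leaf 179) (.leaf 768)) (.node (.leaf 925) (.leaf 1027)))) (.node (.node (.node (.leaf 1602) (.leaf 1713)) (.node (.leaf 236) (.leaf 1902))) (.node (.node (.leaf 1745) (.leaf 906)) (.leaf 681))))) (.node (.node (.node (.node (.node (.leaf 33) (.leaf 977))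 (.node (.leaf 1261) (.leaf 88))) (.node (.node (.leaf 1690) (.leaf 1402)) (.node (.leaf 848) (.leaf 164)))) (.node (.node (.node (.leaf 982) (.leaf 1622)) (.node (.leaf 1496) (.leaf 1429))) (.node (.node (.leaf 1680) (.leaf 1272)) (.leaf 1273)))) (.node (.node (.node (.node (.leaf 755) (.leaf 518)) (.node (.leaf 580) (.leaf 1230))) (.node (.node (.leaf 521) (.leaf 604)) (.node (.leaf 1682) (.leaf 1633)))) (.node (.node (.node (.leaf 823) (.leaf 1916)) (.node (.leaf 1316) (.leaf 1355))) (.node (.node (.leaf 460) (.leaf 1075)) (.leaf 963)))))) (.node (.node (.node (.node (.node (.node (.leaf 861) (.leaf 502)) (.node (.leaf 171) (.leaf 653))) (.node (.node (.leaf 68) (.leaf 1854)) (.node (.leaf 783) (.leaf 1901)))) (.node (.node (.node (.leaf 1338) (.leaf 488)) (.node (.leaf 1638) (.leaf 388))) (.node (.node (.leaf 1918) (.leaf 1011)) (.leaf 1568)))) (.node (.node (.node (.node (.leaf 728) (.leaf 153)) (.node (.leaf 1871) (.leaf 1058))) (.node (.node (.leaf 725) (.leaf 1676)) (.node (.leaf 1670) (.leaf 872)))) (.node (.node (.node (.leaf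 883) (.leaf 638)) (.node (.leaf 840) (.leaf 1640))) (.node (.node (.leaf 1028) (.leaf 691)) (.leaf 340))))) (.node (.node (.node (.node (.node (.leaf 1635) (.leaf 1878)) (.node (.leaf 1107) (.leaf 1174))) (.node (.node (.leaf 184) (.leaf 877)) (.node (.leaf 1867) (.leaf 1910)))) (.node (.node (.node (.leaf 866) (.leaf 1409)) (.node (.leaf 1903) (.leaf 612))) (.node (.node (.leaf 822) (.leaf 389)) (.leaf 1356)))) (.node (.node (.node (.node (.leaf 124) (.leaf 448)) (.node (.leaf 776) (.leaf 1492))) (.node (.node (.leaf 496) (.leaf 403)) (.node (.leaf 259) (.leaf 1404)))) (.node (.node (.node (.leaf 1648) (.leaf 1627)) (.node (.leaf 509) (.leaf 1909))) (.node (.node (.leaf 1178) (.leaf 1536)) (.leaf 363))))))))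

def twoOrd6 : Janko.Tree (ℕ) :=
  (.node (.node (.node (.node (.node (.node (.node (.node (.leaf 1382) (.leaf 1659)) (.node (.leaf 966) (.leaf 325))) (.node (.node (.leaf 1819) (.leaf 867)) (.node (.leaf 1725) (.leaf 1376)))) (.node (.node (.node (.leaf 1708) (.leaf 1371)) (.node (.leaf 318) (.leaf 1763))) (.node (.node (.leaf 58) (.leaf 262)) (.leaf 659)))) (.node (.node (.node (.node (.leaf 303) (.leaf 771)) (.node (.leaf 760) (.leaf 1797))) (.node (.node (.leaf 175) (.leaf 275)) (.node (.leaf 732) (.leaf 24)))) (.node (.node (.node (.leaf 136) (.leaf 738)) (.node (.leaf 1306) (.leaf 241))) (.node (.node (.leaf 469) (.leaf 911)) (.leaf 232))))) (.node (.node (.node (.node (.node (.leaf 1150) (.leaf 1018)) (.node (.leaf 688) (.leaf 243))) (.node (.node (.leaf 852) (.leaf 1639)) (.node (.leaf 1495) (.leaf 1831)))) (.node (.node (.node (.leaf 1709) (.leaf 51)) (.node (.leaf 643) (.leaf 1628))) (.node (.node (.leaf 799) (.leaf 969)) (.leaf 504)))) (.node (.node (.node (.node (.leaf 197) (.leaf 63)) (.node (.leaf 1240) (.leaf 874))) (.node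 (.node (.leaf 1421) (.leaf 1037)) (.node (.leaf 1806) (.leaf 1244)))) (.node (.node (.node (.leaf 1413) (.leaf 1500)) (.node (.leaf 1264) (.leaf 373))) (.node (.node (.leaf 541) (.leaf 903)) (.leaf 1224)))))) (.node (.node (.node (.node (.node (.node (.leaf 1079) (.leaf 1391)) (.node (.leaf 943) (.leaf 615))) (.node (.node (.leaf 36) (.leaf 1822)) (.node (.leaf 1817) (.leaf 186)))) (.node (.node (.node (.leaf 1594) (.leaf 742)) (.node (.leaf 586) (.leaf 1729))) (.node (.node (.leaf 1276) (.leaf 1031)) (.leaf 41)))) (.node (.node (.node (.node (.leaf 1537) (.leaf 514)) (.node (.leaf 233) (.leaf 1835))) (.node (.node (.leaf 1533) (.leaf 564)) (.node (.leaf 1898) (.leaf 1891)))) (.node (.node (.node (.leaf 1055) (.leaf 146)) (.node (.leaf 432) (.leaf 1897))) (.node (.node (.leaf 123) (.leaf 394)) (.leaf 735))))) (.node (.node (.node (.node (.node (.leaf 552) (.leaf 1868)) (.node (.leaf 1175) (.leaf 696))) (.node (.node (.leaf 1689) (.leaf 713)) (.node (.leaf 427) (.leaf 854)))) (.node (.node (.node (.leaf 1645) (.leaf 1105)) (.node (.leaf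 868) (.leaf 891))) (.node (.node (.leaf 1727) (.leaf 532)) (.leaf 449)))) (.node (.node (.node (.node (.leaf 1473) (.leaf 1459)) (.node (.leaf 1118) (.leaf 666))) (.node (.node (.leaf 1434) (.leaf 206)) (.node (.leaf 1619) (.leaf 1097)))) (.node (.node (.node (.leaf 1681) (.leaf 1483)) (.node (.leaf 850) (.leaf 1026))) (.node (.node (.leaf 640) (.leaf 522)) (.leaf 1620))))))) (.node (.node (.node (.node (.node (.node (.node (.leaf 1289) (.leaf 180)) (.node (.leaf 1748) (.leaf 422))) (.node (.node (.leaf 11) (.leaf 1756)) (.node (.leaf 1630) (.leaf 933)))) (.node (.node (.node (.leaf 1076) (.leaf 501)) (.node (.leaf 1515) (.leaf 1810))) (.node (.node (.leaf 1086) (.leaf 1030)) (.leaf 1749)))) (.node (.node (.node (.node (.leaf 660) (.leaf 1123)) (.node (.leaf 382) (.leaf 1287))) (.node (.node (.leaf 785) (.leaf 1084)) (.node (.leaf 490) (.leaf 731)))) (.node (.node (.node (.leaf 1161) (.leaf 1839)) (.node (.leaf 1351) (.leaf 884))) (.node (.node (.leaf 1219) (.leaf 372)) (.leaf 991))))) (.node (.node (.node (.node (.node (.leaf 1155)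 (.leaf 323)) (.node (.leaf 961) (.leaf 834))) (.node (.node (.leaf 591) (.leaf 1392)) (.node (.leaf 936) (.leaf 1487)))) (.node (.node (.node (.leaf 857) (.leaf 662)) (.node (.leaf 918) (.leaf 246))) (.node (.node (.leaf 169) (.leaf 801)) (.leaf 383)))) (.node (.node (.node (.node (.leaf 1829) (.leaf 1788)) (.node (.leaf 569) (.leaf 673))) (.node (.node (.leaf 1024) (.leaf 782)) (.node (.leaf 506) (.leaf 1166)))) (.node (.node (.node (.leaf 843) (.leaf 818)) (.node (.leaf 1311) (.leaf 1157))) (.node (.node (.leaf 1780) (.leaf 1882)) (.leaf 6)))))) (.node (.node (.node (.node (.node (.node (.leaf 1775) (.leaf 516)) (.node (.leaf 1369) (.leaf 1790))) (.node (.node (.leaf 790) (.leaf 202)) (.node (.leaf 1597) (.leaf 348)))) (.node (.node (.node (.leaf 1346) (.leaf 625)) (.node (.leaf 1701) (.leaf 299))) (.node (.node (.leaf 663) (.leaf 1581)) (.leaf 441)))) (.node (.node (.node (.node (.leaf 361) (.leaf 254)) (.node (.leaf 985) (.leaf 1686))) (.node (.node (.leaf 547) (.leaf 1658)) (.node (.leaf 87) (.leaf 1481)))) (.node (.node (.node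 (.leaf 222) (.leaf 1298)) (.node (.leaf 856) (.leaf 1440))) (.node (.node (.leaf 970) (.leaf 50)) (.leaf 1665))))) (.node (.node (.node (.node (.node (.leaf 1610) (.leaf 842)) (.node (.leaf 705) (.leaf 1886))) (.node (.node (.leaf 1511) (.leaf 770)) (.node (.leaf 844) (.leaf 424)))) (.node (.node (.node (.leaf 1061) (.leaf 102)) (.node (.leaf 1783) (.leaf 630))) (.node (.node (.leaf 772) (.leaf 1525)) (.leaf 1649)))) (.node (.node (.node (.node (.leaf 525) (.leaf 719)) (.node (.leaf 902) (.leaf 820))) (.node (.node (.leaf 209) (.leaf 1617)) (.node (.leaf 832) (.leaf 326)))) (.node (.node (.node (.leaf 10) (.leaf 251)) (.node (.leaf 921) (.leaf 765))) (.node (.node (.leaf 1538) (.leaf 1895)) (.leaf 272))))))))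

def twoOrd7 : Janko.Tree (ℕ) :=
  (.node (.node (.node (.node (.node (.node (.node (.node (.leaf 133) (.leaf 1711)) (.node (.leaf 1050) (.leaf 1233))) (.node (.node (.leaf 778) (.leaf 7)) (.node (.leaf 1228) (.leaf 769)))) (.node (.node (.node (.leaf 835) (.leaf 1423)) (.node (.leaf 784) (.leaf 278))) (.node (.node (.leaf 1323) (.leaf 1212)) (.leaf 283)))) (.node (.node (.node (.node (.leaf 748) (.leaf 1122)) (.node (.leaf 1892) (.leaf 284))) (.node (.node (.leaf 434) (.leaf 477)) (.node (.leaf 1715) (.leaf 655)))) (.node (.node (.node (.leaf 641) (.leaf 1192)) (.node (.leaf 634) (.leaf 950))) (.node (.node (.leaf 245) (.leaf 1698)) (.leaf 1777))))) (.node (.node (.node (.node (.node (.leaf 1477) (.leaf 1669)) (.node (.leaf 1292) (.leaf 650))) (.node (.node (.leaf 793) (.leaf 1282)) (.node (.leaf 1637) (.leaf 178)))) (.node (.node (.node (.leaf 149) (.leaf 889)) (.node (.leaf 1907) (.leaf 1747))) (.node (.node (.leaf 526) (.leaf 997)) (.leaf 1539)))) (.node (.node (.node (.node (.leaf 729) (.leaf 1446)) (.node (.leaf 1059) (.leaf 1601)))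 (.node (.node (.leaf 1013) (.leaf 1850)) (.node (.leaf 297) (.leaf 1324)))) (.node (.node (.node (.leaf 161) (.leaf 1733)) (.node (.leaf 1401) (.leaf 669))) (.node (.node (.leaf 1908) (.leaf 1330)) (.leaf 706)))))) (.node (.node (.node (.node (.node (.node (.leaf 1808) (.leaf 1845)) (.node (.leaf 212) (.leaf 1752))) (.node (.node (.leaf 1146) (.leaf 886)) (.node (.leaf 1080) (.leaf 1113)))) (.node (.node (.node (.leaf 878) (.leaf 1060)) (.node (.leaf 311) (.leaf 1877))) (.node (.node (.leaf 791) (.leaf 1388)) (.leaf 1145)))) (.node (.node (.node (.node (.leaf 1678) (.leaf 145)) (.node (.leaf 910) (.leaf 1099))) (.node (.node (.leaf 1093) (.leaf 215)) (.node (.leaf 1102) (.leaf 597)))) (.node (.node (.node (.leaf 494) (.leaf 1418)) (.node (.leaf 539) (.leaf 1558))) (.node (.node (.leaf 1081) (.leaf 1339)) (.leaf 831))))) (.node (.node (.node (.node (.node (.leaf 1621) (.leaf 46)) (.node (.leaf 321) (.leaf 93))) (.node (.node (.leaf 1655) (.leaf 1196)) (.node (.leaf 698) (.leaf 695)))) (.node (.node (.node (.leaf 1820) (.leaf 1254)) (.node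 (.leaf 408) (.leaf 1607))) (.node (.node (.leaf 40) (.leaf 1164)) (.leaf 20)))) (.node (.node (.node (.node (.leaf 80) (.leaf 1317)) (.node (.leaf 1764) (.leaf 1216))) (.node (.node (.leaf 1911) (.leaf 473)) (.node (.leaf 454) (.leaf 644)))) (.node (.node (.node (.leaf 1381) (.leaf 1239)) (.node (.leaf 1017) (.leaf 907))) (.node (.node (.leaf 1793) (.leaf 1853)) (.leaf 293))))))) (.node (.node (.node (.node (.node (.node (.node (.leaf 794) (.leaf 476)) (.node (.leaf 682) (.leaf 242))) (.node (.node (.leaf 962) (.leaf 953)) (.node (.leaf 858) (.leaf 579)))) (.node (.node (.node (.leaf 1114) (.leaf 1750)) (.node (.leaf 1172) (.leaf 437))) (.node (.node (.leaf 1142) (.leaf 1296)) (.leaf 1603)))) (.node (.node (.node (.node (.leaf 109) (.leaf 1241)) (.node (.leaf 500) (.leaf 1412))) (.node (.node (.leaf 57) (.leaf 534)) (.node (.leaf 1811) (.leaf 276)))) (.node (.node (.node (.leaf 1187) (.leaf 1234)) (.node (.leaf 1291) (.leaf 1262))) (.node (.node (.leaf 1703) (.leaf 1456)) (.leaf 744))))) (.node (.node (.node (.node (.node (.leaf 712)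 (.leaf 1163)) (.node (.leaf 409) (.leaf 1472))) (.node (.node (.leaf 291) (.leaf 642)) (.node (.leaf 1349) (.leaf 25)))) (.node (.node (.node (.leaf 775) (.leaf 1674)) (.node (.leaf 1411) (.leaf 1321))) (.node (.node (.leaf 447) (.leaf 1560)) (.leaf 234)))) (.node (.node (.node (.node (.leaf 353) (.leaf 576)) (.node (.leaf 1444) (.leaf 334))) (.node (.node (.leaf 1661) (.leaf 1521)) (.node (.leaf 1209) (.leaf 1303)))) (.node (.node (.node (.leaf 686) (.leaf 77)) (.node (.leaf 671) (.leaf 1551))) (.node (.node (.leaf 28) (.leaf 780)) (.leaf 1265)))))) (.node (.node (.node (.node (.node (.node (.leaf 324) (.leaf 1631)) (.node (.leaf 987) (.leaf 1699))) (.node (.node (.leaf 1380) (.leaf 1158)) (.node (.leaf 1223) (.leaf 1852)))) (.node (.node (.node (.leaf 1706) (.leaf 1900)) (.node (.leaf 193) (.leaf 900))) (.node (.node (.leaf 1528) (.leaf 1072)) (.leaf 839)))) (.node (.node (.node (.node (.leaf 1299) (.leaf 310)) (.node (.leaf 1888) (.leaf 1662))) (.node (.node (.leaf 1126) (.leaf 578)) (.node (.leaf 1047) (.leaf 1327)))) (.node (.node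 (.node (.leaf 1651) (.leaf 777)) (.node (.leaf 1229) (.leaf 112))) (.node (.node (.leaf 781) (.leaf 824)) (.leaf 1302))))) (.node (.node (.node (.node (.node (.leaf 442) (.leaf 1828)) (.node (.leaf 140) (.leaf 1403))) (.node (.node (.leaf 658) (.leaf 1290)) (.node (.leaf 600) (.leaf 1036)))) (.node (.node (.node (.leaf 1904) (.leaf 1095)) (.node (.leaf 261) (.leaf 1493))) (.node (.node (.leaf 1732) (.leaf 312)) (.leaf 1870)))) (.node (.node (.node (.node (.leaf 357) (.leaf 1256)) (.node (.leaf 1067) (.leaf 1398))) (.node (.node (.leaf 1683) (.leaf 1214)) (.node (.leaf 574) (.leaf 1606)))) (.node (.node (.node (.leaf 1513) (.leaf 1563)) (.node (.leaf 1451) (.leaf 1504))) (.node (.node (.leaf 1668) (.leaf 595)) (.leaf 42))))))))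

def twoOrd : Janko.Tree (ℕ) := (.node (.node (.node twoOrd0 twoOrd4) (.node twoOrd2 twoOrd6)) (.node (.node twoOrd1 twoOrd5) (.node twoOrd3 twoOrd7)))

/-- words for the generators -/
def twoGenWords : List (List ℕ) := [[3, 2, 1, 2, 2, 2, 2, 2, 2, 2, 1, 2, 1, 2, 2, 3, 2, 1, 2, 2, 2, 2, 0, 0, 3, 0, 3, 0, 0, 0, 3, 2, 1, 2, 2, 2, 2, 1, 0, 3, 2, 1, 2, 2, 2, 2, 2, 3, 3, 2, 1, 2, 2, 2, 2, 2, 3, 3, 2, 1, 2, 2, 2, 2, 1, 0, 3, 2, 1, 2, 2, 2, 2, 3, 3, 3, 2, 2, 2, 3, 3, 2, 1, 2, 2, 2, 2, 1, 0, 0, 0, 1, 1, 1], [3, 2, 1, 2, 2, 2, 2, 3, 3, 3, 2, 2, 2, 3, 3, 2, 1, 2, 2, 2, 2, 1, 0, 0, 0, 1, 1, 1, 3, 2, 1, 2, 2, 2, 2, 2, 3, 3, 2, 1, 2, 2, 2, 2, 1, 0, 3, 2, 1, 2, 2, 2, 2, 2, 3, 0, 1, 2, 3, 2, 0, 0, 3, 2, 1, 2, 2, 2, 2, 2, 2, 0, 1, 0, 3, 2, 1, 0, 3, 2, 1, 2, 2, 2, 2, 2, 3, 3, 2, 1, 2, 2, 2, 2, 1, 0]]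

/-- the two conjugate involutions and a conjugating element -/
def twoPair : List ℕ × List ℕ × (List Bool × List Bool) := ([0, 1, 1, 2, 1, 0, 1, 2, 1, 0, 0], [2, 2, 3, 0, 3, 2, 3, 0, 3, 3, 2], ([false, false, false, true, false, false, false, true, false, false, false, true, false, false, false, true], [false, true, true, true]))

/-- the two extra variables -/
def twoExt : ℕ × ℕ := (3855, 3854)

def twoCombo0 : ℤ × List (ℤ × (ℕ × ℕ)) × List ℤ := (-5, [(-25, (0, 394)), (12, (12, 8))], [5, 0])

def twoCombo1 : ℤ × List (ℤ × (ℕ × ℕ)) × List ℤ := (0, [(1, (12, 8))], [0, -5])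

end Cfsg.Agent.Local.FS.JankoThree.Mult
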