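import Cfsg.Agent.Lib.Local.FS.JankoThreeMultTwoCheck
import Cfsg.Agent.Lib.Local.FS.JankoThreeMultThreeCheck
import Cfsg.Agent.Lib.Local.FS.JankoThreeAnyField
import Cfsg.Agent.Lib.Lie.CentralStage

/-!
The Schur multiplier of the third Janko group is cyclic of order three: central tables on an involution
centraliser and on the normaliser of a Sylow subgroup for the prime three, and the triple cover.
-/

set_option autoImplicit false
set_option maxRecDepth 100000

noncomputable section

namespace Cfsg.Agent.Local.FS.JankoThree.Mult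

open Cfsg Cfsg.Agent.Lie Cfsg.Agent.Spor.J3Cert
open Cfsg.Spor (F9 threeJ3)
open scoped commutatorElement

universe u

/-- The code of a word in the generators of a certificate. -/
def codeW (C : CentralCoded.Cert) (w : List Bool) : ℕ := w.foldr (fun s r => C.op (C.gen s) r) C.one

theorem code_ev {C : CentralCoded.Cert} {Γ G : Type*} [Group Γ] [Group G] (S : CentralCoded.Setup C Γ G)
    (w : List Bool) : S.code (S.σ (CentralTable.ev S.x w)) = codeW C w := by
  induction w with
  | nil => simp [CentralTable.ev, codeW, S.code_one]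
  | cons s w ih =>
    rw [CentralTable.ev_cons, map_mul, S.code_mul, S.rep_x, ih]
    rfl

/-- A prime dividing the order of a stem kernel divides that of a stem kernel of prime order. -/
theorem exists_stem_of_prime {Γ G : Type u} [Group Γ] [Group G] [Finite Γ] {σ : Γ →* G}
    (hσ : Cfsg.IsStemExtension σ) {q : ℕ} (hq : q.Prime) {z : σ.ker} (hz : z ^ q = 1) (hz1 : z ≠ 1) :
    ∃ (Δ : Type u) (_ : Group Δ) (_ : Finite Δ) (τ : Δ →* G), Cfsg.IsStemExtension τ ∧ Nat.card τ.ker = q := by
  haveI : Fact q.Prime := ⟨hq⟩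
  obtain ⟨hs, hc, hd⟩ := hσ
  letI : CommGroup σ.ker := { (inferInstance : Group σ.ker) with
    mul_comm := fun a b => Subtype.ext (Subgroup.mem_center_iff.1 (hc b.2) a) }
  obtain ⟨R, hR⟩ : ∃ R, R = (powMonoidHom q : σ.ker →* σ.ker).range := ⟨_, rfl⟩
  have hRne : R ≠ ⊤ := by
    intro e
    rw [hR, MonoidHom.range_eq_top] at e
    exact hz1 ((Finite.injective_iff_surjective.2 e) (show z ^ q = (1 : σ.ker) ^ q by rw [hz, one_pow]))
  have hp : IsPGroup q (σ.ker ⧸ R) := fun x => by
    refine ⟨1, ?_⟩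
    induction x using QuotientGroup.induction_on with
    | H a => rw [pow_one, ← QuotientGroup.mk_pow, QuotientGroup.eq_one_iff, hR]; exact ⟨a, rfl⟩
  obtain ⟨n, hn⟩ := hp.exists_card_eq
  have hn0 : n ≠ 0 := fun e => hRne (Subgroup.index_eq_one.1 (by rw [Subgroup.index, hn, e, pow_zero]))
  obtain ⟨M, hM⟩ := Sylow.exists_subgroup_card_pow_prime q (n := n - 1)
    (by rw [hn]; exact pow_dvd_pow q (by omega) : q ^ (n - 1) ∣ Nat.card (σ.ker ⧸ R))
  have hMi : M.index = q := by
    have h := Subgroup.card_mul_index M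
    rw [hM, hn, show n = (n - 1) + 1 by omega, pow_succ, Nat.add_sub_cancel] at h
    exact mul_left_cancel₀ (pow_ne_zero _ hq.ne_zero) h
  obtain ⟨K0, hK0⟩ : ∃ K0, K0 = M.comap (QuotientGroup.mk' R) := ⟨_, rfl⟩
  have hK0i : K0.index = q := by
    rw [hK0, Subgroup.index_comap_of_surjective _ (QuotientGroup.mk'_surjective R), hMi]
  obtain ⟨K, hK⟩ : ∃ K, K = K0.map σ.ker.subtype := ⟨_, rfl⟩
  have hKle : K ≤ σ.ker := hK ▸ Subgroup.map_subtype_le K0
  haveI : K.Normal := ⟨fun x hx g => by
    rwa [Subgroup.mem_center_iff.1 (hc (hKle hx)) g, mul_inv_cancel_right]⟩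
  have hτs : Function.Surjective (QuotientGroup.lift K σ hKle) :=
    fun g => (hs g).elim fun x hx => ⟨x, hx⟩
  have hker : (QuotientGroup.lift K σ hKle).ker = σ.ker.map (QuotientGroup.mk' K) := QuotientGroup.ker_lift K σ hKle
  refine ⟨Γ ⧸ K, inferInstance, inferInstance, QuotientGroup.lift K σ hKle, ⟨hτs, ?_, ?_⟩, ?_⟩
  · rw [hker]
    rintro _ ⟨x, hx, rfl⟩
    refine Subgroup.mem_center_iff.2 fun y => ?_
    induction y using QuotientGroup.induction_on with
    | H a =>
      show QuotientGroup.mk' K a * QuotientGroup.mk' K x = QuotientGroup.mk' K x * QuotientGroup.mk' K a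
      rw [← map_mul, ← map_mul, Subgroup.mem_center_iff.1 (hc hx) a]
  · rw [hker]
    refine (Subgroup.map_mono hd).trans ?_
    rw [commutator_def, commutator_def, Subgroup.map_commutator]
    exact Subgroup.commutator_mono le_top le_top
  · have h1 : Nat.card G = (QuotientGroup.lift K σ hKle).ker.index := by
      rw [Subgroup.index_ker, MonoidHom.range_eq_top.2 hτs, Subgroup.card_top]
    have h2 := Subgroup.card_mul_index (QuotientGroup.lift K σ hKle).ker
    rw [← h1] at h2
    have h4 := Subgroup.card_mul_index σ.ker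
    rw [Subgroup.index_ker, MonoidHom.range_eq_top.2 hs, Subgroup.card_top] at h4
    have h5 : Nat.card K = Nat.card K0 := by rw [hK]; exact (Nat.card_congr (K0.equivMapOfInjective _ Subtype.val_injective).toEquiv).symm
    have h6 := Subgroup.card_eq_card_quotient_mul_card_subgroup K
    rw [← h2, h5, ← h4, ← Subgroup.card_mul_index K0, hK0i] at h6
    haveI : Finite G := Finite.of_surjective σ hs
    have hG : Nat.card G ≠ 0 := Nat.card_pos.ne'
    have hK0 : Nat.card K0 ≠ 0 := Nat.card_pos.ne'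
    have := mul_left_cancel₀ hG (show Nat.card G * (Nat.card K0 * q) =
      Nat.card G * (Nat.card K0 * Nat.card (QuotientGroup.lift K σ hKle).ker) by
        linear_combination h6)
    exact (mul_left_cancel₀ hK0 this).symm

section Bound

variable {J : Type u} [Group J] [Finite J] (c : Coded J)

include c in
theorem code_pow (a : J) (n : ℕ) : c.L (a ^ n) = (List.replicate n (c.L a)).foldr mulC oneC := by
  induction n with
  | zero => rw [pow_zero]; exact c.one
  | succ n ih => rw [pow_succ', c.mul, ih, List.replicate_succ, List.foldr_cons]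

/-- A setup from a certificate on the coded group. -/
theorem exists_setup {C : CentralCoded.Cert} (hop : C.op = mulC) (hone : C.one = oneC) (ws : List (List ℕ))
    (hws : ws.map wordC = [C.g0, C.g1]) (hv : C.Valid)
    (hpow : (List.replicate C.m0 C.g0).foldr mulC oneC = oneC ∧ (List.replicate C.m1 C.g1).foldr mulC oneC = oneC)
    {Γ : Type u} [Group Γ] [Finite Γ] {σ : Γ →* J} (hσ : Cfsg.IsStemExtension σ)
    (hk0 : ∀ z : σ.ker, z ^ C.m0 = 1 → z = 1) (hk1 : ∀ z : σ.ker, z ^ C.m1 = 1 → z = 1) :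
    ∃ S : CentralCoded.Setup C Γ J, S.σ = σ ∧ S.code = c.L := by
  have hg : ∀ a ∈ [C.g0, C.g1], ∃ g, c.L g = a := fun a ha => by
    rw [← hws, List.mem_map] at ha
    obtain ⟨w, -, rfl⟩ := ha
    exact ⟨c.ev w, c.ev_spec w⟩
  obtain ⟨a, ha⟩ := hg C.g0 (by simp)
  obtain ⟨b, hb⟩ := hg C.g1 (by simp)
  obtain ⟨x, hx, hx'⟩ := CentralTable.exists_lift hσ.1 hσ.2.1 hk0 (g := a)
    (c.inj _ _ (by rw [code_pow c, ha, hpow.1, c.one]))
  obtain ⟨y, hy, hy'⟩ := CentralTable.exists_lift hσ.1 hσ.2.1 hk1 (g := b)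
    (c.inj _ _ (by rw [code_pow c, hb, hpow.2, c.one]))
  exact ⟨{ σ := σ, central := hσ.2.1, code := c.L, code_mul := fun g h => by rw [c.mul, hop]
           code_one := by rw [c.one, hone], code_inj := c.inj, x := fun s => bif s then y else x
           rep_x := by intro s; cases s <;> simp [CentralCoded.Cert.gen, hx, hy, ha, hb]
           pow_x := by intro s; cases s <;> simpa
           valid := hv }, rfl, rfl⟩

theorem two_facts : twoGenWords.map wordC = [twoCert.g0, twoCert.g1] ∧
    (List.replicate twoCert.m0 twoCert.g0).foldr mulC oneC = oneC ∧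
    (List.replicate twoCert.m1 twoCert.g1).foldr mulC oneC = oneC ∧
    mulC (wordC twoPair.1) (mulC (codeW twoCert twoPair.2.2.1) (wordC twoPair.2.1)) = codeW twoCert twoPair.2.2.2 ∧
    mulC (wordC twoPair.1) (wordC twoPair.2.1) = oneC ∧
    twoCert.rel 14 = twoPair.2.2.1 ++ twoPair.2.2.1 ∧ twoCert.rel 15 = twoPair.2.2.2 ++ twoPair.2.2.2 ∧
    twoExt = (twoCert.cvar 15, twoCert.cvar 14) ∧ twoCombo0.2.2 = [5, 0] ∧ twoCombo1.2.2 = [0, -5] ∧
    twoCert.m0 = 5 ∧ twoCert.m1 = 5 ∧ twoCert.N = 1920 ∧ twoCert.P = 2 ∧ twoCert.rels.length = 16 := by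
  decide +kernel

theorem three_facts : threeGenWords.map wordC = [threeCert.g0, threeCert.g1] ∧
    (List.replicate threeCert.m0 threeCert.g0).foldr mulC oneC = oneC ∧
    (List.replicate threeCert.m1 threeCert.g1).foldr mulC oneC = oneC ∧
    threeCombo0.2.2 = [-12] ∧ threeCert.m0 ∣ 8 ∧ threeCert.m1 ∣ 8 ∧ threeCert.N = 1944 ∧ threeCert.P = 1 := by
  decide +kernel

include c in
theorem no_two {Γ : Type u} [Group Γ] [Finite Γ] {σ : Γ →* J} (hσ : Cfsg.IsStemExtension σ) :
    Nat.card σ.ker ≠ 2 := by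
  intro hcard
  obtain ⟨hws, hp0, hp1, hconj, hginv, hr14, hr15, hext, ht0, ht1, hm0, hm1, hN, hP, hlen⟩ := two_facts
  have hsq : ∀ z : σ.ker, z ^ 2 = 1 := fun z => hcard ▸ pow_card_eq_one'
  have hodd : ∀ z : σ.ker, z ^ 5 = 1 → z = 1 := fun z h5 => by
    rwa [show (5 : ℕ) = 2 * 2 + 1 from rfl, pow_succ, pow_mul, hsq z, one_pow, one_mul] at h5
  obtain ⟨S, rfl, hcode⟩ := exists_setup c (C := twoCert) rfl rfl twoGenWords hws two_valid ⟨hp0, hp1⟩ hσ
    (by rw [hm0]; exact hodd) (by rw [hm1]; exact hodd)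
  letI := S.kerGroup
  -- the two involutions have lifts with equal squares
  have hab : S.val twoExt.1 = S.val twoExt.2 := by
    rw [hext]
    refine Subtype.ext ?_
    rw [S.val_rel (by omega), S.val_rel (by omega), hr14, hr15, CentralTable.ev_append,
      CentralTable.ev_append]
    generalize hT : CentralTable.ev S.x twoPair.2.2.1 = T
    generalize hX : CentralTable.ev S.x twoPair.2.2.2 = X
    obtain ⟨γ, hγ⟩ := hσ.1 (c.ev twoPair.1)
    have hinv : c.L (c.ev twoPair.1)⁻¹ = wordC twoPair.2.1 := by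
      rw [inv_eq_of_mul_eq_one_right (b := c.ev twoPair.2.1)
        (c.inj _ _ (by rw [c.mul, c.ev_spec, c.ev_spec, hginv, c.one])), c.ev_spec]
    have hσX : S.σ X = S.σ (γ * T * γ⁻¹) := by
      refine c.inj _ _ ?_
      rw [map_mul, map_mul, map_inv, hγ, mul_assoc, c.mul, c.mul, hinv, c.ev_spec, ← hX, ← hT, ← hcode,
        code_ev, code_ev, hconj]
    obtain ⟨k, hk⟩ : ∃ k : S.σ.ker, X = γ * T * γ⁻¹ * k :=
      ⟨⟨(γ * T * γ⁻¹)⁻¹ * X, by rw [MonoidHom.mem_ker, map_mul, map_inv, hσX, inv_mul_cancel]⟩,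
        (mul_inv_cancel_left _ _).symm⟩
    have hTT : T * T ∈ S.σ.ker := by
      have h := S.valG_mem (v := twoCert.cvar 14) (by simp only [CentralCoded.Cert.V, CentralCoded.Cert.cvar]; omega)
      rw [← S.val_coe (by simp only [CentralCoded.Cert.V, CentralCoded.Cert.cvar]; omega),
        S.val_rel (by omega), hr14, CentralTable.ev_append, hT] at h
      exact h
    have hcom : Commute (γ * T * γ⁻¹) (k : Γ) := Subgroup.mem_center_iff.1 (S.central k.2) _
    rw [hk, ← pow_two, ← pow_two, hcom.mul_pow, show (k : Γ) ^ 2 = 1 from congrArg Subtype.val (hsq k), mul_one,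
      pow_two, show γ * T * γ⁻¹ * (γ * T * γ⁻¹) = γ * (T * T) * γ⁻¹ by group,
      Subgroup.mem_center_iff.1 (S.central hTT) γ, mul_inv_cancel_right, pow_two]
  have h0 := S.combo two_combo0 hab
  have h1 := S.combo two_combo1 hab
  rw [ht0] at h0
  rw [ht1] at h1
  simp only [CentralTable.lin, zero_smul, add_zero, zero_add] at h0 h1
  have hu : ∀ p < twoCert.P, Additive.toMul (S.u p) ∈ (⊥ : Subgroup S.σ.ker) := by
    intro p hp
    rw [Subgroup.mem_bot]
    refine hodd _ ?_
    rw [hP] at hp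
    interval_cases p
    · have := congrArg Additive.toMul h0
      rwa [toMul_zsmul, show (5 : ℤ) = ((5 : ℕ) : ℤ) from rfl, zpow_natCast] at this
    · have := congrArg Additive.toMul h1
      rw [toMul_zsmul, show (-5 : ℤ) = -((5 : ℕ) : ℤ) from rfl, zpow_neg, zpow_natCast] at this
      exact inv_eq_one.1 this
  obtain ⟨z, hz⟩ : ∃ z : S.σ.ker, z ≠ 1 := by
    haveI : Nontrivial S.σ.ker := Finite.one_lt_card_iff_nontrivial.1 (by omega)
    exact exists_ne 1
  obtain ⟨P, hPdef⟩ : ∃ P, P = Subgroup.closure (Set.range fun s => S.σ (S.x s)) := ⟨_, rfl⟩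
  have hPc : Nat.card P = 1920 := by rw [hPdef, S.card_image two_ord, hN]
  have hidx : P.index = 26163 := by
    have h := Subgroup.card_mul_index P
    rw [hPc, c.card] at h
    omega
  obtain ⟨k, hk, hkz⟩ := CentralCoded.pow_index_mem_commutator hσ.1 hσ.2.1 hσ.2.2 P z
  have hkD := CentralCoded.commutator_comap_le hσ.2.1 S.x P hPdef.symm hk
  have hmem := S.ker_mem ⊥ hu hkD (by rw [hkz, map_pow, MonoidHom.mem_ker.1 z.2, one_pow])
  rw [Subgroup.mem_bot] at hmem
  refine hz ?_
  have h : (z : Γ) ^ (2 * 13081 + 1) = 1 := by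
    have := congrArg Subtype.val hmem
    rw [show 2 * 13081 + 1 = P.index by rw [hidx], ← hkz]
    exact this
  have h2 : (z : Γ) ^ 2 = 1 := congrArg Subtype.val (hsq z)
  rw [pow_succ, pow_mul, h2, one_pow, one_mul] at h
  exact Subtype.ext h

include c in
theorem kernel_bound {Γ : Type u} [Group Γ] [Finite Γ] {σ : Γ →* J} (hσ : Cfsg.IsStemExtension σ) :
    ∃ g : σ.ker, g ^ 3 = 1 ∧ ∀ k : σ.ker, k ∈ Subgroup.zpowers g := by
  have hno : ∀ q, q.Prime → q ≠ 3 → ∀ z : σ.ker, z ^ q = 1 → z = 1 := by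
    intro q hq h3 z hz
    by_cases h2 : q = 2
    · by_contra hne
      obtain ⟨Δ, _, _, τ, hτ, hcard⟩ := exists_stem_of_prime hσ hq hz hne
      exact no_two c hτ (h2 ▸ hcard)
    refine CentralTable.ker_no_torsion hσ hq (fun h => ?_) z hz
    rw [c.card, show (50232960 : ℕ) = 2 ^ 7 * 3 ^ 5 * 5 * 17 * 19 by norm_num] at h
    have hdvd : q ∣ 2 ^ 7 * 3 ^ 5 * 5 * 17 * 19 := (dvd_pow_self q two_ne_zero).trans h
    simp only [hq.dvd_mul] at hdvd
    have key : ∀ p : ℕ, p.Prime → q ∣ p → q = p := fun p hp e => (Nat.prime_dvd_prime_iff_eq hq hp).1 e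
    rcases hdvd with (((e | e) | e) | e) | e
    · exact h2 (key 2 Nat.prime_two (hq.dvd_of_dvd_pow e))
    · exact h3 (key 3 Nat.prime_three (hq.dvd_of_dvd_pow e))
    all_goals
      obtain rfl := key _ (by norm_num) e
      norm_num at h
  obtain ⟨m, hm⟩ : ∃ m, Nat.card σ.ker = 3 ^ m := by
    refine ⟨_, Nat.eq_prime_pow_of_unique_prime_dvd Nat.card_pos.ne' fun {q} hq hd => ?_⟩
    by_contra h3
    haveI : Fact q.Prime := ⟨hq⟩
    obtain ⟨z, hz⟩ := exists_prime_orderOf_dvd_card' (G := σ.ker) q hd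
    have := hno q hq h3 z (hz ▸ pow_orderOf_eq_one z)
    rw [this, orderOf_one] at hz
    exact hq.one_lt.ne hz
  have hco : ∀ n, Nat.Coprime n 3 → ∀ z : σ.ker, z ^ n = 1 → z = 1 := by
    intro n hn z hz
    have hc : Nat.Coprime n (3 ^ m) := hn.pow_right m
    rw [← hm] at hc
    refine (powCoprime hc.symm).injective ?_
    show z ^ n = (1 : σ.ker) ^ n
    rw [hz, one_pow]
  obtain ⟨hws, hp0, hp1, ht, hm0, hm1, hN, hP⟩ := three_facts
  have hdvd : ∀ n, n ∣ 8 → ∀ z : σ.ker, z ^ n = 1 → z = 1 := fun n hn => hco n <|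
    Nat.Coprime.coprime_dvd_left hn (by norm_num)
  obtain ⟨S, rfl, -⟩ := exists_setup c (C := threeCert) rfl rfl threeGenWords hws three_valid ⟨hp0, hp1⟩ hσ
    (hdvd _ hm0) (hdvd _ hm1)
  letI := S.kerGroup
  have h0 := S.combo three_combo0 rfl
  rw [ht] at h0
  simp only [CentralTable.lin, add_zero] at h0
  generalize hg : Additive.toMul (S.u 0) = g at h0
  have hg12 : g ^ 12 = 1 := by
    have := congrArg Additive.toMul h0
    rw [toMul_zsmul, show (-12 : ℤ) = -((12 : ℕ) : ℤ) from rfl, zpow_neg, zpow_natCast, hg] at this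
    exact inv_eq_one.1 this
  have hg3 : g ^ 3 = 1 := hco 4 (by norm_num) _ (by rw [← pow_mul]; exact hg12)
  refine ⟨g, hg3, fun z => ?_⟩
  obtain ⟨P, hPdef⟩ : ∃ P, P = Subgroup.closure (Set.range fun s => S.σ (S.x s)) := ⟨_, rfl⟩
  have hPc : Nat.card P = 1944 := by rw [hPdef, S.card_image three_ord, hN]
  have hidx : P.index = 25840 := by
    have h := Subgroup.card_mul_index P
    rw [hPc, c.card] at h
    omega
  obtain ⟨k, hk, hkz⟩ := CentralCoded.pow_index_mem_commutator hσ.1 hσ.2.1 hσ.2.2 P z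
  have hkD := CentralCoded.commutator_comap_le hσ.2.1 S.x P hPdef.symm hk
  have hmem := S.ker_mem (Subgroup.zpowers g) (fun p hp => by
      rw [hP] at hp
      rw [show p = 0 by omega, hg]
      exact Subgroup.mem_zpowers g) hkD (by rw [hkz, map_pow, MonoidHom.mem_ker.1 z.2, one_pow])
  have hc : Nat.Coprime (Nat.card S.σ.ker) 25840 := by rw [hm]; exact Nat.Coprime.pow_left m (by norm_num)
  have hz : z ^ 25840 ∈ Subgroup.zpowers g := by
    convert hmem using 1
    exact Subtype.ext (by rw [hkz, hidx]; rfl)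
  rw [← (powCoprime hc).symm_apply_apply z]
  exact Subgroup.zpow_mem _ (show (powCoprime hc) z ∈ Subgroup.zpowers g from hz) _

end Bound

/-- Main statement. -/
theorem multiplier {F : Type u} [Field F] [Fintype F] (hF : Fintype.card F = 4) (ω : F) (hω : ω ^ 2 + ω + 1 = 0) :
    Cfsg.HasCyclicSchurMultiplier (Cfsg.Spor.J3 F ω) 3 := by
  classical
  obtain ⟨⟨c⟩, _⟩ := exists_coded_any hF ω hω
  refine Solv.hasCyclicSchur_of ?_ fun Γ _ _ σ hσ => kernel_bound c hσ
  obtain ⟨F', _, _, ω', hF', hω', ⟨e⟩⟩ := exists_small hF ω hω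
  obtain ⟨-, -⟩ := J3_facts hF' hω'
  have hperf : commutator (threeJ3 F' ω') = ⊤ := by
    refine top_le_iff.1 ?_
    rw [← gset_closure hF' hω', Subgroup.closure_le]
    intro h hh
    have h19 := gset_pow hF' hω' hh
    rw [← Abelianization.ker_of, SetLike.mem_coe, MonoidHom.mem_ker]
    have hd : orderOf (Abelianization.of h) ∣ Nat.gcd 19 3 := by
      refine Nat.dvd_gcd (orderOf_dvd_of_pow_eq_one (by rw [← map_pow, h19, map_one])) ?_
      have htop : (Subgroup.center (threeJ3 F' ω')).map Abelianization.of = ⊤ := by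
        haveI : IsSimpleGroup (Spor.J3 F' ω') := (J3_facts hF' hω').2
        have hJ : commutator (Spor.J3 F' ω') = ⊤ := by
          rcases (inferInstance : (commutator (Spor.J3 F' ω')).Normal).eq_bot_or_eq_top with h | h
          · exfalso
            haveI : IsMulCommutative (Spor.J3 F' ω') := by
              refine ⟨⟨fun a b => ?_⟩⟩
              have : ⁅a, b⁆ ∈ commutator (Spor.J3 F' ω') :=
                Subgroup.commutator_mem_commutator (Subgroup.mem_top a) (Subgroup.mem_top b)
              rw [h, Subgroup.mem_bot, commutatorElement_eq_one_iff_mul_comm] at this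
              exact this
            letI : CommGroup (Spor.J3 F' ω') :=
              { (inferInstance : Group (Spor.J3 F' ω')) with mul_comm := mul_comm' }
            have := (IsSimpleGroup.prime_card (α := Spor.J3 F' ω'))
            rw [(J3_facts hF' hω').1] at this
            norm_num at this
          · exact h
        refine top_le_iff.1 fun y _ => ?_
        induction y using QuotientGroup.induction_on with
        | H a =>
          have ha : QuotientGroup.mk' (Subgroup.center (threeJ3 F' ω')) a ∈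
              (commutator (threeJ3 F' ω')).map (QuotientGroup.mk' _) := by
            rw [commutator_def, Subgroup.map_commutator,
              Subgroup.map_top_of_surjective _ (QuotientGroup.mk'_surjective _), ← commutator_def, hJ]
            trivial
          obtain ⟨d, hd, hde⟩ := ha
          refine ⟨d⁻¹ * a, QuotientGroup.eq.1 hde, ?_⟩
          rw [map_mul, map_inv, MonoidHom.mem_ker.1 (Abelianization.commutator_subset_ker _ hd), inv_one, one_mul]
          rfl
      have hmem : Abelianization.of h ∈ (Subgroup.center (threeJ3 F' ω')).map Abelianization.of := by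
        rw [htop]; trivial
      obtain ⟨w, hw, hwe⟩ := hmem
      rw [← hwe]
      refine (orderOf_map_dvd _ w).trans ?_
      have := Subgroup.orderOf_dvd_natCard _ hw
      rwa [center_card hF' hω'] at this
    exact orderOf_eq_one_iff.1 (Nat.dvd_one.1 hd)
  haveI : Finite (threeJ3 F' ω') := inferInstance
  let σ : ULift.{u} (threeJ3 F' ω') →* Spor.J3 F ω :=
    e.symm.toMonoidHom.comp ((QuotientGroup.mk' _).comp (MulEquiv.ulift (α := threeJ3 F' ω')).toMonoidHom)
  have hker : σ.ker = (Subgroup.center (threeJ3 F' ω')).comap (MulEquiv.ulift (α := threeJ3 F' ω')).toMonoidHom := by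
    ext x
    simp only [σ, MonoidHom.mem_ker, MonoidHom.comp_apply, Subgroup.mem_comap]
    show e.symm _ = 1 ↔ _
    rw [map_eq_one_iff _ e.symm.injective]
    exact QuotientGroup.eq_one_iff _
  refine ⟨ULift.{u} (threeJ3 F' ω'), inferInstance, inferInstance, σ, ⟨?_, ?_, ?_⟩, ?_⟩
  · exact e.symm.surjective.comp ((QuotientGroup.mk'_surjective _).comp MulEquiv.ulift.surjective)
  · rw [hker]
    intro x hx
    refine Subgroup.mem_center_iff.2 fun y => MulEquiv.ulift.injective ?_
    rw [map_mul, map_mul]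
    exact Subgroup.mem_center_iff.1 hx _
  · intro x _
    have h : (commutator (ULift.{u} (threeJ3 F' ω'))).map (MulEquiv.ulift (α := threeJ3 F' ω')).toMonoidHom = ⊤ := by
      rw [commutator_def, Subgroup.map_commutator, Subgroup.map_top_of_surjective _ MulEquiv.ulift.surjective,
        ← commutator_def, hperf]
    have hx : MulEquiv.ulift x ∈ (⊤ : Subgroup (threeJ3 F' ω')) := Subgroup.mem_top _
    rw [← h] at hx
    obtain ⟨y, hy, hye⟩ := hx
    exact MulEquiv.ulift.injective hye ▸ hy
  · haveI : Fact (Nat.Prime 3) := ⟨Nat.prime_three⟩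
    have hc3 : Nat.card σ.ker = 3 := by
      rw [hker]; refine Eq.trans ?_ (center_card hF' hω')
      exact Nat.card_congr ((MulEquiv.ulift (α := threeJ3 F' ω')).subgroupMap _ |>.trans
        (MulEquiv.subgroupCongr (Subgroup.map_comap_eq_self_of_surjective MulEquiv.ulift.surjective _))).toEquiv
    exact ⟨mulEquivOfPrimeCardEq (p := 3) hc3 (by rw [Nat.card_congr Multiplicative.toAdd, Nat.card_zmod])⟩

end Cfsg.Agent.Local.FS.JankoThree.Mult
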