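import Cfsg.Agent.Lib.Local.FS.JankoThreeLocalDefs

/-!
A share of the scan of the table of involutions.
-/

set_option autoImplicit false
set_option maxRecDepth 100000

namespace Cfsg.Agent.Local.FS.JankoThree

theorem scan_1 : runOK scanOK 512 512 = true := by decide +kernel

theorem scan_5 : runOK scanOK 2560 512 = true := by decide +kernel

theorem scan_9 : runOK scanOK 4608 512 = true := by decide +kernel

theorem scan_13 : runOK scanOK 6656 512 = true := by decide +kernel

theorem scan_17 : runOK scanOK 8704 512 = true := by decide +kernel

theorem scan_21 : runOK scanOK 10752 512 = true := by decide +kernel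

theorem scan_25 : runOK scanOK 12800 512 = true := by decide +kernel

theorem scan_29 : runOK scanOK 14848 512 = true := by decide +kernel

theorem scan_33 : runOK scanOK 16896 512 = true := by decide +kernel

theorem scan_37 : runOK scanOK 18944 512 = true := by decide +kernel

theorem scan_41 : runOK scanOK 20992 512 = true := by decide +kernel

theorem scan_45 : runOK scanOK 23040 512 = true := by decide +kernel

theorem scan_49 : runOK scanOK 25088 512 = true := by decide +kernel

end Cfsg.Agent.Local.FS.JankoThree
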