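import Cfsg.Agent.Lib.Local.FS.JankoThreeLocalDefs

/-!
A share of the scan of the table of involutions.
-/

set_option autoImplicit false
set_option maxRecDepth 100000

namespace Cfsg.Agent.Local.FS.JankoThree

theorem scan_2 : runOK scanOK 1024 512 = true := by decide +kernel

theorem scan_6 : runOK scanOK 3072 512 = true := by decide +kernel

theorem scan_10 : runOK scanOK 5120 512 = true := by decide +kernel

theorem scan_14 : runOK scanOK 7168 512 = true := by decide +kernel

theorem scan_18 : runOK scanOK 9216 512 = true := by decide +kernel

theorem scan_22 : runOK scanOK 11264 512 = true := by decide +kernel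

theorem scan_26 : runOK scanOK 13312 512 = true := by decide +kernel

theorem scan_30 : runOK scanOK 15360 512 = true := by decide +kernel

theorem scan_34 : runOK scanOK 17408 512 = true := by decide +kernel

theorem scan_38 : runOK scanOK 19456 512 = true := by decide +kernel

theorem scan_42 : runOK scanOK 21504 512 = true := by decide +kernel

theorem scan_46 : runOK scanOK 23552 512 = true := by decide +kernel

theorem scan_50 : runOK scanOK 25600 512 = true := by decide +kernel

end Cfsg.Agent.Local.FS.JankoThree
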