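import Cfsg.Agent.Lib.Local.FS.JankoThreeLocalDefs

/-!
A share of the scan of the table of involutions.
-/

set_option autoImplicit false
set_option maxRecDepth 100000

namespace Cfsg.Agent.Local.FS.JankoThree

theorem scan_3 : runOK scanOK 1536 512 = true := by decide +kernel

theorem scan_7 : runOK scanOK 3584 512 = true := by decide +kernel

theorem scan_11 : runOK scanOK 5632 512 = true := by decide +kernel

theorem scan_15 : runOK scanOK 7680 512 = true := by decide +kernel

theorem scan_19 : runOK scanOK 9728 512 = true := by decide +kernel

theorem scan_23 : runOK scanOK 11776 512 = true := by decide +kernel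

theorem scan_27 : runOK scanOK 13824 512 = true := by decide +kernel

theorem scan_31 : runOK scanOK 15872 512 = true := by decide +kernel

theorem scan_35 : runOK scanOK 17920 512 = true := by decide +kernel

theorem scan_39 : runOK scanOK 19968 512 = true := by decide +kernel

theorem scan_43 : runOK scanOK 22016 512 = true := by decide +kernel

theorem scan_47 : runOK scanOK 24064 512 = true := by decide +kernel

theorem scan_51 : runOK scanOK 26112 51 = true := by decide +kernel

end Cfsg.Agent.Local.FS.JankoThree
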