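import Cfsg.Agent.Lib.Local.FS.JankoThreeScanCheck0
import Cfsg.Agent.Lib.Local.FS.JankoThreeScanCheck1
import Cfsg.Agent.Lib.Local.FS.JankoThreeScanCheck2
import Cfsg.Agent.Lib.Local.FS.JankoThreeScanCheck3

/-!
The scan of the table of involutions.
-/

set_option autoImplicit false
set_option maxRecDepth 100000

namespace Cfsg.Agent.Local.FS.JankoThree

theorem scan_all (i : ℕ) (hi : i < 26163) : scanOK i = true := by
  rcases Nat.lt_or_ge i 13312 with h | h
  · skip
    rcases Nat.lt_or_ge i 6656 with h | h
    · skip
      rcases Nat.lt_or_ge i 3072 with h | h
      · skip
        rcases Nat.lt_or_ge i 1536 with h | h
        · skip
          rcases Nat.lt_or_ge i 512 with h | h
          · skip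
            exact runOK_spec scan_0 (by omega) (by omega)
          · skip
            rcases Nat.lt_or_ge i 1024 with h | h
            · skip
              exact runOK_spec scan_1 (by omega) (by omega)
            · skip
              exact runOK_spec scan_2 (by omega) (by omega)
        · skip
          rcases Nat.lt_or_ge i 2048 with h | h
          · skip
            exact runOK_spec scan_3 (by omega) (by omega)
          · skip
            rcases Nat.lt_or_ge i 2560 with h | h
            · skip
              exact runOK_spec scan_4 (by omega) (by omega)
            · skip
              exact runOK_spec scan_5 (by omega) (by omega)
      · skip
        rcases Nat.lt_or_ge i 4608 with h | h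
        · skip
          rcases Nat.lt_or_ge i 3584 with h | h
          · skip
            exact runOK_spec scan_6 (by omega) (by omega)
          · skip
            rcases Nat.lt_or_ge i 4096 with h | h
            · skip
              exact runOK_spec scan_7 (by omega) (by omega)
            · skip
              exact runOK_spec scan_8 (by omega) (by omega)
        · skip
          rcases Nat.lt_or_ge i 5632 with h | h
          · skip
            rcases Nat.lt_or_ge i 5120 with h | h
            · skip
              exact runOK_spec scan_9 (by omega) (by omega)
            · skip
              exact runOK_spec scan_10 (by omega) (by omega)
          · skip
            rcases Nat.lt_or_ge i 6144 with h | h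
            · skip
              exact runOK_spec scan_11 (by omega) (by omega)
            · skip
              exact runOK_spec scan_12 (by omega) (by omega)
    · skip
      rcases Nat.lt_or_ge i 9728 with h | h
      · skip
        rcases Nat.lt_or_ge i 8192 with h | h
        · skip
          rcases Nat.lt_or_ge i 7168 with h | h
          · skip
            exact runOK_spec scan_13 (by omega) (by omega)
          · skip
            rcases Nat.lt_or_ge i 7680 with h | h
            · skip
              exact runOK_spec scan_14 (by omega) (by omega)
            · skip
              exact runOK_spec scan_15 (by omega) (by omega)
        · skip
          rcases Nat.lt_or_ge i 8704 with h | h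
          · skip
            exact runOK_spec scan_16 (by omega) (by omega)
          · skip
            rcases Nat.lt_or_ge i 9216 with h | h
            · skip
              exact runOK_spec scan_17 (by omega) (by omega)
            · skip
              exact runOK_spec scan_18 (by omega) (by omega)
      · skip
        rcases Nat.lt_or_ge i 11264 with h | h
        · skip
          rcases Nat.lt_or_ge i 10240 with h | h
          · skip
            exact runOK_spec scan_19 (by omega) (by omega)
          · skip
            rcases Nat.lt_or_ge i 10752 with h | h
            · skip
              exact runOK_spec scan_20 (by omega) (by omega)
            · skip
              exact runOK_spec scan_21 (by omega) (by omega)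
        · skip
          rcases Nat.lt_or_ge i 12288 with h | h
          · skip
            rcases Nat.lt_or_ge i 11776 with h | h
            · skip
              exact runOK_spec scan_22 (by omega) (by omega)
            · skip
              exact runOK_spec scan_23 (by omega) (by omega)
          · skip
            rcases Nat.lt_or_ge i 12800 with h | h
            · skip
              exact runOK_spec scan_24 (by omega) (by omega)
            · skip
              exact runOK_spec scan_25 (by omega) (by omega)
  · skip
    rcases Nat.lt_or_ge i 19968 with h | h
    · skip
      rcases Nat.lt_or_ge i 16384 with h | h
      · skip
        rcases Nat.lt_or_ge i 14848 with h | h
        · skip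
          rcases Nat.lt_or_ge i 13824 with h | h
          · skip
            exact runOK_spec scan_26 (by omega) (by omega)
          · skip
            rcases Nat.lt_or_ge i 14336 with h | h
            · skip
              exact runOK_spec scan_27 (by omega) (by omega)
            · skip
              exact runOK_spec scan_28 (by omega) (by omega)
        · skip
          rcases Nat.lt_or_ge i 15360 with h | h
          · skip
            exact runOK_spec scan_29 (by omega) (by omega)
          · skip
            rcases Nat.lt_or_ge i 15872 with h | h
            · skip
              exact runOK_spec scan_30 (by omega) (by omega)
            · skip
              exact runOK_spec scan_31 (by omega) (by omega)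
      · skip
        rcases Nat.lt_or_ge i 17920 with h | h
        · skip
          rcases Nat.lt_or_ge i 16896 with h | h
          · skip
            exact runOK_spec scan_32 (by omega) (by omega)
          · skip
            rcases Nat.lt_or_ge i 17408 with h | h
            · skip
              exact runOK_spec scan_33 (by omega) (by omega)
            · skip
              exact runOK_spec scan_34 (by omega) (by omega)
        · skip
          rcases Nat.lt_or_ge i 18944 with h | h
          · skip
            rcases Nat.lt_or_ge i 18432 with h | h
            · skip
              exact runOK_spec scan_35 (by omega) (by omega)
            · skip
              exact runOK_spec scan_36 (by omega) (by omega)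
          · skip
            rcases Nat.lt_or_ge i 19456 with h | h
            · skip
              exact runOK_spec scan_37 (by omega) (by omega)
            · skip
              exact runOK_spec scan_38 (by omega) (by omega)
    · skip
      rcases Nat.lt_or_ge i 23040 with h | h
      · skip
        rcases Nat.lt_or_ge i 21504 with h | h
        · skip
          rcases Nat.lt_or_ge i 20480 with h | h
          · skip
            exact runOK_spec scan_39 (by omega) (by omega)
          · skip
            rcases Nat.lt_or_ge i 20992 with h | h
            · skip
              exact runOK_spec scan_40 (by omega) (by omega)
            · skip
              exact runOK_spec scan_41 (by omega) (by omega)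
        · skip
          rcases Nat.lt_or_ge i 22016 with h | h
          · skip
            exact runOK_spec scan_42 (by omega) (by omega)
          · skip
            rcases Nat.lt_or_ge i 22528 with h | h
            · skip
              exact runOK_spec scan_43 (by omega) (by omega)
            · skip
              exact runOK_spec scan_44 (by omega) (by omega)
      · skip
        rcases Nat.lt_or_ge i 24576 with h | h
        · skip
          rcases Nat.lt_or_ge i 23552 with h | h
          · skip
            exact runOK_spec scan_45 (by omega) (by omega)
          · skip
            rcases Nat.lt_or_ge i 24064 with h | h
            · skip
              exact runOK_spec scan_46 (by omega) (by omega)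
            · skip
              exact runOK_spec scan_47 (by omega) (by omega)
        · skip
          rcases Nat.lt_or_ge i 25600 with h | h
          · skip
            rcases Nat.lt_or_ge i 25088 with h | h
            · skip
              exact runOK_spec scan_48 (by omega) (by omega)
            · skip
              exact runOK_spec scan_49 (by omega) (by omega)
          · skip
            rcases Nat.lt_or_ge i 26112 with h | h
            · skip
              exact runOK_spec scan_50 (by omega) (by omega)
            · skip
              exact runOK_spec scan_51 (by omega) (by omega)

end Cfsg.Agent.Local.FS.JankoThree
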