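import Cfsg.Agent.Lib.Local.FS.JankoThreeAnyField
import Cfsg.Agent.Lib.Local.FS.JankoThreeScan
import Cfsg.Agent.Lib.Local.FS.JankoThreeGraphAut
import Cfsg.Prelude.Def_KGroupFacts

/-!
The outer automorphism group of the third Janko group has order two.
-/

set_option autoImplicit false
set_option maxRecDepth 100000

noncomputable section

namespace Cfsg.Agent.Local.FS.JankoThree

open Cfsg Cfsg.Agent.Spor.J3Cert Cfsg.Agent.Local.FS.OpCert

universe u

theorem surv_ok : (uTree.flat.all survOK) = true := by decide +kernel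

theorem u_ne : uReps.getD 0 0 ≠ clsElt 0 := by decide +kernel

theorem triple_facts : vReps.getD 0 0 ≠ clsElt 0 ∧ uTree.mem (uReps.getD 0 0) = true ∧
    cTree.mem (vReps.getD 0 0) = true ∧ cTree.mem (vReps.getD 1 0) = true ∧
    mulC (vReps.getD 0 0) (vReps.getD 0 0) = oneC ∧
    mulC (uReps.getD 0 0) (uReps.getD 0 0) = oneC ∧ uReps.getD 0 0 ≠ oneC ∧ vReps.getD 0 0 ≠ oneC ∧
    mulC (mulC (clsElt 0) (uReps.getD 0 0)) (mulC (mulC (clsElt 0) (uReps.getD 0 0))
      (mulC (clsElt 0) (uReps.getD 0 0))) = oneC ∧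
    relOK (vReps.getD 0 0) (uReps.getD 0 0) = true ∧
    genWord (genWords.getD 0 []) = canN (genN 0) ∧ genWord (genWords.getD 1 []) = canN (genN 1) := by
  decide +kernel

/-- the data place of the first third-generator -/
theorem u_place : ∃ i < 26163, clsElt i = uReps.getD 0 0 :=
  ⟨513, by norm_num, by decide +kernel⟩

namespace Coded

variable {J : Type u} [Group J] [Finite J] (c : Coded J)

theorem mem_cls {x : J} (hx : orderOf x = 2) : ∃ i < 26163, clsElt i = c.L x := by
  have horb : Nat.card (MulAction.orbit (ConjAct J) c.z) * Nat.card (MulAction.stabilizer (ConjAct J) c.z) =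
      Nat.card J := by
    rw [← Nat.card_prod]
    exact Nat.card_congr (MulAction.orbitProdStabilizerEquivGroup (ConjAct J) c.z)
  have e1 : Nat.card (MulAction.orbit (ConjAct J) c.z) = Nat.card {y // _root_.IsConj c.z y} :=
    Nat.card_congr (Equiv.subtypeEquivRight fun y => by rw [ConjAct.mem_orbit_conjAct]; exact isConj_comm)
  have e2 : Nat.card (MulAction.stabilizer (ConjAct J) c.z) = Nat.card c.C := by
    rw [ConjAct.stabilizer_eq_centralizer]
    exact Nat.card_congr (Equiv.refl _)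
  rw [e1, e2, c.card, c.centralizer_facts.1] at horb
  choose y hy hyL using c.exists_cls
  have hord : ∀ k < 26163, clsOrd k < 26163 := fun k hk => by
    have h := ord_all k hk
    rw [ordOK, Bool.and_eq_true] at h
    exact Nat.le_of_ble_eq_true h.1
  have hstep : ∀ k, k + 1 < 26163 → clsElt (clsOrd k) < clsElt (clsOrd (k + 1)) := fun k hk => by
    have h := ord_all k (by omega)
    simp only [ordOK, Bool.and_eq_true, Bool.or_eq_true] at h
    rcases h.2 with h | h
    · have := Nat.le_of_ble_eq_true h; omega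
    · exact Nat.le_of_ble_eq_true h
  let f : Fin 26163 → {y // _root_.IsConj c.z y} := fun k => ⟨y _ (hord k k.2), hy _ (hord k k.2)⟩
  have hf : Function.Injective f := fun a b h => Fin.ext (by
    refine step_inj (f := fun k => clsElt (clsOrd k)) (n := 26163) hstep a.2 b.2 ?_
    show clsElt (clsOrd a) = clsElt (clsOrd b)
    rw [← hyL _ (hord a a.2), ← hyL _ (hord b b.2)]
    exact congrArg c.L (congrArg Subtype.val h))
  have hbij : Function.Bijective f :=
    (Nat.bijective_iff_injective_and_card f).2 ⟨hf, by rw [Nat.card_fin]; omega⟩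
  obtain ⟨k, hk⟩ := hbij.2 ⟨x, c.isConj_z hx⟩
  exact ⟨clsOrd k, hord k k.2, by rw [← hyL _ (hord k k.2)]; exact congrArg c.L (congrArg Subtype.val hk)⟩

theorem gen_top {v u : J} (hv : c.L v = vReps.getD 0 0) (hu : c.L u = uReps.getD 0 0) :
    Subgroup.closure {c.z, v, u} = (⊤ : Subgroup J) := by
  set H := Subgroup.closure ({c.z, v, u} : Set J) with hH
  have hgw : ∀ w : List ℕ, ∃ x ∈ H, c.L x = genWord w := by
    intro w
    induction w with
    | nil => exact ⟨1, one_mem _, c.one⟩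
    | cons i w ih =>
      obtain ⟨x, hx, ex⟩ := ih
      obtain ⟨s, hs, es⟩ : ∃ s ∈ H, c.L s = [clsElt 0, vReps.getD 0 0, uReps.getD 0 0].getD i oneC := by
        match i with
        | 0 => exact ⟨c.z, Subgroup.subset_closure (by simp), c.z_code⟩
        | 1 => exact ⟨v, Subgroup.subset_closure (by simp), hv⟩
        | 2 => exact ⟨u, Subgroup.subset_closure (by simp), hu⟩
        | n + 3 => exact ⟨1, one_mem _, c.one⟩
      exact ⟨s * x, mul_mem hs hx, by rw [c.mul, es, ex]; rfl⟩
  have hgenC : ∀ i < 2, ∃ x ∈ H, c.L x = canN (genN i) := by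
    intro i hi
    obtain ⟨-, -, -, -, -, -, -, -, -, -, ga, gb⟩ := triple_facts
    interval_cases i
    exacts [ga ▸ hgw _, gb ▸ hgw _]
  have hpow : ∀ x ∈ H, ∀ n, ∃ y ∈ H, c.L y = (List.replicate n (c.L x)).foldr mulC oneC := by
    intro x hx n
    induction n with
    | zero => exact ⟨1, one_mem _, c.one⟩
    | succ n ih =>
      obtain ⟨y, hy, e⟩ := ih
      exact ⟨x * y, mul_mem hx hy, by rw [c.mul, e]; rfl⟩
  have hev : ∀ w, c.ev w ∈ H := by
    intro w
    obtain ⟨a, ha, ea⟩ := hgenC 0 (by norm_num)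
    obtain ⟨b, hb, eb⟩ := hgenC 1 (by norm_num)
    have hlet : ∀ i, ∃ x ∈ H, c.L x = letC i := by
      intro i
      unfold letC
      split_ifs
      exacts [⟨a, ha, ea⟩, ⟨b, hb, eb⟩, ea ▸ hpow a ha 18, eb ▸ hpow b hb 18, ⟨1, one_mem _, c.one⟩]
    have hw : ∃ x ∈ H, c.L x = wordC w := by
      induction w with
      | nil => exact ⟨1, one_mem _, c.one⟩
      | cons i w ih =>
        obtain ⟨x, hx, e⟩ := ih
        obtain ⟨s, hs, es⟩ := hlet i
        exact ⟨s * x, mul_mem hs hx, by rw [c.mul, es, e]; rfl⟩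
    obtain ⟨x, hx, e⟩ := hw
    exact c.inj _ _ (e.trans (c.ev_spec w).symm) ▸ hx
  have hC : c.C ≤ H := by
    obtain ⟨K', hK', hc', -, -⟩ := c.exists_sub cSub_ok fun a ha => by
      rw [← cGens_facts.1] at ha
      obtain ⟨w, -, rfl⟩ := List.mem_map.1 ha
      exact ⟨_, c.ev_spec w⟩
    have hle : K' ≤ c.C := by
      rw [hK']
      refine (Subgroup.closure_le _).2 fun x hx => Subgroup.mem_centralizer_singleton_iff.2 (c.inj _ _ ?_)
      rw [c.mul, c.mul, c.z_code]
      exact beq_iff_eq.1 (List.all_eq_true.1 cGens_facts.2.1 _ hx)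
    rw [← Subgroup.eq_of_le_of_card_ge hle (by rw [c.centralizer_facts.1, hc']), hK']
    refine (Subgroup.closure_le _).2 fun x hx => ?_
    have hx : c.L x ∈ cWords.map wordC := cGens_facts.1 ▸ hx
    obtain ⟨w, -, e⟩ := List.mem_map.1 hx
    exact c.inj _ _ ((c.ev_spec w).trans e) ▸ hev w
  have hex : ∀ i, i < 26163 → ∃ g ∈ H, c.L (g * c.z * g⁻¹) = clsElt i := by
    intro i
    induction i using Nat.strong_induction_on with
    | _ i ih =>
      intro hi
      rcases Nat.eq_zero_or_pos i with rfl | hpos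
      · exact ⟨1, one_mem _, by rw [one_mul, inv_one, mul_one, c.z_code]⟩
      have h := cls_all i hi
      rw [clsOK, show Nat.beq i 0 = false from Bool.eq_false_iff.2 fun e => by
        have := Nat.eq_of_beq_eq_true e; omega, cond_false, Bool.and_eq_true] at h
      have hp : Nat.shiftRight (clsPar i) 2 < i := Nat.le_of_ble_eq_true h.1
      obtain ⟨g, hg, eg⟩ := ih _ hp (hp.trans hi)
      generalize hk : Nat.land (clsPar i) 3 = k at h
      have hj : k < 4 := hk ▸ Nat.lt_succ_of_le Nat.and_le_right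
      have e1 := List.all_eq_true.1 conj_lists.1 k (List.mem_range.2 (Nat.lt_succ_of_lt hj))
      have e2 := List.all_eq_true.1 conj_lists.2 k (List.mem_range.2 (Nat.lt_succ_of_lt hj))
      simp only [Bool.or_eq_true, beq_iff_eq, decide_eq_true_eq] at e1 e2
      have e1 := e1.resolve_right (by omega)
      have e2 := e2.resolve_right (by omega)
      have hg1 : c.L (c.ev (words.getD k [])) = j3Cert.g k := by
        show _ = j3Cert.gl.getD k oneC
        rw [c.ev_spec, ← words_code.1, show oneC = wordC [] from rfl, List.getD_map]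
      have hg2 : c.L (c.ev (iwords.getD k [])) = j3Cert.gi k := by
        show _ = j3Cert.gli.getD k oneC
        rw [c.ev_spec, ← words_code.2, show oneC = wordC [] from rfl, List.getD_map]
      have hlen : k < words.length + 1 := lt_of_lt_of_le hj (by decide +kernel)
      have hgi := c.inv_code hg1 ⟨_, hg2⟩ (beq_iff_eq.1 (List.all_eq_true.1 words_inv.1 k (List.mem_range.2 hlen)))
      refine ⟨c.ev (words.getD k []) * g, mul_mem (hev _) hg, ?_⟩
      rw [show c.ev (words.getD k []) * g * c.z * (c.ev (words.getD k []) * g)⁻¹ =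
        c.ev (words.getD k []) * (g * c.z * g⁻¹) * (c.ev (words.getD k []))⁻¹ by group,
        c.conj_code, hg1, hgi, eg, Nat.eq_of_beq_eq_true h.2, e1, e2]
  choose g hgH hgL using hex
  have hord : ∀ k < 26163, clsOrd k < 26163 := fun k hk => by
    have h := ord_all k hk
    rw [ordOK, Bool.and_eq_true] at h
    exact Nat.le_of_ble_eq_true h.1
  have hstep : ∀ k, k + 1 < 26163 → clsElt (clsOrd k) < clsElt (clsOrd (k + 1)) := fun k hk => by
    have h := ord_all k (by omega)
    simp only [ordOK, Bool.and_eq_true, Bool.or_eq_true] at h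
    rcases h.2 with h | h
    · have := Nat.le_of_ble_eq_true h; omega
    · exact Nat.le_of_ble_eq_true h
  let f : Fin 26163 × c.C → H := fun p => ⟨g _ (hord p.1 p.1.2) * p.2, mul_mem (hgH _ _) (hC p.2.2)⟩
  have hf : Function.Injective f := by
    rintro ⟨a, s⟩ ⟨b, t⟩ h
    have h : g _ (hord a a.2) * (s : J) = g _ (hord b b.2) * (t : J) := congrArg Subtype.val h
    have hs : ∀ r : c.C, (r : J) * c.z * (r : J)⁻¹ = c.z := fun r =>
      mul_inv_eq_iff_eq_mul.2 (Subgroup.mem_centralizer_singleton_iff.1 r.2)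
    have h1 : ∀ (k : J) (r : c.C), k * r * c.z * (k * r)⁻¹ = k * c.z * k⁻¹ := fun k r => by
      rw [show k * r * c.z * (k * r)⁻¹ = k * ((r : J) * c.z * (r : J)⁻¹) * k⁻¹ by group, hs]
    have hab : a = b := Fin.ext (step_inj (f := fun k => clsElt (clsOrd k)) (n := 26163) hstep a.2 b.2 (by
      show clsElt (clsOrd a) = clsElt (clsOrd b)
      rw [← hgL _ (hord a a.2), ← hgL _ (hord b b.2), ← h1 _ s, h, h1]))
    subst hab
    exact Prod.ext rfl (Subtype.ext (mul_left_cancel h))
  refine Subgroup.eq_top_of_le_card _ ?_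
  have := Nat.card_le_card_of_injective f hf
  rw [Nat.card_prod, Nat.card_fin, c.centralizer_facts.1] at this
  rw [c.card]; exact this

theorem pow10_code (x : J) : pow10 (c.L x) = c.L (x ^ 10) := by
  rw [show x ^ 10 = (x * x * (x * x) * x) * (x * x * (x * x) * x) by
    simp only [pow_succ, pow_zero, one_mul, mul_assoc], c.mul, c.mul, c.mul, c.mul]
  rfl

theorem pow17_code (x : J) : pow17 (c.L x) = c.L (x ^ 17) := by
  rw [show x ^ 17 = (x * x * (x * x) * (x * x * (x * x))) * (x * x * (x * x) * (x * x * (x * x))) * x by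
    simp only [pow_succ, pow_zero, one_mul, mul_assoc], c.mul, c.mul, c.mul, c.mul, c.mul]
  rfl

theorem relOK_iff (v u : J) :
    relOK (c.L v) (c.L u) = true ↔ (v * u) ^ 10 = 1 ∧ (c.z * (v * u)) ^ 17 = 1 := by
  rw [relOK, Bool.and_eq_true, Nat.beq_eq, Nat.beq_eq, ← c.z_code, ← c.mul, ← c.mul, c.pow10_code, c.pow17_code, ← c.one]
  exact ⟨fun h => ⟨c.inj _ _ h.1, c.inj _ _ h.2⟩, fun h => ⟨congrArg c.L h.1, congrArg c.L h.2⟩⟩

theorem aut_fix_top {v u : J} (hv : c.L v = vReps.getD 0 0) (hu : c.L u = uReps.getD 0 0) {φ ψ : MulAut J}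
    (hz : φ c.z = ψ c.z) (hv' : φ v = ψ v) (hu' : φ u = ψ u) : φ = ψ := by
  refine MulEquiv.ext fun x => ?_
  have hx : x ∈ Subgroup.closure ({c.z, v, u} : Set J) := by rw [c.gen_top hv hu]; trivial
  refine MonoidHom.eqOn_closure (f := φ.toMonoidHom) (g := ψ.toMonoidHom) ?_ hx
  rintro y (rfl | rfl | rfl)
  exacts [hz, hv', hu']

include c in
theorem out_le_two : Nat.card (Cfsg.Out J) ≤ 2 := by
  classical
  obtain ⟨hvz, huT, hvC, hv1C, hvsq, husq, hune, hvne, hzu, hrel, -, -⟩ := triple_facts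
  obtain ⟨-, hCiff, hCex⟩ := c.centralizer_facts
  obtain ⟨v, hvmem, hv⟩ := hCex _ hvC
  obtain ⟨v1, -, hv1⟩ := hCex _ hv1C
  obtain ⟨i0, hi0, ei0⟩ := u_place
  obtain ⟨u, -, hu⟩ := c.exists_cls i0 hi0
  rw [ei0] at hu
  have hinvol : ∀ {x : J} {a : ℕ}, c.L x = a → mulC a a = oneC → a ≠ oneC → orderOf x = 2 := by
    intro x a ha hsq hne
    refine orderOf_eq_prime (c.inj _ _ ?_) fun h => hne ?_
    · rw [pow_two, c.mul, c.one, ha, hsq]
    · rw [← ha, h, c.one]
  have hv2 := hinvol hv hvsq hvne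
  have hu2 := hinvol hu husq hune
  have hzu3 : (c.z * u) * ((c.z * u) * (c.z * u)) = 1 := c.inj _ _ (by
    simp only [c.mul, c.z_code, hu, c.one]
    exact hzu)
  have hvu := (c.relOK_iff v u).1 (by rw [hv, hu]; exact hrel)
  have hnf : ∀ α : MulAut J, ∃ g : J, (MulAut.conj g * α) c.z = c.z ∧ (MulAut.conj g * α) v = v ∧
      ∃ n < 2, c.L ((MulAut.conj g * α) u) = uReps.getD n 0 := by
    intro α
    obtain ⟨g1, hg1⟩ := _root_.isConj_iff.1 (c.isConj_z (x := α c.z) (by rw [MulEquiv.orderOf_eq, c.z_order]))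
    obtain ⟨β, hβ⟩ : ∃ β : MulAut J, β = MulAut.conj g1⁻¹ * α := ⟨_, rfl⟩
    have hβz : β c.z = c.z := by
      rw [hβ, MulAut.mul_apply, ← hg1, MulAut.conj_apply]; group
    have hvC' : β v ∈ c.C := by
      rw [Subgroup.mem_centralizer_singleton_iff]
      have := congrArg β (Subgroup.mem_centralizer_singleton_iff.1 hvmem)
      rwa [map_mul, map_mul, hβz] at this
    obtain ⟨d, -, hd, hok⟩ := c.inv_data hvC' (by rw [MulEquiv.orderOf_eq, hv2])
    simp only [invOK, Bool.and_eq_true, Bool.or_eq_true] at hok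
    obtain ⟨-, hz | ⟨⟨⟨⟨hn, hcm⟩, hcim⟩, hinv⟩, hcj⟩⟩ := hok
    · exfalso
      refine hvz ?_
      rw [← hv, ← c.z_code]
      refine congrArg c.L (β.injective ?_)
      rw [hβz]
      exact c.inj _ _ (hd.symm.trans ((Nat.eq_of_beq_eq_true hz).trans c.z_code.symm))
    obtain ⟨s, hs, es⟩ := hCex _ hcm
    obtain ⟨s', -, es'⟩ := hCex _ hcim
    have hsinv := c.inv_code es ⟨s', es'⟩ (Nat.eq_of_beq_eq_true hinv)
    have hn2 : d.2.2.1 < 2 := Nat.le_of_ble_eq_true hn
    obtain ⟨w, hw⟩ : ∃ w, c.L w = vReps.getD d.2.2.1 0 := by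
      interval_cases hh : d.2.2.1
      exacts [⟨v, hv⟩, ⟨v1, hv1⟩]
    have hβv : β v = s * w * s⁻¹ := c.inj _ _ (by
      rw [c.conj_code, es, hsinv, hw, Nat.eq_of_beq_eq_true hcj, hd])
    obtain ⟨γ, hγ⟩ : ∃ γ : MulAut J, γ = MulAut.conj s⁻¹ * β := ⟨_, rfl⟩
    have hγz : γ c.z = c.z := by
      rw [hγ, MulAut.mul_apply, hβz, MulAut.conj_apply, inv_inv, mul_assoc,
        (Subgroup.mem_centralizer_singleton_iff.1 hs).symm, ← mul_assoc, inv_mul_cancel, one_mul]
    have hγv : γ v = w := by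
      rw [hγ, MulAut.mul_apply, hβv, MulAut.conj_apply]; group
    obtain ⟨i, hi, ei⟩ := c.mem_cls (x := γ u) (by rw [MulEquiv.orderOf_eq, hu2])
    have hscan := scan_all i hi
    simp only [scanOK, ei, Bool.or_eq_true, Bool.not_eq_eq_eq_not, Bool.not_true] at hscan
    have hmem : uTree.mem (c.L (γ u)) = true := by
      rcases hscan with (h | h) | h
      rotate_left 2
      · exfalso
        refine u_ne ?_
        rw [← hu, ← c.z_code]
        refine congrArg c.L (γ.injective ?_)
        rw [hγz]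
        exact c.inj _ _ ((Nat.eq_of_beq_eq_true h).trans c.z_code.symm)
      · exfalso
        have e := congrArg γ hzu3
        simp only [map_mul, map_one, hγz] at e
        rw [← c.z_code, ← c.mul, ← c.mul, ← c.mul, e, c.one] at h
        simp at h
      · exact h
    have hsurv := List.all_eq_true.1 surv_ok _ (Tr.mem_flat hmem)
    simp only [survOK, Bool.and_eq_true, Bool.or_eq_true, Bool.not_eq_eq_eq_not, Bool.not_true, List.any_eq_true] at hsurv
    have hrel' : relOK (c.L w) (c.L (γ u)) = true := by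
      rw [c.relOK_iff]
      have e1 := congrArg γ hvu.1
      have e2 := congrArg γ hvu.2
      rw [map_pow, map_mul, map_one, hγv] at e1
      rw [map_pow, map_mul, map_mul, map_one, hγz, hγv] at e2
      exact ⟨e1, e2⟩
    rw [hw] at hrel'
    interval_cases hh : d.2.2.1
    · rcases hsurv.2 with h | ⟨d', -, hd', ⟨⟨⟨⟨hn', hcm'⟩, hcim'⟩, hinv'⟩, hcjv⟩, hcju⟩
      · rw [hrel'] at h; exact absurd h (by decide)
      obtain ⟨t, ht, et⟩ := hCex _ hcm'
      obtain ⟨t', -, et'⟩ := hCex _ hcim'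
      have htinv := c.inv_code et ⟨t', et'⟩ (Nat.eq_of_beq_eq_true hinv')
      have htw : t * w * t⁻¹ = v := c.inj _ _ (by
        rw [c.conj_code, et, htinv, hw, Nat.eq_of_beq_eq_true hcjv, hv])
      refine ⟨t * (s⁻¹ * g1⁻¹), ?_, ?_, d'.2.1, Nat.le_of_ble_eq_true hn', ?_⟩
      all_goals rw [map_mul, map_mul, mul_assoc, mul_assoc, ← hβ, ← hγ, MulAut.mul_apply, MulAut.conj_apply]
      · rw [hγz]
        exact mul_inv_eq_iff_eq_mul.2 (Subgroup.mem_centralizer_singleton_iff.1 ht)
      · rw [hγv, htw]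
      · have hcju' := Nat.eq_of_beq_eq_true hcju
        rw [c.conj_code, et, htinv]
        exact hcju'
    · rw [hrel'] at hsurv
      exact absurd hsurv.1 (by decide)
  choose g hgz hgv n hn hgu using hnf
  have hkey : ∀ a b : MulAut J, n a = n b →
      (QuotientGroup.mk a : Cfsg.Out J) = QuotientGroup.mk b := by
    intro a b h
    have e : MulAut.conj (g a) * a = MulAut.conj (g b) * b :=
      c.aut_fix_top hv hu ((hgz a).trans (hgz b).symm) ((hgv a).trans (hgv b).symm)
        (c.inj _ _ (by rw [hgu, hgu, h]))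
    have h1 : (QuotientGroup.mk (MulAut.conj (g a)) : Cfsg.Out J) = 1 :=
      (QuotientGroup.eq_one_iff _).2 ⟨g a, rfl⟩
    have h2 : (QuotientGroup.mk (MulAut.conj (g b)) : Cfsg.Out J) = 1 :=
      (QuotientGroup.eq_one_iff _).2 ⟨g b, rfl⟩
    have := congrArg (fun x : MulAut J => (QuotientGroup.mk x : Cfsg.Out J)) e
    simp only [QuotientGroup.mk_mul, h1, h2, one_mul] at this
    exact this
  calc Nat.card (Cfsg.Out J) ≤ Nat.card (Fin 2) :=
        Nat.card_le_card_of_injective (fun q : Cfsg.Out J => (⟨n q.out, hn _⟩ : Fin 2)) fun p q h => by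
          have := hkey p.out q.out (congrArg Fin.val h)
          rwa [QuotientGroup.out_eq', QuotientGroup.out_eq'] at this
    _ = 2 := Nat.card_fin 2

end Coded

theorem outer_order_two {F : Type u} [Field F] [Fintype F] (hF : Fintype.card F = 4) (ω : F)
    (hω : ω ^ 2 + ω + 1 = 0) : Nat.card (Cfsg.Out (Spor.J3 F ω)) = 2 := by
  classical
  obtain ⟨⟨c⟩, hfin⟩ := exists_coded_any hF ω hω
  haveI := hfin
  haveI : Finite (MulAut (Spor.J3 F ω)) := Finite.of_injective (fun f => (f : Spor.J3 F ω → Spor.J3 F ω))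
    fun f g h => MulEquiv.ext (congrFun h)
  haveI : Finite (Cfsg.Out (Spor.J3 F ω)) := Quotient.finite _
  refine le_antisymm c.out_le_two ?_
  obtain ⟨F', _, _, ω', hF', hω', ⟨e⟩⟩ := exists_small hF ω hω
  obtain ⟨φ, hφ⟩ := exists_outer (F := F') hF' hω'
  let φ' : MulAut (Spor.J3 F ω) := e.trans (φ.trans e.symm)
  have hne : (QuotientGroup.mk φ' : Cfsg.Out (Spor.J3 F ω)) ≠ 1 := fun h => by
    obtain ⟨g, hg⟩ := (QuotientGroup.eq_one_iff _).1 h
    refine hφ (e g) (MulEquiv.ext fun y => e.symm.injective ?_)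
    have := DFunLike.congr_fun hg (e.symm y)
    simp only [φ', MulEquiv.trans_apply, MulEquiv.apply_symm_apply, MulAut.conj_apply] at this
    rw [MulAut.conj_apply, map_mul, map_mul, map_inv, MulEquiv.symm_apply_apply]
    exact this.symm
  haveI : Nontrivial (Cfsg.Out (Spor.J3 F ω)) := ⟨⟨_, _, hne⟩⟩
  exact Finite.one_lt_card

end Cfsg.Agent.Local.FS.JankoThree
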