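import Cfsg.Agent.Lib.Local.FS.JankoThreeLocalDefs

/-!
A share of the scan of the table of involutions.
-/

set_option autoImplicit false
set_option maxRecDepth 100000

namespace Cfsg.Agent.Local.FS.JankoThree

theorem scan_0 : runOK scanOK 0 512 = true := by decide +kernel

theorem scan_4 : runOK scanOK 2048 512 = true := by decide +kernel

theorem scan_8 : runOK scanOK 4096 512 = true := by decide +kernel

theorem scan_12 : runOK scanOK 6144 512 = true := by decide +kernel

theorem scan_16 : runOK scanOK 8192 512 = true := by decide +kernel

theorem scan_20 : runOK scanOK 10240 512 = true := by decide +kernel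

theorem scan_24 : runOK scanOK 12288 512 = true := by decide +kernel

theorem scan_28 : runOK scanOK 14336 512 = true := by decide +kernel

theorem scan_32 : runOK scanOK 16384 512 = true := by decide +kernel

theorem scan_36 : runOK scanOK 18432 512 = true := by decide +kernel

theorem scan_40 : runOK scanOK 20480 512 = true := by decide +kernel

theorem scan_44 : runOK scanOK 22528 512 = true := by decide +kernel

theorem scan_48 : runOK scanOK 24576 512 = true := by decide +kernel

end Cfsg.Agent.Local.FS.JankoThree
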