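import Cfsg.Agent.Lib.Spor.J3Group
import Cfsg.Agent.Lib.Local.FS.JankoThreeData
import Cfsg.Agent.Lib.Local.FS.JankoThreeClass

/-!
The two-fusion system of the third Janko group is simple.
-/

set_option autoImplicit false
set_option maxRecDepth 100000

noncomputable section

namespace Cfsg.Agent.Local.FS.JankoThree

open Cfsg Matrix Cfsg.Agent.Spor.J3Cert Cfsg.Agent.Local.FS.OpCert
open Cfsg.Spor (F9 threeJ3)

theorem colN_zero (z : ℕ) : colN 0 z = 0 := by simp [colN]

theorem packC_facts : ∀ l : List ℕ, (∀ x ∈ l, x < 262144) →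
    packC l < 2 ^ (18 * l.length) ∧ ∀ i, colN (packC l) i = l.getD i 0
  | [], _ => ⟨by simp [packC], fun i => by simp [packC, colN_zero]⟩
  | x :: l, h => by
    have hx : x < 262144 := h x List.mem_cons_self
    obtain ⟨ih1, ih2⟩ := packC_facts l fun y hy => h y (List.mem_cons_of_mem x hy)
    have e : packC (x :: l) = x ||| packC l <<< 18 := rfl
    constructor
    · rw [e, List.length_cons, show 18 * (l.length + 1) = 18 * l.length + 18 by ring]
      refine Nat.or_lt_two_pow (lt_of_lt_of_le hx ?_) ?_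
      · exact Nat.pow_le_pow_right two_pos (Nat.le_add_left 18 _)
      · rw [Nat.shiftLeft_eq, pow_add]
        exact Nat.mul_lt_mul_of_pos_right ih1 (by norm_num)
    · intro i
      refine Nat.eq_of_testBit_eq fun j => ?_
      rcases Nat.lt_or_ge j 18 with hj | hj
      · rw [colN_bit _ _ hj, e, Nat.testBit_or, Nat.testBit_shiftLeft]
        cases i with
        | zero =>
          rw [List.getD_cons_zero, decide_eq_false (by omega : ¬ (18 * 0 + j ≥ 18))]
          simp
        | succ i =>
          rw [List.getD_cons_succ, ← ih2 i, colN_bit _ _ hj, decide_eq_true (by omega : 18 * (i + 1) + j ≥ 18),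
            testBit_high hx (by omega), show 18 * (i + 1) + j - 18 = 18 * i + j by omega]
          simp
      · rw [testBit_high (colN_lt _ _) hj, testBit_high ?_ hj]
        rcases lt_or_ge i (x :: l).length with hi | hi
        · rw [List.getD_eq_getElem _ _ hi]; exact h _ (List.getElem_mem _)
        · rw [List.getD_eq_default _ _ hi]; norm_num

variable {F : Type} [Field F] [Fintype F] {ω : F} (hF : Fintype.card F = 4) (hω : ω ^ 2 + ω + 1 = 0)

theorem mulM_lt (A B : ℕ) : mulM A B < 2 ^ 162 := by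
  have h := (packC_facts ((List.range 9).map fun z => mvN A (colN B z)) (fun x hx => by
    obtain ⟨z, -, rfl⟩ := List.mem_map.1 hx
    exact mvN_lt _ _)).1
  rwa [List.length_map, List.length_range] at h

theorem sclM_lt (A : ℕ) : sclM A < 2 ^ 162 := by
  have h := (packC_facts ((List.range 9).map fun z => wmN (colN A z)) (fun x hx => by
    obtain ⟨z, -, rfl⟩ := List.mem_map.1 hx
    exact wmN_lt (colN_lt _ _))).1
  rwa [List.length_map, List.length_range] at h

include hF hω in
theorem matF_mulM (A B : ℕ) : matF ω (mulM A B) = matF ω A * matF ω B := by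
  ext w z
  rw [mul_vec_col, ← vecF_mv ω (two_zero hF) hω]
  show vecF ω (colN (mulM A B) (idx z)) w = _
  rw [mulM, (packC_facts _ (fun x hx => by
    obtain ⟨z, -, rfl⟩ := List.mem_map.1 hx
    exact mvN_lt _ _)).2, List.getD_eq_getElem _ _ (by simp [idx_lt z])]
  simp

include hF hω in
theorem matF_sclM (A : ℕ) : matF ω (sclM A) = ω • matF ω A := by
  ext w z
  show vecF ω (colN (sclM A) (idx z)) w = ω • vecF ω (colN A (idx z)) w
  rw [sclM, (packC_facts _ (fun x hx => by
    obtain ⟨z, -, rfl⟩ := List.mem_map.1 hx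
    exact wmN_lt (colN_lt _ _))).2, List.getD_eq_getElem _ _ (by simp [idx_lt z])]
  simp [vecF_wm ω (two_zero hF) hω (colN_lt _ _)]

include hF hω in
theorem canN_spec {A : ℕ} (hA : A < 2 ^ 162) :
    canN A < 2 ^ 162 ∧ canN (sclM A) = canN A ∧ ∃ a : F, a ≠ 0 ∧ matF ω (canN A) = a • matF ω A := by
  have hc : canN A = min A (min (sclM A) (sclM (sclM A))) := rfl
  have h3 : sclM (sclM (sclM A)) = A := by
    refine matF_inj ω (two_zero hF) hω (sclM_lt _) hA ?_
    rw [matF_sclM hF hω, matF_sclM hF hω, matF_sclM hF hω, smul_smul, smul_smul,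
      show ω * ω * ω = 1 by linear_combination (ω - 1) * hω, one_smul]
  refine ⟨?_, ?_, ?_⟩
  · rw [hc]; exact lt_of_le_of_lt (min_le_left _ _) hA
  · show min (sclM A) (min (sclM (sclM A)) (sclM (sclM (sclM A)))) = _
    rw [hc, h3, ← min_assoc, min_comm _ A]
  · rw [hc]
    rcases min_choice A (min (sclM A) (sclM (sclM A))) with e | e
    · exact ⟨1, one_ne_zero, by rw [e, one_smul]⟩
    · rw [e]
      rcases min_choice (sclM A) (sclM (sclM A)) with e | e <;> rw [e]
      · exact ⟨ω, omega_ne ω hω, matF_sclM hF hω A⟩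
      · exact ⟨ω * ω, mul_ne_zero (omega_ne ω hω) (omega_ne ω hω), by
          rw [matF_sclM hF hω, matF_sclM hF hω, smul_smul]⟩

include hF hω in
theorem canN_of_scalar [DecidableEq F] {A B : ℕ} (hA : A < 2 ^ 162) (hB : B < 2 ^ 162) {a : F} (ha : a ≠ 0)
    (h : matF ω A = a • matF ω B) : canN A = canN B := by
  have h2 := two_zero hF
  rcases field_cases hF hω ha with rfl | rfl | rfl
  · rw [one_smul] at h
    rw [matF_inj ω h2 hω hA hB h]
  · rw [← matF_sclM hF hω] at h
    rw [matF_inj a h2 hω hA (sclM_lt _) h, (canN_spec hF hω hB).2.1]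
  · rw [← smul_smul, ← matF_sclM hF hω, ← matF_sclM hF hω] at h
    rw [matF_inj ω h2 hω hA (sclM_lt _) h, (canN_spec hF hω (sclM_lt _)).2.1, (canN_spec hF hω hB).2.1]

theorem num_facts : genN 0 < 2 ^ 162 ∧ genN 1 < 2 ^ 162 ∧ idN < 2 ^ 162 := by decide +kernel

/-- the eighteenth power -/
def powC (c : ℕ) : ℕ := (List.replicate 18 c).foldr mulC oneC

/-- the code of a letter -/
def letC (i : ℕ) : ℕ :=
  if i = 0 then canN (genN 0) else if i = 1 then canN (genN 1)
  else if i = 2 then powC (canN (genN 0)) else if i = 3 then powC (canN (genN 1)) else oneC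

/-- the code of a word -/
def wordC (w : List ℕ) : ℕ := w.foldr (fun i r => mulC (letC i) r) oneC

theorem words_code : words.map wordC = j3Cert.gl ∧ iwords.map wordC = j3Cert.gli := by decide +kernel

theorem words_inv : ((List.range (words.length + 1)).all fun i =>
    j3Cert.op (j3Cert.g i) (j3Cert.gi i) == j3Cert.one) = true ∧ iwords.length = words.length := by decide +kernel

theorem j3_checkS : j3Cert.checkS = true := by decide +kernel
theorem j3_checkCenter : j3Cert.checkCenter = true := by decide +kernel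
theorem j3_checkSize : j3Cert.checkSize = true := by decide +kernel

theorem cls_base : clsElt 0 = j3Cert.g j3Cert.z ∧ conjL.getD 0 oneC = j3Cert.g 0 := by decide +kernel

theorem conj_lists : ((List.range 5).all fun j => conjL.getD j oneC == j3Cert.g j || decide (3 < j)) = true ∧
    ((List.range 5).all fun j => conjR.getD j oneC == j3Cert.gi j || decide (3 < j)) = true := by decide +kernel
theorem j3_checkReps : j3Cert.checkReps = true := by decide +kernel
theorem j3_checkQ : j3Cert.checkQ = true := by decide +kernel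
theorem j3_checkSteps : j3Cert.checkSteps = true := by decide +kernel

include hF hω in
theorem exists_code [DecidableEq F] (g : threeJ3 F ω) :
    ∃ M < 2 ^ 162, ((g : GL F9 F) : Matrix F9 F9 F) = matF ω M := by
  have hspan := span_eq hF hω
  have key : ∀ x ∈ span2 ω genN, ∃ M < 2 ^ 162, (x : Matrix F9 F9 F) = matF ω M := by
    intro x hx
    have hx' : x ∈ Submonoid.closure {g : GL F9 F | ∃ k < 2, (g : Matrix F9 F9 F) = matF ω (genN k)} := by
      have : x ∈ (Subgroup.closure {g : GL F9 F | ∃ k < 2, (g : Matrix F9 F9 F) = matF ω (genN k)}).toSubmonoid := hx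
      rwa [Subgroup.closure_toSubmonoid_of_finite] at this
    clear hx
    induction hx' using Submonoid.closure_induction with
    | mem y hy =>
      obtain ⟨k, hk, e⟩ := hy
      refine ⟨_, ?_, e⟩
      interval_cases k
      exacts [num_facts.1, num_facts.2.1]
    | one => exact ⟨idN, num_facts.2.2, by rw [matF_id, Units.val_one]⟩
    | mul a b _ _ iha ihb =>
      obtain ⟨A, -, ea⟩ := iha
      obtain ⟨B, -, eb⟩ := ihb
      exact ⟨mulM A B, mulM_lt A B, by rw [Units.val_mul, ea, eb, matF_mulM hF hω]⟩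
  exact key _ (hspan ▸ g.2)

include hF hω in
theorem exists_hom [DecidableEq F] : ∃ L : Spor.J3 F ω → ℕ, (∀ x y, L (x * y) = mulC (L x) (L y)) ∧
    L 1 = oneC ∧ (∀ x y, L x = L y → x = y) ∧
    ∀ i < 2, ∃ x, L x = canN (genN i) := by
  choose M hM1 hM2 using exists_code (F := F) hF hω
  have hscal : ∀ g h : threeJ3 F ω, (QuotientGroup.mk g : Spor.J3 F ω) = QuotientGroup.mk h →
      canN (M g) = canN (M h) := by
    intro g h e
    have hz := QuotientGroup.eq.1 e
    have hc := central_scalar hF hω _ hz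
    set a : F := (((g⁻¹ * h : threeJ3 F ω) : GL F9 F) : Matrix F9 F9 F) 0 0
    have ha : a ≠ 0 := fun h0 => by
      rw [h0, zero_smul] at hc
      have h1 := congrFun (congrFun (((g⁻¹ * h : threeJ3 F ω) : GL F9 F).mul_inv) (0 : F9)) 0
      rw [hc, Matrix.zero_mul, Matrix.one_apply_eq] at h1
      exact zero_ne_one h1
    refine (canN_of_scalar hF hω (hM1 h) (hM1 g) ha ?_).symm
    rw [← hM2, ← hM2, show (h : GL F9 F) = (g : GL F9 F) * ((g⁻¹ * h : threeJ3 F ω) : GL F9 F) by
      simp, Units.val_mul, hc, Matrix.mul_smul, Matrix.mul_one]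
  let L : Spor.J3 F ω → ℕ := fun q => canN (M q.out)
  have hL : ∀ g : threeJ3 F ω, L (QuotientGroup.mk g) = canN (M g) := fun g => hscal _ _ (QuotientGroup.out_eq' _)
  refine ⟨L, ?_, ?_, ?_, ?_⟩
  · intro x y
    obtain ⟨g, rfl⟩ := QuotientGroup.mk_surjective x
    obtain ⟨h, rfl⟩ := QuotientGroup.mk_surjective y
    rw [← QuotientGroup.mk_mul, hL, hL, hL, mulC]
    obtain ⟨-, -, a, ha, ea⟩ := canN_spec hF hω (hM1 g)
    obtain ⟨-, -, b, hb, eb⟩ := canN_spec hF hω (hM1 h)
    refine (canN_of_scalar hF hω (mulM_lt _ _) (hM1 _) (mul_ne_zero ha hb) ?_).symm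
    rw [matF_mulM hF hω, ea, eb, ← hM2, ← hM2, ← hM2, Matrix.smul_mul, Matrix.mul_smul, smul_smul]
    rfl
  · show L (QuotientGroup.mk 1) = _
    rw [hL]
    refine canN_of_scalar hF hω (hM1 1) num_facts.2.2 one_ne_zero ?_
    rw [← hM2, one_smul, matF_id]
    rfl
  · intro x y e
    obtain ⟨g, rfl⟩ := QuotientGroup.mk_surjective x
    obtain ⟨h, rfl⟩ := QuotientGroup.mk_surjective y
    rw [hL, hL] at e
    obtain ⟨-, -, a, ha, ea⟩ := canN_spec hF hω (hM1 g)
    obtain ⟨-, -, b, hb, eb⟩ := canN_spec hF hω (hM1 h)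
    rw [e, eb, ← hM2, ← hM2] at ea
    refine QuotientGroup.eq.2 (Subgroup.mem_center_iff.2 fun k => Subtype.ext (Units.ext ?_))
    have e2 : ((h : GL F9 F) : Matrix F9 F9 F) = (b⁻¹ * a) • ((g : GL F9 F) : Matrix F9 F9 F) := by
      rw [← smul_smul, ← ea, smul_smul, inv_mul_cancel₀ hb, one_smul]
    have e3 : (((g⁻¹ * h : threeJ3 F ω) : GL F9 F) : Matrix F9 F9 F) = (b⁻¹ * a) • (1 : Matrix F9 F9 F) := by
      rw [Subgroup.coe_mul, Units.val_mul, e2, Matrix.mul_smul, Subgroup.coe_inv]
      congr 1
      exact (g : GL F9 F).inv_mul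
    show ((k : GL F9 F) : Matrix F9 F9 F) * _ = _ * ((k : GL F9 F) : Matrix F9 F9 F)
    rw [e3, Matrix.mul_smul, Matrix.smul_mul, Matrix.mul_one, Matrix.one_mul]
  · intro i hi
    obtain ⟨g, hg, e⟩ := gen_unit hF hω hi
    rw [← span_eq hF hω] at hg
    refine ⟨QuotientGroup.mk ⟨g, hg⟩, ?_⟩
    rw [hL]
    refine canN_of_scalar hF hω (hM1 _) ?_ one_ne_zero (by rw [← hM2, one_smul]; exact e)
    interval_cases i
    exacts [num_facts.1, num_facts.2.1]

theorem fusion_simple {G : Type*} [Group G] [Finite G] (hG : Cfsg.Spor.IsoJ3 G) (S : Sylow 2 G) :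
    (Cfsg.groupFusionSystem (S : Subgroup G)).IsSimple 2 := by
  classical
  obtain ⟨F, iF, iFt, ω, hF, hω, ⟨e⟩⟩ := hG
  obtain ⟨L₀, hmul, hone, hinj₀, hgen⟩ := exists_hom (F := F) hF hω
  let L : G → ℕ := fun x => L₀ (e x)
  have hL : ∀ x y, L (x * y) = j3Cert.op (L x) (L y) := fun x y => by
    show L₀ (e (x * y)) = mulC _ _
    rw [map_mul, hmul]
  have hL1 : L 1 = j3Cert.one := by
    show L₀ (e 1) = oneC
    rw [map_one, hone]
  have hinj : ∀ x y, L x = L y → x = y := fun x y h => e.injective (hinj₀ _ _ h)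
  obtain ⟨a, ha⟩ := hgen 0 (by norm_num)
  obtain ⟨b, hb⟩ := hgen 1 (by norm_num)
  have hlet : ∀ i, ∃ x : G, L x = letC i := by
    intro i
    have hpow : ∀ (x : Spor.J3 F ω) (c : ℕ), L₀ x = c → ∃ y : G, L y = c := fun x c h =>
      ⟨e.symm x, by show L₀ (e (e.symm x)) = c; rw [MulEquiv.apply_symm_apply, h]⟩
    have hpw : ∀ (x : Spor.J3 F ω) (c : ℕ), L₀ x = c → ∀ n, ∃ y, L₀ y = (List.replicate n c).foldr mulC oneC := by
      intro x c h n
      induction n with
      | zero => exact ⟨1, hone⟩
      | succ n ih =>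
        obtain ⟨y, hy⟩ := ih
        exact ⟨x * y, by rw [hmul, h, hy]; rfl⟩
    obtain ⟨a', ha'⟩ := hpw a _ ha 18
    obtain ⟨b', hb'⟩ := hpw b _ hb 18
    unfold letC
    split_ifs
    · exact hpow a _ ha
    · exact hpow b _ hb
    · exact hpow a' _ ha'
    · exact hpow b' _ hb'
    · exact ⟨1, hL1⟩
  choose gen hgen' using hlet
  let ev : List ℕ → G := fun w => w.foldr (fun n r => gen n * r) 1
  have hev : ∀ w, L (ev w) = wordC w := by
    intro w
    induction w with
    | nil => exact hL1
    | cons n w ih =>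
      show L (gen n * ev w) = mulC (letC n) (wordC w)
      rw [hL, ih, hgen']
      rfl
  let gs : ℕ → G := fun i => ev (words.getD i [])
  have hg : ∀ i, L (gs i) = j3Cert.g i := fun i => by
    show L (ev _) = j3Cert.gl.getD i j3Cert.one
    rw [hev, ← words_code.1, show j3Cert.one = wordC [] from rfl, List.getD_map]
  have hg' : ∀ i, L (ev (iwords.getD i [])) = j3Cert.gi i := fun i => by
    show L (ev _) = j3Cert.gli.getD i j3Cert.one
    rw [hev, ← words_code.2, show j3Cert.one = wordC [] from rfl, List.getD_map]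
  have hgi : ∀ i, L (gs i)⁻¹ = j3Cert.gi i := fun i => by
    rcases Nat.lt_or_ge i words.length with hi | hi
    · rw [← hg', inv_eq_of_mul_eq_one_right (hinj (gs i * ev (iwords.getD i [])) 1 ?_)]
      rw [hL, hg, hg', hL1]
      exact beq_iff_eq.1 (List.all_eq_true.1 words_inv.1 i (List.mem_range.2 (Nat.lt_succ_of_lt hi)))
    · have h0 : gs i = 1 := by
        show ev (words.getD i []) = 1
        rw [List.getD_eq_default _ _ hi]; rfl
      rw [h0, inv_one, ← hg', List.getD_eq_default _ _ (by rw [words_inv.2]; exact hi)]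
      rfl
  have hclass : j3Cert.cLen ≤ Nat.card {y // _root_.IsConj (gs j3Cert.z) y} := by
    have hex : ∀ i, i < 26163 → ∃ y, _root_.IsConj (gs j3Cert.z) y ∧ L y = clsElt i := by
      intro i
      induction i using Nat.strong_induction_on with
      | _ i ih =>
        intro hi
        rcases Nat.eq_zero_or_pos i with rfl | hpos
        · exact ⟨_, IsConj.refl _, by rw [cls_base.1, hg]⟩
        have h := cls_all i hi
        rw [clsOK, show Nat.beq i 0 = false from Bool.eq_false_iff.2 fun e => by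
          have := Nat.eq_of_beq_eq_true e; omega, cond_false, Bool.and_eq_true] at h
        have hp : Nat.shiftRight (clsPar i) 2 < i := Nat.le_of_ble_eq_true h.1
        obtain ⟨y, hy, ey⟩ := ih _ hp (hp.trans hi)
        have hj : Nat.land (clsPar i) 3 < 4 := Nat.lt_succ_of_le Nat.and_le_right
        have hL' : conjL.getD (Nat.land (clsPar i) 3) oneC = j3Cert.g (Nat.land (clsPar i) 3) := by
          have := List.all_eq_true.1 conj_lists.1 _ (List.mem_range.2 (Nat.lt_succ_of_lt hj))
          simp only [Bool.or_eq_true, beq_iff_eq, decide_eq_true_eq] at this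
          exact this.resolve_right (by omega)
        have hR' : conjR.getD (Nat.land (clsPar i) 3) oneC = j3Cert.gi (Nat.land (clsPar i) 3) := by
          have := List.all_eq_true.1 conj_lists.2 _ (List.mem_range.2 (Nat.lt_succ_of_lt hj))
          simp only [Bool.or_eq_true, beq_iff_eq, decide_eq_true_eq] at this
          exact this.resolve_right (by omega)
        refine ⟨gs (Nat.land (clsPar i) 3) * (y * (gs (Nat.land (clsPar i) 3))⁻¹),
          hy.trans (_root_.isConj_iff.2 ⟨gs (Nat.land (clsPar i) 3), by group⟩), ?_⟩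
        rw [hL, hL, hg, hgi, ey, Nat.eq_of_beq_eq_true h.2, hL', hR']
        rfl
    choose y hy hyL using hex
    have hord : ∀ k < 26163, clsOrd k < 26163 := fun k hk => by
      have h := ord_all k hk
      rw [ordOK, Bool.and_eq_true] at h
      exact Nat.le_of_ble_eq_true h.1
    have hstep : ∀ k, k + 1 < 26163 → clsElt (clsOrd k) < clsElt (clsOrd (k + 1)) := fun k hk => by
      have h := ord_all k (by omega)
      simp only [ordOK, Bool.and_eq_true, Bool.or_eq_true] at h
      rcases h.2 with h | h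
      · have := Nat.le_of_ble_eq_true h; omega
      · exact Nat.le_of_ble_eq_true h
    rw [show j3Cert.cLen = Nat.card (Fin 26163) by rw [Nat.card_fin]; rfl]
    refine Nat.card_le_card_of_injective (fun k : Fin 26163 =>
      (⟨y _ (hord k k.2), hy _ (hord k k.2)⟩ : {y // _root_.IsConj (gs j3Cert.z) y})) fun a b h => Fin.ext ?_
    refine step_inj (f := fun k => clsElt (clsOrd k)) (n := 26163) hstep a.2 b.2 ?_
    show clsElt (clsOrd a) = clsElt (clsOrd b)
    rw [← hyL _ (hord a a.2), ← hyL _ (hord b b.2)]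
    exact congrArg L (congrArg Subtype.val h)
  exact OpCert.simple_of_cert' j3Cert L hL hL1 hinj gs hg hgi
    ((Nat.card_congr e.toEquiv).trans (J3_facts hF hω).1)
    j3_checkS j3_checkCenter j3_checkSize hclass j3_checkReps j3_checkQ j3_checkSteps S

end Cfsg.Agent.Local.FS.JankoThree
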