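import Cfsg.Agent.Lib.Local.FS.FreeConstrained
import Cfsg.Agent.Lib.Local.FS.Transfer

/-!
A central element of the normalizer system of a functor value is central, if this holds in the models.
-/

set_option autoImplicit false

namespace Cfsg.Agent.Local.FS

open Cfsg Cfsg.FusionSystem Cfsg.Agent.Fusion

universe u

variable {Ω : Type u} [Group Ω] {S : Subgroup Ω} {F : FusionSystem S} {p : ℕ}
  {W : ∀ (Q : Type u) [Group Q], Subgroup Q}

/-- Maps which extend fixing `x`. -/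
def FixClass (F : FusionSystem S) (x : Ω) (P : Subgroup Ω) (f : Ω → Ω) : Prop :=
  ∃ g, Map F (P ⊔ Subgroup.zpowers x) g ∧ (∀ y ∈ P, g y = f y) ∧ g x = x

variable [Finite S]

theorem isClosedClass_fixClass {x : Ω} : IsClosedClass F (FixClass F x) := by
  have hx : ∀ P : Subgroup Ω, x ∈ P ⊔ Subgroup.zpowers x := fun P =>
    Subgroup.mem_sup_right (Subgroup.mem_zpowers x)
  refine ⟨fun ⟨g, hg, hgf, hgx⟩ he => ⟨g, hg, fun y hy => (hgf y hy).trans (he y hy), hgx⟩,
    fun _ ⟨g, hg, hgf, hgx⟩ hR => ⟨g, hg.restrict (sup_le_sup_right hR _), fun y hy => hgf y (hR hy), hgx⟩, ?_, ?_⟩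
  · rintro P Q f f' - - ⟨g, hg, hgf, hgx⟩ ⟨g', hg', hgf', hgx'⟩ hm
    have hmem : ∀ y ∈ P ⊔ Subgroup.zpowers x, g y ∈ Q ⊔ Subgroup.zpowers x := fun y hy => by
      refine (hg.im_sup_le.trans (sup_le (im_le_iff.2 fun z hz => ?_) ((im_le_iff.2 fun z hz => ?_).trans le_sup_right)))
        (mem_im_of_mem hy)
      · exact Subgroup.mem_sup_left (hgf z hz ▸ hm z hz)
      · obtain ⟨n, rfl⟩ := hz
        show g (x ^ n) ∈ Subgroup.zpowers x
        have h1 : g (x ^ n) = g x ^ n := by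
          obtain ⟨φ, -, he⟩ := hg.restrict (le_sup_right : Subgroup.zpowers x ≤ P ⊔ Subgroup.zpowers x)
          rw [← he ⟨x ^ n, ⟨n, rfl⟩⟩, ← he ⟨x, Subgroup.mem_zpowers x⟩, ← map_zpow]
          rfl
        rw [h1, hgx]
        exact ⟨n, rfl⟩
    refine ⟨g' ∘ g, hg.comp hg' hmem, fun y hy => ?_, ?_⟩
    · show g' (g y) = f' (f y)
      rw [hgf y hy, hgf' _ (hm y hy)]
    · show g' (g x) = x
      rw [hgx, hgx']
  · rintro P f f' hf ⟨g, hg, hgf, hgx⟩ hinv
    obtain ⟨g', hg', hgg, -, -⟩ := hg.exists_inv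
    have hle : im P f ⊔ Subgroup.zpowers x ≤ im (P ⊔ Subgroup.zpowers x) g := sup_le
      ((im_congr hgf).symm.le.trans (im_mono le_sup_left))
      (Subgroup.zpowers_le.2 (by
        have := mem_im_of_mem (f := g) (hx P)
        rwa [hgx] at this))
    refine ⟨g', hg'.restrict hle, fun y hy => ?_, ?_⟩
    · obtain ⟨z, hz, rfl⟩ := hf.mem_im.1 hy
      rw [hinv z hz, ← hgf z hz, hgg z (Subgroup.mem_sup_left hz)]
    · have := hgg x (hx P)
      rwa [hgx] at this

theorem FixClass.fixed {x : Ω} {P : Subgroup Ω} {f : Ω → Ω} (h : FixClass F x P f) (hxP : x ∈ P) : f x = x := by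
  obtain ⟨g, -, hgf, hgx⟩ := h
  rw [← hgf x hxP, hgx]

theorem mem_center_of_fixClass {x : Ω} (hxS : x ∈ S) (h : ∀ P f, Map F P f → FixClass F x P f) :
    x ∈ F.center := by
  refine (le_sSup (α := Subgroup Ω) (show F.IsCentral (Subgroup.zpowers x) from
    ⟨Subgroup.zpowers_le.2 hxS, fun P φ hφ => ?_⟩)) (Subgroup.mem_zpowers x)
  obtain ⟨g, hg, hgf, hgx⟩ := h P (fn φ) (map_of_mem hφ)
  obtain ⟨ψ, hψ, hψg⟩ := hg
  refine ⟨ψ, hψ, fun y => ?_, fun y => ?_⟩
  · rw [hψg]
    exact (hgf y y.2).trans (fn_coe φ y)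
  · obtain ⟨_, n, rfl⟩ := y
    let x' : ↥(P ⊔ Subgroup.zpowers x) := ⟨x, Subgroup.mem_sup_right (Subgroup.mem_zpowers x)⟩
    show ψ (x' ^ n) = x ^ n
    rw [map_zpow, hψg x']
    show g x ^ n = x ^ n
    rw [hgx]

variable [Fact p.Prime]

theorem isCentric_sup_centralizer {U : Subgroup Ω} (hU : F.IsFullyCentralized U) :
    F.IsCentric (U ⊔ centralizerIn S U) := by
  refine ⟨sup_le hU.1 inf_le_left, fun Q hQ => ?_⟩
  obtain ⟨f, hf, hi⟩ := isConj_iff.1 hQ
  have hU' : F.IsConj U (im U f) := isConj_iff.2 ⟨f, hf.restrict le_sup_left, rfl⟩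
  have hle : im U f ≤ Q := hi ▸ im_mono le_sup_left
  intro y hy
  obtain ⟨z, hz, rfl⟩ := (hf.restrict le_sup_right).surj_of_card_le inf_le_left
    (fun z hz => hf.mem_centralizer le_sup_left (Subgroup.mem_sup_right hz) (mem_centralizerIn.1 hz).2)
    (hU.2 _ hU') y (mem_centralizerIn.2 ⟨(mem_centralizerIn.1 hy).1, fun w hw => (mem_centralizerIn.1 hy).2 w (hle hw)⟩)
  exact hi ▸ mem_im_of_mem (Subgroup.mem_sup_right hz)

theorem inducedFunctor_range (hW2 : ∀ (Q R : Type u) [Group Q] [Group R] [Finite Q], IsPGroup p Q → ∀ φ : Q ≃* R,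
      (W Q).map φ.toMonoidHom = W R) {V : Subgroup Ω} [Finite V] (hV : IsPGroup p V) {L : Type u} [Group L]
    {ι : V →* L} (hι : Function.Injective ι) :
    inducedFunctor W ι.range = ((inducedFunctor W V).subgroupOf V).map ι := by
  let e : V ≃* ι.range := MonoidHom.ofInjective hι
  show (W ι.range).map ι.range.subtype = _
  rw [← hW2 V ι.range hV e, Subgroup.map_map,
    show (inducedFunctor W V).subgroupOf V = W V from Subgroup.comap_map_eq_self_of_injective V.subtype_injective (W V)]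
  rfl

set_option maxHeartbeats 1000000 in
/-- **Weak closure of elements is local**. -/
theorem mem_center_of_local (hS : IsPGroup p S) (hF : F.IsSaturated p)
    (hW2 : ∀ (Q R : Type u) [Group Q] [Group R] [Finite Q], IsPGroup p Q → ∀ φ : Q ≃* R,
      (W Q).map φ.toMonoidHom = W R)
    (hWZ : ∀ (Q : Type u) [Group Q] [Finite Q], IsPGroup p Q → Subgroup.center Q ≤ W Q)
    {x : Ω} (hxS : x ∈ S) (hxc : ∀ s ∈ S, s * x = x * s)
    (hfix : ∀ f, Map F (inducedFunctor W S) f → im (inducedFunctor W S) f = inducedFunctor W S → f x = x)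
    (hL : ∀ (R : Subgroup Ω) (hR : F.IsFullyNormalized R), F.IsCentric R →
      ∀ (L : Type u) [Group L] (ι : ↥(normalizerIn S R) →* L), (normSys F hR.1).IsModel p L ι →
      ∀ (T : Sylow p L), (T : Subgroup L) = ι.range → ∀ hxV : x ∈ normalizerIn S R,
      (∀ g ∈ Subgroup.normalizer (inducedFunctor W (T : Subgroup L) : Set L),
        g * ι ⟨x, hxV⟩ * g⁻¹ = ι ⟨x, hxV⟩) →
      ∀ g : L, g * ι ⟨x, hxV⟩ * g⁻¹ = ι ⟨x, hxV⟩) :
    x ∈ F.center := by
  have hxW : ∀ V : Subgroup Ω, V ≤ S → x ∈ V → x ∈ inducedFunctor W V := fun V hVS hxV => by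
    haveI := finite_of_le hVS
    exact ⟨⟨x, hxV⟩, hWZ V (hS.to_le hVS) (Subgroup.mem_center_iff.2 fun v =>
      Subtype.ext (hxc v (hVS v.2))), rfl⟩
  have hxin : ∀ X, F.IsCentric X → x ∈ X := fun X hX => centric_inv_mem hX hxS fun y hy => hxc y (hX.1 hy)
  have hK := isClosedClass_fixClass (F := F) (x := x)
  have hKi : ∀ (X : Subgroup Ω) f, Map F X f → x ∈ X → f x = x → FixClass F x X f := fun X f hf hxX h =>
    ⟨f, by rwa [sup_eq_left.2 (Subgroup.zpowers_le.2 hxX)], fun _ _ => rfl, h⟩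
  have hSfix : ∀ α ∈ F.autGroup S, av α x = x := fun α hα => by
    have hm := map_of_mem_autGroup le_rfl hα
    exact hfix _ (hm.restrict (Subgroup.map_subtype_le _)) (im_functor hS hW2 hm (im_av α))
  suffices key : ∀ (n : ℕ) (R : Subgroup Ω) (hR : F.IsFullyNormalized R), F.IsCentric R →
      Nat.card S - Nat.card ↥(normalizerIn S R) = n → ∀ α ∈ F.autGroup R, av α x = x by
    refine mem_center_of_fixClass hxS (alperin hS hF hK fun R hR α hα => ?_)
    rcases hR with rfl | hR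
    · exact hKi _ _ (map_of_mem_autGroup le_rfl hα) hxS (hSfix α hα)
    · exact hKi _ _ (map_of_mem_autGroup hR.2.1.1 hα) (hxin R hR.1)
        (key _ R hR.2.1 hR.1 rfl α hα)
  intro n
  induction n using Nat.strong_induction_on with
  | _ n ih =>
  intro R hR hRc hn α hα
  have hxR := hxin R hRc
  have hxV : x ∈ normalizerIn S R := le_normalizerIn hR.1 hxR
  set V := normalizerIn S R with hV
  have hVS : V ≤ S := inf_le_left
  have hVp : IsPGroup p V := hS.to_le hVS
  obtain ⟨L, _, ι, hm⟩ := exists_model_fn hS hF hR hRc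
  haveI := hm.1
  obtain ⟨T, hT⟩ := hm.2.2.1
  set U := inducedFunctor W V with hU
  have hUV : U ≤ V := Subgroup.map_subtype_le _
  have hUS : U ≤ S := hUV.trans hVS
  have hxU : x ∈ U := hxW V hVS hxV
  have himg : inducedFunctor W (T : Subgroup L) = (U.subgroupOf V).map ι := by
    rw [hT]; exact inducedFunctor_range hW2 hVp hm.2.1.1
  have hloc : ∀ g ∈ Subgroup.normalizer (inducedFunctor W (T : Subgroup L) : Set L),
      g * ι ⟨x, hxV⟩ * g⁻¹ = ι ⟨x, hxV⟩ := by
    intro g hg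
    rw [himg] at hg
    obtain ⟨f, hf, hfg⟩ := exists_map_of_conj hm.2.1 hUV g fun u hu => Subgroup.map_le_range ι _
      (conj_mem_of_normalizer hg (Subgroup.mem_map_of_mem ι (Subgroup.mem_subgroupOf.2 hu)))
    obtain ⟨-, -, g₀, hg₀, hg₀f, -⟩ := (map_normalizerSystem_iff fun _ => rfl).1 hf
    have hfF : Map F U f := (hg₀.restrict le_sup_left).congr hg₀f
    haveI := finite_of_le hUS
    have hfU : im U f = U := Subgroup.eq_of_le_of_card_ge (im_le_iff.2 fun u hu => by
      obtain ⟨y, hy, he⟩ := conj_mem_of_normalizer hg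
        (Subgroup.mem_map_of_mem ι (show (⟨u, hUV hu⟩ : V) ∈ U.subgroupOf V from hu))
      rw [hfg ⟨u, hUV hu⟩ hu y he]
      exact hy) hfF.card_im.ge
    suffices hfx : f x = x by
      obtain ⟨y, hy, he⟩ := conj_mem_of_normalizer hg
        (Subgroup.mem_map_of_mem ι (show (⟨x, hxV⟩ : V) ∈ U.subgroupOf V from hxU))
      rw [← he, show y = ⟨x, hxV⟩ from Subtype.ext ((hfg ⟨x, hxV⟩ hxU y he).symm.trans hfx)]
    rcases eq_or_lt_of_le hVS with hVS' | hVS'
    · have hUW : U = inducedFunctor W S := by rw [hU, hVS']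
      exact hfix f (hUW ▸ hfF) (hUW ▸ hfU)
    have hlt : Nat.card V < Nat.card ↥(normalizerIn S U) := card_lt_of_lt
      ((lt_normalizerIn hS hVS').trans_le (normalizer_le_functor hS hW2 hVS)) inf_le_left
    -- maps with large domain fix `x`
    have hbig : ∀ P φ, Map F P φ → Nat.card V < Nat.card P → FixClass F x P φ := by
      intro P φ hφ
      refine alperin hS hF (K := fun P φ => Nat.card V < Nat.card P → FixClass F x P φ) ?_ ?_ P φ hφ
      · refine ⟨fun h he hc => hK.congr (h hc) he, ?_, ?_, ?_⟩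
        · intro X X' f hf h hX hc
          haveI := finite_of_le hf.le
          exact hK.restrict hf (h (hc.trans_le (Subgroup.card_le_of_le hX))) hX
        · intro X X' f g hf hg h h' hm' hc
          haveI := finite_of_le hg.le
          exact hK.comp hf hg (h hc) (h' (hc.trans_le (hf.card_le hm'))) hm'
        · intro X f g hf h hg hc
          exact hK.inv hf (h (hf.card_im ▸ hc)) hg
      · intro X hX β hβ hc
        rcases hX with rfl | hX
        · exact hKi _ _ (map_of_mem_autGroup le_rfl hβ) hxS (hSfix β hβ)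
        have hXS := hX.2.1.1
        have h1 : Nat.card X ≤ Nat.card ↥(normalizerIn S X) := Subgroup.card_le_of_le (le_normalizerIn hXS)
        have h2 : Nat.card ↥(normalizerIn S X) ≤ Nat.card S := Subgroup.card_le_of_le inf_le_left
        exact hKi _ _ (map_of_mem_autGroup hXS hβ) (hxin X hX.1) (ih _ (by omega) X hX.2.1 hX.1 rfl β hβ)
    -- transport to a fully normalized conjugate
    obtain ⟨U', hconj, hU'⟩ := exists_fullyNormalized (F := F) hUS
    obtain ⟨ψ, hψ, hψm, hψU⟩ := exists_map_normalizer_fn hS hF hU' hconj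
    have hxNU : x ∈ normalizerIn S U := le_normalizerIn hUS hxU
    have hψx : ψ x = x := (hbig _ ψ hψ hlt).fixed hxNU
    have hψU' := hψ.restrict (le_normalizerIn hUS)
    obtain ⟨ψi, hψi, hψψ, hψi2, hψii⟩ := hψU'.exists_inv
    rw [hψU] at hψi hψi2 hψii
    have hβ : Map F U' (ψ ∘ f ∘ ψi) := (hψi.comp hfF fun y hy => (hψi2 y hy).2).comp hψU' fun y hy =>
      hfU.le (mem_im_of_mem (hψi2 y hy).2)
    have hU'S := hU'.1
    haveI := finite_of_le hU'S
    have hβi : im U' (ψ ∘ f ∘ ψi) = U' := Subgroup.eq_of_le_of_card_ge (im_le_iff.2 fun y hy =>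
      hψU.le (mem_im_of_mem (hfU.le (mem_im_of_mem (hψi2 y hy).2)))) hβ.card_im.ge
    have hU'fc := (fc_fa_of_fn hS hF hU').1
    obtain ⟨γ, hγ, hγβ⟩ := (receptive_iff.1 (receptive_of_fc hS hF hU'fc)).2 U' _ hβ hβi
    have hγ' := hγ.restrict (sup_le (le_Nf hβ) centralizerIn_le_Nf)
    set U₂ := U' ⊔ centralizerIn S U'
    have hU₂S : U₂ ≤ S := sup_le hU'S inf_le_left
    haveI := finite_of_le hU₂S
    have hγU₂ : im U₂ γ = U₂ := Subgroup.eq_of_le_of_card_ge (hγ'.im_sup_le.trans (sup_le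
      (((im_congr hγβ).trans hβi).le.trans le_sup_left) ((im_le_iff.2 fun y hy => by
        have h1 := hγ'.mem_centralizer (le_sup_left : U' ≤ U₂) (Subgroup.mem_sup_right hy) (mem_centralizerIn.1 hy).2
        rwa [(im_congr hγβ).trans hβi] at h1).trans le_sup_right))) hγ'.card_im.ge
    have hU₂c : F.IsCentric U₂ := isCentric_sup_centralizer hU'fc
    have hxU₂ : x ∈ U₂ := hxin U₂ hU₂c
    obtain ⟨U₃, hconj₃, hU₃⟩ := exists_fullyNormalized (F := F) hU₂S
    have hN : normalizerIn S U' ≤ normalizerIn S U₂ := fun s hs => by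
      refine ⟨hs.1, mem_normalizer_of_conj_mem hU₂S fun y hy => ?_⟩
      have hle : U₂ ≤ U₂.comap (MulAut.conj s).toMonoidHom := sup_le
        (fun u hu => Subgroup.mem_sup_left (conj_mem_of_normalizer hs.2 hu))
        (fun c hc => Subgroup.mem_sup_right (mem_centralizerIn.2 ⟨S.mul_mem (S.mul_mem hs.1 hc.1) (S.inv_mem hs.1),
          fun u hu => by
            have h1 : s⁻¹ * u * s ∈ U' := by
              have := conj_mem_of_normalizer (inv_mem hs.2) hu
              rwa [inv_inv] at this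
            show u * (s * c * s⁻¹) = s * c * s⁻¹ * u
            calc u * (s * c * s⁻¹) = s * ((s⁻¹ * u * s) * c) * s⁻¹ := by group
              _ = s * (c * (s⁻¹ * u * s)) * s⁻¹ := by rw [(mem_centralizerIn.1 hc).2 _ h1]
              _ = s * c * s⁻¹ * u := by group⟩))
      exact hle hy
    obtain ⟨ψ₂, hψ₂, -, hψ₂U⟩ := exists_map_normalizer_fn hS hF hU₃ hconj₃
    have hcard : Nat.card V < Nat.card ↥(normalizerIn S U₂) :=
      hlt.trans_le ((hU'.2 _ (isConj_symm hconj)).trans (Subgroup.card_le_of_le hN))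
    have hψ₂x : ψ₂ x = x := (hbig _ ψ₂ hψ₂ hcard).fixed (le_normalizerIn hU₂S hxU₂)
    have hψ₂' := hψ₂.restrict (le_normalizerIn hU₂S)
    obtain ⟨e, he⟩ := exists_equiv hψ₂' hψ₂U
    obtain ⟨δ, hδ, hδγ⟩ := exists_aut hγ' hγU₂
    have hU₃c : F.IsCentric U₃ := ⟨hU₃.1, fun Q hQ => hU₂c.2 Q (isConj_trans hconj₃ hQ)⟩
    have h3 : Nat.card ↥(normalizerIn S U₂) ≤ Nat.card ↥(normalizerIn S U₃) := hU₃.2 _ (isConj_symm hconj₃)
    have h4 : Nat.card ↥(normalizerIn S U₃) ≤ Nat.card S := Subgroup.card_le_of_le inf_le_left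
    have hfix3 := ih _ (by omega) U₃ hU₃ hU₃c rfl _ (congr_mem_autGroup hψ₂' hψ₂U he hδ)
    rw [← hψ₂x, av_congr_apply he δ hxU₂, hδγ x hxU₂] at hfix3
    have hγx : γ x = x := hψ₂'.injOn (hγU₂.le (mem_im_of_mem hxU₂)) hxU₂ hfix3
    have hxU' : x ∈ U' := by
      rw [← hψU, ← hψx]; exact mem_im_of_mem hxU
    rw [hγβ x hxU'] at hγx
    have hψix : ψi x = x := by
      conv_lhs => rw [← hψx]
      exact hψψ x hxU
    have h5 : ψ (f x) = ψ x := by
      rw [hψx]
      simpa [Function.comp, hψix] using hγx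
    exact hψU'.injOn (hfU.le (mem_im_of_mem hxU)) hxU h5
  have hglob := hL R hR hRc L ι hm T hT hxV hloc
  have hRV : R ≤ V := le_normalizerIn hR.1
  have hfN : Map (normSys F hR.1) R (av α) := (map_normalizerSystem_iff fun _ => rfl).2
    ⟨hRV, fun y hy => hRV (av_mem α hy), av α, by rw [sup_idem]; exact map_of_mem_autGroup hR.1 hα,
      fun _ _ => rfl, im_av α⟩
  obtain ⟨c, hc⟩ := exists_conj_of_map hm.2.1 hfN
  have h6 := hc ⟨x, hxV⟩ hxR ⟨av α x, hRV (av_mem α hxR)⟩ rfl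
  rw [hglob c] at h6
  exact congrArg Subtype.val (hm.2.1.1 h6)

end Cfsg.Agent.Local.FS
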