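import Cfsg.Agent.Lib.Local.FS.LocalCenter

/-!
The centre of the normalizer system of a functor value.
-/

set_option autoImplicit false

namespace Cfsg.Agent.Local.FS

open Cfsg Cfsg.FusionSystem Cfsg.Agent.Fusion

universe u

variable {Ω : Type u} [Group Ω] {S : Subgroup Ω} [Finite S] {F : FusionSystem S} {p : ℕ} [Fact p.Prime]
  {W : ∀ (Q : Type u) [Group Q], Subgroup Q}

omit [Fact p.Prime] in
theorem normalizerIn_functor (hS : IsPGroup p S)
    (hW2 : ∀ (Q R : Type u) [Group Q] [Group R] [Finite Q], IsPGroup p Q → ∀ φ : Q ≃* R,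
      (W Q).map φ.toMonoidHom = W R) : normalizerIn S (inducedFunctor W S) = S :=
  le_antisymm inf_le_left fun _ hs =>
    normalizer_le_functor hS hW2 le_rfl ⟨hs, Subgroup.le_normalizer hs⟩

omit [Fact p.Prime] in
theorem center_le_center_normalizer {U : Subgroup Ω} (hU : normalizerIn S U = S) {N : FusionSystem (normalizerIn S U)}
    (hN : F.IsNormalizerSystem U N) : F.center ≤ N.center := by
  intro z hz
  obtain ⟨hzS, hsp⟩ := center_spec F hz
  have hzV : z ∈ normalizerIn S U := hU.ge hzS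
  refine mem_center_of_fixClass hzV fun P f hf => ?_
  obtain ⟨hPV, hfV, g, hg, hgf, hgU⟩ := (map_normalizerSystem_iff hN).1 hf
  obtain ⟨g', hg', hgg, hgz⟩ := hsp _ g hg
  have hle : P ⊔ Subgroup.zpowers z ⊔ U = P ⊔ U ⊔ Subgroup.zpowers z := sup_right_comm _ _ _
  refine ⟨g', (map_normalizerSystem_iff hN).2 ⟨sup_le hPV (Subgroup.zpowers_le.2 hzV), ?_, g', hle ▸ hg',
    fun _ _ => rfl, (im_congr fun y hy => hgg y (Subgroup.mem_sup_right hy)).trans hgU⟩, fun y hy => ?_, hgz⟩
  · intro y hy
    exact hU.ge (hg'.mem (hle ▸ Subgroup.mem_sup_left hy))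
  · rw [hgg y (Subgroup.mem_sup_left hy), hgf y hy]

/-- A central element of the normalizer system is central in `S` and fixed by the normalizing automorphisms. -/
theorem center_normalizer_props {U : Subgroup Ω} (hUS : U ≤ S) (hU : normalizerIn S U = S)
    {N : FusionSystem (normalizerIn S U)} (hN : F.IsNormalizerSystem U N) {z : Ω} (hz : z ∈ N.center) :
    z ∈ S ∧ (∀ s ∈ S, s * z = z * s) ∧ ∀ f, Map F U f → im U f = U → z ∈ U → f z = z := by
  have hzV := (center_spec N hz).1
  refine ⟨hzV.1, fun s hs => ?_, fun f hf hfU hzU => ?_⟩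
  · have hm : Map N (Subgroup.zpowers z) (fun y => s * y * s⁻¹) :=
      map_conjBy (Subgroup.zpowers_le.2 hzV) (hU.ge hs)
    have h := center_fixed N hz hm (Subgroup.mem_zpowers z)
    exact mul_inv_eq_iff_eq_mul.1 h
  · refine center_fixed N hz ((map_normalizerSystem_iff hN).2 ⟨le_inf hUS Subgroup.le_normalizer, fun y hy => ?_,
      f, by rwa [sup_idem], fun _ _ => rfl, hfU⟩) hzU
    exact le_inf hUS Subgroup.le_normalizer (hfU.le (mem_im_of_mem hy))

end Cfsg.Agent.Local.FS
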