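import Cfsg.Agent.Lib.Local.FS.ControlFamily
import Cfsg.Agent.Lib.Local.FS.ThompsonInner
import Cfsg.Agent.Lib.Fusion.ZJControl

/-!
Control of fusion by the centre of the Thompson subgroup from stability in a set of local subgroups.
-/

set_option autoImplicit false

namespace Cfsg.Agent.Local.FS

open Cfsg Cfsg.FusionSystem Cfsg.Agent.Fusion

universe u

variable {G : Type u} [Group G] [Finite G] {p : ℕ} [Fact p.Prime] {P : Subgroup G}

set_option maxHeartbeats 400000 in
theorem normalizer_system_normal_zja (hp2 : p ≠ 2) (hP : SylIn p P ⊤) {U : Subgroup G}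
    (hU : (groupFusionSystem P).IsFullyNormalized U)
    (hfree : ¬ Involves (Matrix.SpecialLinearGroup (Fin 2) (ZMod p)) ↥(Subgroup.normalizer (U : Set G))) :
    (normSys (groupFusionSystem P) hU.1).IsNormal (centerThompsonAOf (normalizerIn P U)) := by
  set V := normalizerIn P U
  set H := Subgroup.normalizer (U : Set G)
  have hVH : V ≤ H := inf_le_right
  obtain ⟨hr, T, hT⟩ := realized_normalizer_group hP hU (N := normSys _ hU.1) fun _ => rfl
  set W := centerThompsonAOf V with hW
  have hWV : W ≤ V := by rw [hW, ← inducedFunctor_wZA]; exact inducedFunctor_le _ _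
  have himg : inducedFunctor wZA (T : Subgroup H) = W.subgroupOf H := by
    apply Subgroup.map_injective H.subtype_injective
    rw [← inducedFunctor_map_of_injOn (isCharPFunctor_wZA (p := p)) H.subtype H.subtype_injective.injOn T.2,
      Subgroup.map_subgroupOf_eq_of_le (hWV.trans hVH), hT, Subgroup.inclusion_range]
    refine (inducedFunctor_wZA _).trans ?_
    exact congrArg centerThompsonAOf (Subgroup.map_subgroupOf_eq_of_le hVH)
  have hUV : U ≤ V := le_normalizerIn hU.1
  refine normal_iff.2 ⟨hWV, fun A f hf => ?_⟩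
  obtain ⟨hA, hfm, g', hg', hgf, hgU⟩ := (map_normalizerSystem_iff fun _ => rfl).1 hf
  obtain ⟨-, hg'P, g, hg⟩ := map_group_iff.1 hg'
  have hgH : g ∈ H := by
    refine mem_normalizer_iff_cj.2 ?_
    rw [← im_conj, ← im_congr fun y hy => hg y (Subgroup.mem_sup_right hy), hgU]
  obtain ⟨x, hx, hxg⟩ := controlsFusion_of_stable_normal (G := H) (isCharPFunctor_wZA (p := p))
    (fun X _ _ hc hst T => centerThompsonAOf_normal hp2 hc hst T)
    (fun X _ _ hX _ R _ hR => isPStableOn_of_not_involves_sl2 hp2 (fun h => hfree (involves_trans h hX)) R hR)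
    T {a : H | (a : G) ∈ A ⊔ U} (fun a ha => by rw [hT, Subgroup.inclusion_range]; exact (sup_le hA hUV) ha)
    ⟨g, hgH⟩ (by
      rintro _ ⟨a, ha, rfl⟩
      rw [hT, Subgroup.inclusion_range]
      show g * (a : G) * g⁻¹ ∈ V
      rw [← hg _ ha]
      exact (hg'.im_sup_le.trans (sup_le (im_le_iff.2 fun y hy => (hgf y hy).symm ▸ hfm y hy)
        (hgU.le.trans hUV))) (mem_im_of_mem ha))
  rw [himg] at hx
  have hxW : (x : G) ∈ Subgroup.normalizer (W : Set G) := by
    have := Subgroup.le_normalizer_map H.subtype ⟨x, hx, rfl⟩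
    rwa [Subgroup.map_subgroupOf_eq_of_le (hWV.trans hVH)] at this
  have hxa : ∀ a ∈ A ⊔ U, (x : G) * a * (x : G)⁻¹ = g * a * g⁻¹ := fun a ha =>
    (congrArg Subtype.val (hxg ⟨a, hVH (sup_le hA hUV ha)⟩ ha)).symm
  have hxU : (x : G) ∈ Subgroup.normalizer (U : Set G) := x.2
  refine ⟨fun a => (x : G) * a * (x : G)⁻¹, (map_normalizerSystem_iff fun _ => rfl).2
    ⟨sup_le hA hWV, ?_, fun a => (x : G) * a * (x : G)⁻¹, map_group_iff.2
      ⟨sup_le (sup_le (hA.trans inf_le_left) (hWV.trans inf_le_left)) hU.1, ?_, x, fun _ _ => rfl⟩,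
      fun _ _ => rfl, im_conj.trans (cj_eq_self hxU)⟩, fun a ha => ?_, im_conj.trans (cj_eq_self hxW)⟩
  · intro a ha
    have : A ⊔ W ≤ V.comap (MulAut.conj (x : G)).toMonoidHom := sup_le
      (fun b hb => by
        show (x : G) * b * (x : G)⁻¹ ∈ V
        rw [hxa b (Subgroup.mem_sup_left hb), ← hg b (Subgroup.mem_sup_left hb), hgf b hb]
        exact hfm b hb)
      fun b hb => hWV (conj_mem_of_normalizer hxW hb)
    exact this ha
  · intro a ha
    have : A ⊔ W ⊔ U ≤ P.comap (MulAut.conj (x : G)).toMonoidHom := sup_le (sup_le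
      (fun b hb => by
        show (x : G) * b * (x : G)⁻¹ ∈ P
        rw [hxa b (Subgroup.mem_sup_left hb), ← hg b (Subgroup.mem_sup_left hb)]
        exact hg'P b (Subgroup.mem_sup_left hb))
      fun b hb => (hWV (conj_mem_of_normalizer hxW hb)).1) fun b hb => hU.1 (conj_mem_of_normalizer hxU hb)
    exact this ha
  · show (x : G) * a * (x : G)⁻¹ = f a
    rw [hxa a (Subgroup.mem_sup_left ha), ← hg a (Subgroup.mem_sup_left ha), hgf a ha]

set_option maxHeartbeats 400000 in
/-- Stability in the local subgroups over the centre of the Sylow subgroup suffices for control. -/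
theorem isNormal_zja_of_local_sl2 (hp2 : p ≠ 2) (hP : SylIn p P ⊤) (hP1 : P ≠ ⊥)
    (hfree : ∀ U : Subgroup G, P ⊓ Subgroup.centralizer (P : Set G) ≤ U → U ≤ P →
      ¬ Involves (Matrix.SpecialLinearGroup (Fin 2) (ZMod p)) ↥(Subgroup.normalizer (U : Set G))) :
    (groupFusionSystem P).IsNormal (centerThompsonAOf P) := by
  have hS := hP.isPGroup
  set Z := P ⊓ Subgroup.centralizer (P : Set G)
  have hW : IsCharPFunctor.{u} p wZA := isCharPFunctor_wZA
  have hne : ∀ V : Subgroup G, IsPGroup p V → V ≠ ⊥ → centerThompsonAOf V ≠ ⊥ := fun V hV h => by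
    rw [← inducedFunctor_wZA]
    exact (isConjugacyFunctor_induced hW V hV).2.1 h
  refine normal_of_local_good hS (group_saturated hP) hP1 (by rw [← inducedFunctor_wZA]; exact inducedFunctor_le _ _)
    (fun α hα => ?_) (fun U => ∃ U', (groupFusionSystem P).IsConj U U' ∧ Z ≤ U') (fun X hX => ⟨X,
      isConj_group_iff.2 ⟨hX.1, hX.1, 1, cj_one X⟩, fun z hz => centric_inv_mem hX hz.1 fun y hy =>
      (Subgroup.mem_centralizer_iff.1 hz.2 y (hX.1 hy))⟩) fun U hU hU1 ⟨U', hUU', hZU'⟩ => ?_
  · rw [← inducedFunctor_wZA]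
    exact im_functor hS hW.2 (map_of_mem_autGroup le_rfl hα) (im_av α)
  obtain ⟨-, hU'P, g, hg⟩ := isConj_group_iff.1 hUU'
  have hn := normalizer_system_normal_zja hp2 hP hU fun h => by
    refine hfree U' hZU' hU'P ?_
    rw [← hg, ← cj_normalizer]
    exact involves_trans h (involves_of_surjective_hom
      (Subgroup.equivMapOfInjective _ (MulAut.conj g).toMonoidHom (MulAut.conj g).injective).symm.toMonoidHom
      (Subgroup.equivMapOfInjective _ (MulAut.conj g).toMonoidHom (MulAut.conj g).injective).symm.surjective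
      involves_refl)
  have hVp : IsPGroup p ↥(normalizerIn P U) := hS.to_le inf_le_left
  refine ⟨_, hn, hne _ hVp fun h => hU1 (le_bot_iff.1 (h ▸ le_normalizerIn hU.1)), fun R' hR' => ?_, fun h => by rw [h],
    fun h => (lt_normalizerIn hS h).trans_le ?_⟩
  · refine ⟨centerThompsonAOf (normalizerIn P U), isConj_symm hR', fun z hz => ?_⟩
    refine center_le_centerThompsonAOf' hVp ⟨⟨hz.1, Subgroup.mem_normalizer_iff.2 fun y => ?_⟩,
      Subgroup.mem_centralizer_iff.2 fun y hy => Subgroup.mem_centralizer_iff.1 hz.2 y hy.1⟩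
    refine ⟨fun hy => ?_, fun hy => ?_⟩
    · rwa [← Subgroup.mem_centralizer_iff.1 hz.2 y (hU.1 hy), mul_inv_cancel_right]
    · have h1 := Subgroup.mem_centralizer_iff.1 hz.2 _ (hU.1 hy)
      rw [show z * y * z⁻¹ * z = z * y by group] at h1
      rwa [← mul_left_cancel h1] at hy
  · rw [← inducedFunctor_wZA]
    exact normalizer_le_functor hS hW.2 inf_le_left

end Cfsg.Agent.Local.FS
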