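import Cfsg.Agent.Lib.Local.FS.NormalInModel
import Cfsg.Agent.Lib.Local.FS.ModelUnique
import Cfsg.Agent.Lib.Local.FS.SubnormalTransport

/-!
A normal subsystem of a system with a model is realised by a normal subgroup of the model.
-/

set_option autoImplicit false

namespace Cfsg.Agent.Local.FS

open Cfsg Cfsg.FusionSystem Cfsg.Agent.Fusion

universe u v

variable {Ω : Type u} [Group Ω] {S T : Subgroup Ω} [Finite S] {F : FusionSystem S} {D : FusionSystem T}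
  {p : ℕ} [Fact p.Prime]

/-- `c_g` agrees with `f` on `P`, read in `G` along `ι`. -/
def Conjs {G : Type v} [Group G] (ι : S →* G) (P : Subgroup Ω) (f : Ω → Ω) (g : G) : Prop :=
  ∀ x : S, (x : Ω) ∈ P → ∀ y : S, (y : Ω) = f x → ι y = g * ι x * g⁻¹

/-- A normal subsystem of a system with a model is the system of a normal subgroup. -/
theorem exists_normal_realizing {G : Type v} [Group G] {ι : S →* G} (hS : IsPGroup p S)
    (hm : F.IsModel p G ι) (hD : D.IsNormalIn F p) :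
    ∃ H : Subgroup G, H.Normal ∧ SylIn p ((T.subgroupOf S).map ι) H ∧
      (∀ P f, Map D P f → ∃ h ∈ H, Conjs ι P f h) ∧
      ∀ P : Subgroup Ω, P ≤ T → ∀ h ∈ H,
        (∀ x : S, (x : Ω) ∈ P → h * ι x * h⁻¹ ∈ (T.subgroupOf S).map ι) →
        ∃ f, Map D P f ∧ Conjs ι P f h := by
  haveI := hm.1
  have hTS : T ≤ S := hD.1.2.2.2.1.1
  have h := fiso_of_realized hm.2.1
  obtain ⟨j, hj, hjv⟩ := h.exists_symm
  obtain ⟨P₀, hP₀⟩ := hm.2.2.1
  have hsyl : SylIn p ι.range ⊤ := hP₀ ▸ sylIn_top P₀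
  have hD' := pullSys_normalIn hj hTS hsyl.isPGroup (group_saturated hsyl) hD
  have hup : ∀ P : Subgroup Ω, P ≤ S → up j (up ι P) = P := by
    intro P hP
    ext x
    rw [mem_up h.up_le]
    constructor
    · rintro ⟨y, hy, rfl⟩
      rw [hjv y (h.up_le hy)]
      exact h.ve_up hP hy
    · intro hx
      refine ⟨ue ι x, ue_mem_up hP hx, ?_⟩
      rw [hjv _ (h.ue_mem (hP hx)), h.ve_ue (hP hx)]
  have hT' : preimageAlong j T = up ι T := by
    ext y
    rw [mem_pre_iff]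
    constructor
    · rintro ⟨hy, hyT⟩
      rw [hjv y hy] at hyT
      exact h.ue_ve hy ▸ ue_mem_up hTS hyT
    · exact fun hy => ⟨h.up_le hy, (hjv y (h.up_le hy)).symm ▸ h.ve_up hTS hy⟩
  have hT'' : up ι T = (T.subgroupOf S).map ι := rfl
  obtain ⟨H, hTH, hn, hs, hhom, -⟩ :=
    NormalInModel.correspond p hsyl hm.2.2.2 (pullSys hj D hTS) hD'
  rw [hT', hT''] at hs
  have hmap : ∀ (P' : Subgroup G) (f' : G → G), Map (pullSys hj D hTS) P' f' ↔
      Map (fusionSystemOfSubgroup H (preimageAlong j T) hTH) P' f' := fun P' f' =>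
    ⟨fun ⟨φ, hφ, he⟩ => ⟨φ, hhom P' ▸ hφ, he⟩, fun ⟨φ, hφ, he⟩ => ⟨φ, (hhom P').symm ▸ hφ, he⟩⟩
  refine ⟨H, hn, hs, fun P f hf => ?_, fun P hP g hg hgm => ?_⟩
  · have hPS : P ≤ S := hf.le.trans hTS
    have h1 := pullSys_down hj hTS hD.1.2.2.1 (P := up ι P) (g := f)
      (hT' ▸ Subgroup.map_mono (f := ι) (Subgroup.comap_mono hf.le)) ((hup P hPS).symm ▸ hf)
    obtain ⟨-, -, g, hg, hge⟩ := map_ofSubgroup_iff.1 ((hmap _ _).1 h1)
    refine ⟨g, hg, fun x hx y hy => ?_⟩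
    have h2 : ve j (f (ue j (ue ι x))) = g * ue ι x * g⁻¹ := hge _ (ue_mem_up hPS hx)
    have hxr := h.ue_mem x.2
    rw [hjv _ hxr, h.ve_ue x.2, ← hy] at h2
    have h3 : ue j (ue ι y) = (y : Ω) := by rw [hjv _ (h.ue_mem y.2), h.ve_ue y.2]
    rw [← h3, hj.ve_ue (h.ue_mem y.2), ue_coe, ue_coe] at h2
    exact h2
  · have hPS : P ≤ S := hP.trans hTS
    have h1 : Map (fusionSystemOfSubgroup H (preimageAlong j T) hTH) (up ι P) (fun z => g * z * g⁻¹) := by
      refine map_ofSubgroup_iff.2 ⟨hT' ▸ Subgroup.map_mono (Subgroup.comap_mono hP), fun z hz => ?_,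
        g, hg, fun _ _ => rfl⟩
      obtain ⟨x, hx, rfl⟩ := (mem_up hPS).1 hz
      rw [hT', hT'', ue_apply (hPS hx)]
      exact hgm ⟨x, hPS hx⟩ hx
    have h2 := pullSys_up ((hmap _ _).2 h1)
    rw [hup P hPS] at h2
    refine ⟨_, h2, fun x hx y hy => ?_⟩
    have hxr := h.ue_mem x.2
    have hv : ve j (x : Ω) = ue ι x := by
      conv_lhs => rw [show (x : Ω) = ue j (ue ι x) by rw [hjv _ hxr, h.ve_ue x.2]]
      exact hj.ve_ue hxr
    have hzr : g * ι x * g⁻¹ ∈ ι.range := Subgroup.map_le_range ι _ (hgm x hx)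
    rw [show pushFn j (fun z => g * z * g⁻¹) (x : Ω) = ue j (g * ve j (x : Ω) * g⁻¹) from rfl, hv, ue_coe,
      hjv _ hzr] at hy
    rw [← ue_coe (i := ι) y, hy, h.ue_ve hzr]

end Cfsg.Agent.Local.FS
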