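import Cfsg.Agent.Lib.Local.FS.StabAutS
import Cfsg.Agent.Lib.Local.FS.NormalRealizing
import Cfsg.Agent.Lib.Local.FS.InvariantCriterion
import Cfsg.Agent.Lib.Local.FS.PrimeResidualIsNormal
import Cfsg.Agent.Lib.Local.FS.FocalCentralizer
import Cfsg.Agent.Lib.Local.FS.CentralizerOfNormal

/-!
Models at a fully normalized centric subgroup of a normal subsystem, with a normal subgroup realising the
subsystem.
-/

set_option autoImplicit false

namespace Cfsg.Agent.Local.FS

open Cfsg Cfsg.FusionSystem Cfsg.Agent.Fusion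

universe u v

variable {Ω : Type u} [Group Ω] {S T : Subgroup Ω} {F : FusionSystem S} {E : FusionSystem T}
  {P Q R Y : Subgroup Ω} {f : Ω → Ω} {p : ℕ}

theorem hat_le (S : Subgroup Ω) {R : Subgroup Ω} (hR : R ≤ S) :
    R ⊔ centralizerIn S R ≤ normalizerIn S R :=
  sup_le (le_normalizerIn hR) centralizerIn_le_normalizerIn

theorem normalizerIn_hat (S : Subgroup Ω) [Finite S] {R : Subgroup Ω} (hR : R ≤ S) :
    normalizerIn (normalizerIn S R) (R ⊔ centralizerIn S R) = normalizerIn S R := by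
  refine le_antisymm inf_le_left (le_inf le_rfl fun s hs => ?_)
  refine mem_normalizer_of_conj_mem (sup_le hR inf_le_left) fun x hx => ?_
  have h : R ⊔ centralizerIn S R ≤ (R ⊔ centralizerIn S R).comap (MulAut.conj s).toMonoidHom := by
    refine sup_le (fun r hr => Subgroup.mem_sup_left (conj_mem_of_normalizer hs.2 hr)) fun c hc =>
      Subgroup.mem_sup_right (mem_centralizerIn.2 ⟨S.mul_mem (S.mul_mem hs.1 hc.1) (S.inv_mem hs.1), fun r hr => ?_⟩)
    have h1 : s⁻¹ * r * s ∈ R := by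
      simpa using conj_mem_of_normalizer (Subgroup.inv_mem _ hs.2) hr
    show r * (s * c * s⁻¹) = s * c * s⁻¹ * r
    calc r * (s * c * s⁻¹) = s * ((s⁻¹ * r * s) * c) * s⁻¹ := by group
      _ = s * (c * (s⁻¹ * r * s)) * s⁻¹ := by rw [(mem_centralizerIn.1 hc).2 _ h1]
      _ = _ := by group
  exact h hx

/-- The maps stabilising `R` and `R C_S(R)`. -/
def localSys (F : FusionSystem S) (hR : R ≤ S) :
    FusionSystem (normalizerIn (normalizerIn S R) (R ⊔ centralizerIn S R)) :=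
  normSys (normSys F hR) (hat_le S hR)

theorem map_localSys [Finite S] {hR : R ≤ S} :
    Map (localSys F hR) P f ↔ P ≤ normalizerIn S R ∧ (∀ x ∈ P, f x ∈ normalizerIn S R) ∧
      ∃ g, Map F (P ⊔ (R ⊔ centralizerIn S R)) g ∧ (∀ x ∈ P, g x = f x) ∧ im R g = R ∧
        im (R ⊔ centralizerIn S R) g = R ⊔ centralizerIn S R := by
  have hS7 := normalizerIn_hat S hR
  have hle : R ≤ R ⊔ centralizerIn S R := le_sup_left
  constructor
  · intro h
    obtain ⟨hP, hm, g₁, hg₁, hg₁f, hg₁H⟩ := (map_normalizerSystem_iff fun _ => rfl).1 h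
    obtain ⟨-, -, g₂, hg₂, hg₂g, hg₂R⟩ := (map_normalizerSystem_iff fun _ => rfl).1 hg₁
    refine ⟨hP.trans hS7.le, fun x hx => hS7.le (hm x hx), g₂, hg₂.restrict le_sup_left, fun x hx => ?_,
      hg₂R, (im_congr fun x hx => hg₂g x (Subgroup.mem_sup_right hx)).trans hg₁H⟩
    rw [hg₂g x (Subgroup.mem_sup_left hx), hg₁f x hx]
  · rintro ⟨hP, hm, g, hg, hgf, hgR, hgH⟩
    refine (map_normalizerSystem_iff fun _ => rfl).2 ⟨hP.trans hS7.ge, fun x hx => hS7.ge (hm x hx), g,
      (map_normalizerSystem_iff fun _ => rfl).2 ⟨sup_le hP (hat_le S hR), fun x hx => ?_, g,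
        hg.restrict (sup_le le_rfl (hle.trans le_sup_right)), fun _ _ => rfl, hgR⟩, hgf, hgH⟩
    have h1 := hg.mem_normalizer (hle.trans le_sup_right) hx ((sup_le hP (hat_le S hR)) hx).2
    rwa [hgR] at h1

variable [Finite S] [Fact p.Prime]

theorem localSys_saturated (hS : IsPGroup p S) (hF : F.IsSaturated p) (hR : F.IsFullyNormalized R) :
    (localSys F hR.1).IsSaturated p := by
  haveI : Finite ↥(normalizerIn S R) := finite_normalizerIn
  refine normSys_saturated (show IsPGroup p ↥(normalizerIn S R) from hS.to_le inf_le_left) (normSys_saturated hS hF hR) ⟨hat_le S hR.1, fun Q _ => ?_⟩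
  rw [normalizerIn_hat S hR.1]
  exact Subgroup.card_le_of_le inf_le_left

theorem exists_model_local (hS : IsPGroup p S) (hF : F.IsSaturated p) (hR : F.IsFullyNormalized R) :
    ∃ (G : Type u) (_ : Group G) (ι : ↥(normalizerIn (normalizerIn S R) (R ⊔ centralizerIn S R)) →* G),
      (localSys F hR.1).IsModel p G ι ∧ (localSys F hR.1).IsNormal R := by
  haveI : Finite ↥(normalizerIn S R) := finite_normalizerIn
  haveI : Finite ↥(normalizerIn (normalizerIn S R) (R ⊔ centralizerIn S R)) := finite_normalizerIn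
  have hn : (localSys F hR.1).IsNormal (R ⊔ centralizerIn S R) :=
    normal_normalizerSystem (hat_le S hR.1) fun _ => rfl
  have hS7 := normalizerIn_hat S hR.1
  have hc : (localSys F hR.1).IsCentric (R ⊔ centralizerIn S R) := by
    refine ⟨hn.1, fun Q hQ => ?_⟩
    rw [eq_of_isConj_stronglyClosed (normal_stronglyClosed hn) hQ]
    intro x hx
    obtain ⟨hx1, hx2⟩ := mem_centralizerIn.1 hx
    exact Subgroup.mem_sup_right (mem_centralizerIn.2 ⟨(hS7.le hx1).1, fun r hr => hx2 r (Subgroup.mem_sup_left hr)⟩)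
  obtain ⟨G, hG, ι, hm⟩ := exists_model (S := normalizerIn (normalizerIn S R) (R ⊔ centralizerIn S R))
    (hS.to_le (inf_le_left.trans inf_le_left)) (localSys_saturated hS hF hR) hn hc
  · refine ⟨G, hG, ι, hm, normal_iff.2 ⟨le_sup_left.trans hn.1, fun P f hf => ?_⟩⟩
    obtain ⟨hP, hm, g, hg, hgf, hgR, hgH⟩ := map_localSys.1 hf
    have hle : P ⊔ R ≤ P ⊔ (R ⊔ centralizerIn S R) := sup_le_sup_left le_sup_left _
    refine ⟨g, map_localSys.2 ⟨sup_le hP (le_normalizerIn hR.1), fun x hx => ?_, g,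
      hg.restrict (sup_le hle le_sup_right), fun _ _ => rfl, hgR, hgH⟩, hgf, hgR⟩
    have h1 := hg.mem_normalizer (le_sup_left.trans le_sup_right) (hle hx)
      ((sup_le hP (le_normalizerIn hR.1)) hx).2
    rwa [hgR] at h1

omit [Fact p.Prime] in
theorem centric_inter [Finite T] (hT : T ≤ S) (hRc : E.IsCentric R) : T ⊓ centralizerIn S R ≤ R := fun _ hx =>
  centric_inv_mem hRc hx.1 (mem_centralizerIn.1 hx.2).2

/-- A subgroup of `T` fully normalized in `F` is so in `E`. -/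
theorem fn_of_fn (hS : IsPGroup p S) (hE : E.IsWeaklyNormalIn F p) (hR : F.IsFullyNormalized R) (hRT : R ≤ T) :
    E.IsFullyNormalized R := by
  obtain ⟨-, hF, hEi⟩ := id hE
  refine ⟨hRT, fun Q hQ => ?_⟩
  obtain ⟨φ, hφ, hr⟩ := id hQ
  obtain ⟨ψ, hψ, hψm, -⟩ := exists_map_normalizer_fn hS hF hR (isConj_symm (⟨φ, hEi.1 _ hφ, hr⟩ : F.IsConj R Q))
  haveI : Finite ↥(normalizerIn T R) := finite_of_le (inf_le_left.trans hEi.2.1.1)
  have hle : normalizerIn T Q ≤ normalizerIn S Q := inf_le_inf_right _ hEi.2.1.1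
  exact (hψ.restrict hle).card_le fun x hx =>
    ⟨stronglyClosed_map hEi.2.1 hψ (hle hx) hx.1, (hψm x (hle hx)).2⟩

/-- The part of `E` at `R` is weakly normal in the local system of `F`. -/
theorem localSub_weaklyNormal (hS : IsPGroup p S) (hE : E.IsWeaklyNormalIn F p) (hR : F.IsFullyNormalized R)
    (hRc : E.IsCentric R) : (normSys E hRc.1).IsWeaklyNormalIn (localSys F hR.1) p := by
  obtain ⟨hEs, hF, hEi⟩ := id hE
  have hT := hEi.2.1
  haveI := finite_of_le hT.1
  have hCT := centric_inter (E := E) hT.1 hRc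
  have hloc := localSys_saturated hS hF hR
  have hS7 := normalizerIn_hat S hR.1
  haveI : Finite ↥(normalizerIn S R) := finite_normalizerIn
  haveI : Finite ↥(normalizerIn (normalizerIn S R) (R ⊔ centralizerIn S R)) := finite_normalizerIn
  have hVN : normalizerIn T R ≤ normalizerIn S R := inf_le_inf_right _ hT.1
  have hsub : (normSys E hRc.1).IsSubsystemOf (localSys F hR.1) := fun P φ hφ => by
    obtain ⟨hP, hm, g, hg, hgf, hgR⟩ := (map_normalizerSystem_iff fun _ => rfl).1 (map_of_mem hφ)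
    obtain ⟨k, hk, hkg, hkR, hkH⟩ := exists_extend_hat hS hF hR hT hCT (le_sup_right : R ≤ P ⊔ R)
      (sup_le hP (le_normalizerIn hRc.1)) (hg.of_sub hEi.1) hgR
    refine mem_iff_map.2 (map_localSys.2 ⟨hP.trans hVN, fun x hx => hVN (hm x hx), k,
      hk.restrict (sup_le_sup_right le_sup_left _), fun x hx => ?_, hkR, hkH⟩)
    rw [hkg x (Subgroup.mem_sup_left hx), hgf x hx]
  have hsc : (localSys F hR.1).StronglyClosed (normalizerIn T R) := stronglyClosed_iff.2
    ⟨hVN.trans hS7.ge, fun P f hP hf x hx => by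
      obtain ⟨-, hm, g, hg, hgf, -, -⟩ := map_localSys.1 hf
      refine ⟨?_, (hm x hx).2⟩
      rw [← hgf x hx]
      exact stronglyClosed_map hT hg (Subgroup.mem_sup_left hx) (hP hx).1⟩
  refine ⟨normSys_saturated (hS.to_le hT.1) hEs (fn_of_fn hS hE hR hRc.1), hloc,
    (isInvariantIn_iff (show IsPGroup p ↥(normalizerIn (normalizerIn S R) (R ⊔ centralizerIn S R)) from hS.to_le (inf_le_left.trans inf_le_left)) hloc hsub hsc).2 ?_⟩
  intro P Q f g hPQ hQV hf hfQ hg
  obtain ⟨hP, -, f', hf', hf'f, hf'R⟩ := (map_normalizerSystem_iff fun _ => rfl).1 hf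
  obtain ⟨-, -, g', hg', hg'g, hg'R, -⟩ := map_localSys.1 hg
  have hg'' := hg'.restrict (sup_le_sup_left le_sup_left Q : Q ⊔ R ≤ Q ⊔ (R ⊔ centralizerIn S R))
  obtain ⟨h, hh, hhe⟩ := (isInvariantIn_iff hS hF hEi.1 hT).1 hEi (P ⊔ R) (Q ⊔ R) f' g' (sup_le_sup_right hPQ R)
    (sup_le (hQV.trans inf_le_left) hRc.1) hf'
    (fun x hx => (hf'.im_sup_le.trans (sup_le_sup (im_le_iff.2 fun y hy => by rw [hf'f y hy]; exact hfQ y hy)
      hf'R.le)) (mem_im_of_mem hx)) hg''
  have hPg : im P g = im P g' := im_congr fun x hx => (hg'g x (hPQ hx)).symm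
  have hdom : im P g ⊔ R ≤ im (P ⊔ R) g' :=
    sup_le (hPg.le.trans (im_mono le_sup_left)) (hg'R.ge.trans (im_mono le_sup_right))
  have hgV : ∀ x ∈ Q, g x ∈ normalizerIn T R := fun x hx => stronglyClosed_map hsc hg hx (hQV hx)
  have heq : ∀ x ∈ P, h (g x) = g (f x) := fun x hx => by
    rw [← hg'g x (hPQ hx), hhe x (Subgroup.mem_sup_left hx), hf'f x hx, hg'g _ (hfQ x hx)]
  refine ⟨h, (map_normalizerSystem_iff fun _ => rfl).2 ⟨im_le_iff.2 fun x hx => hgV x (hPQ hx), fun y hy => ?_,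
    h, hh.restrict hdom, fun _ _ => rfl, ?_⟩, heq⟩
  · obtain ⟨x, hx, rfl⟩ := (hg.restrict hPQ).mem_im.1 hy
    rw [heq x hx]; exact hgV _ (hfQ x hx)
  · haveI := finite_of_le hR.1
    refine Subgroup.eq_of_le_of_card_ge (im_le_iff.2 fun y hy => ?_)
      (hh.restrict (le_sup_right.trans hdom)).card_im.ge
    obtain ⟨x, hx, rfl⟩ := (hg''.restrict le_sup_right).mem_im.1 (hg'R.ge hy)
    rw [hhe x (Subgroup.mem_sup_right hx)]
    exact hg'R.le (mem_im_of_mem (hf'R.le (mem_im_of_mem hx)))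

/-- The image in `G` of a part of `N_S(R)`. -/
abbrev imG {G : Type v} [Group G] {N : Subgroup Ω} (ι : N →* G) (P : Subgroup Ω) : Subgroup G :=
  (P.subgroupOf N).map ι

/-- A model of the local system at `R` with a normal subgroup `H` with Sylow subgroup `N_T(R)`. -/
structure LocalModel (F : FusionSystem S) (E : FusionSystem T) (p : ℕ) (R : Subgroup Ω) (G : Type v) [Group G]
    (ι : ↥(normalizerIn S R) →* G) (H : Subgroup G) : Prop where
  finite : Finite G
  inj : Function.Injective ι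
  normal : H.Normal
  syl : SylIn p (imG ι (normalizerIn T R)) H
  normalR : (imG ι R).Normal
  centH : H ⊓ Subgroup.centralizer (imG ι R : Set G) ≤ imG ι R
  mapG : ∀ P : Subgroup Ω, P ≤ normalizerIn S R → ∀ g : G,
    (∀ x : ↥(normalizerIn S R), (x : Ω) ∈ P → g * ι x * g⁻¹ ∈ ι.range) →
    ∃ f, Map F (P ⊔ R) f ∧ im R f = R ∧ Conjs ι P f g
  ofMapF : ∀ (Y : Subgroup Ω) (f : Ω → Ω), R ≤ Y → Y ≤ normalizerIn T R → Map F Y f → im R f = R →
    ∃ g f', Map F (Y ⊔ centralizerIn S R) f' ∧ (∀ x ∈ Y, f' x = f x) ∧ Conjs ι (Y ⊔ centralizerIn S R) f' g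
  mapH : ∀ P : Subgroup Ω, P ≤ normalizerIn T R → ∀ h ∈ H,
    (∀ x : ↥(normalizerIn S R), (x : Ω) ∈ P → h * ι x * h⁻¹ ∈ imG ι (normalizerIn T R)) →
    ∃ f, Map E (P ⊔ R) f ∧ im R f = R ∧ Conjs ι P f h

/-- The local model built on a normal subsystem of the local system lying in the part of `E`. -/
theorem exists_localModel (hS : IsPGroup p S) (hE : E.IsWeaklyNormalIn F p) (hR : F.IsFullyNormalized R)
    (hRc : E.IsCentric R) {D : FusionSystem (normalizerIn T R)}
    (hD : D.IsNormalIn (localSys F hR.1) p) (hDE : D.IsSubsystemOf (normSys E hRc.1)) :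
    ∃ (G : Type u) (_ : Group G) (ι : ↥(normalizerIn S R) →* G) (H : Subgroup G), LocalModel F E p R G ι H ∧
      ∀ P f, Map D P f → ∃ h ∈ H, Conjs ι P f h := by
  obtain ⟨-, hF, hEi⟩ := id hE
  have hT := hEi.2.1
  haveI := finite_of_le hT.1
  haveI : Finite ↥(normalizerIn S R) := finite_normalizerIn
  haveI : Finite ↥(normalizerIn (normalizerIn S R) (R ⊔ centralizerIn S R)) := finite_normalizerIn
  obtain ⟨G, hG, κ, hm, hRn⟩ := exists_model_local hS hF hR
  haveI := hm.1
  have hS7 := normalizerIn_hat S hR.1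
  have hVN : normalizerIn T R ≤ normalizerIn S R := inf_le_inf_right _ hT.1
  have hp7 : IsPGroup p ↥(normalizerIn (normalizerIn S R) (R ⊔ centralizerIn S R)) :=
    hS.to_le (inf_le_left.trans inf_le_left)
  obtain ⟨H, hn, hs, hDH, hHD⟩ := exists_normal_realizing hp7 hm hD
  obtain ⟨ι, hι⟩ : ∃ ι : ↥(normalizerIn S R) →* G, ι = κ.comp (Subgroup.inclusion hS7.ge) := ⟨_, rfl⟩
  have hιv : ∀ x : ↥(normalizerIn S R), ι x = κ ⟨x, hS7.ge x.2⟩ := fun x => by rw [hι]; rfl
  have hκv : ∀ x, κ x = ι ⟨x, hS7.le x.2⟩ := fun x => by rw [hιv]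
  have hrange : ι.range = κ.range := by
    ext z
    exact ⟨fun ⟨x, hx⟩ => ⟨_, (hιv x).symm.trans hx⟩, fun ⟨x, hx⟩ => ⟨_, (hκv x).symm.trans hx⟩⟩
  have himg : ∀ P : Subgroup Ω, imG ι P = (P.subgroupOf _).map κ := fun P => by
    ext z
    exact ⟨fun ⟨x, hx, he⟩ => ⟨⟨x, hS7.ge x.2⟩, hx, (hιv x).symm.trans he⟩,
      fun ⟨x, hx, he⟩ => ⟨⟨x, hS7.le x.2⟩, hx, (hκv x).symm.trans he⟩⟩
  have hconjs : ∀ {P f g}, Conjs κ P f g → Conjs ι P f g := fun hc x hx y hy => by
    rw [hιv, hιv]; exact hc ⟨x, hS7.ge x.2⟩ hx ⟨y, hS7.ge y.2⟩ hy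
  have hinj : Function.Injective ι := fun a b h => by
    rw [hιv, hιv] at h
    exact Subtype.ext (congrArg Subtype.val (hm.2.1.1 h) :)
  have hnR : (imG ι R).Normal := himg R ▸ normal_image hm hRn
  refine ⟨G, hG, ι, H, ⟨hm.1, hinj, hn, himg _ ▸ hs, hnR, ?_, ?_, ?_, ?_⟩, fun P f hf => ?_⟩
  · haveI := hn
    haveI := hnR
    set C := H ⊓ Subgroup.centralizer (imG ι R : Set G)
    haveI : C.Normal := Subgroup.normal_inf_normal H (Subgroup.centralizer (imG ι R : Set G))
    have hsyl : SylIn p (imG ι (normalizerIn T R) ⊓ C) C :=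
      (himg _ ▸ hs : SylIn p (imG ι (normalizerIn T R)) H).inf_normal inf_le_left
        (le_top.trans (by rw [Subgroup.normalizer_eq_top]))
    have hVC : imG ι (normalizerIn T R) ⊓ C ≤ imG ι R := by
      rintro _ ⟨⟨x, hx, rfl⟩, hC⟩
      refine ⟨x, centric_inter hT.1 hRc ⟨hx.1, mem_centralizerIn.2 ⟨x.2.1, fun r hr => ?_⟩⟩, rfl⟩
      have h1 := Subgroup.mem_centralizer_iff.1 hC.2 (ι ⟨r, le_normalizerIn hR.1 hr⟩) ⟨_, hr, rfl⟩
      rw [← map_mul, ← map_mul] at h1
      exact congrArg Subtype.val (hinj h1)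
    obtain ⟨P₀, hP₀⟩ := hsyl.exists_sylow_subgroupOf
    -- elements of `C` of order prime to `p` centralise the core
    have hcop : ∀ c ∈ C, (orderOf c).Coprime p → c = 1 := by
      intro c hc hco
      have h1 : c ∈ Subgroup.centralizer (pCore p G : Set G) := by
        refine Subgroup.mem_centralizer_iff.2 fun x hx => ?_
        obtain ⟨r, hr⟩ : ∃ r, r = x⁻¹ * (c * x * c⁻¹) := ⟨_, rfl⟩
        have hrO : r ∈ pCore p G := hr ▸ Subgroup.mul_mem _ (Subgroup.inv_mem _ hx)
          (Subgroup.Normal.conj_mem inferInstance x hx c)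
        have hrC : r ∈ C := hr ▸ (show x⁻¹ * c * x * c⁻¹ = x⁻¹ * (c * x * c⁻¹) by group) ▸
          C.mul_mem (by simpa using Subgroup.Normal.conj_mem inferInstance c hc x⁻¹) (C.inv_mem hc)
        haveI : (pCore p G ⊓ C).Normal := Subgroup.normal_inf_normal _ _
        have hrR : r ∈ imG ι R := by
          refine hVC ?_
          have hle : pCore p G ⊓ C ≤ imG ι (normalizerIn T R) ⊓ C := by
            have hp' : IsPGroup p ↥((pCore p G ⊓ C).subgroupOf C) :=
              ((pCore_le_sylow (Classical.arbitrary (Sylow p G)) |> fun h =>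
                (Classical.arbitrary (Sylow p G)).2.to_le h).to_le inf_le_left).comap_subtype
            obtain ⟨Q, hQ⟩ := hp'.exists_le_sylow
            obtain ⟨g, rfl⟩ := MulAction.exists_smul_eq C P₀ Q
            intro z hz
            have h2 := hQ (show (⟨z, hz.2⟩ : C) ∈ (pCore p G ⊓ C).subgroupOf C from hz)
            rw [Sylow.coe_subgroup_smul, Subgroup.mem_pointwise_smul_iff_inv_smul_mem, hP₀] at h2
            have h3 : (g : G)⁻¹ * z * g ∈ imG ι (normalizerIn T R) ⊓ C := by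
              refine ⟨?_, by simpa using Subgroup.Normal.conj_mem inferInstance z hz.2 (g : G)⁻¹⟩
              simpa [Subgroup.mem_subgroupOf] using h2
            have h4 := hVC h3
            have h5 : z ∈ imG ι R := by
              have := Subgroup.Normal.conj_mem hnR _ h4 (g : G)
              simpa [mul_assoc] using this
            exact ⟨Subgroup.map_mono (Subgroup.comap_mono (le_normalizerIn hRc.1)) h5, hz.2⟩
          exact hle ⟨hrO, hrC⟩
        have hrc : c * r * c⁻¹ = r := by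
          rw [← Subgroup.mem_centralizer_iff.1 hc.2 r hrR, mul_inv_cancel_right]
        have h2 := NormalInModel.conj_pow_eq (show c * x * c⁻¹ = x * r by rw [hr, mul_inv_cancel_left]) hrc (orderOf c)
        rw [pow_orderOf_eq_one, one_mul, inv_one, mul_one, eq_comm, mul_eq_left] at h2
        obtain ⟨k, hk⟩ : ∃ k, r ^ p ^ k = 1 := by
          obtain ⟨k, hk⟩ := ((Classical.arbitrary (Sylow p G)).2.to_le (pCore_le_sylow _)) ⟨r, hrO⟩
          exact ⟨k, congrArg Subtype.val hk⟩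
        have h3 : r = 1 := orderOf_eq_one_iff.1 (Nat.eq_one_of_dvd_coprimes (hco.pow_right k)
          (orderOf_dvd_of_pow_eq_one h2) (orderOf_dvd_of_pow_eq_one hk))
        rw [h3] at hr
        have h4 : c * x * c⁻¹ = x := by
          rw [eq_comm, inv_mul_eq_one] at hr
          exact hr.symm
        exact (mul_inv_eq_iff_eq_mul.1 h4).symm
      obtain ⟨k, hk⟩ := ((Classical.arbitrary (Sylow p G)).2.to_le (pCore_le_sylow _)) ⟨c, hm.2.2.2 h1⟩
      exact orderOf_eq_one_iff.1 (Nat.eq_one_of_dvd_coprimes (hco.pow_right k) dvd_rfl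
        (orderOf_dvd_of_pow_eq_one (congrArg Subtype.val hk)))
    have hCp : IsPGroup p C := by
      intro c
      obtain ⟨k, m, hm', hkm⟩ := Nat.exists_eq_pow_mul_and_not_dvd (orderOf_pos (c : G)).ne' p
        (Fact.out : p.Prime).ne_one
      refine ⟨k, Subtype.ext ?_⟩
      refine hcop _ (C.pow_mem c.2 _) ?_
      rw [SubgroupClass.coe_pow, orderOf_pow, hkm, Nat.gcd_mul_right_left,
        Nat.mul_div_cancel_left _ (pow_pos (Fact.out : p.Prime).pos k)]
      exact ((Nat.Prime.coprime_iff_not_dvd Fact.out).2 hm').symm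
    exact fun x hx => hVC ((hsyl.eq_of_le hCp hsyl.le le_rfl).le hx)
  · intro P hP g hg
    obtain ⟨f, hf, hfg⟩ := exists_map_of_conj hm.2.1 (hP.trans hS7.ge) g fun x hx => by
      rw [← hrange, hκv]; exact hg _ hx
    obtain ⟨-, -, f', hf', hff, hR', -⟩ := map_localSys.1 hf
    refine ⟨f', hf'.restrict (sup_le_sup_left le_sup_left _), hR', fun x hx y hy => hconjs (f := f)
      (fun a ha b hb => ?_) x hx y (hy.trans (hff x hx))⟩
    obtain ⟨b', hb'⟩ : g * κ a * g⁻¹ ∈ κ.range := by rw [← hrange, hκv]; exact hg _ ha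
    rw [show b = b' from Subtype.ext (hb.trans (hfg a ha b' hb')), hb']
  · intro Y f hRY hY hf hfR
    obtain ⟨k, hk, hkf, hkR, hkH⟩ := exists_extend_hat hS hF hR hT (centric_inter hT.1 hRc) hRY hY hf hfR
    have hle : Y ⊔ centralizerIn S R ≤ Y ⊔ (R ⊔ centralizerIn S R) := sup_le_sup_left le_sup_right _
    have hYC : Y ⊔ centralizerIn S R ≤ normalizerIn S R := sup_le (hY.trans hVN) centralizerIn_le_normalizerIn
    have hk7 : Map (localSys F hR.1) (Y ⊔ centralizerIn S R) k := by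
      refine map_localSys.2 ⟨hYC, fun x hx => ?_, k, hk.restrict (sup_le hle le_sup_right), fun _ _ => rfl, hkR, hkH⟩
      have h1 := hk.mem_normalizer (le_sup_left.trans le_sup_right) (hle hx) (hYC hx).2
      rwa [hkR] at h1
    obtain ⟨g, hg⟩ := exists_conj_of_map hm.2.1 hk7
    exact ⟨g, k, hk.restrict hle, hkf, hconjs hg⟩
  · intro P hP h hh hmem
    obtain ⟨f, hf, hfg⟩ := hHD P hP h hh fun x hx => by rw [← himg, hκv]; exact hmem _ hx
    obtain ⟨φ, hφ, he⟩ := hf
    obtain ⟨-, -, f', hf', hff, hR'⟩ := (map_normalizerSystem_iff fun _ => rfl).1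
      (⟨φ, hDE P hφ, he⟩ : Map (normSys E hRc.1) P f)
    exact ⟨f', hf', hR', fun x hx y hy => hconjs hfg x hx y (hy.trans (hff x hx))⟩
  · obtain ⟨h, hh, hc⟩ := hDH P f hf
    exact ⟨h, hh, hconjs hc⟩

/-- A local model in which the maps of `E` stabilising `R` are automorphisms of `N_T(R)` followed by
conjugations from `H`. -/
theorem exists_localModel_step (hS : IsPGroup p S) (hE : E.IsWeaklyNormalIn F p) (hR : F.IsFullyNormalized R)
    (hRc : E.IsCentric R) :
    ∃ (G : Type u) (_ : Group G) (ι : ↥(normalizerIn S R) →* G) (H : Subgroup G), LocalModel F E p R G ι H ∧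
      ∀ P f, P ≤ normalizerIn T R → R ≤ P → Map E P f → im R f = R →
        ∃ α f₁, Map E (normalizerIn T R) α ∧ Map E P f₁ ∧ (∀ x ∈ P, f₁ x ∈ normalizerIn T R ∧ f x = α (f₁ x)) ∧
          ∃ h ∈ H, Conjs ι P f₁ h := by
  obtain ⟨hEs, hF, hEi⟩ := id hE
  haveI := finite_of_le hEi.2.1.1
  haveI : Finite ↥(normalizerIn S R) := finite_normalizerIn
  haveI : Finite ↥(normalizerIn T R) := finite_normalizerIn
  haveI : Finite ↥(normalizerIn (normalizerIn S R) (R ⊔ centralizerIn S R)) := finite_normalizerIn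
  have hw := localSub_weaklyNormal hS hE hR hRc
  have hVp : IsPGroup p ↥(normalizerIn T R) := hS.to_le (inf_le_left.trans hEi.2.1.1)
  have hres := isPPrimeResidual_primeRes hVp hw.1
  have hD := primeResidual_isNormalIn (show IsPGroup p ↥(normalizerIn (normalizerIn S R) (R ⊔ centralizerIn S R)) from hS.to_le (inf_le_left.trans inf_le_left)) hw hres
  obtain ⟨G, hG, ι, H, hL, hDH⟩ := exists_localModel hS hE hR hRc hD primeRes_le
  refine ⟨G, hG, ι, H, hL, fun P f hP hRP hf hfR => ?_⟩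
  have hfN : Map (normSys E hRc.1) P f := (map_normalizerSystem_iff fun _ => rfl).2
    ⟨hP, fun x hx => by
      have h1 := hf.mem_normalizer hRP hx (hP hx).2
      rwa [hfR] at h1, f, hf.restrict (sup_le le_rfl hRP), fun _ _ => rfl, hfR⟩
  have toE : ∀ {Q g}, Map (normSys E hRc.1) Q g → Map E Q g := fun {Q g} h => by
    obtain ⟨-, -, k, hk, hkg, -⟩ := (map_normalizerSystem_iff fun _ => rfl).1 h
    exact (hk.restrict le_sup_left).congr hkg
  obtain ⟨α, hα, f₁, hf₁, he⟩ := fac_of_map hVp hw.1 centClosed_primeRes.1 hfN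
  have hf₁m : Map (primeRes (normSys E hRc.1) p) P f₁ := hf₁.map
  have hf₁N := map_of_le primeRes_le hf₁m
  exact ⟨av α, f₁, toE (map_of_mem_autGroup le_rfl hα), toE hf₁N,
    fun x hx => ⟨hf₁N.mem hx, he x hx⟩, hDH P f₁ hf₁m⟩

/-- For `R` normal in `T` the part of `E` at `R` is itself normal in the local system. -/
theorem localSub_normal (hS : IsPGroup p S) (hE : E.IsNormalIn F p) (hR : F.IsFullyNormalized R)
    (hRc : E.IsCentric R) (hVT : normalizerIn T R = T) (hC : centEOf E F ≤ T) :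
    (normSys E hRc.1).IsNormalIn (localSys F hR.1) p := by
  obtain ⟨⟨hEs, hF, hEi⟩, hext⟩ := id hE
  have hT := hEi.2.1
  haveI := finite_of_le hT.1
  haveI : Finite ↥(normalizerIn S R) := finite_normalizerIn
  haveI : Finite ↥(normalizerIn (normalizerIn S R) (R ⊔ centralizerIn S R)) := finite_normalizerIn
  refine ⟨localSub_weaklyNormal hS hE.1 hR hRc, fun α hα => ?_⟩
  have hS7 := normalizerIn_hat S hR.1
  have hRV : R ≤ normalizerIn T R := le_normalizerIn hRc.1
  obtain ⟨-, -, f, hf, hfα, hfR⟩ := (map_normalizerSystem_iff fun _ => rfl).1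
    (map_of_mem_autGroup (F := normSys E hRc.1) le_rfl hα)
  have hfV : Map E (normalizerIn T R) f := hf.restrict le_sup_left
  have hfT : Map E T f := hfV.restrict hVT.ge
  obtain ⟨α', hα', hαf⟩ := exists_aut hfT (Subgroup.eq_of_le_of_card_ge hfT.im_le hfT.card_im.ge)
  obtain ⟨β, hβ, hβT, hβs⟩ := hext α' hα'
  have hL : T ⊔ centralizerIn S T ≤ S := sup_le hT.1 inf_le_left
  have hβm := map_of_mem_autGroup hL hβ
  have hβm' := map_of_mem_autGroup hL ((F.autGroup _).inv_mem hβ)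
  have hβf : ∀ x ∈ T, av β x = f x := fun x hx => by
    rw [← hαf x hx, av_apply β (Subgroup.mem_sup_left hx), av_apply α' hx]
    exact hβT ⟨x, hx⟩
  obtain ⟨g, hg, hgf, hgR, hgH⟩ := exists_extend_hat hS hF hR hT (centric_inter hT.1 hRc) hRV le_rfl
    (hfV.of_sub hEi.1) hfR
  have hgT : ∀ x ∈ T, g x = f x := fun x hx => hgf x (hVT.ge hx)
  have hTD : T ≤ normalizerIn T R ⊔ (R ⊔ centralizerIn S R) := hVT.ge.trans le_sup_left
  have hCD : centralizerIn S T ≤ normalizerIn T R ⊔ (R ⊔ centralizerIn S R) :=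
    fun c hc => Subgroup.mem_sup_right (Subgroup.mem_sup_right (mem_centralizerIn.2
      ⟨hc.1, fun r hr => (mem_centralizerIn.1 hc).2 r (hRc.1 hr)⟩))
  have hgTT : im T g = T := by
    haveI := finite_of_le hT.1
    exact Subgroup.eq_of_le_of_card_ge
      (im_le_iff.2 fun x hx => hgT x hx ▸ hfT.mem hx) (hg.restrict hTD).card_im.ge
  have hgC : ∀ c ∈ centralizerIn S T, g c ∈ centralizerIn S T := fun c hc => by
    have h := hg.mem_centralizer hTD (hCD hc) (mem_centralizerIn.1 hc).2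
    rwa [hgTT] at h
  have hshift : ∀ c ∈ centralizerIn S T, c⁻¹ * g c ∈ T ⊓ Subgroup.centralizer (T : Set Ω) := by
    intro c hc
    have hcen : c⁻¹ * g c ∈ centralizerIn S T := Subgroup.mul_mem _ (Subgroup.inv_mem _ hc) (hgC c hc)
    refine ⟨?_, hcen.2⟩
    have hk : Map F (T ⊔ Subgroup.zpowers c) (av β⁻¹ ∘ g) :=
      (hg.restrict (sup_le hTD (Subgroup.zpowers_le.2 (hCD hc)))).comp hβm' fun x hx => by
        refine ((hg.restrict (sup_le hTD (Subgroup.zpowers_le.2 (hCD hc)))).im_sup_le.trans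
          (sup_le (hgTT.le.trans le_sup_left) ((im_le_iff.2 fun z hz =>
            hgC z (Subgroup.zpowers_le.2 hc hz)).trans le_sup_right))) (mem_im_of_mem hx)
    have hkT : ∀ t ∈ T, (av β⁻¹ ∘ g) t = t := fun t ht => by
      show av β⁻¹ (g t) = t
      rw [hgT t ht, ← hβf t ht, av_inv_av β (Subgroup.mem_sup_left ht)]
    have hv : c⁻¹ * (av β⁻¹ ∘ g) c ∈ T := hC ((focal_centE hS hE (V := {c⁻¹ * (av β⁻¹ ∘ g) c}) fun v hv =>
      ⟨c, _, hc, hk, hkT, hv⟩).le_centEOf (Subgroup.subset_closure rfl))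
    obtain ⟨v, hvdef⟩ : ∃ v, v = c⁻¹ * (av β⁻¹ ∘ g) c := ⟨_, rfl⟩
    rw [← hvdef] at hv
    have hgc : g c = av β c * f v := by
      rw [← hβf v hv, ← hβm.map_mul (Subgroup.mem_sup_right hc) (Subgroup.mem_sup_left hv), hvdef,
        mul_inv_cancel_left]
      show g c = av β (av β⁻¹ (g c))
      rw [av_av_inv β (Subgroup.mem_sup_right (hgC c hc))]
    have h1 : c⁻¹ * av β c ∈ T := by
      rw [av_apply β (Subgroup.mem_sup_right hc)]
      exact (hβs ⟨c, Subgroup.mem_sup_right hc⟩ hc).1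
    rw [hgc, ← mul_assoc]
    exact T.mul_mem h1 (hfT.mem hv)
  set W := normalizerIn T R ⊔ centralizerIn (normalizerIn (normalizerIn S R) (R ⊔ centralizerIn S R)) (normalizerIn T R)
  have hWC : ∀ c ∈ centralizerIn (normalizerIn (normalizerIn S R) (R ⊔ centralizerIn S R)) (normalizerIn T R),
      c ∈ centralizerIn S T := fun c hc => mem_centralizerIn.2
    ⟨(hS7.le (mem_centralizerIn.1 hc).1).1, fun t ht => (mem_centralizerIn.1 hc).2 t (hVT.ge ht)⟩
  have hCW : ∀ c ∈ centralizerIn S T,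
      c ∈ centralizerIn (normalizerIn (normalizerIn S R) (R ⊔ centralizerIn S R)) (normalizerIn T R) := fun c hc =>
    mem_centralizerIn.2 ⟨hS7.ge (centralizerIn_le_normalizerIn (mem_centralizerIn.2
      ⟨hc.1, fun r hr => (mem_centralizerIn.1 hc).2 r (hRc.1 hr)⟩)), fun t ht => (mem_centralizerIn.1 hc).2 t ht.1⟩
  have hWD : W ≤ normalizerIn T R ⊔ (R ⊔ centralizerIn S R) := sup_le le_sup_left fun c hc => hCD (hWC c hc)
  have hWN : W ≤ normalizerIn S R := sup_le (inf_le_inf_right _ hT.1) fun c hc =>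
    hS7.le (mem_centralizerIn.1 hc).1
  have hgW' : ∀ x ∈ W, g x ∈ W := fun x hx => by
    refine ((hg.restrict hWD).im_sup_le.trans (sup_le_sup (im_le_iff.2 fun y hy => ?_)
      (im_le_iff.2 fun c hc => hCW _ (hgC c (hWC c hc))))) (mem_im_of_mem hx)
    rw [hgf y hy]
    exact hVT.ge (hfT.mem (hVT.le hy))
  have hgm : Map (localSys F hR.1) W g := map_localSys.2 ⟨hWN, fun x hx => hWN (hgW' x hx), g,
    hg.restrict (sup_le hWD le_sup_right), fun _ _ => rfl, hgR, hgH⟩
  haveI := finite_of_le (hWN.trans inf_le_left)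
  obtain ⟨b, hb, hbg⟩ := exists_aut hgm (Subgroup.eq_of_le_of_card_ge (im_le_iff.2 hgW') hgm.card_im.ge)
  refine ⟨b, hb, fun x => ?_, fun c hc => ?_⟩
  · rw [← av_apply b (Subgroup.inclusion le_sup_left x).2, ← av_apply α x.2]
    show av b (x : Ω) = av α (x : Ω)
    rw [hbg _ (Subgroup.mem_sup_left x.2), hgf _ x.2, hfα _ x.2]
  · rw [← av_apply b c.2]
    show (c : Ω)⁻¹ * av b (c : Ω) ∈ _
    rw [hbg _ c.2]
    obtain ⟨h1, h2⟩ := hshift c (hWC c hc)
    exact ⟨hVT.ge h1, Subgroup.mem_centralizer_iff.2 fun t ht =>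
      Subgroup.mem_centralizer_iff.1 h2 t (hVT.le ht)⟩

/-- A local model in which `H` realises every map of `E` stabilising `R`, for `R` normal in `T`. -/
theorem exists_localModel_base (hS : IsPGroup p S) (hE : E.IsNormalIn F p) (hR : F.IsFullyNormalized R)
    (hRc : E.IsCentric R) (hVT : normalizerIn T R = T) (hC : centEOf E F ≤ T) :
    ∃ (G : Type u) (_ : Group G) (ι : ↥(normalizerIn S R) →* G) (H : Subgroup G), LocalModel F E p R G ι H ∧
      ∀ P f, P ≤ normalizerIn T R → R ≤ P → Map E P f → im R f = R → ∃ h ∈ H, Conjs ι P f h := by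
  obtain ⟨G, hG, ι, H, hL, hDH⟩ :=
    exists_localModel hS hE.1 hR hRc (localSub_normal hS hE hR hRc hVT hC) fun _ => subset_rfl
  refine ⟨G, hG, ι, H, hL, fun P f hP hRP hf hfR => hDH P f ((map_normalizerSystem_iff fun _ => rfl).2
    ⟨hP, fun x hx => ?_, f, hf.restrict (sup_le le_rfl hRP), fun _ _ => rfl, hfR⟩)⟩
  have h1 := hf.mem_normalizer hRP hx (hP hx).2
  rwa [hfR] at h1

end Cfsg.Agent.Local.FS
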