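import Cfsg.Agent.Lib.Local.FS.LocalCenter

/-!
A central subgroup invariant in the normalizer system of a functor value is weakly closed, if this holds
in the models.
-/

set_option autoImplicit false

namespace Cfsg.Agent.Local.FS

open Cfsg Cfsg.FusionSystem Cfsg.Agent.Fusion

universe u

variable {Ω : Type u} [Group Ω] {S : Subgroup Ω} {F : FusionSystem S} {p : ℕ}
  {W : ∀ (Q : Type u) [Group Q], Subgroup Q}

/-- Maps which extend mapping `T` into itself. -/
def KeepClass (F : FusionSystem S) (T P : Subgroup Ω) (f : Ω → Ω) : Prop :=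
  ∃ g, Map F (P ⊔ T) g ∧ (∀ y ∈ P, g y = f y) ∧ ∀ y ∈ T, g y ∈ T

theorem KeepClass.keep {T P : Subgroup Ω} {f : Ω → Ω} (h : KeepClass F T P f) (hTP : T ≤ P) :
    ∀ y ∈ T, f y ∈ T := by
  obtain ⟨g, -, hgf, hgT⟩ := h
  exact fun y hy => hgf y (hTP hy) ▸ hgT y hy

variable [Finite S]

theorem im_eq_of_keep {T : Subgroup Ω} {g : Ω → Ω} (hg : Map F T g) (h : ∀ y ∈ T, g y ∈ T) : im T g = T := by
  haveI := finite_of_le hg.le
  exact Subgroup.eq_of_le_of_card_ge (im_le_iff.2 h) hg.card_im.ge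

theorem exists_of_keep {T : Subgroup Ω} {g : Ω → Ω} (hg : Map F T g) (h : ∀ y ∈ T, g y ∈ T) :
    ∀ y ∈ T, ∃ z ∈ T, g z = y := fun y hy => hg.mem_im.1 ((im_eq_of_keep hg h).ge hy)

theorem isClosedClass_keepClass {T : Subgroup Ω} : IsClosedClass F (KeepClass F T) := by
  refine ⟨fun ⟨g, hg, hgf, hgT⟩ he => ⟨g, hg, fun y hy => (hgf y hy).trans (he y hy), hgT⟩,
    fun _ ⟨g, hg, hgf, hgT⟩ hR => ⟨g, hg.restrict (sup_le_sup_right hR _), fun y hy => hgf y (hR hy), hgT⟩, ?_, ?_⟩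
  · rintro P Q f f' - - ⟨g, hg, hgf, hgT⟩ ⟨g', hg', hgf', hgT'⟩ hm
    have hmem : ∀ y ∈ P ⊔ T, g y ∈ Q ⊔ T := fun y hy =>
      (hg.im_sup_le.trans (sup_le
        ((im_le_iff.2 fun z hz => by rw [hgf z hz]; exact hm z hz : im P g ≤ Q).trans le_sup_left)
        ((im_le_iff.2 hgT).trans le_sup_right))) (mem_im_of_mem hy)
    refine ⟨g' ∘ g, hg.comp hg' hmem, fun y hy => ?_, fun y hy => hgT' _ (hgT y hy)⟩
    show g' (g y) = f' (f y)
    rw [hgf y hy, hgf' _ (hm y hy)]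
  · rintro P f f' hf ⟨g, hg, hgf, hgT⟩ hinv
    obtain ⟨g', hg', hgg, -, -⟩ := hg.exists_inv
    have hgT₁ := hg.restrict (le_sup_right : T ≤ P ⊔ T)
    have hle : im P f ⊔ T ≤ im (P ⊔ T) g := sup_le
      ((im_congr hgf).symm.le.trans (im_mono le_sup_left))
      ((im_eq_of_keep hgT₁ hgT).symm.le.trans (im_mono le_sup_right))
    refine ⟨g', hg'.restrict hle, fun y hy => ?_, fun y hy => ?_⟩
    · obtain ⟨z, hz, rfl⟩ := hf.mem_im.1 hy
      rw [hinv z hz, ← hgf z hz, hgg z (Subgroup.mem_sup_left hz)]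
    · obtain ⟨z, hz, rfl⟩ := exists_of_keep hgT₁ hgT y hy
      rwa [hgg z (Subgroup.mem_sup_right hz)]

theorem weaklyClosed_of_keepClass {T : Subgroup Ω} (hTS : T ≤ S) (h : ∀ P f, Map F P f → KeepClass F T P f) :
    F.WeaklyClosed T := by
  refine ⟨hTS, fun φ hφ => ?_⟩
  have hm := map_of_mem hφ
  rw [← hm.im_eq_range (φ := φ) fun y => (fn_coe φ y).symm]
  exact im_eq_of_keep hm ((h _ _ hm).keep le_rfl)

variable [Fact p.Prime]

set_option maxHeartbeats 1000000 in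
/-- **Weak closure of central subgroups is local**. -/
theorem weaklyClosed_of_local (hS : IsPGroup p S) (hF : F.IsSaturated p)
    (hW2 : ∀ (Q R : Type u) [Group Q] [Group R] [Finite Q], IsPGroup p Q → ∀ φ : Q ≃* R,
      (W Q).map φ.toMonoidHom = W R)
    (hWZ : ∀ (Q : Type u) [Group Q] [Finite Q], IsPGroup p Q → Subgroup.center Q ≤ W Q)
    {T : Subgroup Ω} (hTS : T ≤ S) (hTc : ∀ x ∈ T, ∀ s ∈ S, s * x = x * s)
    (hfix : ∀ f, Map F (inducedFunctor W S) f → im (inducedFunctor W S) f = inducedFunctor W S →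
      ∀ y ∈ T, f y ∈ T)
    (hL : ∀ (R : Subgroup Ω) (hR : F.IsFullyNormalized R), F.IsCentric R →
      ∀ (L : Type u) [Group L] (ι : ↥(normalizerIn S R) →* L), (normSys F hR.1).IsModel p L ι →
      ∀ (P : Sylow p L), (P : Subgroup L) = ι.range → T ≤ normalizerIn S R →
      (∀ g ∈ Subgroup.normalizer (inducedFunctor W (P : Subgroup L) : Set L),
        ∀ y : ↥(normalizerIn S R), (y : Ω) ∈ T → ∃ z : ↥(normalizerIn S R), (z : Ω) ∈ T ∧ g * ι y * g⁻¹ = ι z) →
      ∀ g : L, ∀ y : ↥(normalizerIn S R), (y : Ω) ∈ T →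
        ∃ z : ↥(normalizerIn S R), (z : Ω) ∈ T ∧ g * ι y * g⁻¹ = ι z) :
    F.WeaklyClosed T := by
  have hTW : ∀ V : Subgroup Ω, V ≤ S → T ≤ V → T ≤ inducedFunctor W V := fun V hVS hTV x hx => by
    haveI := finite_of_le hVS
    exact ⟨⟨x, hTV hx⟩, hWZ V (hS.to_le hVS) (Subgroup.mem_center_iff.2 fun v =>
      Subtype.ext (hTc x hx v (hVS v.2))), rfl⟩
  have hTin : ∀ X, F.IsCentric X → T ≤ X := fun X hX x hx =>
    centric_inv_mem hX (hTS hx) fun y hy => hTc x hx y (hX.1 hy)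
  have hK := isClosedClass_keepClass (F := F) (T := T)
  have hKi : ∀ (X : Subgroup Ω) f, Map F X f → T ≤ X → (∀ y ∈ T, f y ∈ T) → KeepClass F T X f :=
    fun X f hf hTX h => ⟨f, by rwa [sup_eq_left.2 hTX], fun _ _ => rfl, h⟩
  have hSfix : ∀ α ∈ F.autGroup S, ∀ y ∈ T, av α y ∈ T := fun α hα => by
    have hm := map_of_mem_autGroup le_rfl hα
    exact hfix _ (hm.restrict (Subgroup.map_subtype_le _)) (im_functor hS hW2 hm (im_av α))
  suffices key : ∀ (n : ℕ) (R : Subgroup Ω) (hR : F.IsFullyNormalized R), F.IsCentric R →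
      Nat.card S - Nat.card ↥(normalizerIn S R) = n → ∀ α ∈ F.autGroup R, ∀ y ∈ T, av α y ∈ T by
    refine weaklyClosed_of_keepClass hTS (alperin hS hF hK fun R hR α hα => ?_)
    rcases hR with rfl | hR
    · exact hKi _ _ (map_of_mem_autGroup le_rfl hα) hTS (hSfix α hα)
    · exact hKi _ _ (map_of_mem_autGroup hR.2.1.1 hα) (hTin R hR.1) (key _ R hR.2.1 hR.1 rfl α hα)
  intro n
  induction n using Nat.strong_induction_on with
  | _ n ih =>
  intro R hR hRc hn α hα x hx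
  have hTR := hTin R hRc
  have hTV : T ≤ normalizerIn S R := hTR.trans (le_normalizerIn hR.1)
  set V := normalizerIn S R with hV
  have hVS : V ≤ S := inf_le_left
  have hVp : IsPGroup p V := hS.to_le hVS
  obtain ⟨L, _, ι, hm⟩ := exists_model_fn hS hF hR hRc
  haveI := hm.1
  obtain ⟨P, hP⟩ := hm.2.2.1
  set U := inducedFunctor W V with hU
  have hUV : U ≤ V := Subgroup.map_subtype_le _
  have hUS : U ≤ S := hUV.trans hVS
  have hTU : T ≤ U := hTW V hVS hTV
  have himg : inducedFunctor W (P : Subgroup L) = (U.subgroupOf V).map ι := by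
    rw [hP]; exact inducedFunctor_range hW2 hVp hm.2.1.1
  have hloc : ∀ g ∈ Subgroup.normalizer (inducedFunctor W (P : Subgroup L) : Set L),
      ∀ y : V, (y : Ω) ∈ T → ∃ z : V, (z : Ω) ∈ T ∧ g * ι y * g⁻¹ = ι z := by
    intro g hg
    rw [himg] at hg
    obtain ⟨f, hf, hfg⟩ := exists_map_of_conj hm.2.1 hUV g fun u hu => Subgroup.map_le_range ι _
      (conj_mem_of_normalizer hg (Subgroup.mem_map_of_mem ι (Subgroup.mem_subgroupOf.2 hu)))
    obtain ⟨-, -, g₀, hg₀, hg₀f, -⟩ := (map_normalizerSystem_iff fun _ => rfl).1 hf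
    have hfF : Map F U f := (hg₀.restrict le_sup_left).congr hg₀f
    haveI := finite_of_le hUS
    have hfU : im U f = U := Subgroup.eq_of_le_of_card_ge (im_le_iff.2 fun u hu => by
      obtain ⟨y, hy, he⟩ := conj_mem_of_normalizer hg
        (Subgroup.mem_map_of_mem ι (show (⟨u, hUV hu⟩ : V) ∈ U.subgroupOf V from hu))
      rw [hfg ⟨u, hUV hu⟩ hu y he]
      exact hy) hfF.card_im.ge
    suffices hfT : ∀ y ∈ T, f y ∈ T by
      intro y hy
      obtain ⟨z, -, he⟩ := conj_mem_of_normalizer hg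
        (Subgroup.mem_map_of_mem ι (show y ∈ U.subgroupOf V from hTU hy))
      exact ⟨z, hfg y (hTU hy) z he ▸ hfT y hy, he.symm⟩
    rcases eq_or_lt_of_le hVS with hVS' | hVS'
    · have hUW : U = inducedFunctor W S := by rw [hU, hVS']
      exact hfix f (hUW ▸ hfF) (hUW ▸ hfU)
    have hlt : Nat.card V < Nat.card ↥(normalizerIn S U) := card_lt_of_lt
      ((lt_normalizerIn hS hVS').trans_le (normalizer_le_functor hS hW2 hVS)) inf_le_left
    -- maps with large domain keep `T`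
    have hbig : ∀ A φ, Map F A φ → Nat.card V < Nat.card A → KeepClass F T A φ := by
      intro A φ hφ
      refine alperin hS hF (K := fun A φ => Nat.card V < Nat.card A → KeepClass F T A φ) ?_ ?_ A φ hφ
      · refine ⟨fun h he hc => hK.congr (h hc) he, ?_, ?_, ?_⟩
        · intro X X' f hf h hX hc
          haveI := finite_of_le hf.le
          exact hK.restrict hf (h (hc.trans_le (Subgroup.card_le_of_le hX))) hX
        · intro X X' f g hf hg h h' hm' hc
          haveI := finite_of_le hg.le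
          exact hK.comp hf hg (h hc) (h' (hc.trans_le (hf.card_le hm'))) hm'
        · intro X f g hf h hg hc
          exact hK.inv hf (h (hf.card_im ▸ hc)) hg
      · intro X hX β hβ hc
        rcases hX with rfl | hX
        · exact hKi _ _ (map_of_mem_autGroup le_rfl hβ) hTS (hSfix β hβ)
        have hXS := hX.2.1.1
        have h1 : Nat.card X ≤ Nat.card ↥(normalizerIn S X) := Subgroup.card_le_of_le (le_normalizerIn hXS)
        have h2 : Nat.card ↥(normalizerIn S X) ≤ Nat.card S := Subgroup.card_le_of_le inf_le_left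
        exact hKi _ _ (map_of_mem_autGroup hXS hβ) (hTin X hX.1) (ih _ (by omega) X hX.2.1 hX.1 rfl β hβ)
    -- transport to a fully normalized conjugate
    obtain ⟨U', hconj, hU'⟩ := exists_fullyNormalized (F := F) hUS
    obtain ⟨ψ, hψ, hψm, hψU⟩ := exists_map_normalizer_fn hS hF hU' hconj
    have hTNU : T ≤ normalizerIn S U := hTU.trans (le_normalizerIn hUS)
    have hψT := (hbig _ ψ hψ hlt).keep hTNU
    have hψsurj := exists_of_keep (hψ.restrict hTNU) hψT
    have hψU' := hψ.restrict (le_normalizerIn hUS)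
    obtain ⟨ψi, hψi, hψψ, hψi2, hψii⟩ := hψU'.exists_inv
    rw [hψU] at hψi hψi2 hψii
    have hβ : Map F U' (ψ ∘ f ∘ ψi) := (hψi.comp hfF fun y hy => (hψi2 y hy).2).comp hψU' fun y hy =>
      hfU.le (mem_im_of_mem (hψi2 y hy).2)
    have hU'S := hU'.1
    haveI := finite_of_le hU'S
    have hβi : im U' (ψ ∘ f ∘ ψi) = U' := Subgroup.eq_of_le_of_card_ge (im_le_iff.2 fun y hy =>
      hψU.le (mem_im_of_mem (hfU.le (mem_im_of_mem (hψi2 y hy).2)))) hβ.card_im.ge
    have hU'fc := (fc_fa_of_fn hS hF hU').1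
    obtain ⟨γ, hγ, hγβ⟩ := (receptive_iff.1 (receptive_of_fc hS hF hU'fc)).2 U' _ hβ hβi
    have hγ' := hγ.restrict (sup_le (le_Nf hβ) centralizerIn_le_Nf)
    set U₂ := U' ⊔ centralizerIn S U'
    have hU₂S : U₂ ≤ S := sup_le hU'S inf_le_left
    haveI := finite_of_le hU₂S
    have hγU₂ : im U₂ γ = U₂ := Subgroup.eq_of_le_of_card_ge (hγ'.im_sup_le.trans (sup_le
      (((im_congr hγβ).trans hβi).le.trans le_sup_left) ((im_le_iff.2 fun y hy => by
        have h1 := hγ'.mem_centralizer (le_sup_left : U' ≤ U₂) (Subgroup.mem_sup_right hy) (mem_centralizerIn.1 hy).2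
        rwa [(im_congr hγβ).trans hβi] at h1).trans le_sup_right))) hγ'.card_im.ge
    have hU₂c : F.IsCentric U₂ := isCentric_sup_centralizer hU'fc
    have hTU₂ : T ≤ U₂ := hTin U₂ hU₂c
    obtain ⟨U₃, hconj₃, hU₃⟩ := exists_fullyNormalized (F := F) hU₂S
    have hN : normalizerIn S U' ≤ normalizerIn S U₂ := fun s hs => by
      refine ⟨hs.1, mem_normalizer_of_conj_mem hU₂S fun y hy => ?_⟩
      have hle : U₂ ≤ U₂.comap (MulAut.conj s).toMonoidHom := sup_le
        (fun u hu => Subgroup.mem_sup_left (conj_mem_of_normalizer hs.2 hu))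
        (fun c hc => Subgroup.mem_sup_right (mem_centralizerIn.2 ⟨S.mul_mem (S.mul_mem hs.1 hc.1) (S.inv_mem hs.1),
          fun u hu => by
            have h1 : s⁻¹ * u * s ∈ U' := by
              have := conj_mem_of_normalizer (inv_mem hs.2) hu
              rwa [inv_inv] at this
            show u * (s * c * s⁻¹) = s * c * s⁻¹ * u
            calc u * (s * c * s⁻¹) = s * ((s⁻¹ * u * s) * c) * s⁻¹ := by group
              _ = s * (c * (s⁻¹ * u * s)) * s⁻¹ := by rw [(mem_centralizerIn.1 hc).2 _ h1]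
              _ = s * c * s⁻¹ * u := by group⟩))
      exact hle hy
    obtain ⟨ψ₂, hψ₂, -, hψ₂U⟩ := exists_map_normalizer_fn hS hF hU₃ hconj₃
    have hcard : Nat.card V < Nat.card ↥(normalizerIn S U₂) :=
      hlt.trans_le ((hU'.2 _ (isConj_symm hconj)).trans (Subgroup.card_le_of_le hN))
    have hTN₂ : T ≤ normalizerIn S U₂ := hTU₂.trans (le_normalizerIn hU₂S)
    have hψ₂T := (hbig _ ψ₂ hψ₂ hcard).keep hTN₂
    have hψ₂' := hψ₂.restrict (le_normalizerIn hU₂S)
    have hψ₂surj := exists_of_keep (hψ₂.restrict hTN₂) hψ₂T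
    obtain ⟨e, he⟩ := exists_equiv hψ₂' hψ₂U
    obtain ⟨δ, hδ, hδγ⟩ := exists_aut hγ' hγU₂
    have hU₃c : F.IsCentric U₃ := ⟨hU₃.1, fun Q hQ => hU₂c.2 Q (isConj_trans hconj₃ hQ)⟩
    have h3 : Nat.card ↥(normalizerIn S U₂) ≤ Nat.card ↥(normalizerIn S U₃) := hU₃.2 _ (isConj_symm hconj₃)
    have h4 : Nat.card ↥(normalizerIn S U₃) ≤ Nat.card S := Subgroup.card_le_of_le inf_le_left
    have hkeep3 := ih _ (by omega) U₃ hU₃ hU₃c rfl _ (congr_mem_autGroup hψ₂' hψ₂U he hδ)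
    have hγT : ∀ y ∈ T, γ y ∈ T := fun y hy => by
      have h5 := hkeep3 (ψ₂ y) (hψ₂T y hy)
      rw [av_congr_apply he δ (hTU₂ hy), hδγ y (hTU₂ hy)] at h5
      obtain ⟨z, hz, hze⟩ := hψ₂surj _ h5
      rwa [← hψ₂'.injOn (hTU₂ hz) (hγU₂.le (mem_im_of_mem (hTU₂ hy))) hze]
    intro y hy
    have hyU := hTU hy
    have h6 : γ (ψ y) = ψ (f y) := by
      rw [hγβ _ (hψU.le (mem_im_of_mem hyU))]
      show ψ (f (ψi (ψ y))) = _
      rw [hψψ y hyU]
    obtain ⟨z, hz, hze⟩ := hψsurj _ (h6 ▸ hγT _ (hψT y hy))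
    rwa [← hψU'.injOn (hTU hz) (hfU.le (mem_im_of_mem hyU)) hze]
  have hglob := hL R hR hRc L ι hm P hP hTV hloc
  have hRV : R ≤ V := le_normalizerIn hR.1
  have hfN : Map (normSys F hR.1) R (av α) := (map_normalizerSystem_iff fun _ => rfl).2
    ⟨hRV, fun y hy => hRV (av_mem α hy), av α, by rw [sup_idem]; exact map_of_mem_autGroup hR.1 hα,
      fun _ _ => rfl, im_av α⟩
  obtain ⟨c, hc⟩ := exists_conj_of_map hm.2.1 hfN
  have h6 := hc ⟨x, hTV hx⟩ (hTR hx) ⟨av α x, hRV (av_mem α (hTR hx))⟩ rfl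
  obtain ⟨z, hz, hze⟩ := hglob c ⟨x, hTV hx⟩ hx
  rw [hze] at h6
  have h7 := congrArg Subtype.val (hm.2.1.1 h6)
  exact (show av α x = (z : Ω) from h7) ▸ hz

end Cfsg.Agent.Local.FS
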