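import Mathlib
import Cfsg.Prelude.Def_FusionSystem

/-!
Maps of a fusion system, handled as plain functions `Ω → Ω` known to agree on their source with a
map of the system.  This avoids all transports along equalities of subgroups.
-/

set_option autoImplicit false

namespace Cfsg.Agent.Local.FS

open Cfsg Cfsg.FusionSystem

variable {Ω : Type*} [Group Ω]

/-- Extension by `1` of a homomorphism defined on a subgroup. -/
noncomputable def fn {P : Subgroup Ω} (φ : P →* Ω) : Ω → Ω :=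
  Function.extend Subtype.val φ 1

theorem fn_coe {P : Subgroup Ω} (φ : P →* Ω) (x : P) : fn φ x = φ x :=
  Subtype.val_injective.extend_apply _ _ x

theorem fn_apply {P : Subgroup Ω} (φ : P →* Ω) {x : Ω} (hx : x ∈ P) : fn φ x = φ ⟨x, hx⟩ :=
  fn_coe φ ⟨x, hx⟩

variable {S : Subgroup Ω}

/-- `f` agrees on `P` with a map of `F` with source `P`. -/
def Map (F : FusionSystem S) (P : Subgroup Ω) (f : Ω → Ω) : Prop :=
  ∃ φ ∈ F.Hom P, ∀ x : P, φ x = f x

/-- The image of `P` under `f`. -/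
def im (P : Subgroup Ω) (f : Ω → Ω) : Subgroup Ω := Subgroup.closure (f '' P)

variable {F : FusionSystem S} {P Q R : Subgroup Ω} {f g : Ω → Ω}

theorem map_of_mem {φ : P →* Ω} (h : φ ∈ F.Hom P) : Map F P (fn φ) :=
  ⟨φ, h, fun x => (fn_coe φ x).symm⟩

theorem mem_iff_map {φ : P →* Ω} : φ ∈ F.Hom P ↔ Map F P (fn φ) := by
  refine ⟨map_of_mem, ?_⟩
  rintro ⟨ψ, hψ, h⟩
  rwa [show φ = ψ from MonoidHom.ext fun x => by rw [h, fn_coe]]

theorem Map.mem_hom (h : Map F P f) {φ : P →* Ω} (hφ : ∀ x : P, φ x = f x) : φ ∈ F.Hom P := by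
  obtain ⟨ψ, hψ, h⟩ := h
  rwa [show φ = ψ from MonoidHom.ext fun x => by rw [h, hφ]]

theorem Map.congr (h : Map F P f) (he : ∀ x ∈ P, f x = g x) : Map F P g :=
  let ⟨φ, hφ, h'⟩ := h; ⟨φ, hφ, fun x => (h' x).trans (he x x.2)⟩

theorem Map.le (h : Map F P f) : P ≤ S :=
  let ⟨_, hφ, _⟩ := h; (F.le_of_mem hφ).1

theorem Map.mem (h : Map F P f) {x : Ω} (hx : x ∈ P) : f x ∈ S := by
  obtain ⟨φ, hφ, h'⟩ := h
  rw [← h' ⟨x, hx⟩]; exact (F.le_of_mem hφ).2 _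

theorem Map.map_mul (h : Map F P f) {x y : Ω} (hx : x ∈ P) (hy : y ∈ P) :
    f (x * y) = f x * f y := by
  obtain ⟨φ, -, h'⟩ := h
  rw [← h' ⟨x, hx⟩, ← h' ⟨y, hy⟩, ← _root_.map_mul]
  exact (h' ⟨x * y, P.mul_mem hx hy⟩).symm

theorem Map.map_one (h : Map F P f) : f 1 = 1 := by
  obtain ⟨φ, -, h'⟩ := h
  exact (h' 1).symm.trans (_root_.map_one φ)

theorem Map.map_inv (h : Map F P f) {x : Ω} (hx : x ∈ P) : f x⁻¹ = (f x)⁻¹ := by
  obtain ⟨φ, -, h'⟩ := h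
  rw [← h' ⟨x, hx⟩, ← _root_.map_inv]
  exact (h' ⟨x⁻¹, P.inv_mem hx⟩).symm

theorem Map.map_conj (h : Map F P f) {x y : Ω} (hx : x ∈ P) (hy : y ∈ P) :
    f (x * y * x⁻¹) = f x * f y * (f x)⁻¹ := by
  rw [h.map_mul (P.mul_mem hx hy) (P.inv_mem hx), h.map_mul hx hy, h.map_inv hx]

theorem Map.injOn (h : Map F P f) : Set.InjOn f P := by
  obtain ⟨φ, hφ, h'⟩ := h
  intro x hx y hy he
  rw [← h' ⟨x, hx⟩, ← h' ⟨y, hy⟩] at he
  exact congrArg Subtype.val (F.injective_of_mem hφ he)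

theorem Map.im_eq_range (h : Map F P f) {φ : P →* Ω} (hφ : ∀ x : P, φ x = f x) :
    im P f = φ.range := by
  have : f '' P = (φ.range : Set Ω) := by
    ext y
    constructor
    · rintro ⟨x, hx, rfl⟩; exact ⟨⟨x, hx⟩, hφ _⟩
    · rintro ⟨x, rfl⟩; exact ⟨x, x.2, (hφ x).symm⟩
  rw [im, this, Subgroup.closure_eq]

theorem Map.mem_im (h : Map F P f) {y : Ω} : y ∈ im P f ↔ ∃ x ∈ P, f x = y := by
  obtain ⟨φ, hφ, h'⟩ := h
  rw [Map.im_eq_range ⟨φ, hφ, h'⟩ h', MonoidHom.mem_range]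
  exact ⟨fun ⟨x, hx⟩ => ⟨x, x.2, (h' x).symm.trans hx⟩,
    fun ⟨x, hx, hy⟩ => ⟨⟨x, hx⟩, (h' _).trans hy⟩⟩

theorem mem_im_of_mem {x : Ω} (hx : x ∈ P) : f x ∈ im P f :=
  Subgroup.subset_closure ⟨x, hx, rfl⟩

theorem im_le_iff : im P f ≤ Q ↔ ∀ x ∈ P, f x ∈ Q := by
  rw [im, Subgroup.closure_le, Set.image_subset_iff]; rfl

theorem Map.im_le (h : Map F P f) : im P f ≤ S := im_le_iff.2 fun _ hx => h.mem hx

theorem im_congr (he : ∀ x ∈ P, f x = g x) : im P f = im P g := by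
  rw [im, im, Set.image_congr he]

theorem im_mono (hRP : R ≤ P) : im R f ≤ im P f :=
  im_le_iff.2 fun _ hx => mem_im_of_mem (hRP hx)

theorem Map.im_eq (h : Map F P f) (h1 : ∀ x ∈ P, f x ∈ Q) (h2 : ∀ y ∈ Q, ∃ x ∈ P, f x = y) :
    im P f = Q :=
  le_antisymm (im_le_iff.2 h1) fun y hy => h.mem_im.2 (h2 y hy)

theorem Map.card_im (h : Map F P f) : Nat.card ↥(im P f) = Nat.card P := by
  obtain ⟨φ, hφ, h'⟩ := h
  rw [Map.im_eq_range ⟨φ, hφ, h'⟩ h']
  exact (Nat.card_congr (MonoidHom.ofInjective (F.injective_of_mem hφ)).toEquiv).symm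

theorem map_conjBy (hP : P ≤ S) {s : Ω} (hs : s ∈ S) : Map F P (fun x => s * x * s⁻¹) :=
  ⟨_, F.conj_mem hP hs, fun _ => rfl⟩

theorem map_id (hP : P ≤ S) : Map F P id :=
  (map_conjBy hP S.one_mem).congr fun x _ => by simp

theorem im_id : im P id = P := by rw [im, Set.image_id, Subgroup.closure_eq]

theorem Map.comp (h : Map F P f) (h' : Map F Q g) (hm : ∀ x ∈ P, f x ∈ Q) : Map F P (g ∘ f) := by
  obtain ⟨φ, hφ, hf⟩ := h
  obtain ⟨ψ, hψ, hg⟩ := h'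
  refine ⟨_, F.comp_mem hφ hψ (fun x => by rw [hf]; exact hm x x.2), fun x => ?_⟩
  simp only [MonoidHom.comp_apply, Function.comp_apply]
  rw [hg]
  exact congrArg g (hf x)

theorem Map.im_comp (h : Map F P f) : im P (g ∘ f) = im (im P f) g := by
  have : ((im P f : Subgroup Ω) : Set Ω) = f '' P := by
    ext y; rw [SetLike.mem_coe, h.mem_im]; rfl
  rw [im, im, this, Set.image_comp]

theorem Map.restrict (h : Map F P f) (hRP : R ≤ P) : Map F R f :=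
  ((map_id (hRP.trans h.le)).comp h fun _ hx => hRP hx)

theorem Map.exists_inv (h : Map F P f) :
    ∃ g, Map F (im P f) g ∧ (∀ x ∈ P, g (f x) = x) ∧ (∀ y ∈ im P f, f (g y) = y ∧ g y ∈ P) ∧
      im (im P f) g = P := by
  obtain ⟨φ, hφ, hf⟩ := h
  obtain ⟨ψ, hψ, hψ'⟩ := F.inv_mem hφ
  have hM : Map F P f := ⟨φ, hφ, hf⟩
  have heq := hM.im_eq_range hf
  have hg : Map F (im P f) (fn ψ) := by rw [heq]; exact map_of_mem hψ
  have h1 : ∀ x ∈ P, fn ψ (f x) = x := by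
    intro x hx
    rw [← hf ⟨x, hx⟩, fn_apply ψ ⟨_, rfl⟩]
    exact hψ' ⟨x, hx⟩
  have h2 : ∀ y ∈ im P f, f (fn ψ y) = y ∧ fn ψ y ∈ P := by
    intro y hy
    obtain ⟨x, hx, rfl⟩ := hM.mem_im.1 hy
    rw [h1 x hx]; exact ⟨rfl, hx⟩
  exact ⟨_, hg, h1, h2, hg.im_eq (fun y hy => (h2 y hy).2)
    fun x hx => ⟨f x, mem_im_of_mem hx, h1 x hx⟩⟩

theorem isConj_iff : F.IsConj P Q ↔ ∃ f, Map F P f ∧ im P f = Q := by
  constructor
  · rintro ⟨φ, hφ, rfl⟩
    exact ⟨_, map_of_mem hφ, (map_of_mem hφ).im_eq_range fun x => (fn_coe φ x).symm⟩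
  · rintro ⟨f, ⟨φ, hφ, hf⟩, rfl⟩
    exact ⟨φ, hφ, (Map.im_eq_range ⟨φ, hφ, hf⟩ hf).symm⟩

theorem isConj_refl (hP : P ≤ S) : F.IsConj P P := isConj_iff.2 ⟨id, map_id hP, im_id⟩

theorem isConj_symm (h : F.IsConj P Q) : F.IsConj Q P := by
  obtain ⟨f, hf, rfl⟩ := isConj_iff.1 h
  obtain ⟨g, hg, -, -, hi⟩ := hf.exists_inv
  exact isConj_iff.2 ⟨g, hg, hi⟩

theorem isConj_trans (h : F.IsConj P Q) (h' : F.IsConj Q R) : F.IsConj P R := by
  obtain ⟨f, hf, rfl⟩ := isConj_iff.1 h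
  obtain ⟨g, hg, rfl⟩ := isConj_iff.1 h'
  exact isConj_iff.2 ⟨g ∘ f, hf.comp hg fun _ hx => mem_im_of_mem hx, hf.im_comp⟩

theorem isConj_le (h : F.IsConj P Q) : P ≤ S ∧ Q ≤ S := by
  obtain ⟨f, hf, rfl⟩ := isConj_iff.1 h
  exact ⟨hf.le, hf.im_le⟩

theorem isConj_card (h : F.IsConj P Q) : Nat.card P = Nat.card Q := by
  obtain ⟨f, hf, rfl⟩ := isConj_iff.1 h
  exact hf.card_im.symm

/-! ### Centralisers and normalisers in `S` -/

theorem mem_centralizerIn {x : Ω} :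
    x ∈ centralizerIn S P ↔ x ∈ S ∧ ∀ y ∈ P, y * x = x * y :=
  Iff.rfl.trans (and_congr_right' Subgroup.mem_centralizer_iff)

theorem mem_normalizerIn {x : Ω} :
    x ∈ normalizerIn S P ↔ x ∈ S ∧ x ∈ Subgroup.normalizer (P : Set Ω) :=
  Iff.rfl

theorem centralizerIn_le_normalizerIn : centralizerIn S P ≤ normalizerIn S P :=
  inf_le_inf_left S (Subgroup.centralizer_le_normalizer _)

theorem le_normalizerIn (hP : P ≤ S) : P ≤ normalizerIn S P := le_inf hP Subgroup.le_normalizer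

theorem conj_mem_of_normalizer {x y : Ω} (hx : x ∈ Subgroup.normalizer (P : Set Ω)) (hy : y ∈ P) :
    x * y * x⁻¹ ∈ P := (Subgroup.mem_normalizer_iff.1 hx y).1 hy

/-- A map defined on elements normalising `P` sends them to normalisers of the image of `P`. -/
theorem Map.mem_normalizer (h : Map F Q f) (hPQ : P ≤ Q) {x : Ω} (hx : x ∈ Q)
    (hn : x ∈ Subgroup.normalizer (P : Set Ω)) : f x ∈ normalizerIn S (im P f) := by
  refine ⟨h.mem hx, Subgroup.mem_normalizer_iff.2 fun y => ⟨fun hy => ?_, fun hy => ?_⟩⟩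
  · obtain ⟨z, hz, rfl⟩ := (h.restrict hPQ).mem_im.1 hy
    rw [← h.map_conj hx (hPQ hz)]
    exact mem_im_of_mem (conj_mem_of_normalizer hn hz)
  · obtain ⟨z, hz, he⟩ := (h.restrict hPQ).mem_im.1 hy
    have hz' : x⁻¹ * z * x ∈ P := by
      simpa using conj_mem_of_normalizer (Subgroup.inv_mem _ hn) hz
    have : y = f (x⁻¹ * z * x) := by
      rw [show x⁻¹ * z * x = x⁻¹ * z * x⁻¹⁻¹ by group, h.map_conj (Q.inv_mem hx) (hPQ hz),
        h.map_inv hx, he]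
      group
    exact this ▸ mem_im_of_mem hz'

theorem Map.mem_centralizer (h : Map F Q f) (hPQ : P ≤ Q) {x : Ω} (hx : x ∈ Q)
    (hc : ∀ y ∈ P, y * x = x * y) : f x ∈ centralizerIn S (im P f) := by
  refine mem_centralizerIn.2 ⟨h.mem hx, fun y hy => ?_⟩
  obtain ⟨z, hz, rfl⟩ := (h.restrict hPQ).mem_im.1 hy
  rw [← h.map_mul (hPQ hz) hx, hc z hz, h.map_mul hx (hPQ hz)]

/-- Cardinality bound from an injective map of the system. -/
theorem Map.card_le (h : Map F P f) {T : Subgroup Ω} [Finite T] (hm : ∀ x ∈ P, f x ∈ T) :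
    Nat.card P ≤ Nat.card T :=
  h.card_im ▸ Subgroup.card_le_of_le (im_le_iff.2 hm)

theorem finite_of_le [Finite S] {T : Subgroup Ω} (h : T ≤ S) : Finite T :=
  Finite.of_injective (Subgroup.inclusion h) (Subgroup.inclusion_injective h)

instance finite_centralizerIn [Finite S] : Finite ↥(centralizerIn S P) := finite_of_le inf_le_left

instance finite_normalizerIn [Finite S] : Finite ↥(normalizerIn S P) := finite_of_le inf_le_left

/-- If all of `T` is reached, the map restricted to the preimage is onto. -/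
theorem Map.surj_of_card_le [Finite S] (h : Map F P f) {T : Subgroup Ω} (hTS : T ≤ S)
    (hm : ∀ x ∈ P, f x ∈ T) (hc : Nat.card T ≤ Nat.card P) : ∀ y ∈ T, ∃ x ∈ P, f x = y := by
  have := finite_of_le hTS
  have : im P f = T :=
    Subgroup.eq_of_le_of_card_ge (im_le_iff.2 hm) (by rw [h.card_im]; exact hc)
  exact fun y hy => h.mem_im.1 (this ▸ hy)

end Cfsg.Agent.Local.FS
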