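import Cfsg.Agent.Lib.Local.FS.SimpleGroupSystem
import Cfsg.Agent.Lib.Spor.GolayStabCount
import Cfsg.Agent.Lib.Fusion.KInf

/-!
Certificates for simplicity of two-fusion systems of permutation groups on twenty-four points.
-/

set_option autoImplicit false

namespace Cfsg.Agent.Local.FS.Mathieu

open Cfsg Cfsg.FusionSystem

/-- the numbers of the points -/
def pts : List ℕ := [0, 1, 2, 3, 4, 5, 6, 7, 8, 9, 10, 11, 12, 13, 14, 15, 16, 17, 18, 19, 20, 21, 22, 23]

/-- five-bit packing of an image list -/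
def pack (l : List ℕ) : ℕ := l.foldr (fun x r => x + 32 * r) 0

/-- an entry of a packed list -/
def nget (g i : ℕ) : ℕ := (g >>> (5 * i)) &&& 31

/-- composition of packed lists: first `q`, then `p` -/
def pmul (p q : ℕ) : ℕ := pts.foldr (fun i r => nget p (nget q i) + 32 * r) 0

/-- the packed identity -/
def idC : ℕ := pack pts

theorem nget_pack : ∀ (l : List ℕ), (∀ x ∈ l, x < 32) → ∀ i, nget (pack l) i = l.getD i 0
  | [], _, i => by simp [nget, pack]
  | x :: l, h, i => by
    have hx : x < 32 := h x List.mem_cons_self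
    have ih := nget_pack l fun y hy => h y (List.mem_cons_of_mem x hy)
    have hp : pack (x :: l) = x + 32 * pack l := rfl
    cases i with
    | zero =>
      rw [hp, nget, Nat.mul_zero, Nat.shiftRight_zero, Nat.and_two_pow_sub_one_eq_mod _ 5]
      simp
      omega
    | succ i =>
      rw [List.getD_cons_succ, ← ih i, hp, nget, nget, Nat.shiftRight_eq_div_pow, Nat.shiftRight_eq_div_pow,
        show 5 * (i + 1) = 5 + 5 * i by ring, pow_add, ← Nat.div_div_eq_div_mul]
      congr 2
      omega

open Cfsg.Agent.Spor in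
/-- image list of a permutation of the points -/
def lst (σ : Equiv.Perm GolayPt) : List ℕ := (List.range 24).map fun i => idx (σ (pt i))

/-- packed image list of a permutation of the points -/
def code (σ : Equiv.Perm GolayPt) : ℕ := pack (lst σ)

open Cfsg.Agent.Spor in
theorem nget_code (σ : Equiv.Perm GolayPt) {i : ℕ} (hi : i < 24) : nget (code σ) i = idx (σ (pt i)) := by
  rw [code, nget_pack _ (fun x hx => ?_)]
  · simp [lst, List.getD_eq_getElem?_getD, hi]
  · obtain ⟨j, -, rfl⟩ := List.mem_map.1 hx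
    exact (idx_lt _).trans (by norm_num)

open Cfsg.Agent.Spor in
theorem code_mul (σ τ : Equiv.Perm GolayPt) : code (σ * τ) = pmul (code σ) (code τ) := by
  have e : pts = List.range 24 := by decide +kernel
  rw [pmul, code, pack, lst, List.foldr_map, e]
  refine List.foldr_ext _ _ _ fun i hi r => ?_
  have hi : i < 24 := List.mem_range.1 hi
  rw [nget_code τ hi, nget_code σ (idx_lt _), pt_idx]
  rfl

open Cfsg.Agent.Spor in
theorem code_injective {σ τ : Equiv.Perm GolayPt} (h : code σ = code τ) : σ = τ := by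
  refine Equiv.ext fun p => idx_injective ?_
  have h1 := nget_code σ (idx_lt p)
  have h2 := nget_code τ (idx_lt p)
  rw [pt_idx] at h1 h2
  rw [← h1, h, h2]

/-- search tree of codes -/
inductive Tr where
  | leaf : Tr
  | node : Tr → ℕ → Tr → Tr

namespace Tr

def mem : Tr → ℕ → Bool
  | .leaf, _ => false
  | .node l x r, v => if v == x then true else if Nat.blt v x then l.mem v else r.mem v

def flat : Tr → List ℕ
  | .leaf => []
  | .node l x r => l.flat ++ x :: r.flat

theorem mem_flat : ∀ {t : Tr} {v : ℕ}, t.mem v = true → v ∈ t.flat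
  | .leaf, v, h => by simp [mem] at h
  | .node l x r, v, h => by
    simp only [mem] at h
    simp only [flat, List.mem_append, List.mem_cons]
    split at h
    · next hv => exact Or.inr (Or.inl (beq_iff_eq.1 hv))
    · split at h
      · exact Or.inl (mem_flat h)
      · exact Or.inr (Or.inr (mem_flat h))

end Tr

def merge : ℕ → List ℕ → List ℕ → List ℕ
  | 0, _, _ => []
  | _ + 1, [], m => m
  | _ + 1, l, [] => l
  | n + 1, a :: l, b :: m => if Nat.blt a b then a :: merge n l (b :: m) else b :: merge n (a :: l) m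

theorem merge_subset : ∀ (n : ℕ) (l m : List ℕ), ∀ x ∈ merge n l m, x ∈ l ∨ x ∈ m
  | 0, _, _, x, h => by simp [merge] at h
  | n + 1, [], m, x, h => by simp [merge] at h; exact Or.inr h
  | n + 1, a :: l, [], x, h => by simp [merge] at h ⊢; exact h
  | n + 1, a :: l, b :: m, x, h => by
    simp only [merge] at h
    split at h
    · rcases List.mem_cons.1 h with rfl | h
      · exact Or.inl List.mem_cons_self
      · rcases merge_subset n l (b :: m) x h with h | h
        · exact Or.inl (List.mem_cons_of_mem _ h)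
        · exact Or.inr h
    · rcases List.mem_cons.1 h with rfl | h
      · exact Or.inr List.mem_cons_self
      · rcases merge_subset n (a :: l) m x h with h | h
        · exact Or.inl h
        · exact Or.inr (List.mem_cons_of_mem _ h)

def mergePairs : List (List ℕ) → List (List ℕ)
  | a :: b :: l => merge (a.length + b.length + 1) a b :: mergePairs l
  | l => l

theorem mergePairs_subset : ∀ (l : List (List ℕ)), ∀ m ∈ mergePairs l, ∀ x ∈ m, ∃ k ∈ l, x ∈ k
  | a :: b :: l, m, hm, x, hx => by
    simp only [mergePairs, List.mem_cons] at hm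
    rcases hm with rfl | hm
    · rcases merge_subset _ _ _ x hx with h | h
      · exact ⟨a, by simp, h⟩
      · exact ⟨b, by simp, h⟩
    · obtain ⟨k, hk, h⟩ := mergePairs_subset l m hm x hx
      exact ⟨k, by simp [hk], h⟩
  | [a], m, hm, x, hx => ⟨m, hm, hx⟩
  | [], m, hm, x, hx => ⟨m, hm, hx⟩

def mergeAll : ℕ → List (List ℕ) → List ℕ
  | 0, l => l.flatten
  | n + 1, l => mergeAll n (mergePairs l)

theorem mergeAll_subset : ∀ (n : ℕ) (l : List (List ℕ)), ∀ x ∈ mergeAll n l, x ∈ l.flatten
  | 0, _, x, h => h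
  | n + 1, l, x, h => by
    obtain ⟨m, hm, hx⟩ := List.mem_flatten.1 (mergeAll_subset n (mergePairs l) x h)
    obtain ⟨k, hk, hxk⟩ := mergePairs_subset l m hm x hx
    exact List.mem_flatten.2 ⟨k, hk, hxk⟩

/-- strictly increasing -/
def sortedB : List ℕ → Bool
  | a :: b :: l => Nat.blt a b && sortedB (b :: l)
  | _ => true

theorem nodup_of_sortedB : ∀ {l : List ℕ}, sortedB l = true → l.Pairwise (· < ·)
  | [], _ => List.Pairwise.nil
  | [a], _ => List.pairwise_singleton _ _
  | a :: b :: l, h => by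
    simp only [sortedB, Bool.and_eq_true, Nat.blt_eq] at h
    have ih := nodup_of_sortedB h.2
    refine List.Pairwise.cons (fun c hc => ?_) ih
    rcases List.mem_cons.1 hc with rfl | hc
    · exact h.1
    · exact h.1.trans (List.rel_of_pairwise_cons ih hc)

/-- one breadth-first layer from the previous one -/
def layer (op : ℕ → ℕ → ℕ) (prev : List ℕ) (kids : List (List ℕ)) : List ℕ :=
  (prev.zip kids).flatMap fun p => p.2.map fun i => op i p.1

/-- all layers -/
def layers (op : ℕ → ℕ → ℕ) : List ℕ → List (List (List ℕ)) → List ℕ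
  | cur, [] => cur
  | cur, k :: ks => cur ++ layers op (layer op cur k) ks

theorem layers_all {op : ℕ → ℕ → ℕ} {P : ℕ → Prop} (hop : ∀ i x, P x → P (op i x)) :
    ∀ (ks : List (List (List ℕ))) (cur : List ℕ), (∀ x ∈ cur, P x) → ∀ x ∈ layers op cur ks, P x
  | [], cur, hc, x, hx => hc x hx
  | k :: ks, cur, hc, x, hx => by
    rcases List.mem_append.1 hx with hx | hx
    · exact hc x hx
    · refine layers_all hop ks _ (fun y hy => ?_) x hx
      obtain ⟨q, hq, hy⟩ := List.mem_flatMap.1 hy
      obtain ⟨i, -, rfl⟩ := List.mem_map.1 hy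
      exact hop i _ (hc _ (List.of_mem_zip hq).1)


/-- multiply by a listed element -/
def opMul (sl : List ℕ) (i : ℕ) (x : ℕ) : ℕ := pmul (sl.getD i idC) x

/-- conjugate by a listed element -/
def opConj (gl gli : List ℕ) (i : ℕ) (x : ℕ) : ℕ :=
  pmul (gl.getD i idC) (pmul x (gli.getD i idC))

/-- fusion steps: conjugation of an earlier element by a listed one, or a product of earlier elements -/
inductive Step where
  | cj (g i : ℕ) : Step
  | mu (i j : ℕ) : Step

def runStep (gl gli : List ℕ) (acc : List ℕ) : Step → ℕ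
  | .cj g i => opConj gl gli g (acc.getD i idC)
  | .mu i j => pmul (acc.getD i idC) (acc.getD j idC)

def runSteps (gl gli : List ℕ) (tr : Tr) : List ℕ → List Step → Option (List ℕ)
  | acc, [] => some acc
  | acc, s :: ss =>
    if tr.mem ((runStep gl gli acc s)) then runSteps gl gli tr (acc ++ [runStep gl gli acc s]) ss else none

/-- The data of a certificate. -/
structure Cert where
  N : ℕ
  k : ℕ
  gl : List ℕ
  gli : List ℕ
  sgen : List ℕ
  reps : List ℕ
  z : ℕ
  sKids : List (List (List ℕ))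
  tree : Tr
  cKids : List (List (List ℕ))
  cLen : ℕ
  steps : List Step
  target : List ℕ

namespace Cert

variable (c : Cert)

def g (i : ℕ) : ℕ := c.gl.getD i idC
def gi (i : ℕ) : ℕ := c.gli.getD i idC
def sl : List ℕ := c.sgen.map c.g
def sList : List ℕ := layers (opMul c.sl) [idC] c.sKids
def cList : List ℕ := mergeAll 15 ((layers (opConj c.gl c.gli) [c.g c.z] c.cKids).map fun x => [x])

def checkS : Bool :=
  (mergeAll 12 (c.sList.map fun x => [x]) == c.tree.flat) && sortedB c.tree.flat &&
    (c.tree.flat.all fun v => c.tree.mem v) && (c.tree.flat.length == 2 ^ c.k) && c.tree.mem (idC) &&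
    c.sList.all fun x => c.sl.all fun s => c.tree.mem ((pmul s x))

def checkCenter : Bool :=
  c.tree.mem ((c.g c.z)) && (c.sl.all fun s => pmul s (c.g c.z) == pmul (c.g c.z) s) &&
    !((c.g c.z) == idC) &&
    c.sList.all fun x => !(c.sl.all fun s => pmul s x == pmul x s) ||
      (x == idC || x == (c.g c.z))

def checkSize : Bool :=
  (c.cLen * (c.reps.length + 1) * 2 ^ c.k == c.N) && ((c.cLen * (c.reps.length + 1)) % 2 == 1)

def checkClass : Bool :=
  sortedB c.cList && (c.cList.length == c.cLen) && c.checkSize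

def checkReps : Bool :=
  (c.reps.all fun t => pmul (c.g t) (c.g c.z) == pmul (c.g c.z) (c.g t)) &&
    (c.reps.all fun t => !c.tree.mem ((c.g t)) && c.reps.all fun u => (t == u) || !c.tree.mem ((pmul (c.gi t) (c.g u)))) &&
    (c.reps.all fun t => c.sgen.any fun s => !c.tree.mem ((opConj c.gl c.gli t (c.g s)))) && decide c.reps.Nodup

def checkSteps : Bool :=
  match runSteps c.gl c.gli c.tree [c.g c.z] c.steps with
  | none => false
  | some acc => c.sgen.all fun s => acc.any fun x => x == c.g s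

end Cert

variable {G : Type*} [Group G] [Finite G]

set_option maxHeartbeats 2000000 in
/-- The simplicity criterion. -/
theorem simple_of_cert' (c : Cert) (L : G → ℕ) (hL : ∀ x y, L (x * y) = pmul (L x) (L y))
    (hL1 : L 1 = idC) (hinj : ∀ x y, (L x) = (L y) → x = y)
    (gs : ℕ → G) (hgs : ∀ i, L (gs i) = c.g i) (hgsi : ∀ i, L (gs i)⁻¹ = c.gi i)
    (hN : Nat.card G = c.N) (h1 : c.checkS = true) (h2 : c.checkCenter = true) (h3 : c.checkSize = true)
    (hclass : c.cLen ≤ Nat.card {y // _root_.IsConj (gs c.z) y})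
    (h4 : c.checkReps = true) (h5 : c.checkSteps = true) (S : Sylow 2 G) :
    (groupFusionSystem (S : Subgroup G)).IsSimple 2 := by
  classical
  simp only [Cert.checkS, Bool.and_eq_true, List.all_eq_true, beq_iff_eq] at h1
  obtain ⟨⟨⟨⟨⟨hflat, hsorted⟩, hall⟩, hlen⟩, hone⟩, hclosed⟩ := h1
  simp only [Cert.checkCenter, Bool.and_eq_true, List.all_eq_true, beq_iff_eq, Bool.or_eq_true,
    Bool.not_eq_eq_eq_not, Bool.not_true, beq_eq_false_iff_ne, ne_eq] at h2
  obtain ⟨⟨⟨hzS, hzc⟩, hz1⟩, hcent⟩ := h2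
  simp only [Cert.checkSize, Bool.and_eq_true, beq_iff_eq] at h3
  obtain ⟨hprod, hodd⟩ := h3
  simp only [Cert.checkReps, Bool.and_eq_true, List.all_eq_true, List.any_eq_true, beq_iff_eq, Bool.or_eq_true,
    Bool.not_eq_eq_eq_not, Bool.not_true, decide_eq_true_eq] at h4
  obtain ⟨⟨⟨htz, htS⟩, htn⟩, htnd⟩ := h4
  have hLinj : ∀ x y, L x = L y → x = y := hinj
  set R : Subgroup G := Subgroup.closure {x | ∃ s ∈ c.sgen, x = gs s} with hRdef
  have hsR : ∀ s ∈ c.sgen, gs s ∈ R := fun s hs => Subgroup.subset_closure ⟨s, hs, rfl⟩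
  have hslist : ∀ x ∈ c.sList, ∃ σ ∈ R, L σ = x := by
    refine layers_all (fun i x hx => ?_) c.sKids _ (fun x hx => ?_)
    · obtain ⟨σ, hσ, rfl⟩ := hx
      rcases lt_or_ge i c.sgen.length with hi | hi
      · refine ⟨gs c.sgen[i] * σ, mul_mem (hsR _ (List.getElem_mem _)) hσ, ?_⟩
        rw [hL, hgs, opMul, Cert.sl, List.getD_eq_getElem _ _ (by simpa using hi), List.getElem_map]
      · refine ⟨1 * σ, mul_mem (one_mem _) hσ, ?_⟩
        rw [hL, hL1, opMul, Cert.sl, List.getD_eq_default _ _ (by simpa using hi)]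
    · exact ⟨1, one_mem _, hL1.trans (List.mem_singleton.1 hx).symm⟩
  have hflatR : ∀ v ∈ c.tree.flat, ∃ x ∈ c.sList, v = x := by
    intro v hv
    rw [← hflat] at hv
    obtain ⟨k, hk, hvk⟩ := List.mem_flatten.1 (mergeAll_subset _ _ v hv)
    obtain ⟨x, hx, rfl⟩ := List.mem_map.1 hk
    exact ⟨x, hx, List.mem_singleton.1 hvk⟩
  have htree : ∀ σ, c.tree.mem ((L σ)) = true → σ ∈ R ∧ L σ ∈ c.sList := by
    intro σ h
    obtain ⟨x, hx, hvx⟩ := hflatR _ (Tr.mem_flat h)
    obtain ⟨τ, hτ, rfl⟩ := hslist x hx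
    obtain rfl := hinj _ _ hvx
    exact ⟨hτ, hx⟩
  have hRiff : ∀ σ, σ ∈ R ↔ c.tree.mem ((L σ)) = true := by
    refine fun σ => ⟨fun h => ?_, fun h => (htree σ h).1⟩
    rw [hRdef] at h
    refine (Subgroup.closure_induction'' (p := fun τ _ => ∀ ρ, c.tree.mem ((L ρ)) = true → c.tree.mem ((L (τ * ρ))) = true)
      ?_ ?_ ?_ ?_ h 1 (by rwa [hL1])) |> (fun e => by rwa [mul_one] at e)
    · rintro τ ⟨s, hs, rfl⟩ ρ hρ
      rw [hL, hgs]
      exact hclosed _ (htree ρ hρ).2 _ (List.mem_map.2 ⟨s, hs, rfl⟩)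
    · rintro τ ⟨s, hs, rfl⟩ ρ hρ
      have hpow : ∀ m : ℕ, c.tree.mem ((L (gs s ^ m * ρ))) = true := by
        intro m
        induction m with
        | zero => rwa [pow_zero, one_mul]
        | succ m ih =>
          rw [pow_succ', mul_assoc, hL, hgs]
          exact hclosed _ (htree _ ih).2 _ (List.mem_map.2 ⟨s, hs, rfl⟩)
      obtain ⟨m, hm⟩ := (isOfFinOrder_of_finite (gs s)).mem_powers_iff_mem_zpowers.2
        (inv_mem (Subgroup.mem_zpowers (gs s)))
      rw [← hm]
      exact hpow m
    · intro ρ hρ; rwa [one_mul]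
    · intro x y _ _ hx hy ρ hρ
      rw [mul_assoc]
      exact hx _ (hy _ hρ)
  have hsortedP := nodup_of_sortedB hsorted
  have hnd : c.tree.flat.Nodup := hsortedP.imp fun h => ne_of_lt h
  have hRcard : Nat.card R = 2 ^ c.k := by
    rw [← hlen, ← List.toFinset_card_of_nodup hnd, ← Nat.card_eq_finsetCard]
    refine Nat.card_congr (Equiv.ofBijective (fun σ : R => (⟨(L σ), List.mem_toFinset.2 (Tr.mem_flat ((hRiff _).1 σ.2))⟩ :
      c.tree.flat.toFinset)) ⟨?_, ?_⟩)
    · intro σ τ h
      exact Subtype.ext (hinj _ _ (congrArg Subtype.val h))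
    · rintro ⟨v, hv⟩
      obtain ⟨x, hx, hvx⟩ := hflatR v (List.mem_toFinset.1 hv)
      obtain ⟨σ, hσ, e⟩ := hslist x hx
      exact ⟨⟨σ, hσ⟩, Subtype.ext (e.trans hvx.symm)⟩
  obtain ⟨P, hP⟩ := (IsPGroup.of_card hRcard).exists_le_sylow
  have hPR : (P : Subgroup G) = R := by
    refine (Subgroup.eq_of_le_of_card_ge hP ?_).symm
    obtain ⟨j, hj⟩ := IsPGroup.iff_card.1 P.2
    rw [hRcard, hj]
    refine Nat.pow_le_pow_right two_pos ?_
    have hd : 2 ^ j ∣ 2 ^ c.k * (c.cLen * (c.reps.length + 1)) := by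
      rw [← hj, mul_comm, hprod, ← hN]
      exact Subgroup.card_subgroup_dvd_card _
    have hco : (2 ^ j).Coprime (c.cLen * (c.reps.length + 1)) :=
      (Nat.coprime_two_left.2 (Nat.odd_iff.2 hodd)).pow_left j
    exact (Nat.pow_dvd_pow_iff_le_right (by norm_num)).1 (hco.dvd_of_dvd_mul_right hd)
  obtain ⟨w, hw⟩ := MulAction.exists_smul_eq G P S
  have hSiff : ∀ σ, σ ∈ (S : Subgroup G) ↔ w⁻¹ * σ * w ∈ R := by
    intro σ
    rw [← hw, Sylow.coe_subgroup_smul, Subgroup.mem_pointwise_smul_iff_inv_smul_mem, hPR]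
    simp [MulAut.smul_def, MulAut.conj_inv_apply]
  have hRS : ∀ σ, σ ∈ R → w * σ * w⁻¹ ∈ (S : Subgroup G) := fun σ h => by
    rw [hSiff, show w⁻¹ * (w * σ * w⁻¹) * w = σ by group]; exact h
  set z := gs c.z with hzdef
  have hzR : z ∈ R := (hRiff z).2 (by rw [hgs]; exact hzS)
  have hzcomm : ∀ s ∈ R, s * z = z * s := by
    intro s hs
    rw [hRdef] at hs
    have : Subgroup.closure {x | ∃ i ∈ c.sgen, x = gs i} ≤ Subgroup.centralizer {z} := by
      refine (Subgroup.closure_le _).2 ?_
      rintro _ ⟨i, hi, rfl⟩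
      refine Subgroup.mem_centralizer_singleton_iff.2 (hLinj _ _ ?_)
      rw [hL, hL, hgs, hgs]
      exact hzc _ (List.mem_map.2 ⟨i, hi, rfl⟩)
    exact Subgroup.mem_centralizer_singleton_iff.1 (this hs)
  have hzne : z ≠ 1 := fun h => hz1 (by rw [← hgs, ← hzdef, h, hL1])
  have hcenter : ∀ x ∈ R, (∀ s ∈ R, s * x = x * s) → x = 1 ∨ x = z := by
    intro x hx hxc
    have hxl := (htree x ((hRiff x).1 hx)).2
    have hall' : (c.sl.all fun s => pmul s (L x) == pmul (L x) s) = true := by
      simp only [List.all_eq_true, beq_iff_eq]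
      intro s hs
      obtain ⟨i, hi, rfl⟩ := List.mem_map.1 hs
      rw [← hgs, ← hL, ← hL, hxc _ (hsR i hi)]
    rcases hcent _ hxl with h | h | h
    · rw [hall'] at h; exact absurd h (by decide)
    · exact Or.inl (hinj _ _ (by rw [hL1]; exact h))
    · exact Or.inr (hinj _ _ (by rw [hgs]; exact h))
  -- the centralizer of `z`
  set C := Subgroup.centralizer ({z} : Set G) with hCdef
  have hCcard : Nat.card C ≤ (c.reps.length + 1) * 2 ^ c.k := by
    have horb : Nat.card (MulAction.orbit (ConjAct G) z) * Nat.card (MulAction.stabilizer (ConjAct G) z) = Nat.card G := by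
      rw [← Nat.card_prod]
      exact Nat.card_congr (MulAction.orbitProdStabilizerEquivGroup (ConjAct G) z)
    have e1 : Nat.card (MulAction.orbit (ConjAct G) z) = Nat.card {y // IsConj z y} :=
      Nat.card_congr (Equiv.subtypeEquivRight fun y => by rw [ConjAct.mem_orbit_conjAct]; exact isConj_comm)
    have e2 : Nat.card (MulAction.stabilizer (ConjAct G) z) = Nat.card C := by
      rw [ConjAct.stabilizer_eq_centralizer]
      exact Nat.card_congr (Equiv.refl _)
    rw [e1, e2, hN] at horb
    by_contra hlt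
    have h1 : c.cLen * (Nat.card C) ≤ c.N := horb ▸ Nat.mul_le_mul_right _ hclass
    have h2 : 0 < c.cLen := by
      rcases Nat.eq_zero_or_pos c.cLen with h | h
      · rw [h] at hodd; simp at hodd
      · exact h
    have h3 : c.cLen * ((c.reps.length + 1) * 2 ^ c.k) < c.cLen * Nat.card C := Nat.mul_lt_mul_of_pos_left (not_le.1 hlt) h2
    rw [← mul_assoc, hprod] at h3
    omega
  let rr : Fin (c.reps.length + 1) → G := Fin.cases 1 fun i => gs c.reps[(i : ℕ)]
  have hrC : ∀ i, rr i ∈ C := by
    refine Fin.cases ?_ fun i => ?_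
    · exact one_mem _
    · refine Subgroup.mem_centralizer_singleton_iff.2 (hLinj _ _ ?_)
      show L (gs c.reps[(i : ℕ)] * z) = L (z * gs c.reps[(i : ℕ)])
      rw [hL, hL, hgs, hgs]
      exact htz _ (List.getElem_mem _)
  have hRC : R ≤ C := fun s hs => Subgroup.mem_centralizer_singleton_iff.2 (hzcomm s hs)
  have hnotR : ∀ i, (rr (Fin.succ i)) ∉ R := by
    intro i h
    have h' := (hRiff _).1 h
    rw [show rr (Fin.succ i) = gs c.reps[(i : ℕ)] from rfl, hgs] at h'
    rw [(htS _ (List.getElem_mem i.2)).1] at h'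
    exact Bool.false_ne_true h'
  let f : Fin (c.reps.length + 1) × R → C := fun v => ⟨rr v.1 * v.2, mul_mem (hrC v.1) (hRC v.2.2)⟩
  have hf : Function.Injective f := by
    rintro ⟨i, s⟩ ⟨j, t⟩ h
    have h : rr i * (s : G) = rr j * (t : G) := congrArg Subtype.val h
    have hmem : (rr i)⁻¹ * rr j ∈ R := by
      rw [show (rr i)⁻¹ * rr j = (s : G) * (t : G)⁻¹ by rw [eq_mul_inv_iff_mul_eq, mul_assoc, ← h]; group]
      exact mul_mem s.2 (inv_mem t.2)
    have hij : i = j := by
      induction i using Fin.cases with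
      | zero =>
        induction j using Fin.cases with
        | zero => rfl
        | succ j => exact absurd (by simpa [rr] using hmem) (hnotR j)
      | succ i =>
        induction j using Fin.cases with
        | zero => exact absurd (by simpa [rr] using inv_mem hmem) (hnotR i)
        | succ j =>
          by_contra hne
          have h' := (hRiff _).1 hmem
          rw [hL, show rr (Fin.succ i) = gs c.reps[(i : ℕ)] from rfl, show rr (Fin.succ j) = gs c.reps[(j : ℕ)] from rfl,
            hgsi, hgs] at h'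
          rcases (htS _ (List.getElem_mem i.2)).2 _ (List.getElem_mem j.2) with e | e
          · exact hne (congrArg Fin.succ (Fin.ext ((htnd.getElem_inj_iff).1 e)))
          · exact absurd (h'.symm.trans e) (by decide)
    subst hij
    exact Prod.ext rfl (Subtype.ext (mul_left_cancel h))
  have hfsurj : Function.Surjective f := by
    have : Nat.card (Fin (c.reps.length + 1) × R) = Nat.card C := by
      refine le_antisymm (Nat.card_le_card_of_injective f hf) ?_
      rw [Nat.card_prod, Nat.card_fin, hRcard]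
      exact hCcard
    exact ((Nat.bijective_iff_injective_and_card f).2 ⟨hf, this⟩).2
  have hnormR : ∀ n ∈ Subgroup.normalizer (R : Set G), n ∈ R := by
    intro n hn
    have hm : ∀ x ∈ R, n * x * n⁻¹ ∈ R := fun x hx => (Subgroup.mem_normalizer_iff.1 hn x).1 hx
    have hnz : n * z * n⁻¹ = z := by
      refine (hcenter _ (hm z hzR) fun s hs => ?_).resolve_left fun h => hzne (conj_eq_one_iff.1 h)
      have hs' : n⁻¹ * s * n ∈ R := (Subgroup.mem_normalizer_iff''.1 hn s).1 hs
      calc s * (n * z * n⁻¹) = n * ((n⁻¹ * s * n) * z) * n⁻¹ := by group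
        _ = n * (z * (n⁻¹ * s * n)) * n⁻¹ := by rw [hzcomm _ hs']
        _ = n * z * n⁻¹ * s := by group
    obtain ⟨⟨i, s⟩, hv⟩ := hfsurj ⟨n, Subgroup.mem_centralizer_singleton_iff.2 (mul_inv_eq_iff_eq_mul.1 hnz)⟩
    have hv : rr i * (s : G) = n := congrArg Subtype.val hv
    induction i using Fin.cases with
    | zero => rw [← hv]; simpa [rr] using s.2
    | succ i =>
      exfalso
      obtain ⟨q, hq, hqn⟩ := htn _ (List.getElem_mem i.2)
      have h' := hm _ (mul_mem (mul_mem (inv_mem s.2) (hsR q hq)) s.2)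
      rw [← hv, show rr (Fin.succ i) * (s : G) * ((s : G)⁻¹ * gs q * (s : G)) * (rr (Fin.succ i) * (s : G))⁻¹ =
        rr (Fin.succ i) * (gs q * (rr (Fin.succ i))⁻¹) by group, hRiff, hL, hL,
        show rr (Fin.succ i) = gs c.reps[(i : ℕ)] from rfl, hgsi, hgs, hgs] at h'
      exact absurd (h'.symm.trans hqn) (by decide)
  refine simple_of_normalizer S ?_ ?_ ?_
  · intro h
    have := hRS z hzR
    rw [h, Subgroup.mem_bot, conj_eq_one_iff] at this
    exact hzne this
  · intro n hn
    refine ⟨n, ?_, fun _ _ => rfl⟩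
    rw [hSiff]
    refine hnormR _ (Subgroup.mem_normalizer_fintype fun x hx => ?_)
    have h := (Subgroup.mem_normalizer_iff.1 hn _).1 (hRS x hx)
    rw [hSiff] at h
    show w⁻¹ * n * w * x * (w⁻¹ * n * w)⁻¹ ∈ R
    rwa [show w⁻¹ * n * w * x * (w⁻¹ * n * w)⁻¹ = w⁻¹ * (n * (w * x * w⁻¹) * n⁻¹) * w by group]
  · intro T hT
    refine or_iff_not_imp_left.2 fun hT1 => le_antisymm hT.1 ?_
    let T' : Subgroup G := T.comap (MulAut.conj w).toMonoidHom
    have hT'mem : ∀ x, x ∈ T' ↔ w * x * w⁻¹ ∈ T := fun x => Iff.rfl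
    have hT'R : ∀ x ∈ T', x ∈ R := fun x hx => by
      have := (hSiff _).1 (hT.1 ((hT'mem x).1 hx))
      rwa [show w⁻¹ * (w * x * w⁻¹) * w = x by group] at this
    have hT'cl : ∀ x ∈ T', ∀ g, g * x * g⁻¹ ∈ R → g * x * g⁻¹ ∈ T' := by
      intro x hx g hg
      have := stronglyClosed_group_conj hT ((hT'mem x).1 hx) (w * g * w⁻¹) (by
        rw [show w * g * w⁻¹ * (w * x * w⁻¹) * (w * g * w⁻¹)⁻¹ = w * (g * x * g⁻¹) * w⁻¹ by group]
        exact hRS _ hg)
      rw [show w * g * w⁻¹ * (w * x * w⁻¹) * (w * g * w⁻¹)⁻¹ = w * (g * x * g⁻¹) * w⁻¹ by group] at this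
      exact this
    have hzT : z ∈ T' := by
      haveI : (T'.subgroupOf R).Normal := ⟨fun x hx g => by
        rw [Subgroup.mem_subgroupOf] at hx ⊢
        exact hT'cl _ hx g (mul_mem (mul_mem g.2 x.2) (inv_mem g.2))⟩
      have hne : T'.subgroupOf R ≠ ⊥ := by
        intro h
        obtain ⟨t, ht, ht1⟩ := (Subgroup.bot_or_exists_ne_one T).resolve_left hT1
        have ht' : w⁻¹ * t * w ∈ T' := by
          rw [hT'mem, show w * (w⁻¹ * t * w) * w⁻¹ = t by group]; exact ht
        have h' : (⟨w⁻¹ * t * w, hT'R _ ht'⟩ : R) ∈ T'.subgroupOf R := Subgroup.mem_subgroupOf.2 ht'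
        rw [h, Subgroup.mem_bot] at h'
        have h'' : w⁻¹ * t * w = 1 := congrArg Subtype.val h'
        exact ht1 (by rw [show t = w * (w⁻¹ * t * w) * w⁻¹ by group, h'']; group)
      haveI : Group.IsNilpotent R := (IsPGroup.of_card hRcard).isNilpotent
      obtain ⟨x, hx, hx1, hxc⟩ := Cfsg.Agent.Fusion.exists_fixed_mod (N := (⊥ : Subgroup R)) (C := T'.subgroupOf R)
        (Q := ⊤) (by rw [Subgroup.normalizer_eq_top]) (fun h => hne (le_bot_iff.1 h))
      have hxz := (hcenter (x : G) x.2 fun s hs => (congrArg Subtype.val (commutatorElement_eq_one_iff_mul_comm.1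
        (Subgroup.mem_bot.1 (hxc ⟨s, hs⟩ trivial)))).symm).resolve_left
        fun h => hx1 (Subgroup.mem_bot.2 (Subtype.ext h))
      exact hxz ▸ Subgroup.mem_subgroupOf.1 hx
    have hrun : ∀ (ss : List Step) (acc res : List ℕ), (∀ x ∈ acc, ∃ y ∈ T', L y = x) →
        runSteps c.gl c.gli c.tree acc ss = some res → ∀ x ∈ res, ∃ y ∈ T', L y = x := by
      intro ss
      induction ss with
      | nil => intro acc res ha h; cases h; exact ha
      | cons s ss ih =>
        intro acc res ha h
        rw [runSteps] at h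
        split at h
        · next hmem =>
          refine ih _ _ (fun x hx => ?_) h
          rcases List.mem_append.1 hx with hx | hx
          · exact ha x hx
          · rw [List.mem_singleton] at hx
            subst hx
            have hget : ∀ i, ∃ y ∈ T', L y = acc.getD i idC := fun i => by
              rcases lt_or_ge i acc.length with hi | hi
              · rw [List.getD_eq_getElem _ _ hi]; exact ha _ (List.getElem_mem _)
              · rw [List.getD_eq_default _ _ hi]; exact ⟨1, one_mem _, hL1⟩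
            cases s with
            | cj g i =>
              obtain ⟨y, hy, hyL⟩ := hget i
              simp only [runStep, opConj, ← hyL] at hmem ⊢
              have e : L (gs g * y * (gs g)⁻¹) = pmul (c.gl.getD g idC) (pmul (L y) (c.gli.getD g idC)) := by
                rw [mul_assoc, hL, hL, hgs, hgsi]; rfl
              exact ⟨_, hT'cl y hy (gs g) ((hRiff _).2 (by rw [e]; exact hmem)), e⟩
            | mu i j =>
              obtain ⟨y, hy, hyL⟩ := hget i
              obtain ⟨y', hy', hyL'⟩ := hget j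
              exact ⟨y * y', mul_mem hy hy', by rw [hL, hyL, hyL']; rfl⟩
        · exact absurd h (by simp)
    unfold Cert.checkSteps at h5
    split at h5
    · exact absurd h5 (by simp)
    · next res hres =>
      have hres' := hrun c.steps _ res (fun x hx => ⟨z, hzT, (hgs _).trans (List.mem_singleton.1 hx).symm⟩) hres
      simp only [List.all_eq_true, List.any_eq_true, beq_iff_eq] at h5
      have hRT : R ≤ T' := by
        refine (Subgroup.closure_le _).2 ?_
        rintro _ ⟨s, hs, rfl⟩
        obtain ⟨x, hx, rfl⟩ := h5 s hs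
        obtain ⟨y, hy, hyL⟩ := hres' _ hx
        obtain rfl := hLinj y (gs s) (hyL.trans (hgs s).symm)
        exact hy
      intro x hx
      have := hRT ((hSiff x).1 hx)
      rwa [hT'mem, show w * (w⁻¹ * x * w) * w⁻¹ = x by group] at this

/-- The criterion with the class listed in the certificate. -/
theorem simple_of_cert (c : Cert) (L : G → ℕ) (hL : ∀ x y, L (x * y) = pmul (L x) (L y))
    (hL1 : L 1 = idC) (hinj : ∀ x y, (L x) = (L y) → x = y)
    (gs : ℕ → G) (hgs : ∀ i, L (gs i) = c.g i) (hgsi : ∀ i, L (gs i)⁻¹ = c.gi i)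
    (hN : Nat.card G = c.N) (h1 : c.checkS = true) (h2 : c.checkCenter = true) (h3 : c.checkClass = true)
    (h4 : c.checkReps = true) (h5 : c.checkSteps = true) (S : Sylow 2 G) :
    (groupFusionSystem (S : Subgroup G)).IsSimple 2 := by
  classical
  simp only [Cert.checkClass, Bool.and_eq_true, beq_iff_eq] at h3
  obtain ⟨⟨hcs, hcl⟩, hsize⟩ := h3
  set z := gs c.z with hzdef
  have hclass : c.cLen ≤ Nat.card {y // IsConj z y} := by
    haveI : Finite {y // IsConj z y} := Subtype.finite
    have hP' : ∀ v ∈ c.cList, ∃ y : {y // IsConj z y}, (L y) = v := by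
      intro v hv
      obtain ⟨k, hk, hvk⟩ := List.mem_flatten.1 (mergeAll_subset _ _ v hv)
      obtain ⟨x, hx, rfl⟩ := List.mem_map.1 hk
      rw [List.mem_singleton.1 hvk]
      obtain ⟨y, hy, rfl⟩ : ∃ y, IsConj z y ∧ L y = x := by
        refine layers_all (P := fun x => ∃ y, IsConj z y ∧ L y = x) (fun i x hx => ?_) c.cKids _ (fun x hx => ?_) x hx
        · obtain ⟨y, hy, rfl⟩ := hx
          refine ⟨gs i * (y * (gs i)⁻¹), hy.trans (_root_.isConj_iff.2 ⟨gs i, by group⟩), ?_⟩
          rw [hL, hL, hgs, hgsi]; rfl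
        · exact ⟨z, IsConj.refl z, (hgs _).trans (List.mem_singleton.1 hx).symm⟩
      exact ⟨⟨y, hy⟩, rfl⟩
    have hnd' : c.cList.Nodup := (nodup_of_sortedB hcs).imp fun h => ne_of_lt h
    rw [← hcl, ← List.toFinset_card_of_nodup hnd', ← Nat.card_eq_finsetCard]
    choose y hy using hP'
    refine Nat.card_le_card_of_injective (fun v : c.cList.toFinset => y v.1 (List.mem_toFinset.1 v.2)) fun a b h => ?_
    refine Subtype.ext ?_
    have e : (L (y a.1 (List.mem_toFinset.1 a.2) : G)) = (L (y b.1 (List.mem_toFinset.1 b.2) : G)) := by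
      rw [show y a.1 (List.mem_toFinset.1 a.2) = y b.1 (List.mem_toFinset.1 b.2) from h]
    rwa [hy, hy] at e
  exact simple_of_cert' c L hL hL1 hinj gs hgs hgsi hN h1 h2 hsize hclass h4 h5 S

end Cfsg.Agent.Local.FS.Mathieu
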