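import Cfsg.Agent.Lib.Local.FS.SimpleM24

/-!
Self-normalising Sylow subgroups from the fusion certificates.
-/

set_option autoImplicit false
set_option maxRecDepth 100000

namespace Cfsg.Agent.Local.FS.Mathieu

open Cfsg Cfsg.FusionSystem

variable {G : Type*} [Group G] [Finite G]

set_option maxHeartbeats 2000000 in
/-- The Sylow two-subgroup of a certificate is self-normalising. -/
theorem normalizer_of_cert (c : Cert) (L : G → ℕ) (hL : ∀ x y, L (x * y) = pmul (L x) (L y))
    (hL1 : L 1 = idC) (hinj : ∀ x y, (L x) = (L y) → x = y)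
    (gs : ℕ → G) (hgs : ∀ i, L (gs i) = c.g i) (hgsi : ∀ i, L (gs i)⁻¹ = c.gi i)
    (hN : Nat.card G = c.N) (h1 : c.checkS = true) (h2 : c.checkCenter = true) (h3 : c.checkSize = true)
    (hclass : c.cLen ≤ Nat.card {y // _root_.IsConj (gs c.z) y})
    (h4 : c.checkReps = true) (S : Sylow 2 G) :
    Subgroup.normalizer ((S : Subgroup G) : Set G) = (S : Subgroup G) := by
  classical
  simp only [Cert.checkS, Bool.and_eq_true, List.all_eq_true, beq_iff_eq] at h1
  obtain ⟨⟨⟨⟨⟨hflat, hsorted⟩, hall⟩, hlen⟩, hone⟩, hclosed⟩ := h1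
  simp only [Cert.checkCenter, Bool.and_eq_true, List.all_eq_true, beq_iff_eq, Bool.or_eq_true,
    Bool.not_eq_eq_eq_not, Bool.not_true, beq_eq_false_iff_ne, ne_eq] at h2
  obtain ⟨⟨⟨hzS, hzc⟩, hz1⟩, hcent⟩ := h2
  simp only [Cert.checkSize, Bool.and_eq_true, beq_iff_eq] at h3
  obtain ⟨hprod, hodd⟩ := h3
  simp only [Cert.checkReps, Bool.and_eq_true, List.all_eq_true, List.any_eq_true, beq_iff_eq, Bool.or_eq_true,
    Bool.not_eq_eq_eq_not, Bool.not_true, decide_eq_true_eq] at h4
  obtain ⟨⟨⟨htz, htS⟩, htn⟩, htnd⟩ := h4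
  have hLinj : ∀ x y, L x = L y → x = y := hinj
  set R : Subgroup G := Subgroup.closure {x | ∃ s ∈ c.sgen, x = gs s} with hRdef
  have hsR : ∀ s ∈ c.sgen, gs s ∈ R := fun s hs => Subgroup.subset_closure ⟨s, hs, rfl⟩
  have hslist : ∀ x ∈ c.sList, ∃ σ ∈ R, L σ = x := by
    refine layers_all (fun i x hx => ?_) c.sKids _ (fun x hx => ?_)
    · obtain ⟨σ, hσ, rfl⟩ := hx
      rcases lt_or_ge i c.sgen.length with hi | hi
      · refine ⟨gs c.sgen[i] * σ, mul_mem (hsR _ (List.getElem_mem _)) hσ, ?_⟩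
        rw [hL, hgs, opMul, Cert.sl, List.getD_eq_getElem _ _ (by simpa using hi), List.getElem_map]
      · refine ⟨1 * σ, mul_mem (one_mem _) hσ, ?_⟩
        rw [hL, hL1, opMul, Cert.sl, List.getD_eq_default _ _ (by simpa using hi)]
    · exact ⟨1, one_mem _, hL1.trans (List.mem_singleton.1 hx).symm⟩
  have hflatR : ∀ v ∈ c.tree.flat, ∃ x ∈ c.sList, v = x := by
    intro v hv
    rw [← hflat] at hv
    obtain ⟨k, hk, hvk⟩ := List.mem_flatten.1 (mergeAll_subset _ _ v hv)
    obtain ⟨x, hx, rfl⟩ := List.mem_map.1 hk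
    exact ⟨x, hx, List.mem_singleton.1 hvk⟩
  have htree : ∀ σ, c.tree.mem ((L σ)) = true → σ ∈ R ∧ L σ ∈ c.sList := by
    intro σ h
    obtain ⟨x, hx, hvx⟩ := hflatR _ (Tr.mem_flat h)
    obtain ⟨τ, hτ, rfl⟩ := hslist x hx
    obtain rfl := hinj _ _ hvx
    exact ⟨hτ, hx⟩
  have hRiff : ∀ σ, σ ∈ R ↔ c.tree.mem ((L σ)) = true := by
    refine fun σ => ⟨fun h => ?_, fun h => (htree σ h).1⟩
    rw [hRdef] at h
    refine (Subgroup.closure_induction'' (p := fun τ _ => ∀ ρ, c.tree.mem ((L ρ)) = true → c.tree.mem ((L (τ * ρ))) = true)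
      ?_ ?_ ?_ ?_ h 1 (by rwa [hL1])) |> (fun e => by rwa [mul_one] at e)
    · rintro τ ⟨s, hs, rfl⟩ ρ hρ
      rw [hL, hgs]
      exact hclosed _ (htree ρ hρ).2 _ (List.mem_map.2 ⟨s, hs, rfl⟩)
    · rintro τ ⟨s, hs, rfl⟩ ρ hρ
      have hpow : ∀ m : ℕ, c.tree.mem ((L (gs s ^ m * ρ))) = true := by
        intro m
        induction m with
        | zero => rwa [pow_zero, one_mul]
        | succ m ih =>
          rw [pow_succ', mul_assoc, hL, hgs]
          exact hclosed _ (htree _ ih).2 _ (List.mem_map.2 ⟨s, hs, rfl⟩)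
      obtain ⟨m, hm⟩ := (isOfFinOrder_of_finite (gs s)).mem_powers_iff_mem_zpowers.2
        (inv_mem (Subgroup.mem_zpowers (gs s)))
      rw [← hm]
      exact hpow m
    · intro ρ hρ; rwa [one_mul]
    · intro x y _ _ hx hy ρ hρ
      rw [mul_assoc]
      exact hx _ (hy _ hρ)
  have hsortedP := nodup_of_sortedB hsorted
  have hnd : c.tree.flat.Nodup := hsortedP.imp fun h => ne_of_lt h
  have hRcard : Nat.card R = 2 ^ c.k := by
    rw [← hlen, ← List.toFinset_card_of_nodup hnd, ← Nat.card_eq_finsetCard]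
    refine Nat.card_congr (Equiv.ofBijective (fun σ : R => (⟨(L σ), List.mem_toFinset.2 (Tr.mem_flat ((hRiff _).1 σ.2))⟩ :
      c.tree.flat.toFinset)) ⟨?_, ?_⟩)
    · intro σ τ h
      exact Subtype.ext (hinj _ _ (congrArg Subtype.val h))
    · rintro ⟨v, hv⟩
      obtain ⟨x, hx, hvx⟩ := hflatR v (List.mem_toFinset.1 hv)
      obtain ⟨σ, hσ, e⟩ := hslist x hx
      exact ⟨⟨σ, hσ⟩, Subtype.ext (e.trans hvx.symm)⟩
  obtain ⟨P, hP⟩ := (IsPGroup.of_card hRcard).exists_le_sylow
  have hPR : (P : Subgroup G) = R := by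
    refine (Subgroup.eq_of_le_of_card_ge hP ?_).symm
    obtain ⟨j, hj⟩ := IsPGroup.iff_card.1 P.2
    rw [hRcard, hj]
    refine Nat.pow_le_pow_right two_pos ?_
    have hd : 2 ^ j ∣ 2 ^ c.k * (c.cLen * (c.reps.length + 1)) := by
      rw [← hj, mul_comm, hprod, ← hN]
      exact Subgroup.card_subgroup_dvd_card _
    have hco : (2 ^ j).Coprime (c.cLen * (c.reps.length + 1)) :=
      (Nat.coprime_two_left.2 (Nat.odd_iff.2 hodd)).pow_left j
    exact (Nat.pow_dvd_pow_iff_le_right (by norm_num)).1 (hco.dvd_of_dvd_mul_right hd)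
  obtain ⟨w, hw⟩ := MulAction.exists_smul_eq G P S
  have hSiff : ∀ σ, σ ∈ (S : Subgroup G) ↔ w⁻¹ * σ * w ∈ R := by
    intro σ
    rw [← hw, Sylow.coe_subgroup_smul, Subgroup.mem_pointwise_smul_iff_inv_smul_mem, hPR]
    simp [MulAut.smul_def, MulAut.conj_inv_apply]
  have hRS : ∀ σ, σ ∈ R → w * σ * w⁻¹ ∈ (S : Subgroup G) := fun σ h => by
    rw [hSiff, show w⁻¹ * (w * σ * w⁻¹) * w = σ by group]; exact h
  set z := gs c.z with hzdef
  have hzR : z ∈ R := (hRiff z).2 (by rw [hgs]; exact hzS)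
  have hzcomm : ∀ s ∈ R, s * z = z * s := by
    intro s hs
    rw [hRdef] at hs
    have : Subgroup.closure {x | ∃ i ∈ c.sgen, x = gs i} ≤ Subgroup.centralizer {z} := by
      refine (Subgroup.closure_le _).2 ?_
      rintro _ ⟨i, hi, rfl⟩
      refine Subgroup.mem_centralizer_singleton_iff.2 (hLinj _ _ ?_)
      rw [hL, hL, hgs, hgs]
      exact hzc _ (List.mem_map.2 ⟨i, hi, rfl⟩)
    exact Subgroup.mem_centralizer_singleton_iff.1 (this hs)
  have hzne : z ≠ 1 := fun h => hz1 (by rw [← hgs, ← hzdef, h, hL1])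
  have hcenter : ∀ x ∈ R, (∀ s ∈ R, s * x = x * s) → x = 1 ∨ x = z := by
    intro x hx hxc
    have hxl := (htree x ((hRiff x).1 hx)).2
    have hall' : (c.sl.all fun s => pmul s (L x) == pmul (L x) s) = true := by
      simp only [List.all_eq_true, beq_iff_eq]
      intro s hs
      obtain ⟨i, hi, rfl⟩ := List.mem_map.1 hs
      rw [← hgs, ← hL, ← hL, hxc _ (hsR i hi)]
    rcases hcent _ hxl with h | h | h
    · rw [hall'] at h; exact absurd h (by decide)
    · exact Or.inl (hinj _ _ (by rw [hL1]; exact h))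
    · exact Or.inr (hinj _ _ (by rw [hgs]; exact h))
  -- the centralizer of `z`
  set C := Subgroup.centralizer ({z} : Set G) with hCdef
  have hCcard : Nat.card C ≤ (c.reps.length + 1) * 2 ^ c.k := by
    have horb : Nat.card (MulAction.orbit (ConjAct G) z) * Nat.card (MulAction.stabilizer (ConjAct G) z) = Nat.card G := by
      rw [← Nat.card_prod]
      exact Nat.card_congr (MulAction.orbitProdStabilizerEquivGroup (ConjAct G) z)
    have e1 : Nat.card (MulAction.orbit (ConjAct G) z) = Nat.card {y // IsConj z y} :=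
      Nat.card_congr (Equiv.subtypeEquivRight fun y => by rw [ConjAct.mem_orbit_conjAct]; exact isConj_comm)
    have e2 : Nat.card (MulAction.stabilizer (ConjAct G) z) = Nat.card C := by
      rw [ConjAct.stabilizer_eq_centralizer]
      exact Nat.card_congr (Equiv.refl _)
    rw [e1, e2, hN] at horb
    by_contra hlt
    have h1 : c.cLen * (Nat.card C) ≤ c.N := horb ▸ Nat.mul_le_mul_right _ hclass
    have h2 : 0 < c.cLen := by
      rcases Nat.eq_zero_or_pos c.cLen with h | h
      · rw [h] at hodd; simp at hodd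
      · exact h
    have h3 : c.cLen * ((c.reps.length + 1) * 2 ^ c.k) < c.cLen * Nat.card C := Nat.mul_lt_mul_of_pos_left (not_le.1 hlt) h2
    rw [← mul_assoc, hprod] at h3
    omega
  let rr : Fin (c.reps.length + 1) → G := Fin.cases 1 fun i => gs c.reps[(i : ℕ)]
  have hrC : ∀ i, rr i ∈ C := by
    refine Fin.cases ?_ fun i => ?_
    · exact one_mem _
    · refine Subgroup.mem_centralizer_singleton_iff.2 (hLinj _ _ ?_)
      show L (gs c.reps[(i : ℕ)] * z) = L (z * gs c.reps[(i : ℕ)])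
      rw [hL, hL, hgs, hgs]
      exact htz _ (List.getElem_mem _)
  have hRC : R ≤ C := fun s hs => Subgroup.mem_centralizer_singleton_iff.2 (hzcomm s hs)
  have hnotR : ∀ i, (rr (Fin.succ i)) ∉ R := by
    intro i h
    have h' := (hRiff _).1 h
    rw [show rr (Fin.succ i) = gs c.reps[(i : ℕ)] from rfl, hgs] at h'
    rw [(htS _ (List.getElem_mem i.2)).1] at h'
    exact Bool.false_ne_true h'
  let f : Fin (c.reps.length + 1) × R → C := fun v => ⟨rr v.1 * v.2, mul_mem (hrC v.1) (hRC v.2.2)⟩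
  have hf : Function.Injective f := by
    rintro ⟨i, s⟩ ⟨j, t⟩ h
    have h : rr i * (s : G) = rr j * (t : G) := congrArg Subtype.val h
    have hmem : (rr i)⁻¹ * rr j ∈ R := by
      rw [show (rr i)⁻¹ * rr j = (s : G) * (t : G)⁻¹ by rw [eq_mul_inv_iff_mul_eq, mul_assoc, ← h]; group]
      exact mul_mem s.2 (inv_mem t.2)
    have hij : i = j := by
      induction i using Fin.cases with
      | zero =>
        induction j using Fin.cases with
        | zero => rfl
        | succ j => exact absurd (by simpa [rr] using hmem) (hnotR j)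
      | succ i =>
        induction j using Fin.cases with
        | zero => exact absurd (by simpa [rr] using inv_mem hmem) (hnotR i)
        | succ j =>
          by_contra hne
          have h' := (hRiff _).1 hmem
          rw [hL, show rr (Fin.succ i) = gs c.reps[(i : ℕ)] from rfl, show rr (Fin.succ j) = gs c.reps[(j : ℕ)] from rfl,
            hgsi, hgs] at h'
          rcases (htS _ (List.getElem_mem i.2)).2 _ (List.getElem_mem j.2) with e | e
          · exact hne (congrArg Fin.succ (Fin.ext ((htnd.getElem_inj_iff).1 e)))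
          · exact absurd (h'.symm.trans e) (by decide)
    subst hij
    exact Prod.ext rfl (Subtype.ext (mul_left_cancel h))
  have hfsurj : Function.Surjective f := by
    have : Nat.card (Fin (c.reps.length + 1) × R) = Nat.card C := by
      refine le_antisymm (Nat.card_le_card_of_injective f hf) ?_
      rw [Nat.card_prod, Nat.card_fin, hRcard]
      exact hCcard
    exact ((Nat.bijective_iff_injective_and_card f).2 ⟨hf, this⟩).2
  have hnormR : ∀ n ∈ Subgroup.normalizer (R : Set G), n ∈ R := by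
    intro n hn
    have hm : ∀ x ∈ R, n * x * n⁻¹ ∈ R := fun x hx => (Subgroup.mem_normalizer_iff.1 hn x).1 hx
    have hnz : n * z * n⁻¹ = z := by
      refine (hcenter _ (hm z hzR) fun s hs => ?_).resolve_left fun h => hzne (conj_eq_one_iff.1 h)
      have hs' : n⁻¹ * s * n ∈ R := (Subgroup.mem_normalizer_iff''.1 hn s).1 hs
      calc s * (n * z * n⁻¹) = n * ((n⁻¹ * s * n) * z) * n⁻¹ := by group
        _ = n * (z * (n⁻¹ * s * n)) * n⁻¹ := by rw [hzcomm _ hs']
        _ = n * z * n⁻¹ * s := by group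
    obtain ⟨⟨i, s⟩, hv⟩ := hfsurj ⟨n, Subgroup.mem_centralizer_singleton_iff.2 (mul_inv_eq_iff_eq_mul.1 hnz)⟩
    have hv : rr i * (s : G) = n := congrArg Subtype.val hv
    induction i using Fin.cases with
    | zero => rw [← hv]; simpa [rr] using s.2
    | succ i =>
      exfalso
      obtain ⟨q, hq, hqn⟩ := htn _ (List.getElem_mem i.2)
      have h' := hm _ (mul_mem (mul_mem (inv_mem s.2) (hsR q hq)) s.2)
      rw [← hv, show rr (Fin.succ i) * (s : G) * ((s : G)⁻¹ * gs q * (s : G)) * (rr (Fin.succ i) * (s : G))⁻¹ =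
        rr (Fin.succ i) * (gs q * (rr (Fin.succ i))⁻¹) by group, hRiff, hL, hL,
        show rr (Fin.succ i) = gs c.reps[(i : ℕ)] from rfl, hgsi, hgs, hgs] at h'
      exact absurd (h'.symm.trans hqn) (by decide)
  refine le_antisymm (fun n hn => ?_) Subgroup.le_normalizer
  rw [hSiff]
  refine hnormR _ (Subgroup.mem_normalizer_fintype fun x hx => ?_)
  have h := (Subgroup.mem_normalizer_iff.1 hn _).1 (hRS x hx)
  rw [hSiff] at h
  show w⁻¹ * n * w * x * (w⁻¹ * n * w)⁻¹ ∈ R
  rwa [show w⁻¹ * n * w * x * (w⁻¹ * n * w)⁻¹ = w⁻¹ * (n * (w * x * w⁻¹) * n⁻¹) * w by group]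

theorem m24_normalizer (S : Sylow 2 M24) :
    Subgroup.normalizer ((S : Subgroup M24) : Set M24) = (S : Subgroup M24) := by
  have h : (m24Gens.map fun g : M24 => code g.1) = m24Cert.gl := by decide +kernel
  have hi : (m24Gens.map fun g : M24 => code g.1⁻¹) = m24Cert.gli := by decide +kernel
  have hone : code 1 = idC := by decide +kernel
  have hget : ∀ (f : Equiv.Perm GolayPt → Equiv.Perm GolayPt), f 1 = 1 → ∀ i,
      code (f ((m24Gens.getD i 1 : M24) : Equiv.Perm GolayPt)) =
        (m24Gens.map fun g : M24 => code (f g.1)).getD i (idC) := by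
    intro f hf i
    rcases lt_or_ge i m24Gens.length with hlt | hge
    · rw [List.getD_eq_getElem _ _ hlt, List.getD_eq_getElem _ _ (by simpa using hlt), List.getElem_map]
    · rw [List.getD_eq_default _ _ hge, List.getD_eq_default _ _ (by simpa using hge), OneMemClass.coe_one, hf, hone]
  refine normalizer_of_cert m24Cert (fun x : M24 => code (x : Equiv.Perm GolayPt))
    (fun x y => (congrArg code (Subgroup.coe_mul M24 x y)).trans (code_mul _ _)) hone
    (fun x y e => Subtype.ext (code_injective e)) (fun i => m24Gens.getD i 1) (fun i => ?_) (fun i => ?_) card_m24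
    m24_checkS m24_checkCenter m24_checkSize m24_class m24_checkReps S
  · rw [Cert.g, ← h]
    exact hget id rfl i
  · rw [Cert.gi, ← hi, Subgroup.coe_inv]
    exact hget (fun σ => σ⁻¹) inv_one i

end Cfsg.Agent.Local.FS.Mathieu
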