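import Cfsg.Agent.Lib.Local.FS.MathieuPerms
import Cfsg.Agent.Lib.Spor.GolayTrans

/-!
A lower bound for a class of involutions of `M₂₄` fixing an octad.
-/

set_option autoImplicit false
set_option maxRecDepth 100000

namespace Cfsg.Agent.Local.FS.Mathieu

open Cfsg Cfsg.Agent.Spor
open scoped Pointwise

/-- fixed points -/
def fixSet (σ : Equiv.Perm GolayPt) : Finset GolayPt := Finset.univ.filter fun p => σ p = p

theorem mem_fixSet {σ : Equiv.Perm GolayPt} {p : GolayPt} : p ∈ fixSet σ ↔ σ p = p := by simp [fixSet]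

theorem fixSet_conj (σ y : Equiv.Perm GolayPt) : fixSet (σ * y * σ⁻¹) = σ • fixSet y := by
  ext p
  rw [← Finset.inv_smul_mem_iff]
  rw [mem_fixSet, mem_fixSet, Equiv.Perm.mul_apply, Equiv.Perm.mul_apply, Equiv.Perm.smul_def]
  exact ⟨fun h => σ.injective (h.trans (σ.apply_symm_apply p).symm), fun h => by
    rw [h]; exact σ.apply_symm_apply p⟩

/-- the element of a word -/
def wordVal (gens : List M24) (w : List ℕ) : M24 := (w.map fun i => gens.getD i 1).prod

theorem m24_class_bound (gens : List M24) (z : M24) (words : List (List ℕ))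
    (hlen : words.length = 15)
    (hfix : ∀ w ∈ words, fixSet (wordVal gens w * z * (wordVal gens w)⁻¹ : M24).1 = fixSet z.1)
    (hnd : (words.map fun w => code (wordVal gens w * z * (wordVal gens w)⁻¹ : M24).1).Nodup)
    (hoct : mask (fixSet z.1) ∈ octMasks) : 11385 ≤ Nat.card {y : M24 // IsConj z y} := by
  classical
  have hO : fixSet z.1 ∈ octads := mem_octads.2 hoct
  obtain ⟨τ, hτ, hτO⟩ := octad_map _ hO
  choose σ hσ hσo using fun o : octads => octad_map o.1 o.2
  let ρ : octads → M24 := fun o => ⟨σ o, hσ o⟩ * (⟨τ, hτ⟩ : M24)⁻¹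
  have hρ : ∀ o : octads, (ρ o).1 • fixSet z.1 = o.1 := fun o => by
    rw [← hτO]
    show (σ o * τ⁻¹) • τ • ofMask 5279 = o.1
    rw [mul_smul, inv_smul_smul, hσo]
  let y : Fin words.length → M24 := fun j => wordVal gens words[(j : ℕ)] * z * (wordVal gens words[(j : ℕ)])⁻¹
  let f : octads × Fin words.length → {y : M24 // IsConj z y} := fun v =>
    ⟨ρ v.1 * y v.2 * (ρ v.1)⁻¹, _root_.isConj_iff.2 ⟨ρ v.1 * wordVal gens words[(v.2 : ℕ)], by simp only [y]; group⟩⟩
  have hf : Function.Injective f := by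
    rintro ⟨o, i⟩ ⟨o', j⟩ h
    have h : ρ o * y i * (ρ o)⁻¹ = ρ o' * y j * (ρ o')⁻¹ := congrArg Subtype.val h
    have hfy : ∀ (o : octads) (i : Fin words.length), fixSet (ρ o * y i * (ρ o)⁻¹ : M24).1 = o.1 := fun o i => by
      show fixSet ((ρ o).1 * (y i).1 * (ρ o).1⁻¹) = o.1
      rw [fixSet_conj, hfix _ (List.getElem_mem i.2), hρ]
    have ho : o = o' := Subtype.ext (by rw [← hfy o i, ← hfy o' j, h])
    subst ho
    have hy : y i = y j := mul_left_cancel (mul_right_cancel h)
    refine Prod.ext rfl (Fin.ext ((hnd.getElem_inj_iff (hi := by simpa using i.2) (hj := by simpa using j.2)).1 ?_))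
    simp only [List.getElem_map]
    exact congrArg (fun x : M24 => code x.1) hy
  have h := Nat.card_le_card_of_injective f hf
  rwa [Nat.card_prod, Nat.card_coe_set_eq, ncard_octads, Nat.card_fin, hlen] at h

end Cfsg.Agent.Local.FS.Mathieu
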