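import Cfsg.Agent.Lib.Local.FS.McLSmallSimple
import Cfsg.Agent.Lib.Local.FS.McLCentData
import Cfsg.Agent.Lib.Local.FS.HundredEngine
import Cfsg.Prelude.Def_SporadicB

/-!
The McLaughlin group has one class of involutions, with centralizer a non-split double cover of the alternating
group of degree 8.

The centralizer acts on the 35 fixed points of the involution as the alternating group acts on bisections of
eight points; a count of conjugates inside a point stabilizer bounds its order by 40320.
-/

set_option autoImplicit false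
set_option maxRecDepth 100000

namespace Cfsg.Agent.Local.FS.McLSmall.Cent

open Cfsg Cfsg.Agent.Spor Equiv

/-- the elements of the program -/
def pe (i : ℕ) : ℕ := (genCodes ++ progVals).getD i idC

/-- the program is correct -/
def progOK : Bool :=
  (prog.length == progVals.length) && (List.range prog.length).all fun i =>
    Nat.blt (prog.getD i (0, 0)).1 (3 + i) && Nat.blt (prog.getD i (0, 0)).2 (3 + i) &&
      pmul (pe (prog.getD i (0, 0)).1) (pe (prog.getD i (0, 0)).2) == progVals.getD i 0

/-- one layer of nodes -/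
def nlayer (hl : List ℕ) (prev : List ℕ) (kids : List (List ℕ)) : List ℕ :=
  (prev.zip kids).flatMap fun p => p.2.map fun i => pgo (hl.getD i idC) 35 p.1

/-- all layers of nodes -/
def nlayers (hl : List ℕ) : List ℕ → List (List (List ℕ)) → List ℕ
  | cur, [] => cur
  | cur, k :: ks => cur ++ nlayers hl (nlayer hl cur k) ks

theorem nlayers_all {hl : List ℕ} {P : ℕ → Prop} (hop : ∀ i x, P x → P (pgo (hl.getD i idC) 35 x)) :
    ∀ (ks : List (List (List ℕ))) (cur : List ℕ), (∀ x ∈ cur, P x) → ∀ x ∈ nlayers hl cur ks, P x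
  | [], cur, hc, x, hx => hc x hx
  | k :: ks, cur, hc, x, hx => by
    rcases List.mem_append.1 hx with hx | hx
    · exact hc x hx
    · refine nlayers_all hop ks _ (fun y hy => ?_) x hx
      obtain ⟨q, hq, hy⟩ := List.mem_flatMap.1 hy
      obtain ⟨i, -, rfl⟩ := List.mem_map.1 hy
      exact hop i _ (hc _ (List.of_mem_zip hq).1)

/-- the mask of the first entries of a packed list -/
def nmask : ℕ → ℕ → ℕ
  | 0, _ => 0
  | n + 1, q => Nat.lor (Nat.shiftLeft 1 (Nat.land q 511)) (nmask n (Nat.shiftRight q 9))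

theorem testBit_nmask : ∀ (n q j : ℕ), (nmask n q).testBit j = true ↔ ∃ i < n, nget q i = j
  | 0, q, j => by simp [nmask]
  | n + 1, q, j => by
    have e : ∀ i, nget (q >>> 9) i = nget q (i + 1) := fun i => by
      rw [nget, nget, ← Nat.shiftRight_add, show 9 * (i + 1) = 9 + 9 * i by ring]
    have h0 : nget q 0 = q &&& 511 := by rw [nget, Nat.mul_zero, Nat.shiftRight_zero]
    show ((1 <<< (q &&& 511)) ||| nmask n (q >>> 9)).testBit j = true ↔ _
    rw [Nat.testBit_or, Bool.or_eq_true, Nat.one_shiftLeft, Nat.testBit_two_pow, decide_eq_true_eq,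
      testBit_nmask n (q >>> 9) j]
    constructor
    · rintro (h | ⟨i, hi, h⟩)
      · exact ⟨0, by omega, h0.trans h⟩
      · exact ⟨i + 1, by omega, (e i).symm.trans h⟩
    · rintro ⟨i, hi, h⟩
      rcases i with _ | i
      · exact Or.inl (h0.symm.trans h)
      · exact Or.inr ⟨i, by omega, (e i).trans h⟩

/-- the first fixed point -/
def x0 : ℕ := fixed.getD 0 0

/-- the nodes of the class in the point stabilizer -/
def nodes : List ℕ := nlayers (hI.map pe) [pack fixed] classKids

/-- the mask list, sorted -/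
def masks : List ℕ := Hundred.mergeAll 12 (nodes.map fun x => [nmask 35 x])

/-- a bisection -/
def bis (k : Fin 35) : Finset (Finset (Fin 8)) :=
  {Finset.univ.filter fun i : Fin 8 => Nat.testBit (bisMasks.getD k 0) i,
    (Finset.univ.filter fun i : Fin 8 => Nat.testBit (bisMasks.getD k 0) i)ᶜ}

/-- a three-cycle -/
def tri (a b d : Fin 8) : Perm (Fin 8) := Equiv.swap a b * Equiv.swap b d

/-- the generating three-cycles -/
def gen3 (j : ℕ) : Perm (Fin 8) := tri 0 1 (Fin.ofNat 8 (j + 2))

/-- the product of a word in the three-cycles -/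
def word3 (w : List ℕ) : Perm (Fin 8) := w.foldr (fun j r => gen3 j * r) 1

theorem prog_ok : progOK = true := by decide +kernel

theorem z_ok : (pe zI == cert.e cert.z) = true ∧ (pmul (pe yI) (pe yI) == pe zI) = true ∧
    (pmul (pe zI) (pe zI) == idC) = true ∧ (!(pe zI == idC)) = true ∧
    (pmul (pe yI) (pe zI) == pmul (pe zI) (pe yI)) = true := by
  refine ⟨?_, ?_, ?_, ?_, ?_⟩ <;> decide +kernel

theorem invs_ok : (cert.rl.all fun x => !(pmul x x == idC) || x == idC || invs.elem x) = true ∧
    ((invs.zip jI).all fun a => pmul (pe a.2) (pe zI) == pmul a.1 (pe a.2)) = true ∧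
    invs.length = 35 ∧ jI.length = 35 := by
  refine ⟨?_, ?_, ?_, ?_⟩ <;> decide +kernel

theorem fixed_ok : ((List.range 275).filter fun i => nget (pe zI) i == i) = fixed ∧ fixed.length = 35 ∧
    fixed.Nodup ∧ (fixed.all fun p => Nat.blt p 275) = true := by
  refine ⟨?_, ?_, ?_, ?_⟩ <;> decide +kernel

theorem cI_ok : (cI.all fun c => pmul (pe c) (pe zI) == pmul (pe zI) (pe c)) = true ∧ cI.length = 6 := by
  refine ⟨?_, ?_⟩ <;> decide +kernel

theorem hI_ok : (hI.all fun h => nget (pe h) x0 == x0) = true := by decide +kernel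

theorem masks_ok : Hundred.sortedB masks = true ∧ masks.length = 2835 := by
  refine ⟨?_, ?_⟩ <;> decide +kernel

theorem bis_injective : Function.Injective bis := by decide +kernel

theorem bis_cover : ∀ s : Finset (Fin 8), s.card = 4 → ∃ k, bis k = {s, sᶜ} := by decide +kernel

theorem bis_card : ∀ k, (Finset.univ.filter fun i : Fin 8 => Nat.testBit (bisMasks.getD (k : Fin 35) 0) i).card = 4 := by
  decide +kernel

theorem match_ok : ∀ j : Fin 6, ∀ k : Fin 35, ∀ l : Fin 35,
    nget (pe (cI.getD j 0)) (fixed.getD k 0) = fixed.getD l 0 →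
      (bis k).image (Finset.image (gen3 j)) = bis l := by decide +kernel

theorem words_ok : ∀ a b d : Fin 8, a ≠ b → a ≠ d → b ≠ d →
    (∀ j ∈ cycWords.getD (64 * (a : ℕ) + 8 * (b : ℕ) + (d : ℕ)) [], j < 6) ∧
      ∀ i, word3 (cycWords.getD (64 * (a : ℕ) + 8 * (b : ℕ) + (d : ℕ)) []) i = tri a b d i := by decide +kernel

theorem card_K : Nat.card ↥K = 898128000 := simple_mcl_ref.1

theorem finite_K : Finite ↥K := Nat.finite_of_card_ne_zero (by rw [card_K]; norm_num)

theorem start_length : cert.slpStart.length = 3 := gen_pack.2.1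

theorem start_eq : cert.slpStart = genCodes := rfl

attribute [local irreducible] code idC pmul pgo pack nget nmask nlayers cert genCodes progVals fixed classKids invs

theorem exists_pe (i : ℕ) : ∃ g : ↥K, code (act g) = pe i := by
  obtain ⟨hlen, h⟩ : prog.length = progVals.length ∧ ∀ i < prog.length,
      ((prog.getD i (0, 0)).1 < 3 + i ∧ (prog.getD i (0, 0)).2 < 3 + i) ∧
        pmul (pe (prog.getD i (0, 0)).1) (pe (prog.getD i (0, 0)).2) = progVals.getD i 0 := by
    simpa [progOK, List.all_eq_true] using prog_ok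
  have hg3 : genCodes.length = 3 := gen_pack.2.1
  induction i using Nat.strong_induction_on with
  | _ i ih =>
    rcases Nat.lt_or_ge i 3 with hi | hi
    · obtain ⟨g, hg⟩ := exists_gen i hi
      refine ⟨g, ?_⟩
      rw [hg, pe, List.getD_append _ _ _ _ (hg3 ▸ hi), List.getD_eq_getElem _ _ (hg3 ▸ hi),
        List.getD_eq_getElem _ _ (hg3 ▸ hi)]
    · rcases Nat.lt_or_ge (i - 3) prog.length with hj | hj
      · obtain ⟨⟨ha, hb⟩, e⟩ := h _ hj
        obtain ⟨a, ha'⟩ := ih _ (show (prog.getD (i - 3) (0, 0)).1 < i by omega)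
        obtain ⟨b, hb'⟩ := ih _ (show (prog.getD (i - 3) (0, 0)).2 < i by omega)
        refine ⟨a * b, ?_⟩
        rw [map_mul, code_mul, ha', hb', e, pe, List.getD_append_right _ _ _ _ (by omega), hg3,
          List.getD_eq_getElem _ _ (hlen ▸ hj), List.getD_eq_getElem _ _ (hlen ▸ hj)]
      · refine ⟨1, ?_⟩
        rw [map_one, code_one, pe, List.getD_eq_default]
        simp only [List.length_append]
        omega

/-- the elements of the group -/
noncomputable def el (i : ℕ) : ↥K := (exists_pe i).choose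

theorem code_el (i : ℕ) : code (act (el i)) = pe i := (exists_pe i).choose_spec

theorem code_inj {a b : ↥K} (h : code (act a) = code (act b)) : a = b := act_injective (code_injective h)

/-- the involution -/
noncomputable def tz : ↥K := el zI

theorem tz_ne : tz ≠ 1 := fun h => by
  have h' := code_el zI
  rw [show el zI = 1 from h, map_one, code_one] at h'
  have h2 := z_ok.2.2.2.1
  simp [← h'] at h2

theorem tz_sq : tz * tz = 1 := code_inj (by
  rw [map_mul, code_mul, map_one, code_one, tz, code_el]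
  exact beq_iff_eq.1 z_ok.2.2.1)

theorem tz_order : orderOf tz = 2 := orderOf_eq_prime (by rw [pow_two]; exact tz_sq) tz_ne

theorem yI_sq : el yI * el yI = tz := code_inj (by
  rw [map_mul, code_mul, tz, code_el, code_el]
  exact beq_iff_eq.1 z_ok.2.1)

/-- all involutions are conjugate -/
theorem conj_tz (x : ↥K) (hx : orderOf x = 2) : _root_.IsConj tz x := by
  classical
  haveI := finite_K
  obtain ⟨h1, -⟩ : cert.checkR = true ∧ True := ⟨cert_R, trivial⟩
  simp only [Cert.checkR, Bool.and_eq_true, List.all_eq_true, beq_iff_eq, decide_eq_true_eq,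
    List.elem_iff] at h1
  obtain ⟨⟨⟨⟨hlay, hlen⟩, hnd⟩, hone⟩, hclosed⟩ := h1
  have hsl : ∀ s ∈ cert.sl, ∃ g : ↥K, code (act g) = s := by
    have hs : ∀ i, ∃ g : ↥K, code (act g) = cert.e i := by
      obtain ⟨hslen, h⟩ : cert.slp.length = cert.vals.length ∧ ∀ i < cert.slp.length,
          ((cert.slp.getD i (0, 0)).1 < cert.slpStart.length + i ∧
            (cert.slp.getD i (0, 0)).2 < cert.slpStart.length + i) ∧
          pmul (cert.e (cert.slp.getD i (0, 0)).1) (cert.e (cert.slp.getD i (0, 0)).2) = cert.vals.getD i 0 := by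
        simpa [Cert.checkSlp, List.all_eq_true] using cert_slp
      have hg3 : cert.slpStart.length = 3 := start_length
      intro i
      induction i using Nat.strong_induction_on with
      | _ i ih =>
        rcases Nat.lt_or_ge i cert.slpStart.length with hi | hi
        · obtain ⟨g, hg⟩ := exists_gen i (hg3 ▸ hi)
          refine ⟨g, ?_⟩
          rw [hg, Cert.e, Cert.elts, List.getD_append _ _ _ _ hi, start_eq,
            List.getD_eq_getElem _ _ (show i < genCodes.length by rw [← start_eq]; exact hi),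
            List.getD_eq_getElem _ _ (show i < genCodes.length by rw [← start_eq]; exact hi)]
        · rcases Nat.lt_or_ge (i - cert.slpStart.length) cert.slp.length with hj | hj
          · obtain ⟨⟨ha, hb⟩, e⟩ := h _ hj
            obtain ⟨a, ha'⟩ := ih _ (show (cert.slp.getD (i - cert.slpStart.length) (0, 0)).1 < i by omega)
            obtain ⟨b, hb'⟩ := ih _ (show (cert.slp.getD (i - cert.slpStart.length) (0, 0)).2 < i by omega)
            refine ⟨a * b, ?_⟩
            rw [map_mul, code_mul, ha', hb', e, Cert.e, Cert.elts, List.getD_append_right _ _ _ _ hi,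
              List.getD_eq_getElem _ _ (hslen ▸ hj), List.getD_eq_getElem _ _ (hslen ▸ hj)]
          · refine ⟨1, ?_⟩
            rw [map_one, code_one, Cert.e, Cert.elts, List.getD_eq_default]
            simp only [List.length_append]
            omega
    intro s hs'
    simp only [Cert.sl, List.mem_cons, List.not_mem_nil, or_false] at hs'
    rcases hs' with rfl | rfl | rfl <;> exact hs _
  obtain ⟨hR, hRall⟩ := mem_closure_iff (π := act) act_injective cert.sl cert.kids cert.rl hsl hlay hone hclosed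
  set R : Subgroup ↥K := Subgroup.closure {g | code (act g) ∈ cert.sl} with hRdef
  have hRcard : Nat.card R = 2 ^ 7 := by
    rw [show (2 : ℕ) ^ 7 = cert.rl.toFinset.card by rw [List.toFinset_card_of_nodup hnd, hlen]; norm_num,
      ← Nat.card_eq_finsetCard]
    refine Nat.card_congr (Equiv.ofBijective
      (fun σ : R => (⟨code (act σ.1), List.mem_toFinset.2 ((hR _).1 σ.2)⟩ : cert.rl.toFinset)) ⟨?_, ?_⟩)
    · intro σ τ h
      exact Subtype.ext (code_inj (congrArg Subtype.val h))
    · rintro ⟨v, hv⟩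
      obtain ⟨y, hy, e⟩ := hRall v (List.mem_toFinset.1 hv)
      exact ⟨⟨y, hy⟩, Subtype.ext e⟩
  obtain ⟨P, hP⟩ := (IsPGroup.of_card hRcard).exists_le_sylow
  have hPR : (P : Subgroup ↥K) = R := by
    refine (Subgroup.eq_of_le_of_card_ge hP ?_).symm
    obtain ⟨j, hj⟩ := IsPGroup.iff_card.1 P.2
    rw [hRcard, hj]
    have hd : 2 ^ j ∣ 2 ^ 7 * 7016625 := by
      rw [← hj, show 2 ^ 7 * 7016625 = Nat.card ↥K by rw [card_K]; norm_num]
      exact Subgroup.card_subgroup_dvd_card _
    have hco : (2 ^ j).Coprime 7016625 :=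
      (Nat.coprime_two_left.2 (by decide : Odd 7016625)).pow_left j
    exact Nat.le_of_dvd (by norm_num) (hco.dvd_of_dvd_mul_right hd)
  have hxp : IsPGroup 2 (Subgroup.zpowers x) := IsPGroup.of_card (n := 1) (by rw [Nat.card_zpowers, hx]; norm_num)
  obtain ⟨Q, hQ⟩ := hxp.exists_le_sylow
  obtain ⟨w, hw⟩ := MulAction.exists_smul_eq ↥K Q P
  have hxR : w * x * w⁻¹ ∈ R := by
    rw [← hPR, ← hw, Sylow.coe_subgroup_smul]
    exact ⟨x, hQ (Subgroup.mem_zpowers x), rfl⟩
  refine _root_.IsConj.trans (b := w * x * w⁻¹) ?_ (_root_.isConj_iff.2 ⟨w⁻¹, by group⟩)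
  obtain ⟨hall, hpairs, hl1, hl2⟩ := invs_ok
  have hv := List.all_eq_true.1 hall _ ((hR _).1 hxR)
  simp only [Bool.or_eq_true, Bool.not_eq_eq_eq_not, Bool.not_true, beq_eq_false_iff_ne, beq_iff_eq, ne_eq,
    List.elem_iff] at hv
  rcases hv with (hv | hv) | hv
  · refine absurd ?_ hv
    rw [← code_mul, ← map_mul, show w * x * w⁻¹ * (w * x * w⁻¹) = w * (x * x) * w⁻¹ by group,
      show x * x = 1 by rw [← pow_two, ← hx, pow_orderOf_eq_one], mul_one, mul_inv_cancel, map_one, code_one]
  · have h1' : w * x * w⁻¹ = 1 := code_inj (by rw [hv, map_one, code_one])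
    rw [conj_eq_one_iff.1 h1', orderOf_one] at hx
    exact absurd hx (by norm_num)
  · obtain ⟨n, hn, e⟩ := List.mem_iff_getElem.1 hv
    have hn2 : n < jI.length := by rw [hl2, ← hl1]; exact hn
    have hp := List.all_eq_true.1 hpairs (invs[n], jI[n]) (List.mem_iff_getElem.2 ⟨n, by simp; omega, by simp⟩)
    simp only [beq_iff_eq] at hp
    rw [e, ← code_el, ← code_el, ← code_mul, ← code_mul, ← map_mul, ← map_mul] at hp
    refine _root_.isConj_iff.2 ⟨el (jI[n]), ?_⟩
    rw [mul_inv_eq_iff_eq_mul]
    exact code_inj hp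

/-- the centralizer -/
abbrev Cz : Subgroup ↥K := Subgroup.centralizer ({tz} : Set ↥K)

theorem mem_fixed (p : Fin 275) : (p : ℕ) ∈ fixed ↔ act tz p = p := by
  rw [← fixed_ok.1, List.mem_filter, beq_iff_eq, List.mem_range, ← code_el zI, nget_code _ p.2]
  exact ⟨fun h => Fin.ext h.2, fun h => ⟨p.2, congrArg Fin.val h⟩⟩

/-- the numbered fixed point -/
def fpt (k : Fin 35) : Fin 275 := Fin.ofNat 275 (fixed.getD k 0)

theorem fixed_get (k : Fin 35) : fixed.getD k 0 ∈ fixed ∧ fixed.getD k 0 < 275 := by
  have hk : (k : ℕ) < fixed.length := by rw [fixed_ok.2.1]; exact k.2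
  have hm : fixed.getD k 0 ∈ fixed := by rw [List.getD_eq_getElem _ _ hk]; exact List.getElem_mem hk
  exact ⟨hm, by simpa using List.all_eq_true.1 fixed_ok.2.2.2 _ hm⟩

theorem fpt_val (k : Fin 35) : (fpt k : ℕ) = fixed.getD k 0 := Nat.mod_eq_of_lt (fixed_get k).2

theorem fpt_fix (k : Fin 35) : act tz (fpt k) = fpt k :=
  (mem_fixed _).1 (by rw [fpt_val]; exact (fixed_get k).1)

theorem fpt_injective : Function.Injective fpt := by
  intro a b h
  have e := congrArg Fin.val h
  rw [fpt_val, fpt_val, List.getD_eq_getElem _ _ (by rw [fixed_ok.2.1]; exact a.2),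
    List.getD_eq_getElem _ _ (by rw [fixed_ok.2.1]; exact b.2)] at e
  exact Fin.ext ((fixed_ok.2.2.1.getElem_inj_iff).1 e)

theorem fpt_surj (p : Fin 275) (hp : act tz p = p) : ∃ k, fpt k = p := by
  obtain ⟨n, hn, e⟩ := List.mem_iff_getElem.1 ((mem_fixed p).2 hp)
  refine ⟨⟨n, fixed_ok.2.1 ▸ hn⟩, Fin.ext ?_⟩
  rw [fpt_val]
  exact (List.getD_eq_getElem _ _ hn).trans e

theorem comm_fix {c : ↥K} (hc : c ∈ Cz) {p : Fin 275} (hp : act tz p = p) : act tz (act c p) = act c p := by
  rw [← Equiv.Perm.mul_apply, ← map_mul, ← Subgroup.mem_centralizer_singleton_iff.1 hc, map_mul,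
    Equiv.Perm.mul_apply, hp]

/-- the action of one element on the numbered fixed points -/
noncomputable def fimg (c : ↥Cz) (k : Fin 35) : Fin 35 := (fpt_surj _ (comm_fix c.2 (fpt_fix k))).choose

theorem fpt_fimg (c : ↥Cz) (k : Fin 35) : fpt (fimg c k) = act c.1 (fpt k) :=
  (fpt_surj _ (comm_fix c.2 (fpt_fix k))).choose_spec

/-- the action on the fixed points -/
noncomputable def phi : ↥Cz →* Perm (Fin 35) :=
  MonoidHom.toHomPerm
    { toFun := fimg
      map_one' := funext fun k => fpt_injective (by rw [fpt_fimg, OneMemClass.coe_one, map_one]; rfl)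
      map_mul' := fun a b => funext fun k => fpt_injective (by
        rw [fpt_fimg, MulMemClass.coe_mul, map_mul, Equiv.Perm.mul_apply, ← fpt_fimg b, ← fpt_fimg a]
        rfl) }

theorem phi_apply (c : ↥Cz) (k : Fin 35) : fpt (phi c k) = act c.1 (fpt k) := fpt_fimg c k

theorem image_bis (σ : Perm (Fin 8)) (k : Fin 35) : ∃ l, (bis k).image (Finset.image σ) = bis l := by
  set s := Finset.univ.filter fun i : Fin 8 => Nat.testBit (bisMasks.getD (k : Fin 35) 0) i
  obtain ⟨l, hl⟩ := bis_cover (s.image σ) (by rw [Finset.card_image_of_injective _ σ.injective]; exact bis_card k)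
  refine ⟨l, ?_⟩
  rw [hl, bis, Finset.image_insert, Finset.image_singleton]
  congr 2
  ext i
  show i ∈ sᶜ.image σ ↔ i ∈ (s.image σ)ᶜ
  simp only [Finset.mem_image, Finset.mem_compl]
  constructor
  · rintro ⟨a, ha, rfl⟩ ⟨b, hb, e⟩
    exact ha (σ.injective e ▸ hb)
  · intro h
    exact ⟨σ.symm i, fun hh => h ⟨_, hh, σ.apply_symm_apply i⟩, σ.apply_symm_apply i⟩

/-- the action on bisections of one permutation -/
noncomputable def bimg (σ : Perm (Fin 8)) (k : Fin 35) : Fin 35 := (image_bis σ k).choose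

theorem bis_bimg (σ : Perm (Fin 8)) (k : Fin 35) : bis (bimg σ k) = (bis k).image (Finset.image σ) :=
  (image_bis σ k).choose_spec.symm

/-- the alternating group on bisections -/
noncomputable def psi : ↥(alternatingGroup (Fin 8)) →* Perm (Fin 35) :=
  MonoidHom.toHomPerm
    { toFun := fun σ => bimg σ.1
      map_one' := funext fun k => bis_injective (by
        rw [bis_bimg, OneMemClass.coe_one,
          show Finset.image ⇑(1 : Perm (Fin 8)) = id from funext fun s => by simp, Finset.image_id]
        rfl)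
      map_mul' := fun a b => funext fun k => bis_injective (by
        show bis (bimg (a * b).1 k) = bis (bimg a.1 (bimg b.1 k))
        rw [bis_bimg, bis_bimg, bis_bimg, Finset.image_image, MulMemClass.coe_mul]
        congr 1
        funext s
        simp [Finset.image_image]) }

theorem psi_apply (σ : ↥(alternatingGroup (Fin 8))) (k : Fin 35) :
    bis (psi σ k) = (bis k).image (Finset.image σ.1) := bis_bimg σ.1 k

theorem gen3_mem (j : ℕ) (hj : j < 6) : gen3 j ∈ alternatingGroup (Fin 8) := by
  rw [Equiv.Perm.mem_alternatingGroup]; interval_cases j <;> decide +kernel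

theorem gen3_image (j : ℕ) (hj : j < 6) : ∃ c : ↥Cz, phi c = psi ⟨gen3 j, gen3_mem j hj⟩ := by
  have hj' : j < cI.length := by rw [cI_ok.2]; exact hj
  have hmem : el (cI.getD j 0) ∈ Cz := Subgroup.mem_centralizer_singleton_iff.2 (code_inj (by
    rw [map_mul, map_mul, code_mul, code_mul, code_el, tz, code_el, List.getD_eq_getElem _ _ hj']
    exact beq_iff_eq.1 (List.all_eq_true.1 cI_ok.1 _ (List.getElem_mem hj'))))
  refine ⟨⟨_, hmem⟩, Equiv.ext fun k => bis_injective ?_⟩
  rw [psi_apply]
  refine (match_ok ⟨j, hj⟩ k (phi ⟨_, hmem⟩ k) ?_).symm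
  have e := congrArg Fin.val (phi_apply ⟨_, hmem⟩ k)
  rw [fpt_val, ← nget_code _ (fpt k).2, code_el, fpt_val] at e
  exact e.symm

theorem psi_range_le : psi.range ≤ phi.range := by
  let H : Subgroup (Perm (Fin 8)) := (phi.range.comap psi).map (alternatingGroup (Fin 8)).subtype
  have hgen : ∀ w : List ℕ, (∀ j ∈ w, j < 6) → word3 w ∈ H := by
    intro w
    induction w with
    | nil => exact fun _ => one_mem _
    | cons j w ih =>
      intro hw
      show gen3 j * word3 w ∈ H
      refine mul_mem ?_ (ih fun i hi => hw i (List.mem_cons_of_mem _ hi))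
      obtain ⟨c, hc⟩ := gen3_image j (hw j List.mem_cons_self)
      exact ⟨⟨gen3 j, gen3_mem j (hw j List.mem_cons_self)⟩, ⟨c, hc⟩, rfl⟩
  have htop : alternatingGroup (Fin 8) ≤ H := by
    rw [← Equiv.Perm.closure_three_cycles_eq_alternating, Subgroup.closure_le]
    intro f hf
    obtain ⟨a, ha⟩ : ∃ a, a ∈ f.support := Finset.card_pos.1 (by rw [hf.card_support]; norm_num)
    have hnd := hf.nodup_iff_mem_support.2 ha
    simp only [List.nodup_cons, List.mem_cons, List.not_mem_nil, or_false, not_or, List.nodup_nil, not_false_eq_true,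
      and_true] at hnd
    obtain ⟨⟨h1, h2⟩, h3⟩ := hnd
    obtain ⟨hw, hwi⟩ := words_ok a (f a) (f (f a)) h1 h2 h3
    rw [SetLike.mem_coe, (hf.eq_swap_mul_swap_iff_mem_support).2 ha,
      show Equiv.swap a (f a) * Equiv.swap (f a) (f (f a)) = tri a (f a) (f (f a)) from rfl,
      ← Equiv.ext hwi]
    exact hgen _ hw
  rintro _ ⟨σ, rfl⟩
  obtain ⟨τ, hτ, e⟩ := htop σ.2
  exact Subtype.ext e ▸ hτ

theorem psi_injective : Function.Injective psi := by
  haveI : IsSimpleGroup ↥(alternatingGroup (Fin 8)) := alternatingGroup.isSimpleGroup (by simp)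
  rcases Subgroup.Normal.eq_bot_or_eq_top (inferInstance : psi.ker.Normal) with h | h
  · exact (MonoidHom.ker_eq_bot_iff psi).1 h
  · exfalso
    have h1 : psi ⟨gen3 0, gen3_mem 0 (by norm_num)⟩ = 1 := MonoidHom.mem_ker.1 (h ▸ Subgroup.mem_top _)
    have hne : ∃ k, (bis k).image (Finset.image (gen3 0)) ≠ bis k := by decide +kernel
    obtain ⟨k, hk⟩ := hne
    exact hk (by rw [← psi_apply ⟨gen3 0, gen3_mem 0 (by norm_num)⟩ k, h1]; rfl)

theorem card_alt8 : Nat.card ↥(alternatingGroup (Fin 8)) = 20160 := by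
  have h := two_mul_card_alternatingGroup (α := Fin 8)
  rw [Fintype.card_perm, Fintype.card_fin, show Nat.factorial 8 = 40320 from rfl] at h
  rw [Nat.card_eq_fintype_card]
  omega

theorem act_transitive (p q : Fin 275) : ∃ g : ↥K, act g p = q := by
  have hsym : ∀ i, ∃ g : ↥K, (((g : ↥Co0) • (⟨mclPt, mclPt_mem.1.1⟩ : ↥leechLattice) : ↥leechLattice) : GolayPt → ℤ)
      = vecOf (rows.getD (i : Fin 275) []) := by
    intro i
    obtain ⟨ha, g, hg, e⟩ := mcl_orbits.1 _ (row_mem i)
    exact ⟨⟨g, Subgroup.mem_inf.2 ⟨hg.1, hg.2⟩⟩, e⟩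
  obtain ⟨a, ha⟩ := hsym p
  obtain ⟨b, hb⟩ := hsym q
  refine ⟨b * a⁻¹, act_eq ?_⟩
  have hp : (point p).1 = (a : ↥Co0) • (⟨mclPt, mclPt_mem.1.1⟩ : ↥leechLattice) := Subtype.ext ha.symm
  rw [hp, Subgroup.coe_mul, Subgroup.coe_inv, mul_smul, inv_smul_smul]
  exact hb

theorem card_Cz_le : Nat.card ↥Cz ≤ 40320 := by
  classical
  haveI := finite_K
  letI : MulAction ↥K (Fin 275) := MulAction.compHom (Fin 275) act
  have hsmul : ∀ (g : ↥K) (p : Fin 275), g • p = act g p := fun _ _ => rfl
  set x : Fin 275 := fpt 0 with hx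
  set Gx : Subgroup ↥K := MulAction.stabilizer ↥K x with hGx
  haveI : MulAction.IsPretransitive ↥K (Fin 275) := ⟨fun p q => act_transitive p q⟩
  have hGxcard : Nat.card Gx * 275 = 898128000 := by
    have h := Gx.card_mul_index
    rw [hGx, MulAction.index_stabilizer_of_transitive, Nat.card_fin, card_K] at h
    exact h
  have htx : tz ∈ Gx := MulAction.mem_stabilizer_iff.2 (fpt_fix 0)
  let t' : Gx := ⟨tz, htx⟩
  -- the class in the point stabilizer
  have hclass : 2835 ≤ Nat.card {y : Gx // _root_.IsConj t' y} := by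
    obtain ⟨hsort, hlen⟩ := masks_ok
    have hnd : masks.Nodup := (Hundred.nodup_of_sortedB hsort).imp fun h => ne_of_lt h
    have hmasks : ∀ v ∈ masks, ∃ g : Gx, ∀ j, v.testBit j = true ↔ ∃ k : Fin 35, (act g.1 (fpt k) : ℕ) = j := by
      intro v hv
      obtain ⟨L, hL, hvL⟩ := List.mem_flatten.1 (Hundred.mergeAll_subset _ _ v hv)
      obtain ⟨n, hn, rfl⟩ := List.mem_map.1 hL
      rw [List.mem_singleton.1 hvL]
      obtain ⟨g, hg⟩ : ∃ g : Gx, ∀ i < 35, nget n i = act g.1 (fpt (Fin.ofNat 35 i)) := by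
        refine nlayers_all (P := fun n => ∃ g : Gx, ∀ i < 35, nget n i = act g.1 (fpt (Fin.ofNat 35 i)))
          (fun m n hn => ?_) classKids _ (fun n hn => ?_) n hn
        · obtain ⟨g, hg⟩ := hn
          obtain ⟨h, hh⟩ : ∃ h : Gx, code (act h.1) = (hI.map pe).getD m idC := by
            rcases lt_or_ge m (hI.map pe).length with hm | hm
            · have hm' : m < hI.length := by simpa using hm
              refine ⟨⟨el hI[m], MulAction.mem_stabilizer_iff.2 (Fin.ext ?_)⟩, ?_⟩
              · rw [hsmul, ← nget_code _ x.2, code_el, hx, fpt_val]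
                exact beq_iff_eq.1 (List.all_eq_true.1 hI_ok _ (List.getElem_mem hm'))
              · rw [code_el, List.getD_eq_getElem _ _ hm, List.getElem_map]
            · exact ⟨1, by rw [OneMemClass.coe_one, map_one, code_one, List.getD_eq_default _ _ hm]⟩
          refine ⟨h * g, fun i hi => ?_⟩
          rw [← hh, pgo_eq, nget_pack _ (fun y hy => ?_), List.getD_eq_getElem _ _ (by simpa using hi),
            List.getElem_map, List.getElem_range, hg i hi, nget_code _ (act g.1 (fpt (Fin.ofNat 35 i))).2,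
            MulMemClass.coe_mul, map_mul, Equiv.Perm.mul_apply]
          obtain ⟨j, hj, rfl⟩ := List.mem_map.1 hy
          rw [hg j (List.mem_range.1 hj), nget_code _ (act g.1 (fpt (Fin.ofNat 35 j))).2]
          exact lt_trans (act h.1 _).2 (by norm_num)
        · refine ⟨1, fun i hi => ?_⟩
          rw [List.mem_singleton.1 hn, nget_pack _ (fun y hy => ?_), OneMemClass.coe_one, map_one,
            Equiv.Perm.one_apply, fpt_val]
          · congr 1
            exact (Nat.mod_eq_of_lt hi).symm
          · exact lt_trans (by simpa using List.all_eq_true.1 fixed_ok.2.2.2 _ hy) (by norm_num : (275 : ℕ) < 512)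
      refine ⟨g, fun j => ?_⟩
      rw [testBit_nmask]
      constructor
      · rintro ⟨i, hi, h⟩
        exact ⟨_, (hg i hi).symm.trans h⟩
      · rintro ⟨k, h⟩
        refine ⟨k, k.2, (hg k k.2).trans ?_⟩
        rw [show Fin.ofNat 35 (k : ℕ) = k from Fin.ext (Nat.mod_eq_of_lt k.2)]
        exact h
    choose g hg using hmasks
    have hcardM : masks.toFinset.card = 2835 := by rw [List.toFinset_card_of_nodup hnd, hlen]
    rw [← hcardM, ← Nat.card_eq_finsetCard]
    refine Nat.card_le_card_of_injective (fun v : masks.toFinset =>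
      (⟨g v.1 (List.mem_toFinset.1 v.2) * t' * (g v.1 (List.mem_toFinset.1 v.2))⁻¹,
        _root_.isConj_iff.2 ⟨_, rfl⟩⟩ : {y : Gx // _root_.IsConj t' y})) fun v w h => Subtype.ext ?_
    set a := g v.1 (List.mem_toFinset.1 v.2)
    set b := g w.1 (List.mem_toFinset.1 w.2)
    have he : a.1 * tz * a.1⁻¹ = b.1 * tz * b.1⁻¹ := congrArg Subtype.val (congrArg Subtype.val h)
    have key : ∀ (u : ↥K) (j : ℕ), (∃ k : Fin 35, (act u (fpt k) : ℕ) = j) ↔
        ∃ p : Fin 275, act (u * tz * u⁻¹) p = p ∧ (p : ℕ) = j := by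
      intro u j
      constructor
      · rintro ⟨k, rfl⟩
        exact ⟨act u (fpt k), by
          rw [← Equiv.Perm.mul_apply, ← map_mul, inv_mul_cancel_right, map_mul, Equiv.Perm.mul_apply, fpt_fix], rfl⟩
      · rintro ⟨p, hp, rfl⟩
        obtain ⟨k, hk⟩ := fpt_surj (act u⁻¹ p) (by
          have := congrArg (act u⁻¹) hp
          rwa [← Equiv.Perm.mul_apply, ← map_mul, show u⁻¹ * (u * tz * u⁻¹) = tz * u⁻¹ by group, map_mul,
            Equiv.Perm.mul_apply] at this)
        exact ⟨k, by rw [hk, ← Equiv.Perm.mul_apply, ← map_mul, mul_inv_cancel, map_one]; rfl⟩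
    refine Nat.eq_of_testBit_eq fun j => Bool.eq_iff_iff.2 ?_
    rw [hg v.1 (List.mem_toFinset.1 v.2) j, hg w.1 (List.mem_toFinset.1 w.2) j, key, key, he]
  -- the centralizer in the point stabilizer
  have hCx : Nat.card (Subgroup.centralizer ({t'} : Set Gx)) ≤ 1152 := by
    have horb : Nat.card (MulAction.orbit (ConjAct Gx) t') * Nat.card (MulAction.stabilizer (ConjAct Gx) t') =
        Nat.card Gx := by
      rw [← Nat.card_prod]
      exact Nat.card_congr (MulAction.orbitProdStabilizerEquivGroup (ConjAct Gx) t')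
    have e1 : Nat.card (MulAction.orbit (ConjAct Gx) t') = Nat.card {y // _root_.IsConj t' y} :=
      Nat.card_congr (Equiv.subtypeEquivRight fun y => by rw [ConjAct.mem_orbit_conjAct]; exact isConj_comm)
    have e2 : Nat.card (MulAction.stabilizer (ConjAct Gx) t') = Nat.card (Subgroup.centralizer ({t'} : Set Gx)) := by
      rw [ConjAct.stabilizer_eq_centralizer]
      exact Nat.card_congr (Equiv.refl _)
    rw [e1, e2] at horb
    have h2 := Nat.mul_le_mul_right (Nat.card (Subgroup.centralizer ({t'} : Set Gx))) hclass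
    rw [horb] at h2
    omega
  have horb : Nat.card (MulAction.orbit ↥Cz x) ≤ 35 := by
    rw [← Nat.card_fin 35]
    have hm : ∀ p : MulAction.orbit ↥Cz x, ∃ k, fpt k = p.1 := fun ⟨p, c, hc⟩ =>
      fpt_surj p (hc ▸ comm_fix c.2 (fpt_fix 0))
    choose k hk using hm
    exact Nat.card_le_card_of_injective k fun p q h => Subtype.ext (by rw [← hk p, ← hk q, h])
  have hstab : Nat.card (MulAction.stabilizer ↥Cz x) ≤ 1152 := by
    refine le_trans (Nat.card_le_card_of_injective
      (fun c : MulAction.stabilizer ↥Cz x => (⟨⟨c.1.1, c.2⟩, Subgroup.mem_centralizer_singleton_iff.2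
        (Subtype.ext (Subgroup.mem_centralizer_singleton_iff.1 c.1.2))⟩ : Subgroup.centralizer ({t'} : Set Gx)))
      fun c d h => Subtype.ext (Subtype.ext (congrArg (fun v => (v.1 : Gx).1) h))) hCx
  calc Nat.card ↥Cz = Nat.card (MulAction.orbit ↥Cz x) * Nat.card (MulAction.stabilizer ↥Cz x) := by
        rw [← Nat.card_prod]
        exact (Nat.card_congr (MulAction.orbitProdStabilizerEquivGroup ↥Cz x)).symm
    _ ≤ 35 * 1152 := Nat.mul_le_mul horb hstab
    _ = 40320 := by norm_num

theorem tz_mem : tz ∈ Cz := Subgroup.mem_centralizer_singleton_iff.2 rfl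

/-- the involution in its centralizer -/
noncomputable def tC : ↥Cz := ⟨tz, tz_mem⟩

theorem centralizer_cover : IsNonsplitDoubleCover ↥Cz ↥(alternatingGroup (Fin 8)) := by
  classical
  haveI := finite_K
  have htC : tC ≠ 1 := fun h => tz_ne (congrArg Subtype.val h)
  have htC2 : tC * tC = 1 := Subtype.ext tz_sq
  have htker : tC ∈ phi.ker := MonoidHom.mem_ker.2 (Equiv.ext fun k => fpt_injective (by
    rw [phi_apply]; exact fpt_fix k))
  have hr1 : 20160 ≤ Nat.card phi.range := by
    rw [← card_alt8, Nat.card_congr (MonoidHom.ofInjective psi_injective).toEquiv]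
    exact Subgroup.card_le_of_le psi_range_le
  have hprod : Nat.card phi.ker * Nat.card phi.range = Nat.card ↥Cz := by
    rw [← Subgroup.index_ker]
    exact phi.ker.card_mul_index
  have hk2 : 2 ≤ Nat.card phi.ker := by
    haveI : Nontrivial phi.ker := ⟨⟨⟨tC, htker⟩, 1, fun h => htC (congrArg Subtype.val h)⟩⟩
    exact Finite.one_lt_card
  have hle := card_Cz_le
  rw [← hprod] at hle
  have hker : Nat.card phi.ker = 2 := by nlinarith
  have hrange : psi.range = phi.range := Subgroup.eq_of_le_of_card_ge psi_range_le (by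
    rw [← Nat.card_congr (MonoidHom.ofInjective psi_injective).toEquiv, card_alt8]
    rw [hker] at hle
    omega)
  have hker_eq : phi.ker = Subgroup.zpowers tC := by
    refine (Subgroup.eq_of_le_of_card_ge (Subgroup.zpowers_le.2 htker) ?_).symm
    rw [hker, Nat.card_zpowers, orderOf_eq_prime (p := 2) (by rw [pow_two]; exact htC2) htC]
  have hcenter : Subgroup.center ↥Cz = phi.ker := by
    apply le_antisymm
    · intro c hc
      obtain ⟨σ, hσ⟩ : phi c ∈ psi.range := hrange ▸ ⟨c, rfl⟩
      have hσc : σ ∈ Subgroup.center ↥(alternatingGroup (Fin 8)) := Subgroup.mem_center_iff.2 fun τ => by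
        obtain ⟨d, hd⟩ : psi τ ∈ phi.range := psi_range_le ⟨τ, rfl⟩
        apply psi_injective
        rw [map_mul, map_mul, hσ, ← hd, ← map_mul, ← map_mul, Subgroup.mem_center_iff.1 hc d]
      haveI : IsSimpleGroup ↥(alternatingGroup (Fin 8)) := alternatingGroup.isSimpleGroup (by simp)
      have hσ1 : σ = 1 := by
        rcases Subgroup.Normal.eq_bot_or_eq_top (inferInstance : (Subgroup.center ↥(alternatingGroup (Fin 8))).Normal)
          with h | h
        · exact Subgroup.mem_bot.1 (h ▸ hσc)
        · exfalso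
          have hcomm := Subgroup.mem_center_iff.1 (h ▸ Subgroup.mem_top
            (⟨gen3 0, gen3_mem 0 (by norm_num)⟩ : ↥(alternatingGroup (Fin 8)))) ⟨gen3 1, gen3_mem 1 (by norm_num)⟩
          have hne : ∃ i, (gen3 1 * gen3 0) i ≠ (gen3 0 * gen3 1) i := by decide +kernel
          obtain ⟨i, hi⟩ := hne
          exact hi (congrArg (fun v : ↥(alternatingGroup (Fin 8)) => v.1 i) hcomm)
      rw [MonoidHom.mem_ker, ← hσ, hσ1, map_one]
    · rw [hker_eq, Subgroup.zpowers_le, Subgroup.mem_center_iff]
      exact fun g => Subtype.ext (Subgroup.mem_centralizer_singleton_iff.1 g.2)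
  refine ⟨hcenter ▸ hker, ⟨?_⟩, fun L hL => ?_⟩
  · refine (QuotientGroup.quotientMulEquivOfEq hcenter).trans
      ((QuotientGroup.quotientKerEquivRange phi).trans
        ((MulEquiv.subgroupCongr hrange.symm).trans (MonoidHom.ofInjective psi_injective).symm))
  · have hidx : L.index = 2 := by rw [hL.index_eq_card, hcenter, hker]
    haveI := Subgroup.normal_of_index_eq_two hidx
    have hy : el yI ∈ Cz := Subgroup.mem_centralizer_singleton_iff.2 (by
      rw [← yI_sq, mul_assoc])
    have htL : tC ∈ L := by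
      have := Subgroup.sq_mem_of_index_two hidx ⟨el yI, hy⟩
      rwa [show (⟨el yI, hy⟩ : ↥Cz) ^ 2 = tC from Subtype.ext (by rw [pow_two]; exact yI_sq)] at this
    have htc : tC ∈ Subgroup.center ↥Cz := hcenter ▸ htker
    exact htC (Subgroup.mem_bot.1 (hL.disjoint.le_bot ⟨htc, htL⟩))

/-- The statement for the McLaughlin group. -/
theorem mcl_involutions :
    (∀ x y : ↥Cfsg.Spor.McL, orderOf x = 2 → orderOf y = 2 → _root_.IsConj x y) ∧
      ∃ t : ↥Cfsg.Spor.McL, orderOf t = 2 ∧
        IsNonsplitDoubleCover ↥(Subgroup.centralizer ({t} : Set ↥Cfsg.Spor.McL)) ↥(alternatingGroup (Fin 8)) := by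
  refine ⟨fun x y hx hy => ?_, mclEquiv.symm tz, by rw [MulEquiv.orderOf_eq, tz_order], ?_⟩
  · have h := (conj_tz (mclEquiv x) (by rw [MulEquiv.orderOf_eq, hx])).symm.trans
      (conj_tz (mclEquiv y) (by rw [MulEquiv.orderOf_eq, hy]))
    have h' := mclEquiv.symm.toMonoidHom.map_isConj h
    simpa using h'
  · obtain ⟨h1, ⟨E⟩, h3⟩ := centralizer_cover
    let F : ↥Cz ≃* ↥(Subgroup.centralizer ({mclEquiv.symm tz} : Set ↥Cfsg.Spor.McL)) :=
      { toFun := fun c => ⟨mclEquiv.symm c.1, Subgroup.mem_centralizer_singleton_iff.2 (by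
          rw [← map_mul, ← map_mul, Subgroup.mem_centralizer_singleton_iff.1 c.2])⟩
        invFun := fun d => ⟨mclEquiv d.1, Subgroup.mem_centralizer_singleton_iff.2 (by
          have e := congrArg mclEquiv (Subgroup.mem_centralizer_singleton_iff.1 d.2)
          simpa using e)⟩
        left_inv := fun c => Subtype.ext (mclEquiv.apply_symm_apply _)
        right_inv := fun d => Subtype.ext (mclEquiv.symm_apply_apply _)
        map_mul' := fun a b => Subtype.ext (map_mul _ _ _) }
    have hc : (Subgroup.center ↥Cz).map F.toMonoidHom = Subgroup.center _ := by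
      ext y
      rw [Subgroup.mem_map_equiv, Subgroup.mem_center_iff, Subgroup.mem_center_iff]
      constructor
      · intro h g
        have e := congrArg F (h (F.symm g))
        simpa using e
      · intro h g
        apply F.injective
        simpa using h (F g)
    refine ⟨?_, ⟨(QuotientGroup.congr _ _ F hc).symm.trans E⟩, fun L hL => ?_⟩
    · rw [← hc, Subgroup.card_map_of_injective F.injective]
      exact h1
    · refine h3 (L.comap F.toMonoidHom) ?_
      have e : Subgroup.center ↥Cz = (Subgroup.center _).comap F.toMonoidHom := by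
        rw [← hc, Subgroup.comap_map_eq_self_of_injective F.injective]
      rw [e]
      haveI := finite_K
      refine Subgroup.isComplement'_of_card_mul_and_disjoint ?_ ?_
      · have hm : ∀ S : Subgroup ↥(Subgroup.centralizer ({mclEquiv.symm tz} : Set ↥Cfsg.Spor.McL)),
            Nat.card (S.comap F.toMonoidHom) = Nat.card S := fun S =>
          Nat.card_congr (F.toEquiv.subtypeEquiv fun _ => Subgroup.mem_comap)
        rw [hm, hm, hL.card_mul, Nat.card_congr F.toEquiv]
      · rw [disjoint_iff, ← Subgroup.comap_inf, hL.disjoint.eq_bot]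
        exact (MonoidHom.ker_eq_bot_iff F.toMonoidHom).2 F.injective

end Cfsg.Agent.Local.FS.McLSmall.Cent
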