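import Cfsg.Agent.Lib.Spor.MclRank
import Cfsg.Agent.Lib.Local.FS.McLPerm
import Cfsg.Agent.Lib.Local.FS.McLSmallData
import Cfsg.Prelude.Def_Spor_Conway

/-!
The two-fusion system of the McLaughlin group is simple.
-/

set_option autoImplicit false
set_option maxRecDepth 100000

namespace Cfsg.Agent.Local.FS.McLSmall

open Cfsg Cfsg.Agent.Spor

local notation "Zv" => GolayPt → ℤ

/-- the word of a generator -/
def genWord (k : ℕ) : List LOp := [HsRank.genW 0, HsRank.genW 1, MclRank.extraW].getD k []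

theorem rows_cover : (mclList.all fun l => rows.elem l) = true ∧ (rows.length == 275) = true := by
  refine ⟨?_, ?_⟩ <;> decide +kernel

theorem rows_ok : (rows.length == 275) = true ∧ rows.Nodup ∧ (rows.all fun l => mclList.elem l) = true ∧
    (mclList.all fun l => rows.elem l) = true := by
  obtain ⟨hall, hlen⟩ := rows_cover
  obtain ⟨hnd, hl, -⟩ := mcl_data
  have hp : mclList.Perm rows := (List.subperm_of_subset hnd fun l hl => by
    simpa using List.all_eq_true.1 hall l hl).perm_of_length_le (by rw [hl, beq_iff_eq.1 hlen])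
  exact ⟨hlen, hp.nodup_iff.1 hnd, by simp [List.all_eq_true, hp.mem_iff], hall⟩

theorem gen_maps : ((List.range 3).all fun k => (List.range 275).all fun i =>
    Nat.blt (nget (genCodes.getD k 0) i) 275 &&
      fword (genWord k) (rows.getD i []) == rows.getD (nget (genCodes.getD k 0) i) []) = true := by decide +kernel

theorem gen_pack : ((List.range 3).all fun k =>
    genCodes.getD k 0 == pack ((List.range 275).map fun i => nget (genCodes.getD k 0) i)) = true ∧
      genCodes.length = 3 ∧ ¬ genCodes.getD 0 0 = idC := by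
  refine ⟨?_, ?_, ?_⟩ <;> decide +kernel

theorem cert_slp : cert.checkSlp = true := by decide +kernel
theorem cert_R : cert.checkR = true := by decide +kernel
theorem cert_center : cert.checkCenter = true := by decide +kernel
theorem cert_phi : cert.checkPhi = true := by decide +kernel
theorem cert_keys : cert.checkKeys = true := by decide +kernel
theorem cert_pts : cert.checkPts = true := by decide +kernel
theorem cert_steps : cert.checkSteps = true := by decide +kernel

theorem rowOf_vecOf {l : List ℤ} (hl : l ∈ mclList) : rowOf (vecOf l) = l := by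
  have hl' := (List.mem_filter.1 hl).1
  simp only [mclCands, List.mem_append, List.mem_map] at hl'
  rcases hl' with ((⟨j, -, rfl⟩ | ⟨m, -, rfl⟩) | ⟨m, -, rfl⟩) | ⟨j, -, rfl⟩ <;> rw [vecOf_rowOf]

theorem rows_mem (i : Fin 275) : rows.getD i [] ∈ mclList := by
  obtain ⟨hlen, -, hin, -⟩ := rows_ok
  rw [List.all_eq_true] at hin
  have hi : (i : ℕ) < rows.length := by rw [beq_iff_eq.1 hlen]; exact i.2
  have := hin _ (List.getElem_mem hi)
  rw [List.getD_eq_getElem _ _ hi]
  simpa [List.elem_iff] using this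

theorem row_mem (i : Fin 275) : vecOf (rows.getD i []) ∈ mcl275 :=
  mcl275_iff.2 (by rw [rowOf_vecOf (rows_mem i)]; exact rows_mem i)

/-- the numbered point -/
noncomputable def point (i : Fin 275) : {y : ↥leechLattice // (y : Zv) ∈ mcl275} :=
  ⟨⟨vecOf (rows.getD i []), (row_mem i).1.1⟩, row_mem i⟩

theorem point_bijective : Function.Bijective point := by
  obtain ⟨hlen, hnd, -, hall⟩ := rows_ok
  have hlen := beq_iff_eq.1 hlen
  constructor
  · intro i j h
    have e : vecOf (rows.getD i []) = vecOf (rows.getD j []) := congrArg (fun y => ((y : ↥leechLattice) : Zv)) (congrArg Subtype.val h)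
    have e' := congrArg rowOf e
    rw [rowOf_vecOf (rows_mem i), rowOf_vecOf (rows_mem j), List.getD_eq_getElem _ _ (by rw [hlen]; exact i.2),
      List.getD_eq_getElem _ _ (by rw [hlen]; exact j.2)] at e'
    exact Fin.ext ((hnd.getElem_inj_iff).1 e')
  · rintro ⟨⟨y, hy'⟩, hy⟩
    have h := List.all_eq_true.1 hall _ (mcl275_iff.1 hy)
    obtain ⟨n, hn, e⟩ := List.mem_iff_getElem.1 (List.elem_iff.1 h)
    refine ⟨⟨n, hlen ▸ hn⟩, Subtype.ext (Subtype.ext ?_)⟩
    show vecOf (rows.getD n []) = y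
    rw [List.getD_eq_getElem _ _ hn, e, vecOf_rowOf]

/-- the group -/
abbrev K : Subgroup ↥Co0 := pairStab mclVec

theorem fix_of_mem {g : ↥Co0} (hg : g ∈ K) : MFix g := by
  exact ⟨(Subgroup.mem_inf.1 hg).1, (Subgroup.mem_inf.1 hg).2⟩

theorem preserves {g : ↥Co0} (hg : g ∈ K) (y : {y : ↥leechLattice // (y : Zv) ∈ mcl275}) :
    ((g • y.1 : ↥leechLattice) : Zv) ∈ mcl275 := by
  obtain ⟨h1, h2⟩ := fix_of_mem hg
  obtain ⟨⟨ha, hb, hc⟩, hd⟩ := y.2
  refine ⟨⟨(g • y.1).2, (g.2.2 _).trans hb, ?_⟩, ?_⟩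
  · have := co0_dot g refU y.1
    rw [h1] at this
    exact this.trans hc
  · have := co0_dot g mclVec y.1
    rw [h2] at this
    exact this.trans hd

/-- the action on the configuration -/
noncomputable def actC : ↥K →* Equiv.Perm {y : ↥leechLattice // (y : Zv) ∈ mcl275} where
  toFun g :=
    { toFun := fun y => ⟨(g : ↥Co0) • y.1, preserves g.2 y⟩
      invFun := fun y => ⟨((g⁻¹ : ↥K) : ↥Co0) • y.1, preserves (g⁻¹).2 y⟩
      left_inv := fun y => Subtype.ext (inv_smul_smul (g : ↥Co0) y.1)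
      right_inv := fun y => Subtype.ext (smul_inv_smul (g : ↥Co0) y.1) }
  map_one' := Equiv.ext fun y => Subtype.ext (one_smul _ _)
  map_mul' g h := Equiv.ext fun y => Subtype.ext (mul_smul (g : ↥Co0) (h : ↥Co0) _)

/-- the action on the numbers -/
noncomputable def act : ↥K →* Equiv.Perm (Fin 275) :=
  ((Equiv.ofBijective point point_bijective).symm.permCongrHom).toMonoidHom.comp actC

theorem act_eq {g : ↥K} {i j : Fin 275} (h : (((g : ↥Co0) • (point i).1 : ↥leechLattice) : Zv) = vecOf (rows.getD j [])) :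
    act g i = j := by
  show (Equiv.ofBijective point point_bijective).symm (actC g ((Equiv.ofBijective point point_bijective) i)) = j
  rw [Equiv.symm_apply_eq]
  exact Subtype.ext (Subtype.ext h)

theorem exists_gen (k : ℕ) (hk : k < 3) : ∃ g : ↥K, code (act g) = genCodes.getD k 0 := by
  have hex : ∃ g : ↥Co0, MFix g ∧ ∀ v : ↥leechLattice, ((g • v : ↥leechLattice) : Zv) = wordApp (genWord k) (v : Zv) := by
    interval_cases k
    · obtain ⟨g, hg, e⟩ := MclRank.perm_gens 0 (by norm_num); exact ⟨g, hg.1, e⟩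
    · obtain ⟨g, hg, e⟩ := MclRank.perm_gens 1 (by norm_num); exact ⟨g, hg.1, e⟩
    · exact MclRank.extra_gen
  obtain ⟨g, hg, e⟩ := hex
  have hK : g ∈ K := Subgroup.mem_inf.2 ⟨hg.1, hg.2⟩
  refine ⟨⟨g, hK⟩, ?_⟩
  have hp := List.all_eq_true.1 gen_pack.1 k (List.mem_range.2 hk)
  rw [beq_iff_eq.1 hp, code]
  congr 1
  refine List.ext_getElem (by simp) fun i h1 h2 => ?_
  have hi : i < 275 := by simpa using h1
  have hm := List.all_eq_true.1 (List.all_eq_true.1 gen_maps k (List.mem_range.2 hk)) i (List.mem_range.2 hi)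
  simp only [Bool.and_eq_true, Nat.blt_eq, beq_iff_eq] at hm
  simp only [List.getElem_ofFn, List.getElem_map, List.getElem_range]
  have ev : act ⟨g, hK⟩ ⟨i, hi⟩ = ⟨nget (genCodes.getD k 0) i, hm.1⟩ := act_eq (by
    show ((g • (point ⟨i, hi⟩).1 : ↥leechLattice) : Zv) = _
    rw [e, ← hm.2, vecOf_fword]
    rfl)
  exact congrArg Fin.val ev

theorem act_injective : Function.Injective act := by
  obtain ⟨-, hs⟩ := simple_mcl_ref
  haveI : IsSimpleGroup ↥K := hs
  rcases Subgroup.Normal.eq_bot_or_eq_top (inferInstance : act.ker.Normal) with h | h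
  · exact (MonoidHom.ker_eq_bot_iff act).1 h
  · obtain ⟨g, hg⟩ := exists_gen 0 (by norm_num)
    have h1 : act g = 1 := MonoidHom.mem_ker.1 (h ▸ Subgroup.mem_top g)
    rw [h1, code_one] at hg
    exact absurd hg.symm gen_pack.2.2

theorem leech_facts : (∀ p, Cfsg.Spor.vecV p = -uRef p) ∧ ∀ p, Cfsg.Spor.vecU p = fourVec 1 p := by
  refine ⟨?_, ?_⟩ <;> decide +kernel

/-- The McLaughlin group is the stabilizer of the reference pair. -/
noncomputable def mclEquiv : Cfsg.Spor.McL ≃* ↥K := by
  have hV : Cfsg.Spor.leechV = -refU := Subtype.ext (funext fun p => leech_facts.1 p)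
  have hU : Cfsg.Spor.leechU = mclVec := Subtype.ext (funext fun p => leech_facts.2 p)
  have key : ∀ (g : Equiv.Perm ↥leechLattice), g ∈ Cfsg.Spor.McL ↔ ∃ h : g ∈ Co0, (⟨g, h⟩ : ↥Co0) ∈ K := by
    intro g
    simp only [Cfsg.Spor.McL, Cfsg.Spor.Co3, pairStab, K, Subgroup.mem_inf, MulAction.mem_stabilizer_iff, hV, hU]
    constructor
    · rintro ⟨⟨h, h1⟩, h2⟩
      refine ⟨h, ?_, h2⟩
      have e := (co0_neg (⟨g, h⟩ : ↥Co0) refU).symm.trans h1
      exact neg_injective e
    · rintro ⟨h, h1, h2⟩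
      exact ⟨⟨h, (co0_neg (⟨g, h⟩ : ↥Co0) refU).trans (congrArg Neg.neg h1)⟩, h2⟩
  exact
    { toFun := fun g => ⟨⟨g.1, ((key g.1).1 g.2).1⟩, ((key g.1).1 g.2).2⟩
      invFun := fun h => ⟨h.1.1, (key _).2 ⟨h.1.2, h.2⟩⟩
      left_inv := fun g => rfl
      right_inv := fun h => rfl
      map_mul' := fun g h => rfl }

/-- The two-fusion system of the McLaughlin group is simple. -/
theorem fusion_simple {G : Type*} [Group G] [Finite G] (hG : Cfsg.Spor.IsoMcL G) (S : Sylow 2 G) :
    (Cfsg.groupFusionSystem (S : Subgroup G)).IsSimple 2 := by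
  obtain ⟨e⟩ := hG
  let E : G ≃* ↥K := e.trans mclEquiv
  refine simple_of_cert cert (act.comp E.toMonoidHom) (act_injective.comp E.injective) ?_ (M := 7016625) ?_
    (by decide) cert_slp cert_R cert_center cert_phi cert_keys cert_pts cert_steps S
  · intro s hs
    obtain ⟨n, hn, rfl⟩ := List.mem_iff_getElem.1 (show s ∈ genCodes from hs)
    obtain ⟨g, hg⟩ := exists_gen n (by rw [← gen_pack.2.1]; exact hn)
    refine ⟨E.symm g, ?_⟩
    show code (act (E (E.symm g))) = _
    rw [MulEquiv.apply_symm_apply, hg, List.getD_eq_getElem _ _ hn]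
  · rw [Nat.card_congr E.toEquiv]
    exact simple_mcl_ref.1.trans (by norm_num)

end Cfsg.Agent.Local.FS.McLSmall
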