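import Cfsg.Agent.Lib.Local.FS.McLUnitaryData
import Cfsg.Agent.Lib.Local.FS.McLCent

/-!
The point stabilizer of the McLaughlin group and its action on 280 four-element sets.
-/

set_option autoImplicit false
set_option maxRecDepth 100000
set_option maxHeartbeats 1600000

namespace Cfsg.Agent.Local.FS.McLSmall.Unitary

open Cfsg Cfsg.Agent.Spor Equiv

local notation "Zv" => GolayPt → ℤ

/-- an element of the program -/
def sv (i : ℕ) : ℕ := ((idC :: Cent.hI.map Cent.pe) ++ svals).getD i idC

/-- one step of the program is correct -/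
def progStep (i : ℕ) : Bool :=
  Nat.blt (sprog.getD i (0, 0)).1 (4 + i) && Nat.blt (sprog.getD i (0, 0)).2 (4 + i) &&
    pmul (sv (sprog.getD i (0, 0)).1) (sv (sprog.getD i (0, 0)).2) == svals.getD i 0

/-- the images are distinct -/
def distinctB : ℕ → List ℕ → Bool
  | _, [] => true
  | seen, x :: l => !(seen.testBit x) && distinctB (seen ||| 2 ^ x) l

/-- the levels of the chain are correct -/
def chainOK : List ℕ → List (ℕ × List ℕ) → Bool
  | _, [] => true
  | fx, bl :: rest => Nat.blt bl.1 275 && (bl.2.all fun i => fx.all fun p => nget (sv i) p == p) &&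
      distinctB 0 (bl.2.map fun i => nget (sv i) bl.1) && chainOK (bl.1 :: fx) rest

/-- the mask of a list of points -/
def pmask (l : List ℕ) : ℕ := l.foldr (fun a m => 2 ^ a ||| m) 0

/-- the product of coordinate lists -/
def ldot (l l' : List ℤ) : ℤ := (List.zipWith (· * ·) l l').sum

/-- the sum of the first digits -/
def nsum : ℕ → ℕ → ℕ
  | 0, _ => 0
  | n + 1, c => (c &&& 15) + nsum n (c >>> 4)

/-- the product of the first digits -/
def ndot : ℕ → ℕ → ℕ → ℕ
  | 0, _, _ => 0
  | n + 1, c, d => (c &&& 15) * (d &&& 15) + ndot n (c >>> 4) (d >>> 4)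

/-- adjacency on codes -/
def adjB (c d : ℕ) : Bool := ndot 24 c d + 1528 == 8 * (nsum 24 c + nsum 24 d)

/-- one row of the table of neighbours is correct -/
def nbrRow (i : ℕ) : Bool :=
  pmask ((lineCodes.filter fun p => adjB (rowCodes.getD i 0) p.2).map Prod.fst) == nbr.getD i 0

/-- the mask of a four-element set -/
def qm (j : Fin 280) : ℕ := pmask (quads.getD j [])

/-- the masks -/
def qms : List ℕ := quads.map pmask

/-- the candidate set of an adjacent pair -/
def pairMask (a b : ℕ) : ℕ := 2 ^ a ||| 2 ^ b ||| (nbr.getD a 0 &&& nbr.getD b 0)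

theorem prog_ok0 : ((List.range' 0 92).all progStep) = true := by decide +kernel

theorem prog_ok1 : ((List.range' 92 92).all progStep) = true := by decide +kernel

theorem prog_ok2 : ((List.range' 184 92).all progStep) = true := by decide +kernel

theorem prog_ok3 : ((List.range' 276 92).all progStep) = true := by decide +kernel

theorem prog_ok4 : ((List.range' 368 (sprog.length - 368)).all progStep) = true := by decide +kernel

theorem prog_len : sprog.length = svals.length ∧ 368 ≤ sprog.length := by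
  refine ⟨?_, ?_⟩ <;> decide +kernel

theorem chain_ok : chainOK [] levels = true := by decide +kernel

theorem chain_prod : (levels.map fun p => p.2.length).prod = 3265920 := by decide +kernel

theorem base_ok : (Cent.hI.all fun h => nget (Cent.pe h) base == base) = true ∧ Cent.hI.length = 3 := by
  refine ⟨?_, ?_⟩ <;> decide +kernel

theorem nbr_row0 : ((List.range' 0 55).all nbrRow) = true := by decide +kernel

theorem nbr_row1 : ((List.range' 55 55).all nbrRow) = true := by decide +kernel

theorem nbr_row2 : ((List.range' 110 55).all nbrRow) = true := by decide +kernel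

theorem nbr_row3 : ((List.range' 165 55).all nbrRow) = true := by decide +kernel

theorem nbr_row4 : ((List.range' 220 55).all nbrRow) = true := by decide +kernel

theorem lines_ok : (lineCodes.all fun p => Nat.blt p.1 275 && rowCodes.getD p.1 0 == p.2) = true ∧
    pmask (lineCodes.map Prod.fst) = pmask ((List.range 275).filter fun j =>
      adjB (rowCodes.getD base 0) (rowCodes.getD j 0)) ∧ lineCodes.map Prod.fst = lines ∧
    incid.map Prod.fst = lines ∧ rowCodes.length = 275 ∧ nbr.length = 275 := by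
  refine ⟨?_, ?_, ?_, ?_, ?_, ?_⟩ <;> decide +kernel

theorem nbr_nodup : nbr.Nodup := by decide +kernel

theorem qms_nodup : qms.Nodup := by decide +kernel

theorem quads_ok : quads.length = 280 ∧
    (quads.all fun q => q.all fun p => Nat.blt p 275) = true := by
  refine ⟨?_, ?_⟩ <;> decide +kernel

theorem quads_pairs : (quads.all fun q => lines.elem (q.getD 0 0) && lines.elem (q.getD 1 0) &&
    (nbr.getD (q.getD 0 0) 0).testBit (q.getD 1 0) &&
      pairMask (q.getD 0 0) (q.getD 1 0) == pmask q) = true := by decide +kernel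

theorem quads_all_pairs : (quads.all fun q => q.all fun a => q.all fun b =>
    a == b || pairMask a b == pmask q) = true := by decide +kernel

theorem incid_ok : (incid.all fun p => p.2.all fun n => Nat.blt n 280 && (quads.getD n []).elem p.1) = true ∧
    (incid.all fun p => pmask (p.2.flatMap fun n => quads.getD n []) == (nbr.getD p.1 0 ||| 2 ^ p.1)) = true ∧
    (incid.all fun p => (p.2.map fun n => pmask (quads.getD n [])).foldr (fun m r => m &&& r) (2 ^ 275 - 1) ==
      2 ^ p.1) = true := by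
  refine ⟨?_, ?_, ?_⟩ <;> decide +kernel

theorem sigma_match : ((List.range 3).all fun s => (List.range 280).all fun j =>
    Nat.blt ((sigma.getD s []).getD j 0) 280 &&
      pmask ((quads.getD j []).map fun p => nget (Cent.pe (Cent.hI.getD s 0)) p) ==
        pmask (quads.getD ((sigma.getD s []).getD j 0) [])) = true := by decide +kernel

theorem distinctB_nodup : ∀ (seen : ℕ) (l : List ℕ), distinctB seen l = true →
    l.Nodup ∧ ∀ x ∈ l, seen.testBit x = false
  | _, [], _ => ⟨List.nodup_nil, by simp⟩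
  | seen, x :: l, h => by
    simp only [distinctB, Bool.and_eq_true, Bool.not_eq_eq_eq_not, Bool.not_true] at h
    obtain ⟨h1, h2⟩ := distinctB_nodup (seen ||| 2 ^ x) l h.2
    refine ⟨List.nodup_cons.2 ⟨fun hx => by simpa [Nat.testBit_two_pow_self] using h2 x hx, h1⟩, ?_⟩
    intro y hy
    rcases List.mem_cons.1 hy with rfl | hy
    · exact h.1
    · have := h2 y hy
      simp only [Nat.testBit_or, Bool.or_eq_false_iff] at this
      exact this.1

theorem digit_dot : ∀ n c d : ℕ,
    (((List.range n).map fun k => ((((c >>> (4 * k)) &&& 15 : ℕ) : ℤ) - 8) * ((((d >>> (4 * k)) &&& 15 : ℕ) : ℤ) - 8)).sum) =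
      (ndot n c d : ℤ) - 8 * (nsum n c + nsum n d : ℕ) + 64 * n
  | 0, c, d => by simp [ndot, nsum]
  | n + 1, c, d => by
    rw [List.range_succ_eq_map, List.map_cons, List.sum_cons, List.map_map]
    have e : ∀ x k : ℕ, x >>> (4 * (k + 1)) = (x >>> 4) >>> (4 * k) := fun x k => by
      rw [← Nat.shiftRight_add]; congr 1; ring
    simp only [Function.comp_def, Nat.succ_eq_add_one, e]
    rw [digit_dot n (c >>> 4) (d >>> 4)]
    simp only [ndot, nsum, Nat.mul_zero, Nat.shiftRight_zero]
    push_cast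
    ring

theorem adjB_iff (c d : ℕ) : adjB c d = true ↔ ldot (unrow c) (unrow d) = 8 := by
  rw [ldot, unrow, unrow, List.zipWith_map, List.zipWith_self, digit_dot, adjB, beq_iff_eq]
  push_cast
  omega

theorem testBit_pmask : ∀ (l : List ℕ) (j : ℕ), (pmask l).testBit j = true ↔ j ∈ l
  | [], j => by simp [pmask]
  | a :: l, j => by
    show (2 ^ a ||| pmask l).testBit j = true ↔ _
    rw [Nat.testBit_or, Bool.or_eq_true, Nat.testBit_two_pow, decide_eq_true_eq, testBit_pmask l j,
      List.mem_cons]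
    exact or_congr_left eq_comm

theorem testBit_meet : ∀ (l : List ℕ) (r j : ℕ),
    (l.foldr (fun m r => m &&& r) r).testBit j = true ↔ r.testBit j = true ∧ ∀ m ∈ l, m.testBit j = true
  | [], r, j => by simp
  | a :: l, r, j => by
    show (a &&& l.foldr (fun m r => m &&& r) r).testBit j = true ↔ _
    rw [Nat.testBit_and, Bool.and_eq_true, testBit_meet l r j]
    simp [and_left_comm]

/-- the fixed point -/
def xB : Fin 275 := Fin.ofNat 275 base

theorem xB_val : (xB : ℕ) = base := rfl

/-- the point stabilizer -/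
noncomputable def Gx : Subgroup ↥K := (MulAction.stabilizer (Perm (Fin 275)) xB).comap act

theorem mem_Gx {g : ↥K} : g ∈ Gx ↔ act g xB = xB := Iff.rfl

theorem card_Gx : Nat.card ↥Gx = 3265920 := by
  letI : MulAction ↥K (Fin 275) := MulAction.compHom (Fin 275) act
  haveI : MulAction.IsPretransitive ↥K (Fin 275) := ⟨fun p q => Cent.act_transitive p q⟩
  have h := (MulAction.stabilizer ↥K xB).card_mul_index
  rw [MulAction.index_stabilizer_of_transitive, Nat.card_fin, Cent.card_K] at h
  have e : MulAction.stabilizer ↥K xB = Gx := rfl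
  rw [e] at h
  omega

/-- the group generated by the three generators -/
noncomputable def Hs : Subgroup ↥K := Subgroup.closure {g | code (act g) ∈ Cent.hI.map Cent.pe}

theorem Hs_le : Hs ≤ Gx := by
  refine (Subgroup.closure_le _).2 fun g hg => ?_
  obtain ⟨h, hh, e⟩ := List.mem_map.1 hg
  have h' := beq_iff_eq.1 (List.all_eq_true.1 base_ok.1 h hh)
  rw [e] at h'
  refine mem_Gx.2 (Fin.ext ?_)
  exact (nget_code (act g) xB.2).symm.trans (h'.trans xB_val.symm)

theorem exists_sv (i : ℕ) : ∃ g ∈ Hs, code (act g) = sv i := by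
  obtain ⟨hlen, h368⟩ := prog_len
  have h : ∀ i < sprog.length, ((sprog.getD i (0, 0)).1 < 4 + i ∧ (sprog.getD i (0, 0)).2 < 4 + i) ∧
      pmul (sv (sprog.getD i (0, 0)).1) (sv (sprog.getD i (0, 0)).2) = svals.getD i 0 := by
    intro i hi
    have hs : progStep i = true := by
      by_cases h1 : i < 92
      · exact List.all_eq_true.1 prog_ok0 i (List.mem_range'_1.2 ⟨by omega, by omega⟩)
      by_cases h2 : i < 184
      · exact List.all_eq_true.1 prog_ok1 i (List.mem_range'_1.2 ⟨by omega, by omega⟩)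
      by_cases h3 : i < 276
      · exact List.all_eq_true.1 prog_ok2 i (List.mem_range'_1.2 ⟨by omega, by omega⟩)
      by_cases h4 : i < 368
      · exact List.all_eq_true.1 prog_ok3 i (List.mem_range'_1.2 ⟨by omega, by omega⟩)
      exact List.all_eq_true.1 prog_ok4 i (List.mem_range'_1.2 ⟨by omega, by omega⟩)
    simpa [progStep] using hs
  have hl : (idC :: Cent.hI.map Cent.pe).length = 4 := by simp [base_ok.2]
  induction i using Nat.strong_induction_on with
  | _ i ih =>
    rcases Nat.lt_or_ge i 4 with hi | hi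
    · rw [sv, List.getD_append _ _ _ _ (hl ▸ hi)]
      rcases i with _ | i
      · exact ⟨1, one_mem _, by rw [map_one, code_one]; rfl⟩
      · have hi' : i < Cent.hI.length := by rw [base_ok.2]; omega
        refine ⟨Cent.el Cent.hI[i], Subgroup.subset_closure ?_, ?_⟩
        · exact List.mem_map.2 ⟨_, List.getElem_mem hi', (Cent.code_el _).symm⟩
        · rw [Cent.code_el, List.getD_cons_succ, List.getD_eq_getElem _ _ (by simpa using hi'), List.getElem_map]
    · rcases Nat.lt_or_ge (i - 4) sprog.length with hj | hj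
      · obtain ⟨⟨ha, hb⟩, e⟩ := h _ hj
        obtain ⟨a, am, ha'⟩ := ih _ (show (sprog.getD (i - 4) (0, 0)).1 < i by omega)
        obtain ⟨b, bm, hb'⟩ := ih _ (show (sprog.getD (i - 4) (0, 0)).2 < i by omega)
        refine ⟨a * b, mul_mem am bm, ?_⟩
        rw [map_mul, code_mul, ha', hb', e]
        conv_rhs => rw [sv, List.getD_append_right _ _ _ _ (by omega), hl]
        rw [List.getD_eq_getElem _ _ (hlen ▸ hj), List.getD_eq_getElem _ _ (hlen ▸ hj)]
      · refine ⟨1, one_mem _, ?_⟩
        rw [map_one, code_one, sv, List.getD_eq_default]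
        rw [List.length_append, hl]
        omega

theorem chain_card : ∀ (ls : List (ℕ × List ℕ)) (fx : List ℕ), chainOK fx ls = true →
    (ls.map fun p => p.2.length).prod ≤
      Nat.card {g : ↥Hs // ∀ p ∈ fx, ∀ hp : p < 275, act g.1 ⟨p, hp⟩ = ⟨p, hp⟩}
  | [], fx, _ => by
    haveI := Cent.finite_K
    haveI : Nonempty {g : ↥Hs // ∀ p ∈ fx, ∀ hp : p < 275, act g.1 ⟨p, hp⟩ = ⟨p, hp⟩} :=
      ⟨⟨1, fun p _ hp => by rw [OneMemClass.coe_one, map_one]; rfl⟩⟩
    exact Nat.card_pos
  | (b, l) :: rest, fx, hok => by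
    haveI := Cent.finite_K
    simp only [chainOK, Bool.and_eq_true, Nat.blt_eq, List.all_eq_true, beq_iff_eq] at hok
    obtain ⟨⟨⟨hb, hfix⟩, hd⟩, hrest⟩ := hok
    have hnd := (distinctB_nodup _ _ hd).1
    have ih := chain_card rest (b :: fx) hrest
    rw [List.map_cons, List.prod_cons]
    refine le_trans (Nat.mul_le_mul_left _ ih) ?_
    rw [← Nat.card_fin l.length, ← Nat.card_prod]
    choose g hg hge using fun i : Fin l.length => exists_sv l[i]
    have himg : ∀ i : Fin l.length, (act (g i) ⟨b, hb⟩ : ℕ) = nget (sv l[i]) b := fun i => by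
      rw [← hge i, nget_code _ hb]
    refine Nat.card_le_card_of_injective (fun ih => ⟨⟨g ih.1 * ih.2.1.1, mul_mem (hg ih.1) ih.2.1.2⟩,
      fun p hp hp' => ?_⟩) ?_
    · rw [map_mul, Equiv.Perm.mul_apply, ih.2.2 p (List.mem_cons_of_mem _ hp) hp']
      refine Fin.ext ?_
      rw [← nget_code _ hp', hge]
      exact hfix _ (List.getElem_mem ih.1.2) p hp
    · rintro ⟨i, h⟩ ⟨i', h'⟩ e
      have e0 : g i * h.1.1 = g i' * h'.1.1 := congrArg (fun z => z.1.1) e
      have e1 := congrArg (fun z : ↥K => (act z ⟨b, hb⟩ : ℕ)) e0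
      simp only [map_mul, Equiv.Perm.mul_apply, h.2 b List.mem_cons_self hb, h'.2 b List.mem_cons_self hb,
        himg] at e1
      have hii : i = i' := by
        have := hnd.getElem_inj_iff (i := i.1) (j := i'.1) (hi := by simp) (hj := by simp)
        simp only [List.getElem_map] at this
        exact Fin.ext (this.1 e1)
      subst hii
      exact Prod.ext rfl (Subtype.ext (Subtype.ext (mul_left_cancel e0)))

theorem Gx_eq : Gx = Hs := by
  haveI := Cent.finite_K
  refine (Subgroup.eq_of_le_of_card_ge Hs_le ?_).symm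
  rw [card_Gx, ← chain_prod]
  exact le_trans (chain_card levels [] chain_ok) (Finite.card_subtype_le _)

/-- adjacency -/
def Adj (i j : Fin 275) : Prop := dotInt ((point i).1 : Zv) ((point j).1 : Zv) = 8

theorem ldot_eq (i j : Fin 275) :
    dotInt ((point i).1 : Zv) ((point j).1 : Zv) = ldot (rows.getD i []) (rows.getD j []) := by
  conv_rhs => rw [← rowOf_vecOf (rows_mem i), ← rowOf_vecOf (rows_mem j), rowOf, rowOf, ldot, List.zipWith_map,
    List.zipWith_self]
  rw [dotInt, sum_pts]
  rfl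

theorem smul_point (g : ↥K) (i : Fin 275) : (g : ↥Co0) • (point i).1 = (point (act g i)).1 := by
  show _ = (point ((Equiv.ofBijective point point_bijective).symm (actC g ((Equiv.ofBijective point point_bijective) i)))).1
  rw [show ∀ y, point ((Equiv.ofBijective point point_bijective).symm y) = y from
    fun y => (Equiv.ofBijective point point_bijective).apply_symm_apply y]
  rfl

theorem adj_act (g : ↥K) (i j : Fin 275) : Adj (act g i) (act g j) ↔ Adj i j := by
  rw [Adj, Adj, ← smul_point, ← smul_point, co0_dot]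

theorem adj_comm (i j : Fin 275) : Adj i j ↔ Adj j i := by
  have e : ∀ u v : Zv, dotInt u v = dotInt v u := fun u v => Finset.sum_congr rfl fun p _ => mul_comm _ _
  rw [Adj, Adj, e]

theorem getD_map_lt (f : ℕ → List ℤ) (l : List ℕ) {n : ℕ} (hn : n < l.length) :
    (l.map f).getD n [] = f (l.getD n 0) := by
  rw [List.getD_eq_getElem _ _ (by rw [List.length_map]; exact hn), List.getElem_map, List.getD_eq_getElem _ _ hn]

theorem row_get (i : Fin 275) : rows.getD i [] = unrow (rowCodes.getD i 0) :=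
  getD_map_lt unrow rowCodes (n := i.1) (lt_of_lt_of_eq i.2 lines_ok.2.2.2.2.1.symm)

theorem adj_code (i j : Fin 275) : Adj i j ↔ adjB (rowCodes.getD i 0) (rowCodes.getD j 0) = true := by
  rw [Adj, ldot_eq, adjB_iff, row_get, row_get]

theorem lines_lt {a : ℕ} (h : a ∈ lines) : a < 275 := by
  rw [← lines_ok.2.2.1] at h
  obtain ⟨p, hp, rfl⟩ := List.mem_map.1 h
  have := List.all_eq_true.1 lines_ok.1 p hp
  simp only [Bool.and_eq_true, Nat.blt_eq] at this
  exact this.1

theorem mem_lines (j : Fin 275) : (j : ℕ) ∈ lines ↔ Adj xB j := by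
  rw [adj_code, xB_val, ← lines_ok.2.2.1, ← testBit_pmask, lines_ok.2.1, testBit_pmask, List.mem_filter,
    List.mem_range]
  exact ⟨fun h => h.2, fun h => ⟨j.2, h⟩⟩

theorem nbr_bit (i : Fin 275) (j : ℕ) :
    (nbr.getD i 0).testBit j = true ↔ ∃ hj : j < 275, Adj i ⟨j, hj⟩ ∧ Adj xB ⟨j, hj⟩ := by
  have hrow : nbrRow i = true := by
    have hi := i.2
    by_cases h1 : (i : ℕ) < 55
    · exact List.all_eq_true.1 nbr_row0 _ (List.mem_range'_1.2 ⟨by omega, by omega⟩)
    by_cases h2 : (i : ℕ) < 110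
    · exact List.all_eq_true.1 nbr_row1 _ (List.mem_range'_1.2 ⟨by omega, by omega⟩)
    by_cases h3 : (i : ℕ) < 165
    · exact List.all_eq_true.1 nbr_row2 _ (List.mem_range'_1.2 ⟨by omega, by omega⟩)
    by_cases h4 : (i : ℕ) < 220
    · exact List.all_eq_true.1 nbr_row3 _ (List.mem_range'_1.2 ⟨by omega, by omega⟩)
    exact List.all_eq_true.1 nbr_row4 _ (List.mem_range'_1.2 ⟨by omega, by omega⟩)
  rw [← beq_iff_eq.1 hrow, testBit_pmask, List.mem_map]
  have hcode : ∀ p ∈ lineCodes, p.1 < 275 ∧ rowCodes.getD p.1 0 = p.2 := fun p hp => by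
    simpa using List.all_eq_true.1 lines_ok.1 p hp
  constructor
  · rintro ⟨p, hp, rfl⟩
    obtain ⟨hp, h⟩ := List.mem_filter.1 hp
    refine ⟨(hcode p hp).1, (adj_code _ _).2 ?_, (mem_lines ⟨_, (hcode p hp).1⟩).1 ?_⟩
    · show adjB _ (rowCodes.getD p.1 0) = true
      rw [(hcode p hp).2]
      exact h
    · rw [← lines_ok.2.2.1]
      exact List.mem_map.2 ⟨p, hp, rfl⟩
  · rintro ⟨hj, h1, h2⟩
    have hm := (mem_lines ⟨j, hj⟩).2 h2
    rw [← lines_ok.2.2.1] at hm
    obtain ⟨p, hp, hpj⟩ := List.mem_map.1 hm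
    refine ⟨p, List.mem_filter.2 ⟨hp, ?_⟩, hpj⟩
    rw [← (hcode p hp).2, hpj]
    exact (adj_code _ _).1 h1

theorem pair_bit (a b : Fin 275) (p : Fin 275) : (pairMask a b).testBit p = true ↔
    p = a ∨ p = b ∨ (Adj a p ∧ Adj b p ∧ Adj xB p) := by
  rw [pairMask, Nat.testBit_or, Nat.testBit_or, Bool.or_eq_true, Bool.or_eq_true, Nat.testBit_two_pow,
    Nat.testBit_two_pow, Nat.testBit_and, Bool.and_eq_true, decide_eq_true_eq, decide_eq_true_eq, nbr_bit, nbr_bit,
    or_assoc, ← Fin.ext_iff, ← Fin.ext_iff, eq_comm (a := a), eq_comm (a := b)]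
  refine or_congr_right (or_congr_right ⟨fun ⟨⟨_, h1, h2⟩, ⟨_, h3, _⟩⟩ => ⟨h1, h3, h2⟩,
    fun ⟨h1, h2, h3⟩ => ⟨⟨p.2, h1, h3⟩, ⟨p.2, h2, h3⟩⟩⟩)

theorem qms_get (j : Fin 280) : qm j = qms.getD j 0 ∧ qm j ∈ qms ∧ quads.getD j [] ∈ quads := by
  have hj : (j : ℕ) < quads.length := by rw [quads_ok.1]; exact j.2
  rw [qm, List.getD_eq_getElem _ _ hj, qms]
  refine ⟨?_, List.mem_map.2 ⟨_, List.getElem_mem hj, rfl⟩, List.getElem_mem hj⟩
  rw [List.getD_eq_getElem _ _ (by simpa using hj), List.getElem_map]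

theorem qm_lt {j : Fin 280} {p : ℕ} (h : (qm j).testBit p = true) : p < 275 := by
  have hq := List.all_eq_true.1 (List.all_eq_true.1 quads_ok.2 _ (qms_get j).2.2) p ((testBit_pmask _ _).1 h)
  simpa using hq

theorem qm_inj {i j : Fin 280} (h : ∀ p : Fin 275, (qm i).testBit p = (qm j).testBit p) : i = j := by
  have e : qm i = qm j := Nat.eq_of_testBit_eq fun p => by
    by_cases hp : p < 275
    · exact h ⟨p, hp⟩
    · rw [Bool.eq_false_iff.2 fun hc => hp (qm_lt hc), Bool.eq_false_iff.2 fun hc => hp (qm_lt hc)]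
  have hl : qms.length = 280 := by rw [qms, List.length_map, quads_ok.1]
  rw [(qms_get i).1, (qms_get j).1, List.getD_eq_getElem _ _ (lt_of_lt_of_eq i.2 hl.symm), List.getD_eq_getElem _ _ (lt_of_lt_of_eq j.2 hl.symm)] at e
  exact Fin.ext (qms_nodup.getElem_inj_iff.1 e)

theorem ne_of_quad (j : Fin 280) : (quads.getD j []).getD 0 0 ≠ (quads.getD j []).getD 1 0 := by
  have h : (quads.all fun q => !(q.getD 0 0 == q.getD 1 0)) = true := by decide +kernel
  simpa using List.all_eq_true.1 h _ (qms_get j).2.2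

theorem exists_quad {a b : ℕ} (ha : a ∈ lines) (hab : (nbr.getD a 0).testBit b = true) (hne : a ≠ b) :
    ∃ n, ∃ hn : n < 280, qm ⟨n, hn⟩ = pairMask a b := by
  rw [← lines_ok.2.2.2.1] at ha
  obtain ⟨p, hp, rfl⟩ := List.mem_map.1 ha
  have h1 := beq_iff_eq.1 (List.all_eq_true.1 incid_ok.2.1 p hp)
  have hb : (nbr.getD p.1 0 ||| 2 ^ p.1).testBit b = true := by rw [Nat.testBit_or, hab, Bool.true_or]
  rw [← h1, testBit_pmask, List.mem_flatMap] at hb
  obtain ⟨n, hn, hbn⟩ := hb
  have h2 := List.all_eq_true.1 (List.all_eq_true.1 incid_ok.1 p hp) n hn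
  simp only [Bool.and_eq_true, Nat.blt_eq, List.elem_iff] at h2
  have h3 := List.all_eq_true.1 (List.all_eq_true.1 (List.all_eq_true.1 quads_all_pairs _
    (qms_get ⟨n, h2.1⟩).2.2) _ h2.2) b hbn
  simp only [Bool.or_eq_true, beq_iff_eq, hne, false_or] at h3
  exact ⟨n, h2.1, h3.symm⟩

theorem exists_image (g : ↥Gx) (j : Fin 280) :
    ∃ j', ∀ p : Fin 275, (qm j').testBit (act g.1 p) = (qm j).testBit p := by
  have hq := List.all_eq_true.1 quads_pairs _ (qms_get j).2.2
  simp only [Bool.and_eq_true, beq_iff_eq, List.elem_iff] at hq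
  obtain ⟨⟨⟨ha, hb⟩, hab⟩, hP⟩ := hq
  have ha' : (quads.getD j []).getD 0 0 < 275 := lines_lt ha
  have hb' : (quads.getD j []).getD 1 0 < 275 := lines_lt hb
  have hne : (quads.getD j []).getD 0 0 ≠ (quads.getD j []).getD 1 0 := ne_of_quad j
  generalize hA : (⟨_, ha'⟩ : Fin 275) = A
  generalize hB : (⟨_, hb'⟩ : Fin 275) = B
  rw [show (quads.getD j []).getD 0 0 = (A : ℕ) by rw [← hA]] at ha hab hP
  rw [show (quads.getD j []).getD 1 0 = (B : ℕ) by rw [← hB]] at hb hab hP
  have hx : act g.1 xB = xB := g.2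
  have hadj : ∀ p, Adj xB (act g.1 p) ↔ Adj xB p := fun p => by
    conv_lhs => rw [← hx]
    exact adj_act _ _ _
  have hga : (act g.1 A : ℕ) ∈ lines := (mem_lines _).2 ((hadj A).2 ((mem_lines _).1 ha))
  have hgb : (act g.1 B : ℕ) ∈ lines := (mem_lines _).2 ((hadj B).2 ((mem_lines _).1 hb))
  have hgab : (nbr.getD (act g.1 A) 0).testBit (act g.1 B) = true := by
    obtain ⟨_, h1, h2⟩ := (nbr_bit _ _).1 hab
    exact (nbr_bit _ _).2 ⟨(act g.1 B).2, (adj_act _ _ _).2 h1, (hadj B).2 h2⟩
  obtain ⟨n, hn, hqe⟩ : ∃ n, ∃ hn : n < 280, qm ⟨n, hn⟩ = pairMask (act g.1 A) (act g.1 B) :=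
    exists_quad hga hgab (fun h => by
      have := (act g.1).injective (Fin.ext h)
      subst this
      exact hne (congrArg Fin.val (hA.trans hB.symm)))
  refine ⟨⟨n, hn⟩, fun p => ?_⟩
  rw [hqe, qm, ← hP, Bool.eq_iff_iff, pair_bit, pair_bit]
  simp only [(act g.1).injective.eq_iff, adj_act, hadj]

/-- the image of a four-element set -/
noncomputable def timg (g : ↥Gx) (j : Fin 280) : Fin 280 := (exists_image g j).choose

theorem timg_eq {g : ↥Gx} {j j' : Fin 280} (h : ∀ p : Fin 275, (qm j').testBit (act g.1 p) = (qm j).testBit p) :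
    timg g j = j' := qm_inj fun p => by
  obtain ⟨q, rfl⟩ := (act g.1).surjective p
  rw [(exists_image g j).choose_spec q |> fun e => (show (qm (timg g j)).testBit (act g.1 q) = _ from e), h]

/-- the action on the four-element sets -/
noncomputable def tau : ↥Gx →* Perm (Fin 280) :=
  MonoidHom.toHomPerm
    { toFun := timg
      map_one' := funext fun j => timg_eq fun p => by rw [OneMemClass.coe_one, map_one]; rfl
      map_mul' := fun a b => funext fun j => timg_eq fun p => by
        rw [MulMemClass.coe_mul, map_mul, Equiv.Perm.mul_apply]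
        exact ((exists_image a (timg b j)).choose_spec _).trans ((exists_image b j).choose_spec p) }

theorem tau_apply (g : ↥Gx) (j : Fin 280) : tau g j = timg g j := rfl

theorem tau_injective : Function.Injective tau := by
  refine (injective_iff_map_eq_one tau).2 fun g hg => ?_
  have hinv : ∀ j p, (qm j).testBit (act g.1 p) = (qm j).testBit p := fun j p => by
    have e := (exists_image g j).choose_spec p
    rw [show (exists_image g j).choose = j by
      have := congrArg (fun σ : Perm (Fin 280) => σ j) hg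
      exact (tau_apply g j).symm.trans this] at e
    exact e
  have hfix : ∀ a : Fin 275, (a : ℕ) ∈ lines → act g.1 a = a := fun a ha => by
    rw [← lines_ok.2.2.2.1] at ha
    obtain ⟨q, hq, hqa⟩ := List.mem_map.1 ha
    have h := beq_iff_eq.1 (List.all_eq_true.1 incid_ok.2.2 q hq)
    rw [hqa] at h
    have hb : (2 ^ (a : ℕ)).testBit (act g.1 a) = true := by
      rw [← h, testBit_meet]
      refine ⟨by rw [Nat.testBit_two_pow_sub_one]; exact decide_eq_true (act g.1 a).2, fun m hm => ?_⟩
      obtain ⟨n, hn, rfl⟩ := List.mem_map.1 hm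
      have h2 := List.all_eq_true.1 (List.all_eq_true.1 incid_ok.1 q hq) n hn
      simp only [Bool.and_eq_true, Nat.blt_eq, List.elem_iff, hqa] at h2
      exact (hinv ⟨n, h2.1⟩ a).trans ((testBit_pmask _ _).2 h2.2)
    rw [Nat.testBit_two_pow, decide_eq_true_eq] at hb
    exact Fin.ext hb.symm
  refine Subtype.ext (act_injective (Equiv.ext fun p => ?_))
  rw [OneMemClass.coe_one, map_one, Equiv.Perm.one_apply]
  have e : nbr.getD (act g.1 p) 0 = nbr.getD p 0 := Nat.eq_of_testBit_eq fun j => Bool.eq_iff_iff.2 (by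
    rw [nbr_bit, nbr_bit]
    refine ⟨fun ⟨hj, h1, h2⟩ => ⟨hj, ?_, h2⟩, fun ⟨hj, h1, h2⟩ => ⟨hj, ?_, h2⟩⟩
    · rw [← hfix ⟨j, hj⟩ ((mem_lines _).2 h2), adj_act] at h1
      exact h1
    · rw [← hfix ⟨j, hj⟩ ((mem_lines _).2 h2), adj_act]
      exact h1)
  have hl : ∀ i : Fin 275, nbr.getD i 0 = nbr[(i : ℕ)]'(by rw [lines_ok.2.2.2.2.2]; exact i.2) := fun i =>
    List.getD_eq_getElem _ _ (by rw [lines_ok.2.2.2.2.2]; exact i.2)
  rw [hl, hl] at e
  exact Fin.ext (nbr_nodup.getElem_inj_iff.1 e)

/-- The image is contained in a group that contains the three permutations. -/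
theorem tau_range_le (R : Subgroup (Perm (Fin 280)))
    (hR : ∀ s : Fin 3, ∃ σ ∈ R, ∀ j : Fin 280, σ j = Fin.ofNat 280 ((sigma.getD s []).getD j 0)) :
    tau.range ≤ R := by
  rintro _ ⟨⟨g, hg⟩, rfl⟩
  have hg' : g ∈ Hs := Gx_eq ▸ hg
  suffices ∀ h, g ∈ (R.comap tau).map Gx.subtype → h = tau ⟨g, hg⟩ → h ∈ R by
    refine this _ ?_ rfl
    refine (Subgroup.closure_le _).2 (fun z hz => ?_) hg'
    obtain ⟨h, hh, e⟩ := List.mem_map.1 hz
    have hzH : z ∈ Hs := Subgroup.subset_closure hz
    refine ⟨⟨z, Hs_le hzH⟩, ?_, rfl⟩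
    rw [SetLike.mem_coe, Subgroup.mem_comap]
    obtain ⟨s, hs, rfl⟩ := List.mem_iff_getElem.1 hh
    have hs3 : s < 3 := base_ok.2 ▸ hs
    obtain ⟨σ, hσ, hσj⟩ := hR ⟨s, hs3⟩
    suffices tau ⟨z, Hs_le hzH⟩ = σ by rw [this]; exact hσ
    refine Equiv.ext fun j => (tau_apply _ j).trans (timg_eq fun p => ?_)
    have hm := List.all_eq_true.1 (List.all_eq_true.1 sigma_match s (List.mem_range.2 hs3)) j (List.mem_range.2 j.2)
    simp only [Bool.and_eq_true, Nat.blt_eq, beq_iff_eq] at hm
    obtain ⟨hlt, hmask⟩ := hm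
    have hval : (σ j : ℕ) = (sigma.getD s []).getD j 0 := by
      rw [hσj j]; exact Nat.mod_eq_of_lt hlt
    rw [qm, hval, ← hmask, Bool.eq_iff_iff, testBit_pmask, qm, testBit_pmask, List.mem_map,
      List.getD_eq_getElem _ _ hs, e]
    constructor
    · rintro ⟨q, hq, hqp⟩
      have hq' : q < 275 := by
        simpa using List.all_eq_true.1 (List.all_eq_true.1 quads_ok.2 _ (qms_get j).2.2) q hq
      rw [nget_code _ hq'] at hqp
      rwa [← (act z).injective (Fin.ext hqp)]
    · intro hq
      exact ⟨p, hq, nget_code _ p.2⟩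
  rintro h ⟨⟨z, hz⟩, hzR, rfl⟩ rfl
  exact hzR

end Cfsg.Agent.Local.FS.McLSmall.Unitary
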