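import Cfsg.Agent.Lib.Local.FS.RealizeAlong
import Cfsg.Agent.Lib.Local.FS.Normal
import Cfsg.Agent.Lib.Local.FS.SmallOmega
import Cfsg.Agent.Lib.Solv.InvariantFlag
import Cfsg.Agent.Lib.Solv.MetacyclicOddMaximal
import Cfsg.Agent.Lib.Solv.MetacyclicTwoAut
import Cfsg.Agent.Lib.Solv.MetacyclicTwoStep
import Cfsg.Agent.S5235

/-!
A metacyclic `p`-group that is not exceptional has, in every saturated system, a chain of strongly closed subgroups
with cyclic steps.
-/

set_option autoImplicit false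

open scoped commutatorElement

namespace Cfsg.Agent.Local.FS.MetaChain

open Cfsg Cfsg.FusionSystem Cfsg.Agent.Local.FS

variable {p : ℕ} [hp : Fact p.Prime]

section aut

variable {P : Type*} [Group P] [Finite P]

/-- The automorphisms of a metacyclic two-group that is not exceptional form a two-group. -/
theorem two_group (hP : IsPGroup 2 P) (hm : Cfsg.IsMetacyclic P) (hnc : ¬ IsCyclic P)
    (hh : ¬ ∃ n : ℕ, 0 < n ∧ Nonempty (P ≃* Multiplicative (ZMod (2 ^ n)) × Multiplicative (ZMod (2 ^ n))))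
    (hlc : ¬ Solv.CyclicSelf.LeftCase P) : IsPGroup 2 (MulAut P) := by
  open Cfsg.Agent.Solv.MetaTwo in
  haveI : Fact (Nat.Prime 2) := ⟨Nat.prime_two⟩
  haveI : Finite (MulAut P) := Finite.of_injective (fun γ : MulAut P => (γ : P → P)) DFunLike.coe_injective
  refine IsPGroup.of_card (Nat.eq_prime_pow_of_unique_prime_dvd Nat.card_pos.ne' fun {q} hq hqd => ?_)
  by_contra hne
  haveI := Fact.mk hq
  obtain ⟨φ, hφ⟩ := exists_prime_orderOf_dvd_card' q hqd
  have hφ1 : φ ≠ 1 := fun h => by rw [h, orderOf_one] at hφ; exact hq.one_lt.ne hφ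
  have hmv := moves_of_ne_one hP hne (hφ ▸ pow_orderOf_eq_one φ) hφ1
  have hidx := index_frattini_le hP hm
  by_cases hab : ∀ x y : P, x * y = y * x
  · obtain ⟨n, hn, ⟨e⟩, -, -⟩ := abelian_structure hP φ hidx hmv hab
    exact hh ⟨n, hn, ⟨e.trans ((LinearEquiv.finTwoArrow (ZMod (2 ^ n)) (ZMod (2 ^ n))).toAddEquiv.toMultiplicative.trans
      (MulEquiv.prodMultiplicative _ _))⟩⟩
  · push Not at hab
    obtain ⟨x, y, hxy⟩ := hab
    have h8 := card_eight hP φ hidx hmv hm ⟨x, y, hxy⟩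
    exact hlc (left_case_of_eight hP hm ⊤ (by rw [Subgroup.card_top, h8])
      ⟨x, trivial, y, trivial, hxy⟩)

include hp

/-- An endomorphism preserving a subgroup of order dividing `p` acts on it as a power map. -/
theorem exists_power {U : Type*} [Group U] (V : Subgroup U) (hV : Nat.card V ∣ p) (f : U →* U)
    (hf : ∀ v ∈ V, f v ∈ V) : ∃ l : ℕ, ∀ v ∈ V, f v = v ^ l := by
  haveI : Finite V := Nat.finite_of_card_ne_zero fun h => hp.out.ne_zero (Nat.eq_zero_of_zero_dvd (h ▸ hV))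
  haveI : IsCyclic V := by
    rcases (Nat.dvd_prime hp.out).1 hV with h | h
    · haveI : Subsingleton V := (Nat.card_eq_one_iff_unique.1 h).1
      exact isCyclic_of_subsingleton
    · exact isCyclic_of_prime_card h
  obtain ⟨g, hg⟩ := IsCyclic.exists_generator (α := V)
  obtain ⟨l, hl⟩ := mem_powers_iff_mem_zpowers.2 (hg ⟨f g, hf g g.2⟩)
  refine ⟨l, fun v hv => ?_⟩
  obtain ⟨i, hi⟩ := hg ⟨v, hv⟩
  have e : v = (g : U) ^ i := (congrArg Subtype.val hi).symm
  have e2 : (g : U) ^ l = f g := congrArg Subtype.val hl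
  rw [e, map_zpow, ← e2, ← zpow_natCast, ← zpow_natCast, ← zpow_mul, ← zpow_mul, mul_comm]

/-- The automorphisms that are trivial on the two layers of an invariant maximal subgroup. -/
theorem odd_kernel (hp2 : p ≠ 2) (hP : IsPGroup p P) (hm : Cfsg.IsMetacyclic P) (hnc : ¬ IsCyclic P)
    (hnh : ¬ ∃ n : ℕ, 0 < n ∧ Nonempty (P ≃* Multiplicative (ZMod (p ^ n)) × Multiplicative (ZMod (p ^ n))))
    (A : Subgroup (MulAut P)) :
    ∃ (R : Subgroup A) (_ : R.Normal), IsPGroup p R ∧ (∀ γ δ : A, γ * δ * γ⁻¹ * δ⁻¹ ∈ R) ∧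
      ∀ γ : A, γ ^ (p - 1) ∈ R := by
  classical
  obtain ⟨M, hMi, hMinv⟩ := Solv.MetaOdd.exists_invariant_maximal hp2 hP hm hnc hnh
  haveI hMn : M.Normal := ⟨fun x hx g => hMinv (MulAut.conj g) x hx⟩
  have hQcard : Nat.card (P ⧸ M) = p := hMi
  have hΦM : frattini P ≤ M := by
    haveI : IsCyclic (P ⧸ M) := isCyclic_of_prime_card hQcard
    refine Solv.frattini_le (p := p) M (fun a b => ?_) fun a => ?_
    · rw [← QuotientGroup.eq_one_iff, ← QuotientGroup.mk'_apply, map_commutatorElement,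
        commutatorElement_eq_one_iff_mul_comm]
      letI : CommGroup (P ⧸ M) := IsCyclic.commGroup
      exact mul_comm _ _
    · rw [← QuotientGroup.eq_one_iff, ← QuotientGroup.mk'_apply, map_pow, ← hQcard, pow_card_eq_one']
  obtain ⟨μ, hμ⟩ : ∃ μ : P →* P ⧸ frattini P, μ = QuotientGroup.mk' (frattini P) := ⟨_, rfl⟩
  have hμ1 : ∀ x, μ x = 1 ↔ x ∈ frattini P := fun x => by rw [hμ]; exact QuotientGroup.eq_one_iff x
  have hμp : ∀ x, μ x ^ p = 1 := fun x => by rw [← map_pow, hμ1]; exact Solv.pow_mem_frattini hP x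
  obtain ⟨ν, hν⟩ : ∃ ν : P →* P ⧸ M, ν = QuotientGroup.mk' M := ⟨_, rfl⟩
  have hν1 : ∀ x, ν x = 1 ↔ x ∈ M := fun x => by rw [hν]; exact QuotientGroup.eq_one_iff x
  have hνp : ∀ x, ν x ^ p = 1 := fun x => by rw [← hQcard]; exact pow_card_eq_one'
  -- the Frattini quotient
  have hidx : Nat.card (P ⧸ frattini P) ≤ p * p := by
    obtain ⟨N, hN, hNc, hQc⟩ := hm
    haveI := hN
    obtain ⟨v, hv⟩ := (Subgroup.isCyclic_iff_exists_zpowers_eq_top N).1 hNc
    obtain ⟨g, hg⟩ := hQc.exists_generator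
    obtain ⟨g, rfl⟩ := QuotientGroup.mk'_surjective N g
    have hred : ∀ (x : P) (k : ℤ), ∃ a : Fin p, μ x ^ k = μ x ^ (a : ℕ) := by
      intro x k
      refine ⟨⟨(k % p).toNat, by
        have := Int.emod_lt_of_pos k (by exact_mod_cast hp.out.pos : (0 : ℤ) < p)
        have := Int.emod_nonneg k (by exact_mod_cast hp.out.ne_zero : (p : ℤ) ≠ 0)
        omega⟩, ?_⟩
      rw [← zpow_natCast, Int.toNat_of_nonneg (Int.emod_nonneg k (by exact_mod_cast hp.out.ne_zero))]
      conv_lhs => rw [← Int.mul_ediv_add_emod k p, zpow_add, zpow_mul, zpow_natCast, hμp, one_zpow, one_mul]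
    let F : Fin p × Fin p → P ⧸ frattini P := fun u => μ v ^ (u.1 : ℕ) * μ g ^ (u.2 : ℕ)
    have hF : Function.Surjective F := by
      intro y
      obtain ⟨x, rfl⟩ := QuotientGroup.mk'_surjective _ y
      obtain ⟨k, hk⟩ := Subgroup.mem_zpowers_iff.1 (hg (QuotientGroup.mk' N x))
      have h1 : x * (g ^ k)⁻¹ ∈ N := by
        rw [← QuotientGroup.eq_one_iff]
        show QuotientGroup.mk' N (x * (g ^ k)⁻¹) = 1
        rw [map_mul, map_inv, map_zpow, hk, mul_inv_cancel]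
      rw [← hv] at h1
      obtain ⟨i, hi⟩ := Subgroup.mem_zpowers_iff.1 h1
      obtain ⟨a, ha⟩ := hred v i
      obtain ⟨b, hb⟩ := hred g k
      refine ⟨(a, b), ?_⟩
      show μ v ^ (a : ℕ) * μ g ^ (b : ℕ) = _
      rw [← ha, ← hb, ← map_zpow, ← map_zpow, ← map_mul, hi, inv_mul_cancel_right, hμ]
    exact (Nat.card_le_card_of_surjective F hF).trans (by simp)
  have hVcard : Nat.card (M.map μ) ∣ p := by
    have hker : μ.ker = frattini P := by rw [hμ]; exact QuotientGroup.ker_mk' _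
    have hsurj : Function.Surjective μ := hμ ▸ QuotientGroup.mk'_surjective _
    have h1 : (M.map μ).index = p := by
      rw [M.index_map_eq hsurj (hker.le.trans hΦM), hMi]
    have h2 := (M.map μ).card_mul_index
    rw [h1] at h2
    have h3 : Nat.card (M.map μ) ≤ p := Nat.le_of_mul_le_mul_right (h2.le.trans hidx) hp.out.pos
    obtain ⟨k, hk⟩ := IsPGroup.iff_card.1 (show IsPGroup p (M.map μ) from (hP.to_subgroup M).map μ)
    rw [hk] at h3 ⊢
    rcases k with _ | _ | k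
    · simp
    · simp
    · exfalso
      have h4 : p ^ 2 ≤ p ^ (k + 2) := Nat.pow_le_pow_right hp.out.pos (by omega)
      have h5 := hp.out.one_lt
      nlinarith
  -- the power maps on the layers
  have hΦinv : ∀ (γ : MulAut P) x, x ∈ frattini P → γ x ∈ frattini P := fun γ x hx => by
    rw [← Subgroup.characteristic_iff_map_eq.1 (inferInstance : (frattini P).Characteristic) γ]
    exact ⟨x, hx, rfl⟩
  have hpow : ∀ γ : MulAut P, ∃ l m : ℕ, (∀ x ∈ M, μ (γ x) = μ x ^ l) ∧ ∀ x, ν (γ x) = ν x ^ m := by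
    intro γ
    obtain ⟨l, hl⟩ := exists_power (M.map μ) hVcard
      (QuotientGroup.map (frattini P) (frattini P) γ.toMonoidHom fun x hx => hΦinv γ x hx) (by
        rintro _ ⟨x, hx, rfl⟩
        exact ⟨γ x, hMinv γ x hx, by subst hμ; rfl⟩)
    obtain ⟨m, hm'⟩ := exists_power (p := p) (⊤ : Subgroup (P ⧸ M))
      (by rw [Subgroup.card_top, hQcard]) (QuotientGroup.map M M γ.toMonoidHom fun x hx => hMinv γ x hx)
      (fun _ _ => trivial)
    refine ⟨l, m, fun x hx => ?_, fun x => ?_⟩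
    · rw [← hl _ ⟨x, hx, rfl⟩]; subst hμ; rfl
    · rw [← hm' _ trivial]; subst hν; rfl
  let R : Subgroup A :=
    { carrier := {γ | (∀ x ∈ M, μ ((γ : MulAut P) x) = μ x) ∧ ∀ x, ν ((γ : MulAut P) x) = ν x}
      one_mem' := ⟨fun x _ => rfl, fun x => rfl⟩
      mul_mem' := fun {γ δ} h1 h2 => ⟨fun x hx => by
          rw [Subgroup.coe_mul, MulAut.mul_apply, h1.1 _ (hMinv _ x hx), h2.1 x hx],
        fun x => by rw [Subgroup.coe_mul, MulAut.mul_apply, h1.2, h2.2]⟩
      inv_mem' := fun {γ} h1 => ⟨fun x hx => by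
          have h := h1.1 ((γ : MulAut P)⁻¹ x) (hMinv _ x hx)
          rw [MulAut.apply_inv_self] at h
          exact h.symm,
        fun x => by
          have h := h1.2 ((γ : MulAut P)⁻¹ x)
          rw [MulAut.apply_inv_self] at h
          exact h.symm⟩ }
  have hcomm : ∀ γ δ : A, γ * δ * γ⁻¹ * δ⁻¹ ∈ R := by
    intro γ δ
    obtain ⟨l, m, hl, hm⟩ := hpow γ
    obtain ⟨l', m', hl', hm'⟩ := hpow δ
    obtain ⟨f, hf⟩ : ∃ f : MulAut P, f = (γ : MulAut P) * δ := ⟨_, rfl⟩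
    obtain ⟨g, hg⟩ : ∃ g : MulAut P, g = (δ : MulAut P) * γ := ⟨_, rfl⟩
    have e : ((γ * δ * γ⁻¹ * δ⁻¹ : A) : MulAut P) = f * g⁻¹ := by
      rw [hf, hg]; simp [mul_assoc]
    refine ⟨fun x hx => ?_, fun x => ?_⟩
    · rw [e, MulAut.mul_apply]
      have hy := hMinv g⁻¹ x hx
      conv_rhs => rw [← MulAut.apply_inv_self P g x]
      rw [hf, hg, MulAut.mul_apply, MulAut.mul_apply, hl _ (hMinv _ _ (hg ▸ hy)), hl' _ (hg ▸ hy),
        hl' _ (hMinv _ _ (hg ▸ hy)), hl _ (hg ▸ hy), ← pow_mul, ← pow_mul, mul_comm]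
    · rw [e, MulAut.mul_apply]
      conv_rhs => rw [← MulAut.apply_inv_self P g x]
      rw [hf, hg, MulAut.mul_apply, MulAut.mul_apply, hm, hm', hm', hm, ← pow_mul, ← pow_mul, mul_comm]
  haveI : R.Normal := ⟨fun r hr γ => by
    have h := R.mul_mem (hcomm γ r) hr
    rwa [inv_mul_cancel_right] at h⟩
  refine ⟨R, inferInstance, ?_, hcomm, fun γ => ?_⟩
  · haveI : Finite (MulAut P) := Finite.of_injective (fun γ : MulAut P => (γ : P → P)) DFunLike.coe_injective
    refine IsPGroup.of_card (Nat.eq_prime_pow_of_unique_prime_dvd Nat.card_pos.ne' fun {q} hq hqd => ?_)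
    by_contra hne
    haveI := Fact.mk hq
    obtain ⟨φ, hφ⟩ := exists_prime_orderOf_dvd_card' q hqd
    obtain ⟨ψ, hψ⟩ : ∃ ψ : MulAut P, ψ = ((φ : A) : MulAut P) := ⟨_, rfl⟩
    have hψq : ψ ^ q = 1 := by
      rw [hψ, ← SubmonoidClass.coe_pow, ← SubmonoidClass.coe_pow, ← hφ, pow_orderOf_eq_one]; rfl
    have h1 := hψ ▸ φ.2.1
    have h2 := hψ ▸ φ.2.2
    have htriv : ∀ x : P, ψ x * x⁻¹ ∈ frattini P := by
      intro x
      obtain ⟨d, hd⟩ : ∃ d, d = x⁻¹ * ψ x := ⟨_, rfl⟩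
      have hdM : d ∈ M := by rw [← hν1, hd, map_mul, map_inv, h2, inv_mul_cancel]
      have hit : ∀ k : ℕ, μ ((ψ ^ k) x) = μ x * μ d ^ k := by
        intro k
        induction k generalizing x d with
        | zero => simp
        | succ k ih =>
          rw [pow_succ, MulAut.mul_apply]
          have hdd : d⁻¹ * ((ψ x)⁻¹ * ψ (ψ x)) ∈ frattini P := by
            rw [← hμ1, map_mul, map_inv, show (ψ x)⁻¹ * ψ (ψ x) = ψ d by rw [hd, map_mul, map_inv], h1 d hdM,
              inv_mul_cancel]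
          have hM' : (ψ x)⁻¹ * ψ (ψ x) ∈ M := by rw [← hν1, map_mul, map_inv, h2 (ψ x), inv_mul_cancel]
          have he : μ ((ψ x)⁻¹ * ψ (ψ x)) = μ d := by
            rw [← hμ1, map_mul, map_inv] at hdd
            exact (inv_mul_eq_one.1 hdd).symm
          rw [ih (ψ x) _ rfl hM', he, show μ (ψ x) = μ x * μ d by rw [hd, map_mul, map_inv, mul_inv_cancel_left],
            pow_succ', mul_assoc]
      have hq1 := hit q
      rw [hψq, MulAut.one_apply, left_eq_mul] at hq1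
      have hd1 : μ d = 1 := orderOf_eq_one_iff.1 (Nat.eq_one_of_dvd_coprimes
        ((Nat.coprime_primes hq hp.out).2 hne) (orderOf_dvd_of_pow_eq_one hq1)
        (orderOf_dvd_of_pow_eq_one (hμp d)))
      rw [hμ1, hd] at hd1
      simpa [mul_assoc] using (inferInstance : (frattini P).Normal).conj_mem _ hd1 x
    have h3 := Solv.MetaTwo.eq_one_of_trivial hP hne hψq htriv
    rw [show φ = 1 from Subtype.ext (Subtype.ext (hψ ▸ h3)), orderOf_one] at hφ
    exact hq.one_lt.ne hφ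
  · obtain ⟨l, m, hl, hm⟩ := hpow γ
    have hit : ∀ k : ℕ, (∀ x ∈ M, μ (((γ : MulAut P) ^ k) x) = μ x ^ l ^ k) ∧
        ∀ x, ν (((γ : MulAut P) ^ k) x) = ν x ^ m ^ k := by
      intro k
      induction k with
      | zero => simp
      | succ k ih =>
        refine ⟨fun x hx => ?_, fun x => ?_⟩
        · rw [pow_succ, MulAut.mul_apply, ih.1 _ (hMinv _ x hx), hl x hx, ← pow_mul, ← pow_succ']
        · rw [pow_succ, MulAut.mul_apply, ih.2, hm, ← pow_mul, ← pow_succ']
    have hfer : ∀ {Z : Type _} [Group Z] (z : Z) (t : ℕ), z ^ p = 1 → (p ∣ t → z = 1) → z ^ t ^ (p - 1) = z := by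
      intro Z _ z t hz hz1
      by_cases hd : p ∣ t
      · rw [hz1 hd, one_pow]
      · have h := Nat.ModEq.pow_card_sub_one_eq_one hp.out ((hp.out.coprime_iff_not_dvd.2 hd).symm)
        have h' : t ^ (p - 1) ≡ 1 [MOD orderOf z] := h.of_dvd (orderOf_dvd_of_pow_eq_one hz)
        rw [pow_eq_pow_iff_modEq.2 h', pow_one]
    refine ⟨fun x hx => ?_, fun x => ?_⟩
    · rw [SubmonoidClass.coe_pow, (hit _).1 x hx]
      refine hfer _ l (hμp x) fun ⟨c, hc⟩ => ?_
      have h := hl _ (hMinv (γ : MulAut P)⁻¹ x hx)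
      rw [MulAut.apply_inv_self, hc, pow_mul, hμp, one_pow] at h
      exact h
    · rw [SubmonoidClass.coe_pow, (hit _).2 x]
      refine hfer _ m (hνp x) fun ⟨c, hc⟩ => ?_
      have h := hm ((γ : MulAut P)⁻¹ x)
      rw [MulAut.apply_inv_self, hc, pow_mul, hνp, one_pow] at h
      exact h

end aut

variable {Ω : Type*} [Group Ω] {S : Subgroup Ω} [Finite S] {F : FusionSystem S}

omit hp in
/-- The flag of an automiser with a large normal `p`-subgroup consists of strongly closed subgroups. -/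
theorem hasChain [Fact p.Prime] (hS : IsPGroup p S) (hn : F.IsNormal S) (R : Subgroup (F.autGroup S)) [R.Normal]
    (hR : IsPGroup p R) (hcomm : ∀ γ δ : F.autGroup S, γ * δ * γ⁻¹ * δ⁻¹ ∈ R)
    (hexp : ∀ γ : F.autGroup S, γ ^ (p - 1) ∈ R) : Chain.HasChain F := by
  refine Chain.hasChain_of_step fun N hN hNS => ?_
  haveI : (N.subgroupOf S).Normal := ⟨fun x hx g => stronglyClosed_conj_mem hN g.2 hx⟩
  obtain ⟨M, -, hlt, hinv, z, hz⟩ := Solv.Flag.exists_step hS (F.autGroup S) R hR hcomm hexp (N.subgroupOf S)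
    (fun γ hγ x hx => by
      have h := stronglyClosed_map hN (map_of_mem_autGroup le_rfl hγ) x.2 hx
      rw [av_coe] at h
      exact h)
    (fun h => hNS (le_antisymm hN.1 (Subgroup.subgroupOf_eq_top.1 h)))
  have hNmap : (N.subgroupOf S).map S.subtype = N := by
    rw [Subgroup.map_subgroupOf_eq_of_le hN.1]
  refine ⟨M.map S.subtype, stronglyClosed_iff.2 ⟨Subgroup.map_subtype_le M, fun P f hPM hf x hx => ?_⟩,
    hNmap ▸ (Subgroup.map_lt_map_iff_of_injective S.subtype_injective).2 hlt, (z : Ω), z.2, ?_⟩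
  · obtain ⟨g, hg, hgf, hgS⟩ := (normal_iff.1 hn).2 P f hf
    have hPS : P ≤ S := hPM.trans (Subgroup.map_subtype_le M)
    rw [sup_eq_right.2 hPS] at hg
    obtain ⟨α, hα, hαg⟩ := exists_aut hg hgS
    obtain ⟨y, hy, rfl⟩ := hPM hx
    refine ⟨α y, hinv α hα y hy, ?_⟩
    show ((α y : S) : Ω) = f y
    rw [← av_coe, hαg _ y.2]
    exact hgf _ hx
  · rw [hz, Subgroup.map_sup, hNmap, MonoidHom.map_zpowers]
    rfl

include hp

theorem hasChain_of_not_exceptional (hS : IsPGroup p S) (hm : Cfsg.IsMetacyclic S) (hF : F.IsSaturated p)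
    (hnh : ¬ ∃ n : ℕ, 0 < n ∧ Nonempty (S ≃* Multiplicative (ZMod (p ^ n)) × Multiplicative (ZMod (p ^ n))))
    (hne : p = 2 → ¬ ((∃ n : ℕ, 2 ≤ n ∧ Nonempty (S ≃* DihedralGroup n)) ∨ IsQuasiDihedral S ∨
      ∃ n : ℕ, 2 ≤ n ∧ Nonempty (S ≃* QuaternionGroup n))) : Chain.HasChain F := by
  have hSc : F.StronglyClosed S := ⟨le_rfl, fun R _ φ hφ x => (F.le_of_mem hφ).2 x⟩
  by_cases hnc : IsCyclic S
  · obtain ⟨x, hx⟩ := (Subgroup.isCyclic_iff_exists_zpowers_eq_top S).1 hnc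
    refine Chain.hasChain_of_step fun N hN hNS => ⟨S, hSc, lt_of_le_of_ne hN.1 hNS, x,
      hx.le (Subgroup.mem_zpowers x), ?_⟩
    rw [hx, sup_eq_right.2 hN.1]
  by_cases hp2 : p = 2
  · subst hp2
    have hd : ¬ ∃ m : ℕ, Nonempty (S ≃* DihedralGroup m) := by
      rintro ⟨m, ⟨e⟩⟩
      rcases m with _ | _ | m
      · exact (Nat.card_pos (α := S)).ne' (by rw [Nat.card_congr e.toEquiv, DihedralGroup.nat_card])
      · exact hnc (isCyclic_of_prime_card (p := 2) (by rw [Nat.card_congr e.toEquiv, DihedralGroup.nat_card]))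
      · exact hne rfl (Or.inl ⟨m + 2, by omega, ⟨e⟩⟩)
    have hq : ¬ ∃ m : ℕ, Nonempty (S ≃* QuaternionGroup m) := by
      rintro ⟨m, ⟨e⟩⟩
      rcases m with _ | _ | m
      · haveI : Finite (QuaternionGroup 0) := Finite.of_equiv _ e.toEquiv
        haveI := Finite.of_injective (QuaternionGroup.a : ZMod (2 * 0) → QuaternionGroup 0)
          (fun a b h => QuaternionGroup.a.inj h)
        haveI : Infinite (ZMod (2 * 0)) := inferInstanceAs (Infinite ℤ)
        exact not_finite (ZMod (2 * 0))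
      · exact hnc (e.isCyclic.2 QuaternionGroup.quaternionGroup_one_isCyclic)
      · exact hne rfl (Or.inr (Or.inr ⟨m + 2, by omega, ⟨e⟩⟩))
    have hsd : ¬ IsQuasiDihedral S := fun h => hne rfl (Or.inr (Or.inl h))
    have hn := Cfsg.Agent.S5235.result 2 hS F hF S hSc rfl hm hd hq hsd
    have h2 := two_group hS hm hnc hnh (by
      rintro (h | h | h)
      exacts [hd h, hq h, hsd h])
    exact hasChain hS hn ⊤ ((h2.to_subgroup (F.autGroup S)).to_subgroup ⊤) (fun _ _ => trivial) fun _ => trivial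
  · obtain ⟨R, hRn, hR, hc, he⟩ := odd_kernel hp2 hS hm hnc hnh (F.autGroup S)
    haveI := hRn
    exact hasChain hS (normal_of_small_omega hS hF hp2 hSc (metacyclic_small_omega hp2 hS hm)) R hR hc he

end Cfsg.Agent.Local.FS.MetaChain
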