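import Cfsg.Agent.Lib.Local.FS.InnerBasic
import Cfsg.Agent.Lib.Local.FS.Transport
import Cfsg.Agent.Lib.Local.FS.Normal
import Cfsg.Agent.Lib.Local.FS.Focal

/-!
The fusion system of a group of automorphisms of a `p`-group, and minimal non-inner fusion systems.
-/

set_option autoImplicit false

namespace Cfsg.Agent.Local.FS

open Cfsg Cfsg.FusionSystem Cfsg.Agent.Fusion

universe u

variable {Ω : Type u} [Group Ω] {T : Subgroup Ω}

theorem av_conj (t : T) {x : Ω} (hx : x ∈ T) : av (MulAut.conj t) x = t * x * (t : Ω)⁻¹ := by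
  rw [av_apply _ hx]; rfl

theorem av_map_mul (a : MulAut T) {x y : Ω} (hx : x ∈ T) (hy : y ∈ T) : av a (x * y) = av a x * av a y := by
  rw [av_apply _ (T.mul_mem hx hy), av_apply _ hx, av_apply _ hy]
  exact congrArg Subtype.val (map_mul a ⟨x, hx⟩ ⟨y, hy⟩)

/-- The system of restrictions of the automorphisms in `A`. -/
noncomputable def autSys (A : Subgroup (MulAut T)) (hA : Inn ↥T ≤ A) : FusionSystem T where
  Hom P := {φ | P ≤ T ∧ ∃ a ∈ A, ∀ x : P, φ x = av a x}
  le_of_mem := by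
    rintro P φ ⟨hP, a, -, h⟩
    exact ⟨hP, fun x => h x ▸ av_mem a (hP x.2)⟩
  injective_of_mem := by
    rintro P φ ⟨hP, a, -, h⟩ x y hxy
    rw [h, h] at hxy
    have := congrArg (av a⁻¹) hxy
    rw [av_inv_av a (hP x.2), av_inv_av a (hP y.2)] at this
    exact Subtype.ext this
  conj_mem := by
    intro P g hP hg
    exact ⟨hP, MulAut.conj ⟨g, hg⟩, hA ⟨_, rfl⟩, fun x => (av_conj ⟨g, hg⟩ (hP x.2)).symm⟩
  comp_mem := by
    rintro P Q φ ψ ⟨hP, a, ha, hφ⟩ ⟨-, b, hb, hψ⟩ h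
    refine ⟨hP, b * a, mul_mem hb ha, fun x => ?_⟩
    show ψ (φ.codRestrict Q h x) = _
    rw [hψ, av_mul b a (hP x.2)]
    exact congrArg (av b) (hφ x)
  inv_mem := by
    rintro P φ ⟨hP, a, ha, hφ⟩
    have hm : ∀ y ∈ φ.range, y ∈ T := by
      rintro _ ⟨x, rfl⟩
      exact hφ x ▸ av_mem a (hP x.2)
    refine ⟨MonoidHom.mk' (fun y => av a⁻¹ y) (fun y z => ?_), ⟨hm, a⁻¹, inv_mem ha, fun y => rfl⟩, fun x => ?_⟩
    · show av a⁻¹ ((y : Ω) * z) = _
      exact av_map_mul _ (hm _ y.2) (hm _ z.2)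
    · show av a⁻¹ (φ x) = x
      rw [hφ, av_inv_av a (hP x.2)]

theorem map_autSys_iff {A : Subgroup (MulAut T)} {hA : Inn ↥T ≤ A} {P : Subgroup Ω} {f : Ω → Ω} :
    Map (autSys A hA) P f ↔ P ≤ T ∧ ∃ a ∈ A, ∀ x ∈ P, f x = av a x := by
  constructor
  · rintro ⟨φ, ⟨hP, a, ha, hφ⟩, he⟩
    exact ⟨hP, a, ha, fun x hx => (he ⟨x, hx⟩).symm.trans (hφ ⟨x, hx⟩)⟩
  · rintro ⟨hP, a, ha, h⟩
    refine ⟨MonoidHom.mk' (fun x : P => av a x) (fun x y => ?_), ⟨hP, a, ha, fun x => rfl⟩,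
      fun x => (h x x.2).symm⟩
    show av a ((x : Ω) * y) = _
    exact av_map_mul _ (hP x.2) (hP y.2)

/-- The system of `Inn T` extended by a `p'`-group of automorphisms is saturated. -/
theorem autSys_saturated [Finite T] {p : ℕ} [Fact p.Prime] (hT : IsPGroup p T) (B : Subgroup (MulAut T))
    (hB : ¬ p ∣ Nat.card B) : (autSys (Inn ↥T ⊔ B) le_sup_left).IsSaturated p := by
  haveI : Finite (MulAut T) := finite_mulAut
  let G := SemidirectProduct ↥T ↥B B.subtype
  haveI : Finite G := Finite.of_equiv _ SemidirectProduct.equivProd.symm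
  let i : T →* G := SemidirectProduct.inl
  have hinj : Function.Injective i := SemidirectProduct.inl_injective
  have hsyl : SylIn p i.range (⊤ : Subgroup G) := by
    refine ⟨le_top, hT.of_surjective i.rangeRestrict i.rangeRestrict_surjective, ?_⟩
    rw [Subgroup.relIndex_top_right]
    have h1 := i.range.card_mul_index
    have h2 : Nat.card i.range = Nat.card T := Nat.card_congr (MonoidHom.ofInjective hinj).toEquiv.symm
    rw [h2, Nat.card_congr SemidirectProduct.equivProd, Nat.card_prod] at h1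
    rwa [Nat.eq_of_mul_eq_mul_left Nat.card_pos h1]
  have hconj : ∀ (t : T) (b : B) (x : T),
      i (t * (b : MulAut T) x * t⁻¹) = (i t * SemidirectProduct.inr b) * i x * (i t * SemidirectProduct.inr b)⁻¹ := by
    intro t b x
    rw [map_mul, map_mul, map_inv]
    show i t * SemidirectProduct.inl (B.subtype b x) * (i t)⁻¹ = _
    rw [SemidirectProduct.inl_aut, map_inv]
    show i t * (SemidirectProduct.inr b * i x * (SemidirectProduct.inr b)⁻¹) * (i t)⁻¹ = _
    rw [mul_inv_rev]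
    simp only [mul_assoc]
  refine FIso.saturated (i := i) (F' := groupFusionSystem i.range) ⟨hinj, rfl, fun P hP f hm => ?_⟩ hT
    (group_saturated hsyl)
  rw [map_autSys_iff, map_group_iff]
  have hv : ∀ x ∈ T, ve i (ue i x) = x := fun x hx => by
    rw [ue_apply hx, ve, Function.leftInverse_invFun hinj ⟨x, hx⟩]
  constructor
  · rintro ⟨-, a, ha, hfa⟩
    obtain ⟨c, ⟨t, rfl⟩, b, hb, rfl⟩ := Subgroup.mem_sup_of_normal_left.1 ha
    refine ⟨?_, ?_, i t * SemidirectProduct.inr ⟨b, hb⟩, ?_⟩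
    · rintro _ ⟨x, -, rfl⟩
      exact ⟨x, rfl⟩
    · rintro y hy
      obtain ⟨x, hx, rfl⟩ := (mem_up hP).1 hy
      show ue i (f (ve i (ue i x))) ∈ _
      rw [hv x (hP hx), ue_apply (hm x hx)]
      exact ⟨_, rfl⟩
    · rintro y hy
      obtain ⟨x, hx, rfl⟩ := (mem_up hP).1 hy
      show ue i (f (ve i (ue i x))) = _
      rw [hv x (hP hx), ue_apply (hm x hx), ue_apply (hP hx), ← hconj t ⟨b, hb⟩ ⟨x, hP hx⟩]
      refine congrArg i (Subtype.ext ?_)
      show f x = _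
      rw [hfa x hx, av_apply _ (hP hx)]
      rfl
  · rintro ⟨-, -, g, hg⟩
    refine ⟨hP, MulAut.conj g.left * (g.right : MulAut T), mul_mem (Subgroup.mem_sup_left ⟨_, rfl⟩)
      (Subgroup.mem_sup_right g.right.2), fun x hx => ?_⟩
    have h1 := hg (ue i x) (ue_mem_up hP hx)
    rw [hv x (hP hx), ue_apply (hm x hx), ue_apply (hP hx)] at h1
    have hgd : g = i g.left * SemidirectProduct.inr g.right := (SemidirectProduct.inl_left_mul_inr_right g).symm
    rw [hgd, ← hconj g.left g.right ⟨x, hP hx⟩] at h1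
    rw [av_apply _ (hP hx)]
    exact congrArg Subtype.val (hinj h1)

/-- A minimal non-inner system: inner systems are its only proper saturated subsystems. -/
def IsMinimalNonInner {S : Subgroup Ω} (F : FusionSystem S) (p : ℕ) : Prop :=
  ¬ IsInner F ∧ ∀ (T : Subgroup Ω) (E : FusionSystem T), E.IsSaturated p → E.IsSubsystemOf F →
    (T = S ∧ ∀ P : Subgroup Ω, E.Hom P = F.Hom P) ∨ IsInner E

variable {S : Subgroup Ω} [Finite S] {F : FusionSystem S} {p : ℕ} [Fact p.Prime]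

/-- A nontrivial `p'`-automorphism in a minimal non-inner system lives on the whole of `S` and generates it. -/
theorem eq_of_minimal (hS : IsPGroup p S) (hmin : IsMinimalNonInner F p) {U : Subgroup Ω} (hU : U ≤ S)
    {β : MulAut U} (hβ : β ∈ F.autGroup U) (hβo : ¬ p ∣ orderOf β) (hne : β ≠ 1) :
    U = S ∧ ∀ P : Subgroup Ω, F.Hom P = (autSys (Inn ↥U ⊔ Subgroup.zpowers β) le_sup_left).Hom P := by
  haveI := finite_of_le hU
  have hUp := hS.to_le hU
  have hle : Inn ↥U ⊔ Subgroup.zpowers β ≤ F.autGroup U :=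
    sup_le (inn_le_autGroup hU) (Subgroup.zpowers_le.2 hβ)
  have hsat := autSys_saturated hUp (Subgroup.zpowers β) (by rw [Nat.card_zpowers]; exact hβo)
  have hsub : (autSys (Inn ↥U ⊔ Subgroup.zpowers β) le_sup_left).IsSubsystemOf F := by
    rintro P φ ⟨hP, a, ha, hφ⟩
    exact ((map_of_mem_autGroup hU (hle ha)).restrict hP).mem_hom hφ
  rcases hmin.2 U _ hsat hsub with ⟨h1, h2⟩ | h
  · exact ⟨h1, fun P => (h2 P).symm⟩
  · exfalso
    haveI := mulAut_finite_of_le hU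
    obtain ⟨k, hk⟩ := isPGroup_autGroup_of_inner hUp h le_rfl ⟨β, mem_autGroup_of_map (map_autSys_iff.2
      ⟨le_rfl, β, Subgroup.mem_sup_right (Subgroup.mem_zpowers β), fun x _ => rfl⟩)⟩
    have hk' : β ^ p ^ k = 1 := congrArg Subtype.val hk
    obtain ⟨j, -, hj⟩ := (Nat.dvd_prime_pow (Fact.out : p.Prime)).1 (orderOf_dvd_of_pow_eq_one hk')
    rcases Nat.eq_zero_or_pos j with rfl | hj0
    · rw [pow_zero] at hj
      exact hne (orderOf_eq_one_iff.1 hj)
    · exact hβo (hj ▸ dvd_pow_self p hj0.ne')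

/-- Structure of a minimal non-inner system. -/
theorem minimal_structure (hS : IsPGroup p S) (hF : F.IsSaturated p) (hmin : IsMinimalNonInner F p) :
    F.IsNormal S ∧ F.focalSubgroup = S ∧ F.hyperfocalSubgroup p = S ∧ ∃ (q : ℕ) (β : MulAut ↥S), q.Prime ∧ q ≠ p ∧
      β ∈ F.autGroup S ∧ orderOf β = q ∧ (F.autGroup S : Subgroup (MulAut ↥S)) = Inn ↥S ⊔ Subgroup.zpowers β := by
  have hp := (Fact.out : p.Prime)
  obtain ⟨R, q, β, hR, hq, hqp, hβ, hβo⟩ : ∃ (R : Subgroup Ω) (q : ℕ) (β : MulAut R), R ≤ S ∧ q.Prime ∧ q ≠ p ∧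
      β ∈ F.autGroup R ∧ orderOf β = q := by
    by_contra hcon
    refine hmin.1 (isInner_of_gen hS hF fun R hR => ?_)
    have hRS : R ≤ S := by rcases hR with rfl | hE; exacts [le_rfl, hE.1.1]
    haveI := mulAut_finite_of_le hRS
    refine IsPGroup.iff_card.2 ⟨_, Nat.eq_prime_pow_of_unique_prime_dvd Nat.card_pos.ne' fun {q} hq hd => ?_⟩
    by_contra hqp
    haveI := Fact.mk hq
    obtain ⟨⟨β, hβ⟩, hβo⟩ := exists_prime_orderOf_dvd_card' (G := ↥(F.autGroup R)) q hd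
    rw [Subgroup.orderOf_mk] at hβo
    exact hcon ⟨R, q, β, hRS, hq, hqp, hβ, hβo⟩
  have hnd : ∀ {U : Subgroup Ω} {γ : MulAut U}, γ ^ q = 1 → ¬ p ∣ orderOf γ := fun h hd =>
    hqp ((Nat.prime_dvd_prime_iff_eq hp hq).1 (hd.trans (orderOf_dvd_of_pow_eq_one h))).symm
  obtain ⟨rfl, hhom⟩ := eq_of_minimal hS hmin hR hβ (hnd (hβo ▸ pow_orderOf_eq_one β))
    fun h => hq.ne_one (by rw [← hβo, h, orderOf_one])
  haveI := mulAut_finite_of_le (le_refl R)
  have hmap : ∀ {P : Subgroup Ω} {f : Ω → Ω}, Map F P f →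
      ∃ a ∈ Inn ↥R ⊔ Subgroup.zpowers β, ∀ x ∈ P, f x = av a x := by
    rintro P f ⟨φ, hφ, he⟩
    exact (map_autSys_iff.1 ⟨φ, hhom P ▸ hφ, he⟩).2
  have hnorm : F.IsNormal R := normal_iff.2 ⟨le_rfl, fun P f hf => by
    obtain ⟨a, ha, hfa⟩ := hmap hf
    refine ⟨av a, ?_, fun x hx => (hfa x hx).symm, im_av a⟩
    rw [sup_eq_right.2 hf.le]
    exact map_of_mem_autGroup le_rfl ((sup_le (inn_le_autGroup le_rfl) (Subgroup.zpowers_le.2 hβ)) ha)⟩
  have hqpow : β ^ q = 1 := hβo ▸ pow_orderOf_eq_one β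
  -- the commutator `U = [R, β]`
  obtain ⟨U, hU⟩ : ∃ U : Subgroup Ω, U = Subgroup.closure {y | ∃ x ∈ R, y = x⁻¹ * av β x} := ⟨_, rfl⟩
  have hgen : ∀ x ∈ R, x⁻¹ * av β x ∈ U := fun x hx => hU ▸ Subgroup.subset_closure ⟨x, hx, rfl⟩
  have hUR : U ≤ R := hU ▸ (Subgroup.closure_le R).2 (by
    rintro _ ⟨x, hx, rfl⟩
    exact R.mul_mem (R.inv_mem hx) (av_mem β hx))
  have hβU : ∀ y ∈ U, av β y ∈ U := by
    intro y hy
    have := U.mul_mem hy (hgen y (hUR hy))
    rwa [mul_inv_cancel_left] at this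
  have hmapβ := map_of_mem_autGroup le_rfl hβ
  have him : im U (av β) = U := by
    haveI := finite_of_le hUR
    exact Subgroup.eq_of_le_of_card_ge (im_le_iff.2 hβU) (hmapβ.restrict hUR).card_im.ge
  obtain ⟨γ, hγ, hγβ⟩ := exists_aut (hmapβ.restrict hUR) him
  have hγpow : ∀ (k : ℕ), ∀ y ∈ U, av (γ ^ k) y = av (β ^ k) y := by
    intro k
    induction k with
    | zero => intro y hy; rw [pow_zero, pow_zero, av_one hy, av_one (hUR hy)]
    | succ k ih =>
      intro y hy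
      rw [pow_succ', pow_succ', av_mul _ _ hy, av_mul _ _ (hUR hy), hγβ _ (av_mem _ hy), ih y hy]
  have hUeq : U = R := by
    by_cases hγ1 : γ = 1
    · exfalso
      refine hq.ne_one (hβo ▸ orderOf_eq_one_iff.2 (aut_ext fun x hx => ?_))
      obtain ⟨u, hu, hxu⟩ : ∃ u ∈ U, av β x = x * u := ⟨_, hgen x hx, by rw [mul_inv_cancel_left]⟩
      have hfix : av β u = u := by rw [← hγβ u hu, hγ1, av_one hu]
      have hk : ∀ k : ℕ, av (β ^ k) x = x * u ^ k := by
        intro k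
        induction k with
        | zero => rw [pow_zero, av_one hx, pow_zero, mul_one]
        | succ k ih =>
          rw [pow_succ', av_mul _ _ hx, ih, hmapβ.map_mul hx (R.pow_mem (hUR hu) k), hxu]
          have hpk : av β (u ^ k) = u ^ k := by
            clear ih
            induction k with
            | zero => rw [pow_zero]; exact hmapβ.map_one
            | succ k ih => rw [pow_succ, hmapβ.map_mul (R.pow_mem (hUR hu) k) (hUR hu), ih, hfix]
          rw [hpk, mul_assoc, ← pow_succ']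
      have h1 := hk q
      rw [hqpow, av_one hx] at h1
      have huq : u ^ q = 1 := mul_left_cancel (h1.symm.trans (mul_one x).symm)
      have hu1 : u = 1 := by
        obtain ⟨j, hj⟩ := hS ⟨u, hUR hu⟩
        have hj' : u ^ p ^ j = 1 := congrArg Subtype.val hj
        exact orderOf_eq_one_iff.1 (Nat.dvd_one.1 ((((Nat.coprime_primes hq hp).2 hqp).pow_right j) ▸
          Nat.dvd_gcd (orderOf_dvd_of_pow_eq_one huq) (orderOf_dvd_of_pow_eq_one hj')))
      rw [hxu, hu1, mul_one, av_one hx]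
    · exact (eq_of_minimal hS hmin hUR hγ (hnd (aut_ext fun y hy => by
        rw [hγpow q y hy, hqpow, av_one (hUR hy), av_one hy])) hγ1).1
  have hfoc : F.focalSubgroup = R := by
    refine le_antisymm ((Subgroup.closure_le R).2 ?_) ?_
    · rintro _ ⟨P, φ, x, hφ, rfl⟩
      exact R.mul_mem (R.inv_mem ((F.le_of_mem hφ).1 x.2)) ((F.le_of_mem hφ).2 x)
    · conv_lhs => rw [← hUeq, hU]
      refine (Subgroup.closure_le _).2 ?_
      rintro _ ⟨x, hx, rfl⟩
      refine Subgroup.subset_closure ⟨R, R.subtype.comp β.toMonoidHom, ⟨x, hx⟩,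
        hmapβ.mem_hom fun y => (av_coe β y).symm, ?_⟩
      rw [av_apply _ hx]
      rfl
  have hhyp : F.hyperfocalSubgroup p = R := by
    refine le_antisymm hyperfocal_le ?_
    conv_lhs => rw [← hUeq, hU]
    refine (Subgroup.closure_le _).2 ?_
    rintro _ ⟨x, hx, rfl⟩
    refine Subgroup.subset_closure ⟨R, ⟨β, hβ⟩, ⟨x, hx⟩, le_rfl, Subgroup.subset_closure ?_, ?_⟩
    · show Nat.Coprime _ p
      rw [Subgroup.orderOf_mk, hβo]
      exact (Nat.coprime_primes hq hp).2 hqp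
    · rw [av_apply _ hx]
  refine ⟨hnorm, hfoc, hhyp, q, β, hq, hqp, hβ, hβo,
    le_antisymm (fun α hα => ?_) (sup_le (inn_le_autGroup le_rfl) (Subgroup.zpowers_le.2 hβ))⟩
  obtain ⟨a, ha, hfa⟩ := hmap (map_of_mem_autGroup le_rfl hα)
  rwa [aut_ext hfa]

end Cfsg.Agent.Local.FS
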