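import Cfsg.Agent.Lib.Local.FS.ModelUnique
import Cfsg.Agent.Lib.Local.FS.NormSat
import Cfsg.Agent.Lib.Local.FS.Centric

/-!
Embeddings between models of normalizer systems.
-/

set_option autoImplicit false

namespace Cfsg.Agent.Local.FS

open Cfsg Cfsg.FusionSystem Cfsg.Agent.Fusion

variable {Ω : Type*} [Group Ω] {S : Subgroup Ω} {F : FusionSystem S} {p : ℕ} {P Q R A : Subgroup Ω} {f : Ω → Ω}

/-- The maps of a normalizer system. -/
theorem map_normalizerSystem_iff {N : FusionSystem (normalizerIn S Q)} (hN : F.IsNormalizerSystem Q N) :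
    Map N A f ↔ A ≤ normalizerIn S Q ∧ (∀ x ∈ A, f x ∈ normalizerIn S Q) ∧
      ∃ g, Map F (A ⊔ Q) g ∧ (∀ x ∈ A, g x = f x) ∧ im Q g = Q := by
  constructor
  · rintro ⟨φ, hφ, he⟩
    rw [hN A] at hφ
    obtain ⟨hA, hm, g, hg, hφg, hgQ⟩ := mem_normalizerHom.1 hφ
    exact ⟨hA, fun x hx => he ⟨x, hx⟩ ▸ hm _, g, hg,
      fun x hx => (hφg ⟨x, hx⟩).symm.trans (he _), hgQ⟩
  · rintro ⟨hA, hm, g, hg, hgf, hgQ⟩
    obtain ⟨φ, hφ, he⟩ := hg.restrict (le_sup_left : A ≤ A ⊔ Q)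
    refine ⟨φ, ?_, fun x => (he x).trans (hgf x x.2)⟩
    rw [hN A]
    exact mem_normalizerHom.2 ⟨hA, fun x => by rw [he x, hgf x x.2]; exact hm x x.2, g, hg, he, hgQ⟩

theorem normal_normalizerSystem (hQ : Q ≤ S) {N : FusionSystem (normalizerIn S Q)}
    (hN : F.IsNormalizerSystem Q N) : N.IsNormal Q := by
  refine normal_iff.2 ⟨le_normalizerIn hQ, fun A f hf => ?_⟩
  obtain ⟨hA, hm, g, hg, hgf, hgQ⟩ := (map_normalizerSystem_iff hN).1 hf
  have hgA : im A g ≤ normalizerIn S Q := im_le_iff.2 fun x hx => by rw [hgf x hx]; exact hm x hx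
  refine ⟨g, (map_normalizerSystem_iff hN).2 ⟨sup_le hA (le_normalizerIn hQ), fun x hx => ?_, g,
    by rwa [sup_assoc, sup_idem], fun x _ => rfl, hgQ⟩, hgf, hgQ⟩
  exact hg.im_sup_le.trans (sup_le hgA (hgQ.trans_le (le_normalizerIn hQ))) (mem_im_of_mem hx)

variable [Finite S] [Fact p.Prime]

/-- In a model, a normal subgroup containing its centralizer in the Sylow subgroup contains its centralizer. -/
theorem centralizer_le_of_model {G : Type*} [Group G] {ι : S →* G} (hm : F.IsModel p G ι) (W : Subgroup G)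
    [W.Normal] (hW : W ≤ ι.range) (hc : ∀ s : S, ι s ∈ Subgroup.centralizer (W : Set G) → ι s ∈ W) :
    Subgroup.centralizer (W : Set G) ≤ W := by
  haveI := hm.1
  have hC : (Subgroup.centralizer (W : Set G)).Normal := inferInstance
  obtain ⟨k, hk⟩ := IsPGroup.iff_card.1 (isPGroup_pCore p G)
  have hp : IsPGroup p ↥(Subgroup.centralizer (W : Set G)) := by
    rintro ⟨c, hc'⟩
    have hpow : c ^ p ^ k ∈ pCore p G := by
      refine hm.2.2.2 (Subgroup.mem_centralizer_iff.2 fun w hw => ?_)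
      have hzK : c * w * c⁻¹ * w⁻¹ ∈ pCore p G :=
        Subgroup.mul_mem _ ((inferInstance : (pCore p G).Normal).conj_mem _ hw c) (Subgroup.inv_mem _ hw)
      have hzC : c * w * c⁻¹ * w⁻¹ ∈ Subgroup.centralizer (W : Set G) := by
        rw [show c * w * c⁻¹ * w⁻¹ = c * (w * c⁻¹ * w⁻¹) by group]
        exact Subgroup.mul_mem _ hc' (hC.conj_mem _ (Subgroup.inv_mem _ hc') w)
      obtain ⟨s, hs⟩ := pCore_le_range hm hzK
      have hzW : c * w * c⁻¹ * w⁻¹ ∈ W := hs ▸ hc s (hs.symm ▸ hzC)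
      set z := c * w * c⁻¹ * w⁻¹ with hz
      have hcz : z * c = c * z := Subgroup.mem_centralizer_iff.1 hc' z hzW
      have hn : ∀ n : ℕ, c ^ n * w = z ^ n * w * c ^ n := by
        intro n
        induction n with
        | zero => simp
        | succ n ih =>
          have hcomm : Commute c (z ^ n) := (show Commute c z from hcz.symm).pow_right n
          rw [pow_succ' c n, mul_assoc, ih, ← mul_assoc, ← mul_assoc, hcomm.eq, mul_assoc (z ^ n) c w,
            show c * w = z * w * c by rw [hz]; group, pow_succ]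
          group
      have hzp : z ^ p ^ k = 1 := by
        rw [← hk]
        exact congrArg Subtype.val (pow_card_eq_one' (G := ↥(pCore p G)) (x := ⟨z, hzK⟩))
      rw [hn, hzp, one_mul]
    obtain ⟨l, hl⟩ := isPGroup_pCore p G ⟨_, hpow⟩
    refine ⟨k + l, Subtype.ext ?_⟩
    show c ^ p ^ (k + l) = 1
    rw [pow_add, pow_mul]
    exact congrArg Subtype.val hl
  intro c hc'
  obtain ⟨s, rfl⟩ := pCore_le_range hm (le_pCore hp hc')
  exact hc s hc'

/-- The maps of `F` normalizing `Q` and `R`. -/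
def PairMap (F : FusionSystem S) (Q R A : Subgroup Ω) (f : Ω → Ω) : Prop :=
  ∃ g, Map F (A ⊔ R) g ∧ (∀ x ∈ A, g x = f x) ∧ im R g = R ∧ im Q g = Q

/-- A model of the system normalizing `Q ≤ R` embeds into a model of the normalizer of a conjugate of `R`. -/
theorem pair_embed (hS : IsPGroup p S) {R' U : Subgroup Ω} (hQR : Q ≤ R) (hRc : F.IsCentric R)
    (hRU : R ≤ U) (hUS : U ≤ S) (hUQ : U ≤ Subgroup.normalizer (Q : Set Ω))
    {K : FusionSystem U} (hK : ∀ A f, Map K A f ↔ A ≤ U ∧ (∀ x ∈ A, f x ∈ U) ∧ PairMap F Q R A f)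
    {L : Type*} [Group L] {ι : U →* L} (hL : K.IsModel p L ι)
    (hmax : ∀ ψ, Map F R ψ →
      Nat.card ↥(normalizerIn S (im R ψ) ⊓ Subgroup.normalizer ((im Q ψ : Subgroup Ω) : Set Ω)) ≤ Nat.card U)
    {φ : Ω → Ω} (hφ : Map F U φ) (hφU : ∀ x ∈ U, φ x ∈ normalizerIn S R') (hφR : im R φ = R')
    {N' : FusionSystem (normalizerIn S R')} (hN' : F.IsNormalizerSystem R' N')
    {L' : Type*} [Group L'] {κ : ↥(normalizerIn S R') →* L'} (hL' : N'.IsModel p L' κ) :
    ∃ j : L →* L', Function.Injective j := by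
  haveI := hL'.1
  haveI : Finite U := finite_of_le hUS
  let V := normalizerIn S R'
  have hR'S : R' ≤ S := hφR ▸ (hφ.restrict hRU).im_le
  have hR'V : R' ≤ V := le_normalizerIn hR'S
  have hQ'R' : im Q φ ≤ R' := hφR ▸ im_mono hQR
  have hφUV : im U φ ≤ V := im_le_iff.2 hφU
  obtain ⟨φi, hφi, hφi1, hφi2, -⟩ := hφ.exists_inv
  let θ : U →* V := MonoidHom.mk' (fun x => ⟨φ x, hφU x x.2⟩) fun x y => Subtype.ext (hφ.map_mul x.2 y.2)
  let Q'' : Subgroup L' := ((im Q φ).subgroupOf V).map κ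
  let R'' : Subgroup L' := (R'.subgroupOf V).map κ
  haveI hR''n : R''.Normal := normal_image hL' (normal_normalizerSystem hR'S hN')
  let M : Subgroup L' := Subgroup.normalizer (Q'' : Set L')
  have hκinj := hL'.2.1.1
  have hmemQ : ∀ v : V, κ v ∈ Q'' ↔ (v : Ω) ∈ im Q φ := fun v => Subgroup.mem_map_iff_mem hκinj
  have hmemR : ∀ v : V, κ v ∈ R'' ↔ (v : Ω) ∈ R' := fun v => Subgroup.mem_map_iff_mem hκinj
  have hM : ∀ g : L', (∀ v : V, (v : Ω) ∈ im Q φ → g * κ v * g⁻¹ ∈ Q'') → g ∈ M := by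
    intro g hg
    have hle : Q''.map (MulAut.conj g).toMonoidHom ≤ Q'' := by
      rintro _ ⟨_, ⟨v, hv, rfl⟩, rfl⟩; exact hg v hv
    have heq := Subgroup.eq_of_le_of_card_ge hle
      (Subgroup.card_map_of_injective (MulAut.conj g).injective).ge
    refine Subgroup.mem_normalizer_iff.2 fun w => ?_
    conv_rhs => rw [← heq]
    exact (Subgroup.mem_map_iff_mem (f := (MulAut.conj g).toMonoidHom) (MulAut.conj g).injective).symm
  have hθM : ∀ x : U, κ (θ x) ∈ M := by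
    intro x
    refine hM _ fun v hv => ?_
    rw [← map_inv, ← map_mul, ← map_mul, hmemQ]
    exact conj_mem_of_normalizer (hφ.mem_normalizer (hQR.trans hRU) x.2 (hUQ x.2)).2 hv
  let ι' : U →* M := (κ.comp θ).codRestrict M hθM
  have hι'inj : Function.Injective ι' := fun x y h =>
    Subtype.ext (hφ.injOn x.2 y.2 (congrArg Subtype.val (hκinj (congrArg Subtype.val h))))
  have hreal : K.IsRealizedBy ι' := by
    refine ⟨hι'inj, fun A hA χ hχ => ⟨fun hχK => ?_, fun ⟨g, hg⟩ => ?_⟩⟩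
    · obtain ⟨-, -, g, hg, hgχ, hgR, hgQ⟩ := (hK A _).1 (map_of_mem hχK)
      have hAR : A ⊔ R ≤ U := sup_le hA hRU
      have hgU : ∀ x ∈ A ⊔ R, g x ∈ U := fun x hx => by
        refine hg.im_sup_le.trans (sup_le (im_le_iff.2 fun y hy => ?_) (hgR.trans_le hRU)) (mem_im_of_mem hx)
        rw [hgχ y hy, fn_apply χ hy]; exact hχ _
      let A' := im (A ⊔ R) φ
      have hA'U : A' ≤ im U φ := im_mono hAR
      have hbar : Map F A' (φ ∘ g ∘ φi) := by
        refine (hφi.restrict hA'U).comp (hg.comp hφ hgU) fun y hy => ?_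
        obtain ⟨x, hx, rfl⟩ := (hφ.restrict hAR).mem_im.1 hy
        rwa [hφi1 x (hAR hx)]
      have hR'A' : R' ≤ A' := hφR ▸ im_mono le_sup_right
      have hbarR : im R' (φ ∘ g ∘ φi) = R' := by
        haveI : Finite R' := finite_of_le hR'S
        refine Subgroup.eq_of_le_of_card_ge (H := im R' (φ ∘ g ∘ φi)) (im_le_iff.2 fun y hy => ?_) ?_
        · obtain ⟨x, hx, rfl⟩ := (hφ.restrict hRU).mem_im.1 (hφR.ge hy)
          show φ (g (φi (φ x))) ∈ R'
          rw [hφi1 x (hRU hx)]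
          exact hφR.le (mem_im_of_mem (hgR.le (mem_im_of_mem hx)))
        · exact (hbar.restrict hR'A').card_im.ge
      have hbN : Map N' A' (φ ∘ g ∘ φi) := by
        refine (map_normalizerSystem_iff hN').2 ⟨hA'U.trans hφUV, fun y hy => ?_, φ ∘ g ∘ φi,
          by rwa [sup_eq_left.2 hR'A'], fun x _ => rfl, hbarR⟩
        obtain ⟨x, hx, rfl⟩ := (hφ.restrict hAR).mem_im.1 hy
        show φ (g (φi (φ x))) ∈ V
        rw [hφi1 x (hAR hx)]
        exact hφU _ (hgU x hx)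
      obtain ⟨h, hh⟩ := exists_conj_of_map hL'.2.1 hbN
      refine ⟨⟨h, hM h fun v hv => ?_⟩, fun x => Subtype.ext ?_⟩
      · have hvA : (v : Ω) ∈ A' := im_mono (hQR.trans le_sup_right) hv
        obtain ⟨x, hx, hxv⟩ := (hφ.restrict (hQR.trans hRU)).mem_im.1 hv
        have hgx : φ (g x) ∈ im Q φ := mem_im_of_mem (hgQ.le (mem_im_of_mem hx))
        rw [← hh v hvA ⟨φ (g x), hQ'R'.trans hR'V hgx⟩ (by
          show φ (g x) = φ (g (φi v))
          rw [← hxv, hφi1 x (hRU (hQR hx))]), hmemQ]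
        exact hgx
      · refine hh (θ ⟨x, hA x.2⟩) (mem_im_of_mem (Subgroup.mem_sup_left x.2)) (θ ⟨χ x, hχ x⟩) ?_
        show φ (χ x) = φ (g (φi (φ x)))
        rw [hφi1 _ (hA x.2), hgχ x x.2, fn_coe]
    · have hAR : A ⊔ R ≤ U := sup_le hA hRU
      let A' := im (A ⊔ R) φ
      have hA'V : A' ≤ V := (im_mono hAR).trans hφUV
      let Dom : Subgroup V := (κ.range).comap ((MulAut.conj (g : L')).toMonoidHom.comp κ)
      have hdom : A' ≤ Dom.map V.subtype := by
        refine (hφ.restrict hAR).im_sup_le.trans (sup_le (im_le_iff.2 fun x hx => ?_) (hφR.trans_le fun y hy => ?_))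
        · exact ⟨θ ⟨x, hA hx⟩, ⟨θ ⟨χ ⟨x, hx⟩, hχ _⟩, congrArg Subtype.val (hg ⟨x, hx⟩)⟩, rfl⟩
        · exact ⟨⟨y, hR'V hy⟩,
            Subgroup.map_le_range κ _ (hR''n.conj_mem _ ((hmemR ⟨y, hR'V hy⟩).2 hy) g), rfl⟩
      obtain ⟨b, hb, hbg⟩ := exists_map_of_conj hL'.2.1 hA'V (g : L') fun v hv =>
        (Subgroup.mem_map_iff_mem V.subtype_injective).1 (hdom hv)
      have hbF : Map F A' b := by
        obtain ⟨-, -, b', hb', hb'b, -⟩ := (map_normalizerSystem_iff hN').1 hb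
        exact (hb'.restrict le_sup_left).congr hb'b
      have hbA : ∀ x (hx : x ∈ A), b (φ x) = φ (χ ⟨x, hx⟩) := fun x hx =>
        hbg (θ ⟨x, hA hx⟩) (mem_im_of_mem (Subgroup.mem_sup_left hx)) (θ ⟨χ ⟨x, hx⟩, hχ _⟩)
          (congrArg Subtype.val (hg ⟨x, hx⟩))
      have hbR : ∀ x ∈ R, b (φ x) ∈ R' := fun x hx => by
        have hxR' : φ x ∈ R' := hφR ▸ mem_im_of_mem hx
        obtain ⟨v, hv, hv'⟩ := hR''n.conj_mem _ ((hmemR ⟨φ x, hR'V hxR'⟩).2 hxR') g
        rw [hbg ⟨φ x, hR'V hxR'⟩ (mem_im_of_mem (Subgroup.mem_sup_right hx)) v hv']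
        exact hv
      have hbQ : ∀ x ∈ Q, b (φ x) ∈ im Q φ := fun x hx => by
        have hxQ' : φ x ∈ im Q φ := mem_im_of_mem hx
        obtain ⟨v, hv, hv'⟩ := (Subgroup.mem_normalizer_iff.1 g.2 _).1
          ((hmemQ ⟨φ x, hR'V (hQ'R' hxQ')⟩).2 hxQ')
        rw [hbg ⟨φ x, hR'V (hQ'R' hxQ')⟩ (mem_im_of_mem (Subgroup.mem_sup_right (hQR hx))) v hv']
        exact hv
      have hbim : ∀ y ∈ A', b y ∈ im U φ := by
        intro y hy
        obtain ⟨x, hx, rfl⟩ := (hφ.restrict hAR).mem_im.1 hy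
        have hc : Map F (A ⊔ R) (b ∘ φ) := (hφ.restrict hAR).comp hbF fun x hx => mem_im_of_mem hx
        refine hc.im_sup_le.trans (sup_le (im_le_iff.2 fun z hz => ?_) (im_le_iff.2 fun z hz => ?_))
          (mem_im_of_mem hx)
        · show b (φ z) ∈ _
          rw [hbA z hz]; exact mem_im_of_mem (hχ _)
        · exact im_mono hRU (hφR.ge (hbR z hz))
      have hG : Map F (A ⊔ R) (φi ∘ b ∘ φ) :=
        (hφ.restrict hAR).comp (hbF.comp hφi hbim) fun x hx => mem_im_of_mem hx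
      have hGR : im R (φi ∘ b ∘ φ) = R := by
        haveI : Finite R := finite_of_le (hRU.trans hUS)
        refine Subgroup.eq_of_le_of_card_ge (im_le_iff.2 fun x hx => ?_) (hG.restrict le_sup_right).card_im.ge
        obtain ⟨z, hz, hz'⟩ := (hφ.restrict hRU).mem_im.1 (hφR.ge (hbR x hx))
        show φi (b (φ x)) ∈ R
        rwa [← hz', hφi1 z (hRU hz)]
      have hGQ : im Q (φi ∘ b ∘ φ) = Q := by
        haveI : Finite Q := finite_of_le ((hQR.trans hRU).trans hUS)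
        refine Subgroup.eq_of_le_of_card_ge (im_le_iff.2 fun x hx => ?_)
          (hG.restrict (hQR.trans le_sup_right)).card_im.ge
        obtain ⟨z, hz, hz'⟩ := (hφ.restrict (hQR.trans hRU)).mem_im.1 (hbQ x hx)
        show φi (b (φ x)) ∈ Q
        rwa [← hz', hφi1 z (hRU (hQR hz))]
      refine mem_iff_map.2 ((hK A _).2 ⟨hA, fun x hx => by rw [fn_apply χ hx]; exact hχ _,
        _, hG, fun x hx => ?_, hGR, hGQ⟩)
      show φi (b (φ x)) = fn χ x
      rw [hbA x hx, hφi1 _ (hχ _), fn_apply χ hx]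
  have hR''M : R'' ≤ M := by
    rintro _ ⟨v, hv, rfl⟩
    obtain ⟨x, hx, hxv⟩ := (hφ.restrict hRU).mem_im.1 (hφR.ge hv)
    rw [show v = θ ⟨x, hRU hx⟩ from Subtype.ext hxv.symm]
    exact hθM _
  have hVp : IsPGroup p V := hS.to_le inf_le_left
  have hcen : Subgroup.centralizer ((pCore p M : Subgroup M) : Set M) ≤ pCore p M := by
    have hR''p : IsPGroup p R'' := (hVp.to_subgroup _).map κ
    have h1 : R''.subgroupOf M ≤ pCore p M := le_pCore hR''p.comap_subtype
    have h2 : Subgroup.centralizer (R'' : Set L') ≤ R'' := by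
      refine centralizer_le_of_model hL' R'' (Subgroup.map_le_range _ _) fun v hv => (hmemR v).2 ?_
      refine hφR ▸ centric_mem hRc hφ hRU v.2.1 fun y hy => ?_
      have hy' : φ y ∈ R' := hφR ▸ mem_im_of_mem hy
      have h := Subgroup.mem_centralizer_iff.1 hv _ ((hmemR ⟨φ y, hR'V hy'⟩).2 hy')
      rw [← map_mul, ← map_mul] at h
      exact congrArg Subtype.val (hκinj h)
    intro c hc
    refine h1 (h2 (Subgroup.mem_centralizer_iff.2 fun r hr => ?_))
    exact congrArg Subtype.val (Subgroup.mem_centralizer_iff.1 hc ⟨r, hR''M hr⟩ (h1 hr))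
  have hsyl : ∃ T : Sylow p M, (T : Subgroup M) = ι'.range := by
    have hrp : IsPGroup p ι'.range := (hS.to_le hUS).of_surjective ι'.rangeRestrict ι'.rangeRestrict_surjective
    obtain ⟨X, hX⟩ := hrp.exists_le_sylow
    refine ⟨X, (Subgroup.eq_of_le_of_card_ge hX ?_).symm⟩
    rw [show Nat.card ι'.range = Nat.card U from Nat.card_congr (MonoidHom.ofInjective hι'inj).toEquiv.symm]
    obtain ⟨T, hT⟩ := hL'.2.2.1
    obtain ⟨P, hP⟩ := (X.isPGroup'.map M.subtype).exists_le_sylow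
    obtain ⟨g, hg⟩ := MulAction.exists_smul_eq L' P T
    let X' : Subgroup L' := ((X : Subgroup M).map M.subtype).map (MulAut.conj g).toMonoidHom
    have hX' : X' ≤ κ.range := by
      rw [← hT, ← hg, Sylow.coe_subgroup_smul, Subgroup.pointwise_smul_def]
      exact Subgroup.map_mono hP
    obtain ⟨b, hb, hbg⟩ := exists_map_of_conj hL'.2.1 hR'V g fun v hv =>
      Subgroup.map_le_range κ _ (hR''n.conj_mem _ ((hmemR v).2 hv) g)
    have hbF : Map F R' b := by
      obtain ⟨-, -, b', hb', hb'b, -⟩ := (map_normalizerSystem_iff hN').1 hb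
      exact (hb'.restrict le_sup_left).congr hb'b
    have hψ : Map F R (b ∘ φ) := (hφ.restrict hRU).comp hbF fun x hx => hφR ▸ mem_im_of_mem hx
    have hψR : im R (b ∘ φ) = R' := by
      haveI : Finite R' := finite_of_le hR'S
      rw [(hφ.restrict hRU).im_comp, hφR]
      refine Subgroup.eq_of_le_of_card_ge (im_le_iff.2 fun x hx => ?_) hbF.card_im.ge
      obtain ⟨v, hv, hv'⟩ := hR''n.conj_mem _ ((hmemR ⟨x, hR'V hx⟩).2 hx) g
      rw [hbg ⟨x, hR'V hx⟩ hx v hv']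
      exact hv
    refine le_trans ?_ (hmax _ hψ)
    rw [← Subgroup.card_map_of_injective (K := (X : Subgroup M)) (f := M.subtype) M.subtype_injective,
      ← Subgroup.card_map_of_injective (K := (X : Subgroup M).map M.subtype)
        (f := (MulAut.conj g).toMonoidHom) (MulAut.conj g).injective,
      show Nat.card X' = Nat.card ↥((X'.comap κ).map V.subtype) by
        rw [Subgroup.card_map_of_injective V.subtype_injective,
          Nat.card_congr ((X'.comap κ).equivMapOfInjective κ hκinj).toEquiv,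
          Subgroup.map_comap_eq_self hX']]
    haveI : Finite ↥(normalizerIn S (im R (b ∘ φ)) ⊓ Subgroup.normalizer ((im Q (b ∘ φ) : Subgroup Ω) : Set Ω)) :=
      finite_of_le (inf_le_left.trans inf_le_left)
    refine Subgroup.card_le_of_le ?_
    rintro _ ⟨v, hv, rfl⟩
    refine ⟨hψR ▸ v.2, mem_normalizer_of_conj_mem ((hψ.restrict hQR).im_le) (s := (v : Ω)) fun y hy => ?_⟩
    obtain ⟨w, hw, hw'⟩ : κ v ∈ X' := hv
    obtain ⟨m, -, rfl⟩ := hw
    obtain ⟨x, hx, rfl⟩ := (hψ.restrict hQR).mem_im.1 hy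
    have hxR' : φ x ∈ R' := hφR ▸ mem_im_of_mem (hQR hx)
    obtain ⟨r, hr, hr'⟩ := hR''n.conj_mem _ ((hmemR ⟨φ x, hR'V hxR'⟩).2 hxR') g
    have hbr : b (φ x) = r := hbg ⟨φ x, hR'V hxR'⟩ hxR' r hr'
    obtain ⟨r₂, hr₂, hr₂'⟩ := (Subgroup.mem_normalizer_iff.1 m.2 _).1
      ((hmemQ ⟨φ x, hR'V hxR'⟩).2 (mem_im_of_mem hx))
    obtain ⟨x₂, hx₂, hx₂'⟩ := (hφ.restrict (hQR.trans hRU)).mem_im.1 hr₂
    have heq : κ (v * r * v⁻¹) = g * κ r₂ * g⁻¹ := by
      have hv2 : κ v = g * (m : L') * g⁻¹ := hw'.symm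
      rw [map_mul, map_mul, map_inv, hr', hv2, hr₂']
      group
    have h2 : b (r₂ : Ω) = ((v * r * v⁻¹ : V) : Ω) := hbg r₂ (hQ'R' hr₂) _ heq
    show (v : Ω) * b (φ x) * (v : Ω)⁻¹ ∈ _
    rw [hbr, show (v : Ω) * (r : Ω) * (v : Ω)⁻¹ = ((v * r * v⁻¹ : V) : Ω) from rfl, ← h2, show (r₂ : Ω) = φ x₂ from hx₂'.symm]
    exact mem_im_of_mem (f := b ∘ φ) hx₂
  obtain ⟨e, -⟩ := model_unique (hS.to_le hUS) hL (show K.IsModel p M ι' from
    ⟨inferInstance, hreal, hsyl, hcen⟩)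
  exact ⟨M.subtype.comp e.toMonoidHom, M.subtype_injective.comp e.injective⟩

end Cfsg.Agent.Local.FS
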