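import Cfsg.Agent.Lib.Local.FS.RealizeAlong
import Cfsg.Agent.Lib.Local.FS.Normal
import Cfsg.Agent.Lib.Small.SemidihedralModel
import Cfsg.Agent.Lib.Small.IndexTwoHom
import Cfsg.Agent.Lib.Solv.MetacyclicTwoStep
import Cfsg.Prelude.Def_CaseTheorems

/-!
Saturated systems without a chain of strongly closed subgroups with cyclic steps: on homocyclic groups of rank two,
dihedral, semidihedral and generalized quaternion groups.
-/

set_option autoImplicit false

namespace Cfsg.Agent.Local.FS.NoChain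

open Cfsg Cfsg.FusionSystem Cfsg.Agent.Local.FS Cfsg.Agent.Small

variable {Ω : Type*} [Group Ω] {S : Subgroup Ω}

/-- Cyclicity of a subgroup inside a cyclic subgroup. -/
theorem cyclic_of_le {G : Type*} [Group G] {H K : Subgroup G} (hle : H ≤ K) [IsCyclic K] : IsCyclic H :=
  isCyclic_of_injective (Subgroup.inclusion hle) (Subgroup.inclusion_injective hle)

/-- In a finite cyclic group elements of equal order generate each other. -/
theorem mem_zpowers_of_orderOf_eq {C : Type*} [Group C] [Finite C] [IsCyclic C] {a b : C}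
    (h : orderOf a = orderOf b) : b ∈ Subgroup.zpowers a := by
  have hcard : Nat.card (Subgroup.zpowers a) = Nat.card (Subgroup.zpowers b) := by
    rw [Nat.card_zpowers, Nat.card_zpowers, h]
  rw [Cfsg.Agent.Solv.MetaTwo.cyclic_eq hcard]
  exact Subgroup.mem_zpowers b

/-- The criterion: `u` generates more than its square inside the cyclic part `X`. -/
theorem not_hasChain_of_fused [Finite S] (F : FusionSystem S) (X u : S)
    (huX : u ∈ Subgroup.zpowers X) (hu : u ∉ Subgroup.zpowers (u * u))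
    (hA : ∀ s ∈ Subgroup.zpowers X, s ∈ Subgroup.zpowers (u * u) ∨ u ∈ Subgroup.zpowers s)
    (hB : ∀ s : S, s ∉ Subgroup.zpowers X → s * s ∈ Subgroup.zpowers (u * u))
    (hC : ∀ s : S, Commute (u * u) s)
    (hfus : ∀ Q : Subgroup Ω, F.StronglyClosed Q → (u : Ω) ∈ Q →
      ∃ t : S, (t : Ω) ∈ Q ∧ t ∉ Subgroup.zpowers X ∧ orderOf t = orderOf u)
    (hnor : ∀ Q : Subgroup Ω, F.StronglyClosed Q → ∀ s : S, (s : Ω) ∈ Q → s ∉ Subgroup.zpowers X → (u : Ω) ∈ Q) :
    ¬ Chain.HasChain F := by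
  -- a cyclic strongly closed subgroup does not contain `u`
  have hnot : ∀ Q : Subgroup Ω, F.StronglyClosed Q → IsCyclic Q → (u : Ω) ∉ Q := by
    intro Q hQ hQc hm
    haveI := finite_of_le hQ.1
    obtain ⟨t, ht, htX, hto⟩ := hfus Q hQ hm
    have hord : orderOf (⟨(u : Ω), hm⟩ : Q) = orderOf (⟨(t : Ω), ht⟩ : Q) := by
      rw [← Subgroup.orderOf_coe ⟨(u : Ω), hm⟩, ← Subgroup.orderOf_coe ⟨(t : Ω), ht⟩]
      exact (Subgroup.orderOf_coe u).trans (hto.symm.trans (Subgroup.orderOf_coe t).symm)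
    obtain ⟨i, hi⟩ := Subgroup.mem_zpowers_iff.1 (mem_zpowers_of_orderOf_eq hord)
    refine htX ?_
    have e : u ^ i = t := Subtype.ext (by simpa using congrArg Subtype.val hi)
    exact e ▸ zpow_mem huX i
  have hSc : F.StronglyClosed S := ⟨le_rfl, fun R _ φ hφ x => (F.le_of_mem hφ).2 x⟩
  refine Chain.not_hasChain (fun h => hnot S hSc h u.2) fun N hN hNc x hx hM => ?_
  have hNle : ∀ (s : S), (s : Ω) ∈ N → s ∈ Subgroup.zpowers (u * u) := by
    intro s hs
    by_cases hsX : s ∈ Subgroup.zpowers X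
    · rcases hA s hsX with h | h
      · exact h
      · obtain ⟨i, hi⟩ := Subgroup.mem_zpowers_iff.1 h
        refine absurd ?_ (hnot N hN hNc)
        rw [← hi]
        exact zpow_mem hs i
    · exact absurd (hnor N hN s hs hsX) (hnot N hN hNc)
  by_cases hxX : (⟨x, hx⟩ : S) ∈ Subgroup.zpowers X
  · have hle : N ⊔ Subgroup.zpowers x ≤ Subgroup.zpowers (X : Ω) := by
      refine sup_le (fun y hy => ?_) (Subgroup.zpowers_le.2 ?_)
      · obtain ⟨i, hi⟩ := Subgroup.mem_zpowers_iff.1 (hNle ⟨y, hN.1 hy⟩ hy)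
        obtain ⟨j, hj⟩ := Subgroup.mem_zpowers_iff.1 huX
        refine Subgroup.mem_zpowers_iff.2 ⟨(j + j) * i, ?_⟩
        have e := congrArg Subtype.val hi
        rw [← hj, ← zpow_add, ← zpow_mul] at e
        simpa using e
      · obtain ⟨i, hi⟩ := Subgroup.mem_zpowers_iff.1 hxX
        exact Subgroup.mem_zpowers_iff.2 ⟨i, by simpa using congrArg Subtype.val hi⟩
    exact cyclic_of_le hle
  · exfalso
    obtain ⟨T, hT⟩ : ∃ T : Subgroup S, T = Subgroup.zpowers (u * u) ⊔ Subgroup.zpowers ⟨x, hx⟩ := ⟨_, rfl⟩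
    have hle : N ⊔ Subgroup.zpowers x ≤ T.map S.subtype := by
      refine sup_le (fun y hy => ⟨⟨y, hN.1 hy⟩, hT ▸ Subgroup.mem_sup_left (hNle ⟨y, hN.1 hy⟩ hy), rfl⟩)
        (Subgroup.zpowers_le.2 ⟨⟨x, hx⟩, hT ▸ Subgroup.mem_sup_right (Subgroup.mem_zpowers _), rfl⟩)
    obtain ⟨v, hv, hve⟩ := hle (hnor _ hM ⟨x, hx⟩ (Subgroup.mem_sup_right (Subgroup.mem_zpowers x)) hxX)
    obtain rfl : v = u := Subtype.ext hve
    have hform : ∀ w ∈ T, ∃ a b : ℤ, w = (v * v) ^ a * (⟨x, hx⟩ : S) ^ b := by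
      intro w hw
      rw [hT, Subgroup.zpowers_eq_closure (v * v), Subgroup.zpowers_eq_closure, ← Subgroup.closure_union] at hw
      induction hw using Subgroup.closure_induction with
      | mem w hw =>
        rcases hw with rfl | rfl
        · exact ⟨1, 0, by simp⟩
        · exact ⟨0, 1, by simp⟩
      | one => exact ⟨0, 0, by simp⟩
      | mul w w' _ _ h1 h2 =>
        obtain ⟨a, b, rfl⟩ := h1
        obtain ⟨a', b', rfl⟩ := h2
        refine ⟨a + a', b + b', ?_⟩
        rw [zpow_add, zpow_add]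
        exact (((hC ⟨x, hx⟩).zpow_zpow a' b).symm).mul_mul_mul_comm _ _
      | inv w _ h1 =>
        obtain ⟨a, b, rfl⟩ := h1
        refine ⟨-a, -b, ?_⟩
        rw [mul_inv_rev, zpow_neg, zpow_neg]
        exact ((hC ⟨x, hx⟩).zpow_zpow a b).inv_inv.symm.eq
    obtain ⟨a, b, he⟩ := hform v hv
    rcases Int.even_or_odd b with ⟨k, rfl⟩ | ⟨k, rfl⟩
    · refine hu ?_
      rw [← two_mul, zpow_mul, zpow_ofNat, sq] at he
      have h3 := mul_mem (zpow_mem (Subgroup.mem_zpowers (v * v)) a) (zpow_mem (hB _ hxX) k)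
      rwa [← he] at h3
    · apply hxX
      have huu : Subgroup.zpowers (v * v) ≤ Subgroup.zpowers X := Subgroup.zpowers_le.2 (mul_mem huX huX)
      rw [zpow_add, zpow_one, zpow_mul, zpow_ofNat, sq] at he
      have h1 : ((v * v) ^ a * ((⟨x, hx⟩ : S) * ⟨x, hx⟩) ^ k) ∈ Subgroup.zpowers X :=
        mul_mem (huu (zpow_mem (Subgroup.mem_zpowers _) a)) (huu (zpow_mem (hB _ hxX) k))
      rw [← mul_assoc] at he
      exact (Subgroup.mul_mem_cancel_left _ h1).1 (he ▸ huX)

end Cfsg.Agent.Local.FS.NoChain
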