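import Cfsg.Agent.Lib.Local.FS.GroupConstrained
import Cfsg.Agent.Lib.Local.FS.WeakNormal
import Cfsg.Agent.Lib.Fusion.Focal
import Cfsg.Agent.Lib.Fusion.Cores

/-!
Normal subsystems of the fusion system of a group `G` with `C_G(O_p(G)) ≤ O_p(G)` are the systems
of normal subgroups of `G`.
-/

set_option autoImplicit false

namespace Cfsg.Agent.Local.FS.NormalInModel

open Cfsg Cfsg.FusionSystem Cfsg.Agent.Fusion

variable {G : Type*} [Group G]

section Power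

variable {p : ℕ} [Fact p.Prime]

/-- A subgroup contains a group once it contains a Sylow subgroup and a normalized subgroup
containing a power of each element. -/
theorem le_sup_of_pow_mem [Finite G] {X A N : Subgroup G} (hA : SylIn p A X) (hNX : N ≤ X)
    (hn : X ≤ Subgroup.normalizer (N : Set G)) (hpow : ∀ x ∈ X, ∃ k, x ^ p ^ k ∈ N) : X ≤ A ⊔ N := by
  haveI : (N.subgroupOf X).Normal := (Subgroup.normal_subgroupOf_iff_le_normalizer hNX).2 hn
  have hq : IsPGroup p (X ⧸ N.subgroupOf X) := by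
    intro b
    obtain ⟨x, rfl⟩ := QuotientGroup.mk_surjective b
    obtain ⟨k, hk⟩ := hpow x x.2
    refine ⟨k, ?_⟩
    rw [← QuotientGroup.mk_pow, QuotientGroup.eq_one_iff]
    exact hk
  obtain ⟨k, hk⟩ := IsPGroup.iff_card.1 hq
  have hle : A ⊔ N ≤ X := sup_le hA.le hNX
  have h1 : (A ⊔ N).relIndex X ∣ p ^ k := by
    rw [← hk, ← Subgroup.index_eq_card]
    exact (Dvd.intro_left _ (Subgroup.relIndex_mul_relIndex N (A ⊔ N) X le_sup_right hle))
  have h2 : (A ⊔ N).relIndex X ∣ A.relIndex X :=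
    Dvd.intro_left _ (Subgroup.relIndex_mul_relIndex A (A ⊔ N) X le_sup_left hle)
  obtain ⟨j, -, hj⟩ := (Nat.dvd_prime_pow Fact.out).1 h1
  rcases j with _ | j
  · exact Subgroup.relIndex_eq_one.1 (by simpa using hj)
  · exact absurd (((hj ▸ dvd_pow_self p (Nat.succ_ne_zero j))).trans h2) hA.not_dvd

/-- An element fixing `r = x⁻¹ g x g⁻¹` moves `x` along powers of `r`. -/
theorem conj_pow_eq {g x r : G} (hx : g * x * g⁻¹ = x * r) (hr : g * r * g⁻¹ = r) :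
    ∀ n : ℕ, g ^ n * x * (g ^ n)⁻¹ = x * r ^ n
  | 0 => by simp
  | n + 1 => by
    have h := conj_pow_eq hx hr n
    have hrn : g * r ^ n * g⁻¹ = r ^ n := by rw [← conj_pow, hr]
    calc g ^ (n + 1) * x * (g ^ (n + 1))⁻¹ = g * (g ^ n * x * (g ^ n)⁻¹) * g⁻¹ := by
          rw [pow_succ']; group
      _ = g * x * g⁻¹ * (g * r ^ n * g⁻¹) := by rw [h]; group
      _ = x * r ^ (n + 1) := by rw [hx, hrn, pow_succ']; group

end Power

variable {S T : Subgroup G} {E : FusionSystem T} {p : ℕ}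

/-- Conjugation transports the maps of an invariant subsystem. -/
theorem inv_conj [Finite G] (hE : E.IsInvariantIn (groupFusionSystem S)) {P : Subgroup G} {f : G → G}
    (hf : Map E P f) (hfP : ∀ x ∈ P, f x ∈ P) {k : G} (hk : ∀ x ∈ P, k * x * k⁻¹ ∈ T) :
    ∃ h, Map E (cj P k) h ∧ ∀ x ∈ P, h (k * x * k⁻¹) = k * f x * k⁻¹ := by
  have hTS : T ≤ S := hE.2.1.1
  have hPT := hf.le
  obtain ⟨β, hβ, g₀, hg₀, he⟩ := frattini_map hE hPT (map_group_iff.2
    ⟨hPT.trans hTS, fun x hx => hTS (hk x hx), k, fun x _ => rfl⟩)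
  obtain ⟨g₁, hg₁, hg₁0, h0g₁, hi⟩ := hg₀.exists_inv
  have hm : ∀ y ∈ im P g₀, g₁ y ∈ P := fun y hy => hi.le (mem_im_of_mem hy)
  have hc : Map E (im P g₀) (g₀ ∘ (f ∘ g₁)) :=
    (hg₁.comp hf hm).comp hg₀ fun y hy => hfP _ (hm y hy)
  obtain ⟨h, hh, hhe⟩ := inv_map hE hc hβ
  have himg : im (im P g₀) (av β) = cj P k := by
    rw [← hg₀.im_comp, ← im_conj]
    exact im_congr fun x hx => (he x hx).symm
  refine ⟨h, himg ▸ hh, fun x hx => ?_⟩
  rw [he x hx, hhe _ (mem_im_of_mem hx)]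
  show av β (g₀ (f (g₁ (g₀ x)))) = _
  rw [hg₁0 x hx, ← he (f x) (hfP x hx)]

/-- `Aut_E(P)` is normalized by the automorphisms induced by the group. -/
theorem aut_conj [Finite G] (hE : E.IsInvariantIn (groupFusionSystem S)) {P : Subgroup G} (hPT : P ≤ T)
    {k : G} (hk : k ∈ Subgroup.normalizer (P : Set G)) {α : MulAut P} (hα : α ∈ E.autGroup P) :
    ∃ β ∈ E.autGroup P, ∀ x ∈ P, av β x = k * av α (k⁻¹ * x * k) * k⁻¹ := by
  obtain ⟨h, hh, hhe⟩ := inv_conj hE (map_of_mem_autGroup hPT hα) (fun x hx => av_mem α hx)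
    (k := k) fun x hx => hPT (conj_mem_of_normalizer hk hx)
  rw [cj_eq_self hk] at hh
  have he : ∀ x ∈ P, h x = k * av α (k⁻¹ * x * k) * k⁻¹ := fun x hx => by
    have hx' : k⁻¹ * x * k ∈ P := by
      simpa using conj_mem_of_normalizer (Subgroup.inv_mem _ hk) hx
    rw [← hhe _ hx']; congr 1; group
  have hmem : ∀ x ∈ P, h x ∈ P := fun x hx => by
    rw [he x hx]
    exact conj_mem_of_normalizer hk (av_mem α (by
      simpa using conj_mem_of_normalizer (Subgroup.inv_mem _ hk) hx))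
  obtain ⟨β, hβ, hβe⟩ := exists_aut hh
    (Subgroup.eq_of_le_of_card_ge (im_le_iff.2 hmem) hh.card_im.ge)
  exact ⟨β, hβ, fun x hx => (hβe x hx).trans (he x hx)⟩

section Compare

variable [Finite G] [Fact p.Prime] {R : Subgroup G}

/-- The inclusion of automizers of two subsystems which agree on `R`. -/
theorem hom_le_of_agree (hS : IsPGroup p S) (hTS : T ≤ S) {D D' : FusionSystem T}
    (hD : D.IsSubsystemOf (groupFusionSystem S)) (hD' : D'.IsSubsystemOf (groupFusionSystem S))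
    (hDs : D.IsSaturated p) (hD's : D'.IsSaturated p) (hRT : R ≤ T) [hRn : R.Normal]
    (hCR : ∀ c ∈ T, (∀ r ∈ R, r * c = c * r) → c ∈ R)
    (hagree : D.autGroup R ≤ D'.autGroup R)
    (hinv : ∀ P : Subgroup G, P ≤ T → ∀ k ∈ Subgroup.normalizer (P : Set G), ∀ α ∈ D'.autGroup P,
      ∃ β ∈ D'.autGroup P, ∀ x ∈ P, av β x = k * av α (k⁻¹ * x * k) * k⁻¹)
    (P : Subgroup G) : D.Hom P ⊆ D'.Hom P := by
  have hT : IsPGroup p T := hS.to_le hTS
  have hconj : ∀ {P : Subgroup G} {α : MulAut P}, P ≤ T → α ∈ D.autGroup P →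
      ∃ g ∈ Subgroup.normalizer (P : Set G), ∀ x ∈ P, av α x = g * x * g⁻¹ := by
    intro P α hP hα
    obtain ⟨-, -, g, hg⟩ := map_group_iff.1 ((map_of_mem_autGroup hP hα).of_sub hD)
    exact ⟨g, mem_normalizer_of_conj_aut hg, hg⟩
  have hRc : ∀ {D : FusionSystem T}, D.IsSubsystemOf (groupFusionSystem S) →
      ∀ {Q : Subgroup G}, D.IsConj R Q → Q = R := by
    intro D hD Q hQ
    obtain ⟨f, hf, rfl⟩ := isConj_iff.1 hQ
    obtain ⟨-, -, g, hg⟩ := map_group_iff.1 (hf.of_sub hD)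
    rw [im_congr hg, im_conj, cj_of_normal]
  have hfc : D'.IsFullyCentralized R := ⟨hRT, fun Q hQ => by rw [hRc hD' hQ]⟩
  intro φ hφ
  have key : ∀ (P : Subgroup G) (f : G → G), Map D P f → Map D' P f := by
    refine alperin hT hDs (isClosedClass_map D') fun P hP α hα => ?_
    obtain ⟨hC, hRad⟩ := gen_centric_radical hT hDs hP
    have hPT := hC.1
    have hfn : D.IsFullyNormalized P := by
      rcases hP with rfl | h
      · exact fn_self
      · exact h.2.1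
    have hRP : R ≤ P := by
      refine le_of_inf_normalizer_le hT hRT (fun t _ => by rw [Subgroup.normalizer_eq_top]; trivial)
        hPT (le_of_normal_autInducedBy hT hC hRad (inf_le_inf_right _ hRT) ?_)
      rintro β hβ a ⟨haR, han⟩
      obtain ⟨g, hgn, hg⟩ := hconj hPT hβ
      obtain ⟨g', hgn', hg'⟩ := hconj hPT (Subgroup.inv_mem _ hβ)
      refine ⟨g * a * g⁻¹, ⟨hRn.conj_mem a haR g,
        Subgroup.mul_mem _ (Subgroup.mul_mem _ hgn han) (Subgroup.inv_mem _ hgn)⟩, fun x hx => ?_⟩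
      have h1 : av β⁻¹ x = g⁻¹ * x * g := by
        have hy : av β⁻¹ x ∈ P := av_mem _ hx
        have h2 : g * av β⁻¹ x * g⁻¹ = x := by rw [← hg _ hy, av_av_inv β hx]
        nth_rewrite 2 [← h2]; group
      rw [h1, hg _ (conj_mem_of_normalizer han (h1 ▸ av_mem _ hx))]
      group
    haveI := mulAut_finite_of_le hPT
    refine map_of_mem_autGroup hPT ?_
    have hsub : autInducedBy T P ≤ D'.autGroup P := autInducedBy_le_autGroup hPT
    set X := D.autGroup P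
    set N := X ⊓ D'.autGroup P
    have hN : X ≤ Subgroup.normalizer (N : Set (MulAut P)) := by
      intro γ hγ
      refine mem_normalizer_of_cj_le ?_
      rintro _ ⟨β, ⟨hβ1, hβ2⟩, rfl⟩
      refine ⟨X.mul_mem (X.mul_mem hγ hβ1) (X.inv_mem hγ), ?_⟩
      obtain ⟨g, hgn, hg⟩ := hconj hPT hγ
      obtain ⟨δ, hδ, hδe⟩ := hinv P hPT g hgn β hβ2
      show γ * β * γ⁻¹ ∈ D'.autGroup P
      convert hδ using 1
      refine aut_ext fun x hx => ?_
      have h2 : g * av γ⁻¹ x * g⁻¹ = x := by rw [← hg _ (av_mem _ hx), av_av_inv γ hx]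
      rw [hδe x hx, av_mul _ _ hx, av_mul _ _ (av_mem _ hx), hg _ (av_mem _ (av_mem _ hx))]
      congr 2
      congr 1
      nth_rewrite 2 [← h2]; group
    have hpow : ∀ γ ∈ X, ∃ k, γ ^ p ^ k ∈ N := by
      intro γ hγ
      obtain ⟨g, hgn, hg⟩ := hconj hPT hγ
      -- the restriction to `R`, extended in `D'`
      have hγR : Map D R (av γ) := (map_of_mem_autGroup hPT hγ).restrict hRP
      have hiR : im R (av γ) = R := hRc hD (isConj_iff.2 ⟨av γ, hγR, rfl⟩)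
      obtain ⟨αR, hαR, hαRe⟩ := exists_aut hγR hiR
      have hR' : Map D' R (av γ) := (map_of_mem_autGroup hRT (hagree hαR)).congr hαRe
      obtain ⟨g₀, hg₀, hg₀e⟩ := (receptive_iff.1 (receptive_of_fc hT hD's hfc)).2 R _ hR' hiR
      have hPN : P ≤ Nf T R (av γ) := fun a ha =>
        ⟨hPT ha, by rw [Subgroup.normalizer_eq_top]; trivial, av γ a, hPT (av_mem _ ha),
          fun x hx => (map_of_mem_autGroup hPT hγ).map_conj ha (hRP hx)⟩
      have hg₀' := hg₀.restrict hPN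
      have hdiff : ∀ x ∈ P, (g₀ x)⁻¹ * av γ x ∈ R := fun x hx => by
        refine hCR _ (T.mul_mem (T.inv_mem (hg₀'.mem hx)) (hPT (av_mem _ hx))) fun r hr => ?_
        obtain ⟨s, hs, rfl⟩ := hγR.mem_im.1 (hiR.ge hr)
        have h1 := hg₀'.map_conj hx (hRP hs)
        rw [hg₀e _ (hRn.conj_mem s hs x), hg₀e _ hs,
          (map_of_mem_autGroup hPT hγ).map_conj hx (hRP hs), eq_mul_inv_iff_mul_eq] at h1
        calc av γ s * ((g₀ x)⁻¹ * av γ x) = (g₀ x)⁻¹ * (g₀ x * av γ s) * ((g₀ x)⁻¹ * av γ x) := by group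
          _ = _ := by rw [← h1]; group
      have hmem : ∀ x ∈ P, g₀ x ∈ P := fun x hx => by
        have h1 := P.mul_mem (av_mem γ hx) (P.inv_mem (hRP (hdiff x hx)))
        simpa using h1
      obtain ⟨β, hβ, hβe⟩ := exists_aut hg₀'
        (Subgroup.eq_of_le_of_card_ge (im_le_iff.2 hmem) hg₀'.card_im.ge)
      -- `δ = β⁻¹ γ` fixes `R` and `P/R`
      have hδR : ∀ r ∈ R, av (β⁻¹ * γ) r = r := fun r hr => by
        rw [av_mul _ _ (hRP hr), ← hg₀e r hr, ← hβe r (hRP hr), av_inv_av β (hRP hr)]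
      have hβR : ∀ r ∈ R, av β⁻¹ r ∈ R := fun r hr => by
        obtain ⟨s, hs, rfl⟩ := hγR.mem_im.1 (hiR.ge hr)
        rw [← hg₀e s hs, ← hβe s (hRP hs), av_inv_av β (hRP hs)]
        exact hs
      have hδP : ∀ x ∈ P, ∃ r ∈ R, av (β⁻¹ * γ) x = x * r := fun x hx => by
        refine ⟨av β⁻¹ ((g₀ x)⁻¹ * av γ x), hβR _ (hdiff x hx), ?_⟩
        have hM := map_of_mem_autGroup hPT (Subgroup.inv_mem _ hβ)
        rw [av_mul _ _ hx, hM.map_mul (P.inv_mem (hmem x hx)) (av_mem _ hx), hM.map_inv (hmem x hx),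
          ← hβe x hx, av_inv_av β hx, mul_inv_cancel_left]
      haveI := finite_of_le hPT
      obtain ⟨n, hn⟩ := IsPGroup.iff_card.1 (hT.to_le hPT)
      have hδ : (β⁻¹ * γ) ^ p ^ n = 1 := aut_ext fun x hx => by
        obtain ⟨r, hr, hxr⟩ := hδP x hx
        have hpow : ∀ i : ℕ, av ((β⁻¹ * γ) ^ i) x = x * r ^ i := by
          intro i
          induction i with
          | zero => rw [pow_zero, av_one hx, pow_zero, mul_one]
          | succ i ih =>
            rw [pow_succ', av_mul _ _ hx, ih, av_apply _ (P.mul_mem hx (P.pow_mem (hRP hr) i))]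
            have : (⟨x * r ^ i, P.mul_mem hx (P.pow_mem (hRP hr) i)⟩ : P) =
                ⟨x, hx⟩ * ⟨r, hRP hr⟩ ^ i := rfl
            rw [this, map_mul, map_pow]
            show ((β⁻¹ * γ) ⟨x, hx⟩ : G) * ((β⁻¹ * γ) ⟨r, hRP hr⟩ : G) ^ i = _
            rw [← av_apply _ hx, ← av_apply _ (hRP hr), hxr, hδR r hr, mul_assoc, ← pow_succ']
        rw [hpow, av_one hx]
        have h1 : (⟨r, hRP hr⟩ : P) ^ p ^ n = 1 := hn ▸ pow_card_eq_one'
        rw [show r ^ p ^ n = 1 from congrArg Subtype.val h1, mul_one]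
      -- so a power of `γ` lies in the automizer of `D'`
      refine ⟨n, X.pow_mem hγ _, ?_⟩
      have hnorm : ∀ i : ℕ, ∃ b ∈ D'.autGroup P, γ ^ i = b * (β⁻¹ * γ) ^ i := by
        intro i
        induction i with
        | zero => exact ⟨1, Subgroup.one_mem _, by simp⟩
        | succ i ih =>
          obtain ⟨b, hb, hbe⟩ := ih
          obtain ⟨b', hb', hb'e⟩ : ∃ b' ∈ D'.autGroup P,
              (β⁻¹ * γ) ^ i * β = b' * (β⁻¹ * γ) ^ i := by
            obtain ⟨d, hdn, hd⟩ : ∃ d ∈ Subgroup.normalizer (P : Set G),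
                ∀ x ∈ P, av ((β⁻¹ * γ) ^ i) x = d * x * d⁻¹ := by
              obtain ⟨-, -, c, hc⟩ := map_group_iff.1 ((map_of_mem_autGroup hPT hβ).of_sub hD')
              have hcn : c ∈ Subgroup.normalizer (P : Set G) := mem_normalizer_of_conj_aut hc
              refine ⟨(c⁻¹ * g) ^ i, Subgroup.pow_mem _ (Subgroup.mul_mem _ (Subgroup.inv_mem _ hcn) hgn) i,
                fun x hx => ?_⟩
              have h1 : ∀ y ∈ P, av (β⁻¹ * γ) y = c⁻¹ * g * y * (c⁻¹ * g)⁻¹ := fun y hy => by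
                have h2 : c * av β⁻¹ (av γ y) * c⁻¹ = av γ y := by
                  rw [← hc _ (av_mem _ (av_mem _ hy)), av_av_inv β (av_mem _ hy)]
                rw [av_mul _ _ hy]
                calc av β⁻¹ (av γ y) = c⁻¹ * (c * av β⁻¹ (av γ y) * c⁻¹) * c := by group
                  _ = _ := by rw [h2, hg y hy]; group
              clear hbe
              induction i with
              | zero => rw [pow_zero, av_one hx]; simp
              | succ i ih =>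
                rw [pow_succ', av_mul _ _ hx, h1 _ (av_mem _ hx), ih, pow_succ']
                generalize (c⁻¹ * g) ^ i = v
                generalize c⁻¹ * g = w
                simp only [mul_inv_rev, mul_assoc]
            obtain ⟨b', hb', hb'e⟩ := hinv P hPT d hdn β hβ
            refine ⟨b', hb', aut_ext fun x hx => ?_⟩
            rw [av_mul _ _ hx, av_mul _ _ hx, hd _ (av_mem _ hx), hd x hx,
              hb'e _ (conj_mem_of_normalizer hdn hx)]
            congr 2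
            congr 1
            group
          refine ⟨b * b', Subgroup.mul_mem _ hb hb', ?_⟩
          calc γ ^ (i + 1) = b * ((β⁻¹ * γ) ^ i * β) * (β⁻¹ * γ) := by rw [pow_succ, hbe]; group
            _ = _ := by rw [hb'e, pow_succ]; group
      obtain ⟨b, hb, hbe⟩ := hnorm (p ^ n)
      rw [hbe, hδ, mul_one]; exact hb
    have hfa := (fa_iff.1 (fc_fa_of_fn hT hDs hfn).2).2
    exact (le_sup_of_pow_mem hfa inf_le_left hN hpow).trans (sup_le hsub inf_le_right) hα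
  obtain ⟨ψ, hψ, he⟩ := key P _ (map_of_mem hφ)
  rwa [show φ = ψ from MonoidHom.ext fun x => by rw [he, fn_coe]]

end Compare

section Correspond

variable [Finite G] [Fact p.Prime]

/-- The elements inducing maps of `E` on `R` and centralizing `Q/R`. -/
def coverGroup (E : FusionSystem T) (Q R : Subgroup G) [hR : R.Normal] (hRT : R ≤ T) : Subgroup G where
  carrier := {g | (∃ α ∈ E.autGroup R, ∀ r ∈ R, av α r = g * r * g⁻¹) ∧
    ∀ q ∈ Q, q⁻¹ * g * q * g⁻¹ ∈ R}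
  one_mem' := ⟨⟨1, Subgroup.one_mem _, fun r hr => by rw [av_one hr]; group⟩, fun q _ => by
    simp⟩
  mul_mem' := by
    rintro a b ⟨⟨α, hα, ha⟩, ha'⟩ ⟨⟨β, hβ, hb⟩, hb'⟩
    refine ⟨⟨α * β, Subgroup.mul_mem _ hα hβ, fun r hr => ?_⟩, fun q hq => ?_⟩
    · rw [av_mul _ _ hr, ha _ (av_mem _ hr), hb r hr]; group
    · have h1 := R.mul_mem (ha' q hq) (hR.conj_mem _ (hb' q hq) a)
      convert h1 using 1; group
  inv_mem' := by
    rintro a ⟨⟨α, hα, ha⟩, ha'⟩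
    refine ⟨⟨α⁻¹, Subgroup.inv_mem _ hα, fun r hr => ?_⟩, fun q hq => ?_⟩
    · have h1 : a * av α⁻¹ r * a⁻¹ = r := by rw [← ha _ (av_mem _ hr), av_av_inv α hr]
      calc av α⁻¹ r = a⁻¹ * (a * av α⁻¹ r * a⁻¹) * a⁻¹⁻¹ := by group
        _ = _ := by rw [h1]
    · have h1 := hR.conj_mem _ (R.inv_mem (ha' q hq)) a⁻¹
      convert h1 using 1; group

theorem correspond {G : Type*} [Group G] [Finite G] (p : ℕ) [Fact p.Prime] {S : Subgroup G}
    (hS : SylIn p S ⊤) (hG : Subgroup.centralizer (pCore p G : Set G) ≤ pCore p G) {T : Subgroup G}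
    (E : FusionSystem T) (hE : E.IsNormalIn (groupFusionSystem S) p) :
    ∃ H : Subgroup G, ∃ hTH : T ≤ H, H.Normal ∧ SylIn p T H ∧
      (∀ P : Subgroup G, E.Hom P = (fusionSystemOfSubgroup H T hTH).Hom P) ∧
      ∀ (H' : Subgroup G) (hTH' : T ≤ H'), H'.Normal → SylIn p T H' →
        (∀ P : Subgroup G, E.Hom P = (fusionSystemOfSubgroup H' T hTH').Hom P) → H' = H := by
  obtain ⟨⟨hEs, -, hInv⟩, hext⟩ := hE
  obtain ⟨hsub, hTsc, -, -⟩ := id hInv
  have hTS : T ≤ S := hTsc.1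
  have hSp := hS.isPGroup
  have hTp : IsPGroup p T := hSp.to_le hTS
  -- strong closure in the group
  have hsc : ∀ x ∈ T, ∀ g : G, g * x * g⁻¹ ∈ S → g * x * g⁻¹ ∈ T := by
    intro x hx g hg
    refine (stronglyClosed_iff.1 hTsc).2 (Subgroup.zpowers x) _ (Subgroup.zpowers_le.2 hx)
      (map_group_iff.2 ⟨Subgroup.zpowers_le.2 (hTS hx), ?_, g, fun _ _ => rfl⟩) x
      (Subgroup.mem_zpowers x)
    rintro _ ⟨i, rfl⟩
    rw [← conj_zpow]; exact S.zpow_mem hg i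
  have hSnT : ∀ s ∈ S, ∀ x ∈ T, s * x * s⁻¹ ∈ T := fun s hs x hx =>
    hsc x hx s (S.mul_mem (S.mul_mem hs (hTS hx)) (S.inv_mem hs))
  obtain ⟨Q, hQdef⟩ : ∃ Q, Q = pCore p G := ⟨_, rfl⟩
  have hQn : Q.Normal := hQdef ▸ inferInstance
  have hQp : IsPGroup p Q := hQdef ▸ isPGroup_pCore p G
  have hQS : Q ≤ S := hQdef ▸ pCore_le_sylIn hS
  obtain ⟨R, hRdef⟩ : ∃ R, R = Q ⊓ T := ⟨_, rfl⟩
  have hRQ : R ≤ Q := hRdef ▸ inf_le_left
  have hRT : R ≤ T := hRdef ▸ inf_le_right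
  have hRmem : ∀ x ∈ Q, x ∈ T → x ∈ R := fun x h1 h2 => hRdef ▸ ⟨h1, h2⟩
  haveI hRn : R.Normal := ⟨fun x hx g => hRmem _ (hQn.conj_mem x (hRQ hx) g)
    (hsc x (hRT hx) g (hQS (hQn.conj_mem x (hRQ hx) g)))⟩
  have hnR : ∀ g : G, g ∈ Subgroup.normalizer (R : Set G) := fun g => by
    rw [Subgroup.normalizer_eq_top]; trivial
  -- stabilisers of `1 ≤ R ≤ Q` lie in `Q`
  let A : Subgroup G :=
    { carrier := {g | (∀ r ∈ R, g * r * g⁻¹ = r) ∧ ∀ q ∈ Q, q⁻¹ * g * q * g⁻¹ ∈ R}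
      one_mem' := ⟨fun r _ => by group, fun q _ => by simp⟩
      mul_mem' := by
        rintro a b ⟨ha, ha'⟩ ⟨hb, hb'⟩
        refine ⟨fun r hr => ?_, fun q hq => ?_⟩
        · calc a * b * r * (a * b)⁻¹ = a * (b * r * b⁻¹) * a⁻¹ := by group
            _ = r := by rw [hb r hr, ha r hr]
        · have h1 := R.mul_mem (ha' q hq) (hRn.conj_mem _ (hb' q hq) a)
          convert h1 using 1; group
      inv_mem' := by
        rintro a ⟨ha, ha'⟩
        refine ⟨fun r hr => ?_, fun q hq => ?_⟩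
        · nth_rewrite 1 [← ha r hr]; group
        · have h1 := hRn.conj_mem _ (R.inv_mem (ha' q hq)) a⁻¹
          convert h1 using 1; group }
  have hAn : A.Normal := ⟨fun a ⟨ha, ha'⟩ k => by
    refine ⟨fun r hr => ?_, fun q hq => ?_⟩
    · have h1 := ha _ (hRn.conj_mem r hr k⁻¹)
      calc k * a * k⁻¹ * r * (k * a * k⁻¹)⁻¹ = k * (a * (k⁻¹ * r * k⁻¹⁻¹) * a⁻¹) * k⁻¹ := by group
        _ = r := by rw [h1]; group
    · have h1 := hRn.conj_mem _ (ha' _ (hQn.conj_mem q hq k⁻¹)) k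
      convert h1 using 1; group⟩
  obtain ⟨nQ, hnQ⟩ := IsPGroup.iff_card.1 hQp
  have hQpow : ∀ x ∈ Q, x ^ p ^ nQ = 1 := fun x hx => by
    have h1 : (⟨x, hx⟩ : Q) ^ p ^ nQ = 1 := hnQ ▸ pow_card_eq_one'
    exact congrArg Subtype.val h1
  have hAQ : A ≤ Q := by
    have hAp : IsPGroup p A := by
      rintro ⟨a, ha, ha'⟩
      have hc : a ^ p ^ nQ ∈ Q := by
        subst hQdef
        refine hG (Subgroup.mem_centralizer_iff.2 fun q hq => ?_)
        have h1 := conj_pow_eq (g := a) (x := q) (r := q⁻¹ * a * q * a⁻¹) (by group)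
          (ha _ (ha' q hq)) (p ^ nQ)
        rw [hQpow _ (hRQ (ha' q hq)), mul_one, mul_inv_eq_iff_eq_mul] at h1
        exact h1.symm
      refine ⟨nQ + nQ, Subtype.ext ?_⟩
      show a ^ p ^ (nQ + nQ) = 1
      rw [pow_add, pow_mul]; exact hQpow _ hc
    haveI := hAn
    exact hQdef ▸ le_pCore hAp
  have hcomTQ : ∀ t ∈ T, ∀ q ∈ Q, q⁻¹ * t * q * t⁻¹ ∈ R := fun t ht q hq => by
    refine hRmem _ ?_ ?_
    · have h1 := Q.mul_mem (Q.inv_mem hq) (hQn.conj_mem q hq t)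
      convert h1 using 1; group
    · have h1 := T.mul_mem (hSnT q⁻¹ (S.inv_mem (hQS hq)) t ht) (T.inv_mem ht)
      convert h1 using 1; group
  have hCR : ∀ c ∈ T, (∀ r ∈ R, r * c = c * r) → c ∈ R := fun c hc h =>
    hRmem c (hAQ ⟨fun r hr => by rw [← h r hr, mul_inv_cancel_right], hcomTQ c hc⟩) hc
  -- the covering group
  obtain ⟨H₁, hH₁⟩ : ∃ H₁, H₁ = coverGroup E Q R hRT := ⟨_, rfl⟩
  have hmem₁ : ∀ {g : G}, g ∈ H₁ ↔ (∃ α ∈ E.autGroup R, ∀ r ∈ R, av α r = g * r * g⁻¹) ∧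
      ∀ q ∈ Q, q⁻¹ * g * q * g⁻¹ ∈ R := fun {g} => by subst hH₁; rfl
  have hH₁n : H₁.Normal := ⟨fun h hh k => by
    obtain ⟨⟨α, hα, hαe⟩, h'⟩ := hmem₁.1 hh
    obtain ⟨β, hβ, hβe⟩ := aut_conj hInv hRT (hnR k) hα
    refine hmem₁.2 ⟨⟨β, hβ, fun r hr => ?_⟩, fun q hq => ?_⟩
    · have hr' : k⁻¹ * r * k ∈ R := by simpa using hRn.conj_mem r hr k⁻¹
      rw [hβe r hr, hαe _ hr']; group
    · have h1 := hRn.conj_mem _ (h' _ (hQn.conj_mem q hq k⁻¹)) k
      convert h1 using 1; group⟩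
  have hAH₁ : A ≤ H₁ := fun a ⟨ha, ha'⟩ =>
    hmem₁.2 ⟨⟨1, Subgroup.one_mem _, fun r hr => by rw [av_one hr, ha r hr]⟩, ha'⟩
  have hTH₁ : T ≤ H₁ := fun t ht => by
    obtain ⟨β, hβ, hβT⟩ := exists_aut_conj (hnR t)
    exact hmem₁.2 ⟨⟨β, autInducedBy_le_autGroup hRT (hβT T ht), hβ⟩, hcomTQ t ht⟩
  obtain ⟨P₀, hP₀⟩ : ∃ P₀, P₀ = S ⊓ H₁ := ⟨_, rfl⟩
  have hP₀S : SylIn p P₀ H₁ := hP₀ ▸ hS.inf_normal le_top (by rw [Subgroup.normalizer_eq_top])
  have hTP₀ : T ≤ P₀ := hP₀ ▸ le_inf hTS hTH₁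
  haveI := mulAut_finite_of_le hRT
  have hRfn : E.IsFullyNormalized R := by
    refine ⟨hRT, fun X hX => ?_⟩
    obtain ⟨f, hf, rfl⟩ := isConj_iff.1 hX
    obtain ⟨-, -, g, hg⟩ := map_group_iff.1 (hf.of_sub hsub)
    rw [im_congr hg, im_conj, cj_of_normal]
  obtain ⟨hRfc, hRfa⟩ := fc_fa_of_fn hTp hEs hRfn
  have hsylR := (fa_iff.1 hRfa).2
  have hind : autInducedBy H₁ R ≤ E.autGroup R := fun δ hδ => by
    obtain ⟨g, hg, hδg⟩ := mem_autInducedBy.1 hδ
    obtain ⟨α, hα, hαe⟩ := (hmem₁.1 hg).1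
    rwa [show δ = α from aut_ext fun r hr => (hδg r hr).trans (hαe r hr).symm]
  have hP₀TA : ∀ x ∈ P₀, ∃ t ∈ T, t⁻¹ * x ∈ A := by
    intro x hx
    have hsp : IsPGroup p ↥(autInducedBy P₀ R) :=
      (isPGroup_autS (P := R) hSp).to_le (fun δ hδ => by
        obtain ⟨g, hg, hδg⟩ := mem_autInducedBy.1 hδ
        exact mem_autInducedBy.2 ⟨g, ((hP₀.le hg : g ∈ S ⊓ H₁)).1, hδg⟩)
    have he := hsylR.eq_of_le hsp (fun δ hδ => by
        obtain ⟨g, hg, hδg⟩ := mem_autInducedBy.1 hδ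
        exact mem_autInducedBy.2 ⟨g, hTP₀ hg, hδg⟩) (fun δ hδ => hind (by
        obtain ⟨g, hg, hδg⟩ := mem_autInducedBy.1 hδ
        exact mem_autInducedBy.2 ⟨g, ((hP₀.le hg : g ∈ S ⊓ H₁)).2, hδg⟩))
    obtain ⟨δ, hδ, hδP⟩ := exists_aut_conj (hnR x)
    obtain ⟨t, ht, htx⟩ := mem_autInducedBy.1 (he.le (hδP P₀ hx))
    refine ⟨t, ht, fun r hr => ?_, fun q hq => ?_⟩
    · have h1 := (hδ r hr).symm.trans (htx r hr)
      calc t⁻¹ * x * r * (t⁻¹ * x)⁻¹ = t⁻¹ * (x * r * x⁻¹) * t := by group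
        _ = r := by rw [h1]; group
    · exact (hmem₁.1 (H₁.mul_mem (H₁.inv_mem (hTH₁ ht)) ((hP₀.le hx : x ∈ S ⊓ H₁)).2)).2 q hq
  -- the extension condition
  obtain ⟨nG, L, hL, hcardG⟩ := Nat.exists_eq_pow_mul_and_not_dvd
    (n := Nat.card G) Nat.card_pos.ne' p (Fact.out : p.Prime).one_lt.ne'
  have hLc : L.Coprime p := ((Fact.out : p.Prime).coprime_iff_not_dvd.2 hL).symm
  have hGpow : ∀ g : G, (g ^ p ^ nG) ^ L = 1 := fun g => by
    rw [← pow_mul, ← hcardG]; exact pow_card_eq_one'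
  have hC : centralizerIn S T ≤ S := inf_le_left
  haveI := mulAut_finite_of_le (le_refl T)
  have hsylT := (fa_iff.1 (fc_fa_of_fn hTp hEs fn_self).2).2
  have hgood : ∀ u ∈ E.autGroup T, ∃ m ∈ H₁, ∀ x ∈ T, av (u ^ p ^ nG) x = m * x * m⁻¹ := by
    intro u hu
    obtain ⟨β, hβ, hβu, hβC⟩ := hext u hu
    obtain ⟨-, -, m, hm⟩ := map_group_iff.1 (map_of_mem_autGroup (sup_le hTS hC) hβ)
    have hmu : ∀ x ∈ T, av u x = m * x * m⁻¹ := fun x hx => by
      rw [← hm x (Subgroup.mem_sup_left hx), av_apply _ hx, av_apply _ (Subgroup.mem_sup_left hx)]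
      exact (hβu ⟨x, hx⟩).symm
    have hmc : ∀ c ∈ centralizerIn S T, c⁻¹ * (m * c * m⁻¹) ∈ T := fun c hc => by
      have h1 := hβC ⟨c, Subgroup.mem_sup_right hc⟩ hc
      rw [← hm c (Subgroup.mem_sup_right hc), av_apply _ (Subgroup.mem_sup_right hc)]
      exact h1.1
    have hpw : ∀ i : ℕ, (∀ x ∈ T, av (u ^ i) x = m ^ i * x * (m ^ i)⁻¹) ∧
        ∀ c ∈ centralizerIn S T, c⁻¹ * (m ^ i * c * (m ^ i)⁻¹) ∈ T := by
      intro i
      induction i with
      | zero => exact ⟨fun x hx => by rw [pow_zero, av_one hx]; group, fun c _ => by simp⟩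
      | succ i ih =>
        refine ⟨fun x hx => ?_, fun c hc => ?_⟩
        · rw [pow_succ', av_mul _ _ hx, hmu _ (av_mem _ hx), ih.1 x hx, pow_succ']; group
        · have h1 := T.mul_mem (hmc c hc)
            ((hmu _ (ih.2 c hc)) ▸ av_mem u (ih.2 c hc))
          convert h1 using 1
          rw [pow_succ']; group
    obtain ⟨hu', hc'⟩ := hpw (p ^ nG)
    set u' := u ^ p ^ nG
    set m' := m ^ p ^ nG
    have hu'E : u' ∈ E.autGroup T := Subgroup.pow_mem _ hu _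
    have hm'T : m' ∈ Subgroup.normalizer (T : Set G) := mem_normalizer_of_conj_aut hu'
    refine ⟨m', hmem₁.2 ⟨?_, fun q hq => ?_⟩, hu'⟩
    · have hMu := (map_of_mem_autGroup le_rfl hu'E).restrict hRT
      have hMc : Map E R (fun r => m' * r * m'⁻¹) := hMu.congr fun r hr => hu' r (hRT hr)
      obtain ⟨α, hα, hαe⟩ := exists_aut hMc (by rw [im_conj, cj_of_normal])
      exact ⟨α, hα, hαe⟩
    -- `q⁻¹ m' q m'⁻¹` lies in `T C_S(T)`
    have hstep : ∀ q ∈ Q, q⁻¹ * m' * q * m'⁻¹ ∈ Q ⊓ (T ⊔ centralizerIn S T) := by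
      intro q hq
      have hyQ : q⁻¹ * m' * q * m'⁻¹ ∈ Q := by
        have h1 := Q.mul_mem (Q.inv_mem hq) (hQn.conj_mem q hq m')
        convert h1 using 1; group
      refine ⟨hyQ, ?_⟩
      set y := q⁻¹ * m' * q * m'⁻¹ with hy
      have hqn : q⁻¹ ∈ Subgroup.normalizer (T : Set G) :=
        mem_normalizer_of_cj_le (by
          rintro _ ⟨x, hx, rfl⟩; exact hSnT _ (S.inv_mem (hQS hq)) x hx)
      obtain ⟨v, hv, hve⟩ := aut_conj hInv le_rfl hqn hu'E
      have hyn : y ∈ Subgroup.normalizer (T : Set G) :=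
        mem_normalizer_of_cj_le (by
          rintro _ ⟨x, hx, rfl⟩; exact hSnT _ (hQS hyQ) x hx)
      obtain ⟨δ, hδ, hδS⟩ := exists_aut_conj hyn
      have hδE : δ ∈ E.autGroup T := by
        rw [show δ = v * u'⁻¹ from aut_ext fun x hx => ?_]
        · exact Subgroup.mul_mem _ hv (Subgroup.inv_mem _ hu'E)
        have h1 : av u'⁻¹ x = m'⁻¹ * x * m' := by
          have h2 : m' * av u'⁻¹ x * m'⁻¹ = x := by rw [← hu' _ (av_mem _ hx), av_av_inv u' hx]
          nth_rewrite 2 [← h2]; group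
        have h3 : q⁻¹⁻¹ * av u'⁻¹ x * q⁻¹ ∈ T := by
          simpa using hSnT q (hQS hq) _ (av_mem u'⁻¹ hx)
        rw [hδ x hx, av_mul _ _ hx, hve _ (av_mem _ hx), hu' _ h3, h1, hy]
        group
      have hp1 : IsPGroup p ↥(E.autGroup T ⊓ autInducedBy S T : Subgroup (MulAut T)) :=
        (isPGroup_autS hSp).to_le inf_le_right
      have he := hsylT.eq_of_le hp1 (le_inf hsylT.le fun δ hδ => by
        obtain ⟨g, hg, hδg⟩ := mem_autInducedBy.1 hδ
        exact mem_autInducedBy.2 ⟨g, hTS hg, hδg⟩) inf_le_left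
      obtain ⟨t, ht, hty⟩ := mem_autInducedBy.1 (he.le ⟨hδE, hδS S (hQS hyQ)⟩)
      have hcy : t⁻¹ * y ∈ centralizerIn S T :=
        mem_centralizerIn.2 ⟨S.mul_mem (S.inv_mem (hTS ht)) (hQS hyQ), fun x hx => by
          have h1 := (hδ x hx).symm.trans (hty x hx)
          calc x * (t⁻¹ * y) = t⁻¹ * (t * x * t⁻¹) * y := by group
            _ = _ := by rw [← h1]; group⟩
      have := Subgroup.mul_mem _ (Subgroup.mem_sup_left ht) (Subgroup.mem_sup_right (S := T) hcy)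
      simpa using this
    have hfix : ∀ d ∈ Q ⊓ (T ⊔ centralizerIn S T), d⁻¹ * m' * d * m'⁻¹ ∈ R := by
      rintro d ⟨hdQ, hd⟩
      refine hRmem _ ?_ ?_
      · have h1 := Q.mul_mem (Q.inv_mem hdQ) (hQn.conj_mem d hdQ m')
        convert h1 using 1; group
      · obtain ⟨c, hc, t, ht, rfl⟩ := mem_sup_of_normalized
          (S := S) (fun s hs => mem_normalizer_of_cj_le (by
            rintro _ ⟨x, hx, rfl⟩; exact hSnT _ hs x hx)) hC (sup_comm T _ ▸ hd)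
        have h1 := T.mul_mem (T.mul_mem (T.inv_mem ht) (hc' c hc))
          (conj_mem_of_normalizer hm'T ht)
        convert h1 using 1; group
    -- coprime action on `Q/R`
    obtain ⟨π, hπ⟩ : ∃ π : G →* G ⧸ R, π = QuotientGroup.mk' R := ⟨_, rfl⟩
    have hker : ∀ x, π x = 1 ↔ x ∈ R := fun x => by subst hπ; exact QuotientGroup.eq_one_iff x
    set d := q⁻¹ * m' * q * m'⁻¹ with hd
    have h1 : π m' * π q * (π m')⁻¹ = π q * π d := by
      rw [← map_inv, ← map_mul, ← map_mul, ← map_mul, hd]; congr 1; group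
    have h2 : π m' * π d * (π m')⁻¹ = π d := by
      have h3 := (hker _).2 (hfix d (hstep q hq))
      rw [map_mul, map_mul, map_mul, map_inv, map_inv] at h3
      calc π m' * π d * (π m')⁻¹ = π d * ((π d)⁻¹ * π m' * π d * (π m')⁻¹) := by group
        _ = π d := by rw [h3, mul_one]
    have h4 := conj_pow_eq h1 h2 L
    rw [← map_pow π m', hGpow m, map_one, one_mul, inv_one, mul_one, left_eq_mul] at h4
    have h5 : π d ^ p ^ nQ = 1 := by rw [← map_pow, hQpow d (hstep q hq).1, map_one]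
    refine (hker d).1 (orderOf_eq_one_iff.1 ?_)
    exact Nat.eq_one_of_dvd_coprimes (hLc.pow_right nQ)
      (orderOf_dvd_of_pow_eq_one h4) (orderOf_dvd_of_pow_eq_one h5)
  have hautT : ∀ u ∈ E.autGroup T, ∃ m ∈ H₁, ∀ x ∈ T, av u x = m * x * m⁻¹ := by
    have hTle : autInducedBy T T ≤ autInducedBy H₁ T := fun δ hδ => by
      obtain ⟨g, hg, hδg⟩ := mem_autInducedBy.1 hδ
      exact mem_autInducedBy.2 ⟨g, hTH₁ hg, hδg⟩
    have hle := le_sup_of_pow_mem (N := E.autGroup T ⊓ autInducedBy H₁ T) hsylT inf_le_left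
      (fun γ hγ => by
        refine mem_normalizer_of_cj_le ?_
        rintro _ ⟨β, ⟨hβ1, hβ2⟩, rfl⟩
        refine ⟨Subgroup.mul_mem _ (Subgroup.mul_mem _ hγ hβ1) (Subgroup.inv_mem _ hγ), ?_⟩
        obtain ⟨g, hg, hβg⟩ := mem_autInducedBy.1 hβ2
        obtain ⟨-, -, k, hk⟩ := map_group_iff.1 ((map_of_mem_autGroup le_rfl hγ).of_sub hsub)
        refine mem_autInducedBy.2 ⟨k * g * k⁻¹, hH₁n.conj_mem g hg k, fun x hx => ?_⟩
        show av (γ * β * γ⁻¹) x = _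
        have h2 : k * av γ⁻¹ x * k⁻¹ = x := by rw [← hk _ (av_mem _ hx), av_av_inv γ hx]
        rw [av_mul _ _ hx, av_mul _ _ (av_mem _ hx), hk _ (av_mem _ (av_mem _ hx)),
          hβg _ (av_mem _ hx)]
        nth_rewrite 2 [← h2]; group)
      (fun u hu => by
        obtain ⟨m, hm, hmu⟩ := hgood u hu
        exact ⟨nG, Subgroup.pow_mem _ hu _, mem_autInducedBy.2 ⟨m, hm, hmu⟩⟩)
    intro u hu
    exact mem_autInducedBy.1 ((sup_le hTle inf_le_right) (hle hu))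
  -- every automorphism of `R` in `E` is induced
  have honto : ∀ α ∈ E.autGroup R, ∃ g ∈ H₁, ∀ r ∈ R, av α r = g * r * g⁻¹ := by
    intro α hα
    have hM : E.autGroup R ≤ Subgroup.normalizer (autInducedBy H₁ R : Set (MulAut R)) := by
      intro γ hγ
      refine mem_normalizer_of_cj_le ?_
      rintro _ ⟨β, hβ, rfl⟩
      obtain ⟨g, hg, hβg⟩ := mem_autInducedBy.1 hβ
      obtain ⟨-, -, k, hk⟩ := map_group_iff.1 ((map_of_mem_autGroup hRT hγ).of_sub hsub)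
      refine mem_autInducedBy.2 ⟨k * g * k⁻¹, hH₁n.conj_mem g hg k, fun x hx => ?_⟩
      show av (γ * β * γ⁻¹) x = _
      have h2 : k * av γ⁻¹ x * k⁻¹ = x := by rw [← hk _ (av_mem _ hx), av_av_inv γ hx]
      rw [av_mul _ _ hx, av_mul _ _ (av_mem _ hx), hk _ (av_mem _ (av_mem _ hx)),
        hβg _ (av_mem _ hx)]
      nth_rewrite 2 [← h2]; group
    obtain ⟨ν₀, hν₀, hν⟩ := frattini_conj (hsylR.mono (fun δ hδ => by
      obtain ⟨g, hg, hδg⟩ := mem_autInducedBy.1 hδ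
      exact mem_autInducedBy.2 ⟨g, hTH₁ hg, hδg⟩) hind) hM hα
    set ν := ν₀ * α
    have hνE : ν ∈ E.autGroup R := Subgroup.mul_mem _ (hind hν₀) hα
    have hνM := map_of_mem_autGroup hRT hνE
    obtain ⟨g₀, hg₀, hg₀e⟩ :=
      (receptive_iff.1 (receptive_of_fc hTp hEs hRfc)).2 R _ hνM (im_av ν)
    have hTN : T ≤ Nf T R (av ν) := by
      intro t ht
      obtain ⟨δ, hδ, hδT⟩ := exists_aut_conj (hnR t)
      obtain ⟨h, hh, hh'⟩ := mem_autInducedBy.1
        ((Subgroup.mem_normalizer_iff.1 hν δ).1 (hδT T ht))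
      refine ⟨ht, hnR t, h, hh, fun x hx => ?_⟩
      have h1 := hh' _ (av_mem ν hx)
      rw [av_mul _ _ (av_mem ν hx), av_inv_av ν hx, av_mul _ _ hx, hδ x hx] at h1
      exact h1
    have hg₁ := hg₀.restrict hTN
    obtain ⟨u, hu, hue⟩ := exists_aut hg₁
      (Subgroup.eq_of_le_of_card_ge hg₁.im_le hg₁.card_im.ge)
    obtain ⟨m, hm, hmu⟩ := hautT u hu
    obtain ⟨g, hg, hνg⟩ := mem_autInducedBy.1 hν₀
    refine ⟨g⁻¹ * m, H₁.mul_mem (H₁.inv_mem hg) hm, fun r hr => ?_⟩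
    have h1 : m * r * m⁻¹ = g * av α r * g⁻¹ := by
      rw [← hmu r (hRT hr), hue r (hRT hr), hg₀e r hr, av_mul _ _ hr, hνg _ (av_mem _ hr)]
    calc av α r = g⁻¹ * (g * av α r * g⁻¹) * g := by group
      _ = _ := by rw [← h1]; group
  -- the subgroup
  obtain ⟨K, hK⟩ : ∃ K, K = Subgroup.closure {g : G | g ∈ H₁ ∧ (orderOf g).Coprime p} := ⟨_, rfl⟩
  have hKH₁ : K ≤ H₁ := hK ▸ (Subgroup.closure_le _).2 fun g hg => hg.1
  have hKn : K.Normal := by
    refine normal_iff_cj.2 fun k => cj_eq_of_cj_le ?_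
    rw [hK, cj, MonoidHom.map_closure]
    refine Subgroup.closure_mono ?_
    rintro _ ⟨g, ⟨hg, hgo⟩, rfl⟩
    exact ⟨hH₁n.conj_mem g hg k, by
      rwa [orderOf_injective _ (MulAut.conj k).injective]⟩
  have hKpow : ∀ g ∈ H₁, g ^ p ^ nG ∈ K := fun g hg => hK ▸ Subgroup.subset_closure
    ⟨H₁.pow_mem hg _, Nat.Coprime.coprime_dvd_left (orderOf_dvd_of_pow_eq_one (hGpow g)) hLc⟩
  have hH₁le : H₁ ≤ P₀ ⊔ K := le_sup_of_pow_mem hP₀S hKH₁
    (fun g _ => by rw [Subgroup.normalizer_eq_top]; trivial) fun g hg => ⟨nG, hKpow g hg⟩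
  have hKS : ∀ x ∈ K, x ∈ S → x ∈ T := by
    intro x hxK hxS
    let ψ : ↥H₁ →* Abelianization ↥H₁ := (powMonoidHom L).comp Abelianization.of
    have hKψ : K ≤ ψ.ker.map H₁.subtype := by
      rw [hK]
      refine (Subgroup.closure_le _).2 ?_
      rintro g ⟨hg, hgo⟩
      refine ⟨⟨g, hg⟩, MonoidHom.mem_ker.2 ?_, rfl⟩
      show Abelianization.of (⟨g, hg⟩ : H₁) ^ L = 1
      rw [← map_pow]
      have : (⟨g, hg⟩ : H₁) ^ L = 1 := by
        refine Subtype.ext ?_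
        show g ^ L = 1
        have h1 : orderOf g ∣ p ^ nG * L := hcardG ▸ orderOf_dvd_natCard g
        exact orderOf_dvd_iff_pow_eq_one.1 ((hgo.pow_right nG).dvd_of_dvd_mul_left h1)
      rw [this, map_one]
    obtain ⟨y, hy, rfl⟩ := hKψ hxK
    have hyL : Abelianization.of y ^ L = 1 := hy
    obtain ⟨j, hj⟩ := IsPGroup.iff_card.1 hSp
    have hyp : Abelianization.of y ^ p ^ j = 1 := by
      rw [← map_pow, show y ^ p ^ j = 1 from Subtype.ext (by
        have h1 : (⟨(y : G), hxS⟩ : S) ^ p ^ j = 1 := hj ▸ pow_card_eq_one'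
        rw [Subgroup.coe_pow]; exact congrArg (Subtype.val (p := fun g => g ∈ S)) h1), map_one]
    have h1 : y ∈ commutator ↥H₁ := by
      rw [← Abelianization.ker_of]
      exact orderOf_eq_one_iff.1 (Nat.eq_one_of_dvd_coprimes (hLc.pow_right j)
        (orderOf_dvd_of_pow_eq_one hyL) (orderOf_dvd_of_pow_eq_one hyp))
    have h2 : (y : G) ∈ P₀ ⊓ ⁅H₁, H₁⁆ := ⟨hP₀.ge ⟨hxS, y.2⟩,
      Subgroup.map_subtype_commutator H₁ ▸ ⟨y, h1, rfl⟩⟩
    rw [inf_commutator_eq_focalIn hP₀S] at h2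
    refine (Subgroup.closure_le _).2 ?_ h2
    rintro _ ⟨x, hx, h, hh, hhx, rfl⟩
    obtain ⟨t, ht, hta⟩ := hP₀TA x hx
    have haS : t⁻¹ * x ∈ S := hQS (hAQ hta)
    have hr := (hmem₁.1 hh).2 _ (hAQ hta)
    have hr' : (t⁻¹ * x)⁻¹ * h * (t⁻¹ * x) * h⁻¹ ∈ T := hRT hr
    have hxe : h * x * h⁻¹ = h * t * h⁻¹ * ((t⁻¹ * x) * ((t⁻¹ * x)⁻¹ * h * (t⁻¹ * x) * h⁻¹)) := by group
    have hht : h * t * h⁻¹ ∈ S := by
      have h3 : h * x * h⁻¹ ∈ S := ((hP₀.le hhx : _ ∈ S ⊓ H₁)).1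
      rw [hxe] at h3
      exact (Subgroup.mul_mem_cancel_right _ (S.mul_mem haS (hTS hr'))).1 h3
    have h4 := T.mul_mem (hSnT _ (S.inv_mem haS) _ (T.mul_mem (T.inv_mem ht) (hsc t ht h hht))) hr'
    show x⁻¹ * (h * x * h⁻¹) ∈ T
    convert h4 using 1; group
  have hTnK : T ≤ Subgroup.normalizer (K : Set G) := fun t _ => by
    rw [Subgroup.normalizer_eq_top]; trivial
  obtain ⟨H, hH⟩ : ∃ H, H = T ⊔ K := ⟨_, rfl⟩
  have hTH : T ≤ H := hH ▸ le_sup_left
  have hKH : K ≤ H := hH ▸ le_sup_right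
  have hHH₁ : H ≤ H₁ := hH ▸ sup_le hTH₁ hKH₁
  have hHS : ∀ x ∈ H, x ∈ S → x ∈ T := by
    intro x hx hxS
    rw [hH, ← SetLike.mem_coe, Subgroup.coe_mul_of_left_le_normalizer_right T K hTnK] at hx
    obtain ⟨t, ht, k, hk, rfl⟩ := hx
    exact T.mul_mem ht (hKS k hk ((Subgroup.mul_mem_cancel_left _ (hTS ht)).1 hxS))
  have hH₁conj : ∀ h ∈ H₁, h ∈ Subgroup.normalizer (H : Set G) := by
    intro h hh
    refine (sup_le ?_ ?_ : P₀ ⊔ K ≤ Subgroup.normalizer (H : Set G)) (hH₁le hh)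
    · intro x hx
      refine mem_normalizer_of_cj_le ?_
      rw [hH, cj_sup]
      exact sup_le_sup (by
        rintro _ ⟨t, ht, rfl⟩; exact hSnT x ((hP₀.le hx : x ∈ S ⊓ H₁)).1 t ht) (cj_of_normal K x).le
    · exact fun x hx => Subgroup.le_normalizer (hKH hx)
  have hHn : H.Normal := by
    refine normal_iff_cj.2 fun g => cj_eq_of_cj_le ?_
    obtain ⟨n, hn, hng⟩ := frattini_conj hP₀S
      (H := ⊤) (fun x _ => by rw [Subgroup.normalizer_eq_top]; trivial) (Subgroup.mem_top g)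
    conv_lhs => rw [hH]
    rw [cj_sup]
    refine sup_le ?_ ((cj_of_normal K g).le.trans hKH)
    rintro _ ⟨t, ht, rfl⟩
    have h1 : n * g * t * (n * g)⁻¹ ∈ T := hsc t ht _
      ((hP₀.le (conj_mem_of_normalizer hng (hTP₀ ht)) : _ ∈ S ⊓ H₁)).1
    have h2 := conj_mem_of_normalizer (hH₁conj _ (H₁.inv_mem hn)) (hTH h1)
    show g * t * g⁻¹ ∈ H
    convert h2 using 1; group
  haveI := hHn
  have hHSyl : SylIn p T H := by
    have h1 := hS.inf_normal (N := H) le_top (by rw [Subgroup.normalizer_eq_top])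
    rwa [show S ⊓ H = T from le_antisymm (fun x hx => hHS x hx.2 hx.1) (le_inf hTS hTH)] at h1
  have hH₁HA : ∀ g ∈ H₁, ∃ h ∈ H, h⁻¹ * g ∈ A := by
    intro g hg
    have hle : P₀ ⊔ K ≤ H ⊔ A := sup_le (fun x hx => by
      obtain ⟨t, ht, hta⟩ := hP₀TA x hx
      simpa using Subgroup.mul_mem _ (Subgroup.mem_sup_left (hTH ht)) (Subgroup.mem_sup_right (S := H) hta))
      (hKH.trans le_sup_left)
    haveI := hAn
    have h2 := hle (hH₁le hg)
    rw [← SetLike.mem_coe, Subgroup.mul_normal] at h2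
    obtain ⟨h, hh, a, ha, rfl⟩ := h2
    exact ⟨h, hh, by simpa using ha⟩
  have hEH : ∀ P, E.Hom P = (fusionSystemOfSubgroup H T hTH).Hom P := by
    have hHsub : (fusionSystemOfSubgroup H T hTH).IsSubsystemOf (groupFusionSystem S) := by
      rintro P φ ⟨hP, hm, g, -, hg⟩
      exact ⟨hP.trans hTS, fun x => hTS (hm x), g, hg⟩
    intro P
    refine Set.Subset.antisymm
      (hom_le_of_agree hSp hTS hsub hHsub hEs (ofSubgroup_saturated hHSyl) hRT hCR ?_ ?_ P)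
      (hom_le_of_agree hSp hTS hHsub hsub (ofSubgroup_saturated hHSyl) hEs hRT hCR ?_
        (fun P hP k hk α hα => aut_conj hInv hP hk hα) P)
    · intro α hα
      obtain ⟨g, hg, hgα⟩ := honto α hα
      obtain ⟨h, hh, hha⟩ := hH₁HA g hg
      refine (mem_autGroup_iff hRT).2 (map_ofSubgroup_iff.2
        ⟨hRT, fun r hr => hRT (av_mem α hr), h, hh, fun r hr => ?_⟩)
      rw [hgα r hr]
      calc g * r * g⁻¹ = h * ((h⁻¹ * g) * r * (h⁻¹ * g)⁻¹) * h⁻¹ := by group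
        _ = _ := by rw [hha.1 r hr]
    · intro P hP k hk α hα
      obtain ⟨-, -, h, hh, hhe⟩ := map_ofSubgroup_iff.1 (map_of_mem_autGroup hP hα)
      have hhn : h ∈ Subgroup.normalizer (P : Set G) := mem_normalizer_of_conj_aut hhe
      obtain ⟨β, hβ, -⟩ := exists_aut_conj (P := P)
        (Subgroup.mul_mem _ (Subgroup.mul_mem _ hk hhn) (Subgroup.inv_mem _ hk))
      refine ⟨β, (mem_autGroup_iff hP).2 (map_ofSubgroup_iff.2
        ⟨hP, fun x hx => hP (av_mem β hx), k * h * k⁻¹, hHn.conj_mem h hh k, hβ⟩), fun x hx => ?_⟩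
      have hx' : k⁻¹ * x * k ∈ P := by
        simpa using conj_mem_of_normalizer (Subgroup.inv_mem _ hk) hx
      rw [hβ x hx, hhe _ hx']; group
    · intro α hα
      obtain ⟨-, -, h, hh, hhe⟩ := map_ofSubgroup_iff.1 (map_of_mem_autGroup hRT hα)
      obtain ⟨β, hβ, hβe⟩ := (hmem₁.1 (hHH₁ hh)).1
      rwa [show α = β from aut_ext fun r hr => (hhe r hr).trans (hβe r hr).symm]
  refine ⟨H, hTH, hHn, hHSyl, hEH, fun H' hTH' hH'n hH'S hH'E => ?_⟩
  haveI := hH'n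
  have hH'T : ∀ x ∈ H', x ∈ S → x ∈ T := fun x hx hxS =>
    (hH'S.eq_of_le (hSp.to_inf_left (K := H')) (le_inf hTS hTH') inf_le_right).le ⟨hxS, hx⟩
  have hH'1 : H' ≤ H₁ := by
    intro g hg
    obtain ⟨α, hα, hαH⟩ := exists_aut_conj (hnR g)
    have hαM : Map E R (av α) := by
      obtain ⟨φ, hφ, he⟩ := (map_ofSubgroup_iff (hTH := hTH')).2
        (⟨hRT, fun r hr => hRT (av_mem α hr), g, hg, hα⟩ :
          R ≤ T ∧ (∀ r ∈ R, av α r ∈ T) ∧ ∃ g ∈ H', ∀ r ∈ R, av α r = g * r * g⁻¹)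
      exact ⟨φ, (hH'E R).ge hφ, he⟩
    refine hmem₁.2 ⟨⟨α, (mem_autGroup_iff hRT).2 hαM, hα⟩, fun q hq => ?_⟩
    have hQm : q⁻¹ * g * q * g⁻¹ ∈ Q := by
      have h1 := Q.mul_mem (Q.inv_mem hq) (hQn.conj_mem q hq g)
      convert h1 using 1; group
    refine hRmem _ hQm (hH'T _ ?_ (hQS hQm))
    have h1 := H'.mul_mem (hH'n.conj_mem g hg q⁻¹) (H'.inv_mem hg)
    convert h1 using 1; group
  have hKH' : K ≤ H' := by
    rw [hK]
    refine (Subgroup.closure_le _).2 ?_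
    rintro g ⟨hg, hgo⟩
    obtain ⟨α, hα, hαe⟩ := (hmem₁.1 hg).1
    obtain ⟨φ, hφ, hφe⟩ := map_of_mem_autGroup hRT hα
    obtain ⟨-, -, h, hh, hhe⟩ := (hH'E R).le hφ
    have ha : h⁻¹ * g ∈ A := by
      refine ⟨fun r hr => ?_, fun q hq => ?_⟩
      · have h1 : g * r * g⁻¹ = h * r * h⁻¹ := by
          rw [← hαe r hr, ← hhe ⟨r, hr⟩, hφe]
        calc h⁻¹ * g * r * (h⁻¹ * g)⁻¹ = h⁻¹ * (g * r * g⁻¹) * h := by group
          _ = r := by rw [h1]; group
      · exact (hmem₁.1 (H₁.mul_mem (H₁.inv_mem (hH'1 hh)) hg)).2 q hq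
    have hge : QuotientGroup.mk' H' g = QuotientGroup.mk' H' (h⁻¹ * g) := by
      rw [map_mul, map_inv, (QuotientGroup.eq_one_iff h).2 hh |> fun e => show QuotientGroup.mk' H' h = 1 from e,
        inv_one, one_mul]
    have h5 : QuotientGroup.mk' H' g ^ p ^ nQ = 1 := by
      rw [hge, ← map_pow, hQpow _ (hAQ ha), map_one]
    exact (QuotientGroup.eq_one_iff g).1 ((orderOf_eq_one_iff (x := QuotientGroup.mk' H' g)).1
      (Nat.eq_one_of_dvd_coprimes (hgo.pow_right nQ) (orderOf_map_dvd (QuotientGroup.mk' H') g) (orderOf_dvd_of_pow_eq_one h5)))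
  refine le_antisymm ?_ (hH ▸ sup_le hTH' hKH')
  intro g hg
  have h2 := hH₁le (hH'1 hg)
  rw [← SetLike.mem_coe, Subgroup.coe_mul_of_left_le_normalizer_right P₀ K
    (fun x _ => by rw [Subgroup.normalizer_eq_top]; trivial)] at h2
  obtain ⟨x, hx, k, hk, rfl⟩ := h2
  exact H.mul_mem (hTH (hH'T x ((Subgroup.mul_mem_cancel_right _ (hKH' hk)).1 hg)
    ((hP₀.le hx : x ∈ S ⊓ H₁)).1)) (hKH hk)

end Correspond

end Cfsg.Agent.Local.FS.NormalInModel
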