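import Mathlib
import Cfsg.Agent.Lib.Fusion.Basic

/-!
Powers of fixed points of a Sylow subgroup acting on an abelian group with small nilpotency are fixed.
-/

set_option autoImplicit false

namespace Cfsg.Agent.Local.FS

open Cfsg.Agent.Fusion

/-- In a commutative ring: a unipotent element of order `p`. -/
theorem pow_mul_sub_one_eq_zero {R : Type*} [CommRing R] {p : ℕ} (hp : p.Prime) (n : ℕ) {a : R}
    (ha : a ^ p = 1) (h : (a - 1) ^ (n * (p - 1) + 1) = 0) : (p : R) ^ n * (a - 1) = 0 := by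
  obtain ⟨r, hr⟩ := exists_add_pow_prime_eq hp (Polynomial.X : Polynomial ℤ) 1
  have hr1 : Polynomial.coeff r 0 = 1 := by
    have h1 := congrArg (fun q => (Polynomial.derivative q).eval 0) hr
    have hp1 : p - 1 ≠ 0 := by have := hp.two_le; omega
    simp [Polynomial.derivative_pow, zero_pow hp1] at h1
    rw [Polynomial.coeff_zero_eq_eval_zero]
    have hp0 : (p : ℤ) ≠ 0 := by exact_mod_cast hp.ne_zero
    nlinarith [mul_left_cancel₀ hp0 (show (p : ℤ) * Polynomial.eval 0 r = p * 1 by linarith)]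
  set t := a - 1 with ht
  set w := Polynomial.aeval t r with hw
  have hrel : (p : R) * t * w = - t ^ p := by
    have h1 := congrArg (Polynomial.aeval t) hr
    simp only [map_add, map_mul, map_pow, Polynomial.aeval_X, map_one, map_natCast, one_pow, mul_one, ← hw] at h1
    rw [show t + 1 = a by rw [ht]; ring, ha] at h1
    linear_combination -h1
  have hnil : IsNilpotent t := ⟨_, h⟩
  have hwu : IsUnit w := by
    have h1 : r = Polynomial.X * r.divX + 1 := by
      conv_lhs => rw [← Polynomial.X_mul_divX_add r, hr1]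
      simp
    rw [hw, h1, map_add, map_mul, map_one, Polynomial.aeval_X]
    exact ((Commute.all t _).isNilpotent_mul_right hnil).isUnit_add_one
  have key : ∀ j ≤ n, (p : R) ^ j * t ^ ((n - j) * (p - 1) + 1) = 0 := by
    intro j
    induction j with
    | zero => intro _; simpa using h
    | succ j ih =>
      intro hj
      have h1 := ih (by omega)
      have he : (n - j) * (p - 1) + 1 = (n - (j + 1)) * (p - 1) + p := by
        have := hp.two_le
        rw [show n - j = (n - (j + 1)) + 1 by omega, add_mul, one_mul]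
        omega
      rw [← hwu.mul_left_eq_zero]
      calc (p : R) ^ (j + 1) * t ^ ((n - (j + 1)) * (p - 1) + 1) * w
          = (p : R) ^ j * t ^ ((n - (j + 1)) * (p - 1)) * ((p : R) * t * w) := by ring
        _ = (p : R) ^ j * t ^ ((n - (j + 1)) * (p - 1)) * (- t ^ p) := by rw [hrel]
        _ = - ((p : R) ^ j * t ^ ((n - (j + 1)) * (p - 1) + p)) := by rw [pow_add]; ring
        _ = 0 := by rw [← he, h1, neg_zero]
  simpa using key n le_rfl

variable {A : Type*} [Group A] [Finite A] {M : Type*} [CommGroup M] {p : ℕ} [Fact p.Prime]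

omit [Finite A] in
/-- A unipotent element whose `p`-th power fixes `x` fixes `x ^ p ^ n`. -/
theorem fixed_pow_of_pow_fixed (φ : A →* MulAut M) (n : ℕ) {u : A}
    (h : ∀ m : M, (fun y => φ u y / y)^[n * (p - 1) + 1] m = 1) {x : M} (hx : φ (u ^ p) x = x) :
    φ u (x ^ p ^ n) = x ^ p ^ n := by
  let C : Subgroup M :=
    { carrier := {m | φ (u ^ p) m = m}
      one_mem' := map_one (φ (u ^ p))
      mul_mem' := fun {a b} ha hb => by
        show φ (u ^ p) (a * b) = a * b
        rw [map_mul, ha, hb]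
      inv_mem' := fun {a} ha => by
        show φ (u ^ p) a⁻¹ = a⁻¹
        rw [map_inv, ha] }
  have hC : ∀ m ∈ C, φ u m ∈ C := fun m hm => by
    show φ (u ^ p) (φ u m) = φ u m
    rw [← MulAut.mul_apply, ← map_mul, (Commute.pow_self u p).eq, map_mul, MulAut.mul_apply, hm]
  let a : AddMonoid.End (Additive ↥C) := MonoidHom.toAdditive
    (((φ u).toMonoidHom.comp C.subtype).codRestrict C fun m => hC m m.2)
  have hapow : ∀ (k : ℕ) (m : ↥C), (((a ^ k) (Additive.ofMul m)).toMul : M) = φ (u ^ k) m := by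
    intro k
    induction k with
    | zero => intro m; simp
    | succ k ih =>
      intro m
      rw [pow_succ']
      show φ u (((a ^ k) (Additive.ofMul m)).toMul : M) = _
      rw [ih, ← MulAut.mul_apply, ← map_mul, ← pow_succ']
  have hap : a ^ p = 1 := by
    refine AddMonoidHom.ext fun m => ?_
    refine Additive.toMul.injective (Subtype.ext ?_)
    exact (hapow p m.toMul).trans m.toMul.2
  have hit : ∀ (k : ℕ) (m : ↥C), ((((a - 1) ^ k) (Additive.ofMul m)).toMul : M) =
      (fun y => φ u y / y)^[k] (m : M) := by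
    intro k
    induction k with
    | zero => intro m; simp
    | succ k ih =>
      intro m
      rw [pow_succ', Function.iterate_succ_apply', ← ih m]
      show ((φ u).toMonoidHom _) / _ = _
      rfl
  have hnil : (a - 1) ^ (n * (p - 1) + 1) = 0 := by
    refine AddMonoidHom.ext fun m => ?_
    exact Additive.toMul.injective (Subtype.ext ((hit _ m.toMul).trans (h _)))
  let ev : Polynomial ℤ →+* AddMonoid.End (Additive ↥C) := (Polynomial.aeval a).toRingHom
  let R := Polynomial ℤ ⧸ RingHom.ker ev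
  let b : R := Ideal.Quotient.mk _ Polynomial.X
  have hinj : Function.Injective (RingHom.kerLift ev) := RingHom.kerLift_injective ev
  have hb : RingHom.kerLift ev b = a := by
    show Polynomial.aeval a Polynomial.X = a
    exact Polynomial.aeval_X a
  have h1 : (p : R) ^ n * (b - 1) = 0 := pow_mul_sub_one_eq_zero Fact.out n
    (hinj (by rw [map_pow, hb, hap, map_one]))
    (hinj (by rw [map_pow, map_sub, hb, map_one, hnil, map_zero]))
  have h2 : (p : AddMonoid.End (Additive ↥C)) ^ n * (a - 1) = 0 := by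
    have := congrArg (RingHom.kerLift ev) h1
    rwa [map_mul, map_pow, map_sub, map_natCast, map_one, map_zero, hb] at this
  rw [← Nat.cast_pow, ← nsmul_eq_mul] at h2
  have h3 : ((p ^ n) • (a - 1)) (Additive.ofMul (⟨x, hx⟩ : ↥C)) = 0 := by rw [h2]; rfl
  rw [map_pow, ← div_eq_one, ← div_pow]
  exact congrArg (fun m : Additive ↥C => ((Additive.toMul m : ↥C) : M)) h3

/-- **Powers of fixed points are fixed.** -/
theorem fixed_pow_of_unipotent (φ : A →* MulAut M) (n : ℕ)
    (h : ∀ u : A, (∃ k, orderOf u = p ^ k) → ∀ m : M, (fun y => φ u y / y)^[n * (p - 1) + 1] m = 1)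
    {T : Subgroup A} (hT : SylIn p T ⊤) {x : M} (hx : ∀ t ∈ T, φ t x = x) :
    ∀ l ∈ Subgroup.closure {u : A | ∃ k, orderOf u = p ^ k}, φ l (x ^ p ^ n) = x ^ p ^ n := by
  set y := x ^ p ^ n with hy
  let Good : Subgroup A → Prop := fun P => ∃ z : M, (∀ t ∈ P, φ t z = z) ∧ z ^ p ^ n = y
  have main : ∀ (k : ℕ) (P P' : Subgroup A), SylIn p P ⊤ → SylIn p P' ⊤ →
      Nat.card A - Nat.card ↥(P ⊓ P') = k → Good P → Good P' := by
    intro k
    induction k using Nat.strong_induction_on with
    | _ k ih =>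
    intro P P' hP hP' hk hgood
    set Q := P ⊓ P' with hQ
    rcases eq_or_ne Q P' with he | hne'
    · obtain ⟨z, hz, hzy⟩ := hgood
      exact ⟨z, fun t ht => hz t (he.ge ht).1, hzy⟩
    have hne : Q ≠ P := fun he => hne' (le_antisymm inf_le_right (by
      rw [he, Subgroup.eq_of_le_of_card_ge (inf_eq_left.1 (hQ ▸ he)) (hP.card_le hP'.isPGroup le_top)]))
    set N := Subgroup.normalizer (Q : Set A)
    set L₁ := Subgroup.closure {u : A | u ∈ N ∧ u ^ p ∈ Q} with hL₁
    have hQL : Q ≤ L₁ := fun q hq => Subgroup.subset_closure ⟨Subgroup.le_normalizer hq, Q.pow_mem hq p⟩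
    have hgrow : ∀ R : Subgroup A, IsPGroup p R → Q ≤ R → Q ≠ R → Q < R ⊓ L₁ := by
      intro R hR hQR hQne
      refine lt_of_le_not_ge (le_inf hQR hQL) fun hle => ?_
      obtain ⟨s, hs, hsQ⟩ := SetLike.exists_of_lt (SylIn.normalizer_growth hQR hQne hR)
      obtain ⟨j, hj⟩ := hR ⟨s, hs.1⟩
      have hj' : s ^ p ^ j ∈ Q := by
        rw [show s ^ p ^ j = 1 from congrArg Subtype.val hj]; exact Q.one_mem
      obtain ⟨i, hi, hi'⟩ : ∃ i, s ^ p ^ i ∉ Q ∧ s ^ p ^ (i + 1) ∈ Q := by
        by_contra hc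
        push Not at hc
        have : ∀ i, s ^ p ^ i ∉ Q := by
          intro i
          induction i with
          | zero => simpa using hsQ
          | succ i ih => exact hc i ih
        exact this j hj'
      refine hi (hle ⟨R.pow_mem hs.1 _, Subgroup.subset_closure ⟨pow_mem hs.2 _, ?_⟩⟩)
      rwa [← pow_mul, ← pow_succ]
    obtain ⟨z, hz, hzy⟩ := id hgood
    have hzQ : ∀ q ∈ Q, φ q z = z := fun q hq => hz q hq.1
    have hLy : ∀ l ∈ L₁, φ l y = y := by
      intro l hl
      refine (show L₁ ≤ ({ carrier := {g | φ g y = y}, one_mem' := by simp, mul_mem' := ?_, inv_mem' := ?_ } :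
        Subgroup A) from (Subgroup.closure_le _).2 ?_) hl
      · intro a b ha hb
        show φ (a * b) y = y
        rw [map_mul, MulAut.mul_apply, hb, ha]
      · intro a ha
        show φ a⁻¹ y = y
        rw [map_inv]
        conv_lhs => rw [← ha]
        exact MulAut.inv_apply_self M (φ a) y
      · rintro u ⟨-, huQ⟩
        show φ u y = y
        rw [← hzy]
        refine fixed_pow_of_pow_fixed φ n (h u ?_) (hzQ _ huQ)
        obtain ⟨j, hj⟩ := hP.isPGroup ⟨u ^ p, huQ.1⟩
        have : u ^ p ^ (j + 1) = 1 := by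
          rw [pow_succ', pow_mul]; exact congrArg Subtype.val hj
        obtain ⟨i, -, hi⟩ := (Nat.dvd_prime_pow Fact.out).1 (orderOf_dvd_of_pow_eq_one this)
        exact ⟨i, hi⟩
    have h1 := hgrow P hP.isPGroup inf_le_left hne
    have h2 := hgrow P' hP'.isPGroup inf_le_right hne'
    obtain ⟨R₁, hR₁, hPR₁⟩ := exists_sylIn_ge (p := p) (hP.isPGroup.to_inf_left (K := L₁)) inf_le_right
    obtain ⟨R₂, hR₂, hPR₂⟩ := exists_sylIn_ge (p := p) (hP'.isPGroup.to_inf_left (K := L₁)) inf_le_right
    obtain ⟨l, hl, hlR⟩ := hR₁.conj_eq hR₂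
    obtain ⟨P₁, hP₁, hRP₁⟩ := exists_sylIn_ge (p := p) hR₁.isPGroup le_top
    have hstep : ∀ Y Z : Subgroup A, SylIn p Y ⊤ → SylIn p Z ⊤ → Q < Y ⊓ Z → Good Y → Good Z := by
      intro Y Z hY hZ hlt hYg
      have hc : Nat.card Q < Nat.card ↥(Y ⊓ Z) := by
        refine lt_of_le_of_ne (Subgroup.card_le_of_le hlt.le) fun he => hlt.ne
          (Subgroup.eq_of_le_of_card_ge hlt.le he.ge)
      have hle : Nat.card ↥(Y ⊓ Z) ≤ Nat.card A := Subgroup.card_le_card_group _
      exact ih _ (by omega) Y Z hY hZ rfl hYg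
    have hg₁ : Good P₁ := hstep P P₁ hP hP₁ (h1.trans_le (le_inf inf_le_left (hPR₁.trans hRP₁))) hgood
    have hg₂ : Good (cj P₁ l) := by
      obtain ⟨z₁, hz₁, hzy₁⟩ := hg₁
      refine ⟨φ l z₁, ?_, by rw [← map_pow, hzy₁, hLy l hl]⟩
      rintro _ ⟨t, ht, rfl⟩
      show φ (l * t * l⁻¹) (φ l z₁) = φ l z₁
      rw [← MulAut.mul_apply, ← map_mul, show l * t * l⁻¹ * l = l * t by group, map_mul, MulAut.mul_apply, hz₁ t ht]
    refine hstep _ P' (hP₁.cj' (by rw [Subgroup.normalizer_eq_top]; trivial)) hP'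
      (h2.trans_le (le_inf ?_ inf_le_left)) hg₂
    exact hPR₂.trans (hlR.ge.trans (cj_mono hRP₁ l))
  intro l hl
  refine (show Subgroup.closure {u : A | ∃ k, orderOf u = p ^ k} ≤
    ({ carrier := {g | φ g y = y}, one_mem' := by simp, mul_mem' := ?_, inv_mem' := ?_ } : Subgroup A) from
      (Subgroup.closure_le _).2 ?_) hl
  · intro a b ha hb
    show φ (a * b) y = y
    rw [map_mul, MulAut.mul_apply, hb, ha]
  · intro a ha
    show φ a⁻¹ y = y
    rw [map_inv]
    conv_lhs => rw [← ha]
    exact MulAut.inv_apply_self M (φ a) y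
  · rintro u ⟨k, hk⟩
    show φ u y = y
    have hu : IsPGroup p (Subgroup.zpowers u) := IsPGroup.of_card (n := k) (by rw [Nat.card_zpowers, hk])
    obtain ⟨P', hP', huP⟩ := exists_sylIn_ge (p := p) hu le_top
    obtain ⟨z, hz, hzy⟩ := main _ T P' hT hP' rfl ⟨x, hx, rfl⟩
    rw [← hzy, map_pow, hz u (huP (Subgroup.mem_zpowers u))]

end Cfsg.Agent.Local.FS
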