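import Cfsg.Prelude.Def_PLocal
import Cfsg.Prelude.Def_OddOrderLocal
import Cfsg.Agent.Lib.Local.FS.Control
import Cfsg.Agent.Lib.Local.FS.PowerFixed
import Cfsg.Agent.Lib.Fusion.OmegaClassTwo

/-!
Normality of strongly closed subgroups through central chains in the elements of order `p`, odd `p`.
-/

set_option autoImplicit false

universe u

namespace Cfsg.Agent.Local.FS

open Cfsg Cfsg.FusionSystem Cfsg.Agent.Fusion
open scoped commutatorElement

/-- An automorphism of order prime to `p` fixing the elements of order `p` is trivial. -/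
theorem aut_eq_one_of_fix_order_p {H : Type u} [Group H] [Finite H] {p : ℕ} [Fact p.Prime] (hp : p ≠ 2)
    (hH : IsPGroup p H) (α : MulAut H) (hco : (orderOf α).Coprime p)
    (h : ∀ x : H, x ^ p = 1 → α x = x) : α = 1 := by
  obtain ⟨D, -, -, hom, hdet⟩ := exists_detect hH (Subgroup.zpowers α)
  refine hdet α (Subgroup.mem_zpowers α) hco fun d hd => h d ?_
  exact (hom d hd).resolve_right fun h2 => hp h2.1

variable {Ω : Type u} [Group Ω] {S P : Subgroup Ω} [Finite S] {F : FusionSystem S} {p : ℕ} [Fact p.Prime]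

omit [Finite S] [Fact p.Prime] in
theorem mem_omegaOne_of_pow {x : Ω} (hx : x ∈ P) (hxp : x ^ p = 1) : x ∈ omegaOne p P :=
  Subgroup.subset_closure ⟨hx, hxp⟩

omit [Finite S] [Fact p.Prime] in
theorem omegaOne_le_self : omegaOne p P ≤ P := (Subgroup.closure_le _).2 fun _ hx => hx.1

omit [Finite S] [Fact p.Prime] in
theorem omegaOne_characteristic : ((omegaOne p P).subgroupOf P).Characteristic := by
  refine Subgroup.characteristic_iff_le_comap.2 fun e x hx => ?_
  have key : omegaOne p P ≤ ((((omegaOne p P).subgroupOf P).comap e.toMonoidHom)).map P.subtype := by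
    refine (Subgroup.closure_le _).2 ?_
    rintro y ⟨hy, hyp⟩
    refine ⟨⟨y, hy⟩, Subgroup.subset_closure ⟨(e ⟨y, hy⟩).2, ?_⟩, rfl⟩
    show ((e ⟨y, hy⟩ : P) : Ω) ^ p = 1
    rw [← Subgroup.coe_pow, ← map_pow, show (⟨y, hy⟩ : P) ^ p = 1 from Subtype.ext hyp, map_one,
      Subgroup.coe_one]
  obtain ⟨y, hy, he⟩ := key (Subgroup.mem_subgroupOf.1 hx)
  rwa [Subtype.ext he] at hy

omit [Finite S] in
theorem pow_eq_one_of_coprime_parts {H : Type*} [Group H] [Finite H] (α : H)
    (h : ∀ k : ℕ, (orderOf (α ^ p ^ k)).Coprime p → α ^ p ^ k = 1) : ∃ k : ℕ, α ^ p ^ k = 1 := by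
  obtain ⟨i, m, hm, him⟩ := Nat.exists_eq_pow_mul_and_not_dvd (orderOf_pos α).ne' p (Fact.out : p.Prime).ne_one
  refine ⟨i, h i ?_⟩
  rw [orderOf_pow' α (pow_ne_zero _ (Fact.out : p.Prime).ne_zero), him, Nat.gcd_eq_right (dvd_mul_right _ _),
    Nat.mul_div_cancel_left _ (pow_pos (Fact.out : p.Prime).pos _)]
  exact ((Nat.Prime.coprime_iff_not_dvd Fact.out).2 hm).symm

set_option maxHeartbeats 1000000 in
/-- A strongly closed subgroup whose elements of order `p` carry a central chain of strongly closed subgroups is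
normal. -/
theorem normal_of_omega_chain (hS : IsPGroup p S) (hF : F.IsSaturated p) (hp : p ≠ 2) (hP : F.StronglyClosed P)
    (C : ℕ → Subgroup Ω) (n : ℕ) (h0 : C 0 = ⊥) (hn : ∀ x ∈ P, x ^ p = 1 → x ∈ C n)
    (hmono : Monotone C) (hCP : ∀ i, C i ≤ P) (hsc : ∀ i, F.StronglyClosed (C i))
    (hcomm : ∀ i, ⁅C (i + 1), P⁆ ≤ C i) : F.IsNormal P := by
  refine normal_of_centric_radical hS hF hP fun R hC hR => ?_
  refine le_of_inf_normalizer_le hS hP.1 (stronglyClosed_le_normalizer hP) hC.1 ?_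
  haveI := finite_of_le hC.1
  haveI := mulAut_finite_of_le hC.1
  haveI := finite_of_le hP.1
  let A : Subgroup (MulAut R) :=
    { carrier := {α | α ∈ F.autGroup R ∧ (∀ i, ∀ x ∈ R, x ∈ C (i + 1) → x⁻¹ * av α x ∈ C i) ∧
        ∀ x ∈ R, x⁻¹ * av α x ∈ P}
      one_mem' := ⟨Subgroup.one_mem _, fun i x hx _ => by rw [av_one hx, inv_mul_cancel]; exact one_mem _,
        fun x hx => by rw [av_one hx, inv_mul_cancel]; exact one_mem _⟩
      mul_mem' := by
        rintro α β ⟨hα, hα', hα''⟩ ⟨hβ, hβ', hβ''⟩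
        refine ⟨Subgroup.mul_mem _ hα hβ, fun i x hx hxC => ?_, fun x hx => ?_⟩
        · have hy := stronglyClosed_map (hsc (i + 1)) (map_of_mem_autGroup hC.1 hβ) hx hxC
          have := (C i).mul_mem (hβ' i x hx hxC) (hα' i _ (av_mem β hx) hy)
          rw [av_mul _ _ hx]
          simpa [mul_assoc] using this
        · have := P.mul_mem (hβ'' x hx) (hα'' _ (av_mem β hx))
          rw [av_mul _ _ hx]
          simpa [mul_assoc] using this
      inv_mem' := by
        rintro α ⟨hα, hα', hα''⟩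
        refine ⟨Subgroup.inv_mem _ hα, fun i x hx hxC => ?_, fun x hx => ?_⟩
        · have hy := stronglyClosed_map (hsc (i + 1)) (map_of_mem_autGroup hC.1 (Subgroup.inv_mem _ hα)) hx hxC
          have h1 := (C i).inv_mem (hα' i _ (av_mem α⁻¹ hx) hy)
          rw [av_av_inv α hx] at h1
          simpa using h1
        · have h1 := P.inv_mem (hα'' _ (av_mem α⁻¹ hx))
          rw [av_av_inv α hx] at h1
          simpa using h1 }
  have hAn : (A.subgroupOf (F.autGroup R)).Normal := by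
    constructor
    rintro β ⟨-, hβ', hβ''⟩ ⟨γ, hγ⟩
    have hm := map_of_mem_autGroup hC.1 hγ
    have hmi := map_of_mem_autGroup hC.1 (Subgroup.inv_mem _ hγ)
    have key : ∀ {K : Subgroup Ω}, F.StronglyClosed K → ∀ x ∈ R,
        (av γ⁻¹ x)⁻¹ * av (β : MulAut R) (av γ⁻¹ x) ∈ K →
          x⁻¹ * av (γ * (β : MulAut R) * γ⁻¹) x ∈ K := by
      intro K hK x hx h1
      have hy : av γ⁻¹ x ∈ R := av_mem _ hx
      have h2 := stronglyClosed_map hK hm (R.mul_mem (R.inv_mem hy) (av_mem _ hy)) h1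
      rw [hm.map_mul (R.inv_mem hy) (av_mem _ hy), hm.map_inv hy, av_av_inv γ hx] at h2
      rwa [av_mul _ _ hx, av_mul _ _ hy]
    refine ⟨Subgroup.mul_mem _ (Subgroup.mul_mem _ hγ β.2) (Subgroup.inv_mem _ hγ), fun i x hx hxC => ?_,
      fun x hx => key hP x hx (hβ'' _ (av_mem _ hx))⟩
    exact key (hsc i) x hx (hβ' i _ (av_mem _ hx) (stronglyClosed_map (hsc (i + 1)) hmi hx hxC))
  have hAp : IsPGroup p ↥(A.subgroupOf (F.autGroup R)) := by
    rintro ⟨⟨α, hαF⟩, hαA⟩
    suffices hk' : ∃ k : ℕ, α ^ p ^ k = 1 by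
      obtain ⟨k, hk⟩ := hk'
      exact ⟨k, Subtype.ext (Subtype.ext hk)⟩
    refine pow_eq_one_of_coprime_parts (p := p) α fun k hco => ?_
    set β := α ^ p ^ k
    obtain ⟨hβF, hβ', hβ''⟩ : β ∈ A := A.pow_mem hαA _
    set D := P ⊓ R with hD
    have hDinv : ∀ x ∈ D, av β x ∈ D := fun x hx =>
      ⟨stronglyClosed_map hP (map_of_mem_autGroup hC.1 hβF) hx.2 hx.1, av_mem β hx.2⟩
    have hfixp : ∀ x ∈ D, x ^ p = 1 → av β x = x := fun x hx hxp =>
      fix_of_stabilizes hS hC.1 (D := D) inf_le_right C h0 hco hDinv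
        (fun i y hy hyC => hβ' i y hy.2 hyC) n x hx (hn x hx.1 hxp)
    obtain ⟨γ, hγ, hγo⟩ := exists_restrict β (H := D.subgroupOf R) fun x hx => Subgroup.mem_subgroupOf.2 (by
      rw [← av_coe]; exact hDinv _ (Subgroup.mem_subgroupOf.1 hx))
    have hγ1 : γ = 1 := aut_eq_one_of_fix_order_p hp ((hS.to_le hC.1).to_subgroup _) γ
      (hco.coprime_dvd_left hγo) fun x hx => Subtype.ext (Subtype.ext (by
        rw [hγ, ← av_coe]
        exact hfixp _ (Subgroup.mem_subgroupOf.1 x.2) (congrArg (fun t : D.subgroupOf R => ((t : R) : Ω)) hx)))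
    ext ⟨x, hx⟩
    show ((β ⟨x, hx⟩ : R) : Ω) = x
    set q : R := ⟨x, hx⟩⁻¹ * β ⟨x, hx⟩ with hq
    have hqD : q ∈ D.subgroupOf R := by
      refine Subgroup.mem_subgroupOf.2 ⟨?_, q.2⟩
      have := hβ'' x hx
      rwa [av_apply β hx] at this
    have hfq : β q = q := by
      have := hγ ⟨q, hqD⟩
      rw [hγ1] at this
      exact this.symm
    have hax : β ⟨x, hx⟩ = ⟨x, hx⟩ * q := by rw [hq]; group
    have hpow : ∀ j : ℕ, (β ^ j) ⟨x, hx⟩ = ⟨x, hx⟩ * q ^ j := by
      intro j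
      induction j with
      | zero => simp
      | succ j ih =>
        rw [pow_succ' β j, MulAut.mul_apply, ih, map_mul, map_pow, hfq, hax, pow_succ', mul_assoc]
    have h5 := hpow (orderOf β)
    rw [pow_orderOf_eq_one, MulAut.one_apply] at h5
    have h6 : q ^ orderOf β = 1 := mul_left_cancel (h5.symm.trans (mul_one _).symm)
    obtain ⟨i, hi⟩ := hS.to_le hC.1 q
    have h7 := pow_gcd_eq_one.2 ⟨h6, hi⟩
    rw [Nat.Coprime.pow_right i hco, pow_one] at h7
    rw [hax, h7, mul_one]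
  intro a ha
  obtain ⟨haP, han⟩ := ha
  obtain ⟨β, hβ, hβS⟩ := exists_aut_conj han
  have hβF : β ∈ F.autGroup R := autInducedBy_le_autGroup hC.1 (hβS S (hP.1 haP))
  have hβA : β ∈ A := by
    refine ⟨hβF, fun i x hx hxC => ?_, fun x hx => ?_⟩
    · rw [hβ x hx]
      have h1 : ⁅x⁻¹, a⁆ ∈ C i := hcomm i (Subgroup.commutator_mem_commutator ((C (i + 1)).inv_mem hxC) haP)
      rw [commutatorElement_def] at h1
      simpa [mul_assoc] using h1
    · rw [hβ x hx]
      have h1 := P.mul_mem (stronglyClosed_conj_mem hP (S.inv_mem (hC.1 hx)) haP) (P.inv_mem haP)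
      simpa [mul_assoc] using h1
  have hin : β ∈ Inn R := by
    rw [← hR.2]
    exact ⟨⟨β, hβF⟩, le_pCore (hn := hAn) hAp hβA, rfl⟩
  obtain ⟨y, hy, hyβ⟩ := mem_Inn.1 hin
  have hc : y⁻¹ * a ∈ centralizerIn S R := by
    refine mem_centralizerIn.2 ⟨S.mul_mem (S.inv_mem (hC.1 hy)) (hP.1 haP), fun x hx => ?_⟩
    have h1 := (hβ x hx).symm.trans (hyβ x hx)
    calc x * (y⁻¹ * a) = y⁻¹ * (y * x * y⁻¹) * a := by group
      _ = y⁻¹ * (a * x * a⁻¹) * a := by rw [h1]
      _ = _ := by group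
  simpa using R.mul_mem hy (hC.2 R (isConj_refl hC.1) hc)

theorem exists_omega_chain_of_normal (hS : IsPGroup p S) (hP : F.IsNormal P) :
    ∃ (n : ℕ) (C : ℕ → Subgroup Ω), C 0 = ⊥ ∧ C n = omegaOne p P ∧ Monotone C ∧
      (∀ i, F.StronglyClosed (C i)) ∧ ∀ i, ⁅C (i + 1), P⁆ ≤ C i := by
  haveI := finite_of_le hP.1
  haveI : Group.IsNilpotent ↥P := IsPGroup.isNilpotent (p := p) (hS.to_le hP.1)
  obtain ⟨n, hn⟩ := (inferInstance : Group.IsNilpotent ↥P).nilpotent'
  set W := (omegaOne p P).subgroupOf P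
  have hWc : W.Characteristic := omegaOne_characteristic
  haveI := hWc
  have hch : ∀ i, (W ⊓ Subgroup.upperCentralSeries P i).Characteristic := fun i => by
    refine Subgroup.characteristic_iff_comap_eq.2 fun e => ?_
    rw [Subgroup.comap_inf, Subgroup.characteristic_iff_comap_eq.1 hWc e,
      Subgroup.characteristic_iff_comap_eq.1 (inferInstance : (Subgroup.upperCentralSeries P i).Characteristic) e]
  refine ⟨n, fun i => (W ⊓ Subgroup.upperCentralSeries P i).map P.subtype, ?_, ?_, fun i j hij => ?_,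
    fun i => ?_, fun i => ?_⟩
  · show (W ⊓ Subgroup.upperCentralSeries P 0).map P.subtype = ⊥
    rw [Subgroup.upperCentralSeries_zero, inf_bot_eq, Subgroup.map_bot]
  · show (W ⊓ Subgroup.upperCentralSeries P n).map P.subtype = _
    rw [hn, inf_top_eq, Subgroup.map_subgroupOf_eq_of_le omegaOne_le_self]
  · exact Subgroup.map_mono (inf_le_inf_left _ (Subgroup.upperCentralSeries_mono P hij))
  · refine normal_stronglyClosed (normal_of_characteristic hP (Subgroup.map_subtype_le _) ?_)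
    rw [Subgroup.subgroupOf, Subgroup.comap_map_eq_self_of_injective P.subtype_injective]
    exact hch i
  · refine Subgroup.commutator_le.2 ?_
    rintro _ ⟨x, ⟨hxW, hxZ⟩, rfl⟩ y hy
    refine ⟨⁅x, ⟨y, hy⟩⁆, ⟨?_, (Subgroup.mem_upperCentralSeries_succ_iff.1 hxZ) ⟨y, hy⟩⟩, ?_⟩
    · rw [commutatorElement_def, mul_assoc, mul_assoc]
      refine mul_mem hxW ?_
      rw [← mul_assoc]
      exact (inferInstance : W.Normal).conj_mem _ (inv_mem hxW) _
    · exact map_commutatorElement P.subtype x ⟨y, hy⟩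

end Cfsg.Agent.Local.FS
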