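import Cfsg.Agent.Lib.Local.FS.Normal

/-!
Subsystems containing every automorphism group except those of one class.
-/

set_option autoImplicit false

namespace Cfsg.Agent.Local.FS

open Cfsg Cfsg.FusionSystem Cfsg.Agent.Fusion

variable {Ω : Type*} [Group Ω] {S : Subgroup Ω} [Finite S] {p : ℕ} [Fact p.Prime]

omit [Finite S] [Fact p.Prime] in
/-- A subsystem cut out by a closed class containing the conjugations by `S`. -/
theorem exists_sys_of_class {F : FusionSystem S} {K : Subgroup Ω → (Ω → Ω) → Prop}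
    (hcongr : ∀ {P : Subgroup Ω} {f g : Ω → Ω}, K P f → (∀ x ∈ P, f x = g x) → K P g)
    (hconj : ∀ {P : Subgroup Ω} {s : Ω}, P ≤ S → s ∈ S → K P (fun x => s * x * s⁻¹))
    (hcomp : ∀ {P Q : Subgroup Ω} {f g : Ω → Ω}, Map F P f → Map F Q g → K P f → K Q g →
      (∀ x ∈ P, f x ∈ Q) → K P (g ∘ f))
    (hinv : ∀ {P : Subgroup Ω} {f g : Ω → Ω}, Map F P f → K P f → (∀ x ∈ P, g (f x) = x) →
      K (im P f) g) :
    ∃ E : FusionSystem S, ∀ (P : Subgroup Ω) (f : Ω → Ω), Map E P f ↔ (Map F P f ∧ K P f) := by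
  let E : FusionSystem S :=
    { Hom := fun P => {φ | φ ∈ F.Hom P ∧ K P (fn φ)}
      le_of_mem := fun h => F.le_of_mem h.1
      injective_of_mem := fun h => F.injective_of_mem h.1
      conj_mem := fun {P g} hP hg => ⟨F.conj_mem hP hg,
        hcongr (hconj hP hg) fun x hx => by rw [fn_apply _ hx]; rfl⟩
      comp_mem := fun {P Q φ ψ} hφ hψ h => ⟨F.comp_mem hφ.1 hψ.1 h,
        hcongr (hcomp (map_of_mem hφ.1) (map_of_mem hψ.1) hφ.2 hψ.2
          fun x hx => by rw [fn_apply φ hx]; exact h _)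
          fun x hx => by
            show fn ψ (fn φ x) = _
            rw [fn_apply φ hx, fn_apply ψ (h _), fn_apply _ hx]; rfl⟩
      inv_mem := fun {P φ} hφ => by
        obtain ⟨ψ, hψ, hψφ⟩ := F.inv_mem hφ.1
        refine ⟨ψ, ⟨hψ, ?_⟩, hψφ⟩
        have hi : im P (fn φ) = φ.range := (map_of_mem hφ.1).im_eq_range fun x => (fn_coe φ x).symm
        have key : ∀ g : Ω → Ω, (∀ x ∈ P, g (fn φ x) = x) → K φ.range g :=
          fun g hg => hi ▸ hinv (map_of_mem hφ.1) hφ.2 hg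
        refine key _ fun x hx => ?_
        rw [fn_apply φ hx, fn_apply ψ ⟨⟨x, hx⟩, rfl⟩]
        exact hψφ ⟨x, hx⟩ }
  refine ⟨E, fun P f => ⟨?_, ?_⟩⟩
  · rintro ⟨φ, ⟨hφ, hK⟩, he⟩
    exact ⟨⟨φ, hφ, he⟩, hcongr hK fun x hx => by rw [fn_apply φ hx]; exact he ⟨x, hx⟩⟩
  · rintro ⟨⟨φ, hφ, he⟩, hK⟩
    exact ⟨φ, ⟨hφ, hcongr hK fun x hx => by rw [fn_apply φ hx]; exact (he ⟨x, hx⟩).symm⟩, he⟩

/-- Omitting the class of an essential subgroup. -/
theorem exists_omit_essential {F : FusionSystem S} (hS : IsPGroup p S) (hF : F.IsSaturated p)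
    {Q : Subgroup Ω} (hQ : F.IsEssential p Q) :
    ∃ E : FusionSystem S, (∀ R : Subgroup Ω, R ≤ S → ¬ F.IsConj Q R → F.autGroup R ≤ E.autGroup R) ∧
      ¬ F ≤ E := by
  have hQn := hQ.2.1
  have hQS := lt_of_essential hS hF hQ
  have hu : ∀ X : Subgroup Ω, ∃ u : Ω → Ω, F.IsConj X Q → Map F (normalizerIn S X) u ∧
      (∀ x ∈ normalizerIn S X, u x ∈ normalizerIn S Q) ∧ im X u = Q := by
    intro X
    by_cases hX : F.IsConj X Q
    · obtain ⟨u, hu⟩ := exists_map_normalizer_fn hS hF hQn hX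
      exact ⟨u, fun _ => hu⟩
    · exact ⟨id, fun h => absurd h hX⟩
  choose u hu using hu
  set H0 := Subgroup.closure (extSet F Q)
  -- the transported map lies in `H0`
  let K : Subgroup Ω → (Ω → Ω) → Prop := fun P f => ∀ X, X ≤ P → F.IsConj X Q →
    ∃ h ∈ H0, ∀ x ∈ X, u (im X f) (f x) = av h (u X x)
  -- a map defined on a larger group is good
  have hbig : ∀ (R : Subgroup Ω) (g : Ω → Ω), Map F R g → ∀ X, X < R → F.IsConj X Q →
      ∃ h ∈ H0, ∀ x ∈ X, u (im X g) (g x) = av h (u X x) := by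
    intro R g hg X hXR hX
    set Y := im X g
    have hY : F.IsConj Y Q := isConj_trans (isConj_symm (isConj_iff.2 ⟨g, hg.restrict hXR.le, rfl⟩)) hX
    obtain ⟨hux, huxm, huxi⟩ := hu X hX
    obtain ⟨huy, huym, huyi⟩ := hu Y hY
    set R₁ := R ⊓ Subgroup.normalizer (X : Set Ω)
    have hlt : X < R₁ := lt_inf_normalizer hS hXR hg.le
    have hR₁ : R₁ ≤ normalizerIn S X := inf_le_inf_right _ hg.le
    have hgm : ∀ x ∈ R₁, g x ∈ normalizerIn S Y := fun x hx => hg.mem_normalizer hXR.le hx.1 hx.2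
    have hu₁ := hux.restrict hR₁
    obtain ⟨w, hw, hwu, huw, -⟩ := hu₁.exists_inv
    have hW : Map F (im R₁ (u X)) (u Y ∘ (g ∘ w)) :=
      (hw.comp (hg.restrict inf_le_left) fun y hy => (huw y hy).2).comp huy
        fun y hy => hgm _ (huw y hy).2
    have hQW : Q < im R₁ (u X) := by
      refine lt_of_le_of_ne (huxi.ge.trans (im_mono hlt.le)) fun he => ?_
      have h1 := card_lt_of_lt hlt (inf_le_left.trans hg.le)
      rw [← hu₁.card_im, ← he, ← isConj_card hX] at h1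
      omega
    have hval : ∀ x ∈ X, (u Y ∘ (g ∘ w)) (u X x) = u Y (g x) := fun x hx => by
      show u Y (g (w (u X x))) = _
      rw [hwu x (hlt.le hx)]
    have hiQ : im Q (u Y ∘ (g ∘ w)) = Q := by
      refine (hW.restrict hQW.le).im_eq (fun y hy => ?_) fun y hy => ?_
      · obtain ⟨x, hx, rfl⟩ := (hu₁.restrict hlt.le).mem_im.1 (huxi.ge hy)
        rw [hval x hx]
        exact huyi.le (mem_im_of_mem (mem_im_of_mem hx))
      · obtain ⟨z, hz, rfl⟩ := (huy.restrict (le_normalizerIn (isConj_le hY).1)).mem_im.1 (huyi.ge hy)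
        obtain ⟨x, hx, rfl⟩ := (hg.restrict hXR.le).mem_im.1 hz
        exact ⟨u X x, huxi.le (mem_im_of_mem hx), hval x hx⟩
    obtain ⟨h, hh, hhv⟩ := exists_aut (hW.restrict hQW.le) hiQ
    refine ⟨h, Subgroup.subset_closure ⟨_, hQW, _, hW, fun x hx => (hhv x hx).symm⟩, fun x hx => ?_⟩
    rw [hhv _ (huxi.le (mem_im_of_mem hx)), hval x hx]
  have hum : ∀ X, F.IsConj X Q → ∀ x ∈ X, u X x ∈ Q := fun X hX x hx =>
    (hu X hX).2.2.le (mem_im_of_mem hx)
  obtain ⟨E, hE⟩ := exists_sys_of_class (F := F) (K := K)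
    (fun {P f g} h he X hXP hX => by
      obtain ⟨k, hk, hkv⟩ := h X hXP hX
      refine ⟨k, hk, fun x hx => ?_⟩
      rw [← im_congr fun y hy => he y (hXP hy), ← he x (hXP hx)]
      exact hkv x hx)
    (fun {P s} hP hs X hXP hX => by
      have hlt : X < S := lt_of_le_of_ne (hXP.trans hP) fun he => by
        have h1 := card_lt_of_lt hQS le_rfl
        rw [← isConj_card hX, he] at h1
        omega
      exact hbig S _ (map_conjBy le_rfl hs) X hlt hX)
    (fun {P R f g} hf hg hKf hKg hm X hXP hX => by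
      have hfX : F.IsConj (im X f) Q := isConj_trans (isConj_symm (isConj_iff.2 ⟨f, hf.restrict hXP, rfl⟩)) hX
      obtain ⟨h, hh, hv⟩ := hKf X hXP hX
      obtain ⟨h', hh', hv'⟩ := hKg (im X f) (im_le_iff.2 fun x hx => hm x (hXP hx)) hfX
      refine ⟨h' * h, Subgroup.mul_mem _ hh' hh, fun x hx => ?_⟩
      rw [(hf.restrict hXP).im_comp, av_mul _ _ (hum X hX x hx), ← hv x hx]
      exact hv' (f x) (mem_im_of_mem hx))
    (fun {P f g} hf hKf hg X hXP hX => by
      have hgM : Map F (im P f) g := (isClosedClass_map (F := F) F).inv hf hf hg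
      have hsub : im X g ≤ P := im_le_iff.2 fun y hy => by
        obtain ⟨x, hx, rfl⟩ := hf.mem_im.1 (hXP hy)
        rw [hg x hx]; exact hx
      have hback : ∀ y ∈ X, f (g y) = y := fun y hy => by
        obtain ⟨x, hx, rfl⟩ := hf.mem_im.1 (hXP hy)
        rw [hg x hx]
      have hX₀ : F.IsConj (im X g) Q :=
        isConj_trans (isConj_symm (isConj_iff.2 ⟨g, hgM.restrict hXP, rfl⟩)) hX
      have himg : im (im X g) f = X := by
        refine (hf.restrict hsub).im_eq (fun y hy => ?_) fun y hy => ⟨g y, mem_im_of_mem hy, hback y hy⟩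
        obtain ⟨x, hx, rfl⟩ := (hgM.restrict hXP).mem_im.1 hy
        rw [hback x hx]; exact hx
      obtain ⟨h, hh, hv⟩ := hKf (im X g) hsub hX₀
      refine ⟨h⁻¹, Subgroup.inv_mem _ hh, fun x hx => ?_⟩
      have h1 := hv (g x) (mem_im_of_mem hx)
      rw [himg, hback x hx] at h1
      rw [h1, av_inv_av h (hum _ hX₀ _ (mem_im_of_mem hx))])
  refine ⟨E, fun R hR hnc α hα => ?_, fun hle => ?_⟩
  · refine mem_autGroup_of_map ((hE R _).2 ⟨map_of_mem_autGroup hR hα, fun X hXR hX => ?_⟩)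
    exact hbig R _ (map_of_mem_autGroup hR hα) X
      (lt_of_le_of_ne hXR fun he => hnc (isConj_symm (he ▸ hX))) hX
  · haveI := mulAut_finite_of_le hQn.1
    obtain ⟨hn, hstr⟩ := essential_data hS hF hQ
    haveI := hn
    refine hstr.2.1 (top_le_iff.1 fun a _ => ?_)
    obtain ⟨⟨α, hα⟩, rfl⟩ := QuotientGroup.mk'_surjective _ a
    refine ⟨⟨α, hα⟩, ?_, rfl⟩
    show α ∈ H0
    obtain ⟨φ, hφ, he⟩ := map_of_mem_autGroup hQn.1 hα
    obtain ⟨-, hK⟩ := (hE Q _).1 ⟨φ, hle Q hφ, he⟩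
    have hQQ : F.IsConj Q Q := isConj_refl hQn.1
    obtain ⟨h, hh, hv⟩ := hK Q le_rfl hQQ
    rw [im_av] at hv
    obtain ⟨huQ, -, huQi⟩ := hu Q hQQ
    obtain ⟨κ, hκ, hκv⟩ := exists_aut (huQ.restrict (le_normalizerIn hQn.1)) huQi
    have hκ0 : κ ∈ H0 := Subgroup.subset_closure
      ⟨_, lt_normalizerIn hS hQS, _, huQ, fun x hx => (hκv x hx).symm⟩
    have : α = κ⁻¹ * h * κ := by
      refine aut_ext fun x hx => ?_
      rw [av_mul _ _ hx, av_mul _ _ (av_mem κ hx), hκv x hx, ← hv x hx,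
        ← hκv _ (av_mem α hx), av_inv_av κ (av_mem α hx)]
    rw [this]
    exact Subgroup.mul_mem _ (Subgroup.mul_mem _ (Subgroup.inv_mem _ hκ0) hh) hκ0

omit [Fact p.Prime] in
/-- Omitting `S`. -/
theorem exists_omit_self (F : FusionSystem S) :
    ∃ E : FusionSystem S, (∀ R : Subgroup Ω, R < S → F.autGroup R ≤ E.autGroup R) ∧
      ∀ f : Ω → Ω, Map E S f → ∃ s ∈ S, ∀ x ∈ S, f x = s * x * s⁻¹ := by
  obtain ⟨E, hE⟩ := exists_sys_of_class (F := F)
    (K := fun P f => P = S → ∃ s ∈ S, ∀ x ∈ P, f x = s * x * s⁻¹)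
    (fun {P f g} h he hP => by
      obtain ⟨s, hs, hv⟩ := h hP
      exact ⟨s, hs, fun x hx => (he x hx).symm.trans (hv x hx)⟩)
    (fun {P s} _ hs _ => ⟨s, hs, fun x _ => rfl⟩)
    (fun {P Q f g} hf hg hKf hKg hm hP => by
      have hQ : Q = S := by
        subst hP
        haveI := finite_of_le hg.le
        exact Subgroup.eq_of_le_of_card_ge hg.le (hf.card_le hm)
      obtain ⟨s, hs, hv⟩ := hKf hP
      obtain ⟨t, ht, hv'⟩ := hKg hQ
      refine ⟨t * s, S.mul_mem ht hs, fun x hx => ?_⟩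
      show g (f x) = _
      rw [hv' _ (hm x hx), hv x hx]; group)
    (fun {P f g} hf hKf hg hP => by
      haveI := finite_of_le hf.le
      have hPS : P = S := Subgroup.eq_of_le_of_card_ge hf.le (by rw [← hf.card_im, hP])
      obtain ⟨s, hs, hv⟩ := hKf hPS
      refine ⟨s⁻¹, S.inv_mem hs, fun y hy => ?_⟩
      obtain ⟨x, hx, rfl⟩ := hf.mem_im.1 hy
      rw [hg x hx, hv x hx]; group)
  refine ⟨E, fun R hR α hα => mem_autGroup_of_map ((hE R _).2
    ⟨map_of_mem_autGroup hR.le hα, fun he => absurd he hR.ne⟩), fun f hf => ?_⟩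
  exact ((hE S f).1 hf).2 rfl

end Cfsg.Agent.Local.FS
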