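import Cfsg.Agent.Lib.Local.FS.TowerBase
import Cfsg.Agent.Lib.Solv.MaxRankThree

/-!
No elementary abelian essential subgroup of order `p³` in a saturated system on a group of maximal
class of order at least `p⁵`, for `p ≥ 5`.
-/

set_option autoImplicit false

open scoped commutatorElement

namespace Cfsg.Agent.Local.FS.Tower

open Cfsg Cfsg.FusionSystem Cfsg.Agent.Fusion

variable {Ω : Type*} [Group Ω] {S : Subgroup Ω} [Finite S] {F : FusionSystem S} {p : ℕ}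
  [hp : Fact p.Prime] {E Z₀ : Subgroup Ω} {e c l : Ω} {L M : ZMod p}

/-- The first level. -/
theorem exists_lvl_one (hb : Base F p E Z₀ e c l L M) {t : Ω → Ω} (ht : Tor F E e c l L M t)
    (hNf : ∀ h ∈ normalizerIn S E, h ∈ Nf S E t) (hbig : p ^ 5 ≤ Nat.card S)
    (hweak : ∀ α ∈ F.autGroup E, IsPEl p α →
      (∀ γ ∈ autInducedBy S E, α * γ * α⁻¹ ∈ autInducedBy S E) → α ∈ autInducedBy S E) :
    ∃ t', Lvl F p E Z₀ e c l L M 1 (normalizerIn S E) E t' ∧ c ∈ ⁅normalizerIn S E, normalizerIn S E⁆ := by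
  obtain ⟨N, hN⟩ : ∃ N, N = normalizerIn S E := ⟨_, rfl⟩
  have hNc : Nat.card N = p ^ 4 := hN ▸ hb.cardN
  rw [← hN]
  have hNS : N ≤ S := hN ▸ inf_le_left
  have hNn : N ≤ Subgroup.normalizer (E : Set Ω) := hN ▸ inf_le_right
  have hEN : E ≤ N := hN ▸ le_normalizerIn hb.leS
  have hEN' : E < N := lt_of_le_of_ne hEN fun h => by
    have := h ▸ hb.cardE
    rw [hNc] at this
    exact absurd (Nat.pow_right_injective hp.out.two_le this) (by omega)
  have hNlt : N < S := lt_of_le_of_ne hNS fun h => by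
    rw [← h, hNc, Nat.pow_le_pow_iff_right hp.out.one_lt] at hbig
    omega
  have hiE : im E t = E := ht.map.im_eq ht.mem (ht.map.surj_of_card_le hb.leS ht.mem le_rfl)
  obtain ⟨f, hf, hft⟩ := (receptive_iff.1 (receptive_of_fc hb.pgroup hb.sat (fc_of_centric hb.centric))).2 E t
    ht.map hiE
  have hfN := hf.restrict (fun h hh => hNf h (hN ▸ hh) : N ≤ Nf S E t)
  have hfm : ∀ x ∈ N, f x ∈ N := by
    intro x hx
    refine hN ▸ ⟨hfN.mem hx, mem_normalizer_of_conj_mem hb.leS fun y hy => ?_⟩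
    obtain ⟨u, hu, rfl⟩ := ht.map.mem_im.1 (hiE.ge hy)
    rw [← hft u hu, ← hfN.map_conj hx (hEN hu), hft _ (conj_mem_of_normalizer (hNn hx) hu)]
    exact ht.mem _ (conj_mem_of_normalizer (hNn hx) hu)
  have htor : Tor F N e c l L M f := ⟨hfN, hfm, by rw [hft e hb.e_mem]; exact ht.te,
    by rw [hft c (hb.leZ hb.c_mem)]; exact ht.tc, by rw [hft l (hb.leZ hb.l_mem)]; exact ht.tl⟩
  obtain ⟨C, hC⟩ : ∃ C, C = Subgroup.zpowers c := ⟨_, rfl⟩
  have hcC : c ∈ C := hC ▸ Subgroup.mem_zpowers c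
  have hCZ : C ≤ Z₀ := hC ▸ Subgroup.zpowers_le.2 hb.c_mem
  have hcN : ∀ x ∈ N, ∀ z ∈ Z₀, x * z = z * x := fun x hx => hb.centN x (hN ▸ hx)
  have hcomm : ∀ x ∈ N, ∀ a ∈ E, ⁅x, a⁆ ∈ C := fun x hx a ha => hC ▸ hb.commN x (hN ▸ hx) a ha
  have hc1 : c ≠ 1 := fun h => hp.out.ne_one (by rw [← hb.c_ord, h, orderOf_one])
  obtain ⟨χ, hχ, hχ0, hχc⟩ := exists_char hb.pgroup ((hCZ.trans hb.leZ).trans hb.leS) (bot_le : (⊥ : Subgroup Ω) ≤ C)
    (fun y _ => by
      refine mem_normalizer_of_conj_mem (S := S) bot_le fun z hz => ?_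
      rw [Subgroup.mem_bot] at hz ⊢
      rw [hz, mul_one, mul_inv_cancel])
    (by rw [Subgroup.card_bot, one_mul, hC, Nat.card_zpowers, hb.c_ord]) hcC
    (by rw [Subgroup.mem_bot]; exact hc1)
  obtain ⟨β, hβd⟩ : ∃ β : Ω → ZMod p, ∀ h, β h = χ ⁅h, e⁆ := ⟨_, fun _ => rfl⟩
  have hfix : ∀ a ∈ N, ∀ y ∈ C, a * y * a⁻¹ = y := fun a ha y hy => by
    rw [hcN a ha y (hCZ hy), mul_inv_cancel_right]
  have hβ : ∀ a ∈ N, ∀ b ∈ N, β (a * b) = β a + β b := by
    intro a ha b hb'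
    rw [hβd, hβd, hβd, commutator_conj_left, hfix a ha _ (hcomm b hb' e hb.e_mem),
      hχ _ (hcomm b hb' e hb.e_mem) _ (hcomm a ha e hb.e_mem), add_comm]
  have hβ0 : ∀ h ∈ N, β h = 0 ↔ h ∈ E := by
    intro h hh
    rw [hβd, hχ0 _ (hcomm h hh e hb.e_mem), Subgroup.mem_bot, commutatorElement_eq_one_iff_mul_comm]
    refine ⟨fun h1 => centric_inv_mem hb.centric (hNS hh) fun y hy => ?_, fun h1 => hb.comm h h1 e hb.e_mem⟩
    have hle : Subgroup.zpowers e ⊔ Z₀ ≤ Subgroup.centralizer ({h} : Set Ω) :=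
      sup_le (Subgroup.zpowers_le.2 (Subgroup.mem_centralizer_singleton_iff.2 h1.symm))
        fun z hz => Subgroup.mem_centralizer_singleton_iff.2 (hcN h hh z hz).symm
    exact Subgroup.mem_centralizer_singleton_iff.1 (hle (hb.genE hy))
  obtain ⟨g, hg, hgE⟩ := SetLike.exists_of_lt hEN'
  have hgβ : β g ≠ 0 := fun h => hgE ((hβ0 g hg).1 h)
  have hgen : ∀ h ∈ N, ∃ i : ℕ, h * (g ^ i)⁻¹ ∈ E := by
    intro h hh
    refine ⟨(β h / β g).val, (hβ0 _ (N.mul_mem hh (N.inv_mem (N.pow_mem hg _)))).1 ?_⟩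
    rw [char_sub hβ hh (N.pow_mem hg _), char_pow hβ hg, ZMod.natCast_zmod_val, div_mul_cancel₀ _ hgβ, sub_self]
  have hD : der Z₀ N = Z₀ := le_antisymm (sup_le (commutator_le_of_cyclic_step hEN hNn hb.leZ
    (fun x hx => mem_normalizer_of_conj_mem (hb.leZ.trans hb.leS) fun z hz => by
      rw [hcN x hx z hz, mul_inv_cancel_right]; exact hz)
    (fun x hx a ha => hCZ (hcomm x hx a ha)) hg hgen) le_rfl) le_sup_right
  have hgen1 : ⁅g, e⁆ ≠ 1 := fun h => hgβ (by rw [hβd, h, char_one hχ])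
  have hcc : c ∈ ⁅N, N⁆ := by
    have hge := hcomm g hg e hb.e_mem
    refine (show C ≤ ⁅N, N⁆ from ?_) hcC
    have hlt : (⊥ : Subgroup Ω) < Subgroup.zpowers ⁅g, e⁆ :=
      bot_lt_iff_ne_bot.2 fun h => hgen1 (Subgroup.zpowers_eq_bot.1 h)
    have hCS : C ≤ S := (hCZ.trans hb.leZ).trans hb.leS
    have h1 := step_le hb.pgroup ((Subgroup.zpowers_le.2 hge).trans hCS) hlt
    rw [Subgroup.card_bot, one_mul] at h1
    have heq : Subgroup.zpowers ⁅g, e⁆ = C :=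
      eq_of_card hCS (Subgroup.zpowers_le.2 hge) (by rw [hC, Nat.card_zpowers, hb.c_ord]; exact h1)
    exact heq ▸ Subgroup.zpowers_le.2 (Subgroup.commutator_mem_commutator hg (hEN hb.e_mem))
  have hgood : Good F p N := good_up hb hEN' hN le_rfl hN.ge hNlt hcN
    (by rw [hNc, hb.cardE, ← pow_succ]) (by rw [hNc, hD, hb.cardZ, ← pow_add]) (hD.le.trans hb.leZ)
    (fun h => hb.e_not (hD.le h)) hweak hcc
  refine ⟨f, ⟨hEN', hN, hNc, hb.cardE, le_rfl, hcN, by rw [hD, hb.cardZ], hD.le.trans hb.leZ, fun h => hb.e_not (hD.le h),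
    hgood, htor, fun h hh => ?_, fun h hh hhE => ?_⟩, hcc⟩
  · refine (hβ0 _ (N.mul_mem (hfm h hh) (N.inv_mem (N.pow_mem hh _)))).1 ?_
    rw [char_sub hβ (hfm h hh) (N.pow_mem hh _), char_pow hβ hh, ZMod.natCast_zmod_val, sub_eq_zero]
    have he := hEN hb.e_mem
    have hye := hcomm h hh e hb.e_mem
    obtain ⟨y, hy⟩ : ∃ y, y = ⁅h, e⁆ := ⟨_, rfl⟩
    have h1 : f y = ⁅f h, e ^ L.val⁆ := by
      rw [hy, commutatorElement_def, commutatorElement_def,
        hfN.map_mul (N.mul_mem (N.mul_mem hh he) (N.inv_mem hh)) (N.inv_mem he),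
        hfN.map_mul (N.mul_mem hh he) (N.inv_mem hh), hfN.map_mul hh he,
        hfN.map_inv hh, hfN.map_inv he, htor.te]
    have h2 : χ (f y) = M * χ y := by
      have hyC : y ∈ C := hy ▸ hye
      have hcS : c ^ p = 1 := by rw [← hb.c_ord]; exact pow_orderOf_eq_one c
      obtain ⟨i, hi⟩ := Subgroup.mem_zpowers_iff.1 (hC ▸ hyC)
      obtain ⟨m, hm⟩ : ∃ m : ℕ, y = c ^ m := by
        refine ⟨(i % (p : ℤ)).toNat, ?_⟩
        rw [← hi, ← zpow_natCast, Int.toNat_of_nonneg (Int.emod_nonneg _ (by exact_mod_cast hp.out.ne_zero))]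
        conv_lhs => rw [← Int.emod_add_mul_ediv i p, zpow_add, zpow_mul, zpow_natCast, hcS, one_zpow, mul_one]
      rw [hm, map_pow hfN ((hCZ.trans (hb.leZ.trans hEN)) hcC), htor.tc, char_pow hχ (C.pow_mem hcC _),
        char_pow hχ hcC, char_pow hχ hcC, hχc, ZMod.natCast_zmod_val]
      ring
    have h3 : ∀ m : ℕ, χ ⁅f h, e ^ m⁆ = m * β (f h) := by
      intro m
      induction m with
      | zero => rw [pow_zero, commutatorElement_one_right, char_one hχ, Nat.cast_zero, zero_mul]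
      | succ m ih =>
        rw [pow_succ, commutator_conj_right, hfix _ (hEN (E.pow_mem hb.e_mem m)) _ (hcomm _ (hfm h hh) e hb.e_mem),
          hχ _ (hcomm _ (hfm h hh) _ (E.pow_mem hb.e_mem m)) _ (hcomm _ (hfm h hh) e hb.e_mem), ih, ← hβd,
          Nat.cast_succ, add_mul, one_mul]
    rw [h1, h3, ZMod.natCast_zmod_val, hy, ← hβd] at h2
    calc β (f h) = (L * M) * β (f h) := by rw [hb.LM, one_mul]
      _ = M * (L * β (f h)) := by ring
      _ = _ := by rw [h2, show M ^ (1 + 1) = M * M by ring]; ring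
  · simp only [Function.iterate_one]
    refine ⟨hC ▸ hcomm h hh e hb.e_mem, fun h1 => hhE ((hβ0 h hh).1 ?_)⟩
    rw [hβd, h1, char_one hχ]

omit hp in
theorem iterate_coe (e : S) : ∀ (k : ℕ) (a : S),
    (((fun x : S => ⁅x, e⁆)^[k] a : S) : Ω) = (fun x : Ω => ⁅x, (e : Ω)⁆)^[k] (a : Ω) := by
  intro k
  induction k with
  | zero => intro a; rfl
  | succ k ih => intro a; rw [Function.iterate_succ_apply, Function.iterate_succ_apply, ih]; rfl

omit hp in
theorem normalizerIn_subgroupOf {A : Subgroup Ω} (hA : A ≤ S) :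
    (normalizerIn S A).subgroupOf S = Subgroup.normalizer ((A.subgroupOf S : Subgroup S) : Set S) := by
  ext x
  rw [Subgroup.mem_subgroupOf, mem_normalizerIn, Subgroup.mem_normalizer_iff]
  constructor
  · rintro ⟨-, h⟩ y
    show (y : Ω) ∈ A ↔ (x : Ω) * y * (x : Ω)⁻¹ ∈ A
    exact Subgroup.mem_normalizer_iff.1 h y
  · intro h
    refine ⟨x.2, mem_normalizer_of_conj_mem hA fun y hy => ?_⟩
    exact Subgroup.mem_subgroupOf.1 ((h ⟨y, hA hy⟩).1 (Subgroup.mem_subgroupOf.2 hy))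

/-- Elementary abelian essential subgroups of order `p³` do not occur. -/
theorem no_cube_essential (hS : IsPGroup p S) (hF : F.IsSaturated p) (hp5 : 5 ≤ p) {n : ℕ}
    (hn : Nat.card S = p ^ n) (h5 : 5 ≤ n) (hmax : Subgroup.lowerCentralSeries S (n - 2) ≠ ⊥)
    {E : Subgroup Ω} (hE : F.IsEssential p E) (hEel : IsElementaryAbelian p E)
    (hcard : Nat.card E = p ^ 3) : False := by
  classical
  have hmx : Solv.MaxC.IsMax S p n := ⟨hn, by omega, fun h => hmax (by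
    rw [← Subgroup.top_subtype_lowerCentralSeries, h, Subgroup.map_bot])⟩
  have hcenc : Nat.card (Subgroup.center S) = p := by
    rw [hmx.center_eq (by omega)]; exact hmx.F_last_card (by omega)
  have hbig : p ^ 5 ≤ Nat.card S := by rw [hn]; exact Nat.pow_le_pow_right hp.out.pos h5
  obtain ⟨Z₀, e, c, l, L, M, t, hb, ht, hNf, hweak⟩ := exists_base hS hF hE hEel hcard hbig
  obtain ⟨t₁, hl₁, hcc⟩ := exists_lvl_one hb ht hNf hbig hweak
  have hZS : Z₀ ≤ S := hb.leZ.trans hb.leS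
  have hne : ∀ P : Subgroup Ω, (∀ x ∈ P, ∀ z ∈ Z₀, x * z = z * x) → P ≠ S := by
    intro P hc h
    have hle : Z₀.subgroupOf S ≤ Subgroup.center S := fun z hz => Subgroup.mem_center_iff.2 fun s =>
      Subtype.ext (hc s (h.ge s.2) z (Subgroup.mem_subgroupOf.1 hz))
    have := Subgroup.card_le_of_le hle
    rw [Nat.card_congr (Subgroup.subgroupOfEquivOfLe hZS).toEquiv, hb.cardZ, hcenc, sq] at this
    nlinarith [hp.out.two_le]
  -- the order of `S` is small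
  have hNS : normalizerIn S E ≤ S := inf_le_left
  have hnp : n ≤ p + 1 := by
    obtain ⟨t₂, hu₂⟩ := hl₁.up hb le_rfl (lt_of_le_of_ne hNS (hne _ hl₁.cent))
    refine hmx.tower_bound h5 (E := E.subgroupOf S) ?_ ?_ ?_ ?_ ?_ hp5
    · intro x hx
      refine Subgroup.mem_subgroupOf.2 (centric_inv_mem hb.centric x.2 fun y hy => ?_)
      exact congrArg Subtype.val (Subgroup.mem_centralizer_iff.1 hx ⟨y, hb.leS hy⟩ (Subgroup.mem_subgroupOf.2 hy))
    · exact fun a ha b hb' => Subtype.ext (hb.comm a (Subgroup.mem_subgroupOf.1 ha) b (Subgroup.mem_subgroupOf.1 hb'))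
    · rw [Nat.card_congr (Subgroup.subgroupOfEquivOfLe hb.leS).toEquiv, hcard]
    · rw [← normalizerIn_subgroupOf hb.leS, Nat.card_congr (Subgroup.subgroupOfEquivOfLe hNS).toEquiv, hb.cardN]
    · rw [← normalizerIn_subgroupOf hb.leS, ← normalizerIn_subgroupOf hNS,
        Nat.card_congr (Subgroup.subgroupOfEquivOfLe
          (show normalizerIn S (normalizerIn S E) ≤ S from inf_le_left)).toEquiv,
        hu₂.cardP']
  suffices ∀ d, ∀ (k : ℕ) (P Q : Subgroup Ω) (t : Ω → Ω), Nat.card S - Nat.card P = d → 1 ≤ k →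
      normalizerIn S E ≤ P → P ≤ S → Lvl F p E Z₀ e c l L M k P Q t → False from
    this _ 1 _ _ t₁ rfl le_rfl le_rfl hNS hl₁
  intro d
  induction d using Nat.strong_induction_on with
  | _ d ih =>
  intro k P Q t hd hk hNP hPS hl
  have hPlt : P < S := lt_of_le_of_ne hPS (hne P hl.cent)
  obtain ⟨t', hu⟩ := hl.up hb hNP hPlt
  obtain ⟨P', hP'⟩ : ∃ P', P' = normalizerIn S P := ⟨_, rfl⟩
  rw [← hP'] at hu
  have hP'S : P' ≤ S := hP' ▸ inf_le_left
  haveI := finite_of_le hP'S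
  have hNP' := hNP.trans hu.lt.le
  by_cases hcent : ∀ x ∈ P', ∀ z ∈ Z₀, x * z = z * x
  · have hgood : Good F p P' := good_up hb hu.lt hP' (hl.leQ.trans hl.lt.le) hNP'
      (lt_of_le_of_ne hP'S (hne P' hcent)) hcent
      (by rw [hu.cardP', hl.cardP, ← pow_succ]) (by rw [hu.cardP', hu.cardD, ← pow_add])
      hu.D_le hu.e_not (fun α hα hαp _ => hl.good α hα hαp)
      (Subgroup.commutator_mono hNP' hNP' hcc)
    refine ih (Nat.card S - Nat.card P') ?_ (k + 1) P' P t' rfl (by omega) hNP' hP'S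
      ⟨hu.lt, hP', hu.cardP', hl.cardP, hl.leQ.trans hl.lt.le, hcent, hu.cardD, hu.D_le, hu.e_not, hgood, hu.tor,
        hu.weight, hu.chain⟩
    have h1 := card_lt_of_lt hu.lt hP'S
    have h2 : Nat.card P' ≤ Nat.card S := Subgroup.card_le_of_le hP'S
    omega
  push Not at hcent
  obtain ⟨g, hg, z₁, hz₁, hgz⟩ := hcent
  have hgP : g ∉ P := fun h => hgz (hl.cent g h z₁ hz₁)
  have hkn : k + 4 ≤ n := by
    have := Subgroup.card_le_of_le hP'S
    rwa [hu.cardP', hn, Nat.pow_le_pow_iff_right hp.out.one_lt] at this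
  have hP'n : P' ≤ Subgroup.normalizer (P : Set Ω) := hP' ▸ inf_le_right
  have hnZ : ∀ h ∈ P', h ∈ Subgroup.normalizer (Z₀ : Set Ω) := fun h hh =>
    mem_normalizer_of_conj_mem hZS fun z hz => hb.map_Z hNP hl.cent (map_conjBy hPS (hP'S hh))
      (fun y hy => conj_mem_of_normalizer (hP'n hh) hy) z hz
  have hZab : ∀ a ∈ Z₀, ∀ b ∈ Z₀, a * b = b * a := fun a ha b hb' => hb.comm a (hb.leZ ha) b (hb.leZ hb')
  have hcp : c ^ p = 1 := hb.exp c (hb.leZ hb.c_mem)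
  have hlp : l ^ p = 1 := hb.exp l (hb.leZ hb.l_mem)
  have hl1 : l ≠ 1 := fun h => hb.l_not (h ▸ Subgroup.one_mem _)
  have hlo : orderOf l = p := orderOf_eq_prime hlp hl1
  have hc1 : c ≠ 1 := fun h => hp.out.ne_one (by rw [← hb.c_ord, h, orderOf_one])
  have hsub : ∀ x ∈ Z₀, ∀ (H : Subgroup Ω), H ≤ Z₀ → x ∈ Subgroup.normalizer (H : Set Ω) := fun x hx H hH =>
    mem_normalizer_of_conj_mem (hH.trans hZS) fun y hy => by
      rw [hZab x hx y (hH hy), mul_inv_cancel_right]; exact hy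
  have hcZ : Subgroup.zpowers c ≤ Z₀ := Subgroup.zpowers_le.2 hb.c_mem
  have hlZ : Subgroup.zpowers l ≤ Z₀ := Subgroup.zpowers_le.2 hb.l_mem
  have hcnl : c ∉ Subgroup.zpowers l := by
    intro h
    refine hb.l_not ?_
    have heq : Subgroup.zpowers c = Subgroup.zpowers l :=
      eq_of_card (hlZ.trans hZS) (Subgroup.zpowers_le.2 h) (by rw [Nat.card_zpowers, Nat.card_zpowers, hlo, hb.c_ord])
    exact heq ▸ Subgroup.mem_zpowers l
  obtain ⟨χc, hχc, hχc0, hχcc⟩ := exists_char hS hZS hlZ (fun x hx => hsub x hx _ hlZ)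
    (by rw [hb.cardZ, Nat.card_zpowers, hlo, sq]) hb.c_mem hcnl
  obtain ⟨χl, hχl, hχl0, hχll⟩ := exists_char hS hZS hcZ (fun x hx => hsub x hx _ hcZ)
    (by rw [hb.cardZ, Nat.card_zpowers, hb.c_ord, sq]) hb.l_mem hb.l_not
  have hχcl : χc l = 0 := (hχc0 l hb.l_mem).2 (Subgroup.mem_zpowers l)
  have hχlc : χl c = 0 := (hχl0 c hb.c_mem).2 (Subgroup.mem_zpowers c)
  have hboth : ∀ x ∈ Z₀, χc x = 0 → χl x = 0 → x = 1 := by
    intro x hx h1 h2
    by_contra hx1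
    have hm1 := (hχc0 x hx).1 h1
    have hm2 := (hχl0 x hx).1 h2
    have hxo : orderOf x = p := orderOf_eq_prime (hb.exp x (hb.leZ hx)) hx1
    have heq : Subgroup.zpowers x = Subgroup.zpowers c :=
      eq_of_card (hcZ.trans hZS) (Subgroup.zpowers_le.2 hm2) (by rw [Nat.card_zpowers, Nat.card_zpowers, hxo, hb.c_ord])
    exact hcnl ((heq ▸ Subgroup.zpowers_le.2 hm1 : Subgroup.zpowers c ≤ _) (Subgroup.mem_zpowers c))
  have hdec : ∀ x ∈ Z₀, x = c ^ (χc x).val * l ^ (χl x).val := by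
    intro x hx
    have hm : c ^ (χc x).val * l ^ (χl x).val ∈ Z₀ := Z₀.mul_mem (Z₀.pow_mem hb.c_mem _) (Z₀.pow_mem hb.l_mem _)
    refine mul_inv_eq_one.1 (hboth _ (Z₀.mul_mem hx (Z₀.inv_mem hm)) ?_ ?_)
    · rw [char_sub hχc hx hm, hχc _ (Z₀.pow_mem hb.c_mem _) _ (Z₀.pow_mem hb.l_mem _), char_pow hχc hb.c_mem,
        char_pow hχc hb.l_mem, hχcc, hχcl, ZMod.natCast_zmod_val, mul_one, mul_zero, add_zero, sub_self]
    · rw [char_sub hχl hx hm, hχl _ (Z₀.pow_mem hb.c_mem _) _ (Z₀.pow_mem hb.l_mem _), char_pow hχl hb.c_mem,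
        char_pow hχl hb.l_mem, hχlc, hχll, ZMod.natCast_zmod_val (χl x), mul_one, mul_zero, zero_add, sub_self]
  have hcP : c ∈ P' := hNP' (le_normalizerIn hb.leS (hb.leZ hb.c_mem))
  have hlP : l ∈ P' := hNP' (le_normalizerIn hb.leS (hb.leZ hb.l_mem))
  have hft : ∀ x ∈ Z₀, t' x ∈ Z₀ ∧ χc (t' x) = M * χc x ∧ χl (t' x) = χl x := by
    intro x hx
    have hcm : c ^ M.val ∈ Z₀ := Z₀.pow_mem hb.c_mem _
    have he1 : t' x = (c ^ M.val) ^ (χc x).val * l ^ (χl x).val := by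
      conv_lhs => rw [hdec x hx]
      rw [hu.tor.map.map_mul (P'.pow_mem hcP _) (P'.pow_mem hlP _), map_pow hu.tor.map hcP,
        map_pow hu.tor.map hlP, hu.tor.tc, hu.tor.tl]
    have hm1 := Z₀.pow_mem hcm (χc x).val
    have hm2 := Z₀.pow_mem hb.l_mem (χl x).val
    refine ⟨he1 ▸ Z₀.mul_mem hm1 hm2, ?_, ?_⟩
    · rw [he1, hχc _ hm1 _ hm2, char_pow hχc hcm, char_pow hχc hb.c_mem, char_pow hχc hb.l_mem, hχcc, hχcl,
        ZMod.natCast_zmod_val, ZMod.natCast_zmod_val]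
      ring
    · rw [he1, hχl _ hm1 _ hm2, char_pow hχl hcm, char_pow hχl hb.c_mem, char_pow hχl hb.l_mem, hχlc, hχll,
        ZMod.natCast_zmod_val (χl x)]
      ring
  -- the pairing of `P'` with a fixed line
  have hexpo : ∀ (v : Ω) (χ : Ω → ZMod p) (B : Subgroup Ω) (μ ν : ZMod p), v ∈ Z₀ → B ≤ Z₀ →
      (∀ a ∈ Z₀, ∀ b ∈ Z₀, χ (a * b) = χ a + χ b) → (∀ x ∈ B, χ x = 0 → x = 1) →
      (∀ h ∈ P', ⁅h, v⁆ ∈ B) → (∀ h ∈ P', ∀ y ∈ B, h * y * h⁻¹ = y) → ⁅g, v⁆ ≠ 1 →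
      (∀ x ∈ B, χ (t' x) = μ * χ x) → t' v = v ^ ν.val → μ = ν * M ^ (k + 2) := by
    intro v χ B μ ν hv hB hχ hχB hmem hfixB hgv hμ hν
    obtain ⟨β, hβd⟩ : ∃ β : Ω → ZMod p, ∀ h, β h = χ ⁅h, v⁆ := ⟨_, fun _ => rfl⟩
    have hβ : ∀ a ∈ P', ∀ b ∈ P', β (a * b) = β a + β b := by
      intro a ha b hb'
      rw [hβd, hβd, hβd, commutator_conj_left, hfixB a ha _ (hmem b hb'), hχ _ (hB (hmem b hb')) _ (hB (hmem a ha)),
        add_comm]
    have hvP : v ∈ P' := hNP' (le_normalizerIn hb.leS (hb.leZ hv))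
    have hβP : ∀ h ∈ P, β h = 0 := fun h hh => by
      rw [hβd, commutatorElement_eq_one_iff_mul_comm.2 (hl.cent h hh v hv)]
      exact char_one hχ
    have hpow : ∀ h ∈ P', ∀ m : ℕ, χ ⁅h, v ^ m⁆ = m * β h := by
      intro h hh m
      induction m with
      | zero => rw [pow_zero, commutatorElement_one_right, char_one hχ, Nat.cast_zero, zero_mul]
      | succ m ih =>
        have hy := hmem h hh
        have hvm : ⁅h, v ^ m⁆ ∈ Z₀ := by
          rw [commutatorElement_def]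
          exact Z₀.mul_mem (conj_mem_of_normalizer (hnZ h hh) (Z₀.pow_mem hv m)) (Z₀.inv_mem (Z₀.pow_mem hv m))
        rw [pow_succ, commutator_conj_right, hfixB _ (P'.pow_mem hvP m) _ hy, hχ _ hvm _ (hB hy), ih, ← hβd,
          Nat.cast_succ, add_mul, one_mul]
    have hw := hu.weight g hg
    have hgm := hu.tor.mem g hg
    have h1 : β (t' g) = M ^ (k + 2) * β g := by
      have := hβP _ hw
      rw [char_sub hβ hgm (P'.pow_mem hg _), char_pow hβ hg, ZMod.natCast_zmod_val, sub_eq_zero] at this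
      exact this
    have h2 : t' ⁅g, v⁆ = ⁅t' g, v ^ ν.val⁆ := by
      rw [commutatorElement_def, commutatorElement_def,
        hu.tor.map.map_mul (P'.mul_mem (P'.mul_mem hg hvP) (P'.inv_mem hg)) (P'.inv_mem hvP),
        hu.tor.map.map_mul (P'.mul_mem hg hvP) (P'.inv_mem hg), hu.tor.map.map_mul hg hvP,
        hu.tor.map.map_inv hg, hu.tor.map.map_inv hvP, hν]
    have h3 := hμ _ (hmem g hg)
    rw [h2, hpow _ hgm, h1, ← hβd, ZMod.natCast_zmod_val] at h3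
    have hβg : β g ≠ 0 := fun h => hgv (hχB _ (hmem g hg) (by rw [← hβd]; exact h))
    rw [← mul_assoc] at h3
    exact (mul_right_cancel₀ hβg h3).symm
  have hgcl : ¬ (c * g = g * c ∧ l * g = g * l) := by
    rintro ⟨h1, h2⟩
    have hle : Subgroup.zpowers c ⊔ Subgroup.zpowers l ≤ Subgroup.centralizer ({g} : Set Ω) := sup_le
      (Subgroup.zpowers_le.2 (Subgroup.mem_centralizer_singleton_iff.2 h1))
      (Subgroup.zpowers_le.2 (Subgroup.mem_centralizer_singleton_iff.2 h2))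
    exact hgz (Subgroup.mem_centralizer_singleton_iff.1 (hle (hb.genZ hz₁))).symm
  have hM0 : M ≠ 0 := fun h => one_ne_zero (α := ZMod p) (by rw [← hb.LM, h, mul_zero])
  by_cases hcc' : ∀ s ∈ S, s * c = c * s
  · -- `c` is central
    have hfixB : ∀ h ∈ P', ∀ y ∈ Subgroup.zpowers c, h * y * h⁻¹ = y := fun h hh y hy => by
      obtain ⟨i, rfl⟩ := Subgroup.mem_zpowers_iff.1 hy
      rw [(show Commute h c from hcc' h (hP'S hh)).zpow_right i |>.eq, mul_inv_cancel_right]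
    have hgl : ⁅g, l⁆ ≠ 1 := fun h =>
      hgcl ⟨(hcc' g (hP'S hg)).symm, (commutatorElement_eq_one_iff_mul_comm.1 h).symm⟩
    have h1 := hexpo l χc (Subgroup.zpowers c) M 1 hb.l_mem hcZ hχc
      (fun x hx h0 => hboth x (hcZ hx) h0 ((hχl0 x (hcZ hx)).2 hx))
      (fun h hh => conj_fix hS hZS hcZ (fun x hx => hsub x hx _ hcZ) (by rw [hb.cardZ, Nat.card_zpowers, hb.c_ord, sq])
        (hP'S hh) (hnZ h hh) (mem_normalizer_of_conj_mem (hcZ.trans hZS) fun y hy => by rw [hfixB h hh y hy]; exact hy)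
        l hb.l_mem)
      hfixB hgl (fun x hx => (hft x (hcZ hx)).2.1) (by rw [ZMod.val_one, pow_one]; exact hu.tor.tl)
    rw [one_mul, pow_succ'] at h1
    have h2 : M ^ (k + 1) = 1 := mul_left_cancel₀ hM0 (by rw [mul_one]; exact h1.symm)
    have h3 := Nat.le_of_dvd (by omega) (hb.ord _ h2)
    omega
  -- `c` is not central
  have hchain := hu.chain g hg hgP
  rw [Function.iterate_succ_apply] at hchain
  have hsc : ∀ {a : S} {x : Ω} (hx : x ∈ S), a ∈ Subgroup.zpowers (⟨x, hx⟩ : S) ↔ (a : Ω) ∈ Subgroup.zpowers x := by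
    intro a x hx
    rw [Subgroup.mem_zpowers_iff, Subgroup.mem_zpowers_iff]
    exact exists_congr fun i => ⟨fun h => by rw [← h]; rfl, fun h => Subtype.ext (by rw [← h]; rfl)⟩
  have hEN : E ≤ normalizerIn S E := le_normalizerIn hb.leS
  obtain ⟨gS, hgS⟩ : ∃ gS : S, (gS : Ω) = g := ⟨⟨g, hP'S hg⟩, rfl⟩
  have heS : e ∈ S := hb.leS hb.e_mem
  have hcS : c ∈ S := hZS hb.c_mem
  have hit := iterate_coe (⟨e, heS⟩ : S) k ⁅gS, ⟨e, heS⟩⁆
  have hge : ((⁅gS, (⟨e, heS⟩ : S)⁆ : S) : Ω) = ⁅g, e⁆ := by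
    simp [commutatorElement_def, hgS]
  rw [hge] at hit
  have hexc : Solv.MaxC.Exc S p k (E.subgroupOf S) (Z₀.subgroupOf S) ((normalizerIn S E).subgroupOf S)
      (P'.subgroupOf S) (⟨c, hcS⟩ : S) (⟨e, heS⟩ : S) gS := by
    refine ⟨?_, fun a ha b hb' => Subtype.ext (hb.comm a (Subgroup.mem_subgroupOf.1 ha) b (Subgroup.mem_subgroupOf.1 hb')),
      ?_, fun x hx => Subgroup.mem_subgroupOf.2 (hEN (Subgroup.mem_subgroupOf.1 hx)), normalizerIn_subgroupOf hb.leS,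
      ?_, ?_, ?_, fun x hx => Subgroup.mem_subgroupOf.2 (hb.leZ (Subgroup.mem_subgroupOf.1 hx)), ?_, ?_, ?_,
      Subgroup.mem_subgroupOf.2 hb.e_mem, ?_,
      ⟨⟨z₁, hZS hz₁⟩, Subgroup.mem_subgroupOf.2 hz₁, fun h => hgz (by rw [← hgS]; exact congrArg Subtype.val h)⟩,
      ?_, ⟨Subgroup.mem_subgroupOf.2 (hgS.symm ▸ hg), Subgroup.mem_subgroupOf.2 (hNP' (hEN hb.e_mem))⟩, hk, ?_⟩
    · intro x hx
      refine Subgroup.mem_subgroupOf.2 (centric_inv_mem hb.centric x.2 fun y hy => ?_)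
      exact congrArg Subtype.val (Subgroup.mem_centralizer_iff.1 hx ⟨y, hb.leS hy⟩ (Subgroup.mem_subgroupOf.2 hy))
    · rw [Nat.card_congr (Subgroup.subgroupOfEquivOfLe hb.leS).toEquiv, hcard]
    · rw [Nat.card_congr (Subgroup.subgroupOfEquivOfLe hNS).toEquiv, hb.cardN]
    · intro x hx a ha
      rw [hsc]
      exact hb.commN x (Subgroup.mem_subgroupOf.1 hx) a (Subgroup.mem_subgroupOf.1 ha)
    · rw [Subgroup.orderOf_mk]; exact hb.c_ord
    · rw [Nat.card_congr (Subgroup.subgroupOfEquivOfLe hZS).toEquiv, hb.cardZ]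
    · exact fun x hx z hz => Subtype.ext (hb.centN x (Subgroup.mem_subgroupOf.1 hx) z (Subgroup.mem_subgroupOf.1 hz))
    · exact fun a ha h => Subgroup.mem_subgroupOf.2 (hb.fixN a (Subgroup.mem_subgroupOf.1 ha) fun x hx =>
        congrArg Subtype.val (h ⟨x, hx.1⟩ (Subgroup.mem_subgroupOf.2 hx)))
    · refine (Subgroup.map_le_map_iff_of_injective S.subtype_injective).1 ?_
      rw [Subgroup.map_sup, Subgroup.map_subgroupOf_eq_of_le hb.leS, Subgroup.map_subgroupOf_eq_of_le hZS,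
        MonoidHom.map_zpowers]
      exact hb.genE
    · rw [Nat.card_congr (Subgroup.subgroupOfEquivOfLe hP'S).toEquiv, hu.cardP']
    · rw [hsc, hit]
      exact ⟨hchain.1, fun h => hchain.2 (by rw [← hit, h]; rfl)⟩
  obtain ⟨hnk, hev⟩ := hmx.exc h5 hexc fun h => hcc' fun s hs =>
    congrArg Subtype.val (Subgroup.mem_center_iff.1 h ⟨s, hs⟩)
  have hPS' : P' = S := eq_of_card le_rfl hP'S (by rw [hu.cardP', hn, hnk])
  -- a central element of order `p`
  obtain ⟨zS, hzS, hzS1⟩ : ∃ z ∈ Subgroup.center S, z ≠ 1 := by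
    by_contra hh
    push Not at hh
    rw [(Subgroup.eq_bot_iff_forall _).2 hh, Subgroup.card_bot] at hcenc
    exact hp.out.ne_one hcenc.symm
  obtain ⟨z, hz⟩ : ∃ z, z = (zS : Ω) := ⟨_, rfl⟩
  have hzc : ∀ s ∈ S, s * z = z * s := fun s hs => by
    rw [hz]; exact congrArg Subtype.val (Subgroup.mem_center_iff.1 hzS ⟨s, hs⟩)
  have hcenZ : ∀ w ∈ S, (∀ s ∈ S, s * w = w * s) → ∃ i : ℤ, w = z ^ i := by
    intro w hw hwc
    have h1 : (⟨w, hw⟩ : S) ∈ Subgroup.center S := Subgroup.mem_center_iff.2 fun s => Subtype.ext (hwc s s.2)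
    have heq : Subgroup.zpowers zS = Subgroup.center S := by
      refine Subgroup.eq_of_le_of_card_ge (Subgroup.zpowers_le.2 hzS) ?_
      rw [hcenc, Nat.card_zpowers]
      refine Nat.le_of_dvd (orderOf_pos zS) ?_
      obtain ⟨j, hj⟩ := IsPGroup.iff_orderOf.1 hS zS
      rw [hj]
      exact dvd_pow_self p fun h => hzS1 (orderOf_eq_one_iff.1 (by rw [hj, h, pow_zero]))
    obtain ⟨i, hi⟩ := Subgroup.mem_zpowers_iff.1 (heq.ge h1)
    exact ⟨i, by rw [hz, ← SubgroupClass.coe_zpow, hi]⟩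
  have hzE : z ∈ E := centric_inv_mem hb.centric (hz ▸ zS.2) fun y hy => hzc y (hb.leS hy)
  have hzZ : z ∈ Z₀ := hb.fixN z hzE fun x hx => hzc x hx.1
  have hz1 : z ≠ 1 := fun h => hzS1 (Subtype.ext (hz ▸ h))
  have hzl : χl z ≠ 0 := by
    intro h
    have h1 := (hχl0 z hzZ).1 h
    have heq : Subgroup.zpowers z = Subgroup.zpowers c := eq_of_card (hcZ.trans hZS) (Subgroup.zpowers_le.2 h1)
      (by rw [Nat.card_zpowers, Nat.card_zpowers, hb.c_ord, orderOf_eq_prime (hb.exp z (hb.leZ hzZ)) hz1])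
    obtain ⟨i, hi⟩ := Subgroup.mem_zpowers_iff.1 (heq.ge (Subgroup.mem_zpowers c))
    exact hcc' fun s hs => by rw [← hi]; exact ((show Commute s z from hzc s hs).zpow_right i).eq
  obtain ⟨hzt, hztc, hztl⟩ := hft z hzZ
  obtain ⟨i, hi⟩ := hcenZ (t' z) (hZS hzt) (fun s hs => by
    obtain ⟨s', hs', rfl⟩ := hu.tor.map.surj_of_card_le hP'S hu.tor.mem le_rfl s (hPS'.ge hs)
    have hzP : z ∈ P' := hPS'.ge (hZS hzZ)
    rw [← hu.tor.map.map_mul hs' hzP, ← hu.tor.map.map_mul hzP hs', hzc s' (hP'S hs')])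
  have hzo : orderOf z = p := orderOf_eq_prime (hb.exp z (hb.leZ hzZ)) hz1
  obtain ⟨m, hm⟩ : ∃ m : ℕ, t' z = z ^ m := by
    refine ⟨(i % (p : ℤ)).toNat, ?_⟩
    rw [hi, ← zpow_natCast, Int.toNat_of_nonneg (Int.emod_nonneg _ (by exact_mod_cast hp.out.ne_zero)), ← hzo,
      zpow_mod_orderOf]
  rw [hm, char_pow hχl hzZ] at hztl
  rw [hm, char_pow hχc hzZ] at hztc
  have hm1 : (m : ZMod p) = 1 := mul_right_cancel₀ hzl (by rw [one_mul]; exact hztl)
  rw [hm1, one_mul] at hztc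
  have hzc0 : χc z = 0 := by
    by_contra hne0
    have hM1 : M ^ 1 = 1 := by rw [pow_one]; exact (mul_right_cancel₀ hne0 ((one_mul _).trans hztc)).symm
    have := Nat.le_of_dvd one_pos (hb.ord _ hM1)
    omega
  have hll : ∀ s ∈ S, s * l = l * s := by
    have heq : Subgroup.zpowers z = Subgroup.zpowers l := eq_of_card (hlZ.trans hZS)
      (Subgroup.zpowers_le.2 ((hχc0 z hzZ).1 hzc0)) (by rw [Nat.card_zpowers, Nat.card_zpowers, hlo, hzo])
    obtain ⟨j, hj⟩ := Subgroup.mem_zpowers_iff.1 (heq.ge (Subgroup.mem_zpowers l))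
    intro s hs
    rw [← hj]; exact ((show Commute s z from hzc s hs).zpow_right j).eq
  have hfixB : ∀ h ∈ P', ∀ y ∈ Subgroup.zpowers l, h * y * h⁻¹ = y := fun h hh y hy => by
    obtain ⟨j, rfl⟩ := Subgroup.mem_zpowers_iff.1 hy
    rw [(show Commute h l from hll h (hP'S hh)).zpow_right j |>.eq, mul_inv_cancel_right]
  have hgc : ⁅g, c⁆ ≠ 1 := fun h =>
    hgcl ⟨(commutatorElement_eq_one_iff_mul_comm.1 h).symm, (hll g (hP'S hg)).symm⟩
  have h1 := hexpo c χl (Subgroup.zpowers l) 1 M hb.c_mem hlZ hχl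
    (fun x hx h0 => hboth x (hlZ hx) ((hχc0 x (hlZ hx)).2 hx) h0)
    (fun h hh => conj_fix hS hZS hlZ (fun x hx => hsub x hx _ hlZ) (by rw [hb.cardZ, Nat.card_zpowers, hlo, sq])
      (hP'S hh) (hnZ h hh) (mem_normalizer_of_conj_mem (hlZ.trans hZS) fun y hy => by rw [hfixB h hh y hy]; exact hy)
      c hb.c_mem)
    hfixB hgc (fun x hx => by rw [one_mul]; exact (hft x (hlZ hx)).2.2) hu.tor.tc
  have h2 := hb.ord (k + 3) (by rw [show k + 3 = k + 2 + 1 by omega, pow_succ']; exact h1.symm)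
  obtain ⟨a, ha⟩ := hp.out.odd_of_ne_two (by omega)
  obtain ⟨b, hb2⟩ := hev
  obtain ⟨q, hq⟩ := h2
  rw [show p - 1 = 2 * a by omega, mul_assoc] at hq
  omega

end Cfsg.Agent.Local.FS.Tower
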