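import Cfsg.Agent.Lib.Local.FS.Sat
import Cfsg.Agent.Lib.Fusion.KInf

/-!
Small sections inside a finite `p`-group: characters of sections of order `p`, and the action of
`p`-elements on them.
-/

set_option autoImplicit false

open scoped commutatorElement

namespace Cfsg.Agent.Local.FS.Tower

open Cfsg Cfsg.FusionSystem Cfsg.Agent.Fusion

variable {Ω : Type*} [Group Ω] {S : Subgroup Ω} [Finite S] {p : ℕ} [hp : Fact p.Prime]
  {A B P W : Subgroup Ω}

theorem card_pow (hS : IsPGroup p S) (hA : A ≤ S) : ∃ a, Nat.card A = p ^ a := by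
  haveI := finite_of_le hA
  exact IsPGroup.iff_card.1 (hS.to_le hA)

theorem step_le (hS : IsPGroup p S) (hA : A ≤ S) (h : B < A) : Nat.card B * p ≤ Nat.card A := by
  obtain ⟨a, ha⟩ := card_pow hS hA
  obtain ⟨b, hb⟩ := card_pow hS (h.le.trans hA)
  have hlt := card_lt_of_lt h hA
  rw [ha, hb] at hlt
  rw [ha, hb, ← pow_succ]
  exact Nat.pow_le_pow_right hp.out.pos ((Nat.pow_lt_pow_iff_right hp.out.one_lt).1 hlt)

omit hp in
theorem eq_of_card (hA : A ≤ S) (h : B ≤ A) (hc : Nat.card A ≤ Nat.card B) : B = A := by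
  haveI := finite_of_le hA
  exact Subgroup.eq_of_le_of_card_ge h hc

/-- The character of a section of order `p`. -/
theorem exists_char (hS : IsPGroup p S) (hA : A ≤ S) (hBA : B ≤ A)
    (hn : A ≤ Subgroup.normalizer (B : Set Ω)) (hc : Nat.card A = Nat.card B * p) {a : Ω} (ha : a ∈ A)
    (haB : a ∉ B) :
    ∃ χ : Ω → ZMod p, (∀ x ∈ A, ∀ y ∈ A, χ (x * y) = χ x + χ y) ∧ (∀ x ∈ A, χ x = 0 ↔ x ∈ B) ∧ χ a = 1 := by
  classical
  haveI := finite_of_le hA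
  haveI hN : (B.subgroupOf A).Normal := by
    refine ⟨fun b hb g => ?_⟩
    exact Subgroup.mem_subgroupOf.2 (conj_mem_of_normalizer (hn g.2) (Subgroup.mem_subgroupOf.1 hb))
  have hidx : (B.subgroupOf A).index = p := by
    have h1 := (B.subgroupOf A).card_mul_index
    rw [Nat.card_congr (Subgroup.subgroupOfEquivOfLe hBA).toEquiv, hc] at h1
    haveI := finite_of_le (hBA.trans hA)
    exact Nat.eq_of_mul_eq_mul_left Nat.card_pos h1
  obtain ⟨q, hq⟩ : ∃ q, q = (QuotientGroup.mk' (B.subgroupOf A) ⟨a, ha⟩) := ⟨_, rfl⟩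
  have hcard : Nat.card (A ⧸ B.subgroupOf A) = p := by rw [← Subgroup.index_eq_card, hidx]
  have hq1 : q ≠ 1 := fun h => haB (by
    rw [hq] at h
    exact Subgroup.mem_subgroupOf.1 ((QuotientGroup.eq_one_iff (⟨a, ha⟩ : A)).1 h))
  have hqo : orderOf q = p := by
    have := orderOf_dvd_natCard q
    rw [hcard] at this
    exact ((Nat.dvd_prime hp.out).1 this).resolve_left fun h => hq1 (orderOf_eq_one_iff.1 h)
  have hgen : ∀ x : A ⧸ B.subgroupOf A, ∃ i : ZMod p, q ^ i.val = x := by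
    intro x
    obtain ⟨k, hk⟩ := mem_powers_iff_mem_zpowers.2 (mem_zpowers_of_prime_card hcard hq1 (g' := x))
    exact ⟨(k : ZMod p), by rw [ZMod.val_natCast, ← hqo, pow_mod_orderOf]; exact hk⟩
  choose i hi using hgen
  have huniq : ∀ (s : ZMod p) (x : A ⧸ B.subgroupOf A), q ^ s.val = x → i x = s := by
    intro s x h
    have := (hi x).trans h.symm
    rw [pow_eq_pow_iff_modEq, hqo, ← ZMod.natCast_eq_natCast_iff] at this
    simpa using this
  refine ⟨fun x => if h : x ∈ A then i (QuotientGroup.mk' _ ⟨x, h⟩) else 0, fun x hx y hy => ?_,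
    fun x hx => ?_, ?_⟩
  · simp only [dif_pos hx, dif_pos hy, dif_pos (A.mul_mem hx hy)]
    refine huniq _ _ ?_
    rw [show (⟨x * y, A.mul_mem hx hy⟩ : A) = ⟨x, hx⟩ * ⟨y, hy⟩ from rfl, map_mul, ← hi (QuotientGroup.mk' _ ⟨x, hx⟩),
      ← hi (QuotientGroup.mk' _ ⟨y, hy⟩), ← pow_add, pow_eq_pow_iff_modEq, hqo, ← ZMod.natCast_eq_natCast_iff]
    simp [hi]
  · simp only [dif_pos hx]
    refine ⟨fun h => ?_, fun h => huniq 0 _ ?_⟩
    · have h1 := hi (QuotientGroup.mk' (B.subgroupOf A) ⟨x, hx⟩)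
      rw [h, ZMod.val_zero, pow_zero] at h1
      exact (QuotientGroup.eq_one_iff (⟨x, hx⟩ : A)).1 h1.symm
    · rw [ZMod.val_zero, pow_zero]
      exact ((QuotientGroup.eq_one_iff (⟨x, hx⟩ : A)).2 h).symm
  · simp only [dif_pos ha]
    refine huniq 1 _ ?_
    rw [ZMod.val_one, pow_one, hq]

omit [Finite S] in
theorem char_one {χ : Ω → ZMod p} (hχ : ∀ x ∈ A, ∀ y ∈ A, χ (x * y) = χ x + χ y) : χ 1 = 0 := by
  simpa using hχ 1 A.one_mem 1 A.one_mem

omit [Finite S] in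
theorem char_pow {χ : Ω → ZMod p} (hχ : ∀ x ∈ A, ∀ y ∈ A, χ (x * y) = χ x + χ y) {x : Ω} (hx : x ∈ A)
    (m : ℕ) : χ (x ^ m) = m * χ x := by
  induction m with
  | zero => simpa using char_one hχ
  | succ m ih => rw [pow_succ, hχ _ (A.pow_mem hx m) _ hx, ih]; push_cast; ring

omit [Finite S] in
theorem char_inv {χ : Ω → ZMod p} (hχ : ∀ x ∈ A, ∀ y ∈ A, χ (x * y) = χ x + χ y) {x : Ω} (hx : x ∈ A) :
    χ x⁻¹ = - χ x := by
  have h := hχ x hx x⁻¹ (A.inv_mem hx)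
  rw [mul_inv_cancel, char_one hχ] at h
  exact (neg_eq_of_add_eq_zero_right h.symm).symm

omit [Finite S] in
theorem char_sub {χ : Ω → ZMod p} (hχ : ∀ x ∈ A, ∀ y ∈ A, χ (x * y) = χ x + χ y) {x y : Ω} (hx : x ∈ A)
    (hy : y ∈ A) : χ (x * y⁻¹) = χ x - χ y := by
  rw [hχ x hx _ (A.inv_mem hy), char_inv hχ hy, sub_eq_add_neg]

omit [Finite S] in
theorem char_conj {χ : Ω → ZMod p} (hχ : ∀ x ∈ A, ∀ y ∈ A, χ (x * y) = χ x + χ y) {u x : Ω} (hu : u ∈ A)
    (hx : x ∈ A) : χ (u * x * u⁻¹) = χ x := by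
  rw [hχ _ (A.mul_mem hu hx) _ (A.inv_mem hu), hχ u hu x hx, char_inv hχ hu]; ring

/-- A `p`-element preserving a section of order at most `p` fixes it pointwise. -/
theorem small_fix (hS : IsPGroup p S) (hA : A ≤ S) (hBA : B ≤ A)
    (hn : A ≤ Subgroup.normalizer (B : Set Ω)) (hc : Nat.card A ≤ Nat.card B * p) {f : Ω → Ω}
    (hfA : ∀ x ∈ A, f x ∈ A) (hfB : ∀ x ∈ B, f x ∈ B) (hf : ∀ x ∈ A, ∀ y ∈ A, f (x * y) = f x * f y)
    (hfp : ∃ j : ℕ, ∀ x ∈ A, f^[p ^ j] x = x) : ∀ z ∈ A, z⁻¹ * f z ∈ B := by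
  rcases eq_or_lt_of_le hBA with rfl | hlt
  · exact fun z hz => B.mul_mem (B.inv_mem hz) (hfA z hz)
  obtain ⟨a, ha, haB⟩ := SetLike.exists_of_lt hlt
  obtain ⟨χ, hχ, hχ0, hχa⟩ := exists_char hS hA hBA hn (le_antisymm hc (step_le hS hA hlt)) ha haB
  have hlin : ∀ x ∈ A, χ (f x) = χ (f a) * χ x := by
    intro x hx
    have hm : x * (a ^ (χ x).val)⁻¹ ∈ B := by
      refine (hχ0 _ (A.mul_mem hx (A.inv_mem (A.pow_mem ha _)))).1 ?_
      rw [char_sub hχ hx (A.pow_mem ha _), char_pow hχ ha, hχa, ZMod.natCast_zmod_val, mul_one, sub_self]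
    have hpow : ∀ m : ℕ, f (a ^ m) = f a ^ m := by
      intro m
      induction m with
      | zero =>
        have h1 := hf 1 A.one_mem 1 A.one_mem
        rw [mul_one] at h1
        rw [pow_zero, pow_zero]
        exact mul_eq_left.1 h1.symm
      | succ m ih => rw [pow_succ, hf _ (A.pow_mem ha m) _ ha, ih, pow_succ]
    have h1 := hfB _ hm
    have hfx : f x = f (x * (a ^ (χ x).val)⁻¹) * f a ^ (χ x).val := by
      rw [← hpow, ← hf _ (A.mul_mem hx (A.inv_mem (A.pow_mem ha _))) _ (A.pow_mem ha _), inv_mul_cancel_right]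
    rw [hfx, hχ _ (hBA h1) _ (A.pow_mem (hfA a ha) _), (hχ0 _ (hBA h1)).2 h1, char_pow hχ (hfA a ha),
      ZMod.natCast_zmod_val, zero_add, mul_comm]
  have hiterA : ∀ m, ∀ x ∈ A, f^[m] x ∈ A := by
    intro m
    induction m with
    | zero => intro x hx; exact hx
    | succ m ih => intro x hx; rw [Function.iterate_succ_apply']; exact hfA _ (ih x hx)
  have hiter : ∀ m, χ (f^[m] a) = χ (f a) ^ m := by
    intro m
    induction m with
    | zero => simpa using hχa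
    | succ m ih => rw [Function.iterate_succ_apply', hlin _ (hiterA m a ha), ih, pow_succ']
  obtain ⟨j, hj⟩ := hfp
  have h1 := hiter (p ^ j)
  rw [hj a ha, hχa, ZMod.pow_card_pow] at h1
  intro z hz
  refine (hχ0 _ (A.mul_mem (A.inv_mem hz) (hfA z hz))).1 ?_
  rw [hχ _ (A.inv_mem hz) _ (hfA z hz), char_inv hχ hz, hlin z hz, ← h1, one_mul, neg_add_cancel]

/-- Conjugation by a `p`-element on a small section. -/
theorem conj_fix (hS : IsPGroup p S) (hA : A ≤ S) (hBA : B ≤ A)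
    (hn : A ≤ Subgroup.normalizer (B : Set Ω)) (hc : Nat.card A ≤ Nat.card B * p) {h : Ω} (hh : h ∈ S)
    (hhA : h ∈ Subgroup.normalizer (A : Set Ω)) (hhB : h ∈ Subgroup.normalizer (B : Set Ω)) :
    ∀ x ∈ A, ⁅h, x⁆ ∈ B := by
  intro x hx
  obtain ⟨j, hj⟩ := hS ⟨h, hh⟩
  have hhj : h ^ p ^ j = 1 := congrArg Subtype.val hj
  have hit : ∀ (m : ℕ) (y : Ω), (fun y => h * y * h⁻¹)^[m] y = h ^ m * y * (h ^ m)⁻¹ := by
    intro m
    induction m with
    | zero => simp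
    | succ m ih => intro y; rw [Function.iterate_succ_apply', ih, pow_succ']; group
  have h1 := small_fix hS hA hBA hn hc (f := fun y => h * y * h⁻¹)
    (fun y hy => conj_mem_of_normalizer hhA hy) (fun y hy => conj_mem_of_normalizer hhB hy)
    (fun y _ z _ => by group) ⟨j, fun y _ => by rw [hit, hhj]; simp⟩ x hx
  have h2 := conj_mem_of_normalizer (hn hx) h1
  rwa [show x * (x⁻¹ * (h * x * h⁻¹)) * x⁻¹ = ⁅h, x⁆ by rw [commutatorElement_def]; group] at h2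

/-- A fixed element of a section. -/
theorem exists_fixed (hS : IsPGroup p S) (hW : W ≤ S) (hPW : P ≤ W) (hn : W ≤ Subgroup.normalizer (P : Set Ω))
    (hB : B < P) : ∃ x ∈ P, x ∉ B ∧ ∀ h ∈ W, ⁅x, h⁆ ∈ B := by
  haveI := finite_of_le hW
  haveI : Group.IsNilpotent W := (hS.to_le hW).isNilpotent
  obtain ⟨x, hx, hxB, hfix⟩ := Fusion.exists_fixed_mod (P := W) (N := B.subgroupOf W)
    (C := P.subgroupOf W) (Q := (⊤ : Subgroup W))
    (fun q _ => Subgroup.mem_normalizer_iff.2 fun y => Subgroup.mem_normalizer_iff.1 (hn q.2) (y : Ω))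
    (fun h => hB.not_ge fun w hw => h (x := ⟨w, hPW hw⟩) hw)
  exact ⟨x, hx, hxB, fun h hh => hfix ⟨h, hh⟩ (Subgroup.mem_top _)⟩

omit [Finite S] in
theorem commutator_conj_right (h a b : Ω) : ⁅h, a * b⁆ = ⁅h, a⁆ * (a * ⁅h, b⁆ * a⁻¹) := by
  simp only [commutatorElement_def]; group

omit [Finite S] in
theorem commutator_conj_left (a b e : Ω) : ⁅a * b, e⁆ = a * ⁅b, e⁆ * a⁻¹ * ⁅a, e⁆ := by
  simp only [commutatorElement_def]; group

omit [Finite S] in
theorem normalizes_of_comm {h : Ω} {Q : Subgroup Ω} (hc : ∀ x ∈ Q, ⁅h, x⁆ ∈ Q) :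
    ∀ x ∈ Q, h * x * h⁻¹ ∈ Q := fun x hx => by
  rw [show h * x * h⁻¹ = ⁅h, x⁆ * x by rw [commutatorElement_def]; group]
  exact Q.mul_mem (hc x hx) hx

/-- Derived subgroup of an extension by a cyclic group acting trivially. -/
theorem commutator_le_of_cyclic_step {U : Subgroup Ω} (hUP : U ≤ P) (hUn : P ≤ Subgroup.normalizer (U : Set Ω))
    (hWU : W ≤ U) (hWn : P ≤ Subgroup.normalizer (W : Set Ω)) (hf : ∀ h ∈ P, ∀ x ∈ U, ⁅h, x⁆ ∈ W) {g : Ω}
    (hg : g ∈ P) (hgen : ∀ h ∈ P, ∃ i : ℕ, h * (g ^ i)⁻¹ ∈ U) : ⁅P, P⁆ ≤ W := by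
  haveI hN : (W.subgroupOf P).Normal := ⟨fun b hb q =>
    Subgroup.mem_subgroupOf.2 (conj_mem_of_normalizer (hWn q.2) (Subgroup.mem_subgroupOf.1 hb))⟩
  let π := QuotientGroup.mk' (W.subgroupOf P)
  have hcen : ∀ (u : P), (u : Ω) ∈ U → ∀ v : P, π v * π u = π u * π v := by
    intro u hu v
    rw [← commutatorElement_eq_one_iff_mul_comm, ← map_commutatorElement]
    exact (QuotientGroup.eq_one_iff _).2 (hf v v.2 u hu)
  refine Subgroup.commutator_le.2 fun a ha b hb => ?_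
  obtain ⟨i, hi⟩ := hgen a ha
  obtain ⟨j, hj⟩ := hgen b hb
  have e : ∀ {a : Ω} (ha : a ∈ P) {i : ℕ} (hi : a * (g ^ i)⁻¹ ∈ U),
      π ⟨a, ha⟩ = π ⟨a * (g ^ i)⁻¹, hUP hi⟩ * π ⟨g, hg⟩ ^ i := by
    intro a ha i hi
    rw [← map_pow, ← map_mul]
    congr 1
    exact Subtype.ext (by simp)
  have h1 : π ⟨a, ha⟩ * π ⟨b, hb⟩ = π ⟨b, hb⟩ * π ⟨a, ha⟩ := by
    have c1 : Commute (π ⟨a * (g ^ i)⁻¹, hUP hi⟩) (π ⟨b, hb⟩) := (hcen _ hi _).symm
    have c2 : Commute (π ⟨g, hg⟩ ^ i) (π ⟨b, hb⟩) := by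
      refine Commute.pow_left ?_ i
      rw [e hb hj]
      exact Commute.mul_right (hcen _ hj _) ((Commute.refl _).pow_right j)
    rw [e ha hi]
    exact c1.mul_left c2
  rw [← commutatorElement_eq_one_iff_mul_comm, ← map_commutatorElement] at h1
  obtain ⟨u, hu⟩ : ∃ u : P, u = ⁅(⟨a, ha⟩ : P), (⟨b, hb⟩ : P)⁆ := ⟨_, rfl⟩
  have h2 : u ∈ W.subgroupOf P := (QuotientGroup.eq_one_iff u).1 (by rw [hu]; exact h1)
  rw [Subgroup.mem_subgroupOf, hu] at h2
  exact h2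

end Cfsg.Agent.Local.FS.Tower
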