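import Cfsg.Agent.Lib.Local.FS.PSolvDescentPrimeSys

/-!
The descent step at a `p'`-factor of the automiser quotient.
-/

set_option autoImplicit false

namespace Cfsg.Agent.Local.FS.PSolv

open Cfsg Cfsg.FusionSystem Cfsg.Agent.Fusion Cfsg.Agent.Local.FS

universe u

variable {Ω : Type u} [Group Ω] {S U T P Q R Z : Subgroup Ω} [Finite S] {F : FusionSystem S}
  {M : FusionSystem U} {E : FusionSystem T} {f g : Ω → Ω} {p : ℕ} [Fact p.Prime]

theorem genSys_saturated (hS : IsPGroup p S) (hE : E.IsNormalIn F p) (h : Good F E p M) :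
    (genSys hS h).IsSaturated p := by
  have hUS := h.le_S
  haveI := finite_of_le hUS
  have hU := hS.to_le hUS
  obtain ⟨hEs, hMs, hEi⟩ := id h.normalE.1
  have hTM := hEi.2.1
  have hconjM : ∀ {A B : Subgroup Ω}, (genSys hS h).IsConj A B → M.IsConj A B :=
    fun hc => isConj_of_sub genSys_sub hc
  refine saturated_of_family hU {P | M.IsCentric P ∧ E.IsCentric (P ⊓ T)} (fun P hP Q hQ => ?_)
    (fun P hP => ?_) (fun E' hE' => ?_) fun P hP hP' => ?_
  · obtain ⟨f, hf, rfl⟩ := isConj_iff.1 (hconjM hQ)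
    refine ⟨⟨hf.im_le, fun R hR => hP.1.2 R (isConj_trans (isConj_iff.2 ⟨f, hf, rfl⟩) hR)⟩, ?_⟩
    rw [inf_im hTM hf]
    exact centric_of_sub_map hEi hP.2 (hf.restrict inf_le_left)
  · obtain ⟨Q, hQ, hfn⟩ := exists_fullyNormalized (F := M) hP.1.1
    obtain ⟨f, hf, hi⟩ := isConj_iff.1 hQ
    obtain ⟨α, hα, f₀, h₀, hfe⟩ := gen_decomp hS hE h hf
    set Q₀ := im P f₀
    have hQ₀S : Q₀ ≤ U := h₀.1.im_le
    have hQeq : im Q₀ (av α) = Q := by
      rw [← hi, ← h₀.1.im_comp]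
      exact im_congr fun x hx => (hfe x hx).symm
    have hfn₀ : M.IsFullyNormalized Q₀ := by
      refine ⟨hQ₀S, fun R hR => (hfn.2 R (isConj_trans (isConj_symm
        (isConj_iff.2 ⟨_, map_autS hα hQ₀S, hQeq⟩)) hR)).trans ?_⟩
      have hm := map_autS (F := M) ((M.autGroup U).inv_mem hα) (inf_le_left : normalizerIn U Q ≤ U)
      have hi' : im Q (av α⁻¹) = Q₀ := by
        rw [← hQeq, ← (map_autS hα hQ₀S).im_comp,
          im_congr (f := av α⁻¹ ∘ av α) (g := id) fun x hx => av_inv_av α (hQ₀S hx), im_id]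
      exact hm.card_le fun x hx => hi' ▸ hm.mem_normalizer (le_normalizerIn hfn.1) hx hx.2
    obtain ⟨hfc, hfa⟩ := fc_fa_of_fn hU hMs hfn₀
    refine ⟨Q₀, isConj_iff.2 ⟨f₀, map_genSys.2 h₀, rfl⟩, ?_, ?_⟩
    · haveI := mulAut_finite_of_le hQ₀S
      exact fa_iff.2 ⟨hQ₀S, (fa_iff.1 hfa).2.mono (autInducedBy_le_autGroup hQ₀S)
        (autGroup_le_of_sub genSys_sub hQ₀S)⟩
    · refine receptive_iff.2 ⟨hQ₀S, fun X g hg hgi => ?_⟩
      have hgG := map_genSys.1 hg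
      have hgM := hgG.1
      obtain ⟨k, hk, hkg, hgk, hki⟩ := hgM.exists_inv
      rw [hgi] at hk hki hgk
      have hXP : M.IsConj P X := isConj_trans (isConj_iff.2 ⟨f₀, h₀.1, rfl⟩)
        (isConj_iff.2 ⟨k, hk, hki⟩)
      obtain ⟨j, hj, hji⟩ := isConj_iff.1 hXP
      have hXc : M.IsCentric X := ⟨hgM.le, fun R hR => hP.1.2 R (isConj_trans hXP hR)⟩
      have hXT : E.IsCentric (X ⊓ T) := by
        rw [← hji, inf_im hTM hj]
        exact centric_of_sub_map hEi hP.2 (hj.restrict inf_le_left)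
      obtain ⟨ψ, hψ, hψg⟩ := (receptive_iff.1 (receptive_of_fc hU hMs hfc)).2 X g hgM hgi
      obtain ⟨β, hβ, g₁, hg₁, hge⟩ := hgG.triv hS hE h hXT
      have hXN : X ≤ Nf U X g := le_Nf hgM
      refine ⟨ψ, map_genSys.2 (Gen.base (centric_mono hXc hXN hψ.le)
        (centric_mono hXT (inf_le_inf_right T hXN) inf_le_right) hψ
        (triv_of_centric_le hS hE h hψ (inf_le_inf_right T hXN) hXT hβ hg₁ fun x hx =>
          (hψg x hx.1).trans (hge x hx))), hψg⟩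
  · intro P φ hφ
    refine mem_iff_map.2 (hφ.2.2 (fun P f => Map E' P f) ⟨fun hh he => hh.congr he,
      fun _ hh hR => hh.restrict hR, fun _ _ a b hm => a.comp b hm, fun {P f g} _ hh hg => ?_⟩
      fun Q g hQ hQT hg ht => ?_)
    · obtain ⟨g', hg', hg'f, -, -⟩ := hh.exists_inv
      refine hg'.congr fun y hy => ?_
      obtain ⟨x, hx, rfl⟩ := hh.mem_im.1 hy
      rw [hg'f x hx, hg x hx]
    · obtain ⟨χ, hχ, hχe⟩ := (map_genSys (hS := hS) (h := h)).2 (Gen.base hQ hQT hg ht)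
      exact ⟨χ, hE' Q ⟨hQ, hQT⟩ hχ, hχe⟩
  · have hPU := hP.1
    have hMc : M.IsCentric P := by
      refine ⟨hPU, fun Q hQ c hc => ?_⟩
      obtain ⟨f, hf, rfl⟩ := isConj_iff.1 hQ
      obtain ⟨β, hβ, x, hx, he⟩ := gen_decomp hS hE h hf
      have hβi := map_of_mem_autGroup (le_refl U) (inv_mem hβ)
      have hc₀ : av β⁻¹ c ∈ centralizerIn U (im P x) := by
        refine mem_centralizerIn.2 ⟨av_mem _ hc.1, fun r hr => ?_⟩
        obtain ⟨y, hy, rfl⟩ := hx.1.mem_im.1 hr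
        have h1 := (mem_centralizerIn.1 hc).2 (f y) (mem_im_of_mem hy)
        rw [show x y = av β⁻¹ (f y) by rw [he y hy, av_inv_av β (hx.1.mem hy)],
          ← hβi.map_mul (hf.mem hy) hc.1, h1, hβi.map_mul hc.1 (hf.mem hy)]
      obtain ⟨y, hy, hye⟩ := hx.1.mem_im.1 (hP.2 _ (isConj_iff.2 ⟨x, map_genSys.2 hx, rfl⟩) hc₀)
      rw [← av_av_inv β hc.1, ← hye, ← he y hy]
      exact mem_im_of_mem hy
    have hPT : ¬ E.IsCentric (P ⊓ T) := fun hc => hP' ⟨hMc, hc⟩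
    obtain ⟨φ, hφ, x, hx, hxQ, α₀, hα₀, hα₀e⟩ :=
      (not_radical_of_inter_not_centric hU hMs hTM h.sub hMc hPT).1
    obtain ⟨β, hβ, j, hj, hje⟩ := gen_decomp hS hE h (map_of_mem hφ)
    have hQS : φ.range ≤ U := (isConj_le (F := M) ⟨φ, hφ, rfl⟩).2
    have hφi : im P (fn φ) = φ.range := (map_of_mem hφ).im_eq_range fun x => (fn_coe φ x).symm
    have hβm := map_of_mem_autGroup (le_refl U) hβ
    have hβi := map_of_mem_autGroup (le_refl U) (inv_mem hβ)
    have hbQ : im φ.range (av β⁻¹) = im P j := by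
      rw [← hφi, ← (map_of_mem hφ).im_comp]
      exact im_congr fun y hy => by
        show av β⁻¹ (fn φ y) = j y
        rw [hje y hy, av_inv_av β (hj.1.mem hy)]
    have hjc : (genSys hS h).IsConj P (im P j) := isConj_iff.2 ⟨j, map_genSys.2 hj, rfl⟩
    refine ⟨im P j, hjc, fun hle => ?_⟩
    haveI := mulAut_finite_of_le hQS
    haveI := mulAut_finite_of_le hj.1.im_le
    have hbm := hβi.restrict hQS
    obtain ⟨e, he⟩ := exists_equiv hbm hbQ
    let c : ↥(M.autGroup φ.range) ≃* ↥(M.autGroup (im P j)) :=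
      ((M.autGroup φ.range).equivMapOfInjective (MulAut.congr e).toMonoidHom (MulAut.congr e).injective).trans
        (MulEquiv.subgroupCongr (map_autGroup hbm hbQ he))
    obtain ⟨a, ha, rfl⟩ := hα₀
    have hca : ((c a : ↥(M.autGroup (im P j))) : MulAut ↥(im P j)) = MulAut.congr e (a : MulAut ↥φ.range) := rfl
    have hcore : c a ∈ pCore p ↥(M.autGroup (im P j)) := map_pCore_le c ⟨a, ha, rfl⟩
    obtain ⟨x₀, hx₀⟩ : ∃ x₀, x₀ = av β⁻¹ x := ⟨_, rfl⟩
    have hx₀U : x₀ ∈ U := hx₀ ▸ av_mem _ hx.1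
    have hxe : ∀ z ∈ im P j, av (MulAut.congr e (a : MulAut ↥φ.range)) z = x₀ * z * x₀⁻¹ := by
      intro z hz
      obtain ⟨y, hy, rfl⟩ := hbm.mem_im.1 (hbQ.ge hz)
      rw [av_congr_apply he (a : MulAut ↥φ.range) hy, av_apply _ hy,
        show (((a : MulAut ↥φ.range) ⟨y, hy⟩ : ↥φ.range) : Ω) = x * y * x⁻¹ from hα₀e ⟨y, hy⟩,
        hβi.map_conj hx.1 (hQS hy), hx₀]
    have hmem : MulAut.congr e (a : MulAut ↥φ.range) ∈ autInducedBy U (im P j) :=
      mem_autInducedBy.2 ⟨x₀, hx₀U, hxe⟩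
    have hD : MulAut.congr e (a : MulAut ↥φ.range) ∈ coreAut (genSys hS h) p (im P j) := by
      have hmemD := autInducedBy_le_autGroup (F := genSys hS h) hj.1.im_le hmem
      let ι := Subgroup.inclusion (autGroup_le_of_sub (genSys_sub (hS := hS) (h := h)) hj.1.im_le)
      have hK : (pCore p ↥(M.autGroup (im P j))).comap ι ≤ pCore p ↥((genSys hS h).autGroup (im P j)) := by
        haveI : (pCore p ↥(M.autGroup (im P j))).Normal := Solv.pCore_normal p
        exact Fusion.le_pCore ((Fusion.isPGroup_pCore p _).comap_of_injective ι (Subgroup.inclusion_injective _))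
      refine ⟨⟨_, hmemD⟩, hK ?_, rfl⟩
      show ι ⟨_, hmemD⟩ ∈ pCore p _
      rwa [show ι ⟨_, hmemD⟩ = c a from Subtype.ext hca.symm]
    obtain ⟨q, hq, hqe⟩ := mem_Inn.1 (hle ⟨hmem, hD⟩)
    have hq' : q⁻¹ * x₀ ∈ centralizerIn U (im P j) := by
      refine mem_centralizerIn.2 ⟨U.mul_mem (U.inv_mem (hj.1.im_le hq)) hx₀U, fun z hz => ?_⟩
      have h1 := (hxe z hz).symm.trans (hqe z hz)
      calc z * (q⁻¹ * x₀) = q⁻¹ * (q * z * q⁻¹) * x₀ := by group
        _ = q⁻¹ * (x₀ * z * x₀⁻¹) * x₀ := by rw [h1]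
        _ = _ := by group
    have hx₀Q : x₀ ∈ im P j := by
      have := (im P j).mul_mem hq (hP.2 _ hjc hq')
      rwa [mul_inv_cancel_left] at this
    obtain ⟨y, hy, hye⟩ := hbm.mem_im.1 (hbQ.ge hx₀Q)
    exact hxQ ((hβi.injOn (hQS hy) hx.1 (hye.trans hx₀)) ▸ hy)

theorem genSys_weaklyNormal (hS : IsPGroup p S) (hE : E.IsNormalIn F p) (h : Good F E p M) :
    (genSys hS h).IsWeaklyNormalIn F p := by
  have hUS := h.le_S
  haveI := finite_of_le hUS
  obtain ⟨-, hF, hMi⟩ := id h.normal.1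
  have hDF : (genSys hS h).IsSubsystemOf F := fun P φ hφ => hMi.1 P hφ.1
  refine ⟨genSys_saturated hS hE h, hF, (isInvariantIn_iff hS hF hDF hMi.2.1).2 ?_⟩
  intro A B f g hAB hBU hf hfB hg
  obtain ⟨γ, hγ, m, hm, hgm⟩ := frattini_map hMi hBU hg
  obtain ⟨β, hβ, x, hx, hmx⟩ := gen_decomp hS hE h hm
  have hfG := map_genSys.1 hf
  have hxA := hx.restrict hAB
  obtain ⟨k, -, hkx, hxk, -⟩ := hxA.1.exists_inv
  have hk₁ : Gen M E p (im A x) (x ∘ f ∘ k) := by
    refine (((hxA.inv hkx).comp hfG fun y hy => (hxk y hy).2).comp hx fun y hy => hfB _ (hxk y hy).2).congr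
      fun _ _ => rfl
  obtain ⟨γ', hγ'⟩ : ∃ γ', γ' = γ * β := ⟨_, rfl⟩
  have hγ'F : γ' ∈ F.autGroup U := hγ' ▸ mul_mem hγ (autGroup_le_of_sub hMi.1 le_rfl hβ)
  have hge : ∀ y ∈ B, g y = av γ' (x y) := fun y hy => by
    rw [hgm y hy, hmx y hy, hγ', av_mul _ _ (hx.1.mem hy)]
  obtain ⟨l, hl, hle⟩ := gen_conj hS hE h hγ'F hk₁
  have him : im (im A x) (av γ') = im A g := by
    rw [← hxA.1.im_comp]
    exact im_congr fun y hy => (hge y (hAB hy)).symm
  refine ⟨l, map_genSys.2 (him ▸ hl), fun y hy => ?_⟩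
  rw [hge y (hAB hy), hle _ (mem_im_of_mem hy), hge _ (hfB y hy)]
  show av γ' (x (f (k (x y)))) = _
  rw [hkx y hy]

omit [Fact p.Prime] in
/-- The maps of `E` lying in a larger system. -/
def meetSys (D : FusionSystem U) (E : FusionSystem T) (hTU : T ≤ U) : FusionSystem T where
  Hom P := {φ | φ ∈ E.Hom P ∧ Map D P (fn φ)}
  le_of_mem h := E.le_of_mem h.1
  injective_of_mem h := E.injective_of_mem h.1
  conj_mem {P g} hP hg := ⟨E.conj_mem hP hg,
    (map_conjBy (hP.trans hTU) (hTU hg)).congr fun x hx => by rw [fn_apply (conjHom P g) hx]; rfl⟩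
  comp_mem {P Q φ ψ} hφ hψ hm := ⟨E.comp_mem hφ.1 hψ.1 hm,
    (hφ.2.comp hψ.2 fun x hx => by rw [fn_apply φ hx]; exact hm _).congr fun x hx => by
      show fn ψ (fn φ x) = _
      rw [fn_apply φ hx, fn_apply ψ (hm _), fn_apply _ hx]; rfl⟩
  inv_mem {P φ} hφ := by
    obtain ⟨ψ, hψ, hψφ⟩ := E.inv_mem hφ.1
    refine ⟨ψ, ⟨hψ, ?_⟩, hψφ⟩
    obtain ⟨k, hk, hkf, -, -⟩ := hφ.2.exists_inv
    have key : Map D (im P (fn φ)) (fn ψ) := hk.congr fun y hy => by
      obtain ⟨x, hx, rfl⟩ := hφ.2.mem_im.1 hy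
      rw [hkf x hx, fn_apply φ hx, fn_apply ψ ⟨⟨x, hx⟩, rfl⟩, hψφ ⟨x, hx⟩]
    rwa [hφ.2.im_eq_range fun x => (fn_coe φ x).symm] at key

/-- A subsystem of index prime to `p` has the same `O^{p'}`. -/
theorem primeRes_eq_of_prime (hS : IsPGroup p S) (hF : F.IsSaturated p) {D : FusionSystem S}
    (hD : D.IsSaturated p) (hidx : D.HasPrimeToPIndexIn F p) : primeRes D p = primeRes F p := by
  have hF' := isPPrimeResidual_primeRes hS hF
  refine pPrimeResidual_unique (isPPrimeResidual_primeRes hS hD) ⟨hF'.1, ⟨hF'.2.2 D hD hidx, fun P hP => ?_⟩,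
    fun X hX hXi => hF'.2.2 X hX ⟨fun P φ hφ => hidx.1 P (hXi.1 P hφ), fun P hP => ?_⟩⟩
  · rw [Subgroup.map_le_iff_le_comap, Subgroup.closure_le]
    rintro a ⟨k, hk⟩
    refine hF'.2.1.2 P hP ⟨⟨a, autGroup_le_of_sub hidx.1 hP a.2⟩, Subgroup.subset_closure ⟨k, ?_⟩, rfl⟩
    exact (Subgroup.orderOf_mk _ _).trans ((Subgroup.orderOf_coe a).trans hk)
  · rw [Subgroup.map_le_iff_le_comap, Subgroup.closure_le]
    rintro a ⟨k, hk⟩
    refine hXi.2 P hP ⟨⟨a, hidx.2 P hP ⟨a, Subgroup.subset_closure ⟨k, hk⟩, rfl⟩⟩,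
      Subgroup.subset_closure ⟨k, ?_⟩, rfl⟩
    exact (Subgroup.orderOf_mk _ _).trans ((Subgroup.orderOf_coe a).trans hk)

/-- The step: passing to a subsystem of index prime to `p`. -/
theorem step_prime (hS : IsPGroup p S) (hE : E.IsNormalIn F p) (h : Good F E p M)
    (hne : autH M E p ≠ M.autGroup T) :
    ∃ (U₁ : Subgroup Ω) (M₁ : FusionSystem U₁), Good F E p M₁ ∧ M₁.autGroup T < M.autGroup T := by
  have hUS := h.le_S
  haveI := finite_of_le hUS
  have hU := hS.to_le hUS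
  obtain ⟨hEs, hMs, hEi⟩ := id h.normalE.1
  have hT := hE.1.2.2.2.1
  have hTS := hT.1
  haveI := finite_of_le hTS
  have hTU : T ≤ U := le_sup_left.trans h.le
  have hDs := genSys_saturated hS hE h
  have hDw := genSys_weaklyNormal hS hE h
  have hDM : (genSys hS h).IsSubsystemOf M := genSys_sub
  have hC : centralizerIn S T ≤ U := le_sup_right.trans h.le
  have hDn : (genSys hS h).IsNormalIn F p := normal_of_weakly hDw fun c hc =>
    hC ⟨hc.1, Subgroup.centralizer_le hTU hc.2⟩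
  have hscU : M.StronglyClosed U := stronglyClosed_iff.2 ⟨le_rfl, fun _ _ _ hf x hx => hf.mem hx⟩
  have hinv : (genSys hS h).IsInvariantIn M := (isInvariantIn_iff hU hMs hDM hscU).2
    fun A B f g hAB hBU hf hfB hg => (isInvariantIn_iff hS hE.1.2.1 hDw.2.2.1 hDw.2.2.2.1).1 hDw.2.2
      A B f g hAB hBU hf hfB (hg.of_sub h.normal.1.2.2.1)
  have hidx := prime_of_invariant hMs hinv
  set L := T ⊔ centralizerIn S T with hLdef
  have hLU : L ≤ U := h.le
  have hscL := sc_sub (scL hS hE.1.2.1 hT) h.normal.1.2.2.1 hLU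
  have hLc : M.IsCentric L := by
    refine ⟨hLU, fun Q hQ => ?_⟩
    obtain ⟨f, hf, rfl⟩ := isConj_iff.1 hQ
    rw [im_eq_of_sc hscL hf]
    exact fun c hc => Subgroup.mem_sup_right
      ⟨hUS hc.1, Subgroup.centralizer_le (le_sup_left : T ≤ L) hc.2⟩
  have hext : ∀ α ∈ E.autGroup T, ∃ g, Map (genSys hS h) L g ∧ (∀ x ∈ T, g x = av α x) ∧
      ∀ c ∈ centralizerIn S T, c⁻¹ * g c ∈ T ⊓ Subgroup.centralizer (T : Set Ω) := by
    intro α hα
    obtain ⟨β, hβ, hβT, hβC⟩ := exists_extL h.normalE hUS hC hα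
    have hLT : L ⊓ T = T := inf_eq_right.2 le_sup_left
    refine ⟨av β, map_genSys.2 (Gen.base hLc (by rw [hLT]; exact centric_top) (map_of_mem_autGroup hLU hβ)
      fun _ => ⟨α, Subgroup.mem_sup_left hα, id, map_id inf_le_right, fun x hx => hβT x hx.2⟩), hβT, hβC⟩
  have hED : E.IsSubsystemOf (genSys hS h) := by
    intro P φ hφ
    refine mem_iff_map.2 ?_
    have hgen : ∀ R : Subgroup Ω, E.IsCentric R →
        pResAut p (E.autGroup R) ≤ (meetSys (genSys hS h) E hTU).autGroup R := by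
      intro R hR
      refine pResAut_induction fun a ha hk => ?_
      haveI := mulAut_finite_of_le (hR.1.trans hTS)
      have haM : a ∈ M.autGroup R := autGroup_le_of_sub h.sub hR.1 ha
      have haD : a ∈ (genSys hS h).autGroup R := hidx.2 R (hR.1.trans hTU) (mem_pResAut haM hk)
      obtain ⟨χ, hχ, hχe⟩ := map_of_mem_autGroup hR.1 ha
      exact mem_autGroup_of_map ⟨χ, ⟨hχ, (map_of_mem_autGroup (hR.1.trans hTU) haD).congr fun x hx => by
        rw [fn_apply χ hx]; exact (hχe ⟨x, hx⟩).symm⟩, hχe⟩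
    obtain ⟨α, hα, g, hg, hge⟩ := fac_of_map (hS.to_le hTS) hEs hgen (map_of_mem hφ)
    obtain ⟨g', hg'T, hg'α, -⟩ := hext α hα
    obtain ⟨χ, hχ, hχe⟩ := hg.map
    have hgD : Map (genSys hS h) P g := hχ.2.congr fun x hx => by rw [fn_apply χ hx]; exact hχe ⟨x, hx⟩
    have hgT : ∀ x ∈ P, g x ∈ T := fun x hx => hg.1.mem hx
    refine (hgD.comp (hg'T.restrict (le_sup_left : T ≤ L)) hgT).congr fun x hx => ?_
    show g' (g x) = _
    rw [hg'α _ (hgT x hx), hge x hx]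
  refine ⟨U, genSys hS h, ⟨h.le, hDn, hED, normal_inherit hS hE hDs hDw.2.2.1 hC hED hext,
    fun V W L₀ N hL₀ hN => ?_⟩, lt_of_le_of_lt ?_ (lt_of_le_of_ne (autH_le h) hne)⟩
  · obtain ⟨W', N', hN'⟩ := exists_limit hU hMs
    obtain ⟨W'', N'', hN''⟩ := exists_limit hU (isPPrimeResidual_primeRes hU hMs).1
    have heq := primeRes_eq_of_prime hU hMs hDs hidx
    intro P f
    exact ((h.limit _ _ _ _ hL₀ hN' P f).trans (limit_primeRes hU hMs hN' hN'' P f)).trans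
      (limit_primeRes hU hDs hN (heq ▸ hN'') P f).symm
  · intro a ha
    obtain ⟨α, hα, g, hg, hge⟩ := (map_genSys.1 (map_of_mem_autGroup hTU ha)).triv hS hE h
      (by rw [inf_idem]; exact centric_top)
    rw [inf_idem] at hg hge
    obtain ⟨δ, hδ, hδe⟩ := exists_aut hg (Subgroup.eq_of_le_of_card_ge hg.im_le hg.card_im.ge)
    rw [show a = α * δ from aut_ext fun x hx => by rw [av_mul _ _ hx, hδe x hx, hge x hx]]
    exact mul_mem hα (Subgroup.mem_sup_left hδ)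

end Cfsg.Agent.Local.FS.PSolv
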