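import Cfsg.Agent.Lib.Local.FS.PSolvDescentP
import Cfsg.Agent.Lib.Local.FS.PSolvDescentPrime

/-!
The descent along a `p`-solvable automiser quotient down to `T C_S(T)`.
-/

set_option autoImplicit false

namespace Cfsg.Agent.Local.FS.PSolv

open Cfsg Cfsg.FusionSystem Cfsg.Agent.Fusion Cfsg.Agent.Local.FS

universe u

variable {Ω : Type u} [Group Ω] {S U T : Subgroup Ω} [Finite S] {F : FusionSystem S} {M : FusionSystem U}
  {E : FusionSystem T} {f : Ω → Ω} {p : ℕ} [Fact p.Prime]

omit [Fact p.Prime] in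
theorem mem_of_rel_coprime {G : Type*} [Group G] [Finite G] {A B : Subgroup G} (hA : A.Normal) {g : G}
    (hg : g ∈ B) (hc : (orderOf g).Coprime (A.relIndex B)) : g ∈ A := by
  haveI := hA
  haveI : (A.subgroupOf B).Normal := hA.comap B.subtype
  have h := Subgroup.pow_index_mem (A.subgroupOf B) ⟨g, hg⟩
  rw [Subgroup.mem_subgroupOf, SubmonoidClass.coe_pow] at h
  obtain ⟨n, hn⟩ := exists_pow_eq_self_of_coprime (x := g) (n := A.relIndex B) hc.symm
  rw [← hn]
  exact A.pow_mem h n

/-- Some step is possible above `Aut_E(T)`. -/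
theorem exists_step (hE : E.IsNormalIn F p) [hn : ((E.autGroup T).subgroupOf (F.autGroup T)).Normal]
    (hsolv : IsPSolvable p (↥(F.autGroup T) ⧸ (E.autGroup T).subgroupOf (F.autGroup T)))
    (h : Good F E p M) (hne : M.autGroup T ≠ E.autGroup T) :
    autP M E p ≠ M.autGroup T ∨ autH M E p ≠ M.autGroup T := by
  by_contra hcon
  rw [not_or, not_not, not_not] at hcon
  obtain ⟨hP, hH⟩ := hcon
  have hT := hE.1.2.2.2.1
  haveI := mulAut_finite_of_le hT.1
  have hTU : T ≤ U := le_sup_left.trans h.le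
  haveI := finite_of_le h.le_S
  set A := M.autGroup T with hA
  have hAF : A ≤ F.autGroup T := autGroup_le_of_sub h.normal.1.2.2.1 hTU
  have hEA : E.autGroup T ≤ A := autGroup_le_of_sub h.sub le_rfl
  set N := (E.autGroup T).subgroupOf (F.autGroup T) with hN
  let π : ↥A →* ↥(F.autGroup T) ⧸ N := (QuotientGroup.mk' N).comp (Subgroup.inclusion hAF)
  have hker : ∀ a : A, (a : MulAut T) ∈ E.autGroup T → π a = 1 := fun a ha =>
    (QuotientGroup.eq_one_iff _).2 ha
  obtain ⟨n, H, h0, hlast, -, hHn, hstep⟩ := hsolv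
  have hrange : ∀ i, π.range ≤ H i := by
    intro i
    by_contra hi
    have key : ∀ k : ℕ, ∀ hk : k < n + 1, π.range ≤ H ⟨k, hk⟩ → False := by
      intro k
      induction k with
      | zero =>
        intro hk hle
        refine hne (le_antisymm (fun a ha => ?_) hEA)
        have h1 : π ⟨a, ha⟩ ∈ H ⟨0, hk⟩ := hle ⟨_, rfl⟩
        rw [show (⟨0, hk⟩ : Fin (n + 1)) = 0 from rfl, h0, Subgroup.mem_bot] at h1
        exact (QuotientGroup.eq_one_iff (N := N) (Subgroup.inclusion hAF ⟨a, ha⟩)).1 h1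
      | succ k ihk =>
        intro hk hle
        have hk' : k < n := Nat.succ_lt_succ_iff.1 hk
        have hcast : (⟨k, Nat.lt_succ_of_lt hk'⟩ : Fin (n + 1)) = (⟨k, hk'⟩ : Fin n).castSucc := rfl
        refine ihk (Nat.lt_succ_of_lt hk') ?_
        rw [hcast]
        have hle' : π.range ≤ H (⟨k, hk'⟩ : Fin n).succ := hle
        have hnor := hHn (⟨k, hk'⟩ : Fin n).castSucc
        set C := H (⟨k, hk'⟩ : Fin n).castSucc with hC
        rcases hstep ⟨k, hk'⟩ with ⟨m, hm⟩ | hco
        · have hgen : autP M E p ≤ (C.comap π).map A.subtype := by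
            refine sup_le (fun a ha => ⟨⟨a, hEA ha⟩, by
              show π _ ∈ C
              rw [hker _ ha]; exact C.one_mem, rfl⟩) ?_
            refine Subgroup.map_mono ((Subgroup.closure_le _).2 fun a ha => ?_)
            refine mem_of_rel_coprime hnor (hle' ⟨a, rfl⟩) ?_
            rw [hm]
            exact Nat.Coprime.pow_right m (ha.coprime_dvd_left (orderOf_map_dvd π a))
          rw [hP] at hgen
          rintro _ ⟨a, rfl⟩
          obtain ⟨b, hb, hbe⟩ := hgen a.2
          rwa [← show b = a from Subtype.ext hbe]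
        · have hgen : autH M E p ≤ (C.comap π).map A.subtype := by
            refine sup_le (fun a ha => ⟨⟨a, hEA ha⟩, by
              show π _ ∈ C
              rw [hker _ ha]; exact C.one_mem, rfl⟩) ?_
            refine pResAut_induction fun a ha ⟨l, hl⟩ => ⟨⟨a, ha⟩, ?_, rfl⟩
            refine mem_of_rel_coprime hnor (hle' ⟨_, rfl⟩) ?_
            refine Nat.Coprime.coprime_dvd_left (orderOf_map_dvd π _) ?_
            rw [Subgroup.orderOf_mk, hl]
            exact Nat.Coprime.pow_left l hco.symm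
          rw [hH] at hgen
          rintro _ ⟨a, rfl⟩
          obtain ⟨b, hb, hbe⟩ := hgen a.2
          rwa [← show b = a from Subtype.ext hbe]
    exact key n (Nat.lt_succ_self n) (by
      rw [show (⟨n, Nat.lt_succ_self n⟩ : Fin (n + 1)) = Fin.last n from rfl, hlast]; exact le_top)
  have h1 := hrange 0
  rw [h0] at h1
  refine hne (le_antisymm (fun a ha => ?_) hEA)
  have h2 : π ⟨a, ha⟩ = 1 := Subgroup.mem_bot.1 (h1 ⟨_, rfl⟩)
  exact (QuotientGroup.eq_one_iff (N := N) (Subgroup.inclusion hAF ⟨a, ha⟩)).1 h2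

/-- The descent reaches a system with the automiser of `E`. -/
theorem exists_descent (hS : IsPGroup p S) (hE : E.IsNormalIn F p)
    [hn : ((E.autGroup T).subgroupOf (F.autGroup T)).Normal]
    (hsolv : IsPSolvable p (↥(F.autGroup T) ⧸ (E.autGroup T).subgroupOf (F.autGroup T))) :
    ∃ (U : Subgroup Ω) (M : FusionSystem U), Good F E p M ∧ M.autGroup T = E.autGroup T := by
  haveI := mulAut_finite_of_le hE.1.2.2.2.1.1
  suffices h : ∀ (n : ℕ) (U : Subgroup Ω) (M : FusionSystem U), Nat.card ↥(M.autGroup T) = n → Good F E p M →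
      ∃ (U : Subgroup Ω) (M : FusionSystem U), Good F E p M ∧ M.autGroup T = E.autGroup T from
    h _ S F rfl (good_self hS hE)
  intro n
  induction n using Nat.strong_induction_on with
  | _ n ih =>
  intro U M hc h
  by_cases hne : M.autGroup T = E.autGroup T
  · exact ⟨U, M, h, hne⟩
  obtain ⟨U₁, M₁, h₁, hlt⟩ : ∃ (U₁ : Subgroup Ω) (M₁ : FusionSystem U₁),
      Good F E p M₁ ∧ M₁.autGroup T < M.autGroup T :=
    (exists_step hE hsolv h hne).elim (step_p hS hE h) (step_prime hS hE h)
  exact ih _ (hc ▸ lt_of_le_of_ne (Subgroup.card_le_of_le hlt.le) fun e =>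
    hlt.ne (Subgroup.eq_of_le_of_card_ge hlt.le e.ge)) U₁ M₁ rfl h₁

/-- A system with the automiser of `E` lives on `T C_S(T)`. -/
theorem base_eq (hS : IsPGroup p S) (hE : E.IsNormalIn F p) (h : Good F E p M)
    (he : M.autGroup T = E.autGroup T) : U = T ⊔ centralizerIn S T := by
  have hT := hE.1.2.2.2.1
  have hTU : T ≤ U := le_sup_left.trans h.le
  haveI := finite_of_le h.le_S
  haveI := finite_of_le hT.1
  haveI := mulAut_finite_of_le hT.1
  refine le_antisymm (fun u hu => ?_) h.le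
  obtain ⟨c, hc, hcS⟩ := exists_aut_conj (P := T)
    (stronglyClosed_le_normalizer (sc_sub hT h.normal.1.2.2.1 hTU) hu)
  have hsyl := (fa_iff.1 (fc_fa_of_fn (hS.to_le hT.1) hE.1.1 (fn_self (F := E))).2).2
  have hle : autInducedBy T T ≤ autInducedBy U T := fun a ha => by
    obtain ⟨t, ht, hte⟩ := mem_autInducedBy.1 ha
    exact mem_autInducedBy.2 ⟨t, hTU ht, hte⟩
  have heq := hsyl.eq_of_le (isPGroup_autS (hS.to_le h.le_S)) hle
    ((autInducedBy_le_autGroup hTU).trans he.le)
  obtain ⟨t, ht, hte⟩ := mem_autInducedBy.1 (heq ▸ hcS U hu)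
  rw [show u = t * (t⁻¹ * u) by group]
  refine Subgroup.mul_mem_sup ht (mem_centralizerIn.2 ⟨S.mul_mem (S.inv_mem (hT.1 ht)) (h.le_S hu), fun x hx => ?_⟩)
  have h1 := (hc x hx).symm.trans (hte x hx)
  calc x * (t⁻¹ * u) = t⁻¹ * (t * x * t⁻¹) * u := by group
    _ = t⁻¹ * (u * x * u⁻¹) * u := by rw [h1]
    _ = _ := by group

end Cfsg.Agent.Local.FS.PSolv
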