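import Cfsg.Agent.Lib.Local.FS.PSolvDescentBase
import Cfsg.Agent.S5198

/-!
The descent step at a `p`-factor of the automiser quotient.
-/

set_option autoImplicit false

namespace Cfsg.Agent.Local.FS.PSolv

open Cfsg Cfsg.FusionSystem Cfsg.Agent.Fusion Cfsg.Agent.Local.FS

universe u

variable {Ω : Type u} [Group Ω] {S U T : Subgroup Ω} [Finite S] {F : FusionSystem S} {M : FusionSystem U}
  {E : FusionSystem T} {f : Ω → Ω} {p : ℕ} [Fact p.Prime]

/-- `Aut_E(T) O^p(Aut_M(T))`. -/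
def autP (M : FusionSystem U) (E : FusionSystem T) (p : ℕ) : Subgroup (MulAut T) :=
  E.autGroup T ⊔ (pResidual p ↥(M.autGroup T)).map (M.autGroup T).subtype

theorem autP_le (h : Good F E p M) : autP M E p ≤ M.autGroup T := by
  haveI := finite_of_le h.le_S
  exact sup_le (autGroup_le_of_sub h.sub le_rfl) (Subgroup.map_subtype_le _)

theorem conj_mem_autP (hE : E.IsNormalIn F p) (h : Good F E p M) {a χ : MulAut T}
    (ha : a ∈ F.autGroup T) (hχ : χ ∈ autP M E p) : a * χ * a⁻¹ ∈ autP M E p := by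
  have hTU : T ≤ U := le_sup_left.trans h.le
  have key : autP M E p ≤ (autP M E p).comap (MulAut.conj a).toMonoidHom := by
    refine sup_le (fun x hx => Subgroup.mem_sup_left (conj_mem_sub hE.1.2.2 le_rfl ha hx)) ?_
    rintro _ ⟨γ, hγ, rfl⟩
    haveI := finite_of_le h.le_S
    haveI := mulAut_finite_of_le hTU
    let c : ↥(M.autGroup T) →* ↥(M.autGroup T) :=
      ((MulAut.conj a).toMonoidHom.comp (M.autGroup T).subtype).codRestrict _
        fun x => conj_mem_sub h.normal.1.2.2 hTU ha x.2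
    exact Subgroup.mem_sup_right ⟨c γ, Fusion.map_pResidual_le c ⟨γ, hγ, rfl⟩, rfl⟩
  exact key hχ

/-- The elements of `U` acting on `T` in `Aut_E(T) O^p(Aut_M(T))`. -/
def baseP (M : FusionSystem U) (E : FusionSystem T) (p : ℕ) : Subgroup Ω where
  carrier := {x | x ∈ U ∧ ∃ χ ∈ autP M E p, ∀ t ∈ T, av χ t = x * t * x⁻¹}
  one_mem' := ⟨U.one_mem, 1, one_mem _, fun t ht => by rw [av_one ht]; group⟩
  mul_mem' := by
    rintro x y ⟨hx, χ, hχ, hxe⟩ ⟨hy, χ', hχ', hye⟩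
    refine ⟨U.mul_mem hx hy, χ * χ', mul_mem hχ hχ', fun t ht => ?_⟩
    rw [av_mul _ _ ht, hxe _ (av_mem _ ht), hye t ht]
    group
  inv_mem' := by
    rintro x ⟨hx, χ, hχ, hxe⟩
    refine ⟨U.inv_mem hx, χ⁻¹, inv_mem hχ, fun t ht => ?_⟩
    have h := hxe _ (av_mem χ⁻¹ ht)
    rw [av_av_inv χ ht] at h
    conv_rhs => rw [h]
    group

theorem baseP_le : baseP M E p ≤ U := fun _ hx => hx.1

theorem le_baseP (h : Good F E p M) : T ⊔ centralizerIn S T ≤ baseP M E p := by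
  refine sup_le (fun t ht => ?_) fun c hc => ⟨h.le (Subgroup.mem_sup_right hc), 1, one_mem _, fun t ht => ?_⟩
  · obtain ⟨α, hα, -⟩ := exists_aut_conj (P := T) (g := t) (Subgroup.le_normalizer ht)
    exact ⟨h.le (Subgroup.mem_sup_left ht), α, Subgroup.mem_sup_left (conjT_mem E ht hα), hα⟩
  · rw [av_one ht, ← (mem_centralizerIn.1 hc).2 t ht, mul_inv_cancel_right]

theorem sc_baseP (hS : IsPGroup p S) (hE : E.IsNormalIn F p) (h : Good F E p M) :
    F.StronglyClosed (baseP M E p) := by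
  have hT := hE.1.2.2.2.1
  refine stronglyClosed_iff.2 ⟨baseP_le.trans h.le_S, fun P f hP hf x hxP => ?_⟩
  obtain ⟨hxU, χ, hχ, hχe⟩ := hP hxP
  obtain ⟨g, hg, hgf⟩ := quotMap_all hS hE.1.2.1 hT P f hf
  obtain ⟨a, ha, hag⟩ := exists_autT hT (hg.restrict le_sup_right)
  have hfU : f x ∈ U := stronglyClosed_map h.normal.1.2.2.2.1 hf hxP hxU
  obtain ⟨d, hd⟩ : ∃ d, d = (f x)⁻¹ * g x := ⟨_, rfl⟩
  have hdT : d ∈ T := hd ▸ hgf x hxP
  obtain ⟨δ, hδ, -⟩ := exists_aut_conj (P := T) (g := d) (Subgroup.le_normalizer hdT)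
  refine ⟨hfU, a * χ * a⁻¹ * δ⁻¹,
    mul_mem (conj_mem_autP hE h ha hχ) (inv_mem (Subgroup.mem_sup_left (conjT_mem E hdT hδ))), fun t ht => ?_⟩
  have h1 := av_mem δ⁻¹ ht
  have h2 := av_mem a⁻¹ h1
  have hδi : av δ⁻¹ t = d⁻¹ * t * d := by
    have h3 : t = d * av δ⁻¹ t * d⁻¹ := by rw [← hδ _ h1, av_av_inv δ ht]
    conv_rhs => rw [h3]
    group
  rw [av_mul _ _ ht, av_mul _ _ h1, av_mul _ _ h2, hχe _ h2,
    hag _ (by rw [← hχe _ h2]; exact av_mem _ h2),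
    hg.map_conj (Subgroup.mem_sup_left hxP) (Subgroup.mem_sup_right h2), ← hag _ h2, av_av_inv a h1, hδi, hd]
  group

/-- The step: passing to a subsystem of `p`-power index. -/
theorem step_p (hS : IsPGroup p S) (hE : E.IsNormalIn F p) (h : Good F E p M)
    (hne : autP M E p ≠ M.autGroup T) :
    ∃ (U₁ : Subgroup Ω) (M₁ : FusionSystem U₁), Good F E p M₁ ∧ M₁.autGroup T < M.autGroup T := by
  have hT := hE.1.2.2.2.1
  have hTS := hT.1
  have hUS := h.le_S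
  haveI := finite_of_le hUS
  haveI := finite_of_le hTS
  have hU := hS.to_le hUS
  have hMs := h.normal.1.1
  have hTU : T ≤ U := le_sup_left.trans h.le
  have hTM := sc_sub hT h.normal.1.2.2.1 hTU
  set L := T ⊔ centralizerIn S T with hLdef
  have hL₁ : L ≤ baseP M E p := le_baseP h
  have hTU₁ : T ≤ baseP M E p := le_sup_left.trans hL₁
  have hsc := sc_baseP hS hE h
  have hhyp : M.hyperfocalSubgroup p ≤ baseP M E p := by
    intro x hx
    refine ⟨hyperfocal_le hx, ?_⟩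
    obtain ⟨α, hα, hαx⟩ := Cfsg.Agent.S5198.result p hU M hMs T hTM x hx
    refine ⟨α, (sup_le le_sup_right ((inn_le E).trans le_sup_left) : _ ≤ autP M E p) hα, fun t ht => ?_⟩
    rw [av_apply α ht]
    exact hαx ⟨t, ht⟩
  haveI := finite_of_le (baseP_le.trans hUS : baseP M E p ≤ S)
  obtain ⟨M₁, hM₁⟩ := exists_pPower hU hMs baseP_le hhyp
  have hU₁ := hS.to_le (baseP_le.trans hUS : baseP M E p ≤ S)
  have hM₁w := pPower_weaklyNormal hS h.normal.1 hM₁.1 hM₁.2 hsc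
  have hC₁ : centralizerIn S T ≤ baseP M E p := le_sup_right.trans hL₁
  have hM₁n : M₁.IsNormalIn F p := normal_of_weakly hM₁w fun c hc =>
    hC₁ ⟨hc.1, Subgroup.centralizer_le hTU₁ hc.2⟩
  have hEM₁ : E.IsSubsystemOf M₁ := by
    intro P φ hφ
    refine mem_iff_map.2 (alperin (hS.to_le hTS) hE.1.1 (K := fun P f => Map M₁ P f)
      ⟨fun hh he => hh.congr he, fun _ hh hR => hh.restrict hR, fun _ _ a b hm => a.comp b hm,
        fun {P f g} _ hh hg => ?_⟩ (fun R hR α hα => ?_) P _ (map_of_mem hφ))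
    · obtain ⟨g', hg', hg'f, -, -⟩ := hh.exists_inv
      refine hg'.congr fun y hy => ?_
      obtain ⟨x, hx, rfl⟩ := hh.mem_im.1 hy
      rw [hg'f x hx, hg x hx]
    · have hRfn := gen_fn (F := E) (p := p) hR
      obtain ⟨β, hβ, γ, hγ, rfl⟩ := exists_autS_mul_residual (hS.to_le hTS) hE.1.1 hRfn hα
      obtain ⟨t, ht, htβ⟩ := mem_autInducedBy.1 hβ
      have hRU₁ := hRfn.1.trans hTU₁
      have hγ₁ := hM₁.2.2.2 R hRU₁ (pResidual_mono_sub h.sub hRfn.1 ⟨γ, hγ, rfl⟩)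
      exact ((map_of_mem_autGroup hRU₁ hγ₁).comp (map_conjBy hRU₁ (hTU₁ ht))
        fun x hx => av_mem (γ : MulAut R) hx).congr fun x hx => by
          show t * av (γ : MulAut R) x * t⁻¹ = _
          rw [av_mul _ _ hx, htβ _ (av_mem _ hx)]
  have hext : ∀ α ∈ E.autGroup T, ∃ g, Map M₁ L g ∧ (∀ x ∈ T, g x = av α x) ∧
      ∀ c ∈ centralizerIn S T, c⁻¹ * g c ∈ T ⊓ Subgroup.centralizer (T : Set Ω) := by
    intro α hα
    obtain ⟨β, hβ, hβT, hβC⟩ := exists_extL h.normalE hUS (le_sup_right.trans h.le) hα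
    have hLU : L ≤ U := h.le
    have hLM := sc_sub (scL hS hE.1.2.1 hT) h.normal.1.2.2.1 hLU
    obtain ⟨β₁, hβ₁, γ, hγ, rfl⟩ := exists_autS_mul_residual hU hMs (fn_of_sc hLM) hβ
    obtain ⟨u, hu, huβ⟩ := mem_autInducedBy.1 hβ₁
    haveI := mulAut_finite_of_le hLU
    haveI := mulAut_finite_of_le hTU
    choose r hr hre using fun a : ↥(M.autGroup L) =>
      exists_autT hTM ((map_of_mem_autGroup hLU a.2).restrict (le_sup_left : T ≤ L))
    let ρ : ↥(M.autGroup L) →* ↥(M.autGroup T) := MonoidHom.mk' (fun a => ⟨r a, hr a⟩) fun a b =>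
      Subtype.ext (aut_ext fun x hx => by
        show av (r (a * b)) x = av (r a * r b) x
        rw [hre _ x hx, Subgroup.coe_mul, av_mul _ _ (Subgroup.mem_sup_left hx), av_mul _ _ hx,
          hre b x hx, hre a _ (by rw [← hre b x hx]; exact av_mem _ hx)])
    have hρ : r γ ∈ autP M E p := Subgroup.mem_sup_right ⟨ρ γ, Fusion.map_pResidual_le ρ ⟨γ, hγ, rfl⟩, rfl⟩
    have huU₁ : u ∈ baseP M E p := by
      refine ⟨hu, α * (r γ)⁻¹, mul_mem (Subgroup.mem_sup_left hα) (inv_mem hρ), fun t ht => ?_⟩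
      have ht' := av_mem (r γ)⁻¹ ht
      rw [av_mul _ _ ht, ← hβT _ ht', av_mul _ _ (Subgroup.mem_sup_left ht'), ← hre γ _ ht',
        av_av_inv _ ht, huβ _ (Subgroup.mem_sup_left ht)]
    have hγ₁ := hM₁.2.2.2 L hL₁ ⟨γ, hγ, rfl⟩
    refine ⟨fun x => u * av (γ : MulAut L) x * u⁻¹, (map_of_mem_autGroup hL₁ hγ₁).comp (map_conjBy hL₁ huU₁)
      fun x hx => av_mem _ hx, fun x hx => ?_, fun c hc => ?_⟩
    · rw [← hβT x hx, av_mul _ _ (Subgroup.mem_sup_left hx), huβ _ (av_mem _ (Subgroup.mem_sup_left hx))]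
    · have h1 := hβC c hc
      rwa [av_mul _ _ (Subgroup.mem_sup_right hc), huβ _ (av_mem _ (Subgroup.mem_sup_right hc))] at h1
  refine ⟨_, M₁, ⟨hL₁, hM₁n, hEM₁, normal_inherit hS hE hM₁.1 hM₁w.2.2.1 hC₁ hEM₁ hext,
    fun V W L₀ N hL₀ hN => ?_⟩, ?_⟩
  · obtain ⟨W', N', hN'⟩ := exists_limit hU hMs
    exact fun P f => (h.limit _ _ _ _ hL₀ hN' P f).trans (limit_pPower hU hMs hM₁.1 hM₁.2 hN' hN P f)
  · refine lt_of_le_of_lt ?_ (lt_of_le_of_ne (autP_le h) hne)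
    intro α hα
    have hTM₁ := sc_sub hT hM₁w.2.2.1 hTU₁
    obtain ⟨β, hβ, γ, hγ, rfl⟩ := exists_autS_mul_residual hU₁ hM₁.1 (fn_of_sc hTM₁) hα
    obtain ⟨u, ⟨-, χ, hχ, hχe⟩, hue⟩ := mem_autInducedBy.1 hβ
    rw [show β = χ from aut_ext fun x hx => (hue x hx).trans (hχe x hx).symm]
    exact mul_mem hχ (Subgroup.mem_sup_right (pResidual_mono_sub hM₁.2.1 hTU₁ ⟨γ, hγ, rfl⟩))

end Cfsg.Agent.Local.FS.PSolv
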