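import Cfsg.Agent.Lib.Local.FS.PSolvDescentBase
import Cfsg.Agent.Lib.Local.FS.CentralizerOdd
import Cfsg.Agent.Lib.Local.FS.NormalSubCentric
import Cfsg.Agent.Lib.Local.FS.CentricCriterion

/-!
Classes of maps in the automiser of a strongly closed subgroup modulo a subgroup containing the normal subsystem
and the `p`-elements.
-/

set_option autoImplicit false

namespace Cfsg.Agent.Local.FS.PSolv

open Cfsg Cfsg.FusionSystem Cfsg.Agent.Fusion Cfsg.Agent.Local.FS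

universe u

variable {Ω : Type u} [Group Ω] {S U T P Q R Z : Subgroup Ω} [Finite S] {F : FusionSystem S}
  {M : FusionSystem U} {E : FusionSystem T} {f g : Ω → Ω} {p : ℕ} [Fact p.Prime]

/-- `Aut_E(T) O^{p'}(Aut_M(T))`. -/
def autH (M : FusionSystem U) (E : FusionSystem T) (p : ℕ) : Subgroup (MulAut T) :=
  E.autGroup T ⊔ pResAut p (M.autGroup T)

theorem autH_le (h : Good F E p M) : autH M E p ≤ M.autGroup T := by
  haveI := finite_of_le h.le_S
  exact sup_le (autGroup_le_of_sub h.sub le_rfl) (pResAut_le _)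

theorem conj_mem_autH (hE : E.IsNormalIn F p) (h : Good F E p M) {a χ : MulAut T}
    (ha : a ∈ F.autGroup T) (hχ : χ ∈ autH M E p) : a * χ * a⁻¹ ∈ autH M E p := by
  have hTU : T ≤ U := le_sup_left.trans h.le
  have key : autH M E p ≤ (autH M E p).comap (MulAut.conj a).toMonoidHom := by
    refine sup_le (fun x hx => Subgroup.mem_sup_left (conj_mem_sub hE.1.2.2 le_rfl ha hx))
      (pResAut_induction fun x hx ⟨k, hk⟩ => Subgroup.mem_sup_right (mem_pResAut ?_ ⟨k, ?_⟩))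
    · exact conj_mem_sub h.normal.1.2.2 hTU ha hx
    · exact (orderOf_injective (MulAut.conj a).toMonoidHom (MulAut.conj a).injective x).trans hk
  exact key hχ

theorem autS_le_autH (hS : IsPGroup p S) (h : Good F E p M) : autInducedBy U T ≤ autH M E p := by
  haveI := finite_of_le h.le_S
  intro α hα
  refine Subgroup.mem_sup_right (mem_pResAut (autInducedBy_le_autGroup (le_sup_left.trans h.le) hα) ?_)
  obtain ⟨k, hk⟩ := IsPGroup.iff_orderOf.1 (isPGroup_autS (P := T) (hS.to_le h.le_S)) ⟨α, hα⟩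
  exact ⟨k, by rw [← hk, ← Subgroup.orderOf_coe]⟩

omit [Finite S] [Fact p.Prime] in
theorem inf_im {G : FusionSystem U} (hT : G.StronglyClosed T) (hf : Map G P f) :
    im P f ⊓ T = im (P ⊓ T) f := by
  refine le_antisymm (fun y hy => ?_) (le_inf (im_mono inf_le_left) (im_le_iff.2 fun x hx =>
    stronglyClosed_map hT hf hx.1 hx.2))
  obtain ⟨x, hx, rfl⟩ := hf.mem_im.1 hy.1
  obtain ⟨k, hk, hkf, -, -⟩ := hf.exists_inv
  exact mem_im_of_mem ⟨hx, hkf x hx ▸ stronglyClosed_map hT hk hy.1 hy.2⟩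

omit [Finite S] [Fact p.Prime] in
theorem centric_top [Finite T] : E.IsCentric T :=
  ⟨le_rfl, fun Q hQ => by
    rw [Subgroup.eq_of_le_of_card_ge (isConj_le hQ).2 (isConj_card hQ).le]
    exact inf_le_left⟩

/-- An automorphism agreeing with `E` on a centric subgroup lies in `autH`. -/
theorem mem_of_centric (hS : IsPGroup p S) (hE : E.IsNormalIn F p) (h : Good F E p M) {δ : MulAut T}
    (hδ : δ ∈ M.autGroup T) (hZ : E.IsCentric Z) (hg : Map E Z g) (he : ∀ x ∈ Z, av δ x = g x) :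
    δ ∈ autH M E p := by
  suffices hgen : ∀ n (δ : MulAut T) (Z : Subgroup Ω) (g : Ω → Ω), Nat.card T - Nat.card Z = n →
      δ ∈ M.autGroup T → E.IsCentric Z → Map E Z g → (∀ x ∈ Z, av δ x = g x) → δ ∈ autH M E p from
    hgen _ δ Z g rfl hδ hZ hg he
  intro n
  induction n using Nat.strong_induction_on with
  | _ n ih =>
  intro δ Z g hn hδ hZ hg he
  obtain ⟨hEs, hMs, hEi⟩ := id h.normalE.1
  have hTM := hEi.2.1
  have hTU := hTM.1
  have hUS := h.le_S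
  haveI := finite_of_le hUS
  haveI := finite_of_le hTU
  have hU := hS.to_le hUS
  have hTp := hU.to_le hTU
  rcases eq_or_lt_of_le hZ.1 with rfl | hlt
  · exact Subgroup.mem_sup_left (mem_autGroup_of_map (hg.congr fun x hx => (he x hx).symm))
  obtain ⟨R, hR, α, hα, g₀, hg₀, hRT, hRe⟩ := CentralizerOdd.exists_to_fn hU h.normalE.1 hZ.1
  have hg₀Z := hg₀.restrict (le_normalizerIn hZ.1)
  obtain ⟨k₀, hk₀, hk₀g, hgk₀, -⟩ := hg₀Z.exists_inv
  obtain ⟨h₀, hh₀, hh₀e⟩ := inv_map hEi hg₀Z hδ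
  rw [im_congr he] at hh₀
  have hq : Map E (im Z g₀) (h₀ ∘ g ∘ k₀) :=
    (hk₀.comp hg fun y hy => (hgk₀ y hy).2).comp hh₀ fun y hy => mem_im_of_mem (hgk₀ y hy).2
  obtain ⟨h₁, hh₁, hh₁e⟩ := inv_map hEi hq hα
  rw [hRe] at hh₁
  obtain ⟨δ₁, hδ₁⟩ : ∃ δ₁, δ₁ = α * δ * α⁻¹ := ⟨_, rfl⟩
  have hδ₁M : δ₁ ∈ M.autGroup T := hδ₁ ▸ mul_mem (mul_mem hα hδ) (inv_mem hα)
  have hαm := map_of_mem_autGroup hTU hα
  have h₁e : ∀ r ∈ R, av δ₁ r = h₁ r := by
    intro r hr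
    rw [← hRe] at hr
    obtain ⟨y, hy, rfl⟩ := (hαm.restrict hg₀Z.im_le).mem_im.1 hr
    obtain ⟨z, hz, rfl⟩ := hg₀Z.mem_im.1 hy
    rw [hh₁e _ hy, hδ₁, av_mul _ _ (av_mem α (hg₀Z.mem hz)), av_inv_av α (hg₀Z.mem hz),
      av_mul _ _ (hg₀Z.mem hz)]
    show _ = av α (h₀ (g (k₀ (g₀ z))))
    rw [hk₀g z hz, ← he z hz, hh₀e z hz]
  have hRc : E.IsCentric R := hRe ▸ centric_of_sub_map hEi (centric_of_sub_map hEi hZ (hg₀Z.of_sub hEi.1))
    (hαm.restrict hg₀Z.im_le)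
  have hcard : Nat.card R = Nat.card Z := by
    rw [← hRe, (hαm.restrict hg₀Z.im_le).card_im, hg₀Z.card_im]
  have hRlt : R < T := lt_of_le_of_ne hRT fun e => hlt.ne (Subgroup.eq_of_le_of_card_ge hZ.1 (e ▸ hcard.le))
  set R' := im R h₁ with hR'def
  set Y := normalizerIn T R with hYdef
  have hRY : R ≤ Y := le_normalizerIn hRT
  have hδm := map_of_mem_autGroup hTU hδ₁M
  have himR : im R (av δ₁) = R' := im_congr h₁e
  have hfn : E.IsFullyNormalized R' := by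
    refine ⟨hh₁.im_le, fun Q hQ => ?_⟩
    refine ((fn_of_fn hU h.normalE.1 hR hRT).2 Q (isConj_trans (isConj_iff.2 ⟨h₁, hh₁, rfl⟩) hQ)).trans ?_
    haveI : Finite ↥(normalizerIn T R') := finite_of_le (inf_le_left.trans hTU)
    exact (hδm.restrict inf_le_left).card_le fun y hy => ⟨av_mem δ₁ hy.1,
      himR ▸ ((hδm.restrict (inf_le_left : Y ≤ T)).mem_normalizer hRY hy hy.2).2⟩
  obtain ⟨g₂, hg₂, hg₂e⟩ := (receptive_iff.1 (receptive_of_fc hTp hEs (fc_fa_of_fn hTp hEs hfn).1)).2 R h₁ hh₁ rfl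
  have hYN : Y ≤ Nf T R h₁ := fun t ht => ⟨ht.1, ht.2, av δ₁ t, av_mem δ₁ ht.1, fun x hx => by
    rw [← h₁e _ (conj_mem_of_normalizer ht.2 hx), ← h₁e x hx, hδm.map_conj ht.1 (hRT hx)]⟩
  have hg₂Y := hg₂.restrict hYN
  have hδi := map_of_mem_autGroup hTU (inv_mem hδ₁M)
  have him₂ : im R g₂ = R' := im_congr hg₂e
  have hκm : Map M Y (av δ₁⁻¹ ∘ g₂) := (hg₂Y.of_sub hEi.1).comp hδi fun y hy => hg₂Y.mem hy
  have hκR : ∀ r ∈ R, (av δ₁⁻¹ ∘ g₂) r = r := fun r hr => by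
    show av δ₁⁻¹ (g₂ r) = r
    rw [hg₂e r hr, ← h₁e r hr, av_inv_av δ₁ (hRT hr)]
  have hκY : im Y (av δ₁⁻¹ ∘ g₂) = Y := by
    haveI : Finite ↥Y := finite_of_le (inf_le_left.trans hTU)
    refine Subgroup.eq_of_le_of_card_ge (im_le_iff.2 fun y hy => ⟨av_mem _ (hg₂Y.mem hy), ?_⟩) hκm.card_im.ge
    have h1 := hκm.mem_normalizer hRY hy hy.2
    rw [im_congr hκR, show im R (fun r => r) = R from im_id] at h1
    exact h1.2
  obtain ⟨κ, hκ, hκe⟩ := exists_aut hκm hκY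
  have hκ1 : ∀ r ∈ R, av κ r = r := fun r hr => (hκe r (hRY hr)).trans (hκR r hr)
  have hκ2 : ∀ y ∈ Y, y⁻¹ * av κ y ∈ R := by
    intro y hy
    refine centric_inv_mem hRc (T.mul_mem (T.inv_mem hy.1) (av_mem κ hy).1) fun r hr => ?_
    have hr' : y * r * y⁻¹ ∈ R := conj_mem_of_normalizer hy.2 hr
    have e := hκ1 _ hr'
    rw [(map_of_mem_autGroup (show Y ≤ U from inf_le_left.trans hTU) hκ).map_conj hy (hRY hr), hκ1 r hr] at e
    calc r * (y⁻¹ * av κ y) = y⁻¹ * (y * r * y⁻¹) * av κ y := by group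
      _ = y⁻¹ * (av κ y * r * (av κ y)⁻¹) * av κ y := by rw [e]
      _ = _ := by group
  have hYU : Y ≤ normalizerIn U R := inf_le_inf_right _ hTU
  have hC : ∀ s ∈ centralizerIn U R, s ∈ Subgroup.normalizer (Y : Set Ω) := fun s hs =>
    mem_normalizer_of_conj_mem (inf_le_left.trans hTU) fun y hy =>
      ⟨stronglyClosed_conj_mem hTM hs.1 hy.1, Subgroup.mul_mem _ (Subgroup.mul_mem _
        (centralizerIn_le_normalizerIn hs).2 hy.2) (Subgroup.inv_mem _ (centralizerIn_le_normalizerIn hs).2)⟩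
  obtain ⟨s, hs, hsκ⟩ := stab_eq_autS hU hMs hR hRY hYU hC hκ hκ1 hκ2
  obtain ⟨c, hc, hcS⟩ := exists_aut_conj (P := T) (stronglyClosed_le_normalizer hTM hs.1)
  have hcH := autS_le_autH hS h (hcS U hs.1)
  have hδ₂ : δ₁ * c ∈ M.autGroup T := mul_mem hδ₁M (autH_le h hcH)
  have hδ₂e : ∀ y ∈ Y, av (δ₁ * c) y = g₂ y := fun y hy => by
    rw [av_mul _ _ hy.1, hc y hy.1, ← hsκ y hy, hκe y hy]
    exact av_av_inv δ₁ (hg₂Y.mem hy)
  have hgrow : R < Y := lt_normalizerIn hTp hRlt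
  have h2 := ih (Nat.card T - Nat.card Y) (by
      have h3 := card_lt_of_lt hgrow (inf_le_left.trans hTU)
      have h4 := Subgroup.card_le_of_le (show Y ≤ T from inf_le_left)
      rw [hcard] at h3
      omega) _ Y g₂ rfl hδ₂ (centric_mono hRc hRY inf_le_left) hg₂Y hδ₂e
  have h1 : δ₁ ∈ autH M E p := by simpa using mul_mem h2 (inv_mem hcH)
  have hαF : α ∈ F.autGroup T := autGroup_le_of_sub h.normal.1.2.2.1 hTU hα
  have := conj_mem_autH hE h (inv_mem hαF) h1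
  simpa [hδ₁, mul_assoc] using this

/-- On the trace in `T` the map is a map of `E` followed by an element of `autH`. -/
def Triv (M : FusionSystem U) (E : FusionSystem T) (p : ℕ) (Q : Subgroup Ω) (f : Ω → Ω) : Prop :=
  E.IsCentric (Q ⊓ T) → ∃ α ∈ autH M E p, ∃ g, Map E (Q ⊓ T) g ∧ ∀ x ∈ Q ⊓ T, f x = av α (g x)

theorem isClosedClass_triv (hS : IsPGroup p S) (hE : E.IsNormalIn F p) (h : Good F E p M) :
    IsClosedClass M (Triv M E p) := by
  have hEi := h.normalE.1.2.2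
  have hTM := hEi.2.1
  haveI := finite_of_le h.le_S
  refine ⟨fun {P f g} hf he hP => ?_, fun {P R f} _ hf hR hRc => ?_, fun {P Q f g} hfm _ hf hg hm hP => ?_,
    fun {P f g} hfm hf hi hc => ?_⟩
  · obtain ⟨α, hα, k, hk, hke⟩ := hf hP
    exact ⟨α, hα, k, hk, fun x hx => (he x hx.1).symm.trans (hke x hx)⟩
  · obtain ⟨α, hα, k, hk, hke⟩ := hf (centric_mono hRc (inf_le_inf_right T hR) inf_le_right)
    exact ⟨α, hα, k, hk.restrict (inf_le_inf_right T hR), fun x hx => hke x ⟨hR hx.1, hx.2⟩⟩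
  · obtain ⟨α, hα, k, hk, hke⟩ := hf hP
    have hfQ : ∀ x ∈ P ⊓ T, f x ∈ Q ⊓ T := fun x hx => ⟨hm x hx.1, stronglyClosed_map hTM hfm hx.1 hx.2⟩
    have hQc : E.IsCentric (Q ⊓ T) := centric_mono
      (centric_of_sub_map hEi hP (hfm.restrict inf_le_left)) (im_le_iff.2 hfQ) inf_le_right
    obtain ⟨α', hα', k', hk', hke'⟩ := hg hQc
    obtain ⟨l, hl, hle⟩ := inv_map hEi hk' (inv_mem (autH_le h hα))
    have hkx : ∀ x ∈ P ⊓ T, k x = av α⁻¹ (f x) := fun x hx => by rw [hke x hx, av_inv_av α (hk.mem hx)]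
    refine ⟨α' * α, mul_mem hα' hα, l ∘ k, hk.comp hl fun x hx => ?_, fun x hx => ?_⟩
    · rw [hkx x hx]; exact mem_im_of_mem (hfQ x hx)
    · show g (f x) = av (α' * α) (l (k x))
      rw [hkx x hx, hle _ (hfQ x hx), av_mul _ _ (av_mem _ (hk'.mem (hfQ x hx))),
        av_av_inv α (hk'.mem (hfQ x hx)), hke' _ (hfQ x hx)]
  · obtain ⟨kf, hkf, hkff, -, -⟩ := hfm.exists_inv
    rw [inf_im hTM hfm] at hc
    have hPc : E.IsCentric (P ⊓ T) := by
      have h1 := centric_of_sub_map hEi hc (hkf.restrict (im_mono inf_le_left))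
      rwa [← (hfm.restrict inf_le_left).im_comp, show im (P ⊓ T) (kf ∘ f) = P ⊓ T from
        (im_congr (P := P ⊓ T) (g := id) fun x hx => hkff x hx.1).trans im_id] at h1
    obtain ⟨α, hα, k, hk, hke⟩ := hf hPc
    obtain ⟨k₁, hk₁, hk₁k, -, -⟩ := hk.exists_inv
    obtain ⟨l, hl, hle⟩ := inv_map hEi hk₁ (autH_le h hα)
    have him : im (im (P ⊓ T) k) (av α) = im P f ⊓ T := by
      rw [inf_im hTM hfm, ← hk.im_comp]
      exact im_congr fun x hx => (hke x hx).symm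
    rw [him] at hl
    refine ⟨α⁻¹, inv_mem hα, l, hl, fun y hy => ?_⟩
    rw [inf_im hTM hfm] at hy
    obtain ⟨x, hx, rfl⟩ := (hfm.restrict inf_le_left).mem_im.1 hy
    rw [hi x hx.1, hke x hx, hle _ (mem_im_of_mem hx), hk₁k x hx, av_inv_av α hx.2]

/-- A class on a centric subgroup gives the class of any extension. -/
theorem triv_of_centric_le (hS : IsPGroup p S) (hE : E.IsNormalIn F p) (h : Good F E p M) (hf : Map M P f)
    (hZP : Z ≤ P ⊓ T) (hZ : E.IsCentric Z) {α : MulAut T} (hα : α ∈ autH M E p) (hg : Map E Z g)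
    (he : ∀ x ∈ Z, f x = av α (g x)) : Triv M E p P f := by
  intro _
  have hEi := h.normalE.1.2.2
  haveI := finite_of_le h.le_S
  obtain ⟨β, hβ, k, hk, hke⟩ := frattini_map hEi inf_le_right (hf.restrict (inf_le_left : P ⊓ T ≤ P))
  have hkZ := hk.restrict hZP
  obtain ⟨k₁, hk₁, hk₁k, hkk₁, -⟩ := hkZ.exists_inv
  have hγ : α⁻¹ * β ∈ autH M E p := by
    refine mem_of_centric hS hE h (mul_mem (inv_mem (autH_le h hα)) hβ)
      (centric_of_sub_map hEi hZ (hkZ.of_sub hEi.1))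
      (hk₁.comp hg fun y hy => (hkk₁ y hy).2) fun y hy => ?_
    obtain ⟨x, hx, rfl⟩ := hkZ.mem_im.1 hy
    show av (α⁻¹ * β) (k x) = g (k₁ (k x))
    rw [hk₁k x hx, av_mul _ _ (hk.mem (hZP hx)), ← hke x (hZP hx), he x hx, av_inv_av α (hg.mem hx)]
  exact ⟨β, by simpa using mul_mem hα hγ, k, hk, hke⟩

end Cfsg.Agent.Local.FS.PSolv
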