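import Cfsg.Agent.Lib.Local.FS.PSolvDescentPrimeClass

/-!
The subsystem generated by the maps of trivial class, and the factorisation of every map through it.
-/

set_option autoImplicit false

namespace Cfsg.Agent.Local.FS.PSolv

open Cfsg Cfsg.FusionSystem Cfsg.Agent.Fusion Cfsg.Agent.Local.FS

universe u

variable {Ω : Type u} [Group Ω] {S U T P Q R Z : Subgroup Ω} [Finite S] {F : FusionSystem S}
  {M : FusionSystem U} {E : FusionSystem T} {f g : Ω → Ω} {p : ℕ} [Fact p.Prime]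

/-- Generated by maps of trivial class on centric subgroups with centric trace. -/
def Gen (M : FusionSystem U) (E : FusionSystem T) (p : ℕ) (P : Subgroup Ω) (f : Ω → Ω) : Prop :=
  Map M P f ∧ ∀ K : Subgroup Ω → (Ω → Ω) → Prop, IsClosedClass M K →
    (∀ (Q : Subgroup Ω) (g : Ω → Ω), M.IsCentric Q → E.IsCentric (Q ⊓ T) → Map M Q g → Triv M E p Q g →
      K Q g) → K P f

omit [Finite S] in
theorem Gen.base (hQ : M.IsCentric Q) (hQT : E.IsCentric (Q ⊓ T)) (hg : Map M Q g) (ht : Triv M E p Q g) :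
    Gen M E p Q g :=
  ⟨hg, fun _ _ hb => hb Q g hQ hQT hg ht⟩

omit [Finite S] in
theorem Gen.congr (hf : Gen M E p P f) (he : ∀ x ∈ P, f x = g x) : Gen M E p P g :=
  ⟨hf.1.congr he, fun K hK hb => hK.congr (hf.2 K hK hb) he⟩

omit [Finite S] in
theorem Gen.restrict (hf : Gen M E p P f) (hR : R ≤ P) : Gen M E p R f :=
  ⟨hf.1.restrict hR, fun K hK hb => hK.restrict hf.1 (hf.2 K hK hb) hR⟩

omit [Finite S] in
theorem Gen.comp (hf : Gen M E p P f) (hg : Gen M E p Q g) (hm : ∀ x ∈ P, f x ∈ Q) :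
    Gen M E p P (g ∘ f) :=
  ⟨hf.1.comp hg.1 hm, fun K hK hb => hK.comp hf.1 hg.1 (hf.2 K hK hb) (hg.2 K hK hb) hm⟩

omit [Finite S] in
theorem Gen.inv (hf : Gen M E p P f) (hi : ∀ x ∈ P, g (f x) = x) : Gen M E p (im P f) g := by
  refine ⟨?_, fun K hK hb => hK.inv hf.1 (hf.2 K hK hb) hi⟩
  obtain ⟨k, hk, hkf, -, -⟩ := hf.1.exists_inv
  refine hk.congr fun y hy => ?_
  obtain ⟨x, hx, rfl⟩ := hf.1.mem_im.1 hy
  rw [hkf x hx, hi x hx]

theorem Gen.triv (hS : IsPGroup p S) (hE : E.IsNormalIn F p) (h : Good F E p M) (hf : Gen M E p P f) :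
    Triv M E p P f :=
  hf.2 _ (isClosedClass_triv hS hE h) fun _ _ _ _ _ ht => ht

theorem centric_self [Finite U] : M.IsCentric U :=
  ⟨le_rfl, fun Q hQ => by
    rw [Subgroup.eq_of_le_of_card_ge (isConj_le hQ).2 (isConj_card hQ).le]
    exact inf_le_left⟩

theorem gen_conjBy (hS : IsPGroup p S) (h : Good F E p M) (hP : P ≤ U) {s : Ω} (hs : s ∈ U) :
    Gen M E p P fun x => s * x * s⁻¹ := by
  haveI := finite_of_le h.le_S
  have hTU : T ≤ U := le_sup_left.trans h.le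
  haveI := finite_of_le (hTU.trans h.le_S)
  refine (Gen.base (Q := U) centric_self (by rw [inf_eq_right.2 hTU]; exact centric_top)
    (map_conjBy le_rfl hs) fun _ => ?_).restrict hP
  have hTM := h.normalE.1.2.2.2.1
  obtain ⟨c, hc, hcS⟩ := exists_aut_conj (P := T) (stronglyClosed_le_normalizer hTM hs)
  refine ⟨c, autS_le_autH hS h (hcS U hs), id, map_id inf_le_right, fun x hx => ?_⟩
  rw [id, hc x hx.2]

/-- The generated system. -/
def genSys (hS : IsPGroup p S) (h : Good F E p M) : FusionSystem U where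
  Hom P := {φ | φ ∈ M.Hom P ∧ Gen M E p P (fn φ)}
  le_of_mem hφ := M.le_of_mem hφ.1
  injective_of_mem hφ := M.injective_of_mem hφ.1
  conj_mem {P g} hP hg := ⟨M.conj_mem hP hg,
    (gen_conjBy hS h hP hg).congr fun x hx => by rw [fn_apply (conjHom P g) hx]; rfl⟩
  comp_mem {P Q φ ψ} hφ hψ hm := ⟨M.comp_mem hφ.1 hψ.1 hm,
    (hφ.2.comp hψ.2 fun x hx => by rw [fn_apply φ hx]; exact hm _).congr fun x hx => by
      show fn ψ (fn φ x) = _
      rw [fn_apply φ hx, fn_apply ψ (hm _), fn_apply _ hx]; rfl⟩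
  inv_mem {P φ} hφ := by
    obtain ⟨ψ, hψ, hψφ⟩ := M.inv_mem hφ.1
    refine ⟨ψ, ⟨hψ, ?_⟩, hψφ⟩
    have key : Gen M E p (im P (fn φ)) (fn ψ) := hφ.2.inv fun x hx => by
      rw [fn_apply φ hx, fn_apply ψ ⟨⟨x, hx⟩, rfl⟩, hψφ ⟨x, hx⟩]
    rwa [(map_of_mem hφ.1).im_eq_range fun x => (fn_coe φ x).symm] at key

theorem map_genSys {hS : IsPGroup p S} {h : Good F E p M} :
    Map (genSys hS h) P f ↔ Gen M E p P f := by
  constructor
  · rintro ⟨φ, hφ, he⟩
    exact hφ.2.congr fun x hx => by rw [fn_apply φ hx]; exact he ⟨x, hx⟩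
  · intro hf
    obtain ⟨φ, hφ, he⟩ := hf.1
    exact ⟨φ, ⟨hφ, hf.congr fun x hx => by rw [fn_apply φ hx]; exact (he ⟨x, hx⟩).symm⟩, he⟩

theorem genSys_sub {hS : IsPGroup p S} {h : Good F E p M} : (genSys hS h).IsSubsystemOf M :=
  fun _ _ hφ => hφ.1

/-- Automorphisms of `U` in `F` transport generated maps. -/
theorem gen_conj (hS : IsPGroup p S) (hE : E.IsNormalIn F p) (h : Good F E p M) {γ : MulAut U}
    (hγ : γ ∈ F.autGroup U) (hf : Gen M E p P f) :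
    ∃ k, Gen M E p (im P (av γ)) k ∧ ∀ x ∈ P, k (av γ x) = av γ (f x) := by
  have hUS := h.le_S
  haveI := finite_of_le hUS
  have hγm : Map F U (av γ) := map_of_mem_autGroup hUS hγ
  refine hf.2 (fun P f => ∃ k, Gen M E p (im P (av γ)) k ∧ ∀ x ∈ P, k (av γ x) = av γ (f x))
    ⟨?_, ?_, ?_, ?_⟩ ?_
  · rintro P f g ⟨k, hk, hke⟩ he
    exact ⟨k, hk, fun x hx => he x hx ▸ hke x hx⟩
  · rintro P R f - ⟨k, hk, hke⟩ hR
    exact ⟨k, hk.restrict (im_mono hR), fun x hx => hke x (hR hx)⟩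
  · rintro P Q f g hfm - ⟨k, hk, hke⟩ ⟨k', hk', hke'⟩ hm
    refine ⟨k' ∘ k, hk.comp hk' fun y hy => ?_, fun x hx => ?_⟩
    · obtain ⟨x, hx, rfl⟩ := (hγm.restrict hfm.le).mem_im.1 hy
      rw [hke x hx]
      exact mem_im_of_mem (hm x hx)
    · show k' (k (av γ x)) = av γ (g (f x))
      rw [hke x hx, hke' _ (hm x hx)]
  · rintro P f g hfm ⟨k, hk, hke⟩ hinv
    obtain ⟨k', -, hk'k, -, -⟩ := hk.1.exists_inv
    have hk' := hk.inv hk'k
    have hi : im (im P (av γ)) k = im (im P f) (av γ) := by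
      rw [← hfm.im_comp, ← (hγm.restrict hfm.le).im_comp]
      exact im_congr hke
    rw [hi] at hk'
    refine ⟨k', hk', fun y hy => ?_⟩
    obtain ⟨x, hx, rfl⟩ := hfm.mem_im.1 hy
    rw [hinv x hx, ← hke x hx, hk'k _ (mem_im_of_mem hx)]
  intro Q g hQ hQT hg ht
  have hMi := h.normal.1.2.2
  have hT := hE.1.2.2.2.1
  obtain ⟨k, hk, hke⟩ := inv_map hMi hg hγ
  have hγQ : Map F Q (av γ) := hγm.restrict hQ.1
  have hinf : im Q (av γ) ⊓ T = im (Q ⊓ T) (av γ) := by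
    refine le_antisymm (fun y hy => ?_) (le_inf (im_mono inf_le_left) (im_le_iff.2 fun x hx =>
      stronglyClosed_map hT hγQ hx.1 hx.2))
    obtain ⟨x, hx, rfl⟩ := hγQ.mem_im.1 hy.1
    refine mem_im_of_mem ⟨hx, ?_⟩
    rw [← av_inv_av γ (hQ.1 hx)]
    exact stronglyClosed_map hT (map_of_mem_autGroup hUS (inv_mem hγ)) (av_mem γ (hQ.1 hx)) hy.2
  have hTU : T ≤ U := le_sup_left.trans h.le
  obtain ⟨a, ha, hae⟩ := exists_autT hT (hγm.restrict hTU)
  obtain ⟨α, hα, g₁, hg₁, hge⟩ := ht hQT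
  obtain ⟨l, hl, hle⟩ := inv_map hE.1.2.2 hg₁ ha
  have him : im (Q ⊓ T) (av a) = im Q (av γ) ⊓ T := by
    rw [hinf]; exact im_congr fun x hx => hae x hx.2
  rw [him] at hl
  refine ⟨k, Gen.base (centric_of_sub_map hMi hQ hγQ) (by
    rw [hinf]; exact centric_of_sub_map hE.1.2.2 hQT (hγQ.restrict inf_le_left)) hk fun _ => ?_, hke⟩
  refine ⟨a * α * a⁻¹, conj_mem_autH hE h ha hα, l, hl, fun y hy => ?_⟩
  rw [hinf] at hy
  obtain ⟨x, hx, rfl⟩ := (hγQ.restrict inf_le_left).mem_im.1 hy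
  rw [hke x hx.1, hge x hx, ← hae _ (av_mem α (hg₁.mem hx)), ← hae x hx.2, hle x hx,
    av_mul _ _ (av_mem a (hg₁.mem hx)), av_inv_av a (hg₁.mem hx), av_mul _ _ (hg₁.mem hx)]

/-- A map followed by an automorphism of `U`. -/
def Dec (M : FusionSystem U) (E : FusionSystem T) (p : ℕ) (P : Subgroup Ω) (f : Ω → Ω) : Prop :=
  ∃ β ∈ M.autGroup U, ∃ x, Gen M E p P x ∧ ∀ y ∈ P, f y = av β (x y)

/-- Every map is a generated map followed by an automorphism of `U`. -/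
theorem gen_decomp (hS : IsPGroup p S) (hE : E.IsNormalIn F p) (h : Good F E p M) (hf : Map M P f) :
    Dec M E p P f := by
  have hUS := h.le_S
  haveI := finite_of_le hUS
  have hU := hS.to_le hUS
  obtain ⟨hEs, hMs, hEi⟩ := id h.normalE.1
  have hTM := hEi.2.1
  haveI := mulAut_finite_of_le hTM.1
  have hUF : ∀ {β : MulAut U}, β ∈ M.autGroup U → β ∈ F.autGroup U := fun hβ =>
    autGroup_le_of_sub h.normal.1.2.2.1 le_rfl hβ
  refine alperin hU hMs (K := Dec M E p) ⟨?_, ?_, ?_, ?_⟩ (fun R hR a ha => ?_) P f hf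
  · rintro P f g ⟨β, hβ, x, hx, he⟩ hfg
    exact ⟨β, hβ, x, hx, fun y hy => (hfg y hy).symm.trans (he y hy)⟩
  · rintro P R f - ⟨β, hβ, x, hx, he⟩ hR
    exact ⟨β, hβ, x, hx.restrict hR, fun y hy => he y (hR hy)⟩
  · rintro P Q f g hfm - ⟨β, hβ, x, hx, he⟩ ⟨β', hβ', x', hx', he'⟩ hm
    obtain ⟨k, hk, hke⟩ := gen_conj hS hE h (hUF (inv_mem hβ)) hx'
    have hxe : ∀ y ∈ P, x y = av β⁻¹ (f y) := fun y hy => by rw [he y hy, av_inv_av β (hx.1.mem hy)]
    refine ⟨β' * β, mul_mem hβ' hβ, k ∘ x, hx.comp hk fun y hy => ?_, fun y hy => ?_⟩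
    · rw [hxe y hy]; exact mem_im_of_mem (hm y hy)
    · show g (f y) = av (β' * β) (k (x y))
      rw [hxe y hy, hke _ (hm y hy), av_mul _ _ (av_mem _ (hx'.1.mem (hm y hy))),
        av_av_inv β (hx'.1.mem (hm y hy)), he' _ (hm y hy)]
  · rintro P f g hfm ⟨β, hβ, x, hx, he⟩ hinv
    obtain ⟨k, -, hkx, -, -⟩ := hx.1.exists_inv
    obtain ⟨l, hl, hle⟩ := gen_conj hS hE h (hUF hβ) (hx.inv hkx)
    have him : im (im P x) (av β) = im P f := by
      rw [← hx.1.im_comp]; exact im_congr fun y hy => (he y hy).symm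
    rw [him] at hl
    refine ⟨β⁻¹, inv_mem hβ, l, hl, fun z hz => ?_⟩
    obtain ⟨y, hy, rfl⟩ := hfm.mem_im.1 hz
    rw [hinv y hy, he y hy, hle _ (mem_im_of_mem hy), hkx y hy, av_inv_av β (hfm.le hy)]
  obtain ⟨hRc, hRr⟩ := gen_centric_radical hU hMs hR
  have hRT : E.IsCentric (R ⊓ T) := by
    by_contra hno
    exact (not_radical_of_inter_not_centric hU hMs hTM h.sub hRc hno).2 hRr
  have hRU := hRc.1
  have hTU := hTM.1
  have ham := map_of_mem_autGroup hRU ha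
  obtain ⟨α, hα, g, hg, hge⟩ := frattini_map hEi inf_le_right (ham.restrict (inf_le_left : R ⊓ T ≤ R))
  have hTfn := fn_of_sc hTM
  have hsyl := (fa_iff.1 (fc_fa_of_fn hU hMs hTfn).2).2.mono (autS_le_autH hS h) (autH_le h)
  have hnorm : M.autGroup T ≤ Subgroup.normalizer ((autH M E p : Subgroup (MulAut T)) : Set (MulAut T)) := by
    intro a ha'
    have haF : a ∈ F.autGroup T := autGroup_le_of_sub h.normal.1.2.2.1 hTU ha'
    refine Subgroup.mem_normalizer_iff.2 fun x => ⟨conj_mem_autH hE h haF, fun hx => ?_⟩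
    simpa [mul_assoc] using conj_mem_autH hE h (inv_mem haF) hx
  obtain ⟨n₀, hn₀, hnN⟩ := frattini_conj hsyl hnorm hα
  obtain ⟨n, hn⟩ : ∃ n, n = n₀ * α := ⟨_, rfl⟩
  rw [← hn] at hnN
  have hnM : n ∈ M.autGroup T := hn ▸ mul_mem (autH_le h hn₀) hα
  obtain ⟨G, hG, hGn⟩ := (receptive_iff.1 (receptive_of_fc hU hMs (fc_fa_of_fn hU hMs hTfn).1)).2 T _
    (map_of_mem_autGroup hTU hnM) (im_av n)
  have hNU : U ≤ Nf U T (av n) := by
    intro s hs
    obtain ⟨c, hc, hcS⟩ := exists_aut_conj (P := T) (stronglyClosed_le_normalizer hTM hs)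
    obtain ⟨t, htU, ht⟩ := mem_autInducedBy.1 ((Subgroup.mem_normalizer_iff.1 hnN _).1 (hcS U hs))
    refine ⟨hs, stronglyClosed_le_normalizer hTM hs, t, htU, fun x hx => ?_⟩
    have h1 := ht _ (av_mem n hx)
    rw [av_mul _ _ (av_mem n hx), av_inv_av n hx, av_mul _ _ hx, hc x hx] at h1
    exact h1
  have hGU := hG.restrict hNU
  obtain ⟨β, hβ, hβG⟩ := exists_aut hGU (Subgroup.eq_of_le_of_card_ge hGU.im_le hGU.card_im.ge)
  have hβT : ∀ x ∈ T, av β x = av n x := fun x hx => (hβG x (hTU hx)).trans (hGn x hx)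
  have hx : Map M R (av β⁻¹ ∘ av a) :=
    ham.comp (map_of_mem_autGroup (le_refl U) (inv_mem hβ)) fun y hy => ham.mem hy
  refine ⟨β, hβ, av β⁻¹ ∘ av a, Gen.base hRc hRT hx fun _ => ?_,
    fun y hy => (av_av_inv β (ham.mem hy)).symm⟩
  refine ⟨α⁻¹ * n₀⁻¹ * α, ?_, g, hg, fun y hy => ?_⟩
  · have := conj_mem_autH hE h (inv_mem (autGroup_le_of_sub h.normal.1.2.2.1 hTU hα)) (inv_mem hn₀)
    rwa [inv_inv] at this
  · show av β⁻¹ (av a y) = _
    have hgy : g y ∈ T := hg.mem hy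
    rw [hge y hy, ← av_av_inv n (av_mem α hgy), ← hβT _ (av_mem _ (av_mem α hgy)),
      av_inv_av β (hTU (av_mem _ (av_mem α hgy))), ← av_mul _ _ hgy, hn, mul_inv_rev]

end Cfsg.Agent.Local.FS.PSolv
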