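import Cfsg.Agent.Lib.Small.PSpn.Points
import Cfsg.Agent.Lib.Small.PSLn.Sylow

/-!
The standard Sylow `p`-subgroup of `Sp_{2m}(q)`, `p ∣ q`, in block form.
-/

set_option autoImplicit false
set_option linter.unusedSectionVars false

namespace Cfsg.Agent.Local.FS.PSpSimple

open Matrix Cfsg.Agent.Small.PSpn
open Cfsg.Agent.Small.PSLn (IsUT UTg mem_UTg card_UTg)

variable {F : Type*} [Field F] {m : ℕ}

local notation "Mm" => Matrix (Fin m) (Fin m) F
local notation "Gm" => Matrix.symplecticGroup (Fin m) F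
local notation "Pm" => Cfsg.PSp m F

/-- The four blocks of a symplectic matrix. -/
theorem sp_eqs (g : Gm) {A B C D : Mm} (h : g.1 = fromBlocks A B C D) :
    Aᵀ * C = Cᵀ * A ∧ Aᵀ * D - Cᵀ * B = 1 ∧ A * Bᵀ = B * Aᵀ := by
  obtain ⟨h1, -, h3⟩ := SymplecticGroup.fromBlocks_mem_iff.1 (h ▸ g.2)
  refine ⟨h1, h3, ?_⟩
  have h4 := SymplecticGroup.transpose_mem (h ▸ g.2 : fromBlocks A B C D ∈ Matrix.symplecticGroup (Fin m) F)
  rw [fromBlocks_transpose] at h4
  have := (SymplecticGroup.fromBlocks_mem_iff.1 h4).1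
  simpa using this

/-- `D ↦ diag(D⁻ᵀ, D)`. -/
noncomputable def lv : GL (Fin m) F →* Gm where
  toFun D := ⟨fromBlocks ((D⁻¹ : GL (Fin m) F) : Mm)ᵀ 0 0 D.1, by
    rw [SymplecticGroup.fromBlocks_mem_iff]; simp⟩
  map_one' := Subtype.ext (by simp)
  map_mul' a b := Subtype.ext (by simp [fromBlocks_multiply, _root_.mul_inv_rev, transpose_mul])

theorem lv_val (D : GL (Fin m) F) :
    (lv D).1 = fromBlocks ((D⁻¹ : GL (Fin m) F) : Mm)ᵀ 0 0 D.1 := rfl

open _root_.Classical in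
/-- `S ↦ (1 0; S 1)`, `1` for bad parameters. -/
noncomputable def sie (S : Mm) : Gm :=
  if h : Sᵀ = S then ⟨fromBlocks 1 0 S 1, by rw [SymplecticGroup.fromBlocks_mem_iff]; simp [h]⟩ else 1

theorem sie_val {S : Mm} (h : Sᵀ = S) : (sie S).1 = fromBlocks 1 0 S 1 := by rw [sie, dif_pos h]

theorem sie_zero : sie (0 : Mm) = 1 := Subtype.ext (by rw [sie_val (transpose_zero), fromBlocks_one]; rfl)

theorem add_symm' {S T : Mm} (hS : Sᵀ = S) (hT : Tᵀ = T) : (S + T)ᵀ = S + T := by rw [transpose_add, hS, hT]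

theorem sie_add {S T : Mm} (hS : Sᵀ = S) (hT : Tᵀ = T) : sie S * sie T = sie (S + T) :=
  Subtype.ext (by
    rw [Submonoid.coe_mul, sie_val hS, sie_val hT, sie_val (add_symm' hS hT), fromBlocks_multiply]
    simp [add_comm])

theorem neg_symm {S : Mm} (hS : Sᵀ = S) : (-S)ᵀ = -S := by rw [transpose_neg, hS]

theorem sie_neg {S : Mm} (hS : Sᵀ = S) : (sie S)⁻¹ = sie (-S) :=
  inv_eq_of_mul_eq_one_right (by rw [sie_add hS (neg_symm hS), add_neg_cancel, sie_zero])

theorem sie_inj {S T : Mm} (hS : Sᵀ = S) (hT : Tᵀ = T) (h : sie S = sie T) : S = T := by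
  have := congrArg Subtype.val h
  rw [sie_val hS, sie_val hT] at this
  exact (fromBlocks_inj.1 this).2.2.1

theorem sie_pow {S : Mm} (hS : Sᵀ = S) : ∀ k : ℕ, sie S ^ k = sie (k • S)
  | 0 => by rw [pow_zero, zero_smul, sie_zero]
  | k + 1 => by rw [pow_succ, sie_pow hS k, succ_nsmul, sie_add (by rw [transpose_smul, hS]) hS]

theorem congr_symm (D : Mm) {S : Mm} (hS : Sᵀ = S) : (D * S * Dᵀ)ᵀ = D * S * Dᵀ := by
  rw [transpose_mul, transpose_mul, transpose_transpose, hS, Matrix.mul_assoc]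

theorem lv_sie (D : GL (Fin m) F) {S : Mm} (hS : Sᵀ = S) :
    lv D * sie S * (lv D)⁻¹ = sie (D.1 * S * D.1ᵀ) := by
  rw [mul_inv_eq_iff_eq_mul]
  refine Subtype.ext ?_
  rw [Submonoid.coe_mul, Submonoid.coe_mul, sie_val hS, sie_val (congr_symm _ hS), lv_val, fromBlocks_multiply,
    fromBlocks_multiply]
  have h : D.1ᵀ * ((D⁻¹ : GL (Fin m) F) : Mm)ᵀ = 1 := by rw [← transpose_mul, Units.inv_mul, transpose_one]
  simp only [Matrix.mul_one, Matrix.zero_mul, Matrix.mul_zero, add_zero, zero_add, Matrix.one_mul,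
    Matrix.mul_assoc, h]

theorem lv_blocks (D : GL (Fin m) F) : (lv D).1.toBlocks₁₂ = 0 ∧ (lv D).1.toBlocks₂₂ = D.1 := by
  rw [lv_val]; exact ⟨toBlocks_fromBlocks₁₂ .., toBlocks_fromBlocks₂₂ ..⟩

theorem sie_blocks {S : Mm} (hS : Sᵀ = S) : (sie S).1.toBlocks₁₂ = 0 ∧ (sie S).1.toBlocks₂₂ = 1 := by
  rw [sie_val hS]; exact ⟨toBlocks_fromBlocks₁₂ .., toBlocks_fromBlocks₂₂ ..⟩

theorem low_mul {g h : Gm} (hg : g.1.toBlocks₁₂ = 0) (hh : h.1.toBlocks₁₂ = 0) :
    (g * h).1.toBlocks₁₂ = 0 ∧ (g * h).1.toBlocks₂₂ = g.1.toBlocks₂₂ * h.1.toBlocks₂₂ := by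
  have e : g.1 * h.1 = fromBlocks (g.1.toBlocks₁₁ * h.1.toBlocks₁₁) 0
      (g.1.toBlocks₂₁ * h.1.toBlocks₁₁ + g.1.toBlocks₂₂ * h.1.toBlocks₂₁)
      (g.1.toBlocks₂₂ * h.1.toBlocks₂₂) := by
    conv_lhs => rw [← fromBlocks_toBlocks g.1, ← fromBlocks_toBlocks h.1, fromBlocks_multiply, hg, hh]
    simp
  rw [Submonoid.coe_mul, e]
  exact ⟨toBlocks_fromBlocks₁₂ .., toBlocks_fromBlocks₂₂ ..⟩

theorem low_pow {g : Gm} (hg : g.1.toBlocks₁₂ = 0) :
    ∀ k : ℕ, (g ^ k).1.toBlocks₁₂ = 0 ∧ (g ^ k).1.toBlocks₂₂ = g.1.toBlocks₂₂ ^ k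
  | 0 => by
    rw [pow_zero, pow_zero, OneMemClass.coe_one, ← fromBlocks_one]
    exact ⟨toBlocks_fromBlocks₁₂ .., toBlocks_fromBlocks₂₂ ..⟩
  | k + 1 => by
    obtain ⟨h1, h2⟩ := low_pow hg k
    obtain ⟨h3, h4⟩ := low_mul h1 hg
    rw [pow_succ, pow_succ]
    exact ⟨h3, by rw [h4, h2]⟩

/-- The Siegel parabolic is Levi times radical. -/
theorem decomp {g : Gm} (hg : g.1.toBlocks₁₂ = 0) :
    ∃ (D : GL (Fin m) F) (S : Mm), Sᵀ = S ∧ g = lv D * sie S ∧ D.1 = g.1.toBlocks₂₂ := by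
  have hb := (fromBlocks_toBlocks g.1).symm
  rw [hg] at hb
  set A := g.1.toBlocks₁₁
  set C := g.1.toBlocks₂₁
  set D := g.1.toBlocks₂₂
  obtain ⟨h1, h2, -⟩ := sp_eqs g hb
  rw [Matrix.mul_zero, sub_zero] at h2
  have h2' : D * Aᵀ = 1 := mul_eq_one_comm.1 h2
  have hS : (Aᵀ * C)ᵀ = Aᵀ * C := by rw [transpose_mul, transpose_transpose, h1]
  refine ⟨⟨D, Aᵀ, h2', h2⟩, Aᵀ * C, hS, Subtype.ext ?_, rfl⟩
  rw [Submonoid.coe_mul, lv_val, sie_val hS, hb, fromBlocks_multiply]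
  simp [← Matrix.mul_assoc, h2']

/-- The radical of the Siegel parabolic. -/
noncomputable def R2 : Subgroup Gm where
  carrier := {g | ∃ S : Mm, Sᵀ = S ∧ g = sie S}
  one_mem' := ⟨0, transpose_zero, sie_zero.symm⟩
  mul_mem' := by
    rintro _ _ ⟨S, hS, rfl⟩ ⟨T, hT, rfl⟩
    exact ⟨_, add_symm' hS hT, sie_add hS hT⟩
  inv_mem' := by
    rintro _ ⟨S, hS, rfl⟩
    exact ⟨_, neg_symm hS, sie_neg hS⟩

/-- The Siegel parabolic normalizes its radical. -/
theorem conj_R2 {g : Gm} (hg : g.1.toBlocks₁₂ = 0) {x : Gm} (hx : x ∈ R2 (F := F) (m := m)) :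
    g * x * g⁻¹ ∈ R2 (F := F) (m := m) := by
  obtain ⟨D, T, hT, rfl, -⟩ := decomp hg
  obtain ⟨S, hS, rfl⟩ := hx
  refine ⟨D.1 * S * D.1ᵀ, congr_symm _ hS, ?_⟩
  rw [← lv_sie D hS, sie_neg hT |> fun h => show lv D * sie T * sie S * (lv D * sie T)⁻¹ =
    lv D * (sie T * sie S * sie (-T)) * (lv D)⁻¹ by rw [_root_.mul_inv_rev, h]; group]
  congr 2
  rw [sie_add hT hS, sie_add (add_symm' hT hS) (neg_symm hT)]
  congr 1
  abel

variable [Fintype F]

/-- The standard maximal unipotent subgroup. -/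
noncomputable def U : Subgroup Gm :=
  let M : Submonoid Gm :=
    { carrier := {g | g.1.toBlocks₁₂ = 0 ∧ IsUT g.1.toBlocks₂₂}
      one_mem' := by
        have h := sie_blocks (F := F) (m := m) transpose_zero
        rw [sie_zero] at h
        exact ⟨h.1, h.2 ▸ (one_mem (UTg m F) : (1 : Matrix.SpecialLinearGroup (Fin m) F) ∈ UTg m F)⟩
      mul_mem' := fun {g h} hg hh =>
        ⟨(low_mul hg.1 hh.1).1, (low_mul hg.1 hh.1).2 ▸ IsUT.mul hg.2 hh.2⟩ }
  { M with
    inv_mem' := fun {A} hA => by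
      classical
      obtain ⟨k, hk⟩ : ∃ k : ℕ, A⁻¹ = A ^ k :=
        ⟨orderOf A - 1, inv_eq_of_mul_eq_one_right (by
          rw [← pow_succ', Nat.sub_add_cancel (orderOf_pos A), pow_orderOf_eq_one])⟩
      rw [hk]
      exact M.pow_mem hA k }

theorem mem_U {g : Gm} : g ∈ U (F := F) (m := m) ↔ g.1.toBlocks₁₂ = 0 ∧ IsUT g.1.toBlocks₂₂ := Iff.rfl

theorem isUT_one : IsUT (1 : Mm) := (one_mem (UTg m F) : (1 : Matrix.SpecialLinearGroup (Fin m) F) ∈ UTg m F)

theorem sie_mem_U {S : Mm} (hS : Sᵀ = S) : sie S ∈ U (F := F) (m := m) :=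
  ⟨(sie_blocks hS).1, (sie_blocks hS).2 ▸ isUT_one⟩

theorem R2_le_U : R2 (F := F) (m := m) ≤ U := by
  rintro _ ⟨S, hS, rfl⟩
  exact sie_mem_U hS

variable {p : ℕ} [Fact p.Prime] [CharP F p]

theorem nsmul_char (S : Mm) : p • S = 0 := by
  ext a b
  simp

theorem sie_pel {S : Mm} (hS : Sᵀ = S) : sie S ^ p ^ 1 = 1 := by
  rw [pow_one, sie_pow hS, nsmul_char, sie_zero]

theorem isPGroup_U : IsPGroup p (U (F := F) (m := m)) := by
  rintro ⟨g, hg, hUT⟩
  have hdet : g.1.toBlocks₂₂.det = 1 := by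
    rw [Matrix.det_of_isUpperTriangular (M := g.1.toBlocks₂₂) (fun a b h => hUT.2 a b h)]
    exact Finset.prod_eq_one fun a _ => hUT.1 a
  obtain ⟨f, -, hF⟩ := FiniteField.card F p
  obtain ⟨k, hk⟩ := (IsPGroup.of_card (G := UTg m F) (p := p) (n := f * m.choose 2)
    (by rw [card_UTg, hF, ← pow_mul])) ⟨⟨_, hdet⟩, hUT⟩
  obtain ⟨h1, h2⟩ := low_pow hg (p ^ k)
  obtain ⟨D, S, hS, he, hD⟩ := decomp h1
  have hD1 : D = 1 := Units.ext (by
    rw [hD, h2]
    have := congrArg (fun x => ((x : Matrix.SpecialLinearGroup (Fin m) F) : Mm)) (congrArg Subtype.val hk)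
    exact (Matrix.SpecialLinearGroup.coe_pow _ _).symm.trans this)
  refine ⟨k + 1, Subtype.ext ?_⟩
  show g ^ p ^ (k + 1) = 1
  rw [pow_succ, pow_mul, he, hD1, map_one, one_mul]
  simpa using sie_pel hS

/-- Elements commuting with the radical lie in it up to scalars. -/
theorem commute_R2 (hm : 1 ≤ m) {g : Gm}
    (h : ∀ S : Mm, Sᵀ = S → g * sie S = sie S * g) :
    ∃ (c : F) (S : Mm), c * c = 1 ∧ Sᵀ = S ∧ g.1 = c • (sie S).1 := by
  have hb := (fromBlocks_toBlocks g.1).symm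
  set A := g.1.toBlocks₁₁
  set B := g.1.toBlocks₁₂
  set C := g.1.toBlocks₂₁
  set D := g.1.toBlocks₂₂
  obtain ⟨h1, h2, -⟩ := sp_eqs g hb
  have key : ∀ S : Mm, Sᵀ = S → A + B * S = A ∧ C + D * S = S * A + C := by
    intro S hS
    have := congrArg Subtype.val (h S hS)
    rw [Submonoid.coe_mul, Submonoid.coe_mul, sie_val hS, hb, fromBlocks_multiply, fromBlocks_multiply] at this
    obtain ⟨e1, -, e3, -⟩ := fromBlocks_inj.1 this
    simp only [Matrix.mul_one, Matrix.one_mul, Matrix.mul_zero, Matrix.zero_mul, add_zero, zero_add] at e1 e3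
    exact ⟨e1, e3⟩
  have hB : B = 0 := by simpa using (key 1 transpose_one).1
  have hDA : D = A := by
    have := (key 1 transpose_one).2
    rw [Matrix.mul_one, Matrix.one_mul, add_comm A C] at this
    exact add_left_cancel this
  have hcomm : ∀ S : Mm, Sᵀ = S → D * S = S * D := fun S hS => by
    have := (key S hS).2
    rw [← hDA, add_comm (S * D) C] at this
    exact add_left_cancel this
  let i0 : Fin m := ⟨0, hm⟩
  have hoff : ∀ a b, a ≠ b → D a b = 0 := fun a b hab => by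
    have := congrFun (congrFun (hcomm (Matrix.single b b 1) (transpose_single ..)) a) b
    rwa [Matrix.mul_single_apply_same, Matrix.single_mul_apply_of_ne _ _ _ _ _ hab, mul_one] at this
  have hdiag : ∀ a, D a a = D i0 i0 := fun a => by
    rcases eq_or_ne a i0 with rfl | ha
    · rfl
    have := congrFun (congrFun (hcomm (Matrix.single a i0 1 + Matrix.single i0 a 1)
      (by rw [transpose_add, transpose_single, transpose_single, add_comm])) a) i0
    rw [Matrix.mul_add, Matrix.add_mul, Matrix.add_apply, Matrix.add_apply, Matrix.mul_single_apply_same,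
      Matrix.mul_single_apply_of_ne _ _ _ _ _ ha.symm, Matrix.single_mul_apply_same,
      Matrix.single_mul_apply_of_ne _ _ _ _ _ ha] at this
    simpa using this
  set c := D i0 i0
  have hD : D = c • (1 : Mm) := by
    ext a b
    rcases eq_or_ne a b with rfl | hab
    · simp [hdiag a, c]
    · simp [hoff a b hab, hab]
  have hc : c * c = 1 := by
    have := congrFun (congrFun h2 i0) i0
    rw [← hDA, hB, Matrix.mul_zero, sub_zero, hD] at this
    simpa using this
  have hS : (c • C)ᵀ = c • C := by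
    have := h1
    rw [← hDA, hD, transpose_smul, transpose_one, Matrix.smul_mul, Matrix.mul_smul, Matrix.one_mul, Matrix.mul_one]
      at this
    rw [transpose_smul, ← this]
  refine ⟨c, c • C, hc, hS, ?_⟩
  rw [sie_val hS, fromBlocks_smul, smul_smul, hc, one_smul, smul_zero, ← hD, hb, hB, ← hDA]

/-- The normalizer of the maximal unipotent subgroup is triangular. -/
theorem upper_of_normalizes {g : Gm} (h : ∀ x ∈ U (F := F) (m := m), g * x * g⁻¹ ∈ U) :
    g.1.toBlocks₁₂ = 0 ∧ ∀ a b, b < a → g.1.toBlocks₂₂ a b = 0 := by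
  classical
  have hb := (fromBlocks_toBlocks g.1).symm
  set A := g.1.toBlocks₁₁
  set B := g.1.toBlocks₁₂
  set C := g.1.toBlocks₂₁
  set D := g.1.toBlocks₂₂
  obtain ⟨-, -, h3⟩ := sp_eqs g hb
  have hB : B = 0 := by
    ext a i
    have hS : (Matrix.single i i (1 : F) : Mm)ᵀ = Matrix.single i i 1 := transpose_single ..
    set E : Mm := Matrix.single i i 1
    obtain ⟨hu1, -⟩ := h _ (sie_mem_U hS)
    have := congrArg Subtype.val (show (g * sie E * g⁻¹) * g = g * sie E by group)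
    rw [Submonoid.coe_mul, Submonoid.coe_mul (x := g) (y := sie E), sie_val hS,
      ← fromBlocks_toBlocks (g * sie E * g⁻¹).1, hb, fromBlocks_multiply, fromBlocks_multiply, hu1] at this
    set P := (g * sie E * g⁻¹).1.toBlocks₁₁
    obtain ⟨e1, e2, -, -⟩ := fromBlocks_inj.1 this
    simp only [Matrix.mul_one, Matrix.zero_mul, add_zero, Matrix.mul_zero, zero_add] at e1 e2
    have e4 : B * E * Bᵀ = 0 := by
      have e5 : P * A * Bᵀ = A * Bᵀ + B * E * Bᵀ := by rw [e1, Matrix.add_mul]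
      have e6 : P * A * Bᵀ = A * Bᵀ := by rw [Matrix.mul_assoc, h3, ← Matrix.mul_assoc, e2]
      rw [e6] at e5
      exact add_eq_left.1 e5.symm
    have e7 := congrFun (congrFun e4 a) a
    rw [Matrix.mul_apply, Finset.sum_eq_single i (fun k _ hk => by
        rw [Matrix.mul_single_apply_of_ne _ _ _ _ _ hk, zero_mul]) (by simp),
      Matrix.mul_single_apply_same, mul_one, Matrix.transpose_apply, Matrix.zero_apply] at e7
    simpa using mul_self_eq_zero.1 e7
  refine ⟨hB, ?_⟩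
  obtain ⟨Dg, -, -, -, hDg⟩ := decomp (g := g) hB
  set Di : Mm := ((Dg⁻¹ : GL (Fin m) F) : Mm) with hDi
  have hiD : Di * D = 1 := by rw [hDi, show D = Dg.1 from hDg.symm, Units.inv_mul]
  have hDi' : D * Di = 1 := mul_eq_one_comm.1 hiD
  have hroot : ∀ k l : Fin m, k < l → ∀ a b, b ≤ a → D a k * Di l b = 0 := by
    intro k l hkl a b hba
    set T : GL (Fin m) F := Matrix.SpecialLinearGroup.toGL
      (Matrix.SpecialLinearGroup.transvection (ne_of_lt hkl) 1) with hT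
    have hTv : T.1 = 1 + Matrix.single k l 1 := Matrix.SpecialLinearGroup.transvection_coe (ne_of_lt hkl) 1
    have hTU : lv T ∈ U (F := F) (m := m) := by
      refine ⟨(lv_blocks T).1, ?_⟩
      rw [(lv_blocks T).2, hTv]
      refine ⟨fun r => ?_, fun r s hrs => ?_⟩
      · rw [Matrix.add_apply, Matrix.one_apply_eq, Matrix.single_apply,
          if_neg fun h => ne_of_lt hkl (h.1.trans h.2.symm), add_zero]
      · rw [Matrix.add_apply, Matrix.one_apply_ne (ne_of_gt hrs), Matrix.single_apply, if_neg fun h => ?_, add_zero]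
        rw [← h.1, ← h.2] at hrs
        exact lt_asymm hkl hrs
    have hu := h _ hTU
    have e := (low_mul hu.1 hB).2
    rw [show g * lv T * g⁻¹ * g = g * lv T by group, (low_mul hB (lv_blocks T).1).2, (lv_blocks T).2, hTv] at e
    set R := (g * lv T * g⁻¹).1.toBlocks₂₂
    have e2 : R = 1 + D * Matrix.single k l 1 * Di := by
      calc R = R * D * Di := by rw [Matrix.mul_assoc, hDi', Matrix.mul_one]
        _ = _ := by rw [← e, Matrix.mul_add, Matrix.mul_one, Matrix.add_mul, hDi']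
    have e3 := congrFun (congrFun e2 a) b
    rw [Matrix.add_apply, Matrix.mul_apply, Finset.sum_eq_single l (fun r _ hr => by
        rw [Matrix.mul_single_apply_of_ne _ _ _ _ _ hr, zero_mul]) (by simp),
      Matrix.mul_single_apply_same, mul_one] at e3
    rcases eq_or_lt_of_le hba with rfl | hlt
    · rw [show R b b = 1 from hu.2.1 b, Matrix.one_apply_eq] at e3
      exact add_eq_left.1 e3.symm
    · rw [show R a b = 0 from hu.2.2 a b hlt, Matrix.one_apply_ne (ne_of_gt hlt), zero_add] at e3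
      exact e3.symm
  have hDne : ∀ l, ∃ r, Di l r ≠ 0 ∧ D r l ≠ 0 := by
    intro l
    by_contra hno
    push Not at hno
    have h1 := congrFun (congrFun hiD l) l
    rw [Matrix.mul_apply, Matrix.one_apply_eq, Finset.sum_eq_zero fun r _ => ?_] at h1
    · exact zero_ne_one h1
    · by_cases hr : Di l r = 0
      · rw [hr, zero_mul]
      · rw [hno r hr, mul_zero]
  have hne : ∀ k, (Finset.univ.filter fun a => D a k ≠ 0).Nonempty := fun k => by
    obtain ⟨r, -, hr⟩ := hDne k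
    exact ⟨r, by simp [hr]⟩
  let r : Fin m → Fin m := fun k => (Finset.univ.filter fun a => D a k ≠ 0).max' (hne k)
  have hr : ∀ k, D (r k) k ≠ 0 := fun k => (Finset.mem_filter.1 (Finset.max'_mem _ (hne k))).2
  have hrmax : ∀ k a, D a k ≠ 0 → a ≤ r k := fun k a ha => Finset.le_max' _ _ (by simp [ha])
  have hmono : StrictMono r := by
    intro k l hkl
    obtain ⟨s, hs1, hs2⟩ := hDne l
    refine lt_of_lt_of_le ?_ (hrmax l s hs2)
    by_contra hle
    exact mul_ne_zero (hr k) hs1 (hroot k l hkl (r k) s (not_lt.1 hle))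
  intro a b hab
  by_contra hne'
  exact absurd ((hrmax b a hne').trans (hmono.le_id b)) (not_le.2 hab)

end Cfsg.Agent.Local.FS.PSpSimple
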