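import Cfsg.Agent.Lib.Local.FS.RankTwoResistant

/-!
Essential subgroups of rank-two systems for `p ≥ 5`, by the order of their `Ω₁`.
-/

set_option autoImplicit false

open scoped commutatorElement

universe u

namespace Cfsg.Agent.Local.FS.RankTwo

open Cfsg Cfsg.FusionSystem Cfsg.Agent.Fusion Cfsg.Agent.Local.FS

variable {p : ℕ} [hp : Fact p.Prime]

/-- An automorphism of `p`-power order fixes every line it stabilises. -/
theorem fix_of_line {H : Type*} [Group H] (c : MulAut H) {k : ℕ} (hck : c ^ p ^ k = 1) {u : H} (hu : u ^ p = 1)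
    (hcu : c u ∈ Subgroup.zpowers u) : c u = u := by
  rcases eq_or_ne u 1 with rfl | hu1
  · exact map_one c
  obtain ⟨i, hi⟩ := Subgroup.mem_zpowers_iff.1 hcu
  have hiter : ∀ n : ℕ, (c ^ n) u = u ^ i ^ n := by
    intro n
    induction n with
    | zero => simp
    | succ n ih => rw [pow_succ, MulAut.mul_apply, ← hi, map_zpow, ih, ← zpow_mul, ← pow_succ]
  have h := hiter (p ^ k)
  rw [hck, MulAut.one_apply] at h
  have ho : orderOf u = p := orderOf_eq_prime hu hu1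
  have h' : (1 : ℤ) ≡ i ^ p ^ k [ZMOD (p : ℤ)] := by
    have := zpow_eq_zpow_iff_modEq.1 (show u ^ (1 : ℤ) = u ^ i ^ p ^ k by rw [zpow_one]; exact h)
    rwa [ho] at this
  rw [← hi]
  conv_rhs => rw [← zpow_one u]
  rw [zpow_eq_zpow_iff_modEq, ho, ← ZMod.intCast_eq_intCast_iff]
  have h'' := (ZMod.intCast_eq_intCast_iff _ _ _).2 h'
  push_cast at h'' ⊢
  rw [ZMod.pow_card_pow] at h''
  exact h''.symm

theorem half_spec (hp3 : 3 < p) : 2 * ((p + 1) / 2) ≡ 1 [MOD p] := by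
  obtain ⟨j, hj⟩ := hp.out.odd_of_ne_two (by omega)
  rw [show 2 * ((p + 1) / 2) = 1 + p by omega]
  exact Nat.add_modEq_right

theorem not_modEq_of_lt {a b : ℕ} (hab : a < b) (hd : ¬ p ∣ b - a) : ¬ a ≡ b [MOD p] := fun h =>
  hd ((Nat.modEq_iff_dvd' hab.le).1 h)

theorem small_not_dvd (hp3 : 3 < p) {d : ℕ} (hd : d = 1 ∨ d = 2 ∨ d = 3 ∨ d = 4 ∨ d = 6) : ¬ p ∣ d := by
  intro h
  have h5 : 5 ≤ p := by
    rcases Nat.lt_or_ge p 5 with h5 | h5
    · have : p = 4 := by omega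
      subst this
      exact absurd hp.out (by norm_num)
    · exact h5
  have hle := Nat.le_of_dvd (by omega) h
  rcases hd with rfl | rfl | rfl | rfl | rfl <;> try omega
  have : p = 5 ∨ p = 6 := by omega
  rcases this with rfl | rfl
  · omega
  · exact absurd hp.out (by norm_num)

variable {Ω : Type u} [Group Ω] {S : Subgroup Ω} [Finite S] {F : FusionSystem S}

omit hp [Finite S] in
theorem exists_pow_one {E : Subgroup Ω} {x : Ω} (hx : x ∈ S) (hS : IsPGroup p S)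
    (hxn : x ∈ Subgroup.normalizer (E : Set Ω)) {a : MulAut E} (ha : ∀ z ∈ E, av a z = x * z * x⁻¹) :
    ∃ k : ℕ, a ^ p ^ k = 1 := by
  obtain ⟨k, hk⟩ := hS ⟨x, hx⟩
  refine ⟨k, aut_ext fun z hz => ?_⟩
  have h : x ^ p ^ k = 1 := congrArg Subtype.val hk
  rw [conj_pow_av hxn ha _ z hz, av_one hz, h, one_mul, inv_one, mul_one]

/-- Trivial on `C` and modulo `C` means inner, hence impossible outside the subgroup. -/
theorem action_ne_one {E : Subgroup Ω} (hE : E ≤ S) (hC : centralizerIn S E ≤ E) [Finite E] {C : Subgroup E}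
    (hD : Heis.Data p C) [C.Normal] {φ : F.autGroup E →* MulAut (E ⧸ C)}
    (hφ : ∀ (γ : F.autGroup E) (z : E), φ γ (z : E ⧸ C) = (((γ : MulAut E) z : E) : E ⧸ C))
    {y : Ω} (hy : y ∈ S) (hyE : y ∉ E) {a : F.autGroup E} (ha : ∀ z ∈ E, av (a : MulAut E) z = y * z * y⁻¹)
    (haC : ∀ c ∈ C, (a : MulAut E) c = c) : φ a ≠ 1 := by
  intro h1
  obtain ⟨g, hg⟩ := hD.inner (a : MulAut E) haC fun z => by
    rw [← QuotientGroup.eq_one_iff, QuotientGroup.mk_mul, QuotientGroup.mk_inv, ← hφ a z, h1, MulAut.one_apply,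
      mul_inv_cancel]
  have hc : (g : Ω)⁻¹ * y ∈ centralizerIn S E := by
    refine mem_centralizerIn.2 ⟨S.mul_mem (S.inv_mem (hE g.2)) hy, fun r hr => ?_⟩
    have e := ha r hr
    rw [av_apply _ hr, hg] at e
    simp only [Subgroup.coe_mul, Subgroup.coe_inv] at e
    calc r * ((g : Ω)⁻¹ * y) = (g : Ω)⁻¹ * ((g : Ω) * r * (g : Ω)⁻¹) * y := by group
      _ = (g : Ω)⁻¹ * (y * r * y⁻¹) * y := by rw [e]
      _ = (g : Ω)⁻¹ * y * r := by group
  exact hyE (by simpa using mul_mem g.2 (hC hc))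

/-- The torus closes the argument. -/
theorem torus_false (hp3 : 3 < p) (hS : IsPGroup p S) {E : Subgroup Ω} (hE : F.IsReceptive E)
    (hC : centralizerIn S E ≤ E) (hΩ : ∀ z ∈ S, z ^ p = 1 → z ∈ E) {C : Subgroup E} (hD : Heis.Data p C)
    [C.Normal] [Finite E] {φ : F.autGroup E →* MulAut (E ⧸ C)}
    (hφ : ∀ (γ : F.autGroup E) (z : E), φ γ (z : E ⧸ C) = (((γ : MulAut E) z : E) : E ⧸ C))
    {y : Ω} (hy : y ∈ S) (hyn : y ∈ Subgroup.normalizer (E : Set Ω)) (hyE : y ∉ E) (hyp : y ^ p ∈ E)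
    {a : F.autGroup E} (ha : ∀ z ∈ E, av (a : MulAut E) z = y * z * y⁻¹)
    (haC : ∀ c ∈ C, (a : MulAut E) c = c) (g : F.autGroup E)
    (hab : φ a * φ (g * a * g⁻¹) ≠ φ (g * a * g⁻¹) * φ a) : False := by
  obtain ⟨k, hk⟩ := exists_pow_one hy hS hyn ha
  have hk' : a ^ p ^ k = 1 := Subtype.ext (by simpa using hk)
  have hap : φ a ^ p = 1 := pow_eq_one_of_pgroup hD.quot_comm hD.quot_exp hD.card_quot (φ a) (k := k)
    (by rw [← map_pow, hk', map_one])
  have hao : orderOf (φ a) = p := orderOf_eq_prime hap fun h => hab (by rw [h, one_mul, mul_one])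
  obtain ⟨e, he, hae, -, -⟩ := exists_fixed_line hD.quot_comm hD.card_quot hao
  obtain ⟨α, f, hαN, hf, hαe, hαf⟩ := Torus.exists_torus hD.quot_comm hD.quot_exp hD.card_quot φ a g hap hab he hae
    (μ := 2) (ν := (p + 1) / 2) (half_spec hp3)
  have hainv : ∀ c ∈ C, ∀ γ : MulAut E, γ c ∈ C := fun c hc γ => by
    rw [hD.center_eq] at hc ⊢
    exact (Subgroup.characteristic_iff_map_eq.1 (inferInstance : (Subgroup.center E).Characteristic) γ).le
      ⟨c, hc, rfl⟩
  let K : Subgroup (F.autGroup E) :=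
    { carrier := {γ | ∀ c ∈ C, (γ : MulAut E) c = c}
      one_mem' := fun c _ => by simp
      mul_mem' := fun {γ δ} h h' c hc => by rw [Subgroup.coe_mul, MulAut.mul_apply, h' c hc, h c hc]
      inv_mem' := fun {γ} h c hc => by
        rw [Subgroup.coe_inv]
        conv_lhs => rw [← h c hc]
        exact MulAut.inv_apply_self _ _ _ }
  haveI : K.Normal := ⟨fun γ h δ c hc => by
    simp only [Subgroup.coe_mul, Subgroup.coe_inv, MulAut.mul_apply]
    rw [h _ (hainv c hc _), MulAut.apply_inv_self]⟩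
  have hαC : ∀ c ∈ C, (α : MulAut E) c = c ^ 1 := fun c hc => by
    rw [pow_one]
    exact (Subgroup.normalClosure_le_normal (Set.singleton_subset_iff.2 (show a ∈ K from haC))) hαN c hc
  refine heis_false hp3 hS hE hC hΩ hD hφ hy hyn hyE hyp ha haC hαC hao he hae hf hαe hαf
    (k := 2) (by rw [Nat.mul_comm]; exact half_spec hp3) ?_ ?_
  · exact not_modEq_of_lt (by norm_num) (small_not_dvd hp3 (Or.inr (Or.inl rfl)))
  · exact not_modEq_of_lt (by norm_num) (small_not_dvd hp3 (Or.inr (Or.inr (Or.inl rfl))))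

/-- A normal subgroup of order `p³`, exponent `p`, over an essential of order `p²`. -/
theorem cube_false (hp3 : 3 < p) (hS : IsPGroup p S) (hF : F.IsSaturated p)
    (hrk : ∀ A : Subgroup Ω, A ≤ S → IsElementaryAbelian p A → Nat.card A ≤ p ^ 2)
    {E T : Subgroup Ω} (hTS : T < S) (hCE : centralizerIn S E ≤ E) (hET : E ≤ T)
    (hTexp : ∀ t ∈ T, t ^ p = 1) (hTcard : Nat.card T = p ^ 3) {e f x : Ω} (heE : e ∈ E) (hfE : f ∈ E)
    (hgen : ∀ z ∈ E, ∃ i j : ℕ, z = e ^ i * f ^ j) (he1 : e ≠ 1) (hec : ∀ t ∈ T, e * t = t * e) (hxT : x ∈ T)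
    (hTgen : ∀ t ∈ T, ∃ z ∈ E, ∃ i : ℕ, t = z * x ^ i) (hxf : x * f ≠ f * x)
    (hrecog : ∀ y ∈ S, y * e * y⁻¹ = e → y * f * y⁻¹ ∈ E → y ∈ T)
    {G : Ω → Ω} (hG : Map F T G) (hGe : G e = e ^ 2) (hGf : G f = f ^ ((p + 1) / 2))
    (hGx : ∃ u ∈ E, G x = x ^ 4 * u) : False := by
  have hTle : T ≤ S := hTS.le
  haveI := finite_of_le hTle
  haveI := mulAut_finite_of_le hTle
  -- `T` is receptive
  have honly : ∀ Q, F.IsConj T Q → Q = T := by
    intro Q hQ
    obtain ⟨φ, hφ, hi⟩ := isConj_iff.1 hQ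
    refine Subgroup.eq_of_le_of_card_ge (fun z hz => ?_) (isConj_card hQ).le
    rw [← hi] at hz
    obtain ⟨t, ht, rfl⟩ := hφ.mem_im.1 hz
    have hp1 : φ t ^ p = 1 := by
      have : ∀ n : ℕ, φ (t ^ n) = φ t ^ n := by
        intro n
        induction n with
        | zero => simp [hφ.map_one]
        | succ n ih => rw [pow_succ, pow_succ, hφ.map_mul (pow_mem ht n) ht, ih]
      rw [← this, hTexp t ht, hφ.map_one]
    exact mem_of_exponent hp3 hS hrk hTle hTexp hTcard (hφ.mem ht) hp1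
  have hfn : F.IsFullyNormalized T := ⟨hTle, fun Q hQ => by rw [honly Q hQ]⟩
  have hrec : F.IsReceptive T := receptive_of_fc hS hF (fc_fa_of_fn hS hF hfn).1
  have hCT : centralizerIn S T ≤ T := fun z hz => hET (hCE (mem_centralizerIn.2
    ⟨(mem_centralizerIn.1 hz).1, fun w hw => (mem_centralizerIn.1 hz).2 w (hET hw)⟩))
  have hΩ : ∀ z ∈ S, z ^ p = 1 → z ∈ T := fun z hz hzp => mem_of_exponent hp3 hS hrk hTle hTexp hTcard hz hzp
  -- the action on `T / Z(T)`
  have hD := data_of_cube (H := T) (fun t => Subtype.ext (hTexp t t.2)) hTcard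
    ⟨⟨x, hxT⟩, ⟨f, hET hfE⟩, fun h => hxf (congrArg Subtype.val h)⟩
  haveI := hD.normal
  have hcV := hD.quot_comm
  have heV := hD.quot_exp
  obtain ⟨φ, hφ, -⟩ := hD.exists_quotient_action (by omega) (hS.to_le hTle) (F.autGroup T)
  obtain ⟨e', he'⟩ : ∃ e' : T, e' = ⟨e, hET heE⟩ := ⟨_, rfl⟩
  have he'C : e' ∈ Subgroup.center T :=
    Subgroup.mem_center_iff.2 fun t => Subtype.ext (by rw [he']; exact (hec t t.2).symm)
  have hcenter : ∀ c ∈ Subgroup.center T, c ∈ Subgroup.zpowers e' := fun c hc =>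
    Heis.mem_zpowers_of_cyclic hD.cyclic he'C (by rw [he']; exact fun h => he1 (congrArg Subtype.val h))
      (Subtype.ext (hTexp _ e'.2)) hc (Subtype.ext (hTexp _ c.2))
  obtain ⟨y, hy, hyn, hyT, hyp⟩ := exists_step hS hTS le_rfl
  obtain ⟨b₀, hb₀, hb₀A⟩ := exists_aut_conj hyn
  obtain ⟨b, hb⟩ : ∃ b : F.autGroup T, (b : MulAut T) = b₀ :=
    ⟨⟨b₀, autInducedBy_le_autGroup hTle (hb₀A S hy)⟩, rfl⟩
  subst hb
  obtain ⟨k, hk⟩ := exists_pow_one hy hS hyn hb₀
  have hbe : (b : MulAut T) e' = e' := fix_of_line (b : MulAut T) hk (Subtype.ext (hTexp _ e'.2)) (hcenter _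
    ((Subgroup.characteristic_iff_map_eq.1 (inferInstance : (Subgroup.center T).Characteristic) (b : MulAut T)).le
      ⟨e', he'C, rfl⟩))
  have hbC : ∀ c ∈ Subgroup.center T, (b : MulAut T) c = c := fun c hc => by
    obtain ⟨i, rfl⟩ := Subgroup.mem_zpowers_iff.1 (hcenter c hc)
    rw [map_zpow, hbe]
  have hk' : b ^ p ^ k = 1 := Subtype.ext (by simpa using hk)
  have hb1 := action_ne_one hTle hCT hD hφ hy hyT hb₀ hbC
  have hbp : φ b ^ p = 1 := pow_eq_one_of_pgroup hcV heV hD.card_quot (φ b) (k := k)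
    (by rw [← map_pow, hk', map_one])
  have hbo : orderOf (φ b) = p := orderOf_eq_prime hbp hb1
  -- the extension as an automorphism of `T`
  have hGE : ∀ z ∈ E, G z ∈ E := by
    intro z hz
    obtain ⟨i, j, rfl⟩ := hgen z hz
    have hpw : ∀ w ∈ T, ∀ n : ℕ, G (w ^ n) = G w ^ n := by
      intro w hw n
      induction n with
      | zero => simp [hG.map_one]
      | succ n ih => rw [pow_succ, pow_succ, hG.map_mul (pow_mem hw n) hw, ih]
    rw [hG.map_mul (pow_mem (hET heE) i) (pow_mem (hET hfE) j), hpw _ (hET heE), hpw _ (hET hfE), hGe, hGf]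
    exact mul_mem (pow_mem (pow_mem heE _) _) (pow_mem (pow_mem hfE _) _)
  have hGT : ∀ t ∈ T, G t ∈ T := by
    intro t ht
    obtain ⟨z, hz, i, rfl⟩ := hTgen t ht
    rw [hG.map_mul (hET hz) (pow_mem hxT i)]
    refine mul_mem (hET (hGE z hz)) ?_
    obtain ⟨u, hu, hGx⟩ := hGx
    clear ht
    induction i with
    | zero => rw [pow_zero, hG.map_one]; exact one_mem T
    | succ i ih =>
      rw [pow_succ, hG.map_mul (pow_mem hxT i) hxT, hGx]
      exact mul_mem ih (mul_mem (pow_mem hxT 4) (hET hu))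
  have him : im T G = T := Subgroup.eq_of_le_of_card_ge (im_le_iff.2 hGT) hG.card_im.ge
  obtain ⟨β₀, hβ₀A, hβ₀⟩ := exists_aut hG him
  obtain ⟨β, hβ⟩ : ∃ β : F.autGroup T, (β : MulAut T) = β₀ := ⟨⟨β₀, hβ₀A⟩, rfl⟩
  subst hβ
  have hβe : (β : MulAut T) e' = e' ^ 2 := Subtype.ext (by
    rw [← av_coe, hβ₀ _ e'.2]; simp [he', hGe])
  have hβC : ∀ c ∈ Subgroup.center T, (β : MulAut T) c = c ^ 2 := fun c hc => by
    obtain ⟨i, rfl⟩ := Subgroup.mem_zpowers_iff.1 (hcenter c hc)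
    rw [map_zpow, hβe, ← zpow_natCast e', ← zpow_mul, ← zpow_natCast (e' ^ i), ← zpow_mul, mul_comm]
  -- compare the fixed line of `b` with its image under `β`
  by_cases hcm : φ b * φ (β * b * β⁻¹) = φ (β * b * β⁻¹) * φ b
  swap
  · exact torus_false hp3 hS hrec hCT hΩ hD hφ hy hyn hyT hyp hb₀ hbC β hcm
  obtain ⟨e₁, he₁, hbe₁, -, -⟩ := exists_fixed_line hcV hD.card_quot hbo
  obtain ⟨v, hv⟩ : ∃ v : T ⧸ Subgroup.center T, v = ((⟨f, hET hfE⟩ : T) : T ⧸ Subgroup.center T) := ⟨_, rfl⟩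
  have hline : φ β e₁ ∈ Subgroup.zpowers e₁ := by
    have hψo : orderOf (φ (β * b * β⁻¹)) = p := by
      rw [map_mul, map_mul, map_inv]
      exact (orderOf_injective (MulAut.conj (φ β)).toMonoidHom (MulAut.conj (φ β)).injective (φ b)).trans hbo
    have hψ : φ (β * b * β⁻¹) (φ β e₁) = φ β e₁ := by
      rw [map_mul, map_mul, map_inv, MulAut.mul_apply, MulAut.mul_apply, MulAut.inv_apply_self, hbe₁]
    have hne : φ β e₁ ≠ 1 := fun h => he₁ ((map_eq_one_iff _ (φ β).injective).1 h)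
    have h2 : φ b (φ β e₁) ∈ Subgroup.zpowers (φ β e₁) := Torus.mem_line hcV heV hD.card_quot hψo hne hψ (by
      rw [← MulAut.mul_apply, ← hcm, MulAut.mul_apply, hψ])
    have h3 := fix_of_line (φ b) (k := 1) (by rw [pow_one]; exact hbp) (heV _) h2
    exact Torus.mem_line hcV heV hD.card_quot hbo he₁ hbe₁ h3
  have hv1 : v ≠ 1 := by
    rw [hv]
    intro h
    have := Subgroup.mem_center_iff.1 ((QuotientGroup.eq_one_iff _).1 h) ⟨x, hxT⟩
    exact hxf (congrArg Subtype.val this)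
  have hCE' : ∀ c ∈ Subgroup.center T, (c : Ω) ∈ E := fun c hc => by
    obtain ⟨i, rfl⟩ := Subgroup.mem_zpowers_iff.1 (hcenter c hc)
    rw [Subgroup.coe_zpow, he']
    exact zpow_mem heE i
  have hve : v ∉ Subgroup.zpowers e₁ := by
    intro hmem
    obtain ⟨i, hi⟩ := Subgroup.mem_zpowers_iff.1 hmem
    have hbv : φ b v = v := by rw [← hi, map_zpow, hbe₁]
    rw [hv, hφ, QuotientGroup.eq] at hbv
    obtain ⟨c, hcd⟩ : ∃ c, c = ((b : MulAut T) ⟨f, hET hfE⟩)⁻¹ * ⟨f, hET hfE⟩ := ⟨_, rfl⟩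
    rw [← hcd] at hbv
    have h1 : y * f * y⁻¹ = f * (c : Ω)⁻¹ := by
      rw [← hb₀ f (hET hfE), av_apply _ (hET hfE), hcd]
      simp
    exact hyT (hrecog y hy (by
      have h := congrArg Subtype.val hbe
      rw [← av_coe, hb₀ _ e'.2, he'] at h
      exact h) (h1 ▸ mul_mem hfE (inv_mem (hCE' c hbv))))
  have hβv : φ β v = v ^ ((p + 1) / 2) := by
    rw [hv, hφ, ← QuotientGroup.mk_pow]
    congr 1
    refine Subtype.ext ?_
    rw [← av_coe, hβ₀ _ (hET hfE)]
    simpa using hGf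
  -- modulo `⟨v⟩` the automorphism `β` is the fourth power
  have hmod : ∀ z : T ⧸ Subgroup.center T, φ β z * (z ^ 4)⁻¹ ∈ Subgroup.zpowers v := by
    let M : Subgroup (T ⧸ Subgroup.center T) :=
      { carrier := {z | φ β z * (z ^ 4)⁻¹ ∈ Subgroup.zpowers v}
        one_mem' := by simp
        mul_mem' := fun {s t} hs ht => by
          change φ β (s * t) * ((s * t) ^ 4)⁻¹ ∈ Subgroup.zpowers v
          have h := (Subgroup.zpowers v).mul_mem hs ht
          rwa [(show Commute ((s ^ 4)⁻¹) (φ β t) from hcV _ _).mul_mul_mul_comm, hcV ((s ^ 4)⁻¹) ((t ^ 4)⁻¹),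
            ← mul_inv_rev, ← (show Commute s t from hcV s t).mul_pow, ← map_mul] at h
        inv_mem' := fun {s} hs => by
          change φ β s⁻¹ * ((s⁻¹) ^ 4)⁻¹ ∈ Subgroup.zpowers v
          rw [map_inv, inv_pow, inv_inv, hcV]
          have h := (Subgroup.zpowers v).inv_mem hs
          rwa [mul_inv_rev, inv_inv] at h }
    intro z
    suffices h : z ∈ M from h
    obtain ⟨t, rfl⟩ := QuotientGroup.mk'_surjective (Subgroup.center T) z
    obtain ⟨w, hw, i, ht⟩ := hTgen t t.2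
    obtain ⟨n, m, hwe⟩ := hgen w hw
    obtain ⟨x', hx'⟩ : ∃ x' : T, x' = ⟨x, hxT⟩ := ⟨_, rfl⟩
    have ht' : t = e' ^ n * (⟨f, hET hfE⟩ : T) ^ m * x' ^ i := Subtype.ext (by
      simp [ht, hwe, he', hx'])
    rw [ht', map_mul, map_mul, map_pow, map_pow, map_pow,
      show QuotientGroup.mk' (Subgroup.center T) e' = 1 from (QuotientGroup.eq_one_iff _).2 he'C, one_pow, one_mul]
    refine mul_mem (pow_mem ?_ _) (pow_mem ?_ _)
    · change φ β (QuotientGroup.mk' _ (⟨f, hET hfE⟩ : T)) *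
        ((QuotientGroup.mk' _ (⟨f, hET hfE⟩ : T)) ^ 4)⁻¹ ∈ Subgroup.zpowers v
      rw [QuotientGroup.mk'_apply, ← hv, hβv]
      exact mul_mem (Subgroup.npow_mem_zpowers v _) (inv_mem (Subgroup.npow_mem_zpowers v _))
    · obtain ⟨u, hu, hGx⟩ := hGx
      obtain ⟨n', m', hue⟩ := hgen u hu
      change φ β (QuotientGroup.mk' _ x') * ((QuotientGroup.mk' _ x') ^ 4)⁻¹ ∈ Subgroup.zpowers v
      have hβx : (β : MulAut T) x' = x' ^ 4 * (e' ^ n' * (⟨f, hET hfE⟩ : T) ^ m') := Subtype.ext (by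
        rw [← av_coe, hβ₀ _ x'.2]
        simp [hx', he', hGx, hue])
      rw [QuotientGroup.mk'_apply, hφ, hβx, QuotientGroup.mk_mul, QuotientGroup.mk_mul, QuotientGroup.mk_pow,
        QuotientGroup.mk_pow, QuotientGroup.mk_pow, (QuotientGroup.eq_one_iff e').2 he'C, one_pow, one_mul, ← hv,
        hcV (_ ^ 4), mul_inv_cancel_right]
      exact Subgroup.npow_mem_zpowers v _
  have hβe₁ : φ β e₁ = e₁ ^ 4 := by
    rw [← mul_inv_eq_one]
    by_contra hne
    obtain ⟨i, hi⟩ := Subgroup.mem_zpowers_iff.1 (hmod e₁)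
    have h4 : φ β e₁ * (e₁ ^ 4)⁻¹ ∈ Subgroup.zpowers e₁ :=
      mul_mem hline (inv_mem (Subgroup.npow_mem_zpowers e₁ 4))
    refine hve (Subgroup.zpowers_le.1 (Subgroup.eq_of_le_of_card_ge (Subgroup.zpowers_le.2 h4) ?_ ▸
      Subgroup.zpowers_le.2 ?_))
    · rw [Nat.card_zpowers, Nat.card_zpowers, orderOf_eq_prime (heV _) he₁, orderOf_eq_prime (heV _) hne]
    · rw [Subgroup.eq_of_le_of_card_ge (Subgroup.zpowers_le.2 (hmod e₁))
        (by rw [Nat.card_zpowers, Nat.card_zpowers, orderOf_eq_prime (heV _) hv1, orderOf_eq_prime (heV _) hne])]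
      exact Subgroup.mem_zpowers v
  refine heis_false hp3 hS hrec hCT hΩ hD hφ hy hyn hyT hyp hb₀ hbC hβC hbo he₁ hbe₁ hve hβe₁ hβv
    (k := 2) (by rw [Nat.mul_comm]; exact half_spec hp3) ?_ ?_
  · exact not_modEq_of_lt (by norm_num) (small_not_dvd hp3 (Or.inr (Or.inr (Or.inr (Or.inl rfl)))))
  · exact not_modEq_of_lt (by norm_num) (small_not_dvd hp3 (Or.inr (Or.inr (Or.inr (Or.inr rfl)))))

/-- An elementary abelian centric radical subgroup of order `p²`. -/
theorem square_case (hp3 : 3 < p) (hS : IsPGroup p S) (hF : F.IsSaturated p)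
    (hrk : ∀ A : Subgroup Ω, A ≤ S → IsElementaryAbelian p A → Nat.card A ≤ p ^ 2) {E : Subgroup Ω}
    (hES : E < S) (hrec : F.IsReceptive E) (hC : centralizerIn S E ≤ E) (hR : F.IsRadical p E)
    (hEab : IsElementaryAbelian p E) (hcard : Nat.card E = p ^ 2) :
    Nat.card S = p ^ 3 ∧ Monoid.exponent S = p := by
  have hle : E ≤ S := hES.le
  haveI := finite_of_le hle
  haveI := mulAut_finite_of_le hle
  have hc : ∀ u v : E, u * v = v * u := hEab.1.is_comm.comm
  have hexp : ∀ u : E, u ^ p = 1 := fun u => Subtype.ext (hEab.2 u u.2)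
  obtain ⟨x, hx, hxn, hxE, hxp⟩ := exists_step hS hES le_rfl
  obtain ⟨a₀, ha₀, ha₀A⟩ := exists_aut_conj hxn
  obtain ⟨a, ha⟩ : ∃ a : F.autGroup E, (a : MulAut E) = a₀ :=
    ⟨⟨a₀, autInducedBy_le_autGroup hle (ha₀A S hx)⟩, rfl⟩
  subst ha
  obtain ⟨k, hk⟩ := exists_pow_one hx hS hxn ha₀
  have hap : (a : MulAut E) ^ p = 1 := pow_eq_one_of_pgroup hc hexp hcard _ hk
  have hnn := fun K hK hKp => not_mem_normal hle hC hR hx hxE (a := a) ha₀ K hK hKp
  have hker : IsPGroup p (F.autGroup E).subtype.ker := by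
    rw [Subgroup.ker_subtype]; exact IsPGroup.of_bot
  obtain ⟨g, hab⟩ := Torus.exists_noncommuting (F.autGroup E).subtype hker (a := a) hap hnn
  have hao : orderOf (a : MulAut E) = p := orderOf_eq_prime hap fun h => by
    simp only [Subgroup.coe_subtype] at hab
    exact hab (by rw [h, one_mul, mul_one])
  obtain ⟨e, he, hae, -, -⟩ := exists_fixed_line hc hcard hao
  obtain ⟨α, f, -, hf, hαe, hαf⟩ := Torus.exists_torus hc hexp hcard (F.autGroup E).subtype a g hap hab he hae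
    (μ := 2) (ν := (p + 1) / 2) (half_spec hp3)
  simp only [Subgroup.coe_subtype] at hαe hαf
  -- generators of `E`
  have hspan : ∀ z : E, ∃ i j : ℕ, z = e ^ i * f ^ j := by
    intro z
    have htop : Subgroup.zpowers e ⊔ Subgroup.zpowers f = ⊤ := by
      refine Subgroup.eq_top_of_le_card _ ?_
      obtain ⟨j, hj⟩ := IsPGroup.iff_card.1 ((IsPGroup.of_card hcard).to_subgroup
        (Subgroup.zpowers e ⊔ Subgroup.zpowers f))
      have hlt : Nat.card (Subgroup.zpowers e) < Nat.card (Subgroup.zpowers e ⊔ Subgroup.zpowers f : Subgroup E) := by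
        refine lt_of_le_of_ne (Subgroup.card_le_of_le le_sup_left) fun e' => hf ?_
        rw [Subgroup.eq_of_le_of_card_ge le_sup_left e'.ge]
        exact Subgroup.mem_sup_right (Subgroup.mem_zpowers f)
      rw [Nat.card_zpowers, orderOf_eq_prime (hexp e) he, hj] at hlt
      rw [hcard, hj]
      exact Nat.pow_le_pow_right hp.out.pos ((Nat.pow_lt_pow_iff_right hp.out.one_lt).1 (by rwa [pow_one]))
    haveI : (Subgroup.zpowers e).Normal := ⟨fun u hu v => by rw [hc v u, mul_inv_cancel_right]; exact hu⟩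
    obtain ⟨u, hu, v, hv, rfl⟩ := Subgroup.mem_sup_of_normal_left.1 (htop ▸ Subgroup.mem_top z)
    rw [← mem_powers_iff_mem_zpowers] at hu hv
    obtain ⟨i, rfl⟩ := hu
    obtain ⟨j, rfl⟩ := hv
    exact ⟨i, j, rfl⟩
  obtain ⟨t, ht⟩ := mem_powers_iff_mem_zpowers.2 (Torus.displacement hc hexp hcard hao he hae f)
  simp only at ht
  have haf : (a : MulAut E) f = e ^ t * f := by rw [ht, inv_mul_cancel_right]
  have hpw : ∀ i : ℕ, ((a : MulAut E) ^ i) e = e ∧ ((a : MulAut E) ^ i) f = e ^ (t * i) * f := by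
    intro i
    induction i with
    | zero => simp
    | succ i ih =>
      refine ⟨by rw [pow_succ', MulAut.mul_apply, ih.1, hae], ?_⟩
      rw [pow_succ', MulAut.mul_apply, ih.2, map_mul, map_pow, hae, haf, ← mul_assoc, ← pow_add, Nat.mul_succ]
  -- extend to `T`
  have heq : (α : MulAut E) * (a : MulAut E) = (a : MulAut E) ^ 4 * (α : MulAut E) := by
    refine MulEquiv.ext fun z => ?_
    obtain ⟨i, j, rfl⟩ := hspan z
    simp only [MulAut.mul_apply, map_mul, map_pow, hae, haf, hαe, hαf, (hpw 4).1, (hpw 4).2,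
      (show Commute (e ^ (t * 4)) f from hc _ _).mul_pow,
      (show Commute (e ^ t) f from hc _ _).mul_pow, ← pow_mul, ← mul_assoc, ← pow_add]
    congr 3
    rw [pow_eq_pow_iff_modEq, orderOf_eq_prime (hexp e) he, ← ZMod.natCast_eq_natCast_iff]
    have hh := (ZMod.natCast_eq_natCast_iff _ _ _).2 (half_spec (p := p) hp3)
    push_cast at hh ⊢
    linear_combination (-2 * (t : ZMod p)) * hh
  obtain ⟨G, hG, hGE, u, hu, hGx⟩ := exists_extension hrec hC α.2 hx hxn (h := x ^ 4) (S.pow_mem hx 4) fun z hz => by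
    rw [← ha₀ z hz, ← av_mul _ _ hz, heq, av_mul _ _ hz, conj_pow_av hxn ha₀ 4 _ (av_mem _ hz)]
  obtain ⟨T, hT⟩ : ∃ T : Subgroup Ω, T = E ⊔ Subgroup.zpowers x := ⟨_, rfl⟩
  rw [← hT] at hG
  have hET : E ≤ T := hT ▸ le_sup_left
  have hxT : x ∈ T := hT ▸ Subgroup.mem_sup_right (Subgroup.mem_zpowers x)
  have hTle : T ≤ S := hG.le
  haveI := finite_of_le hTle
  have hrep : ∀ z ∈ T, ∃ w ∈ E, ∃ i : ℕ, z = w * x ^ i := fun z hz => by
    obtain ⟨w, hw, i, -, e'⟩ := sup_facts hxn hxp z (hT ▸ hz)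
    exact ⟨w, hw, i, e'⟩
  have hTcard : Nat.card T = p ^ 3 := by
    obtain ⟨j, hj⟩ := IsPGroup.iff_card.1 (hS.to_le hTle)
    have h1 : Nat.card T ≤ p ^ 3 := by
      rw [hT, pow_succ' p 2, ← hcard]; exact card_sup_le hle hx hxn hxp
    have h2 : Nat.card E < Nat.card T := card_lt_of_lt
      (lt_of_le_not_ge hET fun h => hxE (h hxT)) hTle
    rw [hj] at h1 h2 ⊢
    rw [hcard] at h2
    have := (Nat.pow_le_pow_iff_right hp.out.one_lt).1 h1
    have := (Nat.pow_lt_pow_iff_right hp.out.one_lt).1 h2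
    rw [show j = 3 by omega]
  have hGe : G (e : Ω) = (e : Ω) ^ 2 := by
    rw [hGE _ e.2, av_coe, hαe]; rfl
  have hGf : G (f : Ω) = (f : Ω) ^ ((p + 1) / 2) := by
    rw [hGE _ f.2, av_coe, hαf]; rfl
  have hec : ∀ z ∈ T, (e : Ω) * z = z * e := by
    intro z hz
    obtain ⟨w, hw, i, rfl⟩ := hrep z hz
    have h1 : x * (e : Ω) * x⁻¹ = e := by rw [← ha₀ _ e.2, av_coe, hae]
    have h2 : Commute (e : Ω) x := (mul_inv_eq_iff_eq_mul.1 h1).symm
    exact ((show Commute (e : Ω) w from congrArg Subtype.val (hc e ⟨w, hw⟩)).mul_right (h2.pow_right i)).eq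
  -- `x` has order `p`
  have hGT : ∀ z ∈ T, G z ∈ T := by
    intro z hz
    obtain ⟨w, hw, i, rfl⟩ := hrep z hz
    rw [hG.map_mul (hET hw) (pow_mem hxT i)]
    refine mul_mem (hET (hGE w hw ▸ av_mem _ hw)) ?_
    clear hz
    induction i with
    | zero => rw [pow_zero, hG.map_one]; exact one_mem T
    | succ i ih =>
      rw [pow_succ, hG.map_mul (pow_mem hxT i) hxT, hGx]
      exact mul_mem ih (mul_mem (pow_mem hxT 4) (hET hu))
  let gT : T →* T := MonoidHom.mk' (fun z => ⟨G z, hGT z z.2⟩) fun s z => Subtype.ext (hG.map_mul s.2 z.2)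
  obtain ⟨e₁, he₁⟩ : ∃ e₁ : T, e₁ = ⟨(e : Ω), hET e.2⟩ := ⟨_, rfl⟩
  obtain ⟨ET, hET'⟩ : ∃ ET : Subgroup T, ET = E.subgroupOf T := ⟨_, rfl⟩
  have hmemE : ∀ z : T, z ∈ ET ↔ (z : Ω) ∈ E := fun z => by rw [hET']; exact Iff.rfl
  obtain ⟨d, hd, hxd⟩ := Heis.exists_root (T := T) (hS.to_le hTle) hp3 (Subgroup.zpowers e₁) ET
    (fun c hc' z => by
      obtain ⟨i, rfl⟩ := Subgroup.mem_zpowers_iff.1 hc'
      exact ((show Commute e₁ z from Subtype.ext (by rw [he₁]; exact hec z z.2)).zpow_left i).eq)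
    inferInstance
    (fun z hz => ⟨z, 1, Subtype.ext (hEab.2 _ ((hmemE z).1 hz)), one_mem _, (mul_one z).symm⟩)
    (by
      rw [hET', Nat.card_congr (Subgroup.subgroupOfEquivOfLe hET).toEquiv, hcard]
      exact Nat.le_mul_of_pos_right _ Nat.card_pos)
    (by
      rw [hET', Nat.card_congr (Subgroup.subgroupOfEquivOfLe hET).toEquiv, hT]
      exact card_sup_le hle hx hxn hxp)
    (by subst hT; exact hET' ▸ commutator_sup_le hxn hxp)
    (y := ⟨x, hxT⟩) ((hmemE _).2 (by simpa using hxp)) (w := 1) (one_pow p) (fun i _ => one_zpow i)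
    (fun z hz hcomm => by
      have hzE := (hmemE z).1 hz
      have hfix : (a : MulAut E) ⟨(z : Ω), hzE⟩ = ⟨(z : Ω), hzE⟩ := by
        refine Subtype.ext ?_
        rw [← av_coe, ha₀ _ hzE]
        have h : x * (z : Ω) = z * x := congrArg Subtype.val hcomm
        rw [h, mul_inv_cancel_right]
      obtain ⟨i, hi⟩ := Subgroup.mem_zpowers_iff.1 (Torus.mem_line hc hexp hcard hao he hae hfix)
      refine ⟨0, z, ⟨i, Subtype.ext ?_⟩, by simp⟩
      have := congrArg Subtype.val hi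
      simpa [he₁] using this)
    gT (r := 5) (l := 2) (m := 4) ⟨1, one_mem _, by simp⟩
    (fun c hc' => by
      obtain ⟨i, rfl⟩ := Subgroup.mem_zpowers_iff.1 hc'
      rw [map_zpow]
      have h : gT e₁ = e₁ ^ 2 := by
        refine Subtype.ext ?_
        show G (e₁ : Ω) = _
        rw [he₁]; exact hGe
      rw [h, ← zpow_natCast e₁, ← zpow_mul, ← zpow_natCast (e₁ ^ i), ← zpow_mul, mul_comm])
    ⟨⟨u, hET hu⟩, (hmemE _).2 hu, Subtype.ext (by show G x = _; rw [hGx]; simp)⟩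
    (fun h => not_modEq_of_lt (by norm_num) (small_not_dvd hp3 (Or.inl rfl)) h.symm)
    (not_modEq_of_lt (by norm_num) (small_not_dvd hp3 (Or.inr (Or.inl rfl))))
  have hxp1 : x ^ p = 1 := by
    have h1 : x ^ p = (d : Ω) ^ p := by simpa using congrArg Subtype.val hxd
    rw [h1]
    obtain ⟨i, rfl⟩ := Subgroup.mem_zpowers_iff.1 hd
    rw [Subgroup.coe_zpow, he₁]
    exact hEab.2 _ (zpow_mem e.2 i)
  have hTexp : ∀ z ∈ T, z ^ p = 1 := by
    intro z hz
    obtain ⟨w, hw, i, rfl⟩ := hrep z hz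
    have hsc : SmallClass p T := smallClass_of_card_le hp3 (hS.to_le hTle)
      (hTcard ▸ Nat.pow_le_pow_right hp.out.pos (by norm_num))
    have := mul_pow_eq_one hsc (x := (⟨w, hET hw⟩ : T)) (y := ⟨x ^ i, pow_mem hxT i⟩)
      (Subtype.ext (hEab.2 w hw)) (Subtype.ext (by simp only [SubmonoidClass.coe_pow, OneMemClass.coe_one]; rw [← pow_mul, Nat.mul_comm i p, pow_mul, hxp1, one_pow]))
    simpa using congrArg Subtype.val this
  rcases hTle.eq_or_lt with hTS | hTS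
  · subst hTS
    refine ⟨hTcard, ?_⟩
    rcases (Nat.dvd_prime hp.out).1 (Monoid.exponent_dvd_of_forall_pow_eq_one fun z : T => Subtype.ext (hTexp z z.2))
      with h | h
    · exfalso
      have h1 := Monoid.pow_exponent_eq_one (⟨(e : Ω), hET e.2⟩ : T)
      rw [h, pow_one] at h1
      exact he (Subtype.ext (congrArg Subtype.val h1 : (e : Ω) = 1))
    · exact h
  exfalso
  refine cube_false hp3 hS hF hrk hTS hC hET hTexp hTcard e.2 f.2 ?_ (fun h => he (Subtype.ext h)) hec hxT hrep ?_ ?_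
    hG hGe hGf ⟨u, hu, hGx⟩
  · intro z hz
    obtain ⟨i, j, h⟩ := hspan ⟨z, hz⟩
    exact ⟨i, j, by simpa using congrArg Subtype.val h⟩
  · intro h
    refine hf (Torus.mem_line hc hexp hcard hao he hae (Subtype.ext ?_))
    rw [← av_coe, ha₀ _ f.2, h, mul_inv_cancel_right]
  · intro y hy hye hyf
    have hyn : y ∈ Subgroup.normalizer (E : Set Ω) := mem_normalizer_of_conj_mem hle fun z hz => by
      obtain ⟨i, j, h⟩ := hspan ⟨z, hz⟩
      have h' : z = (e : Ω) ^ i * (f : Ω) ^ j := by simpa using congrArg Subtype.val h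
      rw [h', show y * ((e : Ω) ^ i * (f : Ω) ^ j) * y⁻¹ = (y * (e : Ω) ^ i * y⁻¹) * (y * (f : Ω) ^ j * y⁻¹) by group,
        ← conj_pow, ← conj_pow, hye]
      exact mul_mem (pow_mem e.2 i) (pow_mem hyf j)
    obtain ⟨c, hcc, -⟩ := exists_aut_conj hyn
    have hce : c e = e := Subtype.ext (by rw [← av_coe, hcc _ e.2, hye])
    obtain ⟨kc, hkc⟩ := exists_pow_one hy hS hyn hcc
    have hcp : c ^ p = 1 := pow_eq_one_of_pgroup hc hexp hcard c hkc
    obtain ⟨n, hn⟩ : ∃ n : ℕ, c = (a : MulAut E) ^ n := by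
      by_cases hc1 : c = 1
      · exact ⟨0, by rw [hc1, pow_zero]⟩
      obtain ⟨i, hi⟩ := mem_powers_iff_mem_zpowers.2
        (Torus.displacement hc hexp hcard (orderOf_eq_prime hcp hc1) he hce f)
      simp only at hi
      obtain ⟨n, hn1, hn2⟩ := Torus.exists_pow hc hexp hcard hao he hae hf i
      refine ⟨n, MulEquiv.ext fun z => ?_⟩
      obtain ⟨r, s, rfl⟩ := hspan z
      rw [map_mul, map_pow, map_pow, hce, show c f = e ^ i * f by rw [hi, inv_mul_cancel_right], map_mul,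
        map_pow, map_pow, hn1, hn2]
    have hmem : (x ^ n)⁻¹ * y ∈ centralizerIn S E := by
      refine mem_centralizerIn.2 ⟨S.mul_mem (S.inv_mem (S.pow_mem hx n)) hy, fun r hr => ?_⟩
      have h1 := hcc r hr
      rw [hn, conj_pow_av hxn ha₀ n r hr] at h1
      calc r * ((x ^ n)⁻¹ * y) = (x ^ n)⁻¹ * (x ^ n * r * (x ^ n)⁻¹) * y := by group
        _ = (x ^ n)⁻¹ * (y * r * y⁻¹) * y := by rw [h1]
        _ = (x ^ n)⁻¹ * y * r := by group
    have := mul_mem (pow_mem hxT n) (hET (hC hmem))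
    simpa using this

end Cfsg.Agent.Local.FS.RankTwo
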