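import Cfsg.Agent.Lib.Solv.MaxThree
import Cfsg.Agent.Lib.Local.FS.RankTwoEssential
import Cfsg.Agent.Lib.Local.FS.EssentialCube

/-!
Pearls at the prime `3`: elements of order `3` with small centralizers.
-/

set_option autoImplicit false
set_option linter.style.haveILetI false
set_option linter.unusedSectionVars false

open scoped commutatorElement

namespace Cfsg.Agent.Local.FS.PearlThree

open Cfsg Cfsg.FusionSystem Cfsg.Agent.Local.FS Cfsg.Agent.Solv Cfsg.Agent.Solv.PolySeq

section Group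

variable {X : Type*} [Group X] [Finite X] [Fact (Nat.Prime 3)]

/-- A centric elementary subgroup of order `9`. -/
theorem small_of_square (hX : IsPGroup 3 X) [Nontrivial X] {E : Subgroup X} (hcard : Nat.card E = 9)
    (hexp : ∀ z ∈ E, z ^ 3 = 1) (hC : Subgroup.centralizer (E : Set X) ≤ E) (hne : E ≠ ⊤) :
    ∃ x : X, x ^ 3 = 1 ∧ Nat.card (Subgroup.centralizer ({x} : Set X)) ≤ 9 := by
  have hZE : Subgroup.center X ≤ E := (Subgroup.center_le_centralizer _).trans hC
  obtain ⟨x, hx, hxZ⟩ : ∃ x ∈ E, x ∉ Subgroup.center X := by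
    refine SetLike.not_le_iff_exists.1 fun hle => hne (top_le_iff.1 ?_)
    exact le_trans (fun g _ => Subgroup.mem_centralizer_iff.2 fun e he =>
      (Subgroup.mem_center_iff.1 (hle he) g).symm) hC
  have hlt : Subgroup.center X < Subgroup.zpowers x ⊔ Subgroup.center X :=
    lt_of_le_of_ne le_sup_right fun e => hxZ (e.symm ▸ Subgroup.mem_sup_left (Subgroup.mem_zpowers x))
  have hZ3 : 3 ≤ Nat.card (Subgroup.center X) := by
    haveI := hX.center_nontrivial
    have h := MaxC.p_mul_card_le_of_lt hX (bot_lt_iff_ne_bot.2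
      ((Subgroup.nontrivial_iff_ne_bot (Subgroup.center X)).1 inferInstance))
    rwa [Subgroup.card_bot, mul_one] at h
  have heq : Subgroup.zpowers x ⊔ Subgroup.center X = E := by
    refine Subgroup.eq_of_le_of_card_ge (sup_le (Subgroup.zpowers_le.2 hx) hZE) ?_
    have h := MaxC.p_mul_card_le_of_lt hX hlt
    omega
  refine ⟨x, hexp x hx, le_trans (Subgroup.card_le_of_le ?_) hcard.le⟩
  intro y hy
  refine hC (Subgroup.mem_centralizer_iff.2 fun e he => ?_)
  rw [← heq] at he
  have hle : Subgroup.zpowers x ⊔ Subgroup.center X ≤ Subgroup.centralizer ({y} : Set X) := sup_le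
    (Subgroup.zpowers_le.2 (Subgroup.mem_centralizer_singleton_iff.2
      (Subgroup.mem_centralizer_singleton_iff.1 hy).symm))
    (Subgroup.center_le_centralizer _)
  exact Subgroup.mem_centralizer_singleton_iff.1 (hle he)

/-- A centric subgroup of order `27` and exponent `3` in a group of maximal class. -/
theorem small_of_cube {n : ℕ} (h : MaxC.IsMax X 3 n) (h4 : 4 ≤ n) {E : Subgroup X} (hcard : Nat.card E = 27)
    (hexp : ∀ z ∈ E, z ^ 3 = 1) (hna : ¬ IsMulCommutative E) (hC : Subgroup.centralizer (E : Set X) ≤ E) :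
    ∃ x : X, x ^ 3 = 1 ∧ Nat.card (Subgroup.centralizer ({x} : Set X)) ≤ 9 := by
  obtain ⟨a, b, hab⟩ : ∃ a b : E, a * b ≠ b * a := by
    by_contra hh; push Not at hh; exact hna ⟨⟨hh⟩⟩
  set Z := Subgroup.center X with hZ
  have hZ3 : Nat.card Z = 3 := h.center_card (by omega)
  have hZE : Z ≤ E := (Subgroup.center_le_centralizer _).trans hC
  -- the centre of `E` is `Z`, so commutator pairings are onto
  set T : Subgroup X := Subgroup.closure {(a : X), (b : X)} with hT
  have hTE : T = E := by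
    have hle : T ≤ E := (Subgroup.closure_le E).2
      (Set.insert_subset a.2 (Set.singleton_subset_iff.2 b.2))
    refine Subgroup.eq_of_le_of_card_ge hle ?_
    have hnab : ¬ IsMulCommutative T := fun hc => by
      have h := hc.is_comm.comm (⟨(a : X), Subgroup.subset_closure (Or.inl rfl)⟩ : T)
        ⟨(b : X), Subgroup.subset_closure (Or.inr rfl)⟩
      exact hab (Subtype.ext (congrArg (fun z : T => (z : X)) h))
    obtain ⟨k, hk, hTk⟩ := (Nat.dvd_prime_pow Nat.prime_three).1
      (show Nat.card T ∣ 3 ^ 3 by rw [show 3 ^ 3 = Nat.card E by rw [hcard]; norm_num]; exact Subgroup.card_dvd_of_le hle)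
    rw [hcard, hTk]
    by_contra h3
    apply hnab
    have hk2 : k ≤ 2 := by
      by_contra hh; apply h3; rw [show k = 3 by omega]; norm_num
    interval_cases k
    · rw [pow_zero] at hTk
      haveI := (Nat.card_eq_one_iff_unique.1 hTk).1
      exact ⟨⟨fun u v => Subsingleton.elim _ _⟩⟩
    · haveI : IsCyclic T := isCyclic_of_prime_card (p := 3) (by simpa using hTk)
      exact ⟨⟨fun u v => IsCyclic.commGroup.mul_comm u v⟩⟩
    · exact IsPGroup.isMulCommutative_of_card_eq_prime_sq (p := 3) hTk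
  -- elements centralising `E` modulo the centre lie in `E`
  have hin : ∀ u : X, (∀ w ∈ E, ⁅u, w⁆ ∈ Z) → u ∈ E := by
    intro u hu
    obtain ⟨z, hz⟩ : ∃ z, z = ⁅(b : X), (a : X)⁆ := ⟨_, rfl⟩
    have hzZ : z ∈ Z := by
      -- `[E, E]` is central: `E` modulo `Z` has order `9`
      have hq : IsMulCommutative (E ⧸ Z.subgroupOf E) := by
        refine IsPGroup.isMulCommutative_of_card_eq_prime_sq (p := 3) ?_
        have h1 := Subgroup.card_eq_card_quotient_mul_card_subgroup (Z.subgroupOf E)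
        rw [Nat.card_congr (Subgroup.subgroupOfEquivOfLe hZE).toEquiv, hcard, hZ3] at h1
        omega
      have h1 := (QuotientGroup.eq_one_iff (N := Z.subgroupOf E) ⁅b, a⁆).1 (by
        show QuotientGroup.mk' _ ⁅b, a⁆ = 1
        rw [map_commutatorElement, commutatorElement_eq_one_iff_mul_comm]
        exact hq.is_comm.comm _ _)
      rw [hz]
      exact h1
    have hz1 : z ≠ 1 := fun e => hab (Subtype.ext
      (commutatorElement_eq_one_iff_mul_comm.1 (hz ▸ e)).symm)
    have hgen : Z = Subgroup.zpowers z := (Subgroup.eq_of_le_of_card_ge (Subgroup.zpowers_le.2 hzZ) (by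
      rw [hZ3, Nat.card_zpowers, orderOf_eq_prime (hexp z (hZE hzZ)) hz1])).symm
    have hc : ∀ g : X, z * g = g * z := fun g => (Subgroup.mem_center_iff.1 hzZ g).symm
    obtain ⟨i, hi⟩ := Subgroup.mem_zpowers_iff.1 (hgen.le (hu a a.2))
    obtain ⟨j, hj⟩ := Subgroup.mem_zpowers_iff.1 (hgen.le (hu b b.2))
    -- conjugation by `b ^ k` on `a`, and by `a ^ k` on `b`
    have conjz : ∀ (x y : X) (c : X), (∀ g, c * g = g * c) → x * y * x⁻¹ = c * y →
        ∀ k : ℤ, x ^ k * y * (x ^ k)⁻¹ = c ^ k * y := by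
      intro x y c hcc e k
      have hcx : Commute c x := hcc x
      induction k using Int.induction_on with
      | zero => simp
      | succ m ih =>
        calc x ^ ((m : ℤ) + 1) * y * (x ^ ((m : ℤ) + 1))⁻¹
            = x * (x ^ (m : ℤ) * y * (x ^ (m : ℤ))⁻¹) * x⁻¹ := by group
          _ = x * (c ^ (m : ℤ) * y) * x⁻¹ := by rw [ih]
          _ = c ^ (m : ℤ) * (x * y * x⁻¹) := by rw [← mul_assoc x, ((hcx.symm).zpow_right (m : ℤ)).eq]; group
          _ = _ := by rw [e, ← mul_assoc, zpow_add_one]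
      | pred m ih =>
        have e' : x⁻¹ * y * x = c⁻¹ * y := by
          calc x⁻¹ * y * x = x⁻¹ * (c⁻¹ * (x * y * x⁻¹)) * x := by rw [e]; group
            _ = c⁻¹ * y := by rw [← mul_assoc x⁻¹, ((hcx.inv_left).symm.inv_left).eq]; group
        calc x ^ (-(m : ℤ) - 1) * y * (x ^ (-(m : ℤ) - 1))⁻¹
            = x⁻¹ * (x ^ (-(m : ℤ)) * y * (x ^ (-(m : ℤ)))⁻¹) * x := by group
          _ = x⁻¹ * (c ^ (-(m : ℤ)) * y) * x := by rw [ih]
          _ = c ^ (-(m : ℤ)) * (x⁻¹ * y * x) := by
            rw [← mul_assoc x⁻¹, ((hcx.symm.inv_left).zpow_right (-(m : ℤ))).eq]; group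
          _ = _ := by rw [e', ← mul_assoc, zpow_sub_one]
    have hba : (b : X) * a * (b : X)⁻¹ = z * a := by rw [hz, commutatorElement_def]; group
    have hab' : (a : X) * b * (a : X)⁻¹ = z⁻¹ * b := by rw [hz, commutatorElement_inv, commutatorElement_def]; group
    have hua : u * a * u⁻¹ = z ^ i * a := by rw [hi, commutatorElement_def]; group
    have hub : u * b * u⁻¹ = z ^ j * b := by rw [hj, commutatorElement_def]; group
    obtain ⟨e, he⟩ : ∃ e, e = (a : X) ^ (-j) * (b : X) ^ i := ⟨_, rfl⟩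
    have heE : e ∈ E := he ▸ mul_mem (zpow_mem a.2 _) (zpow_mem b.2 _)
    have hea : e * a * e⁻¹ = z ^ i * a := by
      rw [he]
      calc (a : X) ^ (-j) * (b : X) ^ i * a * ((a : X) ^ (-j) * (b : X) ^ i)⁻¹
          = (a : X) ^ (-j) * ((b : X) ^ i * a * ((b : X) ^ i)⁻¹) * ((a : X) ^ (-j))⁻¹ := by group
        _ = (a : X) ^ (-j) * (z ^ i * a) * ((a : X) ^ (-j))⁻¹ := by rw [conjz _ _ z hc hba i]
        _ = z ^ i * a := by
          rw [← mul_assoc, ((show Commute ((a : X) ^ (-j)) (z ^ i) from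
            ((show Commute (a : X) z from (hc a).symm).zpow_zpow (-j) i))).eq]
          group
    have heb : e * b * e⁻¹ = z ^ j * b := by
      rw [he]
      calc (a : X) ^ (-j) * (b : X) ^ i * b * ((a : X) ^ (-j) * (b : X) ^ i)⁻¹
          = (a : X) ^ (-j) * b * ((a : X) ^ (-j))⁻¹ := by group
        _ = (z⁻¹) ^ (-j) * b := conjz _ _ z⁻¹ (fun g => ((show Commute z g from hc g).inv_left).eq) hab' (-j)
        _ = z ^ j * b := by rw [inv_zpow, zpow_neg, inv_inv]
    have hcent : e⁻¹ * u ∈ Subgroup.centralizer (E : Set X) := by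
      rw [← hTE, hT, Subgroup.centralizer_closure, Subgroup.mem_centralizer_iff]
      intro w hw
      have key : e * w * e⁻¹ = u * w * u⁻¹ := by
        rcases hw with rfl | rfl
        · rw [hea, hua]
        · rw [heb, hub]
      calc w * (e⁻¹ * u) = e⁻¹ * (e * w * e⁻¹) * u := by group
        _ = e⁻¹ * (u * w * u⁻¹) * u := by rw [key]
        _ = e⁻¹ * u * w := by group
    simpa using mul_mem heE (hC hcent)
  -- the second centre
  set L := F X (n - 2) with hL
  have hLn : L.Normal := F_normal _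
  have hFZ : F X (n - 1) = Z := (h.center_eq (by omega)).symm
  have hL9 : Nat.card L = 9 := by
    rw [hL, h.F_card (by omega) (by omega), show n - (n - 2) = 2 by omega]; norm_num
  have hLc : ∀ u ∈ L, ∀ w : X, ⁅u, w⁆ ∈ Z := fun u hu w => by
    rw [← hFZ, show n - 1 = n - 2 + 1 by omega]
    exact F_commutator hu (show w ∈ F X 1 from Subgroup.mem_top w)
  have hLE : L ≤ E := fun u hu => hin u fun w _ => hLc u hu w
  obtain ⟨x, hx, hxL⟩ : ∃ x ∈ E, x ∉ L := SetLike.not_le_iff_exists.1 fun hle => by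
    have := Subgroup.card_le_of_le hle
    omega
  have hE : L ⊔ Subgroup.zpowers x = E := by
    refine Subgroup.eq_of_le_of_card_ge (sup_le hLE (Subgroup.zpowers_le.2 hx)) ?_
    have := MaxC.p_mul_card_le_of_lt h.isPGroup (show L < L ⊔ Subgroup.zpowers x from
      lt_of_le_of_ne le_sup_left fun e => hxL (e.symm ▸ Subgroup.mem_sup_right (Subgroup.mem_zpowers x)))
    omega
  refine ⟨x, hexp x hx, ?_⟩
  have hCE : Subgroup.centralizer ({x} : Set X) ≤ E := by
    intro y hy
    have hyx := Subgroup.mem_centralizer_singleton_iff.1 hy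
    refine hin y ?_
    let K : Subgroup X :=
      { carrier := {w | ⁅y, w⁆ ∈ Z}
        one_mem' := by simp [Subgroup.one_mem]
        mul_mem' := by
          intro c d hc hd
          show ⁅y, c * d⁆ ∈ Z
          rw [show ⁅y, c * d⁆ = ⁅y, c⁆ * (c * ⁅y, d⁆ * c⁻¹) by simp only [commutatorElement_def]; group]
          exact mul_mem hc (Subgroup.Normal.conj_mem inferInstance _ hd c)
        inv_mem' := by
          intro c hc
          show ⁅y, c⁻¹⁆ ∈ Z
          rw [show ⁅y, c⁻¹⁆ = c⁻¹ * ⁅y, c⁆⁻¹ * c⁻¹⁻¹ by simp only [commutatorElement_def]; group]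
          exact Subgroup.Normal.conj_mem inferInstance _ (inv_mem hc) _ }
    have hle : L ⊔ Subgroup.zpowers x ≤ K := sup_le
      (fun u hu => show ⁅y, u⁆ ∈ Z by rw [← commutatorElement_inv]; exact inv_mem (hLc u hu y))
      (Subgroup.zpowers_le.2 (show ⁅y, x⁆ ∈ Z by
        rw [commutatorElement_eq_one_iff_mul_comm.2 hyx]; exact one_mem _))
    exact fun w hw => hle (hE.ge hw)
  by_contra hgt
  have hall : Subgroup.centralizer ({x} : Set X) = E := by
    refine Subgroup.eq_of_le_of_card_ge hCE ?_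
    obtain ⟨k, -, hk⟩ := (Nat.dvd_prime_pow Nat.prime_three).1
      (show Nat.card (Subgroup.centralizer ({x} : Set X)) ∣ 3 ^ 3 by
        rw [show 3 ^ 3 = Nat.card E by rw [hcard]; norm_num]; exact Subgroup.card_dvd_of_le hCE)
    rw [hcard, hk]
    have : 3 ≤ k := by
      by_contra hh; apply hgt; rw [hk]
      exact (Nat.pow_le_pow_right (by norm_num) (show k ≤ 2 by omega)).trans (by norm_num)
    exact le_trans (by norm_num) (Nat.pow_le_pow_right (show 3 > 0 by norm_num) this)
  -- then `x` is central in `E`, hence in `Z ≤ L`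
  have hxc : x ∈ Subgroup.centralizer (E : Set X) := Subgroup.mem_centralizer_iff.2 fun w hw =>
    Subgroup.mem_centralizer_singleton_iff.1 (hall.ge hw)
  -- the centre of `E` has order `3`
  have hxZ : x ∈ Z := by
    by_contra hxn
    have hlt : Z < Z ⊔ Subgroup.zpowers x :=
      lt_of_le_of_ne le_sup_left fun e => hxn (e.symm ▸ Subgroup.mem_sup_right (Subgroup.mem_zpowers x))
    set M := Z ⊔ Subgroup.zpowers x with hM
    have hME : M ≤ E := sup_le hZE (Subgroup.zpowers_le.2 hx)
    have hM9 : 9 ≤ Nat.card M := by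
      have := MaxC.p_mul_card_le_of_lt h.isPGroup hlt
      omega
    have hMc : ∀ m ∈ M, ∀ w ∈ E, w * m = m * w := by
      intro m hm w hw
      have hle : M ≤ Subgroup.centralizer (E : Set X) :=
        sup_le (Subgroup.center_le_centralizer _) (Subgroup.zpowers_le.2 hxc)
      exact Subgroup.mem_centralizer_iff.1 (hle hm) w hw
    have hMz : M.subgroupOf E ≤ Subgroup.center E := fun m hm =>
      Subgroup.mem_center_iff.2 fun w => Subtype.ext (hMc m hm w w.2)
    have hidx : Nat.card (E ⧸ Subgroup.center E) ≤ 3 := by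
      have h1 := (Subgroup.center E).card_mul_index
      have h2 := Subgroup.card_le_of_le hMz
      rw [Nat.card_congr (Subgroup.subgroupOfEquivOfLe hME).toEquiv] at h2
      rw [hcard, Subgroup.index_eq_card] at h1
      nlinarith
    haveI : IsCyclic (E ⧸ Subgroup.center E) := by
      have hd : Nat.card (E ⧸ Subgroup.center E) ∣ 3 ^ 3 := by
        rw [show 3 ^ 3 = Nat.card E by rw [hcard]; norm_num]
        exact Subgroup.card_quotient_dvd_card _
      obtain ⟨k, hk, hk'⟩ := (Nat.dvd_prime_pow Nat.prime_three).1 hd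
      rw [hk'] at hidx
      have : k ≤ 1 := by
        by_contra hh
        have := (Nat.pow_le_pow_right (show 3 > 0 by norm_num) (show 2 ≤ k by omega)).trans hidx
        norm_num at this
      interval_cases k
      · haveI := (Nat.card_eq_one_iff_unique.1 (by simpa using hk')).1; infer_instance
      · exact isCyclic_of_prime_card (p := 3) (by simpa using hk')
    exact hab (((QuotientGroup.mk' (Subgroup.center E)).isMulCommutative_of_isCyclic_of_ker_le_center
      (QuotientGroup.ker_mk' _).le).is_comm.comm a b)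
  exact hxL (F_antitone (show n - 2 ≤ n - 1 by omega) (hFZ.symm ▸ hxZ))

end Group

section Fusion

variable {Ω : Type*} [Group Ω] {S : Subgroup Ω} [Finite S] {F : FusionSystem S} [Fact (Nat.Prime 3)]

/-- An essential non-abelian subgroup of order `27` has exponent `3`. -/
theorem cube_exponent {E : Subgroup Ω} (hES : E ≤ S) (hE : F.IsEssential 3 E) (hcard : Nat.card E = 27)
    (hna : ¬ IsMulCommutative E) : ∀ z ∈ E, z ^ 3 = 1 := by
  haveI := finite_of_le hES
  haveI := mulAut_finite_of_le hES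
  obtain ⟨-, -, hn, M, hM⟩ := hE
  rcases order_cube_cases (H := E) (p := 3) (by rw [hcard]; norm_num) with
    ⟨Z, N, hZc, hNc, hZN, hZ, hN⟩ | ⟨hab, -⟩ | ⟨-, -, hexp⟩ | ⟨h32, -⟩
  · exfalso
    haveI := hZc; haveI := hNc
    have h1 := isPGroup_commutator (IsPGroup.of_card (show Nat.card E = 3 ^ 3 by rw [hcard]; norm_num))
      Z N hZN hZ hN (by rw [hcard]; norm_num)
    haveI := hn
    refine not_stronglyPEmbedded (p := 3) ?_ hM
    set π := QuotientGroup.mk' ((Inn E).subgroupOf (F.autGroup E))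
    have h2 : IsPGroup 3 (commutator (F.autGroup E)) := by
      refine IsPGroup.of_equiv (h1.to_le ?_) ((commutator (F.autGroup E)).equivMapOfInjective
        (F.autGroup E).subtype (F.autGroup E).subtype_injective).symm
      rw [commutator_def, Subgroup.map_commutator]
      exact Subgroup.commutator_mono le_top le_top
    have h3 : commutator (F.autGroup E ⧸ (Inn E).subgroupOf (F.autGroup E)) =
        (commutator (F.autGroup E)).map π := by
      rw [commutator_def, commutator_def, Subgroup.map_commutator,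
        Subgroup.map_top_of_surjective π (QuotientGroup.mk'_surjective _)]
    rw [h3]
    exact h2.map π
  · exact absurd ⟨⟨hab⟩⟩ hna
  · exact fun z hz => congrArg Subtype.val (hexp ⟨z, hz⟩)
  · omega

/-- Order `27`: an elementary essential subgroup forces exponent `3`. -/
theorem exponent_three {E : Subgroup Ω} (hS : IsPGroup 3 S) (hF : F.IsSaturated 3) (hE : F.IsEssential 3 E)
    (hcS : Nat.card S = 27) (hcard : Nat.card E = 9) (hexp : ∀ z ∈ E, z ^ 3 = 1)
    (hmax : MaxC.IsMax S 3 3) : ∀ y : S, y ^ 3 = 1 := by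
  intro y
  by_contra hy3
  have hlt := lt_of_essential hS hF hE
  have hle := hlt.le
  haveI := finite_of_le hle
  haveI := mulAut_finite_of_le hle
  obtain ⟨hCt, hfn, -⟩ := id hE
  have hC : centralizerIn S E ≤ E := hCt.2 E (isConj_refl hle)
  have hrec := receptive_of_fc hS hF (fc_fa_of_fn hS hF hfn).1
  have hc : ∀ u v : E, u * v = v * u :=
    (IsPGroup.isMulCommutative_of_card_eq_prime_sq (p := 3) (show Nat.card E = 3 ^ 2 by rw [hcard]; norm_num)).is_comm.comm
  have hexp' : ∀ u : E, u ^ 3 = 1 := fun u => Subtype.ext (hexp u u.2)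
  have hyE : (y : Ω) ∉ E := fun h => hy3 (Subtype.ext (hexp _ h))
  have hEidx : (E.subgroupOf S).index = 3 := by
    have h1 := (E.subgroupOf S).card_mul_index
    rw [Nat.card_congr (Subgroup.subgroupOfEquivOfLe hle).toEquiv, hcard, hcS] at h1
    omega
  haveI hEn : (E.subgroupOf S).Normal := normal_of_index_prime hS hEidx
  have hcj : ∀ g ∈ S, ∀ z ∈ E, g * z * g⁻¹ ∈ E := fun g hg z hz =>
    hEn.conj_mem (⟨z, hle hz⟩ : S) hz ⟨g, hg⟩
  have hnorm : ∀ g ∈ S, g ∈ Subgroup.normalizer (E : Set Ω) := fun g hg => by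
    refine Subgroup.mem_normalizer_iff.2 fun z => ⟨fun hz => hcj g hg z hz, fun hz => ?_⟩
    simpa [mul_assoc] using hcj g⁻¹ (inv_mem hg) _ hz
  -- `y ^ 3` is central, in `E`
  have hyc : y ^ 3 ∈ Subgroup.center S := by
    rw [hmax.center_eq le_rfl]; exact hmax.pow_mem_F_two le_rfl y
  have hy3E : ((y : Ω)) ^ 3 ∈ E := by
    refine hC (mem_centralizerIn.2 ⟨pow_mem y.2 3, fun z hz => ?_⟩)
    exact congrArg Subtype.val (Subgroup.mem_center_iff.1 hyc ⟨z, hle hz⟩)
  -- conjugation by `y`
  obtain ⟨a₀, ha₀, ha₀A⟩ := exists_aut_conj (hnorm y y.2)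
  obtain ⟨a, ha⟩ : ∃ a : F.autGroup E, (a : MulAut E) = a₀ :=
    ⟨⟨a₀, autInducedBy_le_autGroup hle (ha₀A S y.2)⟩, rfl⟩
  subst ha
  obtain ⟨k, hk⟩ := RankTwo.exists_pow_one y.2 hS (hnorm y y.2) ha₀
  have hap : (a : MulAut E) ^ 3 = 1 := RankTwo.pow_eq_one_of_pgroup hc hexp' (by rw [hcard]; norm_num) _ hk
  obtain ⟨g, hab⟩ := Torus.exists_noncommuting (F.autGroup E).subtype
    (by rw [Subgroup.ker_subtype]; exact IsPGroup.of_bot) (a := a) hap
    (fun K hK hKp => RankTwo.not_mem_normal hle hC (radical_of_essential hS hF hE) y.2 hyE ha₀ K hK hKp)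
  have hao : orderOf (a : MulAut E) = 3 := orderOf_eq_prime hap fun h => by
    simp only [Subgroup.coe_subtype] at hab
    exact hab (by rw [h, one_mul, mul_one])
  have hcard' : Nat.card E = 3 ^ 2 := by rw [hcard]; norm_num
  obtain ⟨e, he, hae, -, -⟩ := exists_fixed_line hc hcard' hao
  obtain ⟨α, f, -, hf, hαe, hαf⟩ := Torus.exists_torus hc hexp' hcard' (F.autGroup E).subtype a g hap hab he hae
    (μ := 2) (ν := 2) (by decide)
  simp only [Subgroup.coe_subtype] at hαe hαf
  -- `α` is inversion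
  have hinv : ∀ z : E, (α : MulAut E) z = z⁻¹ := by
    let M : Subgroup E :=
      { carrier := {z | (α : MulAut E) z = z⁻¹}
        one_mem' := by simp
        mul_mem' := fun {s t} hs ht => by
          show (α : MulAut E) (s * t) = (s * t)⁻¹
          rw [map_mul, hs, ht, mul_inv_rev, hc]
        inv_mem' := fun {s} hs => by
          show (α : MulAut E) s⁻¹ = (s⁻¹)⁻¹
          rw [map_inv, hs] }
    have hsq : ∀ z : E, z ^ 2 = z⁻¹ := fun z => eq_inv_of_mul_eq_one_left (by rw [← pow_succ]; exact hexp' z)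
    have hM : M = ⊤ := by
      refine Subgroup.eq_top_of_le_card _ ?_
      have hlt' : Subgroup.zpowers e < M := by
        refine lt_of_le_of_ne (Subgroup.zpowers_le.2 (show (α : MulAut E) e = e⁻¹ by rw [hαe, hsq]))
          fun h => hf ?_
        rw [h]; exact show (α : MulAut E) f = f⁻¹ by rw [hαf, hsq]
      have h1 := MaxC.p_mul_card_le_of_lt (IsPGroup.of_card hcard') hlt'
      rw [Nat.card_zpowers, orderOf_eq_prime (hexp' e) he] at h1
      rw [hcard]; exact h1
    exact fun z => (hM.ge (Subgroup.mem_top z) :)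
  -- extend it
  have hβi : (a : MulAut E) ∉ Inn E := by
    intro hi
    obtain ⟨w, hw, hwa⟩ := mem_Inn.1 hi
    have h1 : (a : MulAut E) = 1 := aut_ext fun z hz => by
      rw [hwa z hz, av_one hz, show w * z = z * w from congrArg Subtype.val (hc ⟨w, hw⟩ ⟨z, hz⟩),
        mul_inv_cancel_right]
    rw [h1, orderOf_one] at hao
    omega
  have hext := mem_extSet_of_conj hrec α.2 (ha₀A S y.2) hβi (by
    have : (α : MulAut E) * (a : MulAut E) * (α : MulAut E)⁻¹ = (a : MulAut E) := by
      rw [mul_inv_eq_iff_eq_mul]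
      refine MulEquiv.ext fun z => ?_
      rw [MulAut.mul_apply, MulAut.mul_apply, hinv, hinv, map_inv]
    rw [this]; exact ha₀A S y.2)
  obtain ⟨Q, hEQ, G, hG, hGα⟩ := hext
  have hQS : Q = S := by
    haveI := finite_of_le hG.le
    refine Subgroup.eq_of_le_of_card_ge hG.le ?_
    obtain ⟨j, hj⟩ := (hS.to_le hG.le).exists_card_eq
    have h1 := card_lt_of_lt hEQ hG.le
    rw [hcard, hj] at h1
    rw [hcS, hj]
    have : 3 ≤ j := by
      by_contra hh
      exact absurd h1 (not_lt.2 ((Nat.pow_le_pow_right (by norm_num) (show j ≤ 2 by omega)).trans (by norm_num)))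
    exact le_trans (by norm_num) (Nat.pow_le_pow_right (show 3 > 0 by norm_num) this)
  subst hQS
  -- compare with `y`
  have hGy : G y ∈ Q := hG.mem y.2
  have hGi : ∀ z ∈ E, G z = z⁻¹ := fun z hz => by
    rw [hGα z hz, av_apply _ hz, hinv]; rfl
  have hd : (y : Ω)⁻¹ * G y ∈ E := by
    refine hC (mem_centralizerIn.2 ⟨mul_mem (inv_mem y.2) hGy, fun z hz => ?_⟩)
    have h1 := hG.map_conj y.2 (hle (E.inv_mem hz))
    rw [hGi _ (hcj y y.2 _ (E.inv_mem hz)), hGi _ (E.inv_mem hz), inv_inv] at h1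
    have h2 : (y : Ω) * z * (y : Ω)⁻¹ = G y * z * (G y)⁻¹ := by
      rw [← h1]; group
    calc z * ((y : Ω)⁻¹ * G y) = (y : Ω)⁻¹ * ((y : Ω) * z * (y : Ω)⁻¹) * G y := by group
      _ = (y : Ω)⁻¹ * (G y * z * (G y)⁻¹) * G y := by rw [h2]
      _ = _ := by group
  obtain ⟨d, hdd⟩ : ∃ d : Q, d = y⁻¹ * ⟨G y, hGy⟩ := ⟨_, rfl⟩
  have hd3 : d ^ 3 = 1 := Subtype.ext (by rw [hdd]; exact hexp _ hd)
  have hpow : (y * d) ^ 3 = y ^ 3 := by
    have := MaxC.mul_pow_central hS (z := y ^ 3) (x := y) (y := d) (i := 1) (j := 0)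
      (show (⊤ : Subgroup Q).lowerCentralSeries (3 - 1) = ⊥ from hmax.F_bot (k := 3) le_rfl)
      (fun g => Subgroup.mem_center_iff.1 hyc g) (by simp) (by simpa using hd3)
    simpa using this
  rw [hdd, mul_inv_cancel_left] at hpow
  have hpow' : G y ^ 3 = (y : Ω) ^ 3 := by simpa using congrArg Subtype.val hpow
  have hG3 : G ((y : Ω) ^ 3) = G y ^ 3 := by
    rw [pow_succ, pow_succ, pow_one, hG.map_mul (mul_mem y.2 y.2) y.2, hG.map_mul y.2 y.2, pow_succ, pow_succ,
      pow_one]
  rw [hGi _ hy3E, hpow'] at hG3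
  have h6 : (y : Ω) ^ 3 * (y : Ω) ^ 3 = 1 := by
    nth_rewrite 1 [← hG3]
    rw [inv_mul_cancel]
  refine hy3 (Subtype.ext ?_)
  have h33 := hexp _ hy3E
  show (y : Ω) ^ 3 = 1
  calc (y : Ω) ^ 3 = ((y : Ω) ^ 3) ^ 3 := by rw [pow_succ ((y : Ω) ^ 3), sq, h6, one_mul]
    _ = 1 := h33

end Fusion

end Cfsg.Agent.Local.FS.PearlThree
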