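import Cfsg.Agent.Lib.Local.FS.PowerFixed
import Cfsg.Agent.Lib.Local.FS.Essential
import Cfsg.Agent.Lib.Local.FS.Normal
import Cfsg.Agent.Lib.Local.FS.Centric
import Cfsg.Prelude.Def_FusionSystem
import Cfsg.Prelude.Def_PLocal

/-!
In small class the powers of the centre of the Sylow subgroup are normal in the system.
-/

set_option autoImplicit false

namespace Cfsg.Agent.Local.FS

open Cfsg Cfsg.FusionSystem Cfsg.Agent.Fusion
open scoped commutatorElement

variable {Ω : Type*} [Group Ω] {S : Subgroup Ω} {F : FusionSystem S} {p : ℕ} [Fact p.Prime]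

omit [Fact p.Prime] in
/-- Automorphisms acting on the centre. -/
def centerAct {P : Subgroup Ω} (A : Subgroup (MulAut P)) : ↥A →* MulAut ↥(Subgroup.center ↥P) where
  toFun α :=
    { toFun := fun z => ⟨(α : MulAut P) z, Subgroup.mem_center_iff.2 fun y => by
        obtain ⟨y', rfl⟩ := (α : MulAut P).surjective y
        rw [← map_mul, ← map_mul, Subgroup.mem_center_iff.1 z.2 y']⟩
      invFun := fun z => ⟨(α : MulAut P).symm z, Subgroup.mem_center_iff.2 fun y => by
        obtain ⟨y', rfl⟩ := (α : MulAut P).symm.surjective y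
        rw [← map_mul, ← map_mul, Subgroup.mem_center_iff.1 z.2 y']⟩
      left_inv := fun z => Subtype.ext ((α : MulAut P).symm_apply_apply _)
      right_inv := fun z => Subtype.ext ((α : MulAut P).apply_symm_apply _)
      map_mul' := fun a b => Subtype.ext (map_mul (α : MulAut P) _ _) }
  map_one' := by ext; rfl
  map_mul' a b := by ext; rfl

open scoped Classical in
theorem av_centerAct {P : Subgroup Ω} {A : Subgroup (MulAut P)} (α : ↥A) (z : ↥(Subgroup.center ↥P)) :
    (((centerAct A α z : ↥(Subgroup.center ↥P)) : ↥P) : Ω) = av (α : MulAut P) ((z : ↥P) : Ω) :=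
  (av_coe (α : MulAut P) (z : ↥P)).symm

variable [Finite S]

set_option maxHeartbeats 800000 in
/-- **Powers of the centre are normal.** -/
theorem powerCenter_normal (hS : IsPGroup p S) (hF : F.IsSaturated p) (n : ℕ)
    (hcl : Subgroup.lowerCentralSeries S (n * (p - 1) + 1) = ⊥) :
    F.IsNormal (powerClosure p n (S ⊓ Subgroup.centralizer (S : Set Ω))) := by
  set Z := S ⊓ Subgroup.centralizer (S : Set Ω) with hZ
  set W₀ := powerClosure p n Z with hW₀
  have hWZ : W₀ ≤ Z := (Subgroup.closure_le _).2 (by rintro _ ⟨x, hx, rfl⟩; exact Z.pow_mem hx _)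
  have hZX : ∀ X, F.IsCentric X → Z ≤ X := fun X hX z hz => centric_inv_mem hX hz.1 fun y hy =>
    Subgroup.mem_centralizer_iff.1 hz.2 y (hX.1 hy)
  have hWinv : ∀ (α : MulAut S), α ∈ F.autGroup S → ∀ w ∈ W₀, av α w ∈ W₀ := by
    intro α hα
    have hZα : ∀ z ∈ Z, av α z ∈ Z := fun z hz => ⟨av_mem α hz.1, Subgroup.mem_centralizer_iff.2 fun s hs => by
      obtain ⟨s', hs', rfl⟩ : ∃ s' ∈ S, av α s' = s := ⟨av α⁻¹ s, av_mem _ hs, av_av_inv α hs⟩
      rw [av_apply α hs', av_apply α hz.1, ← Subgroup.coe_mul, ← Subgroup.coe_mul, ← map_mul, ← map_mul]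
      exact congrArg (fun u : S => ((α u : S) : Ω)) (Subtype.ext (Subgroup.mem_centralizer_iff.1 hz.2 s' hs'))⟩
    have hm := map_of_mem_autGroup le_rfl hα
    refine im_le_iff.1 ?_
    rw [im, Subgroup.closure_le]
    rintro _ ⟨w, hw, rfl⟩
    refine (show W₀ ≤ (((im W₀ id).comap (S.subtype.comp α.toMonoidHom))).map S.subtype from
      (Subgroup.closure_le _).2 ?_) hw |> fun ⟨s, hs, he⟩ => ?_
    · rintro _ ⟨z, hz, rfl⟩
      refine ⟨⟨z, hz.1⟩ ^ p ^ n, ?_, rfl⟩
      rw [im_id]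
      refine Subgroup.subset_closure ⟨av α z, hZα z hz, ?_⟩
      show ((α (⟨z, hz.1⟩ ^ p ^ n) : S) : Ω) = _
      rw [map_pow, av_apply α hz.1, SubmonoidClass.coe_pow]
    · rw [im_id] at hs
      rw [← he]
      exact (av_coe α s).symm ▸ hs
  refine normal_of_gen hS hF (hWZ.trans inf_le_left) fun R hR => ?_
  have hRW : W₀ ≤ R := by
    rcases hR with rfl | hR
    · exact hWZ.trans inf_le_left
    · exact hWZ.trans (hZX R hR.1)
  refine ⟨hRW, ?_⟩
  let K : Subgroup Ω → (Ω → Ω) → Prop := fun P f =>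
    ∃ g, Map F (P ⊔ W₀) g ∧ (∀ x ∈ P, g x = f x) ∧ im W₀ g = W₀
  have hK : IsClosedClass F K := by
    refine ⟨?_, ?_, ?_, ?_⟩
    · rintro P f f' ⟨g, hg, h1, h2⟩ he
      exact ⟨g, hg, fun x hx => (h1 x hx).trans (he x hx), h2⟩
    · rintro P R f - ⟨g, hg, h1, h2⟩ hR
      exact ⟨g, hg.restrict (sup_le_sup_right hR W₀), fun x hx => h1 x (hR hx), h2⟩
    · rintro P P' f f' hf hf' ⟨g, hg, h1, h2⟩ ⟨g', hg', h1', h2'⟩ hm
      have hm' : ∀ x ∈ P ⊔ W₀, g x ∈ P' ⊔ W₀ := im_le_iff.1 <| hg.im_sup_le.trans <|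
        sup_le_sup (im_le_iff.2 fun x hx => h1 x hx ▸ hm x hx) h2.le
      refine ⟨g' ∘ g, hg.comp hg' hm', fun x hx => ?_, ?_⟩
      · show g' (g x) = f' (f x)
        rw [h1 x hx, h1' _ (hm x hx)]
      · rw [(hg.restrict le_sup_right).im_comp, h2, h2']
    · rintro P f f' hf ⟨g, hg, h1, h2⟩ hf'
      obtain ⟨g', hg', hgg, -, -⟩ := hg.exists_inv
      have hle : im P f ⊔ W₀ ≤ im (P ⊔ W₀) g :=
        sup_le ((im_congr h1).symm.le.trans (im_mono le_sup_left)) (h2.ge.trans (im_mono le_sup_right))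
      refine ⟨g', hg'.restrict hle, fun y hy => ?_, ?_⟩
      · obtain ⟨x, hx, rfl⟩ := hf.mem_im.1 hy
        rw [hf' x hx, ← h1 x hx, hgg x (Subgroup.mem_sup_left hx)]
      · conv_lhs => rw [← h2]
        rw [← (hg.restrict le_sup_right).im_comp]
        exact (im_congr (g := id) fun x hx => hgg x (Subgroup.mem_sup_right hx)).trans im_id
  suffices key : ∀ (k : ℕ) (R : Subgroup Ω), (R = S ∨ F.IsEssential p R) → Nat.card S - Nat.card R = k →
      ∀ α ∈ F.autGroup R, ∀ x ∈ W₀, av α x ∈ W₀ from key _ R hR rfl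
  intro k
  induction k using Nat.strong_induction_on with
  | _ k ih =>
  intro R hR hk α hα
  rcases hR with rfl | hR
  · exact hWinv α hα
  have hRS := hR.1.1
  have hRfn := hR.2.1
  haveI := finite_of_le hRS
  haveI := mulAut_finite_of_le hRS
  set A := F.autGroup R
  obtain ⟨hfc, hfa⟩ := fc_fa_of_fn hS hF hRfn
  obtain ⟨-, T, hT⟩ := hfa
  let φ := centerAct A
  set L := Subgroup.closure {u : ↥A | ∃ j, orderOf u = p ^ j}
  haveI hLn : L.Normal := by
    refine ⟨fun l hl g => ?_⟩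
    have : L ≤ L.comap (MulAut.conj g).toMonoidHom := (Subgroup.closure_le _).2 fun u ⟨j, hj⟩ =>
      Subgroup.subset_closure ⟨j, by rw [MulEquiv.coe_toMonoidHom, MulEquiv.orderOf_eq, hj]⟩
    exact this hl
  have hTL : (T : Subgroup ↥A) ≤ L := fun t ht => by
    obtain ⟨j, hj⟩ := IsPGroup.iff_orderOf.1 T.isPGroup' ⟨t, ht⟩
    exact Subgroup.subset_closure ⟨j, (Subgroup.orderOf_coe (⟨t, ht⟩ : (T : Subgroup ↥A))).trans hj⟩
  -- the `p`-elements act with small class on the centre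
  have hnil : ∀ u : ↥A, (∃ j, orderOf u = p ^ j) → ∀ m : ↥(Subgroup.center ↥R),
      (fun y => φ u y / y)^[n * (p - 1) + 1] m = 1 := by
    rintro u ⟨j, hj⟩ m
    have hu : IsPGroup p (Subgroup.zpowers u) := IsPGroup.of_card (n := j) (by rw [Nat.card_zpowers, hj])
    obtain ⟨a, -, ha⟩ := (sylIn_top T).conj_le hu le_top
    set t := a * u * a⁻¹ with ht
    have htT : t ∈ (T : Subgroup ↥A) := ha (conj_mem_cj (Subgroup.mem_zpowers u))
    rw [hT, Subgroup.mem_subgroupOf] at htT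
    obtain ⟨s, hs, hst⟩ := mem_autInducedBy.1 htT
    have hsemi : Function.Semiconj (φ a) (fun y => φ u y / y) (fun y => φ t y / y) := by
      intro y
      show φ a (φ u y / y) = φ t (φ a y) / φ a y
      rw [map_div, ← MulAut.mul_apply, ← MulAut.mul_apply, ← map_mul, ← map_mul,
        show t * a = a * u by rw [ht]; group]
    have hiter : ∀ (i : ℕ) (w : ↥(Subgroup.center ↥R)),
        ((((fun y => φ t y / y)^[i] w : ↥(Subgroup.center ↥R)) : ↥R) : Ω) ∈ Subgroup.lowerCentralSeries S i := by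
      intro i
      induction i with
      | zero => intro w; exact hRS (SetLike.coe_mem _)
      | succ i ih' =>
        intro w
        rw [Function.iterate_succ_apply']
        have h1 := ih' w
        set v := (fun y => φ t y / y)^[i] w
        rw [Subgroup.lowerCentralSeries_succ]
        have h2 := inv_mem (Subgroup.commutator_mem_commutator h1 hs)
        rw [commutatorElement_inv, commutatorElement_def] at h2
        simp only [Subgroup.coe_div, div_eq_mul_inv, Subgroup.coe_mul, Subgroup.coe_inv]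
        rw [av_centerAct t v, hst _ (SetLike.coe_mem (v : ↥R))]
        exact h2
    have h1 := hiter (n * (p - 1) + 1) (φ a m)
    rw [hcl, Subgroup.mem_bot] at h1
    refine (φ a).injective ?_
    rw [map_one, (hsemi.iterate_right _) m]
    exact Subtype.ext (Subtype.ext h1)
  letI : CommGroup ↥(Subgroup.center ↥R) :=
    { (inferInstance : Group ↥(Subgroup.center ↥R)) with
      mul_comm := fun a b => Subtype.ext (Subgroup.mem_center_iff.1 b.2 a) }
  have hfix : ∀ x : ↥(Subgroup.center ↥R), (∀ t ∈ (T : Subgroup ↥A), φ t x = x) →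
      ∀ l ∈ L, φ l (x ^ p ^ n) = x ^ p ^ n := fun x hx =>
    fixed_pow_of_unipotent (A := ↥A) (M := ↥(Subgroup.center ↥R)) φ n hnil (sylIn_top T) hx
  -- Frattini
  obtain ⟨l, hl, hlN⟩ := frattini_conj ((sylIn_top T).mono hTL le_top)
    (H := ⊤) (by rw [Subgroup.normalizer_eq_top]) (h := (⟨α, hα⟩ : ↥A)) trivial
  set ν : ↥A := l * ⟨α, hα⟩ with hν
  have hνm := map_of_mem_autGroup hRS ν.2
  have hRN : R ≤ normalizerIn S R := le_normalizerIn hRS
  -- extend `ν` to the normalizer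
  have hNf : normalizerIn S R ≤ Nf S R (av (ν : MulAut R)) := by
    intro g hg
    obtain ⟨c, hc, hcS⟩ := exists_aut_conj hg.2
    let c' : ↥A := ⟨c, autInducedBy_le_autGroup hRS (hcS S hg.1)⟩
    have h1 : ν * c' * ν⁻¹ ∈ (T : Subgroup ↥A) :=
      conj_mem_of_normalizer hlN (show c' ∈ (T : Subgroup ↥A) by rw [hT]; exact hcS S hg.1)
    rw [hT, Subgroup.mem_subgroupOf] at h1
    obtain ⟨h, hh, hhc⟩ := mem_autInducedBy.1 h1
    refine mem_Nf.2 ⟨hg.1, hg.2, h, hh, fun x hx => ?_⟩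
    have h2 := hhc _ (av_mem (ν : MulAut R) hx)
    rw [Subgroup.coe_mul, Subgroup.coe_mul, InvMemClass.coe_inv, av_mul _ _ (av_mem _ hx), av_inv_av _ hx,
      av_mul _ _ hx, hc x hx] at h2
    exact h2
  obtain ⟨g₁, hg₁, hg₁ν⟩ := (receptive_iff.1 (receptive_of_fc hS hF hfc)).2 R _ hνm (im_av _)
  have hg := hg₁.restrict hNf
  have hlt : Nat.card R < Nat.card ↥(normalizerIn S R) :=
    card_lt_of_lt (lt_normalizerIn hS (lt_of_essential hS hF hR)) inf_le_left
  have hbig : ∀ P f, Map F P f → Nat.card R < Nat.card P → K P f := by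
    intro P f hf
    refine alperin hS hF (K := fun P f => Nat.card R < Nat.card P → K P f) ?_ ?_ P f hf
    · refine ⟨fun h he hc => hK.congr (h hc) he, ?_, ?_, ?_⟩
      · intro X X' f hf h hX hc
        haveI := finite_of_le hf.le
        exact hK.restrict hf (h (hc.trans_le (Subgroup.card_le_of_le hX))) hX
      · intro X X' f g hf hg h h' hm hc
        haveI := finite_of_le hg.le
        exact hK.comp hf hg (h hc) (h' (hc.trans_le (hf.card_le hm))) hm
      · intro X f g hf h hg hc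
        exact hK.inv hf (h (hf.card_im ▸ hc)) hg
    · intro X hX β hβ hc
      have hXS : X ≤ S := hX.elim (fun h => h.le) fun h => h.1.1
      have hXW : W₀ ≤ X := hX.elim (fun h => h ▸ hWZ.trans inf_le_left) fun h => hWZ.trans (hZX X h.1)
      have hle : Nat.card X ≤ Nat.card S := Subgroup.card_le_of_le hXS
      have hβW := ih _ (by omega) X hX rfl β hβ
      have hm := map_of_mem_autGroup hXS hβ
      haveI := finite_of_le (hWZ.trans inf_le_left)
      exact ⟨av β, by rwa [sup_eq_left.2 hXW], fun _ _ => rfl,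
        Subgroup.eq_of_le_of_card_ge (im_le_iff.2 hβW) (hm.restrict hXW).card_im.ge⟩
  obtain ⟨g₂, hg₂, hg₂g, hg₂W⟩ := hbig _ g₁ hg hlt
  -- conclusion
  intro w hw
  refine (show W₀ ≤ ((W₀.comap (R.subtype.comp (α : MulAut R).toMonoidHom))).map R.subtype from
    (Subgroup.closure_le _).2 ?_) hw |> fun ⟨r, hr, he⟩ => he ▸ (av_coe α r).symm ▸ hr
  rintro _ ⟨z, hz, rfl⟩
  have hzR := hZX R hR.1 hz
  let z' : ↥(Subgroup.center ↥R) := ⟨⟨z, hzR⟩, Subgroup.mem_center_iff.2 fun y =>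
    Subtype.ext (Subgroup.mem_centralizer_iff.1 hz.2 (y : Ω) (hRS y.2))⟩
  have hzT : ∀ t ∈ (T : Subgroup ↥A), φ t z' = z' := by
    intro t ht
    rw [hT, Subgroup.mem_subgroupOf] at ht
    obtain ⟨s, hs, hst⟩ := mem_autInducedBy.1 ht
    refine Subtype.ext (Subtype.ext ?_)
    rw [av_centerAct]
    show av (t : MulAut R) z = z
    rw [hst z hzR, mul_inv_eq_iff_eq_mul]
    exact Subgroup.mem_centralizer_iff.1 hz.2 s hs
  have hνT : ∀ t ∈ (T : Subgroup ↥A), φ t (φ ν z') = φ ν z' := by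
    intro t ht
    have h1 : ν⁻¹ * t * ν⁻¹⁻¹ ∈ (T : Subgroup ↥A) := conj_mem_of_normalizer (inv_mem hlN) ht
    have h2 := hzT _ h1
    rw [inv_inv] at h2
    conv_rhs => rw [← h2]
    rw [← MulAut.mul_apply, ← MulAut.mul_apply, ← map_mul, ← map_mul, show ν * (ν⁻¹ * t * ν) = t * ν by group]
  have hfix2 := hfix (φ ν z') hνT l⁻¹ (inv_mem hl)
  have hα' : (⟨α, hα⟩ : ↥A) = l⁻¹ * ν := by rw [hν, inv_mul_cancel_left]
  refine ⟨⟨z, hzR⟩ ^ p ^ n, ?_, rfl⟩
  show ((α (⟨z, hzR⟩ ^ p ^ n) : ↥R) : Ω) ∈ W₀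
  have h3 : φ ⟨α, hα⟩ (z' ^ p ^ n) = φ ν (z' ^ p ^ n) := by
    rw [hα', map_mul, MulAut.mul_apply, map_pow (φ ν), hfix2]
  have h4 : av α (((z' ^ p ^ n : ↥(Subgroup.center ↥R)) : ↥R) : Ω) =
      av (ν : MulAut R) (((z' ^ p ^ n : ↥(Subgroup.center ↥R)) : ↥R) : Ω) :=
    (av_centerAct (⟨α, hα⟩ : ↥A) _).symm.trans
      ((congrArg (fun m : ↥(Subgroup.center ↥R) => ((m : ↥R) : Ω)) h3).trans (av_centerAct ν _))
  have hmem : (((z' ^ p ^ n : ↥(Subgroup.center ↥R)) : ↥R) : Ω) ∈ W₀ :=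
    Subgroup.subset_closure ⟨z, hz, by push_cast; rfl⟩
  rw [← av_coe]
  show av α (((z' ^ p ^ n : ↥(Subgroup.center ↥R)) : ↥R) : Ω) ∈ W₀
  rw [h4]
  rw [← hg₁ν _ (SetLike.coe_mem _), ← hg₂g _ (hRN (SetLike.coe_mem _))]
  exact hg₂W.le (mem_im_of_mem hmem)

omit [Fact p.Prime] [Finite S] in
/-- The exponent of a nilpotent group is bounded by that of its centre. -/
theorem pow_mem_upperCentralSeries {G : Type*} [Group G] {q : ℕ}
    (h : ∀ z ∈ Subgroup.center G, z ^ q = 1) :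
    ∀ (i : ℕ), ∀ x ∈ Subgroup.upperCentralSeries G (i + 1), x ^ q ∈ Subgroup.upperCentralSeries G i := by
  intro i
  induction i with
  | zero =>
    intro x hx
    rw [Subgroup.upperCentralSeries_one] at hx
    rw [Subgroup.upperCentralSeries_zero, Subgroup.mem_bot]
    exact h x hx
  | succ i ih =>
    intro x hx
    set N := Subgroup.upperCentralSeries G i
    haveI : N.Normal := inferInstanceAs (Subgroup.upperCentralSeries G i).Normal
    rw [Subgroup.mem_upperCentralSeries_succ_iff] at hx ⊢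
    intro y
    set π := QuotientGroup.mk' N
    set c := x * y * x⁻¹ * y⁻¹ with hc
    have hcq : π c ^ q = 1 := by
      rw [← map_pow]; exact (QuotientGroup.eq_one_iff _).2 (ih c (hx y))
    have hcc : ∀ g : G, Commute (π c) (π g) := fun g => by
      have h1 := (QuotientGroup.eq_one_iff _).2 (Subgroup.mem_upperCentralSeries_succ_iff.1 (hx y) g)
      change π (c * g * c⁻¹ * g⁻¹) = 1 at h1
      rw [map_mul, map_mul, map_mul, map_inv, map_inv, mul_inv_eq_one] at h1
      exact mul_inv_eq_iff_eq_mul.1 h1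
    refine (QuotientGroup.eq_one_iff _).1 ?_
    show π (x ^ q * y * (x ^ q)⁻¹ * y⁻¹) = 1
    have h2 : π y * π x * (π y)⁻¹ = (π c)⁻¹ * π x := by
      rw [hc]; simp only [map_mul, map_inv]; group
    have h3 : π y * π x ^ q * (π y)⁻¹ = π x ^ q := by
      rw [← conj_pow, h2, (hcc x).inv_left.mul_pow, inv_pow, hcq, inv_one, one_mul]
    rw [map_mul, map_mul, map_mul, map_inv, map_inv, map_pow]
    rw [show π x ^ q * π y * (π x ^ q)⁻¹ * (π y)⁻¹ = π x ^ q * (π y * π x ^ q * (π y)⁻¹)⁻¹ by group, h3,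
      mul_inv_cancel]

end Cfsg.Agent.Local.FS
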