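import Cfsg.Agent.Lib.Local.FS.Transport
import Cfsg.Agent.Lib.Local.FS.WeakNormal

/-!
Pulling a normal subsystem back along an isomorphism of fusion systems.
-/

set_option autoImplicit false

namespace Cfsg.Agent.Local.FS

open Cfsg Cfsg.FusionSystem Cfsg.Agent.Fusion

universe u v

variable {Ω : Type u} [Group Ω] {Ω' : Type v} [Group Ω'] {S : Subgroup Ω} {S' : Subgroup Ω'}
  {i : S →* Ω'} {F : FusionSystem S} {F' : FusionSystem S'} {T' : Subgroup Ω'}

/-- The push forward of a function along `i`. -/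
noncomputable def pushFn (i : S →* Ω') (f : Ω → Ω) : Ω' → Ω' := fun y => ue i (f (ve i y))

theorem FIso.pushFn_ue (h : FIso F F' i) {f : Ω → Ω} {x : Ω} (hx : x ∈ S) : pushFn i f (ue i x) = ue i (f x) := by
  rw [pushFn, h.ve_ue hx]

/-- The subsystem on the preimage of `T'` made of the maps whose push forward lies in `E'`. -/
noncomputable def pullSys (h : FIso F F' i) (E' : FusionSystem T') (hT' : T' ≤ S') :
    FusionSystem (preimageAlong i T') where
  Hom P := {φ | P ≤ preimageAlong i T' ∧ (∀ x : P, φ x ∈ preimageAlong i T') ∧ Map E' (up i P) (pushFn i (fn φ))}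
  le_of_mem hφ := ⟨hφ.1, hφ.2.1⟩
  injective_of_mem := by
    rintro P φ ⟨hP, -, hm⟩ x y he
    have hPS := hP.trans (preimage_le T')
    refine Subtype.ext (h.ue_inj (hPS x.2) (hPS y.2) (hm.injOn (ue_mem_up hPS x.2) (ue_mem_up hPS y.2) ?_))
    rw [h.pushFn_ue (hPS x.2), h.pushFn_ue (hPS y.2), fn_coe, fn_coe, he]
  conj_mem := by
    intro P g hP hg
    have hTS := preimage_le (i := i) T'
    have hgu : ue i g ∈ T' := by
      rw [← h.up_preimage hT']; exact ue_mem_up hTS hg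
    have hPu : up i P ≤ T' := by
      intro y hy
      obtain ⟨x, hx, rfl⟩ := (mem_up (hP.trans hTS)).1 hy
      rw [← h.up_preimage hT']; exact ue_mem_up hTS (hP hx)
    refine ⟨hP, fun x => Subgroup.mul_mem _ (Subgroup.mul_mem _ hg (hP x.2)) (Subgroup.inv_mem _ hg),
      (map_conjBy hPu hgu).congr fun y hy => ?_⟩
    obtain ⟨x, hx, rfl⟩ := (mem_up (hP.trans hTS)).1 hy
    rw [h.pushFn_ue (hTS (hP hx)), fn_apply _ hx]
    exact (ue_conj (hTS hg) (hTS (hP hx))).symm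
  comp_mem := by
    rintro P Q φ ψ ⟨hP, -, hm⟩ ⟨hQ, hψ, hm'⟩ hmem
    have hTS := preimage_le (i := i) T'
    refine ⟨hP, fun x => hψ _, (hm.comp hm' fun y hy => ?_).congr fun y hy => ?_⟩
    · obtain ⟨x, hx, rfl⟩ := (mem_up (hP.trans hTS)).1 hy
      rw [h.pushFn_ue (hTS (hP hx)), fn_apply _ hx]
      exact ue_mem_up (hQ.trans hTS) (hmem _)
    · obtain ⟨x, hx, rfl⟩ := (mem_up (hP.trans hTS)).1 hy
      rw [Function.comp_apply, h.pushFn_ue (hTS (hP hx)), fn_apply _ hx, h.pushFn_ue (hTS (hQ (hmem _))),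
        fn_apply _ (hmem ⟨x, hx⟩), h.pushFn_ue (hTS (hP hx)), fn_apply _ hx]
      rfl
  inv_mem := by
    rintro P φ ⟨hP, hφ, hm⟩
    have hTS := preimage_le (i := i) T'
    have hinj : Function.Injective φ := by
      intro x y he
      refine Subtype.ext (h.ue_inj (hTS (hP x.2)) (hTS (hP y.2))
        (hm.injOn (ue_mem_up (hP.trans hTS) x.2) (ue_mem_up (hP.trans hTS) y.2) ?_))
      rw [h.pushFn_ue (hTS (hP x.2)), h.pushFn_ue (hTS (hP y.2)), fn_coe, fn_coe, he]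
    have hR : φ.range ≤ preimageAlong i T' := by
      rintro _ ⟨x, rfl⟩; exact hφ x
    refine ⟨P.subtype.comp (MonoidHom.ofInjective hinj).symm.toMonoidHom, ⟨hR, fun x => hP (SetLike.coe_mem _), ?_⟩,
      fun x => ?_⟩
    · obtain ⟨g, hg, hgf, -, -⟩ := hm.exists_inv
      have hup : up i φ.range ≤ im (up i P) (pushFn i (fn φ)) := fun y hy => by
        obtain ⟨z, ⟨x, rfl⟩, rfl⟩ := (mem_up (hR.trans hTS)).1 hy
        rw [← fn_coe φ x, ← h.pushFn_ue (hTS (hP x.2))]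
        exact mem_im_of_mem (ue_mem_up (hP.trans hTS) x.2)
      refine (hg.restrict hup).congr fun y hy => ?_
      obtain ⟨z, ⟨x, rfl⟩, rfl⟩ := (mem_up (hR.trans hTS)).1 hy
      have h1 := hgf _ (ue_mem_up (hP.trans hTS) x.2)
      rw [h.pushFn_ue (hTS (hP x.2)), fn_coe] at h1
      rw [h1, h.pushFn_ue (hTS (hφ x)), fn_apply _ (show φ x ∈ φ.range from ⟨x, rfl⟩)]
      show ue i _ = ue i (((MonoidHom.ofInjective hinj).symm ⟨φ x, _⟩ : P) : Ω)
      rw [show (⟨φ x, ⟨x, rfl⟩⟩ : φ.range) = MonoidHom.ofInjective hinj x from rfl, MulEquiv.symm_apply_apply]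
    · show (((MonoidHom.ofInjective hinj).symm ⟨φ x, _⟩ : P) : Ω) = x
      rw [show (⟨φ x, ⟨x, rfl⟩⟩ : φ.range) = MonoidHom.ofInjective hinj x from rfl, MulEquiv.symm_apply_apply]

variable {E' : FusionSystem T'}

theorem pullSys_up {P : Subgroup Ω} {f : Ω → Ω} {h : FIso F F' i} {hT' : T' ≤ S'}
    (hf : Map (pullSys h E' hT') P f) : Map E' (up i P) (pushFn i f) := by
  obtain ⟨φ, hφ, he⟩ := hf
  have hP : P ≤ S := hφ.1.trans (preimage_le T')
  refine hφ.2.2.congr fun y hy => ?_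
  obtain ⟨x, hx, rfl⟩ := (mem_up hP).1 hy
  rw [h.pushFn_ue (hP hx), h.pushFn_ue (hP hx), fn_apply _ hx, he ⟨x, hx⟩]

theorem pullSys_down {P : Subgroup Ω} {g : Ω' → Ω'} (h : FIso F F' i) (hT' : T' ≤ S')
    (hsub : E'.IsSubsystemOf F') (hP : P ≤ preimageAlong i T') (hg : Map E' (up i P) g) :
    Map (pullSys h E' hT') P (fun x => ve i (g (ue i x))) := by
  have hTS := preimage_le (i := i) T'
  have hPS := hP.trans hTS
  obtain ⟨φ', hφ', he'⟩ := id hg
  have hgF : Map F' (up i P) g := ⟨φ', hsub _ hφ', he'⟩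
  obtain ⟨φ, hφ, he⟩ := h.map_down hPS hgF
  refine ⟨φ, ⟨hP, fun x => ?_, hg.congr fun y hy => ?_⟩, he⟩
  · rw [he]
    refine ⟨⟨ve i (g (ue i (x : Ω))), ve_mem⟩, ?_, rfl⟩
    show i ⟨ve i (g (ue i (x : Ω))), ve_mem⟩ ∈ T'
    rw [← ue_apply, h.ue_ve (hgF.mem (ue_mem_up hPS x.2))]
    exact hg.mem (ue_mem_up hPS x.2)
  · obtain ⟨x, hx, rfl⟩ := (mem_up hPS).1 hy
    rw [h.pushFn_ue (hPS hx), fn_apply _ hx, he ⟨x, hx⟩]
    exact (h.ue_ve (hgF.mem (ue_mem_up hPS hx))).symm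

variable [Finite S] {p : ℕ} [Fact p.Prime]

theorem pullSys_subsystem (h : FIso F F' i) (hT' : T' ≤ S') (hsub : E'.IsSubsystemOf F') :
    (pullSys h E' hT').IsSubsystemOf F := by
  rintro P φ ⟨hP, hφ, hm⟩
  obtain ⟨φ', hφ', he'⟩ := hm
  exact mem_iff_map.2 ((h.map_iff P (hP.trans (preimage_le T')) (fn φ) fun x hx => by
    rw [fn_apply _ hx]; exact preimage_le T' (hφ _)).2 ⟨φ', hsub _ hφ', he'⟩)

theorem pullSys_saturated (h : FIso F F' i) (hT' : T' ≤ S') (hS : IsPGroup p S) (hE : E'.IsSaturated p) :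
    (pullSys h E' hT').IsSaturated p := by
  have hTS := preimage_le (i := i) T'
  haveI := finite_of_le hTS
  set j : ↥(preimageAlong i T') →* Ω' := i.comp (Subgroup.inclusion hTS) with hj
  have huj : ∀ {x : Ω}, x ∈ preimageAlong i T' → ue j x = ue i x := fun {x} hx => by
    rw [ue_apply hx, ue_apply (hTS hx)]; rfl
  have hinj : Function.Injective j := h.inj.comp (Subgroup.inclusion_injective hTS)
  have hupj : ∀ {P : Subgroup Ω}, P ≤ preimageAlong i T' → up j P = up i P := fun {P} hP => by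
    ext y
    rw [mem_up hP, mem_up (hP.trans hTS)]
    constructor <;> rintro ⟨x, hx, rfl⟩ <;> exact ⟨x, hx, by rw [huj (hP hx)]⟩
  have hvj : ∀ {P : Subgroup Ω}, P ≤ preimageAlong i T' → ∀ y ∈ up i P, ve j y = ve i y := by
    intro P hP y hy
    obtain ⟨x, hx, rfl⟩ := (mem_up (hP.trans hTS)).1 hy
    rw [h.ve_ue (hTS (hP hx)), ← huj (hP hx), ue_apply (hP hx), ve, Function.leftInverse_invFun hinj ⟨x, hP hx⟩]
  refine FIso.saturated (F' := E') (i := j) ⟨hinj, ?_, fun P hP f hm => ?_⟩ (hS.to_le hTS) hE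
  · refine SetLike.ext fun y => ⟨?_, fun hy => ?_⟩
    · rintro ⟨x, rfl⟩
      obtain ⟨z, hz, he⟩ := x.2
      show i ⟨(x : Ω), _⟩ ∈ T'
      exact (Subtype.ext he : z = ⟨(x : Ω), hTS x.2⟩) ▸ hz
    · obtain ⟨x, rfl⟩ := h.range_eq.ge (hT' hy)
      exact ⟨⟨x, ⟨x, hy, rfl⟩⟩, rfl⟩
  have hcongr : ∀ y ∈ up i P, pushFn i f y = ue j (f (ve j y)) := fun y hy => by
    obtain ⟨x, hx, rfl⟩ := (mem_up (hP.trans hTS)).1 hy
    rw [h.pushFn_ue (hTS (hP hx)), hvj hP _ (ue_mem_up (hP.trans hTS) hx), h.ve_ue (hTS (hP hx)), huj (hm x hx)]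
  rw [hupj hP]
  refine ⟨fun hf => (pullSys_up hf).congr hcongr, fun hg => ?_⟩
  have hg' : Map E' (up i P) (pushFn i f) := hg.congr fun y hy => (hcongr y hy).symm
  let φ : P →* Ω := MonoidHom.mk' (fun x => f x) fun x y => by
    have hxy := hg'.map_mul (ue_mem_up (hP.trans hTS) x.2) (ue_mem_up (hP.trans hTS) y.2)
    rw [← ue_mul (hTS (hP x.2)) (hTS (hP y.2)), h.pushFn_ue (hTS (hP x.2)), h.pushFn_ue (hTS (hP y.2)),
      h.pushFn_ue (hTS (hP (P.mul_mem x.2 y.2))), ← ue_mul (hTS (hm x x.2)) (hTS (hm y y.2))] at hxy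
    exact h.ue_inj (hTS (hm _ (P.mul_mem x.2 y.2))) (S.mul_mem (hTS (hm x x.2)) (hTS (hm y y.2))) hxy
  exact ⟨φ, ⟨hP, fun x => hm x x.2, hg'.congr fun y hy => by
    obtain ⟨x, hx, rfl⟩ := (mem_up (hP.trans hTS)).1 hy
    rw [h.pushFn_ue (hTS (hP hx)), h.pushFn_ue (hTS (hP hx)), fn_apply _ hx]
    rfl⟩, fun x => rfl⟩

/-- A normal subsystem pulls back to a normal subsystem. -/
theorem pullSys_normalIn (h : FIso F F' i) (hT' : T' ≤ S') (hS : IsPGroup p S) (hF : F.IsSaturated p)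
    (hE : E'.IsNormalIn F' p) : (pullSys h E' hT').IsNormalIn F p := by
  obtain ⟨⟨hEsat, -, hinv⟩, hext⟩ := hE
  set T := preimageAlong i T' with hT
  have hTS : T ≤ S := preimage_le T'
  have hTu : up i T = T' := h.up_preimage hT'
  haveI : Finite S' := h.range_eq ▸ Finite.of_surjective i.rangeRestrict i.rangeRestrict_surjective
  haveI := finite_of_le hTS
  haveI := finite_of_le hT'
  have hsub := pullSys_subsystem h hT' hinv.1
  have huT : ∀ {x : Ω}, x ∈ T → ue i x ∈ T' := fun {x} hx => hTu ▸ ue_mem_up hTS hx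
  have hvT : ∀ {y : Ω'}, y ∈ T' → ve i y ∈ T ∧ ue i (ve i y) = y := fun {y} hy => by
    obtain ⟨x, hx, rfl⟩ := (mem_up hTS).1 (hTu.ge hy)
    rw [h.ve_ue (hTS hx)]; exact ⟨hx, rfl⟩
  have hsc : F.StronglyClosed T := by
    refine stronglyClosed_iff.2 ⟨hTS, fun P f hP hf x hx => ?_⟩
    have hu : up i P ≤ T' := fun y hy => by
      obtain ⟨z, hz, rfl⟩ := (mem_up (hP.trans hTS)).1 hy
      exact huT (hP hz)
    have h1 := (stronglyClosed_iff.1 hinv.2.1).2 _ _ hu (h.map_up hf) _ (ue_mem_up (hP.trans hTS) hx)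
    show f x ∈ T
    rw [h.ve_ue (hTS (hP hx))] at h1
    have h2 := (hvT h1).1
    rwa [h.ve_ue (hf.mem hx)] at h2
  -- automorphisms of `T` induce automorphisms of `T'`
  have hpush : ∀ α ∈ F.autGroup T, ∃ α' ∈ F'.autGroup T', ∀ x ∈ T, av α' (ue i x) = ue i (av α x) := by
    intro α hα
    have hm := map_of_mem_autGroup hTS hα
    have hu := h.map_up hm
    have hi := h.im_up hm
    rw [im_av, hTu] at hi
    rw [hTu] at hu
    obtain ⟨α', hα', he⟩ := exists_aut hu hi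
    exact ⟨α', hα', fun x hx => by rw [he _ (huT hx), h.ve_ue (hTS hx)]⟩
  have hpull : ∀ α' ∈ F'.autGroup T', ∃ α ∈ F.autGroup T, ∀ x ∈ T, ue i (av α x) = av α' (ue i x) := by
    intro α' hα'
    have hm : Map F' (up i T) (av α') := by rw [hTu]; exact map_of_mem_autGroup hT' hα'
    have hd := h.map_down hTS hm
    obtain ⟨α, hα, he⟩ := exists_aut hd (h.up_inj hd.im_le hTS (by
      rw [← h.im_up hd, hTu]
      refine (im_congr fun y hy => ?_).trans (im_av α')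
      obtain ⟨x, hx, rfl⟩ := (mem_up hTS).1 (hTu.ge hy)
      show ue i (ve i (av α' (ue i (ve i (ue i x))))) = _
      rw [h.ve_ue (hTS hx), h.ue_ve (hT' (av_mem α' hy))]))
    exact ⟨α, hα, fun x hx => by rw [he x hx, h.ue_ve (hT' (av_mem α' (huT hx)))]⟩
  refine ⟨⟨pullSys_saturated h hT' hS hEsat, hF, hsub, hsc, ?_, ?_⟩, ?_⟩
  · intro P hPT φ hφ α hα
    obtain ⟨α', hα', hα'e⟩ := hpush α hα
    obtain ⟨g, hg, hge⟩ := inv_map hinv (pullSys_up (map_of_mem hφ)) hα'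
    have hPS := hPT.trans hTS
    have hQ : (P.subgroupOf T).map (T.subtype.comp α.toMonoidHom) = im P (av α) :=
      map_subgroupOf_eq_im hPT fun x => (av_coe α x).symm
    have hQT : im P (av α) ≤ T := im_le_iff.2 fun x hx => av_mem α (hPT hx)
    have hup : up i (im P (av α)) = im (up i P) (av α') := by
      rw [← h.im_up ((map_of_mem_autGroup hTS hα).restrict hPT)]
      refine im_congr fun y hy => ?_
      obtain ⟨x, hx, rfl⟩ := (mem_up hPS).1 hy
      rw [h.ve_ue (hPS hx), hα'e x (hPT hx)]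
    rw [← hup] at hg
    obtain ⟨χ, hχ, hχe⟩ := pullSys_down h hT' hinv.1 hQT hg
    rw [hQ]
    refine ⟨χ, hχ, fun x hφx hαx => ?_⟩
    rw [hχe]
    show ve i (g (ue i ((α ⟨x, hPT x.2⟩ : T) : Ω))) = _
    rw [← av_apply α (hPT x.2), ← hα'e x (hPT x.2), hge _ (ue_mem_up hPS x.2), h.pushFn_ue (hPS x.2),
      fn_apply φ x.2, hα'e _ hφx, h.ve_ue (hTS (av_mem α hφx)), av_apply α hφx]
  · intro P hPT φ hφ
    have hPS := hPT.trans hTS
    have hu : up i P ≤ T' := fun y hy => by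
      obtain ⟨z, hz, rfl⟩ := (mem_up hPS).1 hy
      exact huT (hPT hz)
    obtain ⟨α', hα', g, hg, hge⟩ := frattini_map hinv hu (h.map_up (map_of_mem hφ))
    obtain ⟨α, hα, hαe⟩ := hpull α' hα'
    obtain ⟨φ₀, hφ₀, he₀⟩ := pullSys_down h hT' hinv.1 hPT hg
    refine ⟨α, hα, φ₀, hφ₀, fun x hx => ?_⟩
    rw [← av_apply α hx, ← fn_coe φ x]
    refine h.ue_inj ((map_of_mem hφ).mem x.2) (hTS (av_mem α hx)) ?_
    rw [hαe _ hx, he₀, h.ue_ve (hT' (hg.mem (ue_mem_up hPS x.2))), ← hge _ (ue_mem_up hPS x.2)]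
    exact (h.pushFn_ue (hPS x.2)).symm
  · intro α hα
    have hαE := map_of_mem_autGroup (F := pullSys h E' hT') le_rfl hα
    have hu := pullSys_up hαE
    rw [hTu] at hu
    obtain ⟨α', hα', he'⟩ := exists_aut hu (hu.im_eq (fun y hy => by
      obtain ⟨x, hx, rfl⟩ := (mem_up hTS).1 (hTu.ge hy)
      rw [h.pushFn_ue (hTS hx)]; exact huT (av_mem α hx)) fun y hy => by
      obtain ⟨x, hx, rfl⟩ := (mem_up hTS).1 (hTu.ge hy)
      exact ⟨_, huT (av_mem α⁻¹ hx), by rw [h.pushFn_ue (hTS (av_mem α⁻¹ hx)), av_av_inv α hx]⟩)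
    obtain ⟨β', hβ', hβe, hβc⟩ := hext α' hα'
    set U := T ⊔ centralizerIn S T with hU
    have hUS : U ≤ S := sup_le hTS inf_le_left
    have hUu : up i U = T' ⊔ centralizerIn S' T' := by
      rw [← hTu, ← h.up_centralizerIn hTS, hU, up, up, up, imageAlong, imageAlong, imageAlong,
        Subgroup.subgroupOf_sup hTS (show centralizerIn S T ≤ S from inf_le_left), Subgroup.map_sup]
    have hm : Map F' (up i U) (av β') := by
      rw [hUu]; exact map_of_mem_autGroup (sup_le hT' inf_le_left) hβ'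
    have hd := h.map_down hUS hm
    obtain ⟨β, hβ, he⟩ := exists_aut hd (h.up_inj hd.im_le hUS (by
      rw [← h.im_up hd, hUu]
      refine (im_congr fun y hy => ?_).trans (im_av β')
      obtain ⟨x, hx, rfl⟩ := (mem_up hUS).1 (hUu.ge hy)
      show ue i (ve i (av β' (ue i (ve i (ue i x))))) = _
      rw [h.ve_ue (hUS hx), h.ue_ve (sup_le hT' inf_le_left (av_mem β' hy))]))
    refine ⟨β, hβ, fun x => ?_, fun c hc => ?_⟩
    · rw [← av_coe, ← av_coe, he _ (Subgroup.inclusion le_sup_left x).2, Subgroup.coe_inclusion]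
      have h1 := hβe ⟨ue i x, huT x.2⟩
      rw [← av_coe, ← av_coe, Subgroup.coe_inclusion] at h1
      rw [h1, he' _ (huT x.2), h.pushFn_ue (hTS x.2), h.ve_ue (hTS (av_mem α x.2))]
    · rw [← av_coe, he _ c.2]
      have hcu : ue i (c : Ω) ∈ centralizerIn S' T' := by
        have h0 := h.up_centralizerIn hTS
        rw [hTu] at h0
        exact h0 ▸ ue_mem_up inf_le_left hc
      have h1 := hβc ⟨ue i (c : Ω), Subgroup.mem_sup_right hcu⟩ hcu
      rw [← av_coe] at h1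
      obtain ⟨hv, hve⟩ := hvT h1.1
      have hb : ve i (av β' (ue i (c : Ω))) ∈ S := ve_mem
      have hβS : av β' (ue i (c : Ω)) ∈ S' :=
        sup_le hT' inf_le_left (av_mem β' (Subgroup.mem_sup_right hcu))
      have hkey : (c : Ω)⁻¹ * ve i (av β' (ue i (c : Ω))) = ve i ((ue i (c : Ω))⁻¹ * av β' (ue i (c : Ω))) := by
        refine h.ue_inj (S.mul_mem (S.inv_mem (hUS c.2)) hb) ve_mem ?_
        rw [ue_mul (S.inv_mem (hUS c.2)) hb, ue_inv (hUS c.2), h.ue_ve hβS, hve]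
      rw [hkey]
      refine ⟨hv, Subgroup.mem_centralizer_iff.2 fun t ht => h.ue_inj (S.mul_mem (hTS ht) (hTS hv))
        (S.mul_mem (hTS hv) (hTS ht)) ?_⟩
      rw [ue_mul (hTS ht) (hTS hv), ue_mul (hTS hv) (hTS ht), hve]
      exact Subgroup.mem_centralizer_iff.1 h1.2 _ (huT ht)

/-- Simplicity passes along an isomorphism of fusion systems. -/
theorem FIso.simple (h : FIso F F' i) (hS : IsPGroup p S) (hF : F.IsSimple p) (T' : Subgroup Ω')
    (E' : FusionSystem T') (hE : E'.IsNormalIn F' p) :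
    T' = ⊥ ∨ (T' = S' ∧ ∀ P : Subgroup Ω', E'.Hom P = F'.Hom P) := by
  have hT' : T' ≤ S' := hE.1.2.2.2.1.1
  have hsub := hE.1.2.2.1
  rcases hF.2.2 _ _ (pullSys_normalIn h hT' hS hF.1 hE) with hb | ⟨hT, hHom⟩
  · refine Or.inl ?_
    rw [← h.up_preimage hT', hb, up, imageAlong, Subgroup.bot_subgroupOf, Subgroup.map_bot]
  · have hTe : T' = S' := by
      rw [← h.up_preimage hT', hT]
      refine le_antisymm h.up_le fun y hy => ?_
      obtain ⟨x, rfl⟩ := h.range_eq.ge hy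
      exact ⟨x, x.2, rfl⟩
    refine Or.inr ⟨hTe, fun P => Set.Subset.antisymm (hsub P) fun ψ hψ => ?_⟩
    have hP : P ≤ S' := (F'.le_of_mem hψ).1
    have hPu : up i (preimageAlong i P) = P := h.up_preimage hP
    have hm : Map F' (up i (preimageAlong i P)) (fn ψ) := by rw [hPu]; exact map_of_mem hψ
    have hd := h.map_down (preimage_le P) hm
    obtain ⟨φ, hφ, he⟩ := hd
    rw [← hHom] at hφ
    have h2 := pullSys_up (map_of_mem hφ)
    rw [hPu] at h2
    refine mem_iff_map.2 (h2.congr fun y hy => ?_)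
    obtain ⟨x, hx, rfl⟩ := (mem_up (preimage_le P)).1 (hPu.ge hy)
    rw [h.pushFn_ue (preimage_le P hx), fn_apply φ hx, he ⟨x, hx⟩]
    exact h.ue_ve ((map_of_mem hψ).mem hy)

end Cfsg.Agent.Local.FS
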