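import Mathlib

/-!
Groups of linear maps of a three-dimensional space over `ZMod p` in which a Sylow `p`-subgroup is
strongly embedded: its order is `p` and, if it consists of transvections, it is normalised by a
split torus.
-/

set_option autoImplicit false

namespace Cfsg.Agent.Local.FS.RankThree

variable {p : ℕ} [hp : Fact p.Prime] {V : Type*} [AddCommGroup V] [Module (ZMod p) V]
  {X : Type*} [Group X]

/-- The strongly embedded situation, for a Sylow subgroup `T` inside `H`. -/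
structure Emb (p : ℕ) (H T : Subgroup X) : Prop where
  ne_top : H ≠ ⊤
  le : T ≤ H
  pgroup : IsPGroup p T
  tight : ∀ y ∈ T, y ≠ 1 → ∀ γ : X, γ * y * γ⁻¹ ∈ T → γ ∈ H
  conj : ∀ y ∈ H, (∃ j : ℕ, y ^ p ^ j = 1) → ∃ h ∈ H, h * y * h⁻¹ ∈ T

variable (ρ : X →* (V ≃ₗ[ZMod p] V))

/-- `z` acts as the transvection `v ↦ v + φ v • c`. -/
def Tv (z : X) (φ : V →ₗ[ZMod p] ZMod p) (c : V) : Prop :=
  φ c = 0 ∧ ∀ v, ρ z v = v + φ v • c

variable {ρ} {H T : Subgroup X}

theorem map_mul_apply (x y : X) (v : V) : ρ (x * y) v = ρ x (ρ y v) := by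
  rw [map_mul]; rfl

theorem map_inv_apply (x : X) (v : V) : ρ x (ρ x⁻¹ v) = v := by
  rw [← map_mul_apply, mul_inv_cancel, map_one]; rfl

theorem map_inv_apply' (x : X) (v : V) : ρ x⁻¹ (ρ x v) = v := by
  rw [← map_mul_apply, inv_mul_cancel, map_one]; rfl

theorem Tv.pow {z : X} {φ : V →ₗ[ZMod p] ZMod p} {c : V} (hz : Tv ρ z φ c) (m : ℕ) (v : V) :
    ρ (z ^ m) v = v + ((m : ZMod p) * φ v) • c := by
  induction m with
  | zero => simp
  | succ m ih =>
    rw [pow_succ', map_mul_apply, ih, map_add, map_smul, hz.2 v, hz.2 c, hz.1, zero_smul, add_zero,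
      Nat.cast_succ, add_mul, one_mul, add_smul]
    abel

theorem Tv.conj {z : X} {φ : V →ₗ[ZMod p] ZMod p} {c : V} (hz : Tv ρ z φ c) (γ : X) :
    Tv ρ (γ * z * γ⁻¹) (φ ∘ₗ (ρ γ⁻¹).toLinearMap) (ρ γ c) := by
  refine ⟨?_, fun v => ?_⟩
  · show φ (ρ γ⁻¹ (ρ γ c)) = 0
    rw [map_inv_apply', hz.1]
  · show _ = v + φ (ρ γ⁻¹ v) • ρ γ c
    rw [map_mul_apply, map_mul_apply, hz.2, map_add, map_smul, map_inv_apply]

theorem Tv.scale {z : X} {φ : V →ₗ[ZMod p] ZMod p} {c : V} (hz : Tv ρ z φ c) (t : ZMod p) (v : V) :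
    ρ (z ^ t.val) v = v + (t * φ v) • c := by
  rw [hz.pow, ZMod.natCast_zmod_val]

/-- Transvections from distinct classes are nowhere orthogonal. -/
theorem Emb.cross (hE : Emb p H T) (hρ : Function.Injective ρ) {z : X} {φ : V →ₗ[ZMod p] ZMod p} {c : V}
    (hz : Tv ρ z φ c) (hzT : z ∈ T) (hz1 : z ≠ 1) {γ : X} (hγ : γ ∉ H) : φ (ρ γ c) ≠ 0 := by
  intro h0
  have h2 := hz.conj γ
  obtain ⟨y, hy⟩ : ∃ y, y = γ * z * γ⁻¹ := ⟨_, rfl⟩
  obtain ⟨ψ, hψ⟩ : ∃ ψ, ψ = φ ∘ₗ (ρ γ⁻¹).toLinearMap := ⟨_, rfl⟩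
  obtain ⟨d, hd⟩ : ∃ d, d = ρ γ c := ⟨_, rfl⟩
  rw [← hy, ← hψ, ← hd] at h2
  rw [← hd] at h0
  obtain ⟨q, hq⟩ : ∃ q, q = z * y * z⁻¹ * y⁻¹ := ⟨_, rfl⟩
  have hqv : ∀ w, ρ q w = w + (-(ψ c * φ w)) • d := by
    intro w
    obtain ⟨v, rfl⟩ : ∃ v, w = ρ (y * z) v := ⟨ρ (y * z)⁻¹ w, (map_inv_apply _ _).symm⟩
    rw [← map_mul_apply, show q * (y * z) = z * y by rw [hq]; group, map_mul_apply, map_mul_apply,
      h2.2, hz.2, hz.2, h2.2]
    simp only [map_add, map_smul, h0, hz.1, smul_eq_mul, mul_zero, add_zero, add_smul, neg_smul,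
      mul_smul]
    rw [smul_comm (ψ c) (φ v) d]
    abel
  have hqt : Tv ρ q ((-ψ c) • φ) d := ⟨by simp [h0], fun w => by rw [hqv w]; simp⟩
  have hcz : q * z * q⁻¹ = z := by
    rw [mul_inv_eq_iff_eq_mul]
    refine hρ (LinearEquiv.ext fun v => ?_)
    rw [map_mul_apply, map_mul_apply, hqv, hz.2, hz.2, hqv, map_add, map_add]
    simp [h0, hz.1]
    abel
  have hcy : q * y * q⁻¹ = y := by
    rw [mul_inv_eq_iff_eq_mul]
    refine hρ (LinearEquiv.ext fun v => ?_)
    rw [map_mul_apply, map_mul_apply, hqv, h2.2, h2.2, hqv, map_add, map_add]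
    simp [h0, h2.1]
    abel
  have hqH : q ∈ H := hE.tight z hzT hz1 q (by rw [hcz]; exact hzT)
  obtain ⟨j, hj⟩ := hE.pgroup ⟨z, hzT⟩
  have hzj : z ^ p ^ j = 1 := congrArg Subtype.val hj
  by_cases hq1 : q = 1
  · -- the two transvections commute
    have hzy : y * z * y⁻¹ = z := by
      rw [hq, mul_inv_eq_one, mul_inv_eq_iff_eq_mul] at hq1
      rw [mul_inv_eq_iff_eq_mul]; exact hq1.symm
    have hyH : y ∈ H := hE.tight z hzT hz1 y (by rw [hzy]; exact hzT)
    obtain ⟨h, hh, hhT⟩ := hE.conj y hyH ⟨j, by rw [hy, conj_pow, hzj, mul_one, mul_inv_cancel]⟩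
    have := hE.tight z hzT hz1 (h * γ) (by
      rw [hy] at hhT
      rw [show h * γ * z * (h * γ)⁻¹ = h * (γ * z * γ⁻¹) * h⁻¹ by group]
      exact hhT)
    exact hγ (by simpa using H.mul_mem (H.inv_mem hh) this)
  · have hqp : q ^ p ^ 1 = 1 := by
      refine hρ (LinearEquiv.ext fun v => ?_)
      rw [hqt.pow, map_one]
      simp
    obtain ⟨h, hh, hhT⟩ := hE.conj q hqH ⟨1, hqp⟩
    have h3 : γ⁻¹ * q * γ * z * (γ⁻¹ * q * γ)⁻¹ = z := by
      rw [hy] at hcy
      calc γ⁻¹ * q * γ * z * (γ⁻¹ * q * γ)⁻¹ = γ⁻¹ * (q * (γ * z * γ⁻¹) * q⁻¹) * γ := by group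
        _ = _ := by rw [hcy]; group
    have h4 : γ⁻¹ * q * γ ∈ H := hE.tight z hzT hz1 _ (by rw [h3]; exact hzT)
    obtain ⟨k, hk, hkT⟩ := hE.conj _ h4 ⟨1, by
      have := conj_pow (a := γ⁻¹) (b := q) (i := p ^ 1)
      rw [inv_inv] at this
      rw [this, hqp, mul_one, inv_mul_cancel]⟩
    have h5 := hE.tight (h * q * h⁻¹) hhT (fun e => hq1 (by
      rw [mul_inv_eq_one] at e; exact mul_left_cancel (e.trans (mul_one h).symm))) (k * γ⁻¹ * h⁻¹) (by
        rw [show k * γ⁻¹ * h⁻¹ * (h * q * h⁻¹) * (k * γ⁻¹ * h⁻¹)⁻¹ = k * (γ⁻¹ * q * γ) * k⁻¹ by group]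
        exact hkT)
    have := H.mul_mem (H.mul_mem (H.inv_mem hk) h5) hh
    exact hγ (H.inv_mem_iff.1 (by simpa [mul_assoc] using this))

/-- A `p`-element fixing a line modulo a subspace fixes it pointwise modulo the subspace. -/
theorem exists_fixed (hT : IsPGroup p T) [Finite V] (W : Submodule (ZMod p) V)
    (hW : ∀ u ∈ T, ∀ w ∈ W, ρ u w ∈ W) (hne : W ≠ ⊤) :
    ∃ v, v ∉ W ∧ ∀ u ∈ T, ρ u v - v ∈ W := by
  letI : MulAction T (V ⧸ W) :=
    { smul := fun u x => Submodule.mapQ W W (ρ (u : X)).toLinearMap (fun w hw => hW u u.2 w hw) x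
      one_smul := fun x => by
        induction x using Submodule.Quotient.induction_on with
        | _ v => show Submodule.Quotient.mk (ρ (1 : X) v) = _; rw [map_one]; rfl
      mul_smul := fun a b x => by
        induction x using Submodule.Quotient.induction_on with
        | _ v =>
          show Submodule.Quotient.mk (ρ ((a : X) * b) v) = Submodule.Quotient.mk (ρ (a : X) (ρ (b : X) v))
          rw [map_mul_apply] }
  haveI : Finite (V ⧸ W) := Finite.of_surjective _ (Submodule.Quotient.mk_surjective W)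
  haveI : Nontrivial (V ⧸ W) := Submodule.Quotient.nontrivial_iff.2 hne
  obtain ⟨N, hN⟩ : ∃ N, Nat.card (V ⧸ W) = p ^ N := by
    haveI : Fintype (V ⧸ W) := Fintype.ofFinite _
    exact ⟨_, by rw [Nat.card_eq_fintype_card, Module.card_eq_pow_finrank (K := ZMod p), ZMod.card]⟩
  have hd : p ∣ Nat.card (V ⧸ W) := by
    rw [hN]
    refine dvd_pow_self p ?_
    rintro rfl
    exact absurd hN (Finite.one_lt_card.ne')
  have h0 : (0 : V ⧸ W) ∈ MulAction.fixedPoints T (V ⧸ W) := fun u => by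
    show Submodule.mapQ W W _ _ 0 = 0; exact map_zero _
  obtain ⟨x, hx, hx0⟩ := hT.exists_fixed_point_of_prime_dvd_card_of_fixed_point (V ⧸ W) hd h0
  induction x using Submodule.Quotient.induction_on with
  | _ v =>
    refine ⟨v, fun h => hx0.symm ((Submodule.Quotient.mk_eq_zero W).2 h), fun u hu => ?_⟩
    exact (Submodule.Quotient.eq W).1 (hx ⟨u, hu⟩)

/-- `p`-elements act trivially on lines. -/
theorem one_of_pow_eq_one {a : ZMod p} {j : ℕ} (h : a ^ p ^ j = 1) : a = 1 := by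
  rwa [ZMod.pow_card_pow] at h

/-- The Sylow subgroup has order at most `p`. -/
theorem Emb.card_le [Finite X] [Finite V] (hE : Emb p H T) (hρ : Function.Injective ρ)
    (hV : Nat.card V = p ^ 3) : Nat.card T ≤ p := by
  classical
  have hp' := hp.out
  by_contra hlt
  push Not at hlt
  haveI : Fintype V := Fintype.ofFinite V
  have hfr : Module.finrank (ZMod p) V = 3 := by
    have := Module.card_eq_pow_finrank (K := ZMod p) (V := V)
    rw [ZMod.card, ← Nat.card_eq_fintype_card, hV] at this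
    exact (Nat.pow_right_injective hp'.two_le this).symm
  have hne : ∀ W : Submodule (ZMod p) V, Module.finrank (ZMod p) W < 3 → W ≠ ⊤ := by
    intro W hW h; rw [h, finrank_top] at hW; omega
  obtain ⟨c, hc0, hc⟩ := exists_fixed hE.pgroup (⊥ : Submodule (ZMod p) V)
    (fun u _ w hw => by rw [Submodule.mem_bot] at hw ⊢; rw [hw, map_zero]) (hne _ (by simp))
  rw [Submodule.mem_bot] at hc0
  simp only [Submodule.mem_bot, sub_eq_zero] at hc
  obtain ⟨L, hL⟩ : ∃ L : Submodule (ZMod p) V, L = Submodule.span (ZMod p) {c} := ⟨_, rfl⟩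
  have hLi : ∀ u ∈ T, ∀ w ∈ L, ρ u w = w := by
    intro u hu w hw
    obtain ⟨a, rfl⟩ := Submodule.mem_span_singleton.1 (hL ▸ hw)
    rw [map_smul, hc u hu]
  have hLr : Module.finrank (ZMod p) L = 1 := by rw [hL]; exact finrank_span_singleton hc0
  obtain ⟨d, hd0, hd⟩ := exists_fixed hE.pgroup L (fun u hu w hw => by rwa [hLi u hu w hw]) (hne _ (by omega))
  obtain ⟨W, hW⟩ : ∃ W : Submodule (ZMod p) V, W = L ⊔ Submodule.span (ZMod p) {d} := ⟨_, rfl⟩
  have hdW : d ∈ W := hW ▸ Submodule.mem_sup_right (Submodule.mem_span_singleton_self d)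
  have hcW : c ∈ W := hW ▸ Submodule.mem_sup_left (hL ▸ Submodule.mem_span_singleton_self c)
  have hWi : ∀ u ∈ T, ∀ w ∈ W, ρ u w - w ∈ L := by
    intro u hu w hw
    obtain ⟨x, hx, y, hy, rfl⟩ := Submodule.mem_sup.1 (hW ▸ hw)
    obtain ⟨a, rfl⟩ := Submodule.mem_span_singleton.1 hy
    rw [map_add, hLi u hu x hx, map_smul, add_sub_add_left_eq_sub, ← smul_sub]
    exact L.smul_mem a (hd u hu)
  have hWr : Module.finrank (ZMod p) W ≤ 2 := by
    have h1 := Submodule.finrank_add_le_finrank_add_finrank L (Submodule.span (ZMod p) {d})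
    have h2 : Module.finrank (ZMod p) (Submodule.span (ZMod p) {d}) = 1 :=
      finrank_span_singleton (fun h => hd0 (h ▸ L.zero_mem))
    rw [← hW] at h1; omega
  obtain ⟨f, hf0, hf⟩ := exists_fixed hE.pgroup W (fun u hu w hw => by
    have h1 : L ≤ W := hW ▸ le_sup_left
    simpa using W.add_mem (h1 (hWi u hu w hw)) hw) (hne _ (by omega))
  -- the space is `W ⊕ ⟨f⟩`
  have htop : W ⊔ Submodule.span (ZMod p) {f} = ⊤ := by
    refine Submodule.eq_top_of_finrank_eq (le_antisymm (Submodule.finrank_le _) ?_)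
    have hcoe : Module.finrank (ZMod p) W = 2 := by
      refine le_antisymm hWr ?_
      have hlt : L < W := lt_of_le_of_ne (hW ▸ le_sup_left) fun h => hd0 (h ▸ hdW)
      have := Submodule.finrank_lt_finrank_of_lt hlt
      omega
    have hlt : W < W ⊔ Submodule.span (ZMod p) {f} := lt_of_le_of_ne le_sup_left fun h => hf0 (h ▸
      Submodule.mem_sup_right (Submodule.mem_span_singleton_self f))
    have := Submodule.finrank_lt_finrank_of_lt hlt
    omega
  have hmemW : ∀ w ∈ W, ∃ s t : ZMod p, w = s • d + t • c := by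
    intro w hw
    obtain ⟨x, hx, y, hy, rfl⟩ := Submodule.mem_sup.1 (hW ▸ hw)
    obtain ⟨t, rfl⟩ := Submodule.mem_span_singleton.1 (hL ▸ hx)
    obtain ⟨s, rfl⟩ := Submodule.mem_span_singleton.1 hy
    exact ⟨s, t, add_comm _ _⟩
  have hcoord : ∀ v, ∃ r : ZMod p, v - r • f ∈ W := by
    intro v
    obtain ⟨x, hx, y, hy, rfl⟩ := Submodule.mem_sup.1 (htop.ge (Submodule.mem_top (x := v)))
    obtain ⟨r, rfl⟩ := Submodule.mem_span_singleton.1 hy
    exact ⟨r, by simpa using hx⟩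
  have hfa : ∀ r : ZMod p, r • f ∈ W → r = 0 := fun r hr => by
    by_contra h
    exact hf0 (by simpa [smul_smul, inv_mul_cancel₀ h] using W.smul_mem r⁻¹ hr)
  have hdb : ∀ s : ZMod p, s • d ∈ L → s = 0 := fun s hs => by
    by_contra h
    exact hd0 (by simpa [smul_smul, inv_mul_cancel₀ h] using L.smul_mem s⁻¹ hs)
  have hdiff : ∀ u : T, ∃ a b e : ZMod p, ρ (u : X) f = f + a • d + e • c ∧ ρ (u : X) d = d + b • c := by
    intro u
    obtain ⟨a, e, he⟩ := hmemW _ (hf u u.2)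
    obtain ⟨b, hb⟩ := Submodule.mem_span_singleton.1 (hL ▸ hd u u.2)
    refine ⟨a, b, e, ?_, ?_⟩
    · rw [sub_eq_iff_eq_add'] at he; rw [he, add_assoc]
    · rw [hb, add_sub_cancel]
  choose a b e hae hbe using hdiff
  have hsub : ∀ {A B E₁ A' B' E₁' : ZMod p}, f + A • d + E₁ • c = f + A' • d + E₁' • c → A = A' := by
    intro A B E₁ A' B' E₁' h
    refine sub_eq_zero.1 (hdb _ ?_)
    rw [hL, Submodule.mem_span_singleton]
    refine ⟨E₁' - E₁, ?_⟩
    rw [sub_smul, sub_smul]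
    linear_combination (norm := abel) -h
  have hab : ∀ u v : T, a (u * v) = a u + a v ∧ b (u * v) = b u + b v := by
    intro u v
    constructor
    · refine hsub (B := 0) (B' := 0) (E₁ := e (u * v)) (E₁' := e u + e v + a v * b u) ?_
      rw [← hae, Subgroup.coe_mul, map_mul_apply, hae v, map_add, map_add, map_smul, map_smul, hae u, hbe u,
        hc u u.2, smul_add, smul_smul, add_smul, add_smul, add_smul]
      abel
    · have h := hbe (u * v)
      rw [Subgroup.coe_mul, map_mul_apply, hbe v, map_add, map_smul, hbe u, hc u u.2, add_assoc,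
        ← add_smul] at h
      exact (smul_left_injective (ZMod p) hc0 (add_left_cancel h)).symm
  -- an element fixing `W` pointwise
  obtain ⟨z, hz1, hza, hzb⟩ : ∃ z : T, z ≠ 1 ∧ a z = 0 ∧ b z = 0 := by
    by_contra hno
    push Not at hno
    have hab1 : a 1 = 0 ∧ b 1 = 0 := by
      constructor
      · simpa using (hab 1 1).1
      · simpa using (hab 1 1).2
    have hinj : Function.Injective fun u : T => (a u, b u) := by
      intro u v h
      by_contra hne
      simp only [Prod.mk.injEq] at h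
      have h1 := hab (u * v⁻¹) v
      rw [inv_mul_cancel_right] at h1
      refine hno (u * v⁻¹) (fun h => hne (mul_inv_eq_one.1 h)) ?_ ?_
      · have := h1.1; rw [h.1] at this; simpa using this
      · have := h1.2; rw [h.2] at this; simpa using this
    obtain ⟨i, hi⟩ := IsPGroup.iff_card.1 hE.pgroup
    have hsurj : Function.Surjective fun u : T => (a u, b u) := by
      haveI : Fintype T := Fintype.ofFinite T
      refine ((Fintype.bijective_iff_injective_and_card _).2 ⟨hinj, ?_⟩).2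
      have hle := Nat.card_le_card_of_injective _ hinj
      rw [Nat.card_prod, Nat.card_zmod, ← sq, hi] at hle
      rw [hi] at hlt
      have h1 : i ≤ 2 := (Nat.pow_le_pow_iff_right hp'.one_lt).1 hle
      have h2 : 1 < i := (Nat.pow_lt_pow_iff_right hp'.one_lt).1 (by rwa [pow_one])
      rw [← Nat.card_eq_fintype_card, hi, Fintype.card_prod, ZMod.card, show i = 2 by omega, sq]
    obtain ⟨u₁, hu₁⟩ := hsurj (1, 0)
    obtain ⟨u₂, hu₂⟩ := hsurj (0, 1)
    simp only [Prod.mk.injEq] at hu₁ hu₂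
    have hcomm : u₁ * u₂ = u₂ * u₁ := hinj (by
      simp only [Prod.mk.injEq]
      exact ⟨by rw [(hab _ _).1, (hab _ _).1, add_comm], by rw [(hab _ _).2, (hab _ _).2, add_comm]⟩)
    have h := congrArg (fun u : T => ρ (u : X) f) hcomm
    simp only [Subgroup.coe_mul, map_mul_apply] at h
    rw [hae u₂, hae u₁, map_add, map_add, map_add, map_add, map_smul, map_smul, map_smul, map_smul, hae u₁,
      hae u₂, hbe u₁, hbe u₂, hc _ u₁.2, hc _ u₂.2, hu₁.1, hu₁.2, hu₂.1, hu₂.2] at h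
    simp only [zero_smul, one_smul, add_zero] at h
    apply hc0
    linear_combination (norm := abel) -h
  -- it is a transvection commuting with `T`
  choose r hr using hcoord
  have hr' : ∀ v s, v - s • f ∈ W → r v = s := fun v s h => by
    refine sub_eq_zero.1 (hfa _ ?_)
    have := W.sub_mem h (hr v)
    rwa [sub_sub_sub_cancel_left, ← sub_smul] at this
  obtain ⟨φ, hφ⟩ : ∃ φ : V →ₗ[ZMod p] ZMod p, ∀ v, φ v = e z * r v :=
    ⟨{ toFun := fun v => e z * r v
       map_add' := fun v w => by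
        rw [hr' (v + w) (r v + r w) (by
          rw [add_smul, add_sub_add_comm]; exact W.add_mem (hr v) (hr w)), mul_add]
       map_smul' := fun t v => by
        rw [hr' (t • v) (t * r v) (by rw [mul_smul, ← smul_sub]; exact W.smul_mem t (hr v)), RingHom.id_apply,
          smul_eq_mul]
        ring }, fun v => rfl⟩
  have hTv : Tv ρ (z : X) φ c := by
    refine ⟨by rw [hφ, hr' c 0 (by simpa using hcW), mul_zero], fun v => ?_⟩
    obtain ⟨s, t, hst⟩ := hmemW _ (hr v)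
    obtain ⟨q, hq⟩ : ∃ q, q = r v := ⟨_, rfl⟩
    rw [← hq] at hst
    have hv : v = s • d + t • c + q • f := by rw [← hst, sub_add_cancel]
    rw [hφ, ← hq, hv, map_add, map_add, map_smul, map_smul, map_smul, hbe, hc _ z.2, hae, hza, hzb]
    simp only [zero_smul, add_zero, smul_add, smul_smul]
    rw [mul_comm q (e z)]
    abel
  have hφu : ∀ u ∈ T, ∀ v, φ (ρ u v) = φ v := by
    intro u hu v
    rw [hφ, hφ, hr' (ρ u v) (r v) ?_]
    have h1 : ρ u v - r v • f = (ρ u (v - r v • f) - (v - r v • f)) + (v - r v • f) + r v • (ρ u f - f) := by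
      rw [map_sub, map_smul, smul_sub]; abel
    rw [h1]
    exact W.add_mem (W.add_mem ((hW ▸ le_sup_left : L ≤ W) (hWi u hu _ (hr v))) (hr v)) (W.smul_mem _ (hf u hu))
  obtain ⟨u, hu, huz⟩ : ∃ u ∈ T, u ∉ Subgroup.zpowers (z : X) := by
    by_contra hno
    push Not at hno
    have hle : Nat.card T ≤ Nat.card (Subgroup.zpowers (z : X)) :=
      Subgroup.card_le_of_le (show T ≤ Subgroup.zpowers (z : X) from hno)
    rw [Nat.card_zpowers] at hle
    have : orderOf (z : X) ≤ p := orderOf_le_of_pow_eq_one hp'.pos (hρ (LinearEquiv.ext fun v => by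
      rw [hTv.pow, map_one]; simp))
    omega
  obtain ⟨α, hα⟩ : ∃ α, α ∉ H := by
    by_contra h; push Not at h; exact hE.ne_top (eq_top_iff.2 fun x _ => h x)
  have hzX : (z : X) ≠ 1 := fun h => hz1 (Subtype.ext h)
  have h1 := hE.cross hρ hTv z.2 hzX hα
  have h2 := hE.cross hρ hTv z.2 hzX (show α⁻¹ ∉ H from fun h => hα (H.inv_mem_iff.1 h))
  obtain ⟨j, hj⟩ : ∃ j : ZMod p,
      φ (ρ α⁻¹ (ρ u (ρ α c))) + j * φ (ρ α c) * φ (ρ α⁻¹ c) = 0 :=
    ⟨-φ (ρ α⁻¹ (ρ u (ρ α c))) / (φ (ρ α c) * φ (ρ α⁻¹ c)), by field_simp; ring⟩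
  obtain ⟨w, hw⟩ : ∃ w, w = u * (z : X) ^ j.val := ⟨_, rfl⟩
  have hwT : w ∈ T := hw ▸ T.mul_mem hu (T.pow_mem z.2 _)
  have hw1 : w ≠ 1 := fun h => huz (by
    rw [hw, mul_eq_one_iff_eq_inv] at h
    rw [h]
    exact Subgroup.inv_mem _ (Subgroup.pow_mem _ (Subgroup.mem_zpowers _) _))
  refine hE.cross hρ hTv z.2 hzX (γ := α⁻¹ * w * α) (fun h => ?_) ?_
  · obtain ⟨i, hi⟩ := hE.pgroup ⟨w, hwT⟩
    have hwi : w ^ p ^ i = 1 := congrArg Subtype.val hi
    obtain ⟨k, hk, hkT⟩ := hE.conj _ h ⟨i, by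
      have := conj_pow (a := α⁻¹) (b := w) (i := p ^ i)
      rw [inv_inv] at this
      rw [this, hwi, mul_one, inv_mul_cancel]⟩
    have h3 := hE.tight w hwT hw1 (k * α⁻¹) (by
      rw [show k * α⁻¹ * w * (k * α⁻¹)⁻¹ = k * (α⁻¹ * w * α) * k⁻¹ by group]; exact hkT)
    exact hα (H.inv_mem_iff.1 (by simpa using H.mul_mem (H.inv_mem hk) h3))
  · rw [map_mul_apply, map_mul_apply, hw, map_mul_apply, hTv.scale, map_add, map_smul, hc u hu, map_add,
      map_smul, map_add, map_smul, smul_eq_mul]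
    exact hj

/-- A unit of maximal order. -/
theorem exists_generator : ∃ g : ZMod p, g ≠ 0 ∧ ∀ m : ℕ, g ^ m = 1 → p - 1 ∣ m := by
  obtain ⟨g, hg⟩ := IsCyclic.exists_ofOrder_eq_natCard (α := (ZMod p)ˣ)
  refine ⟨g, g.ne_zero, fun m hm => ?_⟩
  rw [Nat.card_eq_fintype_card, ZMod.card_units] at hg
  exact hg ▸ orderOf_dvd_of_pow_eq_one (Units.ext (by push_cast; exact hm))

/-- A transvection Sylow subgroup is normalised by a torus. -/
theorem Emb.torus [Finite X] [Finite V] (hE : Emb p H T) (hρ : Function.Injective ρ)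
    (hV : Nat.card V = p ^ 3) {z : X} {φ : V →ₗ[ZMod p] ZMod p} {c : V} (hz : Tv ρ z φ c) (hzT : z ∈ T)
    (hz1 : z ≠ 1) :
    ∃ (τ : X) (e l : V) (L M : ZMod p), φ e ≠ 0 ∧ φ l = 0 ∧ l ∉ Submodule.span (ZMod p) {c} ∧
      L * M = 1 ∧ (∀ m : ℕ, M ^ m = 1 → p - 1 ∣ m) ∧ ρ τ e = L • e ∧ ρ τ c = M • c ∧ ρ τ l = l ∧
      ∀ y ∈ T, τ * y * τ⁻¹ ∈ T := by
  classical
  have hp' := hp.out
  haveI : Fintype V := Fintype.ofFinite V
  have hT : ∀ y ∈ T, ∃ m : ℕ, y = z ^ m := by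
    intro y hy
    have hzo : orderOf z = p := orderOf_eq_prime (hρ (LinearEquiv.ext fun v => by
      rw [hz.pow, map_one]; simp)) hz1
    have he : Subgroup.zpowers z = T := Subgroup.eq_of_le_of_card_ge (Subgroup.zpowers_le.2 hzT)
      (by rw [Nat.card_zpowers, hzo]; exact hE.card_le hρ hV)
    obtain ⟨m, hm⟩ := mem_powers_iff_mem_zpowers.2 (he.ge hy)
    exact ⟨m, hm.symm⟩
  obtain ⟨γ, hγ⟩ : ∃ γ, γ ∉ H := by
    by_contra h; push Not at h; exact hE.ne_top (eq_top_iff.2 fun x _ => h x)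
  have hA := hE.cross hρ hz hzT hz1 hγ
  have hB := hE.cross hρ hz hzT hz1 (show γ⁻¹ ∉ H from fun h => hγ (H.inv_mem_iff.1 h))
  have hy := hz.conj γ
  obtain ⟨y, hyd⟩ : ∃ y, y = γ * z * γ⁻¹ := ⟨_, rfl⟩
  obtain ⟨ψ, hψd⟩ : ∃ ψ, ψ = φ ∘ₗ (ρ γ⁻¹).toLinearMap := ⟨_, rfl⟩
  obtain ⟨d, hdd⟩ : ∃ d, d = ρ γ c := ⟨_, rfl⟩
  rw [← hyd, ← hψd, ← hdd] at hy
  rw [← hdd] at hA
  have hB' : ψ c ≠ 0 := by rw [hψd]; exact hB
  obtain ⟨P, hP⟩ : ∃ P, P = φ d := ⟨_, rfl⟩
  obtain ⟨Q, hQ⟩ : ∃ Q, Q = ψ c := ⟨_, rfl⟩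
  rw [← hP] at hA
  rw [← hQ] at hB'
  -- the common fixed line
  obtain ⟨l, hl, hl0⟩ : ∃ l, l ∈ LinearMap.ker (φ.prod ψ) ∧ l ≠ 0 := by
    refine Submodule.exists_mem_ne_zero_of_ne_bot fun h => ?_
    have := Nat.card_le_card_of_injective _ (LinearMap.ker_eq_bot.1 h)
    rw [hV, Nat.card_prod, Nat.card_zmod, ← sq, Nat.pow_le_pow_iff_right hp'.one_lt] at this
    omega
  simp only [LinearMap.mem_ker, LinearMap.prod_apply, Function.prod, Prod.mk_eq_zero] at hl
  obtain ⟨g, hg0, hg⟩ := exists_generator (p := p)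
  -- the Weyl elements
  obtain ⟨w, hw⟩ : ∃ w : ZMod p → X,
      ∀ s, w s = z ^ (s / P).val * y ^ (-(1 / (s * Q))).val * z ^ (s / P).val := ⟨_, fun s => rfl⟩
  have hwc : ∀ s, s ≠ 0 → ρ (w s) c = (-(1 / (s * Q)) * Q) • d ∧ ρ (w s) d = (s / P * P) • c ∧ ρ (w s) l = l := by
    intro s hs
    refine ⟨?_, ?_, ?_⟩ <;>
      simp only [hw, map_mul_apply, hz.scale, hy.scale, map_add, map_smul, hz.1, hy.1, ← hP, ← hQ, hl.1, hl.2,
        smul_eq_mul, mul_zero, zero_smul, add_zero, add_smul, smul_add, smul_smul, add_mul, mul_add] <;>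
      (match_scalars <;> field_simp <;> ring)
  obtain ⟨h, hh⟩ : ∃ h, h = w g * w (-1) := ⟨_, rfl⟩
  have hg' : g * g⁻¹ = 1 := mul_inv_cancel₀ hg0
  have hnz : (-1 : ZMod p) ≠ 0 := neg_ne_zero.2 one_ne_zero
  have hhc : ρ h c = g • c := by
    rw [hh, map_mul_apply, (hwc _ hnz).1, map_smul, (hwc g hg0).2.1, smul_smul]
    congr 1
    field_simp
  have hhd : ρ h d = g⁻¹ • d := by
    rw [hh, map_mul_apply, (hwc _ hnz).2.1, map_smul, (hwc g hg0).1, smul_smul]
    congr 1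
    field_simp
  have hhl : ρ h l = l := by rw [hh, map_mul_apply, (hwc _ hnz).2.2, (hwc g hg0).2.2]
  have hzc : c ≠ 0 := fun e => hA (by rw [hP, hdd, e, map_zero, map_zero])
  have hlc : l ∉ Submodule.span (ZMod p) {c} := by
    intro hm
    obtain ⟨a, rfl⟩ := Submodule.mem_span_singleton.1 hm
    have : a * Q = 0 := by rw [hQ, ← smul_eq_mul, ← map_smul]; exact hl.2
    exact hl0 (by rw [(mul_eq_zero.1 this).resolve_right hB', zero_smul])
  -- `c, d, l` span
  have hspan : ∀ v, ∃ a b t : ZMod p, v = a • c + b • d + t • l := by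
    have hsurj : Function.Surjective fun x : ZMod p × ZMod p × ZMod p => x.1 • c + x.2.1 • d + x.2.2 • l := by
      refine ((Fintype.bijective_iff_injective_and_card _).2 ⟨?_, ?_⟩).2
      · rintro ⟨a, b, t⟩ ⟨a', b', t'⟩ he
        simp only at he
        have h0 : (a - a') • c + (b - b') • d + (t - t') • l = 0 := by
          rw [sub_smul, sub_smul, sub_smul]; linear_combination (norm := abel) he
        have hb : b - b' = 0 := by
          have := congrArg φ h0
          simp only [map_add, map_smul, hz.1, ← hP, hl.1, smul_eq_mul, mul_zero, add_zero, zero_add, map_zero] at this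
          exact (mul_eq_zero.1 this).resolve_right hA
        have ha : a - a' = 0 := by
          have := congrArg ψ h0
          simp only [map_add, map_smul, hy.1, ← hQ, hl.2, smul_eq_mul, mul_zero, add_zero, map_zero] at this
          exact (mul_eq_zero.1 this).resolve_right hB'
        rw [ha, hb, zero_smul, zero_smul, zero_add, zero_add] at h0
        have ht := (smul_eq_zero.1 h0).resolve_right hl0
        simp [sub_eq_zero.1 ha, sub_eq_zero.1 hb, sub_eq_zero.1 ht]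
      · rw [Fintype.card_prod, Fintype.card_prod, ZMod.card, ← Nat.card_eq_fintype_card, hV]; ring
    intro v
    obtain ⟨⟨a, b, t⟩, h⟩ := hsurj v
    exact ⟨a, b, t, h.symm⟩
  refine ⟨h, d, l, g⁻¹, g, ?_, hl.1, hlc, inv_mul_cancel₀ hg0, hg, hhd, hhc, hhl, ?_⟩
  · rw [← hP]; exact hA
  intro t ht
  obtain ⟨m, rfl⟩ := hT t ht
  have key : h * z * h⁻¹ = z ^ (g * g).val := by
    rw [mul_inv_eq_iff_eq_mul]
    refine hρ (LinearEquiv.ext fun v => ?_)
    obtain ⟨a, b, t, rfl⟩ := hspan v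
    simp only [map_mul_apply, hz.2, hz.scale, map_add, map_smul, hhc, hhd, hhl, hz.1, ← hP, hl.1, smul_eq_mul,
      mul_zero, zero_smul, add_zero, zero_add, smul_smul]
    match_scalars <;> field_simp
  rw [← conj_pow, key]
  exact T.pow_mem (T.pow_mem hzT _) _

/-- A map fixing a hyperplane pointwise is a transvection. -/
theorem exists_tv [Finite V] {z : X} (hz : z ^ p = 1) {W : Submodule (ZMod p) V}
    (hW : ∀ v, v ∈ W ↔ ρ z v = v) {f : V} (hf : f ∉ W) (hspan : ∀ v, ∃ r : ZMod p, v - r • f ∈ W) :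
    ∃ φ : V →ₗ[ZMod p] ZMod p, Tv ρ z φ (ρ z f - f) ∧ φ f = 1 := by
  choose r hr using hspan
  have hr' : ∀ v s, v - s • f ∈ W → r v = s := fun v s h => by
    by_contra hne
    have h1 := W.sub_mem h (hr v)
    rw [sub_sub_sub_cancel_left, ← sub_smul] at h1
    exact hf (by simpa [smul_smul, inv_mul_cancel₀ (sub_ne_zero.2 hne)] using W.smul_mem (r v - s)⁻¹ h1)
  obtain ⟨φ, hφ⟩ : ∃ φ : V →ₗ[ZMod p] ZMod p, ∀ v, φ v = r v :=
    ⟨{ toFun := r
       map_add' := fun v w => hr' _ _ (by rw [add_smul, add_sub_add_comm]; exact W.add_mem (hr v) (hr w))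
       map_smul' := fun t v => by
        rw [hr' (t • v) (t * r v) (by rw [mul_smul, ← smul_sub]; exact W.smul_mem t (hr v))]
        rfl }, fun v => rfl⟩
  have hact : ∀ v, ρ z v = v + φ v • (ρ z f - f) := by
    intro v
    have h1 := (hW _).1 (hr v)
    rw [map_sub, map_smul, sub_eq_iff_eq_add] at h1
    rw [h1, hφ, smul_sub]
    abel
  have hf1 : φ f = 1 := by rw [hφ]; exact hr' f 1 (by simp)
  refine ⟨φ, ⟨?_, hact⟩, hf1⟩
  obtain ⟨c, hc⟩ : ∃ c, c = ρ z f - f := ⟨_, rfl⟩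
  rw [← hc]
  by_contra hne
  -- iterate on `c`
  have hact' : ∀ v, ρ z v = v + φ v • c := fun v => by rw [hc]; exact hact v
  have hpow : ∀ m : ℕ, ρ (z ^ m) c = (1 + φ c) ^ m • c := by
    intro m
    induction m with
    | zero => simp
    | succ m ih =>
      rw [pow_succ', map_mul_apply, ih, map_smul, hact', smul_add, smul_smul, ← add_smul, pow_succ]
      ring_nf
  have h := hpow p
  rw [hz, map_one, ZMod.pow_card] at h
  refine hne ?_
  have h0 : (φ c) • c = 0 := by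
    have : c = (1 + φ c) • c := h
    rw [add_smul, one_smul] at this
    simpa using this.symm
  rcases smul_eq_zero.1 h0 with h0 | h0
  · exact h0
  · rw [h0, map_zero]

end Cfsg.Agent.Local.FS.RankThree
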