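import Cfsg.Agent.Lib.Local.FS.RankTwoEssential
import Cfsg.Agent.Lib.Local.FS.Normal

/-!
`p`-groups of rank two, `p ≥ 5`, other than the one of order `p³` and exponent `p`, are normal in every saturated
system over them.
-/

set_option autoImplicit false

open scoped commutatorElement

universe u

namespace Cfsg.Agent.Local.FS.RankTwo

open Cfsg Cfsg.FusionSystem Cfsg.Agent.Fusion Cfsg.Agent.Local.FS

variable {p : ℕ} [hp : Fact p.Prime] {Ω : Type u} [Group Ω] {S : Subgroup Ω} [Finite S] {F : FusionSystem S}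

/-- Restriction of the automiser to an invariant subgroup. -/
theorem exists_res {E : Subgroup Ω} (W : Subgroup E) (hW : ∀ (γ : MulAut E), ∀ w ∈ W, γ w ∈ W) :
    ∃ r : F.autGroup E →* MulAut W, ∀ (γ : F.autGroup E) (w : W), ((r γ w : W) : E) = (γ : MulAut E) (w : E) :=
  ⟨{ toFun := fun γ =>
      { toFun := fun w => ⟨(γ : MulAut E) (w : E), hW _ w w.2⟩
        invFun := fun w => ⟨(γ : MulAut E)⁻¹ (w : E), hW _ w w.2⟩
        left_inv := fun w => Subtype.ext (MulAut.inv_apply_self _ _ _)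
        right_inv := fun w => Subtype.ext (MulAut.apply_inv_self _ _ _)
        map_mul' := fun v w => Subtype.ext (map_mul (γ : MulAut E) (v : E) w) }
     map_one' := rfl
     map_mul' := fun _ _ => rfl }, fun _ _ => rfl⟩

/-- The kernel of the restriction to a subgroup containing all elements of order `p` is a `p`-group. -/
theorem res_ker (hp2 : p ≠ 2) {E : Subgroup Ω} (hES : E ≤ S) (hS : IsPGroup p S) (W : Subgroup E)
    (hW : ∀ x : E, x ^ p = 1 → x ∈ W) (r : F.autGroup E →* MulAut W)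
    (hr : ∀ (γ : F.autGroup E) (w : W), ((r γ w : W) : E) = (γ : MulAut E) w) : IsPGroup p r.ker := by
  classical
  haveI := finite_of_le hES
  haveI := mulAut_finite_of_le hES
  refine IsPGroup.of_card (Nat.eq_prime_pow_of_unique_prime_dvd Nat.card_pos.ne' fun {q} hq hqd => ?_)
  by_contra hne
  haveI := Fact.mk hq
  obtain ⟨⟨γ, hγk⟩, hγ⟩ := exists_prime_orderOf_dvd_card' q hqd
  have hγo : orderOf (γ : MulAut E) = q := by
    rw [← hγ, Subgroup.orderOf_coe]; exact Subgroup.orderOf_coe (⟨γ, hγk⟩ : r.ker)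
  refine hq.ne_one ?_
  rw [← hγo, aut_eq_one_of_fix_omega (hS.to_le hES) (γ : MulAut E)
    (hγo ▸ (Nat.coprime_primes hq hp.out).2 hne) (fun x hx => ?_), orderOf_one]
  have hxp : x ^ p = 1 := hx.resolve_right fun h => hp2 h.1
  have h := hr γ ⟨x, hW x hxp⟩
  rw [MonoidHom.mem_ker.1 hγk] at h
  exact h.symm

/-- `Ω₁` of order at most `p`. -/
theorem omega_one (hp2 : p ≠ 2) (hS : IsPGroup p S) {E : Subgroup Ω} (hES : E < S) (hC : centralizerIn S E ≤ E)
    (hR : F.IsRadical p E) (W : Subgroup E) (hW : ∀ x : E, x ^ p = 1 → x ∈ W) (hcard : Nat.card W ≤ p) : False := by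
  have hle := hES.le
  haveI := finite_of_le hle
  haveI := mulAut_finite_of_le hle
  obtain ⟨x, hx, hxn, hxE, -⟩ := exists_step hS hES le_rfl
  obtain ⟨a₀, ha₀, ha₀A⟩ := exists_aut_conj hxn
  obtain ⟨a, ha⟩ : ∃ a : F.autGroup E, (a : MulAut E) = a₀ :=
    ⟨⟨a₀, autInducedBy_le_autGroup hle (ha₀A S hx)⟩, rfl⟩
  subst ha
  have hu : Solv.UniqueOrderP p E := by
    intro u v hu hv hv1
    have heq : Subgroup.zpowers v = W := Subgroup.eq_of_le_of_card_ge (Subgroup.zpowers_le.2 (hW v hv))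
      (by rw [Nat.card_zpowers, orderOf_eq_prime hv hv1]; exact hcard)
    exact heq ▸ hW u hu
  rcases Solv.cyclic_or_quaternion (hS.to_le hle) hu with hcyc | ⟨h2, -⟩
  swap
  · exact hp2 h2
  haveI := hcyc
  have hcomm : ∀ c d : MulAut E, c * d = d * c := by
    intro c d
    obtain ⟨g, hg⟩ := IsCyclic.exists_generator (α := E)
    have key : ∀ z, ∃ i : ℤ, g ^ i = z := fun z => Subgroup.mem_zpowers_iff.1 (hg z)
    obtain ⟨i, hi⟩ := key (c g)
    obtain ⟨j, hj⟩ := key (d g)
    refine MulEquiv.ext fun z => ?_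
    obtain ⟨n, rfl⟩ := key z
    simp only [MulAut.mul_apply, map_zpow, ← hi, ← hj, ← zpow_mul]
    ring_nf
  obtain ⟨k, hk⟩ := exists_pow_one hx hS hxn ha₀
  have hk' : a ^ p ^ k = 1 := Subtype.ext (by simpa using hk)
  haveI : (Subgroup.zpowers a).Normal := ⟨fun c hc d => by
    rw [show d * c = c * d from Subtype.ext (hcomm d c), mul_inv_cancel_right]; exact hc⟩
  obtain ⟨j, -, hj⟩ := (Nat.dvd_prime_pow hp.out).1 (orderOf_dvd_of_pow_eq_one hk')
  exact not_mem_normal hle hC hR hx hxE ha₀ (Subgroup.zpowers a) inferInstance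
    (IsPGroup.of_card (n := j) (by rw [Nat.card_zpowers, hj])) (Subgroup.mem_zpowers a)

/-- `Ω₁` of order `p²`: the subgroup is elementary abelian. -/
theorem omega_two (hp3 : 3 < p) (hS : IsPGroup p S) (hF : F.IsSaturated p) {E : Subgroup Ω}
    (hE : F.IsEssential p E) (hES : E < S) (hC : centralizerIn S E ≤ E) (hR : F.IsRadical p E) (W : Subgroup E)
    (hWinv : ∀ (γ : MulAut E), ∀ w ∈ W, γ w ∈ W) (hWe : ∀ w ∈ W, w ^ p = 1)
    (hW : ∀ x : E, x ^ p = 1 → x ∈ W) (hcard : Nat.card W = p ^ 2) :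
    IsElementaryAbelian p E ∧ Nat.card E = p ^ 2 := by
  have hle := hES.le
  haveI := finite_of_le hle
  haveI := mulAut_finite_of_le hle
  have hEp : IsPGroup p E := hS.to_le hle
  have hc : ∀ u v : W, u * v = v * u := (IsPGroup.isMulCommutative_of_card_eq_prime_sq hcard).is_comm.comm
  have hexp : ∀ u : W, u ^ p = 1 := fun u => Subtype.ext (hWe u u.2)
  obtain ⟨r, hr⟩ := exists_res (F := F) W hWinv
  have hker := res_ker (by omega) hle hS W hW r hr
  obtain ⟨x, hx, hxn, hxE, -⟩ := exists_step hS hES le_rfl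
  obtain ⟨a₀, ha₀, ha₀A⟩ := exists_aut_conj hxn
  obtain ⟨a, ha⟩ : ∃ a : F.autGroup E, (a : MulAut E) = a₀ :=
    ⟨⟨a₀, autInducedBy_le_autGroup hle (ha₀A S hx)⟩, rfl⟩
  subst ha
  obtain ⟨k, hk⟩ := exists_pow_one hx hS hxn ha₀
  have hk' : a ^ p ^ k = 1 := Subtype.ext (by simpa using hk)
  have hnn := fun K hK hKp => not_mem_normal hle hC hR hx hxE (a := a) ha₀ K hK hKp
  have hap : r a ^ p = 1 := pow_eq_one_of_pgroup hc hexp hcard (r a) (k := k) (by rw [← map_pow, hk', map_one])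
  obtain ⟨g, hab⟩ := Torus.exists_noncommuting r hker (a := a) hap hnn
  -- `W` is central
  have hcen : ∀ (z : E), ∀ w ∈ W, z * w * z⁻¹ = w := by
    intro z w hw
    haveI : ((Inn E).subgroupOf (F.autGroup E)).Normal := inferInstance
    obtain ⟨c₀, hc₀, hc₀A⟩ := exists_aut_conj (Subgroup.le_normalizer (H := E) z.2)
    have hcI : c₀ ∈ Inn E := mem_Inn.2 ⟨(z : Ω), z.2, hc₀⟩
    have h := normal_trivial hc hexp hcard r hker hk' hnn ((Inn E).subgroupOf (F.autGroup E))
      ((isPGroup_inn hS hle).comap_subtype) (i := ⟨c₀, inn_le_autGroup hle hcI⟩) hcI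
    have h1 := hr ⟨c₀, inn_le_autGroup hle hcI⟩ ⟨w, hw⟩
    rw [h] at h1
    refine Subtype.ext ?_
    have h2 : av c₀ (w : Ω) = w := by rw [av_coe]; exact congrArg Subtype.val h1.symm
    rw [hc₀ _ w.2] at h2
    simpa using h2
  haveI hWn : W.Normal := ⟨fun w hw z => (hcen z w hw).symm ▸ hw⟩
  have hWc : W ≤ Subgroup.center E := fun w hw =>
    Subgroup.mem_center_iff.2 fun z => mul_inv_eq_iff_eq_mul.1 (hcen z w hw)
  have hframe : Solv.RankTwo.Frame p W := ⟨hWn, fun u hu v hv => congrArg Subtype.val (hc ⟨u, hu⟩ ⟨v, hv⟩), hWe,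
    hcard, fun z _ hz => hW z hz⟩
  have hm : IsMetacyclic E := (Solv.RankTwo.tame (by omega) _ rfl hEp W hframe hW).resolve_right fun h => by
    omega
  -- abelian
  have hab' : ∀ u v : E, u * v = v * u := by
    obtain ⟨N, hN, hNc, hQc⟩ := hm
    haveI := hN
    haveI := hQc
    have hD : commutator E ≤ N := by
      rw [commutator_def, Subgroup.commutator_le]
      intro u _ v _
      rw [← QuotientGroup.eq_one_iff, ← QuotientGroup.mk'_apply, map_commutatorElement,
        commutatorElement_eq_one_iff_mul_comm]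
      exact IsCyclic.commutative.is_comm.comm _ _
    haveI := hNc
    haveI hDc : IsCyclic (commutator E) :=
      isCyclic_of_injective (Subgroup.inclusion hD) (Subgroup.inclusion_injective hD)
    by_contra hna
    push Not at hna
    obtain ⟨u, v, huv⟩ := hna
    have hne : commutator E ≠ ⊥ := fun h => huv (commutatorElement_eq_one_iff_mul_comm.1 (Subgroup.mem_bot.1
      (h ▸ commutator_def E ▸ Subgroup.commutator_mem_commutator (Subgroup.mem_top u) (Subgroup.mem_top v))))
    obtain ⟨w, hw⟩ : ∃ w : commutator E, orderOf w = p := by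
      refine exists_prime_orderOf_dvd_card' p ?_
      obtain ⟨j, hj⟩ := IsPGroup.iff_card.1 (hEp.to_subgroup (commutator E))
      rcases j with _ | j
      · exact absurd (Subgroup.card_eq_one.1 (by simpa using hj)) hne
      · exact hj ▸ dvd_pow_self p (Nat.succ_ne_zero j)
    have hwp : (w : E) ^ p = 1 := by rw [← hw, ← Subgroup.orderOf_coe, pow_orderOf_eq_one]
    have hw1 : (w : E) ≠ 1 := fun h => hp.out.ne_one (by rw [← hw, ← Subgroup.orderOf_coe, h, orderOf_one])
    obtain ⟨w', hw'⟩ : ∃ w' : W, (w' : E) = w := ⟨⟨w, hW _ hwp⟩, rfl⟩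
    have hw'1 : w' ≠ 1 := fun h => hw1 (by rw [← hw', h]; rfl)
    have hline : ∀ γ : F.autGroup E, r γ w' ∈ Subgroup.zpowers w' := by
      intro γ
      have hmem : (γ : MulAut E) (w : E) ∈ commutator E :=
        (Subgroup.characteristic_iff_map_eq.1 (inferInstance : (commutator E).Characteristic) (γ : MulAut E)).le
          ⟨w, w.2, rfl⟩
      obtain ⟨i, hi⟩ := Subgroup.mem_zpowers_iff.1 (Heis.mem_zpowers_of_cyclic hDc w.2 hw1 hwp hmem
        (by rw [← map_pow, hwp, map_one]))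
      exact ⟨i, Subtype.ext (by
        show ((w' ^ i : W) : E) = _
        rw [Subgroup.coe_zpow, hr, hw', hi])⟩
    have ha1 : r a ≠ 1 := fun h => hab (by rw [h, one_mul, mul_one])
    have hb1 : r (g * a * g⁻¹) ≠ 1 := fun h => hab (by rw [h, one_mul, mul_one])
    have hbp : r (g * a * g⁻¹) ^ p = 1 := by
      rw [map_mul, map_mul, map_inv, conj_pow, hap, mul_one, mul_inv_cancel]
    exact Torus.no_invariant_line hc hexp hcard (orderOf_eq_prime hap ha1) (orderOf_eq_prime hbp hb1) hab hw'1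
      (hline a) (hline _)
  have hrk : (frattini E).index ≤ p ^ 2 := by
    letI : CommGroup E := { (inferInstance : Group E) with mul_comm := hab' }
    let f : E →* E := powMonoidHom p
    have h1 : f.range ≤ frattini E := by
      rintro _ ⟨z, rfl⟩
      exact Solv.pow_mem_frattini hEp z
    have h2 : Nat.card f.ker ≤ p ^ 2 := hcard ▸ Subgroup.card_le_of_le fun z hz => hW z hz
    refine (Nat.le_of_dvd Nat.card_pos ?_).trans h2
    have h3 : f.range.index = Nat.card f.ker := by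
      have e1 := Subgroup.card_mul_index f.range
      have e2 := Subgroup.card_mul_index f.ker
      rw [Subgroup.index_ker, mul_comm] at e2
      exact Nat.eq_of_mul_eq_mul_left Nat.card_pos (e1.trans e2.symm)
    exact h3 ▸ Subgroup.index_dvd_of_le h1
  rcases Cfsg.Agent.S5187.result p hS F hF E hE ⟨⟨hab'⟩⟩ hrk with h | ⟨h, -⟩
  · exact h
  · omega

/-- `Ω₁` of order `p³`. -/
theorem omega_three (hp3 : 3 < p) (hS : IsPGroup p S)
    (hrk : ∀ A : Subgroup Ω, A ≤ S → IsElementaryAbelian p A → Nat.card A ≤ p ^ 2)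
    {E : Subgroup Ω} (hES : E < S) (hrec : F.IsReceptive E) (hC : centralizerIn S E ≤ E) (hR : F.IsRadical p E)
    (W : Subgroup E) (hWinv : ∀ (γ : MulAut E), ∀ w ∈ W, γ w ∈ W) (hWe : ∀ w ∈ W, w ^ p = 1)
    (hW : ∀ x : E, x ^ p = 1 → x ∈ W) (hcard : Nat.card W = p ^ 3) : False := by
  have hle := hES.le
  haveI := finite_of_le hle
  haveI := mulAut_finite_of_le hle
  have hEp : IsPGroup p E := hS.to_le hle
  have hna : ∃ u v : W, u * v ≠ v * u := by
    by_contra h
    push Not at h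
    have h1 := prankLE_sub hrk hle W ⟨⟨h⟩⟩ hWe
    rw [hcard] at h1
    exact absurd h1 (not_le.2 (Nat.pow_lt_pow_right hp.out.one_lt (by norm_num)))
  have hDW := data_of_cube (H := W) (fun w => Subtype.ext (hWe w w.2)) hcard hna
  haveI := hDW.normal
  obtain ⟨r, hr⟩ := exists_res (F := F) W hWinv
  have hker := res_ker (by omega) hle hS W hW r hr
  obtain ⟨φW, hφW, hkW⟩ := hDW.exists_quotient_action (by omega) (hEp.to_subgroup W) (⊤ : Subgroup (MulAut W))
  obtain ⟨r', hr'⟩ : ∃ r' : F.autGroup E →* (⊤ : Subgroup (MulAut W)), ∀ γ, ((r' γ : (⊤ : Subgroup (MulAut W))) :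
      MulAut W) = r γ := ⟨r.codRestrict ⊤ fun _ => Subgroup.mem_top _, fun _ => rfl⟩
  have hr'k : IsPGroup p r'.ker := hker.to_le fun γ hγ => by
    rw [MonoidHom.mem_ker, ← hr', MonoidHom.mem_ker.1 hγ]; rfl
  have hψk : IsPGroup p (φW.comp r').ker := by
    rw [← MonoidHom.comap_ker]
    exact hkW.comap_of_ker_isPGroup r' hr'k
  obtain ⟨x, hx, hxn, hxE, hxp⟩ := exists_step hS hES le_rfl
  obtain ⟨a₀, ha₀, ha₀A⟩ := exists_aut_conj hxn
  obtain ⟨a, ha⟩ : ∃ a : F.autGroup E, (a : MulAut E) = a₀ :=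
    ⟨⟨a₀, autInducedBy_le_autGroup hle (ha₀A S hx)⟩, rfl⟩
  subst ha
  obtain ⟨k, hk⟩ := exists_pow_one hx hS hxn ha₀
  have hk' : a ^ p ^ k = 1 := Subtype.ext (by simpa using hk)
  have hnn := fun K hK hKp => not_mem_normal hle hC hR hx hxE (a := a) ha₀ K hK hKp
  -- `E` induces inner automorphisms on `W`
  obtain ⟨C, hCd⟩ : ∃ C : Subgroup E, C = Subgroup.centralizer (W : Set E) := ⟨_, rfl⟩
  have hdec : ∀ z : E, ∃ w ∈ W, ∃ c ∈ C, z = w * c := by
    intro z
    obtain ⟨c₀, hc₀, -⟩ := exists_aut_conj (Subgroup.le_normalizer (H := E) z.2)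
    have hcI : c₀ ∈ Inn E := mem_Inn.2 ⟨(z : Ω), z.2, hc₀⟩
    obtain ⟨γ, hγ⟩ : ∃ γ : F.autGroup E, (γ : MulAut E) = c₀ := ⟨⟨c₀, inn_le_autGroup hle hcI⟩, rfl⟩
    subst hγ
    have h := normal_trivial hDW.quot_comm hDW.quot_exp hDW.card_quot (φW.comp r') hψk hk' hnn
      ((Inn E).subgroupOf (F.autGroup E)) ((isPGroup_inn hS hle).comap_subtype) (i := γ) hcI
    obtain ⟨kz, hkz⟩ := exists_pow_one (hle z.2) hS (Subgroup.le_normalizer (H := E) z.2) hc₀
    have hkz' : r γ ^ p ^ kz = 1 := by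
      rw [← map_pow, show γ ^ p ^ kz = 1 from Subtype.ext (by simpa using hkz), map_one]
    have hmodW : ∀ v : W, r γ v * v⁻¹ ∈ Subgroup.center W := fun v => by
      rw [← QuotientGroup.eq_one_iff, QuotientGroup.mk_mul, QuotientGroup.mk_inv, ← hr', ← hφW]
      rw [MonoidHom.comp_apply] at h
      rw [h, MulAut.one_apply, mul_inv_cancel]
    have hfixC : ∀ c ∈ Subgroup.center W, r γ c = c := by
      intro c hc
      rcases eq_or_ne c 1 with rfl | hc1
      · exact map_one _
      refine fix_of_line (r γ) hkz' (Subtype.ext (hWe _ c.2)) ?_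
      exact Heis.mem_zpowers_of_cyclic hDW.cyclic hc hc1 (Subtype.ext (hWe _ c.2))
        ((Subgroup.characteristic_iff_map_eq.1 (inferInstance : (Subgroup.center W).Characteristic) (r γ)).le
          ⟨c, hc, rfl⟩) (Subtype.ext (hWe _ (r γ c).2))
    obtain ⟨w, hw⟩ := hDW.inner (r γ) hfixC hmodW
    refine ⟨w, w.2, (w : E)⁻¹ * z, ?_, by group⟩
    rw [hCd, Subgroup.mem_centralizer_iff]
    intro v hv
    have h1 := hr γ ⟨v, hv⟩
    rw [hw] at h1
    have h2 : z * v * z⁻¹ = (w : E) * v * (w : E)⁻¹ := by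
      refine Eq.trans (Subtype.ext ?_) h1.symm
      rw [← av_coe (γ : MulAut E) v, hc₀ _ v.2]
      simp
    calc v * ((w : E)⁻¹ * z) = (w : E)⁻¹ * ((w : E) * v * (w : E)⁻¹) * z := by group
      _ = (w : E)⁻¹ * (z * v * z⁻¹) * z := by rw [h2]
      _ = (w : E)⁻¹ * z * v := by group
  -- the cyclic centre
  have hCW : ∀ c ∈ C, ∀ v ∈ W, v * c = c * v := fun c hc v hv =>
    Subgroup.mem_centralizer_iff.1 (hCd ▸ hc : c ∈ Subgroup.centralizer (W : Set E)) v hv
  have hcycC : IsCyclic C := by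
    have hu : Solv.UniqueOrderP p C := by
      intro u v hu hv hv1
      have key : ∀ c : C, c ^ p = 1 → ∃ c' : W, (c' : E) = c ∧ c' ∈ Subgroup.center W := fun c hc =>
        ⟨⟨c, hW _ (congrArg Subtype.val hc)⟩, rfl,
          Subgroup.mem_center_iff.2 fun w => Subtype.ext (hCW c c.2 w w.2)⟩
      obtain ⟨u', hu', hu'c⟩ := key u hu
      obtain ⟨v', hv', hv'c⟩ := key v hv
      obtain ⟨i, hi⟩ := Subgroup.mem_zpowers_iff.1 (Heis.mem_zpowers_of_cyclic hDW.cyclic hv'c
        (fun e => hv1 (Subtype.ext (by rw [← hv', e]; rfl))) (Subtype.ext (hWe _ v'.2)) hu'c (Subtype.ext (hWe _ u'.2)))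
      exact ⟨i, Subtype.ext (by
        show ((v ^ i : C) : E) = u
        rw [Subgroup.coe_zpow, ← hv', ← hu', ← Subgroup.coe_zpow, hi])⟩
    rcases Solv.cyclic_or_quaternion (hEp.to_subgroup C) hu with h | ⟨h2, -⟩
    · exact h
    · omega
  haveI := hcycC
  have hcentral : ∀ c ∈ C, ∀ z : E, c * z = z * c := by
    intro c hc z
    obtain ⟨w, hw, d, hd, rfl⟩ := hdec z
    exact ((show Commute c w from (hCW c hc w hw).symm).mul_right
      (show Commute c d from congrArg Subtype.val (IsCyclic.commutative.is_comm.comm (⟨c, hc⟩ : C) ⟨d, hd⟩))).eq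
  haveI hCn : C.Normal := ⟨fun c hc z => by rw [← hcentral c hc z, mul_inv_cancel_right]; exact hc⟩
  have hD : Heis.Data p C := by
    refine ⟨hcentral, hcycC, fun z => ?_, ?_, ?_⟩
    · obtain ⟨w, hw, c, hc, rfl⟩ := hdec z
      exact ⟨w, c, hWe w hw, hc, rfl⟩
    · have hsup : W ⊔ C = ⊤ := eq_top_iff.2 fun z _ => by
        obtain ⟨w, hw, c, hc, rfl⟩ := hdec z
        exact Subgroup.mul_mem_sup hw hc
      have h1 : C.subgroupOf W = Subgroup.center W := by
        ext w
        rw [Subgroup.mem_subgroupOf, hCd, Subgroup.mem_centralizer_iff, Subgroup.mem_center_iff]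
        exact ⟨fun h v => Subtype.ext (h v v.2), fun h v hv => congrArg Subtype.val (h ⟨v, hv⟩)⟩
      rw [← Subgroup.relIndex_top_right, ← hsup, sup_comm, Subgroup.relIndex_sup_left]
      show (C.subgroupOf W).index = p ^ 2
      rw [h1]; exact hDW.index
    · obtain ⟨u, v, huv⟩ := hna
      exact ⟨u, v, fun h => huv (Subtype.ext h)⟩
  obtain ⟨φ, hφ, hφk⟩ := hD.exists_quotient_action (by omega) hEp (F.autGroup E)
  have hΩ : ∀ z ∈ S, z ^ p = 1 → z ∈ E := fun z hz hzp => by
    have h := mem_of_exponent hp3 hS hrk (T := W.map E.subtype) (fun t ht => by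
        obtain ⟨w, -, rfl⟩ := ht; exact hle w.2)
      (fun t ht => by obtain ⟨w, hw, rfl⟩ := ht; exact congrArg Subtype.val (hWe w hw))
      (by rw [Subgroup.card_map_of_injective E.subtype_injective, hcard]) hz hzp
    obtain ⟨w, -, rfl⟩ := h
    exact w.2
  have hap : φ a ^ p = 1 := pow_eq_one_of_pgroup hD.quot_comm hD.quot_exp hD.card_quot (φ a) (k := k)
    (by rw [← map_pow, hk', map_one])
  obtain ⟨g, hab⟩ := Torus.exists_noncommuting φ hφk (a := a) hap hnn
  have ha1 : φ a ≠ 1 := fun h => hab (by rw [h, one_mul, mul_one])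
  have hao : orderOf (φ a) = p := orderOf_eq_prime hap ha1
  -- `a` centralises `C`
  have haC : ∀ c ∈ C, (a : MulAut E) c = c := by
    have hainv : ∀ c ∈ C, ∀ γ : MulAut E, γ c ∈ C := fun c hc γ => by
      rw [hD.center_eq] at hc ⊢
      exact (Subgroup.characteristic_iff_map_eq.1 (inferInstance : (Subgroup.center E).Characteristic) γ).le
        ⟨c, hc, rfl⟩
    obtain ⟨e, he, hae, -, -⟩ := exists_fixed_line hD.quot_comm hD.card_quot hao
    obtain ⟨α, f, -, hf, hαe, hαf⟩ := Torus.exists_torus hD.quot_comm hD.quot_exp hD.card_quot φ a g hap hab he hae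
      (μ := 2) (ν := (p + 1) / 2) (half_spec hp3)
    obtain ⟨γ, hγd⟩ : ∃ γ, γ = α * a * α⁻¹ * a⁻¹ := ⟨_, rfl⟩
    have hK : ∀ c ∈ C, (γ : MulAut E) c = c := by
      intro c hc
      obtain ⟨c₁, hc₁⟩ := hcycC.exists_generator
      have hpow : ∀ β : MulAut E, ∃ i : ℤ, β (c₁ : E) = (c₁ : E) ^ i := fun β => by
        obtain ⟨i, hi⟩ := Subgroup.mem_zpowers_iff.1 (hc₁ ⟨β c₁, hainv _ c₁.2 β⟩)
        exact ⟨i, by rw [← Subgroup.coe_zpow, hi]⟩
      have hcm : ∀ β δ : MulAut E, β (δ (c₁ : E)) = δ (β (c₁ : E)) := fun β δ => by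
        obtain ⟨i, hi⟩ := hpow β
        obtain ⟨j, hj⟩ := hpow δ
        rw [hj, hi, map_zpow, map_zpow, hi, hj, ← zpow_mul, ← zpow_mul, mul_comm]
      obtain ⟨n, hn⟩ := Subgroup.mem_zpowers_iff.1 (hc₁ ⟨c, hc⟩)
      rw [show c = (c₁ : E) ^ n by rw [← Subgroup.coe_zpow, hn], map_zpow]
      congr 1
      rw [hγd]
      simp only [Subgroup.coe_mul, Subgroup.coe_inv, MulAut.mul_apply]
      obtain ⟨i, hi⟩ := hpow ((α : MulAut E)⁻¹)
      obtain ⟨j, hj⟩ := hpow ((a : MulAut E)⁻¹)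
      have e1 : (a : MulAut E) ((α : MulAut E)⁻¹ ((a : MulAut E)⁻¹ (c₁ : E))) = (α : MulAut E)⁻¹ (c₁ : E) := by
        rw [hcm ((α : MulAut E)⁻¹) ((a : MulAut E)⁻¹), MulAut.apply_inv_self]
      rw [e1, MulAut.apply_inv_self]
    -- `φ γ` is a non-trivial power of the transvection
    have hinv : ∀ u ∈ Subgroup.zpowers e, φ a u = u := by
      rintro _ ⟨i, rfl⟩
      rw [map_zpow, hae]
    have hb'e : φ (α * a * α⁻¹) e = e := by
      rw [map_mul, map_mul, map_inv, MulAut.mul_apply, MulAut.mul_apply]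
      have hmem : (φ α)⁻¹ e ∈ Subgroup.zpowers e := by
        refine ⟨((p + 1) / 2 : ℕ), ?_⟩
        apply (φ α).injective
        show φ α (e ^ (((p + 1) / 2 : ℕ) : ℤ)) = _
        rw [zpow_natCast, map_pow, hαe, ← pow_mul, MulAut.apply_inv_self, pow_eq_pow_mod _ (hD.quot_exp e),
          half_spec hp3, Nat.one_mod_eq_one.2 hp.out.one_lt.ne', pow_one]
      rw [hinv _ hmem, MulAut.apply_inv_self]
    have hb'o : orderOf (φ (α * a * α⁻¹)) = p := by
      rw [map_mul, map_mul, map_inv]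
      exact (orderOf_injective (MulAut.conj (φ α)).toMonoidHom (MulAut.conj (φ α)).injective (φ a)).trans hao
    have hcm := Torus.commute_of_same_line hD.quot_comm hD.quot_exp hD.card_quot hb'o hao he hb'e hae
    have hγ : φ γ = φ (α * a * α⁻¹) * (φ a)⁻¹ := by rw [hγd, map_mul, map_inv]
    have hγp : φ γ ^ p = 1 := by
      rw [hγ, (show Commute (φ (α * a * α⁻¹)) (φ a) from hcm).inv_right.mul_pow, inv_pow, hap, inv_one, mul_one,
        ← hb'o, pow_orderOf_eq_one]
    have hγe : φ γ e = e := by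
      rw [hγ, MulAut.mul_apply, show (φ a)⁻¹ e = e by
        conv_lhs => rw [← hae]
        exact MulAut.inv_apply_self _ _ _]
      exact hb'e
    obtain ⟨t, ht⟩ := mem_powers_iff_mem_zpowers.2
      (Torus.displacement hD.quot_comm hD.quot_exp hD.card_quot hao he hae f)
    simp only at ht
    have haf : φ a f = e ^ t * f := by rw [ht, inv_mul_cancel_right]
    have hγ1 : φ γ ≠ 1 := by
      intro h1
      rw [hγ, mul_inv_eq_one, map_mul, map_mul, map_inv] at h1
      have h2 := congrArg (fun c => c (φ α f)) h1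
      rw [MulAut.mul_apply, MulAut.mul_apply, MulAut.inv_apply_self] at h2
      simp only [hαf, haf, map_mul, map_pow, hαe] at h2
      rw [(show Commute (e ^ t) f from hD.quot_comm _ _).mul_pow, ← pow_mul, ← pow_mul] at h2
      have h3 := mul_right_cancel h2
      rw [pow_eq_pow_iff_modEq, orderOf_eq_prime (hD.quot_exp e) he, ← ZMod.natCast_eq_natCast_iff] at h3
      have hh := (ZMod.natCast_eq_natCast_iff _ _ _).2 (half_spec (p := p) hp3)
      push_cast at h3 hh
      have ht0 : (t : ZMod p) = 0 := by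
        have h4 : (3 : ZMod p) * t = 0 := by linear_combination 2 * h3 + (t : ZMod p) * hh
        rcases mul_eq_zero.1 h4 with h5 | h5
        · exact absurd ((ZMod.natCast_eq_zero_iff _ _).1 (by exact_mod_cast h5 : ((3 : ℕ) : ZMod p) = 0))
            (small_not_dvd hp3 (Or.inr (Or.inr (Or.inl rfl))))
        · exact h5
      exact hf (Torus.mem_line hD.quot_comm hD.quot_exp hD.card_quot hao he hae (by
        rw [haf, pow_eq_pow_mod t (hD.quot_exp e),
          Nat.mod_eq_zero_of_dvd ((ZMod.natCast_eq_zero_iff _ _).1 ht0), pow_zero, one_mul]))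
    obtain ⟨n, hn1, hn2⟩ := Torus.exists_pow hD.quot_comm hD.quot_exp hD.card_quot (orderOf_eq_prime hγp hγ1) he
      hγe hf t
    have heq : φ (γ ^ n) = φ a := by
      refine MulEquiv.ext fun z => ?_
      obtain ⟨w', hw'⟩ := QuotientGroup.mk'_surjective C e
      obtain ⟨f', hf'⟩ := QuotientGroup.mk'_surjective C f
      obtain ⟨z', rfl⟩ := QuotientGroup.mk'_surjective C z
      have hw'C : w' ∉ C := fun h => he (by rw [← hw']; exact (QuotientGroup.eq_one_iff w').2 h)
      obtain ⟨i, j, c, hc, rfl⟩ := hD.decompose hw'C (f := f') (by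
        rw [show (f' : E ⧸ C) = f from hf', show (w' : E ⧸ C) = e from hw']; exact hf) z'
      simp only [QuotientGroup.mk'_apply] at hw' hf'
      rw [map_pow φ, QuotientGroup.mk'_apply, QuotientGroup.mk_mul, QuotientGroup.mk_mul, QuotientGroup.mk_zpow,
        QuotientGroup.mk_zpow, (QuotientGroup.eq_one_iff c).2 hc, mul_one, hw', hf', map_mul, map_mul, map_zpow,
        map_zpow, map_zpow, map_zpow, hn1, hn2, hae, haf]
    -- so `a` differs from a power of `γ` by an inner automorphism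
    have hκ : ((γ ^ n)⁻¹ * a : F.autGroup E) ∈ φ.ker := by
      rw [MonoidHom.mem_ker, map_mul, map_inv, heq, inv_mul_cancel]
    have hκI : (((γ ^ n)⁻¹ * a : F.autGroup E) : MulAut E) ∈ Inn E :=
      hR.2 ▸ ⟨_, Fusion.le_pCore hφk hκ, rfl⟩
    obtain ⟨z, hz, hzκ⟩ := mem_Inn.1 hκI
    intro c hc
    have h1 : (((γ ^ n)⁻¹ * a : F.autGroup E) : MulAut E) c = c := Subtype.ext (by
      rw [← av_coe, hzκ _ c.2]
      have h2 : (c : Ω) * z = z * c := congrArg Subtype.val (hcentral c hc ⟨z, hz⟩)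
      rw [← h2, mul_inv_cancel_right])
    rw [show (a : MulAut E) = (γ : MulAut E) ^ n * (((γ ^ n)⁻¹ * a : F.autGroup E) : MulAut E) by
      simp, MulAut.mul_apply, h1]
    have hit : ∀ i : ℕ, ((γ : MulAut E) ^ i) c = c := by
      intro i
      induction i with
      | zero => simp
      | succ i ih => rw [pow_succ, MulAut.mul_apply, hK c hc, ih]
    exact hit n
  exact torus_false hp3 hS hrec hC hΩ hD hφ hx hxn hxE hxp ha₀ haC g hab

/-- **Resistance.** -/
theorem normal (hp3 : 3 < p) (hS : IsPGroup p S) (hF : F.IsSaturated p)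
    (hrk : ∀ A : Subgroup Ω, A ≤ S → IsElementaryAbelian p A → Nat.card A ≤ p ^ 2)
    (hnotE : ¬ (Nat.card S = p ^ 3 ∧ Monoid.exponent S = p)) : F.IsNormal S := by
  refine normal_of_gen hS hF le_rfl fun P hP => ?_
  rcases hP with rfl | hE
  · exact ⟨le_rfl, fun α _ x hx => av_mem α hx⟩
  exfalso
  have hPS := lt_of_essential hS hF hE
  have hle := hPS.le
  haveI := finite_of_le hle
  have hR := radical_of_essential hS hF hE
  have hC : centralizerIn S P ≤ P := hE.1.2 P (isConj_refl hle)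
  have hrec : F.IsReceptive P := receptive_of_fc hS hF (fc_fa_of_fn hS hF hE.2.1).1
  have hPp : IsPGroup p P := hS.to_le hle
  have hrP := prankLE_sub hrk hle
  set W := Subgroup.closure {x : P | x ^ p = 1} with hWd
  have hWe : ∀ x ∈ W, x ^ p = 1 := fun x hx => omega_pow_eq_one_of_rank_two hp3 hPp hrP hx
  have hW : ∀ x : P, x ^ p = 1 → x ∈ W := fun x hx => Subgroup.subset_closure hx
  have hWinv : ∀ γ : MulAut P, ∀ w ∈ W, γ w ∈ W := fun γ w hw => hW _ (by rw [← map_pow, hWe w hw, map_one])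
  have h3 := closure_card_le_three (by omega) hPp hrP W hWe
  obtain ⟨i, hi⟩ := IsPGroup.iff_card.1 (hPp.to_subgroup W)
  rw [hi] at h3
  have hi3 : i ≤ 3 := (Nat.pow_le_pow_iff_right hp.out.one_lt).1 h3
  interval_cases i
  · exact omega_one (by omega) hS hPS hC hR W hW (hi.le.trans (by simpa using hp.out.one_lt.le))
  · exact omega_one (by omega) hS hPS hC hR W hW (by simpa using hi.le)
  · obtain ⟨h1, h2⟩ := omega_two hp3 hS hF hE hPS hC hR W hWinv hWe hW hi
    exact hnotE (square_case hp3 hS hF hrk hPS hrec hC hR h1 h2)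
  · exact omega_three hp3 hS hrk hPS hrec hC hR W hWinv hWe hW hi

end Cfsg.Agent.Local.FS.RankTwo
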