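import Cfsg.Agent.Lib.Local.FS.HeisExt
import Cfsg.Agent.Lib.Local.FS.Essential
import Cfsg.Agent.Lib.Solv.RankTwoMain
import Cfsg.Agent.Lib.Solv.UniqueSub
import Cfsg.Agent.Lib.Solv.PGroupPhi
import Cfsg.Agent.S5187

/-!
`p`-groups of rank two, `p ≥ 5`: the only ones with essential subgroups have order `p³` and exponent `p`.
-/

set_option autoImplicit false

open scoped commutatorElement

universe u

namespace Cfsg.Agent.Local.FS.RankTwo

open Cfsg Cfsg.FusionSystem Cfsg.Agent.Fusion Cfsg.Agent.Local.FS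

section Plane

variable {p : ℕ} [hp : Fact p.Prime]

/-- A `p`-group of automorphisms of a group of order `p²` has order at most `p`. -/
theorem card_pgroup_le {V : Type*} [Group V] [Finite V] (hc : ∀ x y : V, x * y = y * x) (hexp : ∀ x : V, x ^ p = 1)
    (hcard : Nat.card V = p ^ 2) (P : Subgroup (MulAut V)) (hP : IsPGroup p P) : Nat.card P ≤ p := by
  haveI : Finite (MulAut V) := Finite.of_injective (fun a : MulAut V => (a : V → V)) DFunLike.coe_injective
  have hone : (1 : V) ∈ MulAction.fixedPoints P V := fun g => map_one (g : MulAut V)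
  obtain ⟨v, hv, hv1⟩ := hP.exists_fixed_point_of_prime_dvd_card_of_fixed_point V
    (hcard ▸ dvd_pow_self p two_ne_zero) hone
  have hv1' : v ≠ 1 := fun h => hv1 h.symm
  obtain ⟨f, hf⟩ : ∃ f, f ∉ Subgroup.zpowers v := by
    by_contra hall
    push Not at hall
    have h1 : Nat.card V ≤ Nat.card (Subgroup.zpowers v) := by
      rw [show Subgroup.zpowers v = ⊤ from eq_top_iff.2 fun x _ => hall x, Subgroup.card_top]
    rw [hcard, Nat.card_zpowers, orderOf_eq_prime (hexp v) hv1'] at h1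
    nlinarith [hp.out.two_le]
  have hv' : ∀ g ∈ P, g v = v := fun g hg => hv ⟨g, hg⟩
  obtain ⟨k, hk⟩ := IsPGroup.iff_card.1 hP
  have hlt : Nat.card P < p ^ 2 := by
    rw [← hcard]
    have hinj : Function.Injective (fun g : P => (g : MulAut V) f) := by
      intro g h hgh
      refine Subtype.ext (MulEquiv.ext fun x => ?_)
      have htop : Subgroup.zpowers v ⊔ Subgroup.zpowers f = ⊤ := by
        refine Subgroup.eq_top_of_le_card _ ?_
        obtain ⟨j, hj⟩ := IsPGroup.iff_card.1 ((IsPGroup.of_card hcard).to_subgroup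
          (Subgroup.zpowers v ⊔ Subgroup.zpowers f))
        have h2 : Nat.card (Subgroup.zpowers v) < Nat.card (Subgroup.zpowers v ⊔ Subgroup.zpowers f : Subgroup V) := by
          refine lt_of_le_of_ne (Subgroup.card_le_of_le le_sup_left) fun e => hf ?_
          rw [Subgroup.eq_of_le_of_card_ge le_sup_left e.ge]
          exact Subgroup.mem_sup_right (Subgroup.mem_zpowers f)
        rw [Nat.card_zpowers, orderOf_eq_prime (hexp v) hv1', hj] at h2
        rw [hcard, hj]
        exact Nat.pow_le_pow_right hp.out.pos ((Nat.pow_lt_pow_iff_right hp.out.one_lt).1 (by rwa [pow_one]))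
      haveI : (Subgroup.zpowers v).Normal := ⟨fun y hy z => by rw [hc z y, mul_inv_cancel_right]; exact hy⟩
      obtain ⟨_, ⟨i, rfl⟩, _, ⟨j, rfl⟩, rfl⟩ := Subgroup.mem_sup_of_normal_left.1 (htop ▸ Subgroup.mem_top x)
      simp only [map_mul, map_zpow, hv' _ g.2, hv' _ h.2]
      rw [show (g : MulAut V) f = (h : MulAut V) f from hgh]
    refine lt_of_le_of_ne (Nat.card_le_card_of_injective _ hinj) fun e => ?_
    obtain ⟨g, hg⟩ := ((Nat.bijective_iff_injective_and_card _).2 ⟨hinj, e⟩).2 1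
    exact hf (by rw [(map_eq_one_iff _ (g : MulAut V).injective).1 hg]; exact one_mem _)
  rw [hk] at hlt ⊢
  calc p ^ k ≤ p ^ 1 := Nat.pow_le_pow_right hp.out.pos (by
        have := (Nat.pow_lt_pow_iff_right hp.out.one_lt).1 hlt
        omega)
    _ = p := pow_one p

theorem pow_eq_one_of_pgroup {V : Type*} [Group V] [Finite V] (hc : ∀ x y : V, x * y = y * x)
    (hexp : ∀ x : V, x ^ p = 1) (hcard : Nat.card V = p ^ 2) (c : MulAut V) {k : ℕ} (hck : c ^ p ^ k = 1) :
    c ^ p = 1 := by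
  haveI : Finite (MulAut V) := Finite.of_injective (fun a : MulAut V => (a : V → V)) DFunLike.coe_injective
  obtain ⟨j, -, hj⟩ := (Nat.dvd_prime_pow hp.out).1 (orderOf_dvd_of_pow_eq_one hck)
  have h := card_pgroup_le hc hexp hcard (Subgroup.zpowers c)
    (IsPGroup.of_card (n := j) (by rw [Nat.card_zpowers, hj]))
  rw [Nat.card_zpowers, hj] at h
  refine orderOf_dvd_iff_pow_eq_one.1 (hj ▸ ?_)
  rcases j with _ | j
  · simp
  rw [Nat.le_antisymm h (Nat.le_self_pow (Nat.succ_ne_zero j) p)]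

/-- A normal `p`-subgroup of the operators is trivial on the plane. -/
theorem normal_trivial {V : Type*} [Group V] [Finite V] (hc : ∀ x y : V, x * y = y * x) (hexp : ∀ x : V, x ^ p = 1)
    (hcard : Nat.card V = p ^ 2) {G : Type*} [Group G] [Finite G] (φ : G →* MulAut V) (hker : IsPGroup p φ.ker)
    {a : G} {k : ℕ} (hak : a ^ p ^ k = 1) (hK : ∀ K : Subgroup G, K.Normal → IsPGroup p K → a ∉ K)
    (I : Subgroup G) [I.Normal] (hI : IsPGroup p I) {i : G} (hi : i ∈ I) : φ i = 1 := by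
  haveI : Finite (MulAut V) := Finite.of_injective (fun a : MulAut V => (a : V → V)) DFunLike.coe_injective
  by_contra hne
  have hzp : IsPGroup p (Subgroup.zpowers (φ a)) := by
    obtain ⟨j, -, hj⟩ := (Nat.dvd_prime_pow hp.out).1
      (orderOf_dvd_of_pow_eq_one (show φ a ^ p ^ k = 1 by rw [← map_pow, hak, map_one]))
    exact IsPGroup.of_card (n := j) (by rw [Nat.card_zpowers, hj])
  have hsup : IsPGroup p (I.map φ ⊔ Subgroup.zpowers (φ a) : Subgroup (MulAut V)) :=
    (hI.map φ).to_sup_of_normal_left' hzp (Subgroup.zpowers_le.2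
      (Subgroup.le_normalizer_map (H := I) φ ⟨a, by rw [Subgroup.normalizer_eq_top]; trivial, rfl⟩))
  have hle := card_pgroup_le hc hexp hcard _ hsup
  have hI1 : p ≤ Nat.card (I.map φ) := by
    obtain ⟨j, hj⟩ := IsPGroup.iff_card.1 (hI.map φ)
    rcases j with _ | j
    · rw [pow_zero, Subgroup.card_eq_one] at hj
      have h1 : φ i ∈ I.map φ := ⟨i, hi, rfl⟩
      rw [hj, Subgroup.mem_bot] at h1
      exact absurd h1 hne
    · rw [hj]; exact Nat.le_self_pow (Nat.succ_ne_zero j) p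
  have heq := Subgroup.eq_of_le_of_card_ge (le_sup_left : I.map φ ≤ I.map φ ⊔ Subgroup.zpowers (φ a))
    (hle.trans hI1)
  have hn : ((I.map φ).comap φ).Normal := by
    rw [Subgroup.comap_map_eq]
    exact Subgroup.sup_normal I φ.ker
  refine hK _ hn ((hI.map φ).comap_of_ker_isPGroup φ hker) ?_
  show φ a ∈ I.map φ
  rw [heq]
  exact Subgroup.mem_sup_right (Subgroup.mem_zpowers _)

/-- A nonabelian group of order `p³` and exponent `p`. -/
theorem data_of_cube {H : Type*} [Group H] [Finite H] (hexp : ∀ x : H, x ^ p = 1) (hcard : Nat.card H = p ^ 3)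
    (hna : ∃ x y : H, x * y ≠ y * x) : Heis.Data p (Subgroup.center H) := by
  have hH : IsPGroup p H := IsPGroup.of_card hcard
  obtain ⟨k, hk⟩ := IsPGroup.iff_card.1 (hH.to_subgroup (Subgroup.center H))
  obtain ⟨j, hj⟩ := IsPGroup.iff_card.1 (hH.to_quotient (Subgroup.center H))
  have hsum : j + k = 3 := by
    have h := Subgroup.card_eq_card_quotient_mul_card_subgroup (Subgroup.center H)
    rw [hcard, hk, hj, ← pow_add] at h
    exact (Nat.pow_right_injective hp.out.two_le h).symm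
  have hnab : ¬ IsCyclic (H ⧸ Subgroup.center H) := fun hcyc => by
    haveI := hcyc
    obtain ⟨x, y, hxy⟩ := hna
    exact hxy (commutative_of_cyclic_center_quotient (QuotientGroup.mk' (Subgroup.center H))
      (by rw [QuotientGroup.ker_mk']) x y)
  have hj2 : 2 ≤ j := by
    by_contra hcon
    rcases Nat.le_one_iff_eq_zero_or_eq_one.1 (show j ≤ 1 by omega) with rfl | rfl
    · haveI : Subsingleton (H ⧸ Subgroup.center H) := (Nat.card_eq_one_iff_unique.1 (by simpa using hj)).1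
      exact hnab inferInstance
    · exact hnab (isCyclic_of_prime_card (p := p) (by simpa using hj))
  have hk1 : k ≠ 0 := by
    rintro rfl
    haveI : Nontrivial H := by
      obtain ⟨x, y, hxy⟩ := hna
      exact ⟨⟨x * y, y * x, hxy⟩⟩
    haveI := hH.center_nontrivial
    exact (Finite.one_lt_card (α := Subgroup.center H)).ne' (by simpa using hk)
  obtain rfl : k = 1 := by omega
  obtain rfl : j = 2 := by omega
  exact ⟨fun c hc h => (Subgroup.mem_center_iff.1 hc h).symm, isCyclic_of_prime_card (p := p) (by simpa using hk),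
    fun h => ⟨h, 1, hexp h, one_mem _, (mul_one h).symm⟩, (Subgroup.index_eq_card _).trans hj, hna⟩

end Plane

variable {Ω : Type u} [Group Ω] {S : Subgroup Ω} [Finite S] {F : FusionSystem S} {p : ℕ} [hp : Fact p.Prime]

omit [Finite S] hp in
theorem prankLE_sub (hrk : ∀ A : Subgroup Ω, A ≤ S → IsElementaryAbelian p A → Nat.card A ≤ p ^ 2)
    {H : Subgroup Ω} (hH : H ≤ S) : PRankLE p 2 H := by
  intro A hA hAe
  have hmem : ∀ a ∈ A.map H.subtype, a ∈ H ∧ a ^ p = 1 := by
    rintro _ ⟨a, ha, rfl⟩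
    exact ⟨a.2, congrArg Subtype.val (hAe a ha)⟩
  have h := hrk (A.map H.subtype) (fun a ha => hH (hmem a ha).1) ⟨⟨⟨fun a b => Subtype.ext ?_⟩⟩, fun a ha => (hmem a ha).2⟩
  · rwa [Subgroup.card_map_of_injective H.subtype_injective] at h
  · obtain ⟨a', ha', hae⟩ := a.2
    obtain ⟨b', hb', hbe⟩ := b.2
    show (a : Ω) * b = b * a
    rw [← hae, ← hbe]
    exact congrArg (fun z : A => ((z : H) : Ω)) (hA.is_comm.comm ⟨a', ha'⟩ ⟨b', hb'⟩)

/-- A subgroup of order `p³` and exponent `p` contains all elements of order `p` of `S`. -/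
theorem mem_of_exponent (hp3 : 3 < p) (hS : IsPGroup p S)
    (hrk : ∀ A : Subgroup Ω, A ≤ S → IsElementaryAbelian p A → Nat.card A ≤ p ^ 2) {T : Subgroup Ω} (hT : T ≤ S)
    (hexp : ∀ t ∈ T, t ^ p = 1) (hcard : Nat.card T = p ^ 3) {z : Ω} (hz : z ∈ S) (hzp : z ^ p = 1) : z ∈ T := by
  have hR := prankLE_sub hrk (le_refl S)
  set W := Subgroup.closure {x : S | x ^ p = 1} with hW
  have hWe : ∀ x ∈ W, x ^ p = 1 := fun x hx => omega_pow_eq_one_of_rank_two hp3 hS hR hx
  have hW3 := closure_card_le_three (by omega) hS hR W hWe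
  have hle : T.subgroupOf S ≤ W := fun x hx =>
    Subgroup.subset_closure (Subtype.ext (hexp _ (Subgroup.mem_subgroupOf.1 hx)))
  have heq : T.subgroupOf S = W := Subgroup.eq_of_le_of_card_ge hle
    (by rw [Nat.card_congr (Subgroup.subgroupOfEquivOfLe hT).toEquiv, hcard]; exact hW3)
  have hzW : (⟨z, hz⟩ : S) ∈ T.subgroupOf S := heq.ge (Subgroup.subset_closure (Subtype.ext hzp))
  exact hzW

/-- An element normalising a subgroup, outside it, with `p`-th power inside. -/
theorem exists_step (hS : IsPGroup p S) {E R : Subgroup Ω} (hER : E < R) (hR : R ≤ S) :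
    ∃ x ∈ R, x ∈ Subgroup.normalizer (E : Set Ω) ∧ x ∉ E ∧ x ^ p ∈ E := by
  classical
  obtain ⟨y, ⟨hy, hyn⟩, hyE⟩ := SetLike.exists_of_lt (lt_inf_normalizer hS hER hR)
  obtain ⟨k, hk⟩ := hS ⟨y, hR hy⟩
  have hex : ∃ k : ℕ, y ^ p ^ k ∈ E := ⟨k, by
    have h : y ^ p ^ k = 1 := congrArg Subtype.val hk
    rw [h]; exact one_mem E⟩
  have h0 : Nat.find hex ≠ 0 := fun e0 => hyE (by
    have := Nat.find_spec hex
    rwa [e0, pow_zero, pow_one] at this)
  obtain ⟨j, hj⟩ : ∃ j, Nat.find hex = j + 1 := ⟨_, (Nat.succ_pred_eq_of_ne_zero h0).symm⟩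
  refine ⟨y ^ p ^ j, pow_mem hy _, pow_mem hyn _, Nat.find_min hex (by omega), ?_⟩
  have := Nat.find_spec hex
  rwa [hj, pow_succ, pow_mul] at this

/-- Conjugation by an element outside a centric radical subgroup lies in no normal `p`-subgroup. -/
theorem not_mem_normal {E' : Subgroup Ω} (hE : E' ≤ S) (hC : centralizerIn S E' ≤ E') (hR : F.IsRadical p E') {x : Ω}
    (hx : x ∈ S) (hxE : x ∉ E') {a : F.autGroup E'} (ha : ∀ z ∈ E', av (a : MulAut E') z = x * z * x⁻¹)
    (K : Subgroup (F.autGroup E')) (hK : K.Normal) (hKp : IsPGroup p K) : a ∉ K := by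
  intro hmem
  haveI := mulAut_finite_of_le hE
  haveI := hK
  have hI : (a : MulAut E') ∈ Inn E' := hR.2 ▸ ⟨a, Fusion.le_pCore hKp hmem, rfl⟩
  obtain ⟨g, hg, hga⟩ := mem_Inn.1 hI
  have hc : g⁻¹ * x ∈ centralizerIn S E' := by
    refine mem_centralizerIn.2 ⟨S.mul_mem (S.inv_mem (hE hg)) hx, fun r hr => ?_⟩
    have e := (hga r hr).symm.trans (ha r hr)
    calc r * (g⁻¹ * x) = g⁻¹ * (g * r * g⁻¹) * x := by group
      _ = g⁻¹ * (x * r * x⁻¹) * x := by rw [e]
      _ = g⁻¹ * x * r := by group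
  exact hxE (by simpa using mul_mem hg (hC hc))

/-- Receptivity, in use. -/
theorem exists_extension {E : Subgroup Ω} (hE : F.IsReceptive E) (hC : centralizerIn S E ≤ E) {α : MulAut E}
    (hα : α ∈ F.autGroup E) {x h : Ω} (hx : x ∈ S) (hxn : x ∈ Subgroup.normalizer (E : Set Ω)) (hh : h ∈ S)
    (heq : ∀ z ∈ E, av α (x * z * x⁻¹) = h * av α z * h⁻¹) :
    ∃ G : Ω → Ω, Map F (E ⊔ Subgroup.zpowers x) G ∧ (∀ z ∈ E, G z = av α z) ∧ ∃ e ∈ E, G x = h * e := by
  have hm := map_of_mem_autGroup hE.1 hα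
  obtain ⟨G, hG, hGf⟩ := (receptive_iff.1 hE).2 E _ hm (im_av α)
  have hxN : x ∈ Nf S E (av α) := ⟨hx, hxn, h, hh, heq⟩
  have hle : E ⊔ Subgroup.zpowers x ≤ Nf S E (av α) := sup_le (le_Nf hm) (Subgroup.zpowers_le.2 hxN)
  refine ⟨G, hG.restrict hle, hGf, h⁻¹ * G x, ?_, by group⟩
  refine hC (mem_centralizerIn.2 ⟨S.mul_mem (S.inv_mem hh) (hG.mem hxN), fun r hr => ?_⟩)
  obtain ⟨z, hz, rfl⟩ : ∃ z ∈ E, av α z = r := ⟨av α⁻¹ r, av_mem _ hr, av_av_inv α hr⟩
  have h1 := hG.map_conj hxN (le_Nf hm hz)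
  rw [hGf _ (conj_mem_of_normalizer hxn hz), heq z hz, hGf z hz] at h1
  calc av α z * (h⁻¹ * G x) = h⁻¹ * (h * av α z * h⁻¹) * G x := by group
    _ = h⁻¹ * (G x * av α z * (G x)⁻¹) * G x := by rw [h1]
    _ = h⁻¹ * G x * av α z := by group

theorem sup_facts {E : Subgroup Ω} {x : Ω} (hxn : x ∈ Subgroup.normalizer (E : Set Ω)) (hxp : x ^ p ∈ E) :
    (∀ t ∈ E ⊔ Subgroup.zpowers x, ∃ e ∈ E, ∃ i : ℕ, i < p ∧ t = e * x ^ i) := by
  intro t ht
  rw [← SetLike.mem_coe, Subgroup.coe_mul_of_right_le_normalizer_left E (Subgroup.zpowers x)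
    (Subgroup.zpowers_le.2 hxn), Set.mem_mul] at ht
  obtain ⟨e, he, _, ⟨i, rfl⟩, rfl⟩ := ht
  have hp0 : (p : ℤ) ≠ 0 := by exact_mod_cast hp.out.ne_zero
  refine ⟨e * (x ^ p) ^ (i / (p : ℤ)), mul_mem he (zpow_mem hxp _), (i % (p : ℤ)).toNat, ?_, ?_⟩
  · have h1 := Int.emod_lt_of_pos i (show (0 : ℤ) < p by exact_mod_cast hp.out.pos)
    omega
  · rw [mul_assoc, ← zpow_natCast x p, ← zpow_mul, ← zpow_natCast x (Int.toNat _),
      Int.toNat_of_nonneg (Int.emod_nonneg i hp0), ← zpow_add, Int.mul_ediv_add_emod]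

theorem card_sup_le {E : Subgroup Ω} (hE : E ≤ S) {x : Ω} (hx : x ∈ S)
    (hxn : x ∈ Subgroup.normalizer (E : Set Ω)) (hxp : x ^ p ∈ E) :
    Nat.card (E ⊔ Subgroup.zpowers x : Subgroup Ω) ≤ p * Nat.card E := by
  haveI := finite_of_le hE
  haveI : Finite (E ⊔ Subgroup.zpowers x : Subgroup Ω) := finite_of_le (sup_le hE (Subgroup.zpowers_le.2 hx))
  let f : E × Fin p → (E ⊔ Subgroup.zpowers x : Subgroup Ω) := fun z =>
    ⟨(z.1 : Ω) * x ^ (z.2 : ℕ), mul_mem (Subgroup.mem_sup_left z.1.2)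
      (Subgroup.mem_sup_right (Subgroup.npow_mem_zpowers x _))⟩
  have hsurj : Function.Surjective f := fun t => by
    obtain ⟨e, he, i, hi, e'⟩ := sup_facts hxn hxp t t.2
    exact ⟨(⟨e, he⟩, ⟨i, hi⟩), Subtype.ext e'.symm⟩
  refine (Nat.card_le_card_of_surjective f hsurj).trans (le_of_eq ?_)
  rw [Nat.card_prod, Nat.card_fin, Nat.mul_comm]

theorem commutator_sup_le {E : Subgroup Ω} {x : Ω} (hxn : x ∈ Subgroup.normalizer (E : Set Ω)) (hxp : x ^ p ∈ E) :
    commutator (E ⊔ Subgroup.zpowers x : Subgroup Ω) ≤ E.subgroupOf (E ⊔ Subgroup.zpowers x) := by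
  set T := E ⊔ Subgroup.zpowers x with hT
  have hn : (E.subgroupOf T).Normal := by
    refine ⟨fun z hz t => ?_⟩
    obtain ⟨e, he, i, -, ht⟩ := sup_facts hxn hxp t t.2
    rw [Subgroup.mem_subgroupOf] at hz ⊢
    simp only [Subgroup.coe_mul, Subgroup.coe_inv, ht, mul_inv_rev]
    have h1 : x ^ i * (z : Ω) * (x ^ i)⁻¹ ∈ E := conj_mem_of_normalizer (pow_mem hxn i) hz
    have h2 := mul_mem (mul_mem he h1) (inv_mem he)
    simpa [mul_assoc] using h2
  haveI := hn
  rw [commutator_def, Subgroup.commutator_le]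
  intro s _ t _
  rw [← QuotientGroup.eq_one_iff, ← QuotientGroup.mk'_apply, map_commutatorElement,
    commutatorElement_eq_one_iff_mul_comm]
  have hrep : ∀ t : T, ∃ i : ℕ, QuotientGroup.mk' (E.subgroupOf T) t =
      QuotientGroup.mk' (E.subgroupOf T) ⟨x, Subgroup.mem_sup_right (Subgroup.mem_zpowers x)⟩ ^ i := by
    intro t
    obtain ⟨e, he, i, -, ht⟩ := sup_facts hxn hxp t t.2
    refine ⟨i, ?_⟩
    have : t = (⟨e, Subgroup.mem_sup_left he⟩ : T) * ⟨x, Subgroup.mem_sup_right (Subgroup.mem_zpowers x)⟩ ^ i :=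
      Subtype.ext (by simpa using ht)
    rw [this, map_mul, map_pow,
      show QuotientGroup.mk' (E.subgroupOf T) (⟨e, Subgroup.mem_sup_left he⟩ : T) = 1 from
        (QuotientGroup.eq_one_iff _).2 (Subgroup.mem_subgroupOf.2 he), one_mul]
  obtain ⟨i, hi⟩ := hrep s
  obtain ⟨j, hj⟩ := hrep t
  rw [hi, hj, ← pow_add, ← pow_add, add_comm]

omit [Finite S] hp in
theorem conj_pow_av {E : Subgroup Ω} {a : MulAut E} {x : Ω} (hxn : x ∈ Subgroup.normalizer (E : Set Ω))
    (ha : ∀ z ∈ E, av a z = x * z * x⁻¹) : ∀ (k : ℕ), ∀ z ∈ E, av (a ^ k) z = x ^ k * z * (x ^ k)⁻¹ := by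
  intro k
  induction k with
  | zero => intro z hz; simp [av_one hz]
  | succ k ih =>
    intro z hz
    rw [pow_succ' a, av_mul _ _ hz, ih z hz, ha _ (conj_mem_of_normalizer (pow_mem hxn k) hz), pow_succ']
    group

/-- The scaling argument above a Heisenberg-type subgroup. -/
theorem heis_false (hp3 : 3 < p) (hS : IsPGroup p S) {E : Subgroup Ω} (hE : F.IsReceptive E)
    (hC : centralizerIn S E ≤ E) (hΩ : ∀ z ∈ S, z ^ p = 1 → z ∈ E) {C : Subgroup E} (hD : Heis.Data p C)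
    [C.Normal] {φ : F.autGroup E →* MulAut (E ⧸ C)}
    (hφ : ∀ (γ : F.autGroup E) (z : E), φ γ (z : E ⧸ C) = (((γ : MulAut E) z : E) : E ⧸ C))
    {y : Ω} (hy : y ∈ S) (hyn : y ∈ Subgroup.normalizer (E : Set Ω)) (hyE : y ∉ E) (hyp : y ^ p ∈ E)
    {a : F.autGroup E} (ha : ∀ z ∈ E, av (a : MulAut E) z = y * z * y⁻¹)
    (haC : ∀ c ∈ C, (a : MulAut E) c = c) {α : F.autGroup E} {l r s k : ℕ} (hαC : ∀ c ∈ C, (α : MulAut E) c = c ^ l)
    {e f : E ⧸ C} (hao : orderOf (φ a) = p) (he : e ≠ 1) (hae : φ a e = e) (hf : f ∉ Subgroup.zpowers e)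
    (hαe : φ α e = e ^ r) (hαf : φ α f = f ^ s) (hsk : s * k ≡ 1 [MOD p]) (hk : ¬ r ≡ r * k [MOD p])
    (hl : ¬ l ≡ r * k [MOD p]) : False := by
  have hES := hE.1
  haveI := finite_of_le hES
  have hcV := hD.quot_comm
  have heV := hD.quot_exp
  obtain ⟨m, hm⟩ : ∃ m, m = r * k := ⟨_, rfl⟩
  rw [← hm] at hk hl
  -- the conjugate of `a`
  have hconj : φ (α * a * α⁻¹) = φ (a ^ m) := by
    refine MulEquiv.ext fun v => ?_
    have h2 : Subgroup.zpowers e ⊔ Subgroup.zpowers f = ⊤ := by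
      haveI : Finite (E ⧸ C) := inferInstance
      refine Subgroup.eq_top_of_le_card _ ?_
      obtain ⟨j, hj⟩ := IsPGroup.iff_card.1 ((IsPGroup.of_card hD.card_quot).to_subgroup
        (Subgroup.zpowers e ⊔ Subgroup.zpowers f))
      have hlt : Nat.card (Subgroup.zpowers e) < Nat.card (Subgroup.zpowers e ⊔ Subgroup.zpowers f : Subgroup (E ⧸ C)) := by
        refine lt_of_le_of_ne (Subgroup.card_le_of_le le_sup_left) fun e' => hf ?_
        rw [Subgroup.eq_of_le_of_card_ge le_sup_left e'.ge]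
        exact Subgroup.mem_sup_right (Subgroup.mem_zpowers f)
      rw [Nat.card_zpowers, orderOf_eq_prime (heV e) he, hj] at hlt
      rw [hD.card_quot, hj]
      exact Nat.pow_le_pow_right hp.out.pos ((Nat.pow_lt_pow_iff_right hp.out.one_lt).1 (by rwa [pow_one]))
    obtain ⟨t, ht⟩ := mem_powers_iff_mem_zpowers.2 (Torus.displacement hcV heV hD.card_quot hao he hae f)
    simp only at ht
    have haf : φ a f = e ^ t * f := by rw [ht, inv_mul_cancel_right]
    have hpw : ∀ i : ℕ, (φ a ^ i) e = e ∧ (φ a ^ i) f = e ^ (t * i) * f := by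
      intro i
      induction i with
      | zero => simp
      | succ i ih =>
        refine ⟨by rw [pow_succ', MulAut.mul_apply, ih.1, hae], ?_⟩
        rw [pow_succ', MulAut.mul_apply, ih.2, map_mul, map_pow, hae, haf, ← mul_assoc, ← pow_add, Nat.mul_succ]
    have hαinv : (φ α)⁻¹ f = f ^ k := by
      apply (φ α).injective
      rw [MulAut.apply_inv_self, map_pow, hαf, ← pow_mul, pow_eq_pow_mod _ (heV f), hsk,
        Nat.one_mod_eq_one.2 hp.out.one_lt.ne', pow_one]
    have e1 : φ (α * a * α⁻¹) f = φ (a ^ m) f := by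
      rw [map_mul, map_mul, map_inv, MulAut.mul_apply, MulAut.mul_apply, hαinv, map_pow (φ a), haf,
        (show Commute (e ^ t) f from hcV _ _).mul_pow]
      simp only [map_mul, map_pow, hαf, hαe]
      rw [(hpw m).2, hm, ← pow_mul, ← pow_mul, ← pow_mul]
      congr 1
      · ring_nf
      · rw [pow_eq_pow_mod _ (heV f), hsk, Nat.one_mod_eq_one.2 hp.out.one_lt.ne', pow_one]
    have e2 : φ (α * a * α⁻¹) e = φ (a ^ m) e := by
      have hinv : ∀ x ∈ Subgroup.zpowers e, φ a x = x := by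
        rintro _ ⟨i, rfl⟩
        rw [map_zpow, hae]
      have hmem : (φ α)⁻¹ e ∈ Subgroup.zpowers e := by
        have hfix : ∀ u, φ α u ∈ Subgroup.zpowers e → u ∈ Subgroup.zpowers e := by
          intro u hu
          have hr : ¬ p ∣ r := fun hd => hk (by
            rw [hm, Nat.modEq_iff_dvd' (Nat.le_mul_of_pos_right r ?_)]
            · exact Nat.dvd_sub (hd.mul_right k) hd
            · by_contra h0
              have h1 := hsk
              rw [show k = 0 by omega, Nat.mul_zero] at h1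
              exact hp.out.ne_one (Nat.eq_one_of_dvd_one ((Nat.modEq_iff_dvd' zero_le_one).1 h1)))
          have hle : (Subgroup.zpowers e).map (φ α).toMonoidHom ≤ Subgroup.zpowers e := by
            rw [MonoidHom.map_zpowers, Subgroup.zpowers_le]
            show φ α e ∈ _
            rw [hαe]; exact Subgroup.npow_mem_zpowers e r
          have heq := Subgroup.eq_of_le_of_card_ge hle
            (by rw [Subgroup.card_map_of_injective (φ α).injective])
          obtain ⟨w, hw, hwu⟩ := heq.ge hu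
          rw [← (φ α).injective hwu]; exact hw
        exact hfix _ (by rw [MulAut.apply_inv_self]; exact Subgroup.mem_zpowers e)
      rw [map_mul, map_mul, map_inv, MulAut.mul_apply, MulAut.mul_apply, hinv _ hmem, MulAut.apply_inv_self,
        map_pow, (hpw m).1]
    haveI : (Subgroup.zpowers e).Normal := ⟨fun x hx g => by rw [hcV g x, mul_inv_cancel_right]; exact hx⟩
    obtain ⟨_, ⟨i, rfl⟩, _, ⟨j, rfl⟩, rfl⟩ := Subgroup.mem_sup_of_normal_left.1 (h2 ▸ Subgroup.mem_top v)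
    simp only [map_mul (φ (α * a * α⁻¹)), map_mul (φ (a ^ m)), map_zpow, e1, e2]
  -- it is an inner twist of a power of `a`
  have hainv : ∀ c ∈ C, ∀ γ : MulAut E, γ c ∈ C := fun c hc γ => by
    rw [hD.center_eq] at hc ⊢
    exact (Subgroup.characteristic_iff_map_eq.1 (inferInstance : (Subgroup.center E).Characteristic) γ).le
      ⟨c, hc, rfl⟩
  obtain ⟨δ, hδ⟩ : ∃ δ : F.autGroup E, δ = α * a * α⁻¹ * (a ^ m)⁻¹ := ⟨_, rfl⟩
  have hδC : ∀ c ∈ C, (δ : MulAut E) c = c := by
    intro c hc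
    have hpow : ∀ i : ℕ, ∀ c ∈ C, ((a : MulAut E) ^ i) c = c := by
      intro i
      induction i with
      | zero => intro c _; simp
      | succ i ih => intro c hc; rw [pow_succ, MulAut.mul_apply, haC c hc, ih c hc]
    have hc' : ((a : MulAut E) ^ m)⁻¹ c = c := by
      apply ((a : MulAut E) ^ m).injective
      rw [MulAut.apply_inv_self, hpow m c hc]
    rw [hδ]
    simp only [Subgroup.coe_mul, Subgroup.coe_inv, SubmonoidClass.coe_pow, MulAut.mul_apply]
    rw [hc', haC _ (hainv c hc _), MulAut.apply_inv_self]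
  have hδq : ∀ z : E, (δ : MulAut E) z * z⁻¹ ∈ C := by
    intro z
    rw [← QuotientGroup.eq_one_iff, QuotientGroup.mk_mul, QuotientGroup.mk_inv, ← hφ δ z, hδ,
      map_mul, hconj, ← map_mul, mul_inv_cancel, map_one, MulAut.one_apply, mul_inv_cancel]
  obtain ⟨g, hg⟩ := hD.inner (δ : MulAut E) hδC hδq
  have hgy : ∀ z ∈ E, av ((α : MulAut E) * (a : MulAut E) * (α : MulAut E)⁻¹) z =
      ((g : Ω) * y ^ m) * z * ((g : Ω) * y ^ m)⁻¹ := by
    intro z hz
    have h1 : (α : MulAut E) * (a : MulAut E) * (α : MulAut E)⁻¹ = (δ : MulAut E) * (a : MulAut E) ^ m := by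
      rw [hδ]; simp [mul_assoc]
    rw [h1, av_mul _ _ hz, conj_pow_av hyn ha m z hz]
    have hz' : y ^ m * z * (y ^ m)⁻¹ ∈ E := conj_mem_of_normalizer (pow_mem hyn m) hz
    rw [av_apply _ hz', hg]
    simp only [Subgroup.coe_mul, Subgroup.coe_inv]
    group
  obtain ⟨G, hG, hGE, e', he', hGy⟩ := exists_extension hE hC α.2 hy hyn
    (S.mul_mem (hES g.2) (S.pow_mem hy m)) fun z hz => by
      have h := hgy _ (av_mem (α : MulAut E) hz)
      rw [av_mul _ _ (av_mem _ hz), av_inv_av _ hz, av_mul _ _ hz, ha z hz] at h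
      exact h
  -- the scaling contradiction
  obtain ⟨T, hT⟩ : ∃ T : Subgroup Ω, T = E ⊔ Subgroup.zpowers y := ⟨_, rfl⟩
  rw [← hT] at hG
  have hET : E ≤ T := hT ▸ le_sup_left
  have hyT : y ∈ T := hT ▸ Subgroup.mem_sup_right (Subgroup.mem_zpowers y)
  have hTS : T ≤ S := hG.le
  haveI := finite_of_le hTS
  have hGT : ∀ t ∈ T, G t ∈ T := by
    intro t ht
    rw [hT] at ht
    obtain ⟨u, hu, i, -, rfl⟩ := sup_facts hyn hyp t ht
    rw [hG.map_mul (hET hu) (pow_mem hyT i)]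
    refine mul_mem (hET (hGE u hu ▸ av_mem _ hu)) ?_
    clear ht
    induction i with
    | zero => rw [pow_zero, hG.map_one]; exact one_mem T
    | succ i ih =>
      rw [pow_succ, hG.map_mul (pow_mem hyT i) hyT, hGy]
      exact mul_mem ih (mul_mem (mul_mem (hET g.2) (pow_mem hyT m)) (hET he'))
  let gT : T →* T := MonoidHom.mk' (fun t => ⟨G t, hGT t t.2⟩) fun s t => Subtype.ext (hG.map_mul s.2 t.2)
  obtain ⟨w', hw'⟩ := QuotientGroup.mk'_surjective C e
  obtain ⟨w, cw, hwp, hcw, hwe⟩ := hD.lift w'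
  have hwmk : (w : E ⧸ C) = e := by
    rw [← hw', hwe, map_mul, show QuotientGroup.mk' C cw = 1 from (QuotientGroup.eq_one_iff cw).2 hcw, mul_one]
    rfl
  obtain ⟨CT, hCT⟩ : ∃ CT : Subgroup T, CT = C.map (Subgroup.inclusion hET) := ⟨_, rfl⟩
  obtain ⟨ET, hET'⟩ : ∃ ET : Subgroup T, ET = E.subgroupOf T := ⟨_, rfl⟩
  have hcent : ∀ c ∈ C, ∀ t : T, Subgroup.inclusion hET c * t = t * Subgroup.inclusion hET c := by
    intro c hc t
    have hyc : Commute (c : Ω) y := by
      have h1 := ha c c.2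
      rw [av_coe, haC c hc] at h1
      exact eq_mul_inv_iff_mul_eq.1 h1
    obtain ⟨u, hu, i, -, ht⟩ := sup_facts hyn hyp t (hT ▸ t.2)
    refine Subtype.ext ?_
    show (c : Ω) * t = t * c
    rw [ht]
    exact (Commute.mul_right (show Commute (c : Ω) u from congrArg Subtype.val (hD.central c hc ⟨u, hu⟩))
      (hyc.pow_right i)).eq
  haveI := hD.cyclic
  have hcycT : IsCyclic CT := hCT ▸ isCyclic_of_surjective
    ((Subgroup.inclusion hET).subgroupMap C) ((Subgroup.inclusion hET).subgroupMap_surjective C)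
  obtain ⟨d, hd, hyd⟩ := Heis.exists_root (T := T) (hS.to_le hTS) hp3 CT ET
    (fun c hc t => by
      obtain ⟨c, hc', rfl⟩ := hCT ▸ hc
      exact hcent c hc' t)
    hcycT
    (fun u hu => by
      obtain ⟨a', c', ha', hc', heq⟩ := hD.lift ⟨u, Subgroup.mem_subgroupOf.1 (hET' ▸ hu)⟩
      refine ⟨Subgroup.inclusion hET a', Subgroup.inclusion hET c', by rw [← map_pow, ha', map_one],
        hCT ▸ ⟨c', hc', rfl⟩, ?_⟩
      rw [← map_mul, ← heq]; rfl)
    (by
      rw [hET', Nat.card_congr (Subgroup.subgroupOfEquivOfLe hET).toEquiv, hCT,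
        Subgroup.card_map_of_injective (Subgroup.inclusion_injective hET), ← hD.index, Nat.mul_comm,
        Subgroup.card_mul_index])
    (by
      rw [hET', Nat.card_congr (Subgroup.subgroupOfEquivOfLe hET).toEquiv, hT]
      exact card_sup_le hES hy hyn hyp)
    (by subst hT; exact hET' ▸ commutator_sup_le hyn hyp)
    (y := ⟨y, hyT⟩) (hET' ▸ Subgroup.mem_subgroupOf.2 (by simpa using hyp))
    (w := Subgroup.inclusion hET w) (by rw [← map_pow, hwp, map_one])
    (fun i hi => by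
      obtain ⟨c, hc, hci⟩ := hCT ▸ hi
      rw [← map_zpow] at hci ⊢
      have hwi : w ^ i ∈ C := Subgroup.inclusion_injective hET hci ▸ hc
      rw [← QuotientGroup.eq_one_iff, QuotientGroup.mk_zpow, hwmk, ← orderOf_dvd_iff_zpow_eq_one,
        orderOf_eq_prime (heV e) he] at hwi
      obtain ⟨j, rfl⟩ := hwi
      rw [zpow_mul, zpow_natCast, hwp, one_zpow, map_one])
    (fun u hu hcomm => by
      have huE : (u : Ω) ∈ E := Subgroup.mem_subgroupOf.1 (hET' ▸ hu)
      have hfix : φ a ((⟨(u : Ω), huE⟩ : E) : E ⧸ C) = ((⟨(u : Ω), huE⟩ : E) : E ⧸ C) := by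
        rw [hφ]
        congr 1
        refine Subtype.ext ?_
        rw [← av_coe, ha _ huE]
        have h : y * (u : Ω) = u * y := congrArg Subtype.val hcomm
        rw [h, mul_inv_cancel_right]
      obtain ⟨i, hi⟩ := Subgroup.mem_zpowers_iff.1 (Torus.mem_line hcV heV hD.card_quot hao he hae hfix)
      refine ⟨i, Subgroup.inclusion hET ((w ^ i)⁻¹ * ⟨(u : Ω), huE⟩), hCT ▸ ⟨_, ?_, rfl⟩, ?_⟩
      · rw [← map_zpow, ← map_mul, mul_inv_cancel_left]; rfl
      · rw [SetLike.mem_coe, ← QuotientGroup.eq_one_iff, QuotientGroup.mk_mul, QuotientGroup.mk_inv,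
          QuotientGroup.mk_zpow, hwmk, hi, inv_mul_cancel])
    gT (r := r) (l := l) (m := m)
    (by
      refine ⟨Subgroup.inclusion hET ((w ^ r)⁻¹ * (α : MulAut E) w), hCT ▸ ⟨_, ?_, rfl⟩, ?_⟩
      · rw [SetLike.mem_coe, ← QuotientGroup.eq_one_iff, QuotientGroup.mk_mul, QuotientGroup.mk_inv,
          QuotientGroup.mk_pow, ← hφ α w, hwmk, hαe, inv_mul_cancel]
      · rw [← map_pow, ← map_mul, mul_inv_cancel_left]
        refine Subtype.ext ?_
        show G w = _
        rw [hGE w w.2, av_coe]; rfl)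
    (fun c hc => by
      obtain ⟨c, hc', rfl⟩ := hCT ▸ hc
      rw [← map_pow, ← hαC c hc']
      refine Subtype.ext ?_
      show G c = _
      rw [hGE c c.2, av_coe]; rfl)
    (by
      obtain ⟨u, hu, hgu⟩ : ∃ u ∈ E, (g : Ω) * y ^ m * e' = y ^ m * u := by
        refine ⟨(y ^ m)⁻¹ * g * (y ^ m) * e', mul_mem ?_ he', by group⟩
        simpa using conj_mem_of_normalizer (Subgroup.inv_mem _ (pow_mem hyn m)) g.2
      refine ⟨⟨u, hET hu⟩, hET' ▸ Subgroup.mem_subgroupOf.2 hu, Subtype.ext ?_⟩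
      show G y = _
      rw [hGy, hgu]; simp)
    hk hl
  obtain ⟨d, hd', rfl⟩ := hCT ▸ hd
  have h1 : y ^ p = (d : Ω) ^ p := by simpa using congrArg Subtype.val hyd
  have h2 : y * (d : Ω)⁻¹ ∈ E := hΩ _ (S.mul_mem hy (S.inv_mem (hES d.2))) (by
    have hc : Commute y (d : Ω) := congrArg Subtype.val (hcent d hd' ⟨y, hyT⟩).symm
    rw [hc.inv_right.mul_pow, inv_pow, h1, mul_inv_cancel])
  exact hyE (by simpa using mul_mem h2 d.2)

end Cfsg.Agent.Local.FS.RankTwo
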