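import Cfsg.Agent.Lib.Local.FS.PullNormal
import Cfsg.Agent.Lib.Local.FS.ModelQuotient
import Cfsg.Agent.S5118

/-!
A simple fusion system realized by a finite group is realized by a simple group.
-/

set_option autoImplicit false

namespace Cfsg.Agent.Local.FS

open Cfsg Cfsg.FusionSystem Cfsg.Agent.Fusion

universe u v

variable {Ω : Type v} [Group Ω] {S : Subgroup Ω} [Finite S] {p : ℕ} [Fact p.Prime]

theorem exists_simple_realization (hS : IsPGroup p S) (F : FusionSystem S) (hF : F.IsSimple p) :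
    ∀ (n : ℕ) (G : Type u) [Group G] [Finite G] (ι : ↥S →* G), Nat.card G = n → F.IsRealizedBy ι →
      (∃ T : Sylow p G, (T : Subgroup G) = ι.range) →
      ∃ (K : Type u) (_ : Group K) (_ : Finite K) (_ : IsSimpleGroup K) (κ : ↥S →* K),
        F.IsRealizedBy κ ∧ ∃ T : Sylow p K, (T : Subgroup K) = κ.range := by
  intro n
  induction n using Nat.strong_induction_on with
  | _ n ih =>
    intro G _ _ ι hn hr hsyl
    obtain ⟨R, hR⟩ := id hsyl
    have hιS : ι.range ≠ ⊥ := fun h => hF.2.1 (eq_bot_iff.2 fun x hx => by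
      have h1 : ι ⟨x, hx⟩ ∈ ι.range := ⟨_, rfl⟩
      rw [h, Subgroup.mem_bot, ← map_one ι] at h1
      exact congrArg Subtype.val (hr.1 h1))
    by_cases hsG : ∀ N : Subgroup G, N.Normal → N = ⊥ ∨ N = ⊤
    · haveI : Nontrivial G := by
        obtain ⟨y, -, hy⟩ := (Subgroup.ne_bot_iff_exists_ne_one.1 hιS).elim fun a ha =>
          (⟨(a : G), a.2, fun h => ha (Subtype.ext h)⟩ : ∃ y : G, y ∈ ι.range ∧ y ≠ 1)
        exact ⟨⟨y, 1, hy⟩⟩
      exact ⟨G, inferInstance, inferInstance, ⟨hsG⟩, ι, hr, hsyl⟩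
    push Not at hsG
    obtain ⟨N, hN, hN1, hNtop⟩ := hsG
    haveI := hN
    have hiso := fiso_of_realized hr
    rw [← hR] at hiso
    rcases hiso.simple hS hF _ _ (Cfsg.Agent.S5118.result p R N) with hb | ⟨hT, hHom⟩
    · have hNp : (Nat.card N).Coprime p := by
        have h1 := (sylIn_top R).inf_normal (N := N) le_top (by rw [Subgroup.normalizer_eq_top])
        rw [hb] at h1
        have h2 := h1.not_dvd
        rw [Subgroup.relIndex_bot_left] at h2
        exact ((Nat.Prime.coprime_iff_not_dvd Fact.out).2 h2).symm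
      obtain ⟨hr', hsyl'⟩ := realized_quotient hS hr hsyl
      refine ih _ ?_ (G ⧸ pPrimeCore p G) _ rfl hr' hsyl'
      subst hn
      have hW : 1 < Nat.card ↥(pPrimeCore p G) :=
        lt_of_lt_of_le ((Subgroup.one_lt_card_iff_ne_bot N).2 hN1) (Subgroup.card_le_of_le (le_pPrimeCore hNp))
      rw [Subgroup.card_eq_card_quotient_mul_card_subgroup (pPrimeCore p G)]
      exact lt_mul_of_one_lt_right Nat.card_pos hW
    · have hRN : ι.range ≤ N := hR ▸ inf_eq_left.1 hT
      have hmemN : ∀ s, ι s ∈ N := fun s => hRN ⟨s, rfl⟩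
      set κ : ↥S →* ↥N := ι.codRestrict N hmemN with hκ
      have hκR : κ.range = ι.range.subgroupOf N := by
        ext y
        rw [Subgroup.mem_subgroupOf]
        constructor
        · rintro ⟨s, rfl⟩; exact ⟨s, rfl⟩
        · rintro ⟨s, hs⟩; exact ⟨s, Subtype.ext hs⟩
      refine ih _ ?_ ↥N κ rfl ⟨fun a b hab => hr.1 (congrArg Subtype.val hab), fun P hP φ hφ => ⟨fun hm => ?_, ?_⟩⟩ ?_
      · subst hn
        exact lt_of_le_of_ne (Subgroup.card_le_card_group N) fun h => hNtop (N.eq_top_of_card_eq h)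
      · obtain ⟨g, hg⟩ := (hr.2 P hP φ hφ).1 hm
        set P' := (P.subgroupOf S).map ι with hP'
        have hP'R : P' ≤ (R : Subgroup G) := hR ▸ by rintro _ ⟨s, -, rfl⟩; exact ⟨s, rfl⟩
        have hc : conjHom P' g ∈ (groupFusionSystem (R : Subgroup G)).Hom P' := by
          refine ⟨hP'R, fun x => ?_, g, fun x => rfl⟩
          obtain ⟨s, hs, hse⟩ := x.2
          show g * (x : G) * g⁻¹ ∈ (R : Subgroup G)
          rw [← hse, hR]
          exact ⟨_, hg ⟨s, hs⟩⟩
        rw [← hHom] at hc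
        obtain ⟨-, -, k, hk, hkx⟩ := hc
        refine ⟨⟨k, hk⟩, fun x => Subtype.ext ?_⟩
        show ι _ = k * ι _ * k⁻¹
        rw [hg x]
        exact hkx ⟨ι ⟨x, hP x.2⟩, ⟨⟨x, hP x.2⟩, x.2, rfl⟩⟩
      · rintro ⟨g, hg⟩
        exact (hr.2 P hP φ hφ).2 ⟨g, fun x => congrArg Subtype.val (hg x)⟩
      · refine ⟨R.subtype (hR ▸ hRN), ?_⟩
        rw [Sylow.coe_subtype, hκR, hR]

end Cfsg.Agent.Local.FS
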