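import Cfsg.Agent.Lib.Local.FS.PowerIndex
import Cfsg.Agent.Lib.Local.FS.PrimeResidual
import Cfsg.Prelude.Def_FusionReduction

/-!
`O^p` is idempotent on hyperfocal subgroups; residual limits are unique and unchanged by passing to a normal
subsystem of `p`-power index.
-/

set_option autoImplicit false

namespace Cfsg.Agent.Local.FS

open Cfsg Cfsg.FusionSystem Cfsg.Agent.Fusion

universe u

variable {Ω : Type u} [Group Ω] {S T : Subgroup Ω} {F : FusionSystem S} {E : FusionSystem T} {p : ℕ}

/-- A subsystem of `p`-power index has the same hyperfocal subgroup. -/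
theorem hyperfocal_eq_of_pPower [Finite S] [Fact p.Prime] (hS : IsPGroup p S)
    (hE : E.HasPPowerIndexIn F p) : E.hyperfocalSubgroup p = F.hyperfocalSubgroup p := by
  haveI := finite_of_le (le_of_sub hE.1)
  set H₁ := E.hyperfocalSubgroup p with hH₁
  refine le_antisymm (hyperfocal_mono hE.1) ((Subgroup.closure_le _).2 ?_)
  rintro _ ⟨P, γ, a, hP, hγ, rfl⟩
  haveI := mulAut_finite_of_le hP
  rw [← av_coe]
  obtain ⟨x, hx⟩ := a
  show x⁻¹ * av (γ : MulAut P) x ∈ H₁
  revert x
  have hT : ∀ δ : F.autGroup P, δ ∈ pResidual p ↥(F.autGroup P) → ∀ z ∈ P ⊓ T,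
      av (δ : MulAut P) z ∈ P ⊓ T := fun δ hδ z hz => by
    refine ⟨av_mem _ hz.1, ?_⟩
    have h1 := T.mul_mem hz.2 (hE.2.1 (inv_mul_mem_hyperfocal hP hδ hz.1))
    rwa [mul_inv_cancel_left] at h1
  induction hγ using Subgroup.closure_induction with
  | mem δ hδ =>
    set m := orderOf δ
    have hmem : δ ∈ pResidual p ↥(F.autGroup P) := Subgroup.subset_closure hδ
    have hm : Map F P (av (δ : MulAut P)) := map_of_mem_autGroup hP δ.2
    have hpow : ∀ n : ℕ, ∀ z ∈ P, av ((δ : MulAut P) ^ (n + 1)) z = av (δ : MulAut P) (av ((δ : MulAut P) ^ n) z) :=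
      fun n z hz => by rw [pow_succ', av_mul _ _ hz]
    -- on `P ⊓ T` the element moves by `H₁`
    haveI := finite_of_le (show P ⊓ T ≤ S from inf_le_left.trans hP)
    obtain ⟨β, hβ, hβe⟩ := exists_aut (hm.restrict (inf_le_left : P ⊓ T ≤ P))
      (Subgroup.eq_of_le_of_card_ge (im_le_iff.2 (hT δ hmem)) (hm.restrict inf_le_left).card_im.ge)
    have hβ1 : β ^ m = 1 := aut_ext fun z hz => by
      rw [av_one hz, ← av_pow (inf_le_left : P ⊓ T ≤ P) (fun y hy => (hβe y hy).symm) _ z hz,
        ← SubmonoidClass.coe_pow, pow_orderOf_eq_one, OneMemClass.coe_one, av_one hz.1]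
    have hstep : ∀ z ∈ P ⊓ T, z⁻¹ * av (δ : MulAut P) z ∈ H₁ := by
      intro z hz
      have hβE : β ∈ E.autGroup (P ⊓ T) := hE.2.2 _ inf_le_right ⟨⟨β, hβ⟩, Subgroup.subset_closure (by
        show (orderOf (⟨β, hβ⟩ : F.autGroup (P ⊓ T))).Coprime p
        rw [← Subgroup.orderOf_coe]
        exact Nat.Coprime.coprime_dvd_left (orderOf_dvd_of_pow_eq_one hβ1) hδ), rfl⟩
      rw [← hβe z hz]
      refine inv_mul_mem_hyperfocal inf_le_right (γ := ⟨β, hβE⟩) (Subgroup.subset_closure ?_) hz
      show (orderOf (⟨β, hβE⟩ : E.autGroup (P ⊓ T))).Coprime p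
      rw [← Subgroup.orderOf_coe]
      exact Nat.Coprime.coprime_dvd_left (orderOf_dvd_of_pow_eq_one hβ1) hδ
    intro x hx
    set y := x⁻¹ * av (δ : MulAut P) x with hy
    have hyPT : y ∈ P ⊓ T :=
      ⟨P.mul_mem (P.inv_mem hx) (av_mem _ hx), hE.2.1 (inv_mul_mem_hyperfocal hP hmem hx)⟩
    have key : ∀ n : ℕ, (y ^ n)⁻¹ * (x⁻¹ * av ((δ : MulAut P) ^ n) x) ∈ H₁ ∧
        x⁻¹ * av ((δ : MulAut P) ^ n) x ∈ P ⊓ T := by
      intro n
      induction n with
      | zero => simp [av_one hx]
      | succ n ih =>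
        obtain ⟨ih1, ih2⟩ := ih
        have h1 : av (δ : MulAut P) (av ((δ : MulAut P) ^ n) x) =
            x * y * av (δ : MulAut P) (x⁻¹ * av ((δ : MulAut P) ^ n) x) := by
          rw [hm.map_mul (P.inv_mem hx) (av_mem _ hx), hm.map_inv hx, hy]; group
        have h2 := hstep _ ih2
        rw [hpow n x hx, h1]
        refine ⟨?_, ?_⟩
        · have h3 := H₁.mul_mem ih1 h2
          rw [pow_succ']
          simpa [mul_assoc] using h3
        · have h3 := (P ⊓ T).mul_mem hyPT (hT δ hmem _ ih2)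
          simpa [mul_assoc] using h3
    have hym : y ^ m ∈ H₁ := by
      have h := (key m).1
      rw [← SubmonoidClass.coe_pow, pow_orderOf_eq_one, OneMemClass.coe_one, av_one hx, inv_mul_cancel, mul_one] at h
      exact inv_mem_iff.1 h
    obtain ⟨k, hk⟩ := hS ⟨y, hP hyPT.1⟩
    have hk' : y ^ (p ^ k) = 1 := congrArg Subtype.val hk
    obtain ⟨i, hi⟩ := exists_pow_eq_self_of_coprime (x := y) (n := m)
      (Nat.Coprime.coprime_dvd_right (orderOf_dvd_of_pow_eq_one hk') (Nat.Coprime.pow_right k hδ))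
    rw [← hi]
    exact H₁.pow_mem hym i
  | one => intro x hx; rw [OneMemClass.coe_one, av_one hx, inv_mul_cancel]; exact H₁.one_mem
  | mul a c _ _ iha ihc =>
    intro x hx
    have h := H₁.mul_mem (ihc x hx) (iha _ (av_mem (c : MulAut P) hx))
    rw [Subgroup.coe_mul, av_mul _ _ hx]
    simpa [mul_assoc] using h
  | inv a _ iha =>
    intro x hx
    have h := iha _ (av_mem (a : MulAut P)⁻¹ hx)
    rw [av_av_inv _ hx] at h
    rw [Subgroup.coe_inv]
    simpa using H₁.inv_mem h

/-- The same maps, possibly over propositionally equal subgroups. -/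
def SameSys (F : FusionSystem S) (E : FusionSystem T) : Prop := ∀ P f, Map F P f ↔ Map E P f

theorem SameSys.base (h : SameSys F E) : S = T :=
  le_antisymm ((h S id).1 (map_id le_rfl)).le ((h T id).2 (map_id le_rfl)).le

theorem SameSys.limit (h : SameSys F E) {U : Subgroup Ω} {L : FusionSystem U}
    (hL : L.IsResidualLimitOf F p) : L.IsResidualLimitOf E p := by
  obtain rfl := h.base
  rwa [← eq_of_map_iff h]

variable [Fact p.Prime]

theorem pPrimeResidual_unique {D D' : FusionSystem S} (h : F.IsPPrimeResidual p D) (h' : F.IsPPrimeResidual p D') :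
    D = D' :=
  eq_of_map_iff fun _ _ => ⟨fun hm => hm.of_sub (h.2.2 D' h'.1 h'.2.1), fun hm => hm.of_sub (h'.2.2 D h.1 h.2.1)⟩

/-- For a stable system the residual subsystems are the system itself. -/
theorem residual_of_stable [Finite S] (hS : IsPGroup p S) (hF : F.IsSaturated p)
    (hH : F.hyperfocalSubgroup p = S) (hR : F.IsPPrimeResidual p F) {D D' : FusionSystem T}
    (hT : T = F.hyperfocalSubgroup p) (hD : D.IsSaturated p ∧ D.HasPPowerIndexIn F p)
    (hD' : D.IsPPrimeResidual p D') : SameSys D' F := by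
  obtain rfl : T = S := hT.trans hH
  obtain rfl : D = F := pPower_unique hS hD.1 hD.2 hF ⟨fun _ _ h => h, hH.le, fun P _ => Subgroup.map_subtype_le _⟩
  obtain rfl := pPrimeResidual_unique hD' hR
  exact fun _ _ => Iff.rfl

/-- The first two residual steps can be prescribed. -/
theorem limit_step [Finite S] (hS : IsPGroup p S) (hF : F.IsSaturated p) {U : Subgroup Ω} {L : FusionSystem U}
    (hL : L.IsResidualLimitOf F p) {D D' : FusionSystem T} (hT : T = F.hyperfocalSubgroup p)
    (hD : D.IsSaturated p ∧ D.HasPPowerIndexIn F p) (hD' : D.IsPPrimeResidual p D') :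
    L.IsResidualLimitOf D' p := by
  cases hL with
  | stable _ _ hH hR =>
    have hs := residual_of_stable hS hF hH hR hT hD hD'
    exact SameSys.limit (fun P f => (hs P f).symm) (IsResidualLimitOf.stable _ p hH hR)
  | step _ _ D₁ D₁' h1 h2 h3 =>
    subst hT
    obtain rfl := pPower_unique hS h1.1 h1.2 hD.1 hD.2
    obtain rfl := pPrimeResidual_unique h2 hD'
    exact h3

omit [Fact p.Prime] in
theorem limit_stable : ∀ {V S : Subgroup Ω} {M : FusionSystem V} {F : FusionSystem S} {p : ℕ},
    M.IsResidualLimitOf F p → ∀ [Fact p.Prime] [Finite S], IsPGroup p S → F.IsSaturated p →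
      F.hyperfocalSubgroup p = S → F.IsPPrimeResidual p F → SameSys M F := by
  intro V S M F p hM
  induction hM with
  | stable F p _ _ => intros; exact fun _ _ => Iff.rfl
  | step F p D D' h1 h2 h3 ih =>
    intro _ _ hS hF hH hR
    have hs := residual_of_stable hS hF hH hR rfl h1 h2
    have hle : F.hyperfocalSubgroup p ≤ _ := hyperfocal_le
    haveI := finite_of_le hle
    have key : ∀ {B : Subgroup Ω} (G : FusionSystem B), SameSys G F →
        G.hyperfocalSubgroup p = B ∧ G.IsPPrimeResidual p G := by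
      intro B G hG
      obtain rfl := hG.base
      obtain rfl := eq_of_map_iff hG
      exact ⟨hH, hR⟩
    obtain ⟨hH', hR'⟩ := key D' hs
    exact fun P f => (ih (hS.to_le hle) h2.1 hH' hR' P f).trans (hs P f)

omit [Fact p.Prime] in
theorem limit_unique' : ∀ {U S : Subgroup Ω} {L : FusionSystem U} {F : FusionSystem S} {p : ℕ},
    L.IsResidualLimitOf F p → ∀ [Fact p.Prime] [Finite S], IsPGroup p S → F.IsSaturated p →
      ∀ {V : Subgroup Ω} {M : FusionSystem V}, M.IsResidualLimitOf F p → SameSys L M := by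
  intro U S L F p hL
  induction hL with
  | stable F p hH hR =>
    intro _ _ hS hF V M hM
    exact fun P f => (limit_stable hM hS hF hH hR P f).symm
  | step F p D D' h1 h2 h3 ih =>
    intro _ _ hS hF V M hM
    haveI := finite_of_le (hyperfocal_le (F := F) (p := p))
    exact ih (hS.to_le hyperfocal_le) h2.1 (limit_step hS hF hM rfl h1 h2)

/-- A subsystem of `p`-power index has the same residual limit. -/
theorem limit_pPower [Finite S] (hS : IsPGroup p S) (hF : F.IsSaturated p) (hEs : E.IsSaturated p)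
    (hE : E.HasPPowerIndexIn F p) {U V : Subgroup Ω} {L : FusionSystem U} {M : FusionSystem V}
    (hL : L.IsResidualLimitOf F p) (hM : M.IsResidualLimitOf E p) : SameSys L M := by
  have hTS := le_of_sub hE.1
  haveI := finite_of_le hTS
  haveI := finite_of_le (hyperfocal_le (F := F) (p := p))
  have heq := hyperfocal_eq_of_pPower hS hE
  obtain ⟨D, hD⟩ := exists_pPower hS hF hyperfocal_le le_rfl
  have hD' := isPPrimeResidual_primeRes (hS.to_le hyperfocal_le) hD.1
  obtain ⟨D₁, hD₁⟩ := exists_pPower (hS.to_le hTS) hEs (hE.2.1) heq.le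
  have hD₁F : D₁.HasPPowerIndexIn F p := pPower_trans hE hD₁.2 le_rfl hE.2.1
  obtain rfl := pPower_unique hS hD₁.1 hD₁F hD.1 hD.2
  exact limit_unique' (limit_step hS hF hL rfl hD hD') (hS.to_le hyperfocal_le) hD'.1
    (limit_step (hS.to_le hTS) hEs hM heq.symm hD₁ hD')

end Cfsg.Agent.Local.FS
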