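import Cfsg.Agent.Lib.Local.FS.CoreHeisenberg
import Cfsg.Agent.Lib.Local.FS.SimplePSL3

/-!
The Sylow subgroup of `SL₃(q)` in the defining characteristic.
-/

set_option autoImplicit false

namespace Cfsg.Agent.Local.FS

open Matrix Cfsg.Agent.Small.PSLn

variable {K : Type*} [Field K] [Fintype K]

private theorem ext3 {A B : ↥(UTg 3 K)} (h01 : A.1.1 0 1 = B.1.1 0 1) (h12 : A.1.1 1 2 = B.1.1 1 2)
    (h02 : A.1.1 0 2 = B.1.1 0 2) : A = B := by
  obtain ⟨⟨A, dA⟩, hA⟩ := A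
  obtain ⟨⟨B, dB⟩, hB⟩ := B
  refine Subtype.ext (Subtype.ext ?_)
  ext i j
  rcases lt_trichotomy i j with h | h | h
  · fin_cases i <;> fin_cases j <;> first | exact h01 | exact h12 | exact h02 | exact absurd h (by decide)
  · subst h; exact (hA.1 i).trans (hB.1 i).symm
  · exact (hA.2 i j h).trans (hB.2 i j h).symm

private theorem mul_entries (A B : ↥(UTg 3 K)) :
    (A * B).1.1 0 1 = A.1.1 0 1 + B.1.1 0 1 ∧ (A * B).1.1 1 2 = A.1.1 1 2 + B.1.1 1 2 ∧
      (A * B).1.1 0 2 = A.1.1 0 2 + B.1.1 0 2 + A.1.1 0 1 * B.1.1 1 2 := by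
  have hA := A.2; have hB := B.2
  refine ⟨?_, ?_, ?_⟩ <;>
  · show (A.1.1 * B.1.1) _ _ = _
    simp [Matrix.mul_apply, Fin.sum_univ_three, hA.1 0, hA.1 1, hB.1 1, hB.1 2,
      hA.2 1 0 (by decide), hB.2 2 1 (by decide)]
    try ring

private def mk3 (a b c : K) : ↥(UTg 3 K) :=
  ⟨⟨!![1, a, c; 0, 1, b; 0, 0, 1], by simp [Matrix.det_fin_three]⟩,
    fun i => by fin_cases i <;> rfl,
    fun i j h => by fin_cases i <;> fin_cases j <;> first | rfl | exact absurd h (by decide)⟩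

/-- The unitriangular group of degree three is Heisenberg-like. -/
theorem heisLike_UT : HeisLike ↥(UTg 3 K) := by
  let Z : Subgroup ↥(UTg 3 K) :=
    { carrier := {A | A.1.1 0 1 = 0 ∧ A.1.1 1 2 = 0}
      one_mem' := ⟨rfl, rfl⟩
      mul_mem' := by
        rintro A B ⟨a1, a2⟩ ⟨b1, b2⟩
        obtain ⟨m1, m2, -⟩ := mul_entries A B
        exact ⟨by rw [m1, a1, b1, add_zero], by rw [m2, a2, b2, add_zero]⟩
      inv_mem' := by
        rintro A ⟨a1, a2⟩
        obtain ⟨m1, m2, -⟩ := mul_entries A A⁻¹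
        rw [mul_inv_cancel, a1, zero_add] at m1
        rw [mul_inv_cancel, a2, zero_add] at m2
        exact ⟨m1.symm, m2.symm⟩ }
  have hcomm : ∀ A B : ↥(UTg 3 K), A * B = B * A ↔
      A.1.1 0 1 * B.1.1 1 2 = B.1.1 0 1 * A.1.1 1 2 := by
    intro A B
    obtain ⟨m1, m2, m3⟩ := mul_entries A B
    obtain ⟨n1, n2, n3⟩ := mul_entries B A
    constructor
    · intro h; rw [h] at m3; linear_combination n3 - m3
    · intro h
      refine ext3 (by rw [m1, n1]; ring) (by rw [m2, n2]; ring) (by rw [m3, n3]; linear_combination h)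
  refine ⟨Z, ?_, ?_, ?_, ?_⟩
  · rintro z ⟨z1, z2⟩ x
    rw [hcomm, z1, z2]; ring
  · intro A B
    obtain ⟨m1, m2, -⟩ := mul_entries A B
    obtain ⟨n1, n2, -⟩ := mul_entries B A
    obtain ⟨k1, k2, -⟩ := mul_entries (A * B * A⁻¹ * B⁻¹) (B * A)
    have he : A * B * A⁻¹ * B⁻¹ * (B * A) = A * B := by group
    rw [he] at k1 k2
    exact ⟨by linear_combination -k1 + m1 - n1, by linear_combination -k2 + m2 - n2⟩
  · rintro E hE z ⟨z1, z2⟩
    -- solve for the conjugating element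
    obtain ⟨a, b, hab⟩ : ∃ a b : K, a * E.1.1 1 2 - E.1.1 0 1 * b = z.1.1 0 2 := by
      by_cases h : E.1.1 1 2 = 0
      · have h' : E.1.1 0 1 ≠ 0 := fun h' => hE ⟨h', h⟩
        exact ⟨0, -(z.1.1 0 2 / E.1.1 0 1), by field_simp; ring⟩
      · exact ⟨z.1.1 0 2 / E.1.1 1 2, 0, by field_simp; ring⟩
    refine ⟨mk3 a b 0, mul_inv_eq_iff_eq_mul.2 ?_⟩
    obtain ⟨s1, s2, s3⟩ := mul_entries (mk3 a b 0) E
    obtain ⟨e1, e2, e3⟩ := mul_entries E z
    obtain ⟨t1, t2, t3⟩ := mul_entries (E * z) (mk3 a b 0)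
    have ha : (mk3 a b 0).1.1 0 1 = a := rfl
    have hb : (mk3 a b 0).1.1 1 2 = b := rfl
    have hc : (mk3 a b 0).1.1 0 2 = 0 := rfl
    refine ext3 (by rw [s1, t1, e1, z1]; ring) (by rw [s2, t2, e2, z2]; ring) ?_
    rw [s3, t3, e3, e1, z1, z2, ha, hb, hc]
    linear_combination hab
  · intro E hE A B hA hB
    rw [hcomm] at hA hB ⊢
    by_cases h : E.1.1 1 2 = 0
    · have h' : E.1.1 0 1 ≠ 0 := fun h' => hE ⟨h', h⟩
      rw [h, mul_zero] at hA hB
      have a2 : A.1.1 1 2 = 0 := (mul_eq_zero.1 hA.symm).resolve_left h'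
      have b2 : B.1.1 1 2 = 0 := (mul_eq_zero.1 hB.symm).resolve_left h'
      rw [a2, b2]; ring
    · refine mul_left_cancel₀ h ?_
      linear_combination B.1.1 1 2 * hA - A.1.1 1 2 * hB

/-- Every Sylow subgroup of `SL₃` in the defining characteristic is Heisenberg-like. -/
theorem heisLike_sylow {p : ℕ} [Fact p.Prime] [CharP K p]
    (T : Sylow p (Matrix.SpecialLinearGroup (Fin 3) K)) :
    HeisLike ↥(T : Subgroup (Matrix.SpecialLinearGroup (Fin 3) K)) := by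
  classical
  obtain ⟨f, hp, hK⟩ := FiniteField.card K p
  have hU : IsPGroup p ↥(UTg 3 K) :=
    IsPGroup.of_card (n := (f : ℕ) * Nat.choose 3 2) (by rw [card_UTg, hK, ← pow_mul])
  have hidx : ¬ p ∣ (UTg 3 K).index := by
    have h1 := PSL3Simple.card_SL3 (F := K)
    rw [← Subgroup.card_mul_index (UTg 3 K), card_UTg, show Nat.choose 3 2 = 3 from rfl,
      mul_assoc, mul_assoc] at h1
    have hpos : 0 < Fintype.card K ^ 3 := pow_pos Fintype.card_pos _
    have h2 := Nat.eq_of_mul_eq_mul_left hpos h1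
    intro hd
    have hd' := h2 ▸ hd.mul_right (Fintype.card K - 1)
    have hpq : p ∣ Fintype.card K := hK ▸ dvd_pow_self p f.pos.ne'
    have h0 : ((Fintype.card K : ℕ) : ZMod p) = 0 := (ZMod.natCast_eq_zero_iff _ _).2 hpq
    rw [← ZMod.natCast_eq_zero_iff] at hd'
    simp [Nat.cast_sub (Fintype.card_pos (α := K)), h0] at hd'
  obtain ⟨g, hg⟩ := MulAction.exists_smul_eq (Matrix.SpecialLinearGroup (Fin 3) K)
    (hU.toSylow hidx) T
  exact (heisLike_UT (K := K)).of_equiv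
    ((((hU.toSylow hidx).equivSMul g).trans (MulEquiv.subgroupCongr (congrArg _ hg))))

end Cfsg.Agent.Local.FS
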