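import Cfsg.Agent.Lib.Local.FS.CentralizerOfNormal

/-!
A map of a normal subsystem extends over a normal subgroup with shifts in the subsystem's subgroup.
-/

set_option autoImplicit false

namespace Cfsg.Agent.Local.FS

open Cfsg Cfsg.FusionSystem Cfsg.Agent.Fusion

variable {Ω : Type*} [Group Ω] {S T : Subgroup Ω} {F : FusionSystem S} {E : FusionSystem T}
  {D P Q R : Subgroup Ω} {f g : Ω → Ω} {p : ℕ}

/-- `f` extends over `Q`, moving each element of `Q` inside its coset of `T`. -/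
def ShiftExt (F : FusionSystem S) (T Q P : Subgroup Ω) (f : Ω → Ω) : Prop :=
  ∃ g, Map F (P ⊔ Q) g ∧ (∀ x ∈ P, g x = f x) ∧ ∀ q ∈ Q, g q ∈ Q ∧ q⁻¹ * g q ∈ T

theorem ShiftExt.congr (h : ShiftExt F T Q P f) (he : ∀ x ∈ P, f x = g x) : ShiftExt F T Q P g := by
  obtain ⟨k, hk, hkf, hkQ⟩ := h
  exact ⟨k, hk, fun x hx => (hkf x hx).trans (he x hx), hkQ⟩

theorem ShiftExt.restrict (h : ShiftExt F T Q P f) (hR : R ≤ P) : ShiftExt F T Q R f := by
  obtain ⟨k, hk, hkf, hkQ⟩ := h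
  exact ⟨k, hk.restrict (sup_le_sup_right hR Q), fun x hx => hkf x (hR hx), hkQ⟩

theorem ShiftExt.comp (hf : ShiftExt F T Q P f) (hg : ShiftExt F T Q R g) (hm : ∀ x ∈ P, f x ∈ R) :
    ShiftExt F T Q P (g ∘ f) := by
  obtain ⟨k, hk, hkf, hkQ⟩ := hf
  obtain ⟨l, hl, hlg, hlQ⟩ := hg
  refine ⟨l ∘ k, hk.comp hl fun x hx => ?_, fun x hx => ?_, fun q hq => ?_⟩
  · refine (show im P k ⊔ im Q k ≤ R ⊔ Q from sup_le_sup ?_ ?_) (hk.im_sup_le (mem_im_of_mem hx))
    · exact im_le_iff.2 fun y hy => by rw [hkf y hy]; exact hm y hy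
    · exact im_le_iff.2 fun y hy => (hkQ y hy).1
  · show l (k x) = g (f x)
    rw [hkf x hx, hlg _ (hm x hx)]
  · obtain ⟨h1, h2⟩ := hkQ q hq
    obtain ⟨h3, h4⟩ := hlQ _ h1
    refine ⟨h3, ?_⟩
    have := T.mul_mem h2 h4
    rwa [mul_assoc, mul_inv_cancel_left] at this

theorem ShiftExt.inv [Finite Q] (hM : Map F P f) (hf : ShiftExt F T Q P f) (hg : ∀ x ∈ P, g (f x) = x) :
    ShiftExt F T Q (im P f) g := by
  obtain ⟨k, hk, hkf, hkQ⟩ := hf
  obtain ⟨l, hl, hlk, -, -⟩ := hk.exists_inv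
  have hQ : im Q k = Q := Subgroup.eq_of_le_of_card_ge (im_le_iff.2 fun q hq => (hkQ q hq).1)
    (hk.restrict le_sup_right).card_im.ge
  refine ⟨l, hl.restrict (sup_le ((im_congr hkf).symm.le.trans (im_mono le_sup_left))
    (hQ.ge.trans (im_mono le_sup_right))), fun y hy => ?_, fun y hy => ?_⟩
  · obtain ⟨x, hx, rfl⟩ := hM.mem_im.1 hy
    rw [hg x hx, ← hkf x hx, hlk x (Subgroup.mem_sup_left hx)]
  · obtain ⟨q, hq, rfl⟩ := (hk.restrict le_sup_right).mem_im.1 (hQ.ge hy)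
    rw [hlk q (Subgroup.mem_sup_right hq)]
    refine ⟨hq, ?_⟩
    have := T.inv_mem (hkQ q hq).2
    rwa [mul_inv_rev, inv_inv] at this

theorem shiftExt_conjBy (hT : F.StronglyClosed T) (hQ : F.IsNormal Q) (hP : P ≤ S) {t : Ω} (ht : t ∈ T) :
    ShiftExt F T Q P fun x => t * x * t⁻¹ := by
  refine ⟨_, map_conjBy (sup_le hP hQ.1) (hT.1 ht), fun _ _ => rfl, fun q hq =>
    ⟨stronglyClosed_conj_mem (normal_stronglyClosed hQ) (hT.1 ht) hq, ?_⟩⟩
  have h := T.mul_mem (stronglyClosed_conj_mem hT (S.inv_mem (hQ.1 hq)) ht) (T.inv_mem ht)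
  show q⁻¹ * (t * q * t⁻¹) ∈ T
  rw [inv_inv] at h
  simpa only [mul_assoc] using h

variable [Finite S] [Fact p.Prime]

/-- The automorphisms of `p`-power order. -/
theorem shiftExt_of_pElement (hS : IsPGroup p S) (hE : E.IsWeaklyNormalIn F p) (hQ : F.IsNormal Q)
    (hP : P ≤ T) {a : MulAut P} (ha : a ∈ E.autGroup P) (hk : ∃ k : ℕ, orderOf a = p ^ k) :
    ShiftExt F T Q P (av a) := by
  obtain ⟨hEs, hF, hEi⟩ := id hE
  have hT := hEi.2.1
  haveI := finite_of_le hT.1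
  obtain ⟨P', hPP', hP'n⟩ := exists_fullyNormalized (F := F) (hP.trans hT.1)
  obtain ⟨u, hu, hi⟩ := isConj_iff.1 hPP'
  have hP'T : P' ≤ T := hi ▸ im_le_iff.2 fun x hx => stronglyClosed_map hT hu hx (hP hx)
  obtain ⟨e, he⟩ := exists_equiv hu hi
  haveI := mulAut_finite_of_le hP'n.1
  have hpa : IsPGroup p (Subgroup.zpowers (MulAut.congr e a)) := by
    obtain ⟨k, hk⟩ := hk
    exact IsPGroup.of_card (n := k) (by
      rw [Nat.card_zpowers]
      exact (orderOf_injective (MulAut.congr e).toMonoidHom (MulAut.congr e).injective a).trans hk)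
  obtain ⟨c, hc, hle⟩ := (fa_iff.1 (fc_fa_of_fn (hS.to_le hT.1) hEs
    (fn_of_sub hS hF hT hEi.1 hP'T hP'n)).2).2.conj_le hpa
    (Subgroup.zpowers_le.2 (congr_mem_sub hEi hu hP hi he ha))
  obtain ⟨t, ht, htc⟩ := mem_autInducedBy.1 (hle (conj_mem_cj (g := c) (Subgroup.mem_zpowers _)))
  have huP : ∀ x ∈ P, u x ∈ P' := fun x hx => hi.le (mem_im_of_mem hx)
  obtain ⟨m, hmdef⟩ : ∃ m : Ω → Ω, m = fun x => av c (u x) := ⟨_, rfl⟩
  have hm : Map F P m :=
    hmdef ▸ hu.comp (map_of_mem_autGroup hP'n.1 (autGroup_sub_le hEi hP'T hc)) huP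
  have hmt : ∀ x ∈ P, t * m x * t⁻¹ = m (av a x) := by
    intro x hx
    subst hmdef
    have hux := huP x hx
    show t * av c (u x) * t⁻¹ = av c (u (av a x))
    rw [← htc _ (av_mem c hux), av_mul _ _ (av_mem c hux), av_inv_av c hux, av_mul _ _ hux,
      av_congr_apply he a hx]
  obtain ⟨g, hg, hgm, hgQ⟩ := (normal_iff.1 hQ).2 P m hm
  obtain ⟨k, hk', hkg, -, -⟩ := hg.exists_inv
  have hQsc := normal_stronglyClosed hQ
  have htS : t ∈ S := hT.1 ht
  have hconj : ∀ x ∈ P ⊔ Q, t * g x * t⁻¹ ∈ im (P ⊔ Q) g := by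
    intro x hx
    have hmc : Map F (P ⊔ Q) fun y => t * g y * t⁻¹ :=
      hg.comp (map_conjBy le_rfl htS) fun y hy => hg.mem hy
    refine (show im P (fun y => t * g y * t⁻¹) ⊔ im Q (fun y => t * g y * t⁻¹) ≤ im (P ⊔ Q) g from
      sup_le ?_ ?_) (hmc.im_sup_le (mem_im_of_mem hx))
    · refine im_le_iff.2 fun y hy => ?_
      rw [hgm y hy, hmt y hy, ← hgm _ (av_mem a hy)]
      exact mem_im_of_mem (Subgroup.mem_sup_left (av_mem a hy))
    · refine im_le_iff.2 fun y hy => im_mono le_sup_right ?_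
      rw [hgQ]
      exact stronglyClosed_conj_mem hQsc htS (hgQ.le (mem_im_of_mem hy))
  refine ⟨k ∘ (fun y => t * y * t⁻¹) ∘ g, (hg.comp (map_conjBy le_rfl htS) fun y hy => hg.mem hy).comp
    hk' hconj, fun x hx => ?_, fun q hq => ?_⟩
  · show k (t * g x * t⁻¹) = av a x
    rw [hgm x hx, hmt x hx, ← hgm _ (av_mem a hx), hkg _ (Subgroup.mem_sup_left (av_mem a hx))]
  · show k (t * g q * t⁻¹) ∈ Q ∧ q⁻¹ * k (t * g q * t⁻¹) ∈ T
    have hgq : g q ∈ Q := hgQ.le (mem_im_of_mem hq)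
    have hgi : ∀ z ∈ Q, z ∈ im (P ⊔ Q) g := fun z hz => im_mono le_sup_right (hgQ.ge hz)
    have htq : t * g q * t⁻¹ ∈ Q := stronglyClosed_conj_mem hQsc htS hgq
    have hkQ : ∀ z ∈ Q, k z ∈ Q := by
      intro z hz
      obtain ⟨w, hw, rfl⟩ := (hg.restrict le_sup_right).mem_im.1 (hgQ.ge hz)
      rw [hkg w (Subgroup.mem_sup_right hw)]; exact hw
    refine ⟨hkQ _ htq, ?_⟩
    rw [show q⁻¹ * k (t * g q * t⁻¹) = k ((g q)⁻¹ * (t * g q * t⁻¹)) by
      rw [hk'.map_mul (hgi _ (Q.inv_mem hgq)) (hgi _ htq), hk'.map_inv (hgi _ hgq),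
        hkg q (Subgroup.mem_sup_right hq)]]
    refine stronglyClosed_map hT hk' (hgi _ (Q.mul_mem (Q.inv_mem hgq) htq)) ?_
    have h := T.mul_mem (stronglyClosed_conj_mem hT (S.inv_mem (hQ.1 hgq)) ht) (T.inv_mem ht)
    simpa only [inv_inv, mul_assoc] using h

/-- An element whose power prime to `p` lies in a subgroup lies there. -/
theorem mem_of_pow_prime_to (hS : IsPGroup p S) {x : Ω} (hx : x ∈ S) {n : ℕ} (hn : n.Coprime p)
    (h : x ^ n ∈ T) : x ∈ T := by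
  obtain ⟨j, hj⟩ := hS ⟨x, hx⟩
  have hj' : x ^ p ^ j = 1 := by simpa using congrArg Subtype.val hj
  have hd : (orderOf x).Coprime n :=
    Nat.Coprime.coprime_dvd_left (orderOf_dvd_of_pow_eq_one hj') ((hn.symm).pow_left j)
  obtain ⟨m, hm⟩ := exists_pow_eq_self_of_coprime hd.symm
  exact hm ▸ T.pow_mem h m

/-- The `p'`-automorphisms of `T`. -/
theorem shiftExt_of_coprime (hS : IsPGroup p S) (hE : E.IsNormalIn F p) (hQ : F.IsNormal Q)
    {δ : MulAut T} (hδ : δ ∈ E.autGroup T) (ho : (orderOf δ).Coprime p) : ShiftExt F T Q T (av δ) := by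
  obtain ⟨⟨hEs, hF, hEi⟩, -⟩ := id hE
  have hT := hEi.2.1
  haveI := finite_of_le hT.1
  haveI := mulAut_finite_of_le hT.1
  obtain ⟨β, hβ, -, hβT, hβs⟩ := exists_pPrime_ext hE hδ ho
  obtain ⟨L, hL⟩ : ∃ L, L = T ⊔ centralizerIn S T := ⟨_, rfl⟩
  have hLS : L ≤ S := hL ▸ sup_le hT.1 inf_le_left
  have hTL : T ≤ L := hL ▸ le_sup_left
  have hβm : Map F L (av β) := by subst hL; exact map_of_mem_autGroup hLS hβ
  obtain ⟨g, hg, hgβ, hgQ⟩ := (normal_iff.1 hQ).2 L _ hβm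
  have hgW : im (L ⊔ Q) g = L ⊔ Q := by
    haveI := finite_of_le (sup_le hLS hQ.1)
    refine Subgroup.eq_of_le_of_card_ge (hg.im_sup_le.trans (sup_le_sup ?_ hgQ.le)) hg.card_im.ge
    exact im_le_iff.2 fun y hy => by
      rw [hgβ y hy]; subst hL; exact av_mem β hy
  have hWS : L ⊔ Q ≤ S := sup_le hLS hQ.1
  haveI := mulAut_finite_of_le hWS
  obtain ⟨a, ha, hag⟩ := exists_aut hg hgW
  have ham := map_of_mem_autGroup hWS ha
  have hTW : T ≤ L ⊔ Q := hTL.trans le_sup_left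
  have haT : ∀ x ∈ T, av a x = av δ x := fun x hx => by
    rw [hag x (hTW hx), hgβ x (hTL hx), hβT x hx]
  have hnT : ∀ s ∈ S, ∀ x ∈ T, s * x * s⁻¹ ∈ T := fun s hs x hx => stronglyClosed_conj_mem hT hs hx
  -- the shift on `L`
  have hshift : ∀ y ∈ L, y⁻¹ * av a y ∈ T := by
    let V : Subgroup Ω :=
      { carrier := {y | y ∈ L ∧ y⁻¹ * av a y ∈ T}
        one_mem' := ⟨L.one_mem, by rw [ham.map_one, inv_one, mul_one]; exact T.one_mem⟩
        mul_mem' := by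
          rintro y z ⟨hy, hy'⟩ ⟨hz, hz'⟩
          refine ⟨L.mul_mem hy hz, ?_⟩
          rw [ham.map_mul (Subgroup.mem_sup_left hy) (Subgroup.mem_sup_left hz)]
          have h := T.mul_mem (hnT _ (S.inv_mem (hLS hz)) _ hy') hz'
          simpa only [inv_inv, mul_inv_rev, mul_assoc, mul_inv_cancel_left] using h
        inv_mem' := by
          rintro y ⟨hy, hy'⟩
          refine ⟨L.inv_mem hy, ?_⟩
          rw [ham.map_inv (Subgroup.mem_sup_left hy), inv_inv]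
          have h := hnT _ (hLS hy) _ (T.inv_mem hy')
          simpa only [mul_inv_rev, inv_inv, mul_assoc, mul_inv_cancel, mul_one] using h }
    have hLV : L ≤ V := hL.le.trans (sup_le
      (fun t ht => ⟨hTL ht, T.mul_mem (T.inv_mem ht) (haT t ht ▸ av_mem δ ht)⟩)
      fun c hc => ⟨hL ▸ Subgroup.mem_sup_right hc, by
        have hcL : c ∈ L := hL ▸ Subgroup.mem_sup_right hc
        rw [hag c (Subgroup.mem_sup_left hcL), hgβ c hcL]; exact hβs c hc⟩)
    exact fun y hy => (hLV hy).2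
  -- a power of order prime to `p`
  obtain ⟨i, r, hr, hord⟩ := Nat.exists_eq_pow_mul_and_not_dvd (orderOf_pos a).ne' p
    (Fact.out : p.Prime).ne_one
  rcases Nat.lt_or_ge 1 (orderOf δ) with hδ1 | hδ1
  swap
  · obtain rfl : δ = 1 := orderOf_eq_one_iff.1 (le_antisymm hδ1 (orderOf_pos δ))
    exact ⟨id, map_id (sup_le hT.1 hQ.1), fun x hx => (av_one hx).symm, fun q hq =>
      ⟨hq, by show q⁻¹ * q ∈ T; rw [inv_mul_cancel]; exact T.one_mem⟩⟩
  obtain ⟨k, -, hk⟩ := Nat.exists_mul_mod_eq_one_of_coprime (ho.symm.pow_left i) hδ1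
  obtain ⟨b, hbdef⟩ : ∃ b, b = a ^ (p ^ i * k) := ⟨_, rfl⟩
  have hbo : (orderOf b).Coprime p := by
    refine Nat.Coprime.coprime_dvd_left (orderOf_dvd_of_pow_eq_one (n := r) ?_)
      ((Nat.Prime.coprime_iff_not_dvd Fact.out).2 hr).symm
    rw [hbdef, ← pow_mul, mul_right_comm, ← hord, pow_mul, pow_orderOf_eq_one, one_pow]
  have hbT : ∀ x ∈ T, av b x = av δ x := fun x hx => by
    rw [hbdef, av_pow hTW haT _ x hx, ← pow_mod_orderOf, hk, pow_one]
  have hbs : ∀ y ∈ L, y⁻¹ * av b y ∈ T := by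
    rw [hbdef]
    generalize p ^ i * k = n
    induction n with
    | zero => intro y hy; rw [pow_zero, av_one (Subgroup.mem_sup_left hy), inv_mul_cancel]; exact T.one_mem
    | succ n ih =>
      intro y hy
      have h1 := ih y hy
      rw [pow_succ', av_mul _ _ (Subgroup.mem_sup_left hy),
        show av (a ^ n) y = y * (y⁻¹ * av (a ^ n) y) by group,
        ham.map_mul (Subgroup.mem_sup_left hy) (hTW h1), ← mul_assoc, haT _ h1]
      exact T.mul_mem (hshift y hy) (av_mem δ h1)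
  have hbF : b ∈ F.autGroup (L ⊔ Q) := hbdef ▸ pow_mem ha _
  have hbm := map_of_mem_autGroup hWS hbF
  have hbQ : ∀ q ∈ Q, av b q ∈ Q := fun q hq =>
    stronglyClosed_map (normal_stronglyClosed hQ) hbm (Subgroup.mem_sup_right hq) hq
  refine ⟨av b, hbm.restrict (sup_le_sup_right hTL Q), hbT, fun q hq => ⟨hbQ q hq, ?_⟩⟩
  have hqS : q ∈ S := hQ.1 hq
  have hqW : q ∈ L ⊔ Q := Subgroup.mem_sup_right hq
  obtain ⟨x, hxdef⟩ : ∃ x, x = q⁻¹ * av b q := ⟨_, rfl⟩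
  have hxQ : x ∈ Q := hxdef ▸ Q.mul_mem (Q.inv_mem hq) (hbQ q hq)
  have hxS : x ∈ S := hQ.1 hxQ
  -- `x` lies in `L`
  have hxL : x ∈ L := by
    have hnq : ∀ {s : Ω}, s ∈ S → s ∈ Subgroup.normalizer (T : Set Ω) := fun hs =>
      stronglyClosed_le_normalizer hT hs
    obtain ⟨cx, hcx, hcxS⟩ := exists_aut_conj (P := T) (hnq hxS)
    obtain ⟨cq, hcq, hcqS⟩ := exists_aut_conj (P := T) (hnq hqS)
    have hcxF : cx ∈ F.autGroup T := autInducedBy_le_autGroup hT.1 (hcxS S hxS)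
    have hcqF : cq ∈ F.autGroup T := autInducedBy_le_autGroup hT.1 (hcqS S hqS)
    have heq : cx = cq⁻¹ * δ * cq * δ⁻¹ := by
      have h1 : cq * cx * δ = δ * cq := aut_ext fun z hz => by
        rw [av_mul _ _ hz, av_mul _ _ (av_mem δ hz), hcx _ (av_mem δ hz),
          hcq _ (hnT x hxS _ (av_mem δ hz)), av_mul _ _ hz, hcq z hz, ← hbT _ (hnT q hqS z hz),
          hbm.map_conj hqW (hTW hz), hbT z hz, hxdef]
        group
      rw [mul_assoc (cq⁻¹), mul_assoc cq⁻¹, ← h1]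
      group
    have hcxE : cx ∈ E.autGroup T := by
      rw [heq]
      refine Subgroup.mul_mem _ ?_ (Subgroup.inv_mem _ hδ)
      have := conj_mem_sub hEi le_rfl (Subgroup.inv_mem _ hcqF) hδ
      rwa [inv_inv] at this
    have hcxp : IsPGroup p (Subgroup.zpowers cx) :=
      (isPGroup_autS (P := T) hS).to_le (Subgroup.zpowers_le.2 (hcxS S hxS))
    obtain ⟨c, hc, hle⟩ := (fa_iff.1 (fc_fa_of_fn (hS.to_le hT.1) hEs fn_self).2).2.conj_le hcxp
      (Subgroup.zpowers_le.2 hcxE)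
    obtain ⟨t, ht, htc⟩ := mem_autInducedBy.1 (hle (conj_mem_cj (g := c) (Subgroup.mem_zpowers _)))
    have hcm := map_of_mem_autGroup (F := E) le_rfl hc
    have hs : av c⁻¹ t ∈ T := av_mem _ ht
    have hx2 : ∀ z ∈ T, x * z * x⁻¹ = av c⁻¹ t * z * (av c⁻¹ t)⁻¹ := by
      intro z hz
      have h1 := htc _ (av_mem c hz)
      rw [av_mul _ _ (av_mem c hz), av_inv_av c hz, av_mul _ _ hz, hcx z hz] at h1
      refine hcm.injOn (hnT x hxS z hz) (T.mul_mem (T.mul_mem hs hz) (T.inv_mem hs)) ?_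
      rw [hcm.map_conj hs hz, av_av_inv c ht, h1]
    have hdC : (av c⁻¹ t)⁻¹ * x ∈ centralizerIn S T := mem_centralizerIn.2
      ⟨S.mul_mem (S.inv_mem (hT.1 hs)) hxS, fun z hz => by
        calc z * ((av c⁻¹ t)⁻¹ * x) = (av c⁻¹ t)⁻¹ * (av c⁻¹ t * z * (av c⁻¹ t)⁻¹) * x := by group
          _ = (av c⁻¹ t)⁻¹ * (x * z * x⁻¹) * x := by rw [hx2 z hz]
          _ = (av c⁻¹ t)⁻¹ * x * z := by group⟩
    rw [hL, show x = av c⁻¹ t * ((av c⁻¹ t)⁻¹ * x) by group]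
    exact Subgroup.mul_mem _ (Subgroup.mem_sup_left hs) (Subgroup.mem_sup_right hdC)
  have hxW : x ∈ L ⊔ Q := Subgroup.mem_sup_left hxL
  have key : ∀ n, ∃ t ∈ T, av (b ^ n) q = q * x ^ n * t := by
    intro n
    induction n with
    | zero => exact ⟨1, T.one_mem, by rw [pow_zero, pow_zero, av_one hqW, mul_one, mul_one]⟩
    | succ n ih =>
      obtain ⟨t, ht, he⟩ := ih
      refine ⟨((x ^ n)⁻¹ * av b (x ^ n)) * av b t,
        T.mul_mem (hbs _ (L.pow_mem hxL n)) (hbT t ht ▸ av_mem δ ht), ?_⟩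
      rw [pow_succ' b, av_mul _ _ hqW, he, hbm.map_mul ((L ⊔ Q).mul_mem hqW ((L ⊔ Q).pow_mem hxW n))
        (hTW ht), hbm.map_mul hqW ((L ⊔ Q).pow_mem hxW n), pow_succ' x]
      rw [show av b q = q * x by rw [hxdef]; group]
      group
  obtain ⟨t, ht, he⟩ := key (orderOf b)
  rw [pow_orderOf_eq_one, av_one hqW, mul_assoc, eq_comm, mul_eq_left] at he
  rw [← hxdef]
  exact mem_of_pow_prime_to hS hxS hbo (by rw [eq_inv_of_mul_eq_one_left he]; exact T.inv_mem ht)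

variable (F E) in
/-- The maps of `E` having a shifted extension. -/
def shiftSys (Q : Subgroup Ω) (hT : F.StronglyClosed T) (hQ : F.IsNormal Q) : FusionSystem T where
  Hom P := {φ | φ ∈ E.Hom P ∧ ShiftExt F T Q P (fn φ)}
  le_of_mem h := E.le_of_mem h.1
  injective_of_mem h := E.injective_of_mem h.1
  conj_mem {P t} hP ht := ⟨E.conj_mem hP ht, (shiftExt_conjBy hT hQ (hP.trans hT.1) ht).congr
    fun x hx => (fn_apply (conjHom P t) hx).symm⟩
  comp_mem {P R φ ψ} hφ hψ h := ⟨E.comp_mem hφ.1 hψ.1 h, (hφ.2.comp hψ.2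
    fun x hx => by rw [fn_apply φ hx]; exact h _).congr fun x hx => by
      show fn ψ (fn φ x) = _
      rw [fn_apply φ hx, fn_apply ψ (h _), fn_apply _ hx]; rfl⟩
  inv_mem {P φ} hφ := by
    obtain ⟨ψ, hψ, hψφ⟩ := E.inv_mem hφ.1
    haveI := finite_of_le hQ.1
    obtain ⟨g, hg, hgf, -⟩ := id hφ.2
    have hM : Map F P (fn φ) := (hg.restrict le_sup_left).congr hgf
    refine ⟨ψ, ⟨hψ, (hφ.2.inv hM (g := fn ψ) fun x hx => ?_).restrict ?_⟩, hψφ⟩
    · rw [fn_apply φ hx, fn_apply ψ ⟨⟨x, hx⟩, rfl⟩]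
      exact hψφ ⟨x, hx⟩
    · rintro _ ⟨x, rfl⟩
      exact fn_coe φ x ▸ mem_im_of_mem x.2

omit [Finite S] [Fact p.Prime] in
theorem map_shiftSys [Finite S] {hT : F.StronglyClosed T} {hQ : F.IsNormal Q} :
    Map (shiftSys F E Q hT hQ) P f ↔ Map E P f ∧ ShiftExt F T Q P f := by
  constructor
  · rintro ⟨φ, ⟨hφ, hs⟩, h⟩
    exact ⟨⟨φ, hφ, h⟩, hs.congr fun x hx => by rw [fn_apply φ hx]; exact h ⟨x, hx⟩⟩
  · rintro ⟨⟨φ, hφ, h⟩, hs⟩
    exact ⟨φ, ⟨hφ, hs.congr fun x hx => by rw [fn_apply φ hx]; exact (h ⟨x, hx⟩).symm⟩, h⟩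

/-- **Shifted extension**: maps of a normal subsystem over `T` extend over a normal subgroup `Q`,
moving its elements inside their cosets of `T`. -/
theorem exists_shift_ext (hS : IsPGroup p S) (hE : E.IsNormalIn F p) (hQ : F.IsNormal Q)
    (hf : Map E P f) : ShiftExt F T Q P f := by
  obtain ⟨⟨hEs, hF, hEi⟩, -⟩ := id hE
  have hT := hEi.2.1
  haveI := finite_of_le hT.1
  obtain ⟨α, hα, f₀, hf₀, he⟩ := fac_of_map (hS.to_le hT.1) hEs (E := shiftSys F E Q hT hQ)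
    (fun R hR => pResAut_induction fun a ha hk => mem_autGroup_of_map
      (map_shiftSys.2 ⟨map_of_mem_autGroup hR.1 ha, shiftExt_of_pElement hS hE.1 hQ hR.1 ha hk⟩)) hf
  have hαs : α ∈ (shiftSys F E Q hT hQ).autGroup T := by
    obtain ⟨β, hβ, γ, hγ, rfl⟩ := exists_autS_mul_residual (hS.to_le hT.1) hEs fn_self hα
    refine mul_mem (autInducedBy_le_autGroup le_rfl hβ) ?_
    suffices h : pResidual p ↥(E.autGroup T) ≤
        ((shiftSys F E Q hT hQ).autGroup T).subgroupOf (E.autGroup T) from h hγ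
    rw [pResidual]
    refine (Subgroup.closure_le _).2 fun δ hδ => mem_autGroup_of_map
      (map_shiftSys.2 ⟨map_of_mem_autGroup le_rfl δ.2, shiftExt_of_coprime hS hE hQ δ.2 ?_⟩)
    show (orderOf (δ : MulAut T)).Coprime p
    rw [Subgroup.orderOf_coe]; exact hδ
  exact ((map_shiftSys.1 hf₀.map).2.comp (map_shiftSys.1 (map_of_mem_autGroup le_rfl hαs)).2
    fun x hx => hf₀.map.mem hx).congr fun x hx => (he x hx).symm

end Cfsg.Agent.Local.FS
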