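import Cfsg.Agent.Lib.Local.FS.AltWreath
import Cfsg.Agent.Lib.Local.FS.AltPearl
import Cfsg.Agent.Lib.Local.FS.SimpleCentricGen
import Cfsg.Agent.Lib.Local.FS.SimpleNormalCentric
import Cfsg.Agent.Lib.Char.SymmetricSylowGen
import Cfsg.Agent.Lib.Lead.PairSylow

/-!
Simplicity of the fusion systems of alternating groups with Sylow subgroup a wreath product.
-/

set_option autoImplicit false
set_option linter.unusedSectionVars false

namespace Cfsg.Agent.Local.FS.AltSimple

open Equiv Cfsg Cfsg.Agent.Char.SymGen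

variable {p : ℕ} [Fact p.Prime] [NeZero p] {ξ ζ ι ρ α : Type*} [Fintype ξ] [DecidableEq ξ] [Fintype ζ]
  [DecidableEq ζ] [Fintype ι] [DecidableEq ι] [Fintype ρ]
  [DecidableEq ρ] [Fintype α] [DecidableEq α] (e : (ι × ZMod p) ⊕ ρ ≃ α)

theorem zmod_two_cases : ∀ a : ZMod 2, a = 0 ∨ a = 1 := by decide

theorem lft_vec (σ : Perm ι) (w : ι → ZMod p) :
    lft e σ * vec e w * (lft e σ)⁻¹ = vec e (fun i => w (σ⁻¹ i)) := by
  rw [lft, mono_vec]
  simp

theorem single_comp (σ : Perm ι) (i : ι) (a : ZMod p) :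
    (fun x => (Pi.single i a : ι → ZMod p) (σ⁻¹ x)) = Pi.single (σ i) a := by
  funext x
  rcases eq_or_ne x (σ i) with rfl | h
  · simp
  · rw [Pi.single_eq_of_ne h, Pi.single_eq_of_ne]
    exact fun h' => h (by rw [← h']; simp)

theorem sign_single (i j : ι) (a : ZMod p) :
    Perm.sign (vec e (Pi.single i a)) = Perm.sign (vec e (Pi.single j a)) := by
  have h := congrArg Perm.sign (lft_vec e (swap i j) (Pi.single i a))
  rw [single_comp, swap_apply_left, map_mul, map_mul, map_inv] at h
  rw [← h, mul_comm (Perm.sign (lft e (swap i j))), mul_inv_cancel_right]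

theorem vec_pair_even (i j : ι) (a : ZMod p) :
    vec e (Pi.single i a + Pi.single j a) ∈ alternatingGroup α := by
  rw [Perm.mem_alternatingGroup, ← vec_add, map_mul, sign_single e i j, Int.units_mul_self]

theorem sign_single_two [Subsingleton ρ] (hp : p = 2) (i : ι) :
    Perm.sign (vec e (Pi.single i (1 : ZMod p))) = -1 := by
  subst hp
  have hne : pt e (i, (0 : ZMod 2)) ≠ pt e (i, 1) := fun h => zero_ne_one (Prod.ext_iff.1 (pt_inj e h)).2
  rw [show vec e (Pi.single i (1 : ZMod 2)) = swap (pt e (i, (0 : ZMod 2))) (pt e (i, 1)) from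
    ext_sub e fun j y => by
      rw [vec, mono_pt]
      rcases eq_or_ne j i with rfl | hji
      · rcases zmod_two_cases y with rfl | rfl
        · simp
        · simp [show (1 : ZMod 2) + 1 = 0 from rfl]
      · rw [swap_apply_of_ne_of_ne (fun h => hji (Prod.ext_iff.1 (pt_inj e h)).1)
          (fun h => hji (Prod.ext_iff.1 (pt_inj e h)).1)]
        simp [hji], Perm.sign_swap hne]

theorem vec_neg (v : ι → ZMod p) : vec e (-v) = (vec e v)⁻¹ :=
  eq_inv_of_mul_eq_one_left (by rw [vec_add, neg_add_cancel, vec_zero])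

/-- The vectors whose translations lie in a subgroup. -/
def vset (H : Subgroup (Perm α)) : AddSubgroup (ι → ZMod p) where
  carrier := {v | vec e v ∈ H}
  zero_mem' := by show vec e 0 ∈ H; rw [vec_zero]; exact H.one_mem
  add_mem' {a b} ha hb := by show vec e (a + b) ∈ H; rw [← vec_add]; exact H.mul_mem ha hb
  neg_mem' {a} ha := by show vec e (-a) ∈ H; rw [vec_neg]; exact H.inv_mem ha

theorem mem_vset {H : Subgroup (Perm α)} {v : ι → ZMod p} : v ∈ vset e H ↔ vec e v ∈ H := Iff.rfl

theorem smul_mem_vset {H : Subgroup (Perm α)} {v : ι → ZMod p} (h : v ∈ vset e H) (a : ZMod p) :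
    a • v ∈ vset e H := by
  rw [show a • v = a.val • v from funext fun i => by simp]
  exact AddSubgroup.nsmul_mem _ h _

/-- The even translations are generated by those on two blocks. -/
theorem even_vec_mem [Subsingleton ρ] (hk : 3 ≤ Fintype.card ι) {H : Subgroup (Perm α)}
    (hH : ∀ i j : ι, i ≠ j → vec e (Pi.single i 1 + Pi.single j 1) ∈ H) {v : ι → ZMod p}
    (hv : vec e v ∈ alternatingGroup α) : vec e v ∈ H := by
  classical
  set D := vset e (H ⊓ alternatingGroup α) with hD
  have hp : ∀ i j : ι, i ≠ j → (Pi.single i 1 + Pi.single j 1 : ι → ZMod p) ∈ D := fun i j h =>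
    ⟨hH i j h, vec_pair_even e i j 1⟩
  obtain ⟨i₀⟩ : Nonempty ι := Fintype.card_pos_iff.1 (by omega)
  obtain ⟨a, ha, b, hb, hab⟩ : ∃ a, a ≠ i₀ ∧ ∃ b, b ≠ i₀ ∧ a ≠ b := by
    have h1 : 1 < ((Finset.univ : Finset ι).erase i₀).card := by
      rw [Finset.card_erase_of_mem (Finset.mem_univ i₀), Finset.card_univ]; omega
    obtain ⟨a, ha, b, hb, hab⟩ := Finset.one_lt_card.1 h1
    exact ⟨a, (Finset.mem_erase.1 ha).1, b, (Finset.mem_erase.1 hb).1, hab⟩
  set ε : ι → ZMod p := Pi.single i₀ 1 with hε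
  have h2 : ε + ε ∈ D := by
    have := D.sub_mem (D.add_mem (hp i₀ a ha.symm) (hp i₀ b hb.symm)) (hp a b hab)
    convert this using 1
    rw [hε]; abel
  have hsum : v + (∑ i, v i) • ε ∈ D := by
    have h : ∑ i, v i • (Pi.single i 1 + ε) ∈ D := AddSubgroup.sum_mem _ fun i _ => smul_mem_vset e (by
      rcases eq_or_ne i i₀ with rfl | h
      exacts [h2, hp i i₀ h]) _
    convert h using 1
    simp only [smul_add, Finset.sum_add_distrib, ← Finset.sum_smul]
    congr 1
    funext x
    simp [Finset.sum_apply, Pi.single_apply]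
  suffices h : (∑ i, v i) • ε ∈ D by
    have h2 := D.sub_mem hsum h
    rw [add_sub_cancel_right] at h2
    exact h2.1
  rcases eq_or_ne p 2 with h2' | h2'
  · have hc : vec e ((∑ i, v i) • ε) ∈ alternatingGroup α := by
      have h1 := (alternatingGroup α).mul_mem ((alternatingGroup α).inv_mem hv) hsum.2
      rwa [← vec_neg, vec_add, neg_add_cancel_left] at h1
    generalize ∑ i, v i = c at hc
    subst h2'
    rcases zmod_two_cases c with rfl | rfl
    · rw [zero_smul]; exact D.zero_mem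
    · rw [one_smul, Perm.mem_alternatingGroup, hε, sign_single_two e rfl] at hc
      exact absurd hc (by decide)
  · have h2z : (2 : ZMod p) ≠ 0 := by
      intro h
      have h' : ((2 : ℕ) : ZMod p) = 0 := by exact_mod_cast h
      rw [ZMod.natCast_eq_zero_iff] at h'
      exact h2' ((Nat.prime_dvd_prime_iff_eq Fact.out Nat.prime_two).1 h')
    have h1 := smul_mem_vset e (smul_mem_vset e h2 (2 : ZMod p)⁻¹) (∑ i, v i)
    convert h1 using 2
    rw [← two_smul (ZMod p) ε, smul_smul, inv_mul_cancel₀ h2z, one_smul]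

/-- Only translations centralize the translations on two blocks. -/
theorem exists_vec_of_pairs [Subsingleton ρ] (hk : 3 ≤ Fintype.card ι) {z : Perm α}
    (hz : ∀ i j : ι, i ≠ j → z * vec e (Pi.single i 1 + Pi.single j 1) =
      vec e (Pi.single i 1 + Pi.single j 1) * z) : ∃ v, z = vec e v := by
  classical
  have hb : ∀ i, ∃ b, ∀ y, z (pt e (i, y)) = pt e (i, y + b) := by
    intro i
    obtain ⟨a, ha, b, hb, hab⟩ : ∃ a, a ≠ i ∧ ∃ b, b ≠ i ∧ a ≠ b := by
      have h1 : 1 < ((Finset.univ : Finset ι).erase i).card := by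
        rw [Finset.card_erase_of_mem (Finset.mem_univ i), Finset.card_univ]; omega
      obtain ⟨a, ha, b, hb, hab⟩ := Finset.one_lt_card.1 h1
      exact ⟨a, (Finset.mem_erase.1 ha).1, b, (Finset.mem_erase.1 hb).1, hab⟩
    have hstep : ∀ j, j ≠ i → ∀ y, vec e (Pi.single i 1 + Pi.single j 1) (z (pt e (i, y))) =
        z (pt e (i, y + 1)) := by
      intro j hj y
      rw [← Perm.mul_apply, ← hz i j hj.symm, Perm.mul_apply, vec, mono_pt]
      simp [Pi.single_eq_of_ne hj.symm]
    have hne : ∀ y : ZMod p, z (pt e (i, y + 1)) ≠ z (pt e (i, y)) := fun y h => by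
      simpa using (Prod.ext_iff.1 (pt_inj e (z.injective h))).2
    obtain ⟨c, hc⟩ := e.surjective (z (pt e (i, 0)))
    rcases c with ⟨j, y₀⟩ | d
    · have hj : ∀ l, l ≠ i → j = i ∨ j = l := by
        intro l hl
        by_contra h
        push Not at h
        refine hne 0 ?_
        rw [← hstep l hl, ← hc, show e (.inl (j, y₀)) = pt e (j, y₀) from rfl, vec, mono_pt]
        simp [h.1, h.2]
      obtain rfl : j = i := by
        rcases hj a ha with h | h
        · exact h
        · rcases hj b hb with h' | h'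
          · exact h'
          · exact absurd (h.symm.trans h') hab
      refine ⟨y₀, fun y => ?_⟩
      suffices ∀ m : ℕ, z (pt e (j, (m : ZMod p))) = pt e (j, (m : ZMod p) + y₀) by simpa using this y.val
      intro m
      induction m with
      | zero => rw [Nat.cast_zero, zero_add]; exact hc.symm
      | succ m ih =>
        rw [Nat.cast_succ, ← hstep a ha, ih, vec, mono_pt]
        simp [Pi.single_eq_of_ne ha.symm, add_right_comm]
    · exact absurd (by rw [← hstep a ha, ← hc, vec, mono_inr]) (hne 0)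
  choose v hv using hb
  refine ⟨v, ext_sub e fun i y => ?_⟩
  rw [hv, vec, mono_pt]
  simp

theorem cycleType_of_pow {f : Perm α} (hf : f ^ p = 1) :
    f.cycleType = Multiset.replicate f.cycleType.card p ∧ f.support.card = f.cycleType.card * p := by
  have h : f.cycleType = Multiset.replicate f.cycleType.card p :=
    Multiset.eq_replicate_card.2 (Equiv.Perm.pow_prime_eq_one_iff.1 hf)
  refine ⟨h, ?_⟩
  rw [← Equiv.Perm.sum_cycleType]
  conv_lhs => rw [h]
  rw [Multiset.sum_replicate, smul_eq_mul]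

theorem exists_third {i j : ι} (hk : 3 ≤ Fintype.card ι) : ∃ l, l ≠ i ∧ l ≠ j := by
  classical
  have h : ((Finset.univ : Finset ι) \ {i, j}).Nonempty := by
    rw [← Finset.card_pos, Finset.card_univ_diff]
    have := Finset.card_le_two (a := i) (b := j)
    omega
  obtain ⟨l, hl⟩ := h
  exact ⟨l, by simp_all, by simp_all⟩

/-- The fusion in a strongly closed subgroup contains the even translations. -/
theorem pairs_mem [Subsingleton ρ] (hk : 3 ≤ Fintype.card ι) {P : Subgroup (Perm ι)} (hP : IsPGroup p P)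
    (hswap : p = 2 → ∃ i₀ i₁, i₀ ≠ i₁ ∧ swap i₀ i₁ ∈ P) {T : Subgroup (Perm α)}
    (hT : T ≤ W e P ⊓ alternatingGroup α) (hT1 : T ≠ ⊥)
    (hcl : ∀ x ∈ T, ∀ g ∈ alternatingGroup α, g * x * g⁻¹ ∈ W e P → g * x * g⁻¹ ∈ T) :
    ∀ i j : ι, i ≠ j → vec e (Pi.single i 1 + Pi.single j 1) ∈ T := by
  classical
  have hn : ∀ s ∈ W e P ⊓ alternatingGroup α, ∀ x ∈ T, s * x * s⁻¹ ∈ T := fun s hs x hx =>
    hcl x hx s hs.2 ((W e P).mul_mem ((W e P).mul_mem hs.1 (hT hx).1) ((W e P).inv_mem hs.1))
  obtain ⟨z, hzT, hz1, hzc⟩ :=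
    exists_central_of_normalized (p := p) ((isPGroup_W e hP).to_le inf_le_left) hT hT1 hn
  obtain ⟨v, rfl⟩ := exists_vec_of_pairs e hk (z := z) fun i j _ =>
    (hzc _ ⟨vec_mem_W e P _, vec_pair_even e i j 1⟩).symm
  have hv0 : v ≠ 0 := fun h => hz1 (by rw [h, vec_zero])
  set D := vset e T with hD
  have hvD : v ∈ D := hzT
  have hperm : ∀ w ∈ D, ∀ σ : Perm ι, lft e σ ∈ alternatingGroup α → (fun i => w (σ⁻¹ i)) ∈ D := by
    intro w hw σ hσ
    have h1 := hcl _ hw _ hσ (by rw [lft_vec]; exact vec_mem_W e P _)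
    rw [lft_vec] at h1
    exact h1
  rcases eq_or_ne p 2 with h2 | h2
  · subst h2
    have hval := zmod_two_cases
    have hlft : ∀ σ : Perm ι, lft e σ ∈ alternatingGroup α := fun σ => by
      rw [Perm.mem_alternatingGroup, sign_lft, Int.units_sq]
    have hmix : ∀ w ∈ D, ∀ a b, w a = 1 → w b = 0 → ∀ i j : ι, i ≠ j →
        (Pi.single i 1 + Pi.single j 1 : ι → ZMod 2) ∈ D := by
      intro w hw a b ha hb i j hij
      have hab : a ≠ b := fun h => by rw [h, hb] at ha; exact zero_ne_one ha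
      have h1 : (Pi.single a 1 + Pi.single b 1 : ι → ZMod 2) ∈ D := by
        convert D.add_mem hw (hperm w hw (swap a b) (hlft _)) using 1
        funext x
        rcases eq_or_ne x a with rfl | hxa
        · simp [hab, ha, hb]
        rcases eq_or_ne x b with rfl | hxb
        · simp [hab.symm, ha, hb]
        simp [hxa, hxb, swap_apply_of_ne_of_ne, CharTwo.add_self_eq_zero]
      set σ : Perm ι := swap (swap a i b) j * swap a i
      have hσa : σ a = i := by
        show swap (swap a i b) j (swap a i a) = i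
        rw [swap_apply_left, swap_apply_of_ne_of_ne ?_ hij]
        intro h
        exact hab ((swap a i).injective (by rw [swap_apply_left]; exact h))
      have hσb : σ b = j := swap_apply_left _ _
      have h2 := hperm _ h1 σ (hlft _)
      convert h2 using 1
      funext x
      rw [Pi.add_apply, Pi.add_apply, ← hσa, ← hσb, ← single_comp, ← single_comp]
    intro i j hij
    obtain ⟨a, ha⟩ := Function.ne_iff.1 hv0
    have ha1 : v a = 1 := (hval _).resolve_left ha
    by_cases hall : ∃ b, v b = 0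
    · obtain ⟨b, hb⟩ := hall
      exact hmix v hvD a b ha1 hb i j hij
    push Not at hall
    have hv : ∀ x, v x = 1 := fun x => (hval _).resolve_left (hall x)
    obtain ⟨i₀, i₁, h01, hsw⟩ := hswap rfl
    obtain ⟨i₂, h20, h21⟩ := exists_third (i := i₀) (j := i₁) hk
    -- fuse the central involution with one permuting two blocks
    set g : Perm α := swap (pt e (i₀, (1 : ZMod 2))) (pt e (i₁, 0)) with hgdef
    set t : Perm α := mono e (swap i₀ i₁) 1 (fun x => if x = i₀ ∨ x = i₁ then 0 else 1) with htdef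
    have hne : ∀ {x x' : ι} {y y' : ZMod 2}, ¬(x = x' ∧ y = y') → pt e (x, y) ≠ pt e (x', y') :=
      fun h h' => h (Prod.ext_iff.1 (pt_inj e h'))
    have hgg : g * g = 1 := swap_mul_self _ _
    have hgz : g * vec e v * g⁻¹ = t := by
      rw [mul_inv_eq_iff_eq_mul]
      refine ext_sub e fun x y => ?_
      simp only [Perm.mul_apply, vec, mono_pt, Perm.coe_one, id_eq, Pi.one_apply, Units.val_one, one_mul, hv]
      rcases eq_or_ne x i₀ with rfl | hx0
      · rcases hval y with rfl | rfl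
        · rw [zero_add, hgdef, swap_apply_left, swap_apply_of_ne_of_ne (hne (by simp)) (hne (by simp [h01])),
            htdef, mono_pt]
          simp
        · rw [show (1 : ZMod 2) + 1 = 0 from rfl, hgdef,
            swap_apply_of_ne_of_ne (hne (by simp)) (hne (by simp [h01])), swap_apply_left, htdef, mono_pt]
          simp
      rcases eq_or_ne x i₁ with rfl | hx1
      · rcases hval y with rfl | rfl
        · rw [zero_add, hgdef, swap_apply_of_ne_of_ne (hne (by simp [h01.symm])) (hne (by simp)),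
            swap_apply_right, htdef, mono_pt]
          simp
        · rw [show (1 : ZMod 2) + 1 = 0 from rfl, hgdef, swap_apply_right,
            swap_apply_of_ne_of_ne (hne (by simp [h01.symm])) (hne (by simp)), htdef, mono_pt]
          simp
      rw [hgdef, swap_apply_of_ne_of_ne (hne (by simp [hx0])) (hne (by simp [hx1])),
        swap_apply_of_ne_of_ne (hne (by simp [hx0])) (hne (by simp [hx1])), htdef, mono_pt,
        swap_apply_of_ne_of_ne hx0 hx1]
      simp [hx0, hx1]
    set g' : Perm α := g * vec e (Pi.single i₂ (1 : ZMod 2))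
    have hg' : g' ∈ alternatingGroup α := by
      rw [Perm.mem_alternatingGroup, map_mul, sign_single_two e rfl, hgdef,
        Perm.sign_swap (hne (by simp [h01]))]
      decide
    have hg'z : g' * vec e v * g'⁻¹ = t := by
      rw [← hgz]
      show g * _ * _ * _ = _
      rw [mul_assoc g, vec_add, add_comm, ← vec_add, mul_inv_rev, ← mul_assoc g]
      group
    have htW : t ∈ W e P := ⟨_, hsw, _, rfl⟩
    have htT : t ∈ T := by
      rw [← hg'z]
      exact hcl _ hzT _ hg' (hg'z ▸ htW)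
    set w : ι → ZMod 2 := Pi.single i₀ 1 + Pi.single i₂ 1
    have hs : vec e w ∈ W e P ⊓ alternatingGroup α := ⟨vec_mem_W e P _, vec_pair_even e i₀ i₂ 1⟩
    have h1 : vec e w * t * (vec e w)⁻¹ * t⁻¹ ∈ T := T.mul_mem (hn _ hs _ htT) (T.inv_mem htT)
    rw [mul_assoc, mul_assoc, ← vec_neg, ← mul_assoc t, htdef, mono_vec, vec_add] at h1
    refine hmix _ h1 i₀ i₂ ?_ ?_ i j hij
    · simp [w, h01, h01.symm, h20, h20.symm, h21.symm]
    · simp [w, h01, h20, h21, swap_apply_of_ne_of_ne, CharTwo.add_self_eq_zero]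
  · have hodd := (Fact.out : p.Prime).odd_of_ne_two h2
    have h2z : (2 : ZMod p) ≠ 0 := by
      intro h
      have h' : ((2 : ℕ) : ZMod p) = 0 := by exact_mod_cast h
      rw [ZMod.natCast_eq_zero_iff] at h'
      exact h2 ((Nat.prime_dvd_prime_iff_eq Fact.out Nat.prime_two).1 h')
    obtain ⟨a, ha⟩ := Function.ne_iff.1 hv0
    -- isolate one coordinate
    have hscl : ∀ x y : ι, x ≠ y → ∀ w ∈ D,
        (fun i => (if i = x ∨ i = y then -1 else 1) * w i) ∈ D := by
      intro x y hxy w hw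
      set d : Perm α := sclHom e (Pi.mulSingle x (-1 : (ZMod p)ˣ) * Pi.mulSingle y (-1)) with hd
      have hd' : d * vec e w * d⁻¹ = vec e (fun i => (if i = x ∨ i = y then -1 else 1) * w i) := by
        rw [hd]
        show mono e 1 _ 0 * _ * _ = _
        rw [show (sclHom e (Pi.mulSingle x (-1 : (ZMod p)ˣ) * Pi.mulSingle y (-1)))⁻¹ =
          (mono e 1 (Pi.mulSingle x (-1 : (ZMod p)ˣ) * Pi.mulSingle y (-1)) 0)⁻¹ from rfl, mono_vec]
        congr 1
        funext i
        rcases eq_or_ne i x with rfl | hix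
        · simp [hxy]
        rcases eq_or_ne i y with rfl | hiy
        · simp [hxy.symm]
        simp [hix, hiy]
      have hs : ∀ i j : ι, Perm.sign (sclHom e (Pi.mulSingle i (-1 : (ZMod p)ˣ))) =
          Perm.sign (sclHom e (Pi.mulSingle j (-1 : (ZMod p)ˣ))) := by
        intro i j
        have h := congrArg Perm.sign (show lft e (swap i j) * sclHom e (Pi.mulSingle i (-1 : (ZMod p)ˣ)) =
            sclHom e (Pi.mulSingle j (-1 : (ZMod p)ˣ)) * lft e (swap i j) by
          show mono e _ 1 0 * mono e 1 _ 0 = mono e 1 _ 0 * mono e _ 1 0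
          rw [mono_mul, mono_mul]
          congr 1
          · funext k
            rcases eq_or_ne k i with rfl | hki
            · simp
            rcases eq_or_ne k j with rfl | hkj
            · simp [Pi.mulSingle_apply, hki, hki.symm, swap_apply_right]
            simp [Pi.mulSingle_apply, hki, hkj, swap_apply_of_ne_of_ne]
          · funext k
            simp)
        rw [map_mul, map_mul, mul_comm] at h
        exact mul_right_cancel h
      have hdA : d ∈ alternatingGroup α := by
        rw [Perm.mem_alternatingGroup, hd, map_mul, map_mul, hs x y, Int.units_mul_self]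
      have h1 := hcl _ hw _ hdA (by rw [hd']; exact vec_mem_W e P _)
      rw [hd'] at h1
      exact h1
    obtain ⟨b, hba, -⟩ := exists_third (i := a) (j := a) hk
    obtain ⟨c, hca, hcb⟩ := exists_third (i := a) (j := b) hk
    have h1 := D.sub_mem hvD (hscl a b hba.symm v hvD)
    have h3 := D.add_mem h1 (hscl b c hcb.symm _ h1)
    have h4 : (Pi.single a (4 * v a) : ι → ZMod p) ∈ D := by
      convert D.add_mem h3 (D.zero_mem) using 1
      funext x
      rcases eq_or_ne x a with rfl | hxa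
      · simp [hba.symm, hca.symm]; ring
      rcases eq_or_ne x b with rfl | hxb
      · simp [hba, hcb.symm]
      rcases eq_or_ne x c with rfl | hxc
      · simp [hca, hcb]
      simp [hxa, hxb, hxc]
    have h4z : (4 : ZMod p) * v a ≠ 0 := by
      rw [show (4 : ZMod p) = 2 * 2 by norm_num]
      exact mul_ne_zero (mul_ne_zero h2z h2z) ha
    have hone : ∀ i, (Pi.single i 1 : ι → ZMod p) ∈ D := by
      have ha1 : (Pi.single a 1 : ι → ZMod p) ∈ D := by
        have := smul_mem_vset e h4 (4 * v a)⁻¹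
        rwa [← Pi.single_smul, smul_eq_mul, inv_mul_cancel₀ h4z] at this
      intro i
      rcases eq_or_ne i a with rfl | hia
      · exact ha1
      obtain ⟨l, hla, hli⟩ := exists_third (i := a) (j := i) hk
      have := hperm _ ha1 (swap a i * swap i l) (by
        rw [Perm.mem_alternatingGroup, sign_lft, map_mul, Perm.sign_swap hia.symm,
          Perm.sign_swap hli.symm, Int.units_mul_self, one_pow])
      rwa [single_comp, Perm.mul_apply, swap_apply_of_ne_of_ne hia.symm hla.symm, swap_apply_left] at this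
    exact fun i j _ => D.add_mem (hone i) (hone j)

theorem decomp_W {P : Subgroup (Perm ι)} {x : Perm α} (hx : x ∈ W e P) :
    ∃ σ ∈ P, ∃ v, x = lft e σ * vec e v := by
  obtain ⟨σ, hσ, v, rfl⟩ := hx
  exact ⟨σ, hσ, v, by rw [mono_decomp, map_one, mul_one]⟩

/-- There is no proper strongly closed subgroup. -/
theorem closed_eq [Subsingleton ρ] (hk : 3 ≤ Fintype.card ι) {P : Subgroup (Perm ι)} (hP : IsPGroup p P)
    (hgen : GenP p P) (hρ : Fintype.card ρ < p)
    (hswap : p = 2 → ∃ i₀ i₁, i₀ ≠ i₁ ∧ swap i₀ i₁ ∈ P) {T : Subgroup (Perm α)}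
    (hT : T ≤ W e P ⊓ alternatingGroup α) (hT1 : T ≠ ⊥)
    (hcl : ∀ x ∈ T, ∀ g ∈ alternatingGroup α, g * x * g⁻¹ ∈ W e P → g * x * g⁻¹ ∈ T) :
    W e P ⊓ alternatingGroup α ≤ T := by
  classical
  have hvec : ∀ v, vec e v ∈ alternatingGroup α → vec e v ∈ T := fun v hv =>
    even_vec_mem e hk (pairs_mem e hk hP hswap hT hT1 hcl) hv
  have hord : ∀ x ∈ W e P ⊓ alternatingGroup α, x ^ p = 1 → x ∈ T := by
    intro x hx hxp
    obtain ⟨hct, hsupp⟩ := cycleType_of_pow hxp
    have hcard : x.cycleType.card ≤ Fintype.card ι := by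
      have h1 : x.support.card ≤ Fintype.card α := Finset.card_le_univ _
      rw [hsupp, ← Fintype.card_congr e, Fintype.card_sum, Fintype.card_prod, ZMod.card] at h1
      by_contra h
      have : (Fintype.card ι + 1) * p ≤ x.cycleType.card * p := Nat.mul_le_mul_right p (by omega)
      rw [add_mul, one_mul] at this
      omega
    obtain ⟨s, -, hs⟩ := Finset.exists_subset_card_eq (s := (Finset.univ : Finset ι)) (n := x.cycleType.card)
      (by rwa [Finset.card_univ])
    set w : ι → ZMod p := fun i => if i ∈ s then 1 else 0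
    have hsw : (vec e w).support = (s ×ˢ (Finset.univ : Finset (ZMod p))).map ⟨pt e, fun _ _ => pt_inj e⟩ := by
      ext c
      obtain ⟨c, rfl⟩ := e.surjective c
      rcases c with ⟨i, y⟩ | d
      · rw [Perm.mem_support, show e (.inl (i, y)) = pt e (i, y) from rfl, vec, mono_pt]
        have hmap : pt e (i, y) ∈ (s ×ˢ (Finset.univ : Finset (ZMod p))).map ⟨pt e, fun _ _ => pt_inj e⟩ ↔
            i ∈ s := by
          rw [show pt e (i, y) = (⟨pt e, fun _ _ => pt_inj e⟩ : ι × ZMod p ↪ α) (i, y) from rfl,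
            Finset.mem_map', Finset.mem_product]
          simp
        rw [hmap]
        by_cases hi : i ∈ s
        · simp [w, hi, pt]
        · simp [w, hi]
      · rw [Perm.mem_support, vec, mono_inr]
        simp only [ne_eq, not_true_eq_false, false_iff, Finset.mem_map, not_exists, not_and]
        intro z _ h
        exact absurd (e.injective h) Sum.inl_ne_inr
    have hwp := vec_pow_p e w
    obtain ⟨hct', hsupp'⟩ := cycleType_of_pow hwp
    rw [hsw, Finset.card_map, Finset.card_product, hs, Finset.card_univ, ZMod.card] at hsupp'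
    have heq : (vec e w).cycleType = x.cycleType := by
      rw [hct, hct', Nat.eq_of_mul_eq_mul_right (Fact.out : p.Prime).pos hsupp']
    obtain ⟨g, hg⟩ := _root_.isConj_iff.1 (Equiv.Perm.isConj_iff_cycleType_eq.2 heq)
    have hwA : vec e w ∈ alternatingGroup α := by
      have h : x ∈ alternatingGroup α := hx.2
      rw [Perm.mem_alternatingGroup] at h ⊢
      rw [← h, ← hg, map_mul, map_mul, map_inv, mul_comm (Perm.sign g), mul_inv_cancel_right]
    obtain ⟨t, ht, hts⟩ : ∃ t : Perm α, t * vec e w = vec e w * t ∧ Perm.sign t = -1 := by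
      rcases eq_or_ne p 2 with h2 | h2
      · obtain ⟨i₀⟩ : Nonempty ι := Fintype.card_pos_iff.1 (by omega)
        exact ⟨_, by rw [vec_add, add_comm, ← vec_add], sign_single_two e h2 i₀⟩
      · obtain ⟨a, b, hab, hwab⟩ := Fintype.exists_ne_map_eq_of_card_lt
          (fun i => decide (i ∈ s)) (by rw [Fintype.card_bool]; omega)
        refine ⟨lft e (swap a b), ?_, ?_⟩
        · rw [← mul_inv_eq_iff_eq_mul, lft_vec]
          congr 1
          funext i
          have hwab' : w a = w b := by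
            rw [decide_eq_decide] at hwab
            by_cases ha : a ∈ s
            · simp [w, ha, hwab.1 ha]
            · simp [w, ha, mt hwab.2 ha]
          rcases eq_or_ne i a with rfl | hia
          · simp [hwab']
          rcases eq_or_ne i b with rfl | hib
          · simp [hwab']
          simp [swap_apply_of_ne_of_ne hia hib]
        · rw [sign_lft, Perm.sign_swap hab, ((Fact.out : p.Prime).odd_of_ne_two h2).neg_one_pow]
    obtain ⟨g', hg'A, hg'⟩ : ∃ g' ∈ alternatingGroup α, g' * vec e w * g'⁻¹ = x := by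
      rcases Int.units_eq_one_or (Perm.sign g) with h | h
      · exact ⟨g, Perm.mem_alternatingGroup.2 h, hg⟩
      · refine ⟨g * t, Perm.mem_alternatingGroup.2 (by rw [map_mul, h, hts]; rfl), ?_⟩
        rw [mul_assoc g t, ht, mul_inv_rev, ← hg]
        group
    rw [← hg']
    exact hcl _ (hvec w hwA) g' hg'A (hg' ▸ hx.1)
  intro x hx
  obtain ⟨σ, hσ, v, rfl⟩ := decomp_W e hx.1
  have hlA : ∀ τ ∈ P, lft e τ ∈ alternatingGroup α := by
    intro τ hτ
    rcases eq_or_ne p 2 with h2 | h2
    · subst h2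
      rw [Perm.mem_alternatingGroup, sign_lft, Int.units_sq]
    · exact W_even e h2 hP (lft_mem_W e hτ)
  have hvA : vec e v ∈ alternatingGroup α := by
    have := (alternatingGroup α).mul_mem ((alternatingGroup α).inv_mem (hlA σ hσ)) hx.2
    rwa [inv_mul_cancel_left] at this
  refine T.mul_mem ?_ (hvec v hvA)
  have h1 : σ ∈ T.comap (lftHom e) := by
    refine (Subgroup.closure_le _).2 ?_ (hgen hσ)
    rintro τ ⟨hτ, hτp⟩
    exact hord _ ⟨lft_mem_W e hτ, hlA τ hτ⟩ ((map_pow (lftHom e) τ p).symm.trans (by rw [hτp, map_one]))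
  exact h1

/-- The translation subgroup. -/
def Evec : Subgroup (Perm α) where
  carrier := Set.range (vec e)
  one_mem' := ⟨0, vec_zero e⟩
  mul_mem' := by rintro _ _ ⟨v, rfl⟩ ⟨w, rfl⟩; exact ⟨v + w, (vec_add e v w).symm⟩
  inv_mem' := by rintro _ ⟨v, rfl⟩; exact ⟨-v, vec_neg e v⟩

theorem mono_norm_Evec (σ : Perm ι) (l : ι → (ZMod p)ˣ) (v : ι → ZMod p) :
    mono e σ l v ∈ Subgroup.normalizer (Evec e : Set (Perm α)) :=
  Subgroup.mem_normalizer_fintype (by rintro _ ⟨w, rfl⟩; exact ⟨_, (mono_vec e σ l v w).symm⟩)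

/-- Elements allowed as automizer generators, for subgroups of the symmetric group. -/
def GenA (Wd : Subgroup (Perm α)) (h : Perm α) : Prop :=
  h ∈ Subgroup.normalizer (Wd : Set (Perm α)) ∧ ∃ R : Subgroup (Perm α), R ≤ Wd ∧
    (∀ x ∈ alternatingGroup α, (∀ r ∈ R, r ∈ alternatingGroup α → r * x = x * r) → x ∈ R) ∧
    h ∈ Subgroup.closure {k | k ∈ alternatingGroup α ∧ k ∈ Subgroup.normalizer (R : Set (Perm α)) ∧
      ∃ m ∈ alternatingGroup α, m ∈ Subgroup.normalizer (R : Set (Perm α)) ∧ m * k * m⁻¹ ∈ Wd}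

theorem genA_transfer {Wd : Subgroup (Perm α)} {g : alternatingGroup α}
    (h : (g : Perm α) ∈ Subgroup.closure {h | GenA Wd h}) :
    g ∈ Subgroup.closure {h | IsCentricGenerator (Wd.subgroupOf (alternatingGroup α)) h} := by
  set A := alternatingGroup α
  suffices hsub : {h | GenA Wd h} ⊆ A.subtype '' {h | IsCentricGenerator (Wd.subgroupOf A) h} by
    have h1 := Subgroup.closure_mono hsub h
    rw [← MonoidHom.map_closure] at h1
    obtain ⟨x, hx, hxg⟩ := h1
    rwa [← A.subtype_injective hxg]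
  have hN : ∀ (H : Subgroup (Perm α)) (x : A), (x : Perm α) ∈ Subgroup.normalizer (H : Set (Perm α)) →
      x ∈ Subgroup.normalizer ((H.subgroupOf A : Subgroup A) : Set A) := by
    intro H x hx
    refine Subgroup.mem_normalizer_fintype fun y hy => ?_
    exact (Subgroup.mem_normalizer_iff.1 hx _).1 hy
  intro x hx
  obtain ⟨hxn, R, hRW, hRc, hxcl⟩ := hx
  have hxA : x ∈ A := (Subgroup.closure_le _).2 (fun k hk => hk.1) hxcl
  refine ⟨⟨x, hxA⟩, ⟨hN Wd _ hxn, R.subgroupOf A, fun y hy => hRW hy, ?_, ?_⟩, rfl⟩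
  · intro y hy
    refine hRc _ y.2 fun r hr hr' => ?_
    exact congrArg Subtype.val (Subgroup.mem_centralizer_iff.1 hy ⟨r, hr'⟩ hr)
  · have h2 : x ∈ Subgroup.closure (A.subtype '' {k : A | k ∈ Subgroup.normalizer ((R.subgroupOf A : Subgroup A) : Set A) ∧
        ∃ m ∈ Subgroup.normalizer ((R.subgroupOf A : Subgroup A) : Set A), m * k * m⁻¹ ∈ Wd.subgroupOf A}) := by
      refine Subgroup.closure_mono ?_ hxcl
      rintro k ⟨hkA, hkn, m, hmA, hmn, hmk⟩
      exact ⟨⟨k, hkA⟩, ⟨hN R _ hkn, ⟨m, hmA⟩, hN R _ hmn, hmk⟩, rfl⟩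
    rw [← MonoidHom.map_closure] at h2
    obtain ⟨y, hy, hyx⟩ := h2
    rwa [show (⟨x, hxA⟩ : A) = y from A.subtype_injective hyx.symm]

/-- `p`-elements of the normalizer of a normalized subgroup conjugate into the Sylow subgroup. -/
theorem exists_conj_W {Wd : Subgroup (Perm α)} (S : Sylow p (alternatingGroup α))
    (hS : (S : Subgroup (alternatingGroup α)) = Wd.subgroupOf (alternatingGroup α)) {R : Subgroup (Perm α)}
    (hRA : R ≤ alternatingGroup α)
    (hR : Wd ≤ Subgroup.normalizer (R : Set (Perm α))) {k : Perm α} (hkA : k ∈ alternatingGroup α)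
    (hk : k ∈ Subgroup.normalizer (R : Set (Perm α))) {j : ℕ} (hj : k ^ p ^ j = 1) :
    ∃ m ∈ alternatingGroup α, m ∈ Subgroup.normalizer (R : Set (Perm α)) ∧ m * k * m⁻¹ ∈ Wd := by
  have hiff : ∀ x : alternatingGroup α, x ∈ Subgroup.normalizer ((R.subgroupOf (alternatingGroup α) : Subgroup (alternatingGroup α)) : Set (alternatingGroup α)) ↔
      (x : Perm α) ∈ Subgroup.normalizer (R : Set (Perm α)) := by
    intro x
    constructor
    · intro hx
      refine Subgroup.mem_normalizer_fintype fun y hy => ?_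
      exact (Subgroup.mem_normalizer_iff.1 hx ⟨y, hRA hy⟩).1 hy
    · intro hx
      refine Subgroup.mem_normalizer_fintype fun y hy => ?_
      exact (Subgroup.mem_normalizer_iff.1 hx _).1 hy
  obtain ⟨m, hm, hmk⟩ := conj_into_sylow S (R := R.subgroupOf (alternatingGroup α)) (fun s hs => (hiff s).2 (hR (by rw [hS] at hs; exact hs)))
    ((hiff ⟨k, hkA⟩).2 hk) (e := j) (Subtype.ext hj)
  rw [hS] at hmk
  exact ⟨m, m.2, (hiff m).1 hm, hmk⟩

theorem three_le_of_odd (hp : p ≠ 2) : 3 ≤ p := by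
  have := (Fact.out : p.Prime).two_le
  omega

/-- The alternating group is generated by elements of order `p`, for `p` at most the degree. -/
theorem alternating_le_closure (hp : p ≠ 2) (hk : p ≤ Fintype.card ι) :
    alternatingGroup ι ≤ Subgroup.closure {σ : Perm ι | σ ^ p = 1} := by
  classical
  have hp3 := three_le_of_odd hp
  haveI hn : (Subgroup.closure {σ : Perm ι | σ ^ p = 1}).Normal :=
    ⟨fun x hx g => by
      have h1 := Subgroup.mem_map_of_mem (MulAut.conj g).toMonoidHom hx
      rw [MonoidHom.map_closure] at h1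
      refine Subgroup.closure_mono ?_ h1
      rintro _ ⟨σ, hσ, rfl⟩
      show MulAut.conj g σ ^ p = 1
      rw [← map_pow, show σ ^ p = 1 from hσ, map_one]⟩
  rcases Nat.lt_or_ge (Fintype.card ι) 5 with h5 | h5
  · have h3 : p = 3 := by
      have : p ≠ 4 := by rintro rfl; exact absurd (Fact.out : Nat.Prime 4) (by decide)
      omega
    rw [← Equiv.Perm.closure_three_cycles_eq_alternating]
    refine Subgroup.closure_mono fun σ (hσ : σ.IsThreeCycle) => ?_
    show σ ^ p = 1
    rw [h3, ← hσ.orderOf, pow_orderOf_eq_one]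
  · refine Equiv.Perm.alternatingGroup_le_of_normal (by rw [Nat.card_eq_fintype_card]; exact h5)
      ((Subgroup.nontrivial_iff_ne_bot _).2 fun h => ?_)
    obtain ⟨σ, hσ⟩ := exists_prime_orderOf_dvd_card (G := Perm ι) p (by
      rw [Fintype.card_perm]; exact Nat.dvd_factorial (Fact.out : p.Prime).pos hk)
    have h1 : σ ∈ Subgroup.closure {σ : Perm ι | σ ^ p = 1} :=
      Subgroup.subset_closure (show σ ^ p = 1 by rw [← hσ, pow_orderOf_eq_one])
    rw [h, Subgroup.mem_bot] at h1
    rw [h1, orderOf_one] at hσ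
    omega

/-- The automizer of the wreath Sylow subgroup is generated by allowed elements. -/
theorem normalizer_gen [Subsingleton ρ] (hp : p ≠ 2) (hk : 3 ≤ Fintype.card ι) (hkp : p ≤ Fintype.card ι)
    {P : Subgroup (Perm ι)} (hP : IsPGroup p P) (S : Sylow p (alternatingGroup α))
    (hS : (S : Subgroup (alternatingGroup α)) = (W e P).subgroupOf (alternatingGroup α))
    (hscale : ∀ c : (ZMod p)ˣ, ∃ h, h ∈ alternatingGroup α ∧ GenA (W e P) h ∧
      ∃ σ l v, h = mono e σ l v ∧ ∏ i, l i = c)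
    {g : Perm α} (hgA : g ∈ alternatingGroup α)
    (hgn : g ∈ Subgroup.normalizer (W e P : Set (Perm α))) :
    g ∈ Subgroup.closure {h | GenA (W e P) h} := by
  classical
  have hEW : Evec e ≤ W e P := by rintro _ ⟨v, rfl⟩; exact vec_mem_W e P v
  have hWA := W_even e hp hP
  have hWn : W e P ≤ Subgroup.normalizer (Evec e : Set (Perm α)) := by
    rintro _ ⟨σ, -, v, rfl⟩; exact mono_norm_Evec e σ 1 v
  set K := Subgroup.closure {k : Perm α | k ∈ alternatingGroup α ∧
    k ∈ Subgroup.normalizer (Evec e : Set (Perm α)) ∧ ∃ j, k ^ p ^ j = 1} with hK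
  have hKA : K ≤ alternatingGroup α := (Subgroup.closure_le _).2 fun k hk => hk.1
  have hKgen : ∀ h ∈ K, h ∈ Subgroup.normalizer (W e P : Set (Perm α)) → GenA (W e P) h := by
    intro h hh hhn
    refine ⟨hhn, Evec e, hEW, fun x hx hc => ?_, Subgroup.closure_mono ?_ hh⟩
    · obtain ⟨v, rfl⟩ := exists_vec_of_pairs e hk (z := x) fun i j _ =>
        (hc _ ⟨_, rfl⟩ (vec_pair_even e i j 1)).symm
      exact ⟨v, rfl⟩
    · rintro k ⟨hkA, hkn, j, hj⟩
      exact ⟨hkA, hkn, exists_conj_W S hS (fun x hx => hWA (hEW hx)) hWn hkA hkn hj⟩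
  have hpel : ∀ k : Perm α, k ∈ Subgroup.normalizer (Evec e : Set (Perm α)) → k ^ p = 1 → k ∈ K :=
    fun k hkn hk => Subgroup.subset_closure ⟨Perm.mem_alternatingGroup.2
      (sign_of_odd ((Fact.out : p.Prime).odd_of_ne_two hp) hk), hkn, 1, by rw [pow_one, hk]⟩
  have hvec : ∀ v, vec e v ∈ K := fun v => hpel _ (mono_norm_Evec e 1 1 v) (vec_pow_p e v)
  have hlft : ∀ σ ∈ alternatingGroup ι, lft e σ ∈ K := by
    refine fun σ hσ => (Subgroup.closure_le (K.comap (lftHom e))).2 ?_ (alternating_le_closure hp hkp hσ)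
    intro τ hτ
    exact hpel _ (mono_norm_Evec e τ 1 0) ((map_pow (lftHom e) τ p).symm.trans
      (by rw [show τ ^ p = 1 from hτ, map_one]))
  have hKconj : ∀ d ∈ Subgroup.normalizer (Evec e : Set (Perm α)), ∀ x ∈ K, d * x * d⁻¹ ∈ K := by
    intro d hd x hx
    have h1 := Subgroup.mem_map_of_mem (MulAut.conj d).toMonoidHom hx
    rw [hK, MonoidHom.map_closure] at h1
    refine Subgroup.closure_mono ?_ h1
    rintro _ ⟨k, ⟨hkA, hkn, j, hj⟩, rfl⟩
    refine ⟨(inferInstance : (alternatingGroup α).Normal).conj_mem k hkA d,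
      mul_mem (mul_mem hd hkn) (inv_mem hd), j, ?_⟩
    show MulAut.conj d k ^ p ^ j = 1
    rw [← map_pow, hj, map_one]
  have hscl2 : ∀ (i j : ι) (u : (ZMod p)ˣ), i ≠ j →
      sclHom e (Pi.mulSingle i u * Pi.mulSingle j u⁻¹) ∈ K := by
    intro i j u hij
    obtain ⟨l, hli, hlj⟩ := exists_third (i := i) (j := j) hk
    set c : Perm ι := swap i j * swap j l
    have hc : c ∈ alternatingGroup ι := by
      rw [Perm.mem_alternatingGroup, map_mul, Perm.sign_swap hij, Perm.sign_swap hlj.symm, Int.units_mul_self]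
    have hci : c i = j := by
      show swap i j (swap j l i) = j
      rw [swap_apply_of_ne_of_ne hij hli.symm, swap_apply_left]
    have h1 := K.mul_mem (hKconj (sclHom e (Pi.mulSingle i u)) (mono_norm_Evec e _ _ _) _ (hlft c hc))
      (K.inv_mem (hlft c hc))
    convert h1 using 1
    have hperm : lft e c * sclHom e (Pi.mulSingle i u)⁻¹ * (lft e c)⁻¹ = sclHom e (Pi.mulSingle j u⁻¹) := by
      rw [mul_inv_eq_iff_eq_mul]
      show mono e c 1 0 * mono e 1 _ 0 = mono e 1 _ 0 * mono e c 1 0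
      rw [mono_mul, mono_mul]
      congr 1
      · funext x
        rcases eq_or_ne x i with rfl | hxi
        · simp [hci]
        · have : c x ≠ j := fun h => hxi (c.injective (h.trans hci.symm))
          simp [hxi, this]
      · funext x; simp
    rw [map_mul, ← hperm, map_inv]
    group
  have hscl : ∀ l : ι → (ZMod p)ˣ, ∏ i, l i = 1 → sclHom e l ∈ K := by
    intro l hl
    obtain ⟨i₀⟩ : Nonempty ι := Fintype.card_pos_iff.1 (by omega)
    have h : l = ∏ i, Pi.mulSingle i (l i) * Pi.mulSingle i₀ (l i)⁻¹ := by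
      funext x
      rw [Finset.prod_apply]
      simp only [Pi.mul_apply, Finset.prod_mul_distrib]
      rcases eq_or_ne x i₀ with rfl | hx
      · simp [Pi.mulSingle_apply, Finset.prod_inv_distrib, hl]
      · simp [Pi.mulSingle_apply, hx]
    rw [h]
    refine (K.comap (sclHom e)).prod_mem fun i _ => ?_
    rcases eq_or_ne i i₀ with rfl | hi
    · rw [← Pi.mulSingle_mul, mul_inv_cancel, Pi.mulSingle_one]
      exact Subgroup.one_mem _
    · exact hscl2 i i₀ (l i) hi
  have hone : ∀ σ l v, mono e σ l v ∈ alternatingGroup α → (∏ i, l i = 1) → mono e σ l v ∈ K := by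
    intro σ l v hA hl
    rw [mono_decomp] at hA ⊢
    have h1 := K.mul_mem (hvec v) (hscl l hl)
    refine K.mul_mem (hlft σ ?_) h1
    have h2 : Perm.sign (lft e σ) = 1 := by
      have h3 := Perm.mem_alternatingGroup.1 hA
      rwa [map_mul, Perm.mem_alternatingGroup.1 (hKA h1), mul_one] at h3
    rw [sign_lft] at h2
    rw [Perm.mem_alternatingGroup]
    rcases Int.units_eq_one_or (Perm.sign σ) with h | h
    · exact h
    · rw [h, ((Fact.out : p.Prime).odd_of_ne_two hp).neg_one_pow] at h2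
      exact absurd h2 (by decide)
  obtain ⟨σ, l, v, rfl⟩ := exists_mono e (P := P) (g := g) fun i =>
    (Subgroup.mem_normalizer_iff.1 hgn _).1 (vec_mem_W e P _)
  obtain ⟨h, hhA, hh, σ', l', v', rfl, hl'⟩ := hscale (∏ i, l i)⁻¹
  have hmem : mono e σ' l' v' * mono e σ l v ∈ K := by
    have hA := (alternatingGroup α).mul_mem hhA hgA
    rw [mono_mul] at hA ⊢
    refine hone _ _ _ hA ?_
    rw [Finset.prod_mul_distrib, Equiv.prod_comp σ l', hl', inv_mul_cancel]
  have h1 := (Subgroup.closure {h | GenA (W e P) h}).mul_mem (Subgroup.inv_mem _ (Subgroup.subset_closure hh))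
    (Subgroup.subset_closure (hKgen _ hmem (mul_mem hh.1 hgn)) :
      mono e σ' l' v' * mono e σ l v ∈ Subgroup.closure {h | GenA (W e P) h})
  rwa [inv_mul_cancel_left] at h1

theorem pow_units (c : (ZMod p)ˣ) : ∀ m : ℕ, c ^ p ^ m = c
  | 0 => by rw [pow_zero, pow_one]
  | m + 1 => by
    rw [pow_succ, pow_mul, pow_units c m]
    exact Units.ext (by rw [Units.val_pow_eq_pow_val, ZMod.pow_card])

/-- The element scaling one orbit of squares. -/
theorem exists_scale_gen [Subsingleton ρ] (e2 : (ξ × ZMod p) ⊕ ζ ≃ ι) (hp : p ≠ 2) {Q : Subgroup (Perm ξ)}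
    (hQ : IsPGroup p Q) (O : Finset ξ) (hO : ∀ σ ∈ Q, ∀ o, σ o ∈ O ↔ o ∈ O) {j : ℕ} (hj : O.card = p ^ j)
    (c : (ZMod p)ˣ) : ∃ h, h ∈ alternatingGroup α ∧ GenA (W e (W e2 Q)) h ∧
      ∃ σ l v, h = mono e σ l v ∧ ∏ i, l i = c := by
  classical
  set h := phi e e2 O (weyl c⁻¹ * weyl (-1 : (ZMod p)ˣ)) with hdef
  set R := Rsq e e2 O
  have hWA := W_even e hp (isPGroup_W e2 hQ)
  have hRW : R ≤ W e (W e2 Q) := Rsq_le_W e e2 O fun u => vec_mem_W e2 Q u
  have hN : ∀ M : Perm (ZMod p × ZMod p), (∀ a b, M (a + b) = M a + M b) →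
      phi e e2 O M ∈ Subgroup.normalizer (R : Set (Perm α)) := fun M hM =>
    Subgroup.mem_normalizer_fintype fun r hr => phi_norm e e2 O M hM hr
  set H := Subgroup.closure {k | k ∈ alternatingGroup α ∧ k ∈ Subgroup.normalizer (R : Set (Perm α)) ∧
      ∃ m ∈ alternatingGroup α, m ∈ Subgroup.normalizer (R : Set (Perm α)) ∧ m * k * m⁻¹ ∈ W e (W e2 Q)}
  have hA : ∀ k : Perm α, k ^ p = 1 → k ∈ alternatingGroup α := fun k hk =>
    Perm.mem_alternatingGroup.2 (sign_of_odd ((Fact.out : p.Prime).odd_of_ne_two hp) hk)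
  have hUW : ∀ a, phi e e2 O (shearU a) ∈ W e (W e2 Q) := fun a => by
    rw [phi_shearU_eq]; exact vec_mem_W e _ _
  have hwA : phi e e2 O (weyl 1) ∈ alternatingGroup α := by
    rw [weyl, map_mul, map_mul]
    exact (alternatingGroup α).mul_mem ((alternatingGroup α).mul_mem (hA _ (phi_shear_pow e e2 O _).2)
      (hA _ (phi_shear_pow e e2 O _).1)) (hA _ (phi_shear_pow e e2 O _).2)
  have hU : ∀ a, phi e e2 O (shearU a) ∈ H := fun a => Subgroup.subset_closure
    ⟨hA _ (phi_shear_pow e e2 O a).1, hN _ (shearU_add a), 1, Subgroup.one_mem _, Subgroup.one_mem _,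
      by rw [one_mul, inv_one, mul_one]; exact hUW a⟩
  have hL : ∀ a, phi e e2 O (shearL a) ∈ H := fun a => Subgroup.subset_closure
    ⟨hA _ (phi_shear_pow e e2 O a).2, hN _ (shearL_add a), _, hwA, hN _ (weyl_add 1),
      by rw [← map_inv, ← map_mul, ← map_mul, weyl_conj]; exact hUW _⟩
  have hw : ∀ a, phi e e2 O (weyl a) ∈ H := fun a => by
    rw [weyl, map_mul, map_mul]
    exact H.mul_mem (H.mul_mem (hL _) (hU _)) (hL _)
  have hhH : h ∈ H := by rw [hdef, map_mul]; exact H.mul_mem (hw _) (hw _)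
  set lam : ξ → (ZMod p)ˣ := fun o => if o ∈ O then c⁻¹ else 1 with hlam
  set l : ι → (ZMod p)ˣ := fun i =>
    Sum.elim (fun x : ξ × ZMod p => if x.1 ∈ O then c⁻¹⁻¹ else 1) (fun _ => 1) (e2.symm i) with hl
  set σ2 : Perm ι := mono e2 1 lam 0 with hσ2
  have heq : h = mono e σ2 l 0 := phi_diag_eq e e2 O c⁻¹
  have hinv : ∀ τ ∈ W e2 Q, ∀ i, l (τ i) = l i := by
    rintro _ ⟨π, hπ, u, rfl⟩ i
    obtain ⟨x, rfl⟩ := e2.surjective i
    rcases x with ⟨o, x⟩ | f
    · rw [show e2 (.inl (o, x)) = pt e2 (o, x) from rfl, mono_pt]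
      simp [l, pt, hO π hπ]
    · rw [mono_inr]
  have hnorm : h ∈ Subgroup.normalizer (W e (W e2 Q) : Set (Perm α)) := by
    refine Subgroup.mem_normalizer_fintype ?_
    rintro _ ⟨τ, hτ, v, rfl⟩
    obtain ⟨π, hπ, u, hτeq⟩ := id hτ
    refine ⟨σ2 * τ * σ2⁻¹, ⟨π, hπ, fun o => (lam o : ZMod p) * u (o), ?_⟩,
      fun i => (l (τ (σ2⁻¹ i)) : ZMod p) * v (σ2⁻¹ i), ?_⟩
    · rw [mul_inv_eq_iff_eq_mul, hτeq, hσ2, mono_mul, mono_mul, mul_one, one_mul]
      congr 1
      · funext o
        simp [lam, hO π hπ]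
      · funext o
        simp [lam, hO π hπ]
    · show h * _ * h⁻¹ = _
      rw [heq, mul_inv_eq_iff_eq_mul, mono_mul, mono_mul]
      congr 1
      · group
      · funext i; simp [hinv τ hτ]
      · funext i; simp
  refine ⟨h, (Subgroup.closure_le _).2 (fun k hk => hk.1) hhH, ⟨hnorm, R, hRW, fun x _ hx => ?_, hhH⟩,
    σ2, l, 0, heq, ?_⟩
  · exact mem_Rsq_of_commute e e2 O fun r hr => hx r hr (hWA (hRW hr))
  · rw [← Equiv.prod_comp e2, Fintype.prod_sum_type, Fintype.prod_prod_type]
    simp only [l, Equiv.symm_apply_apply, Sum.elim_inl, Sum.elim_inr, inv_inv, Finset.prod_const_one,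
      mul_one, Finset.prod_const, Finset.card_univ, ZMod.card]
    rw [Finset.prod_comm]
    simp only [Finset.prod_ite_mem, Finset.univ_inter, Finset.prod_const, hj, pow_units, Finset.card_univ,
      ZMod.card]
    simpa using pow_units c 1

/-- The inner wreath factor of the Sylow subgroup contains a transposition when `p = 2`. -/
theorem swap_mem_W [Subsingleton ζ] (e2 : (ξ × ZMod 2) ⊕ ζ ≃ ι) (Q : Subgroup (Perm ξ)) (o : ξ) :
    ∃ i₀ i₁, i₀ ≠ i₁ ∧ swap i₀ i₁ ∈ W e2 Q := by
  refine ⟨pt e2 (o, 0), pt e2 (o, 1), fun h => zero_ne_one (Prod.ext_iff.1 (pt_inj e2 h)).2, ?_⟩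
  convert vec_mem_W e2 Q (Pi.single o (1 : ZMod 2)) using 1
  refine ext_sub e2 fun j y => ?_
  rw [vec, mono_pt]
  rcases eq_or_ne j o with rfl | hji
  · rcases zmod_two_cases y with rfl | rfl
    · simp
    · simp [show (1 : ZMod 2) + 1 = 0 from rfl]
  · rw [swap_apply_of_ne_of_ne (fun h => hji (Prod.ext_iff.1 (pt_inj e2 h)).1)
      (fun h => hji (Prod.ext_iff.1 (pt_inj e2 h)).1)]
    simp [hji]

theorem factorization_factorial_mul_add (m : ℕ) {r : ℕ} (hr : r < p) :
    (p * m + r).factorial.factorization p = m + m.factorial.factorization p := by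
  rw [Nat.factorization_def _ (Fact.out : p.Prime), Nat.factorization_def _ (Fact.out : p.Prime),
    padicValNat_factorial_mul_add m hr, padicValNat_factorial_mul, add_comm]

/-- The fusion systems of alternating groups in these degrees are simple. -/
theorem alt_simple (n : ℕ) (hn : 6 ≤ n) (hnp : p ^ 2 ≤ n) (hb : n % p ≤ 1) (S : Sylow p (alternatingGroup (Fin n))) :
    (Cfsg.groupFusionSystem (S : Subgroup (alternatingGroup (Fin n)))).IsSimple p := by
  classical
  have hp2 := (Fact.out : p.Prime).two_le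
  set k := n / p with hk
  set r := n % p with hr
  have hnk : p * k + r = n := Nat.div_add_mod n p
  have hkp : p ≤ k := (Nat.le_div_iff_mul_le (by omega)).2 (by rwa [← pow_two])
  have hk3 : 3 ≤ k := by
    rcases eq_or_ne p 2 with rfl | h
    · omega
    · exact (three_le_of_odd h).trans hkp
  haveI : Subsingleton (Fin r) := ⟨fun a b => Fin.ext (by have := a.2; have := b.2; omega)⟩
  set l := k / p with hl
  set s := k % p with hs
  have hkl : p * l + s = k := Nat.div_add_mod k p
  have hsp : s < p := Nat.mod_lt _ (by omega)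
  have hl1 : 1 ≤ l := (Nat.one_le_div_iff (by omega)).2 hkp
  let e : (Fin k × ZMod p) ⊕ Fin r ≃ Fin n := Fintype.equivFinOfCardEq (by
    rw [Fintype.card_sum, Fintype.card_prod, Fintype.card_fin, Fintype.card_fin, ZMod.card, mul_comm, hnk])
  let e2 : (Fin l × ZMod p) ⊕ Fin s ≃ Fin k := Fintype.equivFinOfCardEq (by
    rw [Fintype.card_sum, Fintype.card_prod, Fintype.card_fin, Fintype.card_fin, ZMod.card, mul_comm, hkl])
  obtain ⟨Q, hQc, hQg, -⟩ := exists_gen (p := p) l
  have hQ : IsPGroup p Q := IsPGroup.of_card hQc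
  have hP := isPGroup_W e2 hQ
  have hPg : GenP p (W e2 Q) := by
    intro x hx
    obtain ⟨σ, hσ, v, rfl⟩ := decomp_W e2 hx
    refine Subgroup.mul_mem _ ?_ (Subgroup.subset_closure ⟨vec_mem_W e2 Q v, vec_pow_p e2 v⟩)
    refine Subgroup.closure_mono ?_ (genP_map (lftHom e2) hQg (Subgroup.mem_map_of_mem _ hσ))
    rintro _ ⟨⟨τ, hτ, rfl⟩, hp⟩
    exact ⟨lft_mem_W e2 hτ, hp⟩
  set Wd := W e (W e2 Q) with hWd
  have hWc : Nat.card Wd = p ^ (Nat.card (Perm (Fin n))).factorization p := by
    rw [hWd, card_W, card_W, hQc, ← pow_add, ← pow_add, Nat.card_perm, Nat.card_fin, Fintype.card_fin,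
      Fintype.card_fin, ← hnk, factorization_factorial_mul_add _ (by omega), ← hkl,
      factorization_factorial_mul_add _ hsp]
  let SW : Sylow p (Perm (Fin n)) := Sylow.ofCard Wd hWc
  have hSW : (SW : Subgroup (Perm (Fin n))) = Wd := rfl
  have hWp : IsPGroup p Wd := isPGroup_W e hP
  obtain ⟨S₀, hS₀⟩ : ∃ S₀ : Sylow p (alternatingGroup (Fin n)), (S₀ : Subgroup (alternatingGroup (Fin n))) = Wd.subgroupOf (alternatingGroup (Fin n)) := by
    obtain ⟨S₁, hS₁⟩ := (hWp.comap_of_injective (alternatingGroup (Fin n)).subtype (alternatingGroup (Fin n)).subtype_injective).exists_le_sylow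
    obtain ⟨P', hP'⟩ := (S₁.2.map (alternatingGroup (Fin n)).subtype).exists_le_sylow
    obtain ⟨g, hg⟩ := MulAction.exists_smul_eq (Perm (Fin n)) P' SW
    have hAn : (alternatingGroup (Fin n)).Normal := inferInstance
    refine ⟨S₁, ((Subgroup.eq_of_le_of_card_ge hS₁ ?_).symm)⟩
    refine Nat.card_le_card_of_injective
      (fun x : (S₁ : Subgroup (alternatingGroup (Fin n))) => (⟨⟨g * (x : (alternatingGroup (Fin n))) * g⁻¹, hAn.conj_mem _ (x : (alternatingGroup (Fin n))).2 g⟩, ?_⟩ : Wd.subgroupOf (alternatingGroup (Fin n))))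
      fun x y h => ?_
    · show g * (x : (alternatingGroup (Fin n))) * g⁻¹ ∈ Wd
      rw [← hSW, ← hg]
      exact Subgroup.smul_mem_pointwise_smul _ _ _ (hP' ⟨_, x.2, rfl⟩)
    · simpa using h
  have hswap : p = 2 → ∃ i₀ i₁, i₀ ≠ i₁ ∧ swap i₀ i₁ ∈ W e2 Q := by
    intro h
    subst h
    haveI : Subsingleton (Fin s) := ⟨fun a b => Fin.ext (by have := a.2; have := b.2; omega)⟩
    exact swap_mem_W e2 Q ⟨0, hl1⟩
  refine simple_of_centric_gen S₀ S ?_ ?_ ?_
  · intro h
    have h1 : (⟨vec e (Pi.single ⟨0, by omega⟩ 1 + Pi.single ⟨1, by omega⟩ 1), vec_pair_even e _ _ 1⟩ : (alternatingGroup (Fin n))) ∈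
        (⊥ : Subgroup (alternatingGroup (Fin n))) := by
      rw [← h, hS₀]
      exact vec_mem_W e _ _
    have h2 := vec_inj e ((congrArg Subtype.val (Subgroup.mem_bot.1 h1)).trans (vec_zero e).symm)
    have h3 := congrFun h2 ⟨0, by omega⟩
    simp at h3
  · intro T hT hT1 hcl
    have h1 := closed_eq e (T := T.map (alternatingGroup (Fin n)).subtype) (by rwa [Fintype.card_fin]) hP hPg
      (by rw [Fintype.card_fin]; omega) hswap ?_ (by rwa [Ne, Subgroup.map_eq_bot_iff_of_injective _ (alternatingGroup (Fin n)).subtype_injective]) ?_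
    · intro x hx
      rw [hS₀] at hx
      obtain ⟨y, hy, hyx⟩ := h1 ⟨hx, x.2⟩
      rwa [← (alternatingGroup (Fin n)).subtype_injective hyx]
    · rintro _ ⟨x, hx, rfl⟩
      have := hT hx
      rw [hS₀] at this
      exact ⟨this, x.2⟩
    · rintro _ ⟨x, hx, rfl⟩ g hg hgx
      exact ⟨_, hcl x hx ⟨g, hg⟩ (by rw [hS₀]; exact hgx), rfl⟩
  · rw [hS₀]
    intro g hg
    refine genA_transfer ?_
    have hgiff : ∀ x ∈ Wd, x ∈ (alternatingGroup (Fin n)) → (g : Perm (Fin n)) * x * (g : Perm (Fin n))⁻¹ ∈ Wd := fun x hx hxA =>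
      (Subgroup.mem_normalizer_iff.1 hg ⟨x, hxA⟩).1 hx
    rcases eq_or_ne p 2 with h2 | h2
    · subst h2
      have hself : ∀ y : Perm (Fin n), (∀ x ∈ Wd, x ∈ (alternatingGroup (Fin n)) → y * x * y⁻¹ ∈ Wd) → y ∈ Wd := fun y hy =>
        Cfsg.Agent.Lead.mem_sylow_two_perm_of_normalize_even hn SW y fun x hx hxs =>
          hy x hx (Perm.mem_alternatingGroup.2 hxs)
      have hgW := hself _ hgiff
      refine Subgroup.subset_closure ⟨Subgroup.le_normalizer hgW, Wd ⊓ (alternatingGroup (Fin n)), inf_le_left, fun x hxA hx => ?_, ?_⟩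
      · refine ⟨hself x fun w hw hwA => ?_, hxA⟩
        rw [← hx w ⟨hw, hwA⟩ hwA, mul_inv_cancel_right]
        exact hw
      · exact Subgroup.subset_closure ⟨g.2, Subgroup.le_normalizer ⟨hgW, g.2⟩, 1, (alternatingGroup (Fin n)).one_mem,
          Subgroup.one_mem _, by rw [one_mul, inv_one, mul_one]; exact hgW⟩
    · have hWA : Wd ≤ (alternatingGroup (Fin n)) := W_even e h2 hP
      haveI : Nonempty (Fin l) := ⟨⟨0, hl1⟩⟩
      obtain ⟨o₀⟩ := (inferInstance : Nonempty (Fin l))
      obtain ⟨j, hj⟩ := hQ.card_orbit o₀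
      set O := (MulAction.orbit Q o₀).toFinset with hOdef
      have hO : ∀ σ ∈ Q, ∀ o, σ o ∈ O ↔ o ∈ O := by
        intro σ hσ o
        simp only [hOdef, Set.mem_toFinset]
        refine ⟨?_, ?_⟩
        · rintro ⟨τ, hτ⟩
          refine ⟨⟨σ, hσ⟩⁻¹ * τ, σ.injective ?_⟩
          show σ (((⟨σ, hσ⟩⁻¹ * τ : Q) : Perm (Fin l)) o₀) = σ o
          rw [← show ((τ : Q) : Perm (Fin l)) o₀ = σ o from hτ]
          simp
        · rintro ⟨τ, rfl⟩
          exact ⟨⟨σ, hσ⟩ * τ, rfl⟩
      have hOc : O.card = p ^ j := by rw [hOdef, Set.toFinset_card, ← Nat.card_eq_fintype_card, hj]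
      exact normalizer_gen e h2 (by rwa [Fintype.card_fin]) (by rwa [Fintype.card_fin]) hP S₀ hS₀
        (exists_scale_gen e e2 h2 hQ O hO hOc) g.2
        (Subgroup.mem_normalizer_fintype fun x hx => hgiff x hx (hWA hx))

end Cfsg.Agent.Local.FS.AltSimple
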