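import Cfsg.Agent.Lib.Local.FS.Simple
import Cfsg.Agent.Lib.Local.FS.Group
import Mathlib

/-!
Simplicity of the fusion system of a group whose Sylow subgroup only has inner automizer.
-/

set_option autoImplicit false

namespace Cfsg.Agent.Local.FS

open Cfsg Cfsg.FusionSystem Cfsg.Agent.Fusion

variable {G : Type*} [Group G] [Finite G] {p : ℕ} [Fact p.Prime]

/-- Strongly closed subgroups of a group fusion system are closed under conjugation inside the Sylow. -/
theorem stronglyClosed_group_conj {S T : Subgroup G} (hT : (groupFusionSystem S).StronglyClosed T)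
    {x : G} (hx : x ∈ T) (g : G) (hg : g * x * g⁻¹ ∈ S) : g * x * g⁻¹ ∈ T := by
  have hle : Subgroup.zpowers x ≤ S := Subgroup.zpowers_le.2 (hT.1 hx)
  refine (stronglyClosed_iff.1 hT).2 _ (fun y => g * y * g⁻¹) (Subgroup.zpowers_le.2 hx)
    (map_group_iff.2 ⟨hle, fun y hy => ?_, g, fun y _ => rfl⟩) x (Subgroup.mem_zpowers x)
  obtain ⟨i, rfl⟩ := Subgroup.mem_zpowers_iff.1 hy
  show g * x ^ i * g⁻¹ ∈ S
  rw [← conj_zpow]
  exact zpow_mem hg i

/-- A group fusion system is simple if `N(S) = S C(S)` and only trivial subgroups are strongly closed. -/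
theorem simple_of_normalizer (S : Sylow p G) (hS1 : (S : Subgroup G) ≠ ⊥)
    (hN : ∀ g ∈ Subgroup.normalizer ((S : Subgroup G) : Set G),
      ∃ s ∈ (S : Subgroup G), ∀ x ∈ (S : Subgroup G), g * x * g⁻¹ = s * x * s⁻¹)
    (hsc : ∀ T : Subgroup G, (groupFusionSystem (S : Subgroup G)).StronglyClosed T →
      T = ⊥ ∨ T = (S : Subgroup G)) : (groupFusionSystem (S : Subgroup G)).IsSimple p := by
  refine simple_of_inn (group_saturated (sylIn_top S)) hS1 ?_ hsc
  rw [autGroup_group le_rfl]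
  ext α
  rw [mem_autInducedBy, mem_Inn]
  refine ⟨fun ⟨g, _, hg⟩ => ?_, fun ⟨g, _, hg⟩ => ⟨g, Subgroup.mem_top _, hg⟩⟩
  have hgn : g ∈ Subgroup.normalizer ((S : Subgroup G) : Set G) :=
    Subgroup.mem_normalizer_fintype fun x hx => by
      show g * x * g⁻¹ ∈ (S : Subgroup G)
      rw [← hg x hx]
      exact av_mem α hx
  obtain ⟨s, hs, hsg⟩ := hN g hgn
  exact ⟨s, hs, fun x hx => (hg x hx).trans (hsg x hx)⟩

/-- The same, when the Sylow subgroup is generated by one class of elements of order `p`. -/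
theorem simple_of_normalizer_generated (S : Sylow p G) (hS1 : (S : Subgroup G) ≠ ⊥)
    (hN : ∀ g ∈ Subgroup.normalizer ((S : Subgroup G) : Set G),
      ∃ s ∈ (S : Subgroup G), ∀ x ∈ (S : Subgroup G), g * x * g⁻¹ = s * x * s⁻¹)
    (hgen : (S : Subgroup G) ≤ Subgroup.closure {x : G | x ∈ (S : Subgroup G) ∧ orderOf x = p})
    (hone : ∀ a b : G, orderOf a = p → orderOf b = p → ∃ g : G, g * a * g⁻¹ = b) :
    (groupFusionSystem (S : Subgroup G)).IsSimple p := by
  refine simple_of_normalizer S hS1 hN fun T hT => or_iff_not_imp_left.2 fun hT1 => le_antisymm hT.1 ?_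
  haveI : Nontrivial T := (Subgroup.nontrivial_iff_ne_bot T).2 hT1
  obtain ⟨k, hk⟩ := IsPGroup.iff_card.1 ((S.2).to_le hT.1)
  have hdvd : p ∣ Nat.card T := by
    have h1 : 1 < Nat.card T := Finite.one_lt_card
    rcases Nat.eq_zero_or_pos k with rfl | h
    · simp [hk] at h1
    · exact hk ▸ dvd_pow_self p h.ne'
  obtain ⟨a, ha⟩ := exists_prime_orderOf_dvd_card' p hdvd
  refine hgen.trans ((Subgroup.closure_le _).2 ?_)
  rintro x ⟨hxS, hx⟩
  obtain ⟨g, rfl⟩ := hone (a : G) x (by rw [Subgroup.orderOf_coe, ha]) hx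
  exact stronglyClosed_group_conj hT a.2 g hxS

end Cfsg.Agent.Local.FS
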