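import Cfsg.Agent.Lib.Local.FS.SimpleGroupSystem
import Cfsg.Agent.Lib.Local.FS.SimpleNormalCentric

/-!
Simplicity of the fusion system of a quotient by a central subgroup of order prime to `p`,
checked in the covering group.
-/

set_option autoImplicit false

namespace Cfsg.Agent.Local.FS

open Cfsg Cfsg.FusionSystem Cfsg.Agent.Fusion

variable {H G : Type*} [Group H] [Finite H] [Group G] [Finite G] {p : ℕ} [Fact p.Prime]

/-- The conjugation automizer and strongly closed subgroups are read in the cover. -/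
theorem simple_of_lift (π : H →* G) (hπ : Function.Surjective π)
    (hkc : ∀ k, π k = 1 → ∀ h, h * k = k * h) (hkp : ∀ k, π k = 1 → ¬ p ∣ orderOf k)
    (R : Sylow p H) (hR1 : (R : Subgroup H) ≠ ⊥)
    (hN : ∀ n ∈ Subgroup.normalizer ((R : Subgroup H) : Set H),
      ∃ s ∈ (R : Subgroup H), ∀ x ∈ (R : Subgroup H), n * x * n⁻¹ = s * x * s⁻¹)
    (hsc : ∀ T : Subgroup H, T ≤ (R : Subgroup H) → T ≠ ⊥ →
      (∀ x ∈ T, ∀ g : H, g * x * g⁻¹ ∈ (R : Subgroup H) → g * x * g⁻¹ ∈ T) → (R : Subgroup H) ≤ T)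
    (S : Sylow p G) : (groupFusionSystem (S : Subgroup G)).IsSimple p := by
  set R₁ : Sylow p G := R.mapSurjective hπ with hR₁
  have hR₁c : (R₁ : Subgroup G) = (R : Subgroup H).map π := Sylow.coe_mapSurjective hπ R
  obtain ⟨w', hw'⟩ := MulAction.exists_smul_eq G R₁ S
  obtain ⟨w, rfl⟩ := hπ w'
  set R₂ : Sylow p H := w • R with hR₂
  have hSmap : (S : Subgroup G) = (R₂ : Subgroup H).map π := by
    rw [← hw', Sylow.coe_subgroup_smul, hR₁c, hR₂, Sylow.coe_subgroup_smul]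
    show ((R : Subgroup H).map π).map (MulAut.conj (π w)).toMonoidHom =
      ((R : Subgroup H).map (MulAut.conj w).toMonoidHom).map π
    rw [Subgroup.map_map, Subgroup.map_map]
    congr 1
    ext x
    simp
  have hmem : ∀ x, x ∈ (R₂ : Subgroup H) ↔ w⁻¹ * x * w ∈ (R : Subgroup H) := by
    intro x
    rw [hR₂, Sylow.coe_subgroup_smul, Subgroup.mem_pointwise_smul_iff_inv_smul_mem]
    simp [MulAut.smul_def, MulAut.conj_inv_apply]
  -- a `p`-element over the image lies in the Sylow subgroup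
  have hlift : ∀ y : H, (∃ e : ℕ, y ^ p ^ e = 1) → π y ∈ (S : Subgroup G) → y ∈ (R₂ : Subgroup H) := by
    intro y ⟨e, he⟩ hy
    rw [hSmap] at hy
    obtain ⟨r, hr, hry⟩ := hy
    have hk : π (r⁻¹ * y) = 1 := by rw [map_mul, map_inv, hry, inv_mul_cancel]
    obtain ⟨f, hf⟩ := R₂.2 ⟨r, hr⟩
    have hf' : r ^ p ^ f = 1 := congrArg Subtype.val hf
    have hcomm : Commute r (r⁻¹ * y) := hkc _ hk r
    have hyf : (r⁻¹ * y) ^ p ^ (e + f) = 1 := by
      have h1 : (r * (r⁻¹ * y)) ^ p ^ (e + f) = 1 := by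
        rw [mul_inv_cancel_left, pow_add, pow_mul, he, one_pow]
      rwa [hcomm.mul_pow, show r ^ p ^ (e + f) = 1 by rw [pow_add, mul_comm, pow_mul, hf', one_pow], one_mul] at h1
    obtain ⟨i, -, hi⟩ := (Nat.dvd_prime_pow Fact.out).1 (orderOf_dvd_of_pow_eq_one hyf)
    have hi0 : i = 0 := by
      by_contra h
      exact hkp _ hk (hi ▸ dvd_pow_self p h)
    rw [hi0, pow_zero, orderOf_eq_one_iff, inv_mul_eq_one] at hi
    exact hi ▸ hr
  refine simple_of_normalizer S ?_ ?_ ?_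
  · rw [hSmap]
    intro h
    refine hR1 (le_bot_iff.1 fun x hx => ?_)
    have hx2 : w * x * w⁻¹ ∈ (R₂ : Subgroup H) := by
      rw [hmem, show w⁻¹ * (w * x * w⁻¹) * w = x by group]; exact hx
    have h1 : π (w * x * w⁻¹) = 1 := Subgroup.mem_bot.1 (h ▸ Subgroup.mem_map_of_mem π hx2)
    have hk : π x = 1 := by rw [map_mul, map_mul, map_inv, conj_eq_one_iff] at h1; exact h1
    obtain ⟨e, he⟩ := R.2 ⟨x, hx⟩
    have he' : x ^ p ^ e = 1 := congrArg Subtype.val he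
    obtain ⟨i, -, hi⟩ := (Nat.dvd_prime_pow Fact.out).1 (orderOf_dvd_of_pow_eq_one he')
    rcases Nat.eq_zero_or_pos i with rfl | hpos
    · rw [pow_zero, orderOf_eq_one_iff] at hi
      exact hi ▸ one_mem _
    · exact absurd (hi ▸ dvd_pow_self p hpos.ne') (hkp _ hk)
  · intro n' hn'
    obtain ⟨n, rfl⟩ := hπ n'
    have hnR : ∀ x ∈ (R₂ : Subgroup H), n * x * n⁻¹ ∈ (R₂ : Subgroup H) := by
      intro x hx
      obtain ⟨e, he⟩ := R₂.2 ⟨x, hx⟩
      refine hlift _ ⟨e, ?_⟩ ?_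
      · rw [conj_pow, show x ^ p ^ e = 1 from congrArg Subtype.val he]; group
      · rw [map_mul, map_mul, map_inv]
        exact (Subgroup.mem_normalizer_iff.1 hn' _).1 (hSmap ▸ Subgroup.mem_map_of_mem π hx)
    obtain ⟨s, hs, hsn⟩ := hN (w⁻¹ * n * w) (Subgroup.mem_normalizer_fintype fun x hx => by
      show w⁻¹ * n * w * x * (w⁻¹ * n * w)⁻¹ ∈ (R : Subgroup H)
      have := (hmem _).1 (hnR (w * x * w⁻¹) (by rw [hmem, show w⁻¹ * (w * x * w⁻¹) * w = x by group]; exact hx))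
      rwa [show w⁻¹ * n * w * x * (w⁻¹ * n * w)⁻¹ = w⁻¹ * (n * (w * x * w⁻¹) * n⁻¹) * w by group])
    refine ⟨π (w * s * w⁻¹), ?_, fun y hy => ?_⟩
    · rw [hSmap]
      refine Subgroup.mem_map_of_mem π ?_
      rw [hmem, show w⁻¹ * (w * s * w⁻¹) * w = s by group]; exact hs
    · rw [hSmap] at hy
      obtain ⟨x, hx, rfl⟩ := hy
      rw [← map_inv, ← map_inv, ← map_mul, ← map_mul, ← map_mul, ← map_mul]
      congr 1
      have := hsn (w⁻¹ * x * w) ((hmem x).1 hx)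
      calc n * x * n⁻¹ = w * (w⁻¹ * n * w * (w⁻¹ * x * w) * (w⁻¹ * n * w)⁻¹) * w⁻¹ := by group
        _ = w * (s * (w⁻¹ * x * w) * s⁻¹) * w⁻¹ := by rw [this]
        _ = w * s * w⁻¹ * x * (w * s * w⁻¹)⁻¹ := by group
  · intro T hT
    refine or_iff_not_imp_left.2 fun hT1 => le_antisymm hT.1 ?_
    let c : H →* G := π.comp (MulAut.conj w).toMonoidHom
    have hc : ∀ x, c x = π (w * x * w⁻¹) := fun x => rfl
    let T' : Subgroup H := (R : Subgroup H) ⊓ T.comap c
    have hRmem : ∀ x ∈ (R : Subgroup H), c x ∈ (S : Subgroup G) := fun x hx => by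
      rw [hc, hSmap]
      refine Subgroup.mem_map_of_mem π ?_
      rw [hmem, show w⁻¹ * (w * x * w⁻¹) * w = x by group]; exact hx
    have hpre : ∀ y ∈ (S : Subgroup G), ∃ x ∈ (R : Subgroup H), c x = y := by
      intro y hy
      rw [hSmap] at hy
      obtain ⟨x, hx, rfl⟩ := hy
      exact ⟨w⁻¹ * x * w, (hmem x).1 hx, by rw [hc, show w * (w⁻¹ * x * w) * w⁻¹ = x by group]⟩
    have hT'1 : T' ≠ ⊥ := by
      intro h
      refine hT1 (le_bot_iff.1 fun y hy => ?_)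
      obtain ⟨x, hx, rfl⟩ := hpre y (hT.1 hy)
      have hx' : x ∈ T' := ⟨hx, hy⟩
      rw [h, Subgroup.mem_bot] at hx'
      rw [hx', map_one]; exact one_mem _
    have h1 := hsc T' inf_le_left hT'1 fun x hx g hg => ⟨hg, by
      show c (g * x * g⁻¹) ∈ T
      rw [map_mul, map_mul, map_inv]
      refine stronglyClosed_group_conj hT hx.2 (c g) ?_
      rw [← map_inv, ← map_mul, ← map_mul]
      exact hRmem _ hg⟩
    intro y hy
    obtain ⟨x, hx, rfl⟩ := hpre y hy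
    exact (h1 hx).2

end Cfsg.Agent.Local.FS
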