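import Cfsg.Agent.Lib.Local.FS.MathieuPerms

/-!
Certificate for the two-fusion system of M12.
-/

set_option autoImplicit false
set_option maxRecDepth 100000

namespace Cfsg.Agent.Local.FS.Mathieu

def m12G0 : Equiv.Perm GolayPt :=
  mkPerm [16, 2, 18, 3, 0, 20, 6, 11, 1, 9, 14, 21, 4, 13, 10, 5, 12, 15, 8, 22, 17, 23, 19, 7] [4, 8, 1, 3, 12, 15, 6, 23, 18, 9, 14, 7, 16, 13, 10, 17, 0, 20, 2, 22, 5, 11, 19, 21] (by decide +kernel) (by decide +kernel)

theorem m12G0_mem : m12G0 ∈ Spor.M12 :=
  m12_mem_of_lst (by decide +kernel)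

def m12G1 : Equiv.Perm GolayPt :=
  mkPerm [3, 18, 12, 16, 6, 11, 1, 17, 0, 2, 7, 5, 4, 9, 19, 21, 8, 15, 13, 10, 14, 20, 22, 23] [8, 6, 9, 0, 12, 11, 4, 10, 16, 13, 19, 5, 2, 18, 20, 17, 3, 7, 1, 14, 21, 15, 22, 23] (by decide +kernel) (by decide +kernel)

theorem m12G1_mem : m12G1 ∈ Spor.M12 :=
  m12_mem_of_lst (by decide +kernel)

def m12G2 : Equiv.Perm GolayPt :=
  mkPerm [12, 4, 16, 18, 1, 14, 13, 20, 9, 8, 15, 22, 0, 6, 5, 10, 2, 21, 3, 23, 7, 17, 11, 19] [12, 4, 16, 18, 1, 14, 13, 20, 9, 8, 15, 22, 0, 6, 5, 10, 2, 21, 3, 23, 7, 17, 11, 19] (by decide +kernel) (by decide +kernel)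

theorem m12G2_mem : m12G2 ∈ Spor.M12 :=
  m12_mem_of_lst (by decide +kernel)

def m12G3 : Equiv.Perm GolayPt :=
  mkPerm [6, 1, 13, 0, 4, 21, 16, 11, 8, 9, 7, 19, 18, 12, 17, 23, 3, 14, 2, 10, 15, 5, 20, 22] [3, 1, 18, 16, 4, 21, 0, 10, 8, 9, 19, 7, 13, 2, 17, 20, 6, 14, 12, 11, 22, 5, 23, 15] (by decide +kernel) (by decide +kernel)

theorem m12G3_mem : m12G3 ∈ Spor.M12 :=
  m12_mem_of_lst (by decide +kernel)

def m12G4 : Equiv.Perm GolayPt :=
  mkPerm [13, 9, 2, 3, 1, 17, 6, 19, 4, 8, 23, 20, 12, 16, 21, 22, 18, 14, 0, 7, 10, 5, 15, 11] [18, 4, 2, 3, 8, 21, 6, 19, 9, 1, 20, 23, 12, 0, 17, 22, 13, 5, 16, 7, 11, 14, 15, 10] (by decide +kernel) (by decide +kernel)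

theorem m12G4_mem : m12G4 ∈ Spor.M12 :=
  m12_mem_of_lst (by decide +kernel)

def m12G5 : Equiv.Perm GolayPt :=
  mkPerm [0, 1, 6, 13, 8, 14, 18, 23, 9, 4, 10, 11, 3, 12, 21, 19, 16, 17, 2, 20, 15, 5, 7, 22] [0, 1, 18, 12, 9, 21, 2, 22, 4, 8, 10, 11, 13, 3, 5, 20, 16, 17, 6, 15, 19, 14, 23, 7] (by decide +kernel) (by decide +kernel)

theorem m12G5_mem : m12G5 ∈ Spor.M12 :=
  m12_mem_of_lst (by decide +kernel)

def m12G6 : Equiv.Perm GolayPt :=
  mkPerm [0, 1, 12, 18, 8, 5, 13, 23, 4, 9, 11, 10, 2, 6, 21, 15, 16, 17, 3, 20, 19, 14, 22, 7] [0, 1, 12, 18, 8, 5, 13, 23, 4, 9, 11, 10, 2, 6, 21, 15, 16, 17, 3, 20, 19, 14, 22, 7] (by decide +kernel) (by decide +kernel)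

theorem m12G6_mem : m12G6 ∈ Spor.M12 :=
  m12_mem_of_lst (by decide +kernel)

def m12G7 : Equiv.Perm GolayPt :=
  mkPerm [6, 16, 8, 12, 0, 23, 2, 7, 13, 18, 22, 15, 1, 9, 11, 5, 3, 10, 4, 19, 21, 20, 14, 17] [4, 12, 6, 16, 18, 15, 0, 7, 2, 13, 17, 14, 3, 8, 22, 11, 1, 23, 9, 19, 21, 20, 10, 5] (by decide +kernel) (by decide +kernel)

theorem m12G7_mem : m12G7 ∈ Spor.M12 :=
  m12_mem_of_lst (by decide +kernel)

def m12G8 : Equiv.Perm GolayPt :=
  mkPerm [6, 9, 3, 1, 16, 23, 8, 10, 0, 4, 15, 7, 12, 18, 14, 22, 2, 20, 13, 11, 17, 5, 19, 21] [8, 3, 16, 2, 9, 21, 0, 11, 6, 1, 7, 19, 12, 18, 14, 10, 4, 20, 13, 22, 17, 23, 15, 5] (by decide +kernel) (by decide +kernel)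

theorem m12G8_mem : m12G8 ∈ Spor.M12 :=
  m12_mem_of_lst (by decide +kernel)

def m12G9 : Equiv.Perm GolayPt :=
  mkPerm [8, 3, 2, 18, 4, 22, 0, 20, 9, 6, 19, 7, 12, 13, 21, 14, 1, 15, 16, 10, 23, 17, 5, 11] [6, 16, 2, 1, 4, 22, 9, 11, 0, 8, 19, 23, 12, 13, 15, 17, 18, 21, 3, 10, 7, 14, 5, 20] (by decide +kernel) (by decide +kernel)

theorem m12G9_mem : m12G9 ∈ Spor.M12 :=
  m12_mem_of_lst (by decide +kernel)

def m12G10 : Equiv.Perm GolayPt :=
  mkPerm [8, 13, 16, 1, 18, 23, 9, 5, 6, 3, 14, 21, 0, 12, 7, 15, 4, 19, 2, 17, 10, 20, 22, 11] [12, 3, 18, 9, 16, 7, 8, 14, 0, 6, 20, 23, 13, 1, 10, 15, 2, 19, 4, 17, 21, 11, 22, 5] (by decide +kernel) (by decide +kernel)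

theorem m12G10_mem : m12G10 ∈ Spor.M12 :=
  m12_mem_of_lst (by decide +kernel)

def m12G11 : Equiv.Perm GolayPt :=
  mkPerm [18, 1, 16, 3, 9, 17, 6, 7, 4, 8, 23, 20, 0, 2, 14, 10, 13, 21, 12, 19, 22, 5, 11, 15] [12, 1, 13, 3, 8, 21, 6, 7, 9, 4, 15, 22, 18, 16, 14, 23, 2, 5, 0, 19, 11, 17, 20, 10] (by decide +kernel) (by decide +kernel)

theorem m12G11_mem : m12G11 ∈ Spor.M12 :=
  m12_mem_of_lst (by decide +kernel)

def m12G12 : Equiv.Perm GolayPt :=
  mkPerm [16, 1, 12, 6, 4, 5, 3, 19, 8, 9, 11, 10, 2, 18, 14, 22, 0, 17, 13, 7, 23, 21, 15, 20] [16, 1, 12, 6, 4, 5, 3, 19, 8, 9, 11, 10, 2, 18, 14, 22, 0, 17, 13, 7, 23, 21, 15, 20] (by decide +kernel) (by decide +kernel)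

theorem m12G12_mem : m12G12 ∈ Spor.M12 :=
  m12_mem_of_lst (by decide +kernel)

def m12Gens : List Spor.M12 :=
  [⟨m12G0, m12G0_mem⟩, ⟨m12G1, m12G1_mem⟩, ⟨m12G2, m12G2_mem⟩, ⟨m12G3, m12G3_mem⟩, ⟨m12G4, m12G4_mem⟩, ⟨m12G5, m12G5_mem⟩, ⟨m12G6, m12G6_mem⟩, ⟨m12G7, m12G7_mem⟩, ⟨m12G8, m12G8_mem⟩, ⟨m12G9, m12G9_mem⟩, ⟨m12G10, m12G10_mem⟩, ⟨m12G11, m12G11_mem⟩, ⟨m12G12, m12G12_mem⟩]

def m12Cert : Cert where
  N := 95040
  k := 6
  gl := [316387457066263295188947326468212816, 984769711009704105289769792110604867, 804207329991879278679078353032003724, 940027969412651385105527390620103718, 476609015235393999584172958859495725, 923153400894852270032667212662609952, 319919046303233902210579630377218080, 725164086822348611129954138172301830, 897194109093224927759851404023336230, 464131669044463482233740232009255016, 486304405818854175413984230574703016, 637585920145724564660035915539922994, 851119921802529931656696149678698544]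
  gli := [897422708336207756845083176149812484, 984575903753234498989668858412934344, 804207329991879278679078353032003724, 653162493529798471765930693045536803, 435437010843401387714134255729739922, 321216926161451348542932178049583136, 319919046303233902210579630377218080, 221511298234905442379368027912673668, 228118416844821957148649450122592360, 837835050151296749206867753664809478, 236723019866384607645221459096553580, 442049531922862939605308337125700652, 851119921802529931656696149678698544]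
  sgen := [2, 3, 4]
  reps := [5, 6]
  z := 12
  sKids := [[[0, 1, 2]], [[1, 2], [0, 1, 2], [0, 1, 2]], [[0, 1, 2], [0, 1, 2], [2], [2], [0, 1, 2], [1, 2], [0, 2], [0, 1, 2]], [[2], [2], [0, 1, 2], [1, 2], [0, 2], [0, 1, 2], [0, 1], [0, 1], [2], [0, 2], [], [], [], [], [], [], [], []], [[0, 1], [0, 1], [2], [0, 2], [], [], [], [], [], [], [], [], [2], [2], [2], [2], [], [], []], [[2], [2], [2], [2], [], [], [], [], [], [], []]]
  tree := (.node (.node (.node (.node (.node (.node (.node .leaf 304342277802389622540851197682188332 .leaf) 304463854048808149295439185188388994 .leaf) 305275150150041944287586172869722380 (.node .leaf 305924306227745163997524772159832354 .leaf)) 317322540866380219963087055393671212 (.node (.node .leaf 317606455463052692290025442202110242 .leaf) 320851640871396380869368046175139084 (.node .leaf 321338458598845655984237365302408322 .leaf))) 424687631207133309948935246302288178 (.node (.node (.node .leaf 425336945735116929438709245759527181 .leaf) 435437010843401387714134255729739922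 (.node .leaf 435721440417085573312300790306769165 .leaf)) 440629882105553065421469616666905746 (.node (.node .leaf 440751299889601934898406533393419309 .leaf) 444158922689857585945937838173532466 (.node .leaf 444645225428205888895647454434799661 .leaf)))) 466589841262596186606186102997260429 (.node (.node (.node (.node .leaf 466711813631693397527922040549480498 .leaf) 476609015235393999584172958859495725 (.node .leaf 477096268699603215719203957497858098 .leaf)) 481801926111616309308015461613505837 (.node (.node .leaf 482450686030373070541863091405458706 .leaf) 486061093131230941119764912618549389 (.node .leaf 486344571954875697559152246669816082 .leaf))) 636287872886556269654200475415298083 (.node (.node (.node .leaf 636774769826452022715671101467705638 .leaf) 637951148968086359125023712621265155 (.node .leaf 638234984320880280869070343701594246 .leaf)) 649633314296629252857477569367258371 (.node (.node .leaf 649755048983656773148837280114816294 .leaf) 653162493529798471765930693045536803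 (.node .leaf 653811491135460627955427300812540038 .leaf))))) 802422477688099770517826178215641346 (.node (.node (.node (.node (.node .leaf 803071396057136931531100189844996396 .leaf) 804085516085151725035129825713897506 (.node .leaf 804207329991879278679078353032003724 .leaf)) 815402748179739827513372943109343490 (.node (.node .leaf 815889486654848071482971559989627020 .leaf) 819662014234136731723587440736744482 (.node .leaf 819946008034793201433930243664524588 .leaf))) 840086891282243158276052755232984192 (.node (.node (.node .leaf 840573392065610304814719585164004624 .leaf) 850471359967477640029715620848316544 (.node .leaf 851119921802529931656696149678698544 .leaf)) 856028587583515862247718690046941472 (.node (.node .leaf 856312819061406320112336762513528880 .leaf) 859922487125373878184642112756320544 (.node .leaf 860044657551579190821334897875061008 .leaf)))) 927412718810768636939643618830401798 (.node (.node (.node (.node .leaf 927696791855303657232060140860391555 .leaf) 928345828842917983105860448095207462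 (.node .leaf 928832488105579749129675794676252963 .leaf)) 940027969412651385105527390620103718 (.node (.node .leaf 940677046253729609639379733210215555 .leaf) 944287314695220236783814712862722310 (.node .leaf 944408970161338796890855177501821219 .leaf))) 965063289750925883286564141677284656 (.node (.node (.node .leaf 965346966670364367458681901213092896 .leaf) 975447770815569833621815645696012592 (.node .leaf 975568990542510601383932054293655808 .leaf)) 980274820002817843953478533019408528 (.node (.node .leaf 980761875422008216500370354613917952 .leaf) 984168731924066439007044278477326480 (.node .leaf 984818244535754528103549039458486304 .leaf))))))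
  cKids := [[[0, 1]], [[0, 1], [0, 1]], [[0, 1], [0, 1], [0, 1], [0, 1]], [[1], [0, 1], [0, 1], [0, 1], [0, 1], [0, 1], [0, 1], [0, 1]], [[0, 1], [0, 1], [0, 1], [0, 1], [0, 1], [0, 1], [0, 1], [1], [0, 1], [0], [0, 1], [0, 1], [0, 1], [0, 1], [0, 1]], [[0, 1], [1], [0, 1], [0, 1], [0, 1], [0, 1], [1], [0], [0], [0, 1], [0, 1], [0, 1], [0, 1], [0, 1], [0], [0, 1], [0, 1], [0, 1], [0], [0, 1], [1], [0, 1], [0], [0, 1], [0, 1], [1], [1], [0, 1]], [[0, 1], [0, 1], [0, 1], [1], [0, 1], [0], [0, 1], [0, 1], [0, 1], [0, 1], [0, 1], [0, 1], [0, 1], [0, 1], [0, 1], [1], [1], [0, 1], [0], [0, 1], [0, 1], [0, 1], [1], [1], [0, 1], [0], [0, 1], [0, 1], [0, 1], [1], [0, 1], [0, 1], [0, 1], [0, 1], [0, 1], [0], [0, 1], [0, 1], [0], [0, 1], [1], [0, 1], [0, 1], [0], [0, 1], [0]], [[1], [1], [0], [0, 1], [0, 1], [0, 1], [0, 1], [1], [0, 1], [0, 1], [], [0, 1], [], [0, 1], [], [0], [0, 1], [0, 1], [0, 1], [0, 1], [0], [0], [1], [1], [], [0, 1], [0, 1], [0, 1], [], [0, 1], [0, 1], [1], [1], [0], [1], [1],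 [0, 1], [0], [1], [1], [0], [1], [0, 1], [1], [0], [0], [0, 1], [0], [0, 1], [0, 1], [0], [0], [0, 1], [1], [0, 1], [0], [0, 1], [0, 1], [0, 1], [1], [0], [0], [0, 1], [0, 1], [1], [0], [], [1], [0, 1], [0, 1], [0, 1], [0, 1], [0, 1], [0, 1], [], [0], [0, 1], [0, 1]], [[0, 1], [0, 1], [0], [0, 1], [1], [0, 1], [0, 1], [], [0, 1], [1], [0, 1], [], [0, 1], [1], [1], [], [0, 1], [], [0, 1], [1], [1], [], [0], [0], [0], [0], [0], [], [0], [1], [], [0, 1], [0, 1], [1], [1], [], [0], [], [], [0, 1], [0, 1], [], [0, 1], [], [0], [1], [0, 1], [0], [0, 1], [1], [], [0], [], [0, 1], [0], [], [1], [0, 1], [0, 1], [], [], [0, 1], [0], [0], [], [0], [1], [0], [0, 1], [0, 1], [1], [0], [], [0, 1], [1], [], [0], [0, 1], [1], [0, 1], [0], [0, 1], [1], [], [0, 1], [0], [1], [], [1], [0, 1], [], [1], [0, 1], [0, 1], [], [1], [0], [0], [0, 1], [0], [], [1], [0], [1], [], [0, 1], [1], [0]], [[0, 1], [0], [0, 1], [], [1], [], [1], [1], [], [0], [], [], [1], [], [], [0], [], [0], [0], [], [0, 1], [0, 1], [], [1],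 [1], [1], [0], [], [0], [0, 1], [], [], [], [], [1], [], [1], [0, 1], [1], [], [1], [0], [], [1], [0, 1], [], [], [], [1], [], [], [], [], [0, 1], [0], [], [1], [0, 1], [], [], [1], [1], [], [], [0, 1], [0], [1], [1], [], [], [], [], [1], [0], [0], [1], [0], [], [], [], [1], [], [1], [], [1], [0], [], [], [0, 1], [], [], [], [], [], [0], [], [], [1], [], [], [], [0, 1], [], [], [0], [0, 1], [], [], [0], [], [], [], [], [0], []], [[0, 1], [1], [1], [1], [0, 1], [0], [], [0, 1], [0], [], [], [], [], [], [0], [], [], [], [1], [], [], [], [], [], [], [], [], [], [], [1], [], [0], [], [], [1], [], [1], [], [0], [], [], [], [], [], [], [1], [], [], [1], [], [], [], [], [], [], [], [], [], [], [], [], [], [], [], [], [], [], [0]], [[], [], [], [0], [], [], [], [], [], [], [], [], [], [], [], [], [], [], [], [], []]]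
  cLen := 495
  steps := [.cj 7 0, .cj 8 0, .cj 9 0, .cj 10 0, .mu 1 0, .mu 5 3, .mu 6 4, .mu 3 0, .mu 7 0, .mu 9 4, .mu 4 1, .mu 2 4, .mu 8 4, .mu 2 13, .mu 0 2, .mu 14 1, .cj 11 16, .mu 6 2, .mu 17 18, .mu 17 4, .mu 13 0]
  target := []

theorem m12_checkS : m12Cert.checkS = true := by decide +kernel

theorem m12_checkCenter : m12Cert.checkCenter = true := by decide +kernel

theorem m12_checkClass : m12Cert.checkClass = true := by decide +kernel

theorem m12_checkReps : m12Cert.checkReps = true := by decide +kernel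

theorem m12_checkSteps : m12Cert.checkSteps = true := by decide +kernel

theorem m12_two_simple (S : Sylow 2 Spor.M12) :
    (groupFusionSystem (S : Subgroup Spor.M12)).IsSimple 2 :=
  simple_of_subgroup_cert m12Cert m12Gens (by decide +kernel) (by decide +kernel) card_m12
    m12_checkS m12_checkCenter m12_checkClass m12_checkReps m12_checkSteps S

end Cfsg.Agent.Local.FS.Mathieu
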