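import Cfsg.Agent.Lib.Local.FS.MathieuPerms

/-!
Certificate for the two-fusion system of M22.
-/

set_option autoImplicit false
set_option maxRecDepth 100000

namespace Cfsg.Agent.Local.FS.Mathieu

def m22G0 : Equiv.Perm GolayPt :=
  mkPerm [0, 14, 13, 9, 8, 18, 7, 20, 15, 16, 21, 22, 10, 17, 6, 3, 4, 2, 5, 1, 19, 12, 11, 23] [0, 19, 17, 15, 16, 18, 14, 6, 4, 3, 12, 22, 21, 2, 1, 8, 9, 13, 5, 20, 7, 10, 11, 23] (by decide +kernel) (by decide +kernel)

theorem m22G0_mem : m22G0 ∈ Spor.M22 :=
  m22_mem_of_lst (by decide +kernel)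

def m22G1 : Equiv.Perm GolayPt :=
  mkPerm [0, 3, 22, 9, 21, 17, 19, 18, 6, 16, 5, 4, 14, 15, 20, 11, 1, 13, 7, 2, 8, 10, 12, 23] [0, 16, 19, 1, 11, 10, 8, 18, 20, 3, 21, 15, 22, 17, 12, 13, 9, 5, 7, 6, 14, 4, 2, 23] (by decide +kernel) (by decide +kernel)

theorem m22G1_mem : m22G1 ∈ Spor.M22 :=
  m22_mem_of_lst (by decide +kernel)

def m22G2 : Equiv.Perm GolayPt :=
  mkPerm [0, 22, 3, 12, 19, 1, 20, 9, 8, 7, 4, 11, 16, 10, 21, 14, 2, 15, 5, 13, 6, 17, 18, 23] [0, 5, 16, 2, 10, 18, 20, 9, 8, 7, 13, 11, 3, 19, 15, 17, 12, 21, 22, 4, 6, 14, 1, 23] (by decide +kernel) (by decide +kernel)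

theorem m22G2_mem : m22G2 ∈ Spor.M22 :=
  m22_mem_of_lst (by decide +kernel)

def m22G3 : Equiv.Perm GolayPt :=
  mkPerm [0, 3, 1, 22, 17, 12, 6, 8, 7, 11, 4, 9, 18, 14, 15, 19, 5, 21, 16, 13, 20, 10, 2, 23] [0, 2, 22, 1, 10, 16, 6, 8, 7, 11, 21, 9, 5, 19, 13, 14, 18, 4, 12, 15, 20, 17, 3, 23] (by decide +kernel) (by decide +kernel)

theorem m22G3_mem : m22G3 ∈ Spor.M22 :=
  m22_mem_of_lst (by decide +kernel)

def m22G4 : Equiv.Perm GolayPt :=
  mkPerm [0, 15, 17, 19, 3, 13, 20, 11, 7, 8, 22, 9, 14, 16, 1, 2, 10, 18, 21, 5, 6, 12, 4, 23] [0, 14, 15, 4, 22, 19, 20, 8, 9, 11, 16, 7, 21, 5, 12, 1, 13, 2, 17, 3, 6, 18, 10, 23] (by decide +kernel) (by decide +kernel)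

theorem m22G4_mem : m22G4 ∈ Spor.M22 :=
  m22_mem_of_lst (by decide +kernel)

def m22G5 : Equiv.Perm GolayPt :=
  mkPerm [0, 1, 2, 5, 13, 3, 7, 6, 8, 20, 15, 11, 12, 4, 17, 10, 22, 14, 18, 21, 9, 19, 16, 23] [0, 1, 2, 5, 13, 3, 7, 6, 8, 20, 15, 11, 12, 4, 17, 10, 22, 14, 18, 21, 9, 19, 16, 23] (by decide +kernel) (by decide +kernel)

theorem m22G5_mem : m22G5 ∈ Spor.M22 :=
  m22_mem_of_lst (by decide +kernel)

def m22G6 : Equiv.Perm GolayPt :=
  mkPerm [0, 1, 3, 5, 21, 2, 8, 6, 7, 20, 4, 9, 16, 15, 14, 19, 22, 17, 18, 13, 11, 10, 12, 23] [0, 1, 5, 2, 10, 3, 7, 8, 6, 11, 21, 20, 22, 19, 14, 13, 12, 17, 18, 15, 9, 4, 16, 23] (by decide +kernel) (by decide +kernel)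

theorem m22G6_mem : m22G6 ∈ Spor.M22 :=
  m22_mem_of_lst (by decide +kernel)

def m22G7 : Equiv.Perm GolayPt :=
  mkPerm [0, 15, 22, 14, 1, 5, 20, 7, 8, 9, 18, 6, 2, 3, 13, 4, 21, 10, 17, 16, 11, 19, 12, 23] [0, 4, 12, 13, 15, 5, 11, 7, 8, 9, 17, 20, 22, 14, 3, 1, 19, 18, 10, 21, 6, 16, 2, 23] (by decide +kernel) (by decide +kernel)

theorem m22G7_mem : m22G7 ∈ Spor.M22 :=
  m22_mem_of_lst (by decide +kernel)

def m22G8 : Equiv.Perm GolayPt :=
  mkPerm [0, 1, 12, 21, 5, 15, 20, 7, 8, 6, 17, 11, 18, 16, 3, 4, 19, 22, 2, 13, 9, 14, 10, 23] [0, 1, 18, 14, 15, 4, 9, 7, 8, 20, 22, 11, 2, 19, 21, 5, 13, 10, 12, 16, 6, 3, 17, 23] (by decide +kernel) (by decide +kernel)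

theorem m22G8_mem : m22G8 ∈ Spor.M22 :=
  m22_mem_of_lst (by decide +kernel)

def m22G9 : Equiv.Perm GolayPt :=
  mkPerm [0, 1, 20, 3, 17, 11, 12, 7, 22, 9, 15, 5, 6, 21, 19, 10, 16, 4, 18, 14, 2, 13, 8, 23] [0, 1, 20, 3, 17, 11, 12, 7, 22, 9, 15, 5, 6, 21, 19, 10, 16, 4, 18, 14, 2, 13, 8, 23] (by decide +kernel) (by decide +kernel)

theorem m22G9_mem : m22G9 ∈ Spor.M22 :=
  m22_mem_of_lst (by decide +kernel)

def m22G10 : Equiv.Perm GolayPt :=
  mkPerm [0, 3, 17, 10, 5, 15, 11, 6, 9, 8, 12, 20, 22, 14, 4, 19, 1, 16, 13, 21, 7, 18, 2, 23] [0, 16, 22, 1, 14, 4, 7, 20, 9, 8, 3, 6, 10, 18, 13, 5, 17, 2, 21, 15, 11, 19, 12, 23] (by decide +kernel) (by decide +kernel)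

theorem m22G10_mem : m22G10 ∈ Spor.M22 :=
  m22_mem_of_lst (by decide +kernel)

def m22G11 : Equiv.Perm GolayPt :=
  mkPerm [0, 1, 12, 16, 11, 5, 20, 13, 21, 4, 17, 15, 3, 8, 10, 9, 2, 19, 22, 14, 6, 7, 18, 23] [0, 1, 16, 12, 9, 5, 20, 21, 13, 15, 14, 4, 2, 7, 19, 11, 3, 10, 22, 17, 6, 8, 18, 23] (by decide +kernel) (by decide +kernel)

theorem m22G11_mem : m22G11 ∈ Spor.M22 :=
  m22_mem_of_lst (by decide +kernel)

def m22G12 : Equiv.Perm GolayPt :=
  mkPerm [0, 12, 4, 21, 5, 16, 20, 10, 19, 17, 9, 14, 15, 18, 7, 1, 13, 11, 2, 8, 6, 22, 3, 23] [0, 15, 18, 22, 2, 4, 20, 14, 19, 10, 7, 17, 1, 16, 11, 12, 5, 9, 13, 8, 6, 3, 21, 23] (by decide +kernel) (by decide +kernel)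

theorem m22G12_mem : m22G12 ∈ Spor.M22 :=
  m22_mem_of_lst (by decide +kernel)

def m22G13 : Equiv.Perm GolayPt :=
  mkPerm [0, 18, 12, 16, 13, 22, 6, 7, 8, 9, 19, 11, 2, 4, 17, 21, 3, 14, 1, 10, 20, 15, 5, 23] [0, 18, 12, 16, 13, 22, 6, 7, 8, 9, 19, 11, 2, 4, 17, 21, 3, 14, 1, 10, 20, 15, 5, 23] (by decide +kernel) (by decide +kernel)

theorem m22G13_mem : m22G13 ∈ Spor.M22 :=
  m22_mem_of_lst (by decide +kernel)

def m22Gens : List Spor.M22 :=
  [⟨m22G0, m22G0_mem⟩, ⟨m22G1, m22G1_mem⟩, ⟨m22G2, m22G2_mem⟩, ⟨m22G3, m22G3_mem⟩, ⟨m22G4, m22G4_mem⟩, ⟨m22G5, m22G5_mem⟩, ⟨m22G6, m22G6_mem⟩, ⟨m22G7, m22G7_mem⟩, ⟨m22G8, m22G8_mem⟩, ⟨m22G9, m22G9_mem⟩, ⟨m22G10, m22G10_mem⟩, ⟨m22G11, m22G11_mem⟩, ⟨m22G12, m22G12_mem⟩, ⟨m22G13, m22G13_mem⟩]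

def m22Cert : Cert where
  N := 443520
  k := 7
  gl := [970172347409380505250422614579787200, 971375390341192231596638642795501664, 979445687419953403600986537662484160, 958410307213029092794054032775382112, 961069527338687106934104585762620896, 976934804572108675034832543981668384, 971379642845652274390644527914454048, 971744843550245103631076547565672928, 968943198774194711394142012873289760, 966297670692917966245789555290656800, 958718659309437675832106772491224160, 979040100041482830303375829960765472, 960177196370306231998495278616973696, 962507216268482666063793260873658944]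
  gli := [970076759063076013899961093176411744, 958159023339790333675878823649922560, 957256396076117415690700274006048928, 959992408796385583650615575672051776, 969101276746442064571623255008492992, 976934804572108675034832543981668384, 976326094703589562898919214398116896, 958636258405053438913777926518780032, 977579833063771854728021120669665312, 966297670692917966245789555290656800, 971744808573641632081260319504128512, 979080783356058339553918300584296480, 982771814199492166772388716622858720, 962507216268482666063793260873658944]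
  sgen := [2, 3, 4]
  reps := [5, 6]
  z := 13
  sKids := [[[0, 1, 2]], [[0, 1, 2], [0, 1, 2], [0, 1, 2]], [[0, 1, 2], [0, 1, 2], [0, 1, 2], [1, 2], [0, 1, 2], [0, 1, 2], [1], [0, 1, 2], [1, 2]], [[1, 2], [0, 1, 2], [0, 1, 2], [1], [1, 2], [0, 1, 2], [1], [0, 1, 2], [1, 2], [0, 1], [0, 2], [1], [0, 2], [1, 2], [], [0, 1, 2], [2], [], [1], [0, 1, 2], [0, 1], [0], [1]], [[0, 2], [0, 2], [1], [1], [0, 1, 2], [1], [0, 2], [1, 2], [1], [0, 2], [1, 2], [], [0, 1, 2], [2], [], [1], [1, 2], [1], [0], [], [], [1], [1], [1], [], [1], [1], [0], [], [], [1], [0], [1], [], [], [2], [], [], [], [], []], [[], [1], [1], [1], [], [], [], [0, 2], [2], [], [1], [1], [0], [], [1], [1], [1], [], [], [], [1], [], [], [], [], [], [], [], [], [], [], [], [], [], [], [], [], []]]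
  tree := (.node (.node (.node (.node (.node (.node (.node (.node .leaf 956868869662591066517348003605450432 .leaf) 957094809568997807283400430204619936 .leaf) 957234151365436425186095494206075584 (.node .leaf 957256396076117415690700274006048928 .leaf)) 957315201869412709605548522843769536 (.node (.node .leaf 957378525983857191063466334397509792 .leaf) 957459576455633613623348377463294112 (.node .leaf 957558313275516549297240297699689152 .leaf))) 958149194648355293562601271662253568 (.node (.node (.node .leaf 958410307213029092794054032775382112 .leaf) 958514119471473173328894821939235328 (.node .leaf 958572209746660633463095447753119840 .leaf)) 958595605516372226633766560774838784 (.node (.node .leaf 958694577570995285990299831076309088 .leaf) 958775469151223731682323496822183008 (.node .leaf 958838915073873840222943944220247552 .leaf)))) 959447109070805643891989176448014720 (.node (.node (.node (.node .leaf 959708019712228955825061645210162240 .leaf) 959812351002410158063048878313342336 (.node .leaf 959870635773207869782996646959958080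 .leaf)) 959893599130714994837357442961020288 (.node (.node .leaf 959992408796385583650615575672051776 .leaf) 960073776451580533733545039064925248 (.node .leaf 960137067412918407442820498143791488 .leaf))) 960640935097623600283404633184358048 (.node (.node (.node .leaf 960663720853876068546819280926616032 .leaf) 960704958457398095325966892011960800 (.node .leaf 960803590004056087103267846060882592 .leaf)) 961069527338687106934104585762620896 (.node (.node .leaf 961232459402135445701112849148464608 .leaf) 961330576485261570166592359990904480 (.node .leaf 961493350352409014729096794532784800 .leaf))))) 962061359898476230036779290980663872 (.node (.node (.node (.node (.node .leaf 962286864140653867024520594739169312 .leaf) 962426244946727376604769826773240384 (.node .leaf 962449044282352428558335465178116128 .leaf)) 962507216268482666063793260873658944 (.node (.node .leaf 962571055222123691414819409771970592 .leaf) 962651512066574722611277533849979936 (.node .leaf 962750882686369159848927527195184704 .leaf))) 968412031891298064920226085111248320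 (.node (.node (.node .leaf 968470736309744848881607425511570976 .leaf) 968511142838405644506772966155114016 (.node .leaf 968574449477113154866618846315778496 .leaf)) 968875552116143039815775959988736544 (.node (.node .leaf 969037969701841341123113356578240032 .leaf) 969101276746442064571623255008492992 (.node .leaf 969263496437150998323881933585962432 .leaf)))) 971130150769734990594587182090060896 (.node (.node (.node (.node .leaf 971391349885013732526844529756658176 .leaf) 971495154733970373799394308093728864 (.node .leaf 971553371113403666238867114632611328 .leaf)) 971576165883779086389881241846106208 (.node (.node .leaf 971674986995572365754713704545981952 .leaf) 971755759900385212854878126687308288 (.node .leaf 971819396280820402089423123271160928 .leaf))) 972324164504054183326341533625072096 (.node (.node (.node .leaf 972347212443680640931040611015146144 .leaf) 972387104478875378321553413907098272 (.node .leaf 972485909193284951202996468073319904 .leaf)) 972752702327753926283712280487579296 (.node (.node .leaf 972914288818039276779345170615879328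 .leaf) 973013608017137751261184552177543648 (.node .leaf 973175471662247777997740143226996192 .leaf)))))) 973603934579584774608920864653196608 (.node (.node (.node (.node (.node (.node .leaf 973662195828805096603049043090888288 .leaf) 973702918938860843786263531792809568 (.node .leaf 973766233421075525266259592082806080 .leaf)) 974068676428766003104742551753045600 (.node (.node .leaf 974230777396801612781252168259375712 .leaf) 974294091453175601946459747119707456 (.node .leaf 974456192435828005657874100407210304 .leaf))) 974919777296964748602520982585387424 (.node (.node (.node .leaf 974943200084609839047236398812349568 .leaf) 974983092127058124509886653189901440 (.node .leaf 975082551176201439867949210300401056 .leaf)) 975349006586345850474404405682055296 (.node (.node .leaf 975510593083884749258142814088542336 .leaf) 975609339758674013489717650847807904 (.node .leaf 975771994682031445679277155169029536 .leaf)))) 976322363273055244525227859074828352 (.node (.node (.node (.node .leaf 976583407477796666134236515234138496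 .leaf) 976687526044199460662809687166587968 (.node .leaf 976745904761810309498089809680864640 .leaf)) 976768299277413956938701513523627072 (.node (.node .leaf 976866925862164864660812462872528256 .leaf) 976948412274982290454765573689629056 (.node .leaf 977011846700734872694584382601123904 .leaf))) 977498185667087847565939211956097632 (.node (.node (.node .leaf 977556587918162221338129885675819328 .leaf) 977596994443196236190008715078251840 (.node .leaf 977660405361423555174377374281807456 .leaf)) 977962751891997956948905533127441728 (.node (.node .leaf 978125169481323038957544545968084288 .leaf) 978188144640736854810326380164077152 (.node .leaf 978350562230178718540772930077474400 .leaf))))) 978935994059595565513698360758995104 (.node (.node (.node (.node (.node .leaf 979161377407991737955411877685211840 .leaf) 979301354907185201765290190868725920 (.node .leaf 979324309450752807383750287055915712 .leaf)) 979382563709126680346310800965700768 (.node (.node .leaf 979445687419953403600986537662484160 .leaf) 979526896221077476999926455842456256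 (.node .leaf 979625754272064044071810094217048224 .leaf))) 980094854397464480886201748888671776 (.node (.node (.node .leaf 980153249674242246943536499492632000 .leaf) 980193972787924775260666174632530368 (.node .leaf 980256955383743658741595365834898976 .leaf)) 980558382060826471794912636797343168 (.node (.node .leaf 980720483025235300409492161855667648 .leaf) 980783901398605797706660243067867680 (.node .leaf 980946200243723322580103929195574816 .leaf)))) 982708589910849173318473135402861696 (.node (.node (.node (.node .leaf 982731119755619431393521785394220448 .leaf) 982772357351887910460457419943822752 (.node .leaf 982870453543869953424090028269152384 .leaf)) 983136609651781991047177963589417376 (.node (.node .leaf 983299541707976781886006183646931360 .leaf) 983398350251948539181415485387787392 (.node .leaf 983560094924254361760359223381309568 .leaf))) 984128563442642855769045999180853280 (.node (.node (.node .leaf 984354025604555346751935782148194880 .leaf) 984493369334060478447889424982281248 (.node .leaf 984516364019991024529050492620639808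 .leaf)) 984574657262612311324662570656612384 (.node (.node .leaf 984637623033312354824810178069137984 .leaf) 984719425469015381782316292875858496 (.node .leaf 984818244535754528103549039458486304 .leaf)))))))
  cKids := [[[0, 1]], [[0, 1], [0, 1]], [[0, 1], [0, 1], [0, 1], [0, 1]], [[0, 1], [0, 1], [0, 1], [0, 1], [0, 1], [0, 1], [0, 1], [0, 1]], [[0, 1], [0, 1], [0], [0, 1], [0, 1], [0, 1], [0, 1], [0, 1], [0, 1], [0, 1], [0, 1], [0, 1], [0, 1], [0, 1], [0, 1], [0]], [[1], [0, 1], [0, 1], [0, 1], [1], [0, 1], [0, 1], [0, 1], [0, 1], [0], [0, 1], [0, 1], [0], [0, 1], [0, 1], [0, 1], [0, 1], [0, 1], [0, 1], [0, 1], [0, 1], [0, 1], [0, 1], [0, 1], [0, 1], [0, 1], [0, 1], [0, 1], [0, 1], [0, 1]], [[0, 1], [0, 1], [0, 1], [0, 1], [0, 1], [0, 1], [0, 1], [0, 1], [0, 1], [0, 1], [0, 1], [0, 1], [0, 1], [0, 1], [0, 1], [0, 1], [0, 1], [0, 1], [0, 1], [0, 1], [0, 1], [0, 1], [0, 1], [0, 1], [0], [0, 1], [1], [0, 1], [0, 1], [0, 1], [0, 1], [0], [0, 1], [0, 1], [0, 1], [0, 1], [0, 1], [0, 1], [1], [0], [0, 1], [0], [0, 1], [0],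 [0, 1], [0, 1], [0, 1], [0, 1], [0, 1], [0, 1], [0], [0], [0, 1], [0, 1], [1], [0, 1]], [[0, 1], [0, 1], [0, 1], [1], [1], [0, 1], [0, 1], [0, 1], [0], [0], [0, 1], [0, 1], [0, 1], [0, 1], [0, 1], [0, 1], [0, 1], [0, 1], [0, 1], [0, 1], [0, 1], [0, 1], [0, 1], [0], [1], [0, 1], [0], [0], [0, 1], [0, 1], [0, 1], [1], [0, 1], [1], [0, 1], [0, 1], [0, 1], [0], [0, 1], [0, 1], [1], [0, 1], [0, 1], [0, 1], [0], [0, 1], [0, 1], [0, 1], [0], [0, 1], [0, 1], [0, 1], [0, 1], [0, 1], [0, 1], [0, 1], [0, 1], [0], [0, 1], [0, 1], [0, 1], [0, 1], [0, 1], [0, 1], [0, 1], [0], [0, 1], [0], [0, 1], [0, 1], [0, 1], [0, 1], [0, 1], [0, 1], [], [0, 1], [0, 1], [0, 1], [1], [0], [1], [0, 1], [0, 1], [0, 1], [0, 1], [0], [0, 1], [0, 1], [0, 1], [0], [0, 1], [0], [1], [1], [0, 1], [0], [0, 1], [0, 1], [1], [0], [0], [0]], [[0, 1], [], [0, 1], [0], [0, 1], [1], [1], [0], [0, 1], [0, 1], [0], [0, 1], [1], [1], [0, 1], [0, 1], [0, 1], [0, 1], [0], [1], [0, 1], [0], [0, 1], [0], [0, 1], [], [0, 1], [0], [0, 1], [0, 1], [0], [0, 1], [0, 1], [1],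 [0, 1], [0, 1], [1], [0, 1], [0, 1], [0], [0, 1], [], [1], [0, 1], [0, 1], [1], [0, 1], [0, 1], [0, 1], [0], [0, 1], [], [0, 1], [0, 1], [], [0], [0, 1], [], [0, 1], [0, 1], [0, 1], [0], [0, 1], [0], [0, 1], [1], [0], [1], [0, 1], [1], [1], [0, 1], [0], [0, 1], [0], [0, 1], [0, 1], [0, 1], [1], [0, 1], [], [1], [0], [0, 1], [0, 1], [0, 1], [0, 1], [0], [0, 1], [0, 1], [0], [0, 1], [0], [0], [0], [0, 1], [0], [], [0, 1], [0, 1], [1], [0], [1], [0, 1], [0], [0], [1], [0, 1], [0], [1], [1], [0], [], [0, 1], [0, 1], [1], [0], [0, 1], [1], [0], [0, 1], [0, 1], [0, 1], [0], [], [0, 1], [], [0, 1], [0], [0, 1], [0], [0, 1], [0, 1], [0], [], [0], [0, 1], [1], [0, 1], [1], [1], [1], [1], [0, 1], [], [], [], [1], [0, 1], [0], [0], [], [0, 1], [0, 1], [0, 1], [0], [0, 1], [1], [0, 1], [], [0, 1], [0, 1], [0, 1], [0, 1], [], [0, 1], [0, 1], [0, 1], [], [0], [0, 1], [1]], [[0], [0, 1], [0, 1], [0], [0, 1], [0], [1], [0], [0], [0], [0, 1], [0, 1], [], [0], [1], [1], [1], [1], [0], [0, 1], [0, 1], [], [0], [0, 1], [0], [1], [0, 1],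 [], [], [0, 1], [0], [0], [1], [1], [0], [0], [0], [], [0, 1], [0, 1], [1], [0], [1], [0, 1], [0, 1], [1], [0, 1], [], [0, 1], [0, 1], [0, 1], [1], [0, 1], [], [0, 1], [1], [0, 1], [0, 1], [1], [0, 1], [1], [0, 1], [], [0], [1], [0, 1], [1], [0], [], [0], [1], [0, 1], [0, 1], [0, 1], [1], [0], [], [0, 1], [], [1], [0], [], [0, 1], [1], [0, 1], [0], [0, 1], [0], [1], [0, 1], [0], [0, 1], [1], [1], [0, 1], [0, 1], [0, 1], [0], [1], [0, 1], [0], [], [], [0, 1], [0], [], [], [0], [], [], [0, 1], [1], [], [0], [0, 1], [0, 1], [1], [0, 1], [0, 1], [1], [0, 1], [0, 1], [0], [0, 1], [1], [], [0, 1], [0, 1], [0, 1], [], [0, 1], [1], [1], [0], [0], [], [1], [], [0, 1], [0, 1], [], [0, 1], [1], [1], [0, 1], [0], [], [1], [0], [0, 1], [0, 1], [0], [0, 1], [], [0], [1], [0, 1], [0], [], [0, 1], [0], [], [0], [0, 1], [], [1], [0], [1], [0, 1], [0], [1], [], [], [0, 1], [1], [0], [], [0], [], [], [0], [1], [0], [], [0], [0, 1], [], [1], [1], [0, 1], [0, 1], [0], [0], [], [1], [0], [1], [0], [1], [0], [1], [1], [0, 1], [1], [], [],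 [0, 1], [0], [], [0], [0, 1], [0], [0], [0, 1], [0], [], [1], [1], [0, 1], [], [0, 1], [1], [], [1], [], [0], [0], [0], [0, 1], [0], [0], [1], [0, 1], [1], [0], [1], []], [[0, 1], [1], [], [0, 1], [], [1], [0, 1], [], [1], [0], [], [], [], [], [0, 1], [0], [], [], [0], [], [], [1], [0], [1], [], [0], [], [0, 1], [], [0, 1], [], [1], [], [0], [0], [0], [], [0, 1], [1], [0], [0], [], [1], [0], [1], [0, 1], [], [1], [0, 1], [], [0, 1], [], [0, 1], [1], [0], [], [0], [0, 1], [], [], [0, 1], [0, 1], [1], [], [], [0], [1], [], [1], [1], [0], [0, 1], [], [], [], [0], [0, 1], [1], [], [1], [1], [0], [], [0, 1], [0, 1], [0, 1], [], [], [1], [1], [0], [], [], [], [0, 1], [0], [1], [0, 1], [1], [], [], [0], [], [0], [0], [0], [1], [0], [], [1], [], [0], [0, 1], [0, 1], [1], [0], [0], [], [0], [], [], [1], [], [], [0, 1], [], [0], [], [0], [1], [1], [], [0], [], [1], [], [0, 1], [0, 1], [], [], [0, 1], [0, 1], [], [1], [1], [1], [0, 1], [], [1], [0, 1], [1], [], [1], [], [], [0], [], [], [0], [], [0], [0, 1], [], [], [], [1], [],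 [1], [0, 1], [], [], [0], [0, 1], [0, 1], [], [], [1], [1], [], [0], [0, 1], [], [0], [], [0], [0], [], [0, 1], [], [], [0], [], [0, 1], [0], [1], [], [0], [0, 1], [], [0], [0], [], [0], [0], [1], [0], [], [1], [1], [1], [1], [], [], [1], [0], [0, 1], [], [], [1], [], [], [], [], [0], [], [0], [0, 1], [], [], [1], [], [], [], [0, 1], [], [0], [0], [1], [1], [], [], [], [], [], [], [0], [], [], [0], [0], [], [], [0, 1], [1], [1], [], [], [], [], [], [0], [], [0, 1], [0], [], [1]], [[], [1], [0, 1], [], [0], [], [1], [], [0], [1], [], [1], [], [], [0], [], [], [1], [0], [], [1], [], [], [0], [], [0], [], [0], [], [], [], [1], [1], [0], [], [0, 1], [], [], [], [], [], [], [0], [], [0], [1], [], [], [], [], [], [], [], [1], [0], [], [], [0, 1], [0], [], [1], [0], [], [], [], [], [], [], [], [], [], [1], [1], [], [], [1], [], [0], [1], [], [], [0], [1], [], [], [], [0, 1], [1], [], [], [], [], [], [0, 1], [], [], [], [], [], [], [], [], [1], [], [1], [], [], [], [], [0], [0], [], [], [1], [], [], [], [], [0, 1], [], [1],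 [], [1], [], [], [], [], [], [1], [], [], [], [], [0], [1], [], [], [], [], [], [], [], [], [], [], [1], [], [], [1], [], [], [], [], [], [], [], [], [], [], [], [], [1], [], [], [], [], [], [], [], [], [0], [], [], [], [], [], [], [], [], [], [], [], [0], [], [], [], [], [], [], [], [], [1], [], [1], [], []], [[], [], [], [], [], [], [], [], [], [], [], [], [], [], [], [], [], [], [], [], [], [], [0], [], [], [], [], [], [], [], [], [], [], [], [], [], [], [], [], [], [], [0], [], [], [0], [], [], [], [], [], [], [], [], [], [], [], [], [], [1], [], []]]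
  cLen := 1155
  steps := [.cj 7 0, .cj 8 0, .cj 9 0, .cj 10 0, .cj 11 0, .cj 12 0, .mu 3 5, .mu 5 2, .mu 6 8, .mu 4 0, .mu 3 10, .mu 6 11]
  target := []

theorem m22_checkS : m22Cert.checkS = true := by decide +kernel

theorem m22_checkCenter : m22Cert.checkCenter = true := by decide +kernel

theorem m22_checkClass : m22Cert.checkClass = true := by decide +kernel

theorem m22_checkReps : m22Cert.checkReps = true := by decide +kernel

theorem m22_checkSteps : m22Cert.checkSteps = true := by decide +kernel

theorem m22_two_simple (S : Sylow 2 Spor.M22) :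
    (groupFusionSystem (S : Subgroup Spor.M22)).IsSimple 2 :=
  simple_of_subgroup_cert m22Cert m22Gens (by decide +kernel) (by decide +kernel) card_m22
    m22_checkS m22_checkCenter m22_checkClass m22_checkReps m22_checkSteps S

end Cfsg.Agent.Local.FS.Mathieu
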