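import Cfsg.Agent.Lib.Local.FS.MathieuPerms

/-!
Certificate for the two-fusion system of M23.
-/

set_option autoImplicit false
set_option maxRecDepth 100000

namespace Cfsg.Agent.Local.FS.Mathieu

def m23G0 : Equiv.Perm GolayPt :=
  mkPerm [21, 17, 4, 9, 5, 10, 13, 1, 6, 18, 8, 16, 14, 19, 11, 15, 22, 20, 2, 3, 12, 7, 0, 23] [22, 7, 18, 19, 2, 4, 8, 21, 10, 3, 5, 14, 20, 6, 12, 15, 11, 1, 9, 13, 17, 0, 16, 23] (by decide +kernel) (by decide +kernel)

theorem m23G0_mem : m23G0 ∈ Spor.M23 :=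
  m23_mem_of_lst (by decide +kernel)

def m23G1 : Equiv.Perm GolayPt :=
  mkPerm [17, 6, 2, 1, 19, 20, 21, 14, 10, 8, 15, 3, 9, 5, 11, 0, 18, 13, 7, 16, 22, 4, 12, 23] [15, 3, 2, 11, 21, 13, 1, 18, 9, 12, 8, 14, 22, 17, 7, 10, 19, 0, 16, 4, 5, 6, 20, 23] (by decide +kernel) (by decide +kernel)

theorem m23G1_mem : m23G1 ∈ Spor.M23 :=
  m23_mem_of_lst (by decide +kernel)

def m23G2 : Equiv.Perm GolayPt :=
  mkPerm [2, 15, 0, 16, 11, 5, 6, 22, 19, 9, 10, 4, 12, 13, 18, 1, 3, 21, 14, 8, 20, 17, 7, 23] [2, 15, 0, 16, 11, 5, 6, 22, 19, 9, 10, 4, 12, 13, 18, 1, 3, 21, 14, 8, 20, 17, 7, 23] (by decide +kernel) (by decide +kernel)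

theorem m23G2_mem : m23G2 ∈ Spor.M23 :=
  m23_mem_of_lst (by decide +kernel)

def m23G3 : Equiv.Perm GolayPt :=
  mkPerm [13, 6, 21, 16, 2, 1, 14, 11, 20, 9, 8, 15, 0, 22, 12, 17, 3, 18, 4, 10, 19, 7, 5, 23] [12, 5, 4, 16, 18, 22, 1, 21, 10, 9, 19, 7, 14, 0, 6, 11, 3, 15, 17, 20, 8, 2, 13, 23] (by decide +kernel) (by decide +kernel)

theorem m23G3_mem : m23G3 ∈ Spor.M23 :=
  m23_mem_of_lst (by decide +kernel)

def m23G4 : Equiv.Perm GolayPt :=
  mkPerm [18, 7, 2, 3, 11, 21, 13, 1, 20, 9, 19, 4, 17, 6, 14, 15, 16, 12, 0, 10, 8, 5, 22, 23] [18, 7, 2, 3, 11, 21, 13, 1, 20, 9, 19, 4, 17, 6, 14, 15, 16, 12, 0, 10, 8, 5, 22, 23] (by decide +kernel) (by decide +kernel)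

theorem m23G4_mem : m23G4 ∈ Spor.M23 :=
  m23_mem_of_lst (by decide +kernel)

def m23G5 : Equiv.Perm GolayPt :=
  mkPerm [0, 1, 2, 3, 6, 14, 18, 11, 16, 20, 9, 13, 22, 7, 17, 15, 19, 5, 4, 8, 10, 12, 21, 23] [0, 1, 2, 3, 18, 17, 4, 13, 19, 10, 20, 7, 21, 11, 5, 15, 8, 14, 6, 16, 9, 22, 12, 23] (by decide +kernel) (by decide +kernel)

theorem m23G5_mem : m23G5 ∈ Spor.M23 :=
  m23_mem_of_lst (by decide +kernel)

def m23G6 : Equiv.Perm GolayPt :=
  mkPerm [0, 1, 2, 3, 18, 17, 4, 13, 19, 10, 20, 7, 21, 11, 5, 15, 8, 14, 6, 16, 9, 22, 12, 23] [0, 1, 2, 3, 6, 14, 18, 11, 16, 20, 9, 13, 22, 7, 17, 15, 19, 5, 4, 8, 10, 12, 21, 23] (by decide +kernel) (by decide +kernel)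

theorem m23G6_mem : m23G6 ∈ Spor.M23 :=
  m23_mem_of_lst (by decide +kernel)

def m23G7 : Equiv.Perm GolayPt :=
  mkPerm [0, 1, 2, 8, 13, 18, 14, 17, 19, 20, 9, 6, 7, 22, 11, 15, 16, 12, 21, 3, 10, 5, 4, 23] [0, 1, 2, 19, 22, 21, 11, 12, 3, 10, 20, 14, 17, 4, 6, 15, 16, 7, 5, 8, 9, 18, 13, 23] (by decide +kernel) (by decide +kernel)

theorem m23G7_mem : m23G7 ∈ Spor.M23 :=
  m23_mem_of_lst (by decide +kernel)

def m23G8 : Equiv.Perm GolayPt :=
  mkPerm [0, 1, 2, 8, 21, 12, 13, 22, 3, 9, 10, 17, 5, 6, 18, 15, 19, 11, 14, 16, 20, 4, 7, 23] [0, 1, 2, 8, 21, 12, 13, 22, 3, 9, 10, 17, 5, 6, 18, 15, 19, 11, 14, 16, 20, 4, 7, 23] (by decide +kernel) (by decide +kernel)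

theorem m23G8_mem : m23G8 ∈ Spor.M23 :=
  m23_mem_of_lst (by decide +kernel)

def m23G9 : Equiv.Perm GolayPt :=
  mkPerm [0, 1, 2, 16, 7, 4, 17, 5, 8, 10, 20, 18, 11, 21, 13, 15, 19, 22, 12, 3, 9, 14, 6, 23] [0, 1, 2, 19, 5, 7, 22, 4, 8, 20, 9, 12, 18, 14, 21, 15, 3, 6, 11, 16, 10, 13, 17, 23] (by decide +kernel) (by decide +kernel)

theorem m23G9_mem : m23G9 ∈ Spor.M23 :=
  m23_mem_of_lst (by decide +kernel)

def m23G10 : Equiv.Perm GolayPt :=
  mkPerm [0, 1, 4, 8, 6, 15, 21, 14, 16, 19, 20, 13, 2, 17, 5, 11, 9, 7, 22, 10, 3, 18, 12, 23] [0, 1, 12, 20, 2, 14, 4, 17, 3, 16, 19, 15, 22, 11, 7, 5, 8, 13, 21, 9, 10, 6, 18, 23] (by decide +kernel) (by decide +kernel)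

theorem m23G10_mem : m23G10 ∈ Spor.M23 :=
  m23_mem_of_lst (by decide +kernel)

def m23G11 : Equiv.Perm GolayPt :=
  mkPerm [0, 1, 4, 8, 21, 5, 22, 13, 9, 3, 19, 17, 12, 14, 7, 11, 10, 15, 6, 16, 20, 2, 18, 23] [0, 1, 21, 9, 2, 5, 18, 14, 3, 8, 16, 15, 12, 7, 13, 17, 19, 11, 22, 10, 20, 4, 6, 23] (by decide +kernel) (by decide +kernel)

theorem m23G11_mem : m23G11 ∈ Spor.M23 :=
  m23_mem_of_lst (by decide +kernel)

def m23G12 : Equiv.Perm GolayPt :=
  mkPerm [0, 1, 4, 9, 2, 12, 14, 18, 8, 3, 19, 15, 5, 22, 6, 11, 16, 17, 7, 10, 20, 21, 13, 23] [0, 1, 4, 9, 2, 12, 14, 18, 8, 3, 19, 15, 5, 22, 6, 11, 16, 17, 7, 10, 20, 21, 13, 23] (by decide +kernel) (by decide +kernel)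

theorem m23G12_mem : m23G12 ∈ Spor.M23 :=
  m23_mem_of_lst (by decide +kernel)

def m23G13 : Equiv.Perm GolayPt :=
  mkPerm [0, 1, 4, 9, 14, 6, 7, 15, 16, 20, 3, 22, 13, 18, 17, 11, 10, 12, 2, 8, 19, 5, 21, 23] [0, 1, 18, 10, 2, 21, 5, 6, 19, 3, 16, 15, 17, 12, 4, 7, 8, 14, 13, 20, 9, 22, 11, 23] (by decide +kernel) (by decide +kernel)

theorem m23G13_mem : m23G13 ∈ Spor.M23 :=
  m23_mem_of_lst (by decide +kernel)

def m23G14 : Equiv.Perm GolayPt :=
  mkPerm [0, 1, 4, 10, 13, 21, 15, 5, 9, 19, 20, 6, 17, 2, 14, 11, 16, 18, 12, 8, 3, 7, 22, 23] [0, 1, 13, 20, 2, 7, 11, 21, 19, 8, 3, 15, 18, 4, 14, 6, 16, 12, 17, 9, 10, 5, 22, 23] (by decide +kernel) (by decide +kernel)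

theorem m23G14_mem : m23G14 ∈ Spor.M23 :=
  m23_mem_of_lst (by decide +kernel)

def m23G15 : Equiv.Perm GolayPt :=
  mkPerm [0, 1, 5, 3, 6, 17, 7, 4, 9, 19, 16, 13, 21, 18, 14, 12, 20, 2, 11, 8, 10, 15, 22, 23] [0, 1, 17, 3, 7, 2, 4, 6, 19, 8, 20, 18, 15, 11, 14, 21, 10, 5, 13, 9, 16, 12, 22, 23] (by decide +kernel) (by decide +kernel)

theorem m23G15_mem : m23G15 ∈ Spor.M23 :=
  m23_mem_of_lst (by decide +kernel)

def m23G16 : Equiv.Perm GolayPt :=
  mkPerm [0, 1, 5, 3, 11, 2, 6, 18, 8, 16, 10, 4, 15, 13, 17, 12, 9, 14, 7, 20, 19, 22, 21, 23] [0, 1, 5, 3, 11, 2, 6, 18, 8, 16, 10, 4, 15, 13, 17, 12, 9, 14, 7, 20, 19, 22, 21, 23] (by decide +kernel) (by decide +kernel)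

theorem m23G16_mem : m23G16 ∈ Spor.M23 :=
  m23_mem_of_lst (by decide +kernel)

def m23G17 : Equiv.Perm GolayPt :=
  mkPerm [0, 1, 5, 8, 22, 15, 13, 21, 3, 16, 10, 14, 2, 6, 7, 12, 20, 4, 17, 9, 19, 11, 18, 23] [0, 1, 12, 8, 17, 2, 13, 14, 3, 19, 10, 21, 15, 6, 11, 5, 9, 18, 22, 20, 16, 7, 4, 23] (by decide +kernel) (by decide +kernel)

theorem m23G17_mem : m23G17 ∈ Spor.M23 :=
  m23_mem_of_lst (by decide +kernel)

def m23G18 : Equiv.Perm GolayPt :=
  mkPerm [0, 1, 5, 9, 18, 11, 14, 2, 8, 10, 19, 7, 4, 22, 13, 12, 20, 21, 15, 3, 16, 17, 6, 23] [0, 1, 7, 19, 12, 2, 22, 11, 8, 3, 9, 5, 15, 14, 6, 18, 20, 21, 4, 10, 16, 17, 13, 23] (by decide +kernel) (by decide +kernel)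

theorem m23G18_mem : m23G18 ∈ Spor.M23 :=
  m23_mem_of_lst (by decide +kernel)

def m23G19 : Equiv.Perm GolayPt :=
  mkPerm [0, 1, 6, 9, 7, 12, 15, 14, 20, 8, 10, 18, 5, 2, 17, 13, 19, 4, 22, 16, 3, 11, 21, 23] [0, 1, 13, 20, 17, 12, 2, 4, 9, 3, 10, 21, 5, 15, 7, 6, 19, 14, 11, 16, 8, 22, 18, 23] (by decide +kernel) (by decide +kernel)

theorem m23G19_mem : m23G19 ∈ Spor.M23 :=
  m23_mem_of_lst (by decide +kernel)

def m23G20 : Equiv.Perm GolayPt :=
  mkPerm [0, 1, 6, 16, 18, 15, 12, 17, 19, 8, 10, 7, 2, 5, 14, 13, 20, 11, 21, 9, 3, 4, 22, 23] [0, 1, 12, 20, 21, 13, 2, 11, 9, 19, 10, 17, 6, 15, 14, 5, 3, 7, 4, 8, 16, 18, 22, 23] (by decide +kernel) (by decide +kernel)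

theorem m23G20_mem : m23G20 ∈ Spor.M23 :=
  m23_mem_of_lst (by decide +kernel)

def m23G21 : Equiv.Perm GolayPt :=
  mkPerm [0, 1, 6, 19, 5, 21, 14, 11, 9, 3, 8, 12, 17, 22, 7, 13, 20, 2, 4, 16, 10, 15, 18, 23] [0, 1, 17, 9, 18, 4, 2, 14, 10, 8, 20, 7, 11, 15, 6, 21, 19, 12, 22, 3, 16, 5, 13, 23] (by decide +kernel) (by decide +kernel)

theorem m23G21_mem : m23G21 ∈ Spor.M23 :=
  m23_mem_of_lst (by decide +kernel)

def m23G22 : Equiv.Perm GolayPt :=
  mkPerm [0, 1, 7, 10, 2, 11, 13, 12, 8, 16, 3, 15, 4, 6, 17, 18, 19, 22, 5, 20, 9, 14, 21, 23] [0, 1, 4, 10, 12, 18, 13, 2, 8, 20, 3, 5, 7, 6, 21, 11, 9, 14, 15, 16, 19, 22, 17, 23] (by decide +kernel) (by decide +kernel)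

theorem m23G22_mem : m23G22 ∈ Spor.M23 :=
  m23_mem_of_lst (by decide +kernel)

def m23G23 : Equiv.Perm GolayPt :=
  mkPerm [0, 1, 7, 10, 13, 17, 5, 15, 19, 9, 16, 6, 21, 12, 22, 18, 20, 11, 2, 8, 3, 4, 14, 23] [0, 1, 18, 20, 21, 6, 11, 2, 19, 9, 3, 17, 13, 4, 22, 7, 10, 5, 15, 8, 16, 12, 14, 23] (by decide +kernel) (by decide +kernel)

theorem m23G23_mem : m23G23 ∈ Spor.M23 :=
  m23_mem_of_lst (by decide +kernel)

def m23G24 : Equiv.Perm GolayPt :=
  mkPerm [0, 1, 14, 3, 18, 5, 11, 6, 20, 8, 19, 7, 12, 4, 17, 22, 10, 2, 13, 16, 9, 15, 21, 23] [0, 1, 17, 3, 13, 5, 7, 11, 9, 20, 16, 6, 12, 18, 2, 21, 19, 14, 4, 10, 8, 22, 15, 23] (by decide +kernel) (by decide +kernel)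

theorem m23G24_mem : m23G24 ∈ Spor.M23 :=
  m23_mem_of_lst (by decide +kernel)

def m23G25 : Equiv.Perm GolayPt :=
  mkPerm [18, 11, 17, 3, 4, 0, 2, 15, 9, 19, 20, 7, 13, 5, 6, 22, 16, 21, 12, 10, 8, 14, 1, 23] [5, 22, 6, 3, 4, 13, 14, 11, 20, 8, 19, 1, 18, 12, 21, 7, 16, 2, 0, 9, 10, 17, 15, 23] (by decide +kernel) (by decide +kernel)

theorem m23G25_mem : m23G25 ∈ Spor.M23 :=
  m23_mem_of_lst (by decide +kernel)

def m23G26 : Equiv.Perm GolayPt :=
  mkPerm [0, 22, 4, 3, 11, 6, 2, 13, 19, 20, 10, 5, 21, 18, 7, 12, 9, 14, 17, 16, 8, 1, 15, 23] [0, 21, 6, 3, 2, 11, 5, 14, 20, 16, 10, 4, 15, 7, 17, 22, 19, 18, 13, 8, 9, 12, 1, 23] (by decide +kernel) (by decide +kernel)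

theorem m23G26_mem : m23G26 ∈ Spor.M23 :=
  m23_mem_of_lst (by decide +kernel)

def m23G27 : Equiv.Perm GolayPt :=
  mkPerm [5, 17, 21, 7, 20, 11, 6, 15, 0, 3, 16, 19, 4, 13, 2, 12, 18, 8, 22, 1, 9, 10, 14, 23] [8, 19, 14, 9, 12, 0, 6, 3, 17, 20, 21, 5, 15, 13, 22, 7, 10, 1, 16, 11, 4, 2, 18, 23] (by decide +kernel) (by decide +kernel)

theorem m23G27_mem : m23G27 ∈ Spor.M23 :=
  m23_mem_of_lst (by decide +kernel)

def m23G28 : Equiv.Perm GolayPt :=
  mkPerm [11, 17, 1, 9, 6, 3, 12, 21, 18, 10, 7, 5, 16, 13, 15, 0, 20, 8, 4, 14, 22, 19, 2, 23] [15, 2, 22, 5, 18, 11, 4, 10, 17, 3, 9, 0, 6, 13, 19, 14, 12, 1, 8, 21, 16, 7, 20, 23] (by decide +kernel) (by decide +kernel)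

theorem m23G28_mem : m23G28 ∈ Spor.M23 :=
  m23_mem_of_lst (by decide +kernel)

def m23G29 : Equiv.Perm GolayPt :=
  mkPerm [1, 0, 15, 3, 11, 12, 13, 18, 8, 9, 10, 4, 5, 6, 22, 2, 16, 21, 7, 19, 20, 17, 14, 23] [1, 0, 15, 3, 11, 12, 13, 18, 8, 9, 10, 4, 5, 6, 22, 2, 16, 21, 7, 19, 20, 17, 14, 23] (by decide +kernel) (by decide +kernel)

theorem m23G29_mem : m23G29 ∈ Spor.M23 :=
  m23_mem_of_lst (by decide +kernel)

def m23Gens : List Spor.M23 :=
  [⟨m23G0, m23G0_mem⟩, ⟨m23G1, m23G1_mem⟩, ⟨m23G2, m23G2_mem⟩, ⟨m23G3, m23G3_mem⟩, ⟨m23G4, m23G4_mem⟩, ⟨m23G5, m23G5_mem⟩, ⟨m23G6, m23G6_mem⟩, ⟨m23G7, m23G7_mem⟩, ⟨m23G8, m23G8_mem⟩, ⟨m23G9, m23G9_mem⟩, ⟨m23G10, m23G10_mem⟩, ⟨m23G11, m23G11_mem⟩, ⟨m23G12, m23G12_mem⟩, ⟨m23G13, m23G13_mem⟩, ⟨m23G14, m23G14_mem⟩, ⟨m23G15, m23G15_mem⟩, ⟨m23G16, m23G16_mem⟩, ⟨m23G17, m23G17_mem⟩, ⟨m23G18, m23G18_mem⟩, ⟨m23G19, m23G19_mem⟩, ⟨m23G20, m23G20_mem⟩, ⟨m23G21, m23G21_mem⟩, ⟨m23G22, m23G22_mem⟩, ⟨m23G23, m23G23_mem⟩, ⟨m23G24,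 m23G24_mem⟩, ⟨m23G25, m23G25_mem⟩, ⟨m23G26, m23G26_mem⟩, ⟨m23G27, m23G27_mem⟩, ⟨m23G28, m23G28_mem⟩, ⟨m23G29, m23G29_mem⟩]

def m23Cert : Cert where
  N := 10200960
  k := 7
  gl := [955681909631075276529572030696428085, 971150303151614377247369087622875345, 965184431471268011861685091496886754, 962181433932630277097553824389289165, 984153616618154530700594987064723698, 983141956895601025126892051911247904, 971863989228759034920585190470420512, 960790564754117324951733177152702496, 964657405367238315514736180932642848, 963750518154675256117136149588740128, 971693905901140164124248607834771488, 978855082329972544055602211049443360, 973135206459819183275216022251278368, 982869409800440208494083134084911136, 984228343862648447533636763646234656, 984561734118472490303675771648054304, 983559493361839570066624664967418912, 979218633957594519936604340446565408, 963881089842728872823583600816722976, 983092857679001500396780809895581728, 984106699894680119171227893918865440,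 979369745507037102442019533673306144, 983222296148099453535616782460853280, 973722043042867079882740736588061728, 983262711630060236594300458377525280, 957259156687418489586470736529311090, 974905096637145197772678277887005376, 973972785203219257102800188359300645, 958777950160398972317139807630558763, 974271378078775784296264517851134977]
  gli := [976173885641833076600506519814523126, 981594011718049337179185483116546159, 965184431471268011861685091496886754, 972349671514802555542989653341114540, 984153616618154530700594987064723698, 971863989228759034920585190470420512, 983141956895601025126892051911247904, 972999485754846373062537313023264800, 964657405367238315514736180932642848, 977990550453851621981231868930525216, 979004406291315387571902027544539168, 963359103371707079901856333612504096, 973135206459819183275216022251278368, 970566082135727252058547678649600032, 984156133349914315236139221681583136, 984447687758720651246420695576593440, 983559493361839570066624664967418912,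 960879975196727618321231244199997472, 972967873026611315860012049128594464, 979651173068621908993211631935304736, 984691025986727306549890795238469664, 972480839831209390274884550439257120, 978367047950466704177579717896245280, 974063056902930096499441712986998816, 975756704075213869718816623766389792, 975556370246175414582964735921199813, 957179216596964597412266928525908640, 978834613687630791673431262635539048, 981649184260108469800261297507588175, 974271378078775784296264517851134977]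
  sgen := [2, 3, 4]
  reps := [5, 6, 7, 8, 9, 10, 11, 12, 13, 14, 15, 16, 17, 18, 19, 20, 21, 22, 23, 24]
  z := 29
  sKids := [[[0, 1, 2]], [[1, 2], [0, 1, 2], [0, 1]], [[0, 1, 2], [0, 1], [1, 2], [1, 2], [0, 1], [1, 2], [0, 1, 2]], [[1, 2], [1, 2], [0, 1], [1, 2], [0, 1, 2], [0, 1, 2], [0], [1, 2], [0], [1, 2], [0, 2], [0, 1, 2], [1], [1, 2], [1, 2], [0, 1]], [[0, 1, 2], [0], [1, 2], [0], [1, 2], [0, 2], [0, 1, 2], [1], [1, 2], [1, 2], [0, 1], [1], [2], [0, 1], [1, 2], [2], [0], [], [], [1], [1, 2], [0, 1], [2], [1], [0, 1], [1], [1, 2], [], [], [], [1], []], [[1], [2], [0, 1], [1, 2], [2], [0], [], [], [1], [1, 2], [0, 1], [2], [1], [0, 1], [1], [1, 2], [], [], [], [1], [], [], [], [], [2], [0], [], [0], [], [], [], [], [], [], [], [], [], [], [], [], [], []], [[], [], [], [2], [0], [], [0], [], [], [], [], [], [], [], [], [], [], [], [], [], [], [], [], []]]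
  tree := (.node (.node (.node (.node (.node (.node (.node (.node .leaf 955557893680141210796764477934127822 .leaf) 955596407256088630659353132892953679 .leaf) 955652119563602851545591037621815766 (.node .leaf 955839399736335623178679639157623266 .leaf)) 955895072399166901571855024740900558 (.node (.node .leaf 955934859846015657443868920148772943 .leaf) 956085672456285562750127642990091734 (.node .leaf 956258982669103147995910003905535458 .leaf))) 956853510584211507772779127388609615 (.node (.node (.node .leaf 956909209242952893168460666846595542 .leaf) 956948990500932576828738634005978594 (.node .leaf 957139905265620284117002432279584214 .leaf)) 957178425030436751619687449268603362 (.node (.node .leaf 957234163335523352510401622987349710 .leaf) 957394807664753461959487349185857615 (.node .leaf 957545989699368968489687850797255374 .leaf)))) 958165520274320247462705776182179872 (.node (.node (.node (.node .leaf 958206481288439409554689914984060929 .leaf) 958247829746963690585297924395645511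 (.node .leaf 958438413981660819323337838880635122 .leaf)) 958491654123029776345535349027625202 (.node (.node .leaf 958517069055307886567932065725560833 .leaf) 958678932787022689943756597827328032 (.node .leaf 958843626937166754525970162888333895 .leaf))) 960587933351109502948760575636773253 (.node (.node (.node .leaf 960626035868892291608124654803327541 .leaf) 960680536743425706732180735520159285 (.node .leaf 960883757112312626138412449192319665 .leaf)) 961153775494503273101691998281676465 (.node (.node .leaf 961196841416817876566665541662028972 .leaf) 961331217541610709753494514503358636 (.node .leaf 961493041318364453717986256020321669 .leaf))))) 961883940190313113814226171962348966 (.node (.node (.node (.node (.node .leaf 961939243884942977626484509626619236 .leaf) 961979005877215818230049167295759782 (.node .leaf 962181433932630277097553824389289165 .leaf)) 962453902230005809274263964370453860 (.node (.node .leaf 962507587201977599580186939218838667 .leaf)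 962616596665577807202401157200237707 (.node .leaf 962775970590841686567789478923060429 .leaf))) 963197187851499339712709248346591797 (.node (.node (.node .leaf 963236530785202266328631411428397445 .leaf) 963277882260638539407746755732188849 (.node .leaf 963465585051132684685100060207321260 .leaf)) 963752410945236156563353509651033653 (.node (.node .leaf 963790499110652424937400410654125445 .leaf) 963914233902867708257474548808651441 (.node .leaf 964087996373361057745146930102021292 .leaf)))) 964656281313489737325513718937781718 (.node (.node (.node (.node .leaf 964696450014891302704697108953825998 .leaf) 964723086825080432918270976529106638 (.node .leaf 964941477668940595995134250890396751 .leaf)) 964969375908673268018574928375185487 (.node (.node .leaf 965009505027350840263744586250290658 .leaf) 965184431471268011861685091496886754 (.node .leaf 965331955393066766655529846980477398 .leaf))) 969671981924954063192077933333296817 (.node (.node (.node .leaf 969715022585554261527336585435133100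 .leaf) 969756023724487952880703215389645189 (.node .leaf 969971519506274857878344807106065797 .leaf)) 970255037625123038704476607485581484 (.node (.node .leaf 970294407058479892866370481024408241 .leaf) 970416497865794874593203454521488949 (.node .leaf 970564804575788972593470414900435509 .leaf)))))) 970985189941420108385821221972362379 (.node (.node (.node (.node (.node (.node .leaf 971011015807833808451492253381706957 .leaf) 971066755891891694023351105442927972 (.node .leaf 971256912247997952834622863081751908 .leaf)) 971537963183364983926141598135604646 (.node (.node .leaf 971592876191854491453978603539256525 .leaf) 971714174686527505812870026118055334 (.node .leaf 971864948642036018173344314891031691 .leaf))) 972282490458603511397536283198860460 (.node (.node (.node .leaf 972324263468604255511164231271689905 .leaf) 972349671514802555542989653341114540 (.node .leaf 972554549484873247175738540037353013 .leaf)) 972850002583640325589272699156828549 (.node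 (.node .leaf 972891735244531806972019640410575413 .leaf) 972998312187273911641646800543264133 (.node .leaf 973163457357682037475861800546734769 .leaf)))) 973728855406238514386715733146470642 (.node (.node (.node (.node .leaf 973771501256562028186416545792113696 .leaf) 973812501854124091075376585117272065 (.node .leaf 974027552735757545258125379239413792 .leaf)) 974052977602195236258224479353814599 (.node (.node .leaf 974107485363525671234639150620084807 .leaf) 974271378078775784296264517851134977 (.node .leaf 974432400498763181007370581435333874 .leaf))) 975029424069989400852599097053960775 (.node (.node (.node .leaf 975082666687842886276911085363771975 .leaf) 975108066764236591463994591196764192 (.node .leaf 975324452145233169292198352171587585 .leaf)) 975365413159956401147756746068047904 (.node (.node .leaf 975406749238475924917486082479118578 .leaf) 975556331367665330780597394247629042 (.node .leaf 975716143082294306390920575114655745 .leaf))))) 977463317787014241461657057764061389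 (.node (.node (.node (.node (.node .leaf 977514937372086307399818469827948683 .leaf) 977541567296536224286345642608006283 (.node .leaf 977759521595809769088137105701876134 .leaf)) 978043911255877177764005619541578957 (.node (.node .leaf 978071354374895827306234517550896550 .leaf) 978191000219200901902342868880077156 (.node .leaf 978367195273832075589349095043601764 .leaf))) 978936350469804472419429034862150114 (.node (.node (.node .leaf 978964228902420971091513266896635362 .leaf) 979004358021174494346641898587914319 (.node .leaf 979219067231357416474505470382539470 .leaf)) 979259235932683817136196005567923670 (.node (.node .leaf 979285840556507496872062850945876438 .leaf) 979448496538679824104301669845042894 (.node .leaf 979625516857794779063548098374009935 .leaf)))) 982666678115939930290828447834445156 (.node (.node (.node (.node .leaf 982696188091911059656002911569712550 .leaf) 982736317751960367587279085390377165 (.node .leaf 982937075826676439675591105319539851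 .leaf)) 983234982553504195616218364747296907 (.node (.node .leaf 983261197636003358778484361505386852 .leaf) 983398022374762021369886344714130637 (.node .leaf 983560717692735993919980769309208998 .leaf))) 984128206606015588195678877413555201 (.node (.node (.node .leaf 984153616618154530700594987064723698 .leaf) 984208126854382805097786570708630770 (.node .leaf 984397401348519143911269090987621959 .leaf)) 984440034820424418582873337463146497 (.node (.node .leaf 984481035417004622389629550076640288 .leaf) 984654736332168098914513546326936135 (.node .leaf 984818244535754528103549039458486304 .leaf)))))))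
  cKids := [[[0, 1]], [[0, 1], [0, 1]], [[0, 1], [0, 1], [0, 1], [0, 1]], [[0, 1], [0, 1], [0, 1], [0, 1], [0, 1], [0, 1], [0, 1], [0, 1]], [[0, 1], [0, 1], [0, 1], [0, 1], [0, 1], [0, 1], [0, 1], [0, 1], [0, 1], [0, 1], [0, 1], [0, 1], [0, 1], [0, 1], [0, 1], [0, 1]], [[0, 1], [0, 1], [0, 1], [0, 1], [0, 1], [0, 1], [0, 1], [0, 1], [0, 1], [0, 1], [0, 1], [0, 1], [0, 1], [0, 1], [0, 1], [0, 1], [0, 1], [0, 1], [0, 1], [0, 1], [0, 1], [0, 1], [0, 1], [0, 1], [0, 1], [0, 1], [0, 1], [0, 1], [0, 1], [0, 1], [0, 1], [0, 1]], [[0, 1], [0, 1], [0, 1], [0, 1], [0, 1], [0, 1], [0, 1], [0, 1], [0, 1], [0, 1], [0, 1], [0, 1], [0, 1], [0, 1], [1], [0, 1], [0, 1], [0, 1], [0, 1], [0, 1], [0, 1], [0, 1], [0, 1], [0, 1], [0, 1], [0, 1], [0, 1], [0, 1], [0, 1], [0], [0, 1], [0, 1], [0, 1], [0, 1], [0, 1], [0, 1], [0, 1], [0, 1], [0, 1], [0, 1], [0, 1], [0, 1], [1], [0, 1], [0, 1], [0, 1], [0, 1], [0, 1], [0, 1], [0, 1], [1], [0, 1], [1], [0, 1], [0, 1], [0, 1], [0, 1],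 [0, 1], [0, 1], [0, 1], [0, 1], [0, 1], [0], [0, 1]], [[0, 1], [0, 1], [0, 1], [0, 1], [0, 1], [0, 1], [0, 1], [0, 1], [0, 1], [0, 1], [0, 1], [0, 1], [0, 1], [0, 1], [1], [0, 1], [0], [0, 1], [0, 1], [0, 1], [0, 1], [0, 1], [0, 1], [0, 1], [0], [0, 1], [0, 1], [0], [0, 1], [0, 1], [1], [0, 1], [0, 1], [0, 1], [0, 1], [0, 1], [0, 1], [0, 1], [0, 1], [0, 1], [0, 1], [0, 1], [0, 1], [0, 1], [0, 1], [0, 1], [0, 1], [0, 1], [0, 1], [0, 1], [0], [0, 1], [0, 1], [1], [0, 1], [0, 1], [1], [0, 1], [0, 1], [0], [1], [0, 1], [0, 1], [0, 1], [0, 1], [0, 1], [0, 1], [0], [0, 1], [0, 1], [0, 1], [0, 1], [0, 1], [0, 1], [0, 1], [0], [0, 1], [0, 1], [0, 1], [0, 1], [1], [0, 1], [0, 1], [0, 1], [0, 1], [0, 1], [0, 1], [0, 1], [0, 1], [0, 1], [0, 1], [0, 1], [0, 1], [0, 1], [0, 1], [0, 1], [0, 1], [0, 1], [1], [0, 1], [0, 1], [1], [0], [0, 1], [0, 1], [0, 1], [0, 1], [0, 1], [0, 1], [0, 1], [0, 1], [0, 1], [0], [1], [1], [1], [0, 1], [0, 1], [0, 1], [0, 1], [0, 1], [0, 1]],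 [[0, 1], [0, 1], [0, 1], [1], [1], [0, 1], [0, 1], [0, 1], [0, 1], [0, 1], [0, 1], [0, 1], [1], [0, 1], [0, 1], [0], [0, 1], [0], [0, 1], [1], [0, 1], [0, 1], [0, 1], [0, 1], [0, 1], [1], [0, 1], [0, 1], [0, 1], [0, 1], [0, 1], [0, 1], [0, 1], [0, 1], [0, 1], [0, 1], [0, 1], [0], [0, 1], [0, 1], [0, 1], [0, 1], [0, 1], [0, 1], [0, 1], [1], [0, 1], [0], [0, 1], [0, 1], [0, 1], [0, 1], [0], [0, 1], [0, 1], [1], [0, 1], [1], [0, 1], [0, 1], [0, 1], [0, 1], [0, 1], [0, 1], [0, 1], [0, 1], [0, 1], [1], [0, 1], [0, 1], [0, 1], [0, 1], [1], [0, 1], [0, 1], [0, 1], [0, 1], [0, 1], [0, 1], [0], [0, 1], [0], [0, 1], [0, 1], [0, 1], [0, 1], [0, 1], [0, 1], [0, 1], [0, 1], [0], [0, 1], [0, 1], [0, 1], [0, 1], [0, 1], [0, 1], [1], [0], [0, 1], [0, 1], [0, 1], [1], [0], [0, 1], [0, 1], [1], [0, 1], [0, 1], [0, 1], [0, 1], [0, 1], [0, 1], [0, 1], [0, 1], [0, 1], [0, 1], [0, 1], [0, 1], [1], [0, 1], [0], [0, 1], [0, 1], [1], [0, 1], [0], [0, 1], [0, 1], [0, 1], [0, 1], [0,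 1], [0, 1], [0, 1], [0, 1], [0], [0, 1], [0, 1], [0, 1], [0, 1], [0, 1], [0, 1], [0, 1], [0], [0, 1], [0, 1], [0, 1], [], [0, 1], [0, 1], [0, 1], [0, 1], [1], [0, 1], [0, 1], [0, 1], [0, 1], [0, 1], [0], [0, 1], [0, 1], [0, 1], [0, 1], [0], [0, 1], [0, 1], [0, 1], [0, 1], [], [0, 1], [0, 1], [0, 1], [0, 1], [0, 1], [0, 1], [0, 1], [1], [0, 1], [0, 1], [1], [0, 1], [0, 1], [0, 1], [1], [0, 1], [0, 1], [1], [0, 1], [0, 1], [0, 1], [0, 1], [0, 1], [0, 1], [0, 1], [1], [0, 1], [0, 1], [0, 1], [1], [0, 1], [0, 1], [0, 1], [0], [0, 1], [0, 1], [0, 1], [0, 1], [1], [0, 1], [0, 1], [1], [0, 1], [0, 1], [0, 1], [0, 1], [0, 1], [1], [0, 1], [0, 1], [0, 1], [0, 1], [0, 1], [0, 1], [0, 1]], [[0, 1], [1], [0, 1], [0, 1], [1], [0], [0, 1], [1], [0, 1], [0, 1], [0, 1], [0, 1], [0, 1], [0, 1], [0, 1], [0], [0, 1], [0, 1], [0, 1], [0, 1], [0, 1], [0, 1], [0, 1], [0, 1], [0, 1], [0, 1], [0, 1], [1], [0, 1], [0, 1], [0, 1], [0], [], [0], [0, 1], [0, 1], [0, 1], [1], [0, 1],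 [0, 1], [0, 1], [0, 1], [0, 1], [0, 1], [0], [0, 1], [0, 1], [0, 1], [0, 1], [1], [0, 1], [0, 1], [0, 1], [0, 1], [0, 1], [0, 1], [0, 1], [0, 1], [0, 1], [0, 1], [0, 1], [0, 1], [0, 1], [1], [0, 1], [0, 1], [0, 1], [0, 1], [0, 1], [0, 1], [0, 1], [0, 1], [0, 1], [0, 1], [0, 1], [0, 1], [0, 1], [0, 1], [1], [0, 1], [0, 1], [1], [0, 1], [0, 1], [0, 1], [0, 1], [0, 1], [0], [0, 1], [1], [0, 1], [0, 1], [0], [1], [0, 1], [0, 1], [0, 1], [0, 1], [0, 1], [0, 1], [0, 1], [0, 1], [0, 1], [0, 1], [0, 1], [0, 1], [1], [0, 1], [0, 1], [0, 1], [1], [0, 1], [0], [0, 1], [0, 1], [0, 1], [0, 1], [0, 1], [0, 1], [0, 1], [0, 1], [1], [0, 1], [0, 1], [1], [0, 1], [0], [0, 1], [1], [], [0, 1], [0], [0, 1], [0, 1], [0, 1], [0, 1], [0, 1], [1], [1], [0, 1], [0], [0, 1], [0], [0, 1], [0, 1], [0, 1], [0, 1], [0, 1], [0, 1], [0], [0, 1], [0, 1], [0, 1], [0, 1], [0, 1], [0, 1], [0], [0, 1], [1], [0, 1], [0, 1], [0, 1], [0], [0], [0, 1], [0, 1], [0, 1], [0, 1], [0, 1], [0, 1], [0,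 1], [0, 1], [0, 1], [1], [0, 1], [0, 1], [0, 1], [0, 1], [0, 1], [0, 1], [0, 1], [0, 1], [0, 1], [0, 1], [1], [1], [0, 1], [0, 1], [0, 1], [0, 1], [0, 1], [0, 1], [1], [0], [0, 1], [0, 1], [], [0, 1], [1], [1], [0, 1], [0, 1], [0], [0, 1], [1], [1], [0, 1], [0], [0, 1], [0, 1], [0], [1], [0, 1], [0, 1], [0, 1], [0, 1], [1], [0, 1], [0, 1], [0, 1], [0, 1], [0, 1], [0, 1], [1], [], [0, 1], [1], [1], [0, 1], [0, 1], [0, 1], [0, 1], [0, 1], [0, 1], [0, 1], [1], [0, 1], [0], [0, 1], [0, 1], [0, 1], [0], [0, 1], [0, 1], [1], [0, 1], [0, 1], [0, 1], [0, 1], [0, 1], [0, 1], [0, 1], [0, 1], [0], [1], [0, 1], [0], [0, 1], [1], [0], [0, 1], [0, 1], [0, 1], [0, 1], [0], [0, 1], [0, 1], [0, 1], [0, 1], [0], [0], [0, 1], [0, 1], [0, 1], [1], [1], [0, 1], [0, 1], [1], [0, 1], [0, 1], [0, 1], [0, 1], [0, 1], [0, 1], [0, 1], [1], [1], [0, 1], [], [0, 1], [0], [0, 1], [0, 1], [1], [0], [0], [0], [0, 1], [1], [0, 1], [0, 1], [0, 1], [0, 1], [1], [0], [0, 1], [0, 1], [1], [0],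 [0, 1], [0, 1], [0, 1], [1], [0, 1], [0, 1], [1], [0, 1], [0], [0, 1], [0], [0, 1], [0, 1], [0, 1], [0, 1], [0, 1], [0, 1], [0, 1], [0, 1], [0, 1], [0, 1], [0, 1], [0, 1], [0, 1], [1], [0, 1], [], [0, 1], [0], [1], [0, 1], [0, 1], [0, 1], [], [1], [0, 1], [1], [1], [0, 1], [0, 1], [0, 1], [0, 1], [0], [1], [0], [0, 1], [0, 1], [0, 1], [0, 1], [0], [0, 1], [1], [0, 1], [1], [0, 1], [1], [0, 1], [1], [0, 1], [0, 1], [], [1], [0], [0, 1], [0], [0, 1], [0, 1], [], [0], [0, 1], [0, 1], [1], [0, 1], [0, 1], [1], [0, 1], [0, 1], [1], [0, 1], [0], [0, 1], [0, 1], [1], [0, 1], [1], [0, 1], [], [0, 1], [0, 1], [0, 1], [0, 1], [0, 1]], [[1], [0, 1], [0], [0, 1], [0, 1], [0, 1], [0, 1], [0], [0, 1], [0, 1], [0], [], [1], [1], [0, 1], [1], [1], [0], [0, 1], [0, 1], [0, 1], [0, 1], [0, 1], [0, 1], [0, 1], [], [0, 1], [0], [], [0], [0, 1], [0, 1], [1], [0, 1], [], [0, 1], [1], [0], [0], [0, 1], [0, 1], [0, 1], [0, 1], [0, 1], [0], [], [1], [1], [1], [0], [0, 1], [1], [0,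 1], [1], [1], [0, 1], [0], [1], [0, 1], [0], [0], [1], [0], [0], [0, 1], [0, 1], [0, 1], [0, 1], [0], [0], [1], [0], [0, 1], [0, 1], [1], [0, 1], [0, 1], [0, 1], [0], [0], [0, 1], [0, 1], [0], [0, 1], [1], [0, 1], [0], [0, 1], [0, 1], [1], [1], [0, 1], [0], [0], [0, 1], [1], [0, 1], [0], [0, 1], [0], [0, 1], [1], [0, 1], [0, 1], [0, 1], [], [0, 1], [0, 1], [1], [1], [1], [0], [0, 1], [0, 1], [0], [0, 1], [0, 1], [0], [0, 1], [0, 1], [1], [0], [0], [0, 1], [], [0, 1], [1], [1], [0, 1], [0], [1], [0, 1], [0, 1], [0], [0, 1], [1], [0], [], [1], [0, 1], [0, 1], [0, 1], [0], [0], [0, 1], [0, 1], [], [0, 1], [0], [0, 1], [1], [1], [], [0], [0], [], [0, 1], [], [0, 1], [0, 1], [0], [0], [0, 1], [0, 1], [0, 1], [0], [], [0, 1], [0, 1], [0], [1], [0, 1], [0, 1], [0, 1], [0, 1], [1], [0, 1], [1], [], [0, 1], [], [0, 1], [0, 1], [0, 1], [], [], [0, 1], [0, 1], [0], [0, 1], [0, 1], [0, 1], [0, 1], [0, 1], [0, 1], [0, 1], [0, 1], [0, 1], [0, 1], [0, 1], [0], [0, 1], [0],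 [0, 1], [1], [1], [1], [0, 1], [0, 1], [0, 1], [0, 1], [1], [0, 1], [0, 1], [0, 1], [0, 1], [], [0, 1], [], [1], [0], [1], [0, 1], [0, 1], [0, 1], [1], [0, 1], [0], [0, 1], [0, 1], [0], [0, 1], [0, 1], [0, 1], [0], [0, 1], [], [0, 1], [0], [0, 1], [1], [], [], [0, 1], [0, 1], [0], [1], [0, 1], [0, 1], [0, 1], [0], [0, 1], [0, 1], [0, 1], [], [1], [1], [0, 1], [1], [0], [0, 1], [0, 1], [0, 1], [1], [0, 1], [0], [1], [0, 1], [1], [0, 1], [1], [0], [], [], [0], [0], [0, 1], [], [0, 1], [0], [0, 1], [0, 1], [0, 1], [0], [0, 1], [0], [0, 1], [], [0, 1], [0, 1], [1], [0, 1], [1], [1], [1], [1], [], [1], [0, 1], [1], [0, 1], [0], [], [1], [0, 1], [0, 1], [0, 1], [1], [1], [0, 1], [0, 1], [0, 1], [1], [1], [1], [0, 1], [1], [1], [0, 1], [0, 1], [0], [0, 1], [0, 1], [1], [0, 1], [0, 1], [0, 1], [0, 1], [0, 1], [0, 1], [], [0, 1], [1], [0], [], [0, 1], [0], [0, 1], [0, 1], [0, 1], [0, 1], [0, 1], [0, 1], [0, 1], [0, 1], [0, 1], [0], [], [0, 1], [0, 1], [], [0], [0,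 1], [0], [1], [0], [], [1], [], [0], [0, 1], [0, 1], [0, 1], [1], [], [0, 1], [], [1], [1], [1], [0, 1], [0], [0], [0, 1], [0, 1], [0, 1], [], [0, 1], [], [0, 1], [1], [0], [1], [0], [0], [], [], [0, 1], [1], [0, 1], [0], [0], [], [0, 1], [1], [], [0, 1], [1], [], [0, 1], [0], [0, 1], [0, 1], [0], [0, 1], [1], [0], [0, 1], [1], [0, 1], [1], [0, 1], [0, 1], [1], [0, 1], [], [0, 1], [0, 1], [0, 1], [0, 1], [1], [0], [0, 1], [], [0, 1], [0], [], [0, 1], [1], [], [0, 1], [0], [], [0, 1], [0], [0], [1], [], [1], [1], [1], [0], [0, 1], [1], [0], [0, 1], [], [0], [0, 1], [], [0, 1], [1], [1], [0, 1], [1], [0], [0, 1], [], [1], [0, 1], [1], [0], [0, 1], [0, 1], [], [0], [1], [0], [1], [0, 1], [0, 1], [0, 1], [0], [0], [0, 1], [0, 1], [0, 1], [0, 1], [], [1], [0, 1], [], [1], [], [0], [0], [1], [0, 1], [0, 1], [0], [0, 1], [0], [0, 1], [0], [1], [1], [1], [], [], [1], [0, 1], [0, 1], [0, 1], [0, 1], [], [0], [], [0, 1], [0], [], [1], [1], [0, 1], [1], [], [0], [0],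 [0, 1], [0], [1], [], [0, 1], [0], [1], [1], [0, 1], [1], [], [0], [], [1], [0, 1], [0, 1], [0], [0, 1], [0, 1], [0], [0, 1], [0], [], [0, 1], [0], [1], [0], [0, 1], [0, 1], [], [0], [], [0, 1], [1], [0, 1], [0, 1], [0, 1], [0], [0, 1], [1], [0], [0, 1], [1], [1], [0], [0, 1], [], [], [1], [0], [0, 1], [0], [0, 1], [1], [0, 1], [0], [0, 1], [1], [], [0], [0, 1], [0], [1], [0, 1], [], [], [0, 1], [0], [0, 1], [1], [1], [0, 1], [0, 1], [1], [0, 1], [0], [1], [1], [0, 1], [0, 1], [0, 1], [0, 1], [], [1], [0, 1], [0], [0, 1], [0], [0], [0], [1], [1], [0, 1], [0, 1], [0, 1], [0], [0, 1], [0, 1], [0, 1], [], [1], [1], [0], [0, 1], [0], [1], [0], [0, 1], [], [1], [1], [0, 1], [0, 1], [1], [0, 1], [1], [0, 1], [0, 1], [1], [0, 1], [0, 1], [0], [0], [0], [0, 1], [0], [0], [0, 1], [1], [0, 1], [0], [], [0, 1], [0, 1], [], [1], [0, 1], [0, 1], [], [0, 1], [1], [0, 1], [], [], [], [0], [1], [0, 1], [0, 1], [0, 1], [], [0], [1], [], [0, 1], [], [0], [1], [0], []], [[0],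 [0, 1], [0, 1], [], [], [0], [0], [], [1], [0], [0, 1], [], [], [0, 1], [], [0], [0], [], [0, 1], [0, 1], [1], [1], [0, 1], [], [0], [], [0, 1], [1], [1], [0, 1], [0, 1], [0], [0, 1], [0], [1], [0], [], [0], [0, 1], [1], [0, 1], [0, 1], [1], [1], [0], [1], [0, 1], [0, 1], [0, 1], [0], [0], [1], [], [0, 1], [1], [0, 1], [0], [0], [], [0], [0, 1], [0, 1], [], [], [0], [0], [0, 1], [0, 1], [1], [0, 1], [0, 1], [0, 1], [0, 1], [0, 1], [0, 1], [], [1], [0], [0, 1], [0], [0], [], [0], [], [], [0, 1], [0], [1], [0, 1], [1], [0], [0, 1], [0], [], [0], [1], [0], [1], [0], [0, 1], [0, 1], [0, 1], [], [0, 1], [0, 1], [0, 1], [0, 1], [], [1], [1], [0, 1], [], [0, 1], [0], [1], [1], [1], [0], [0], [0], [0, 1], [], [0], [0], [1], [0], [0, 1], [0, 1], [0], [0, 1], [0], [1], [0], [0, 1], [0], [0, 1], [], [0], [], [1], [], [1], [0, 1], [], [], [1], [1], [], [0, 1], [0, 1], [0], [], [0, 1], [1], [0, 1], [0], [0], [0, 1], [1], [0], [0], [1], [0], [], [1], [0], [1], [1], [],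 [0], [1], [1], [], [0], [1], [0, 1], [0], [0, 1], [1], [1], [0, 1], [1], [0, 1], [1], [1], [0, 1], [0], [1], [1], [0, 1], [0], [1], [0, 1], [0], [], [0], [0], [0], [0, 1], [], [0], [], [0, 1], [0], [0, 1], [], [], [1], [0], [0, 1], [], [0], [1], [0, 1], [0], [0], [0, 1], [0, 1], [0], [0, 1], [0], [], [0, 1], [0], [1], [0, 1], [0, 1], [1], [0], [0, 1], [1], [1], [0, 1], [1], [0, 1], [], [1], [0], [0], [], [0], [1], [1], [1], [0], [], [0], [0, 1], [0], [0, 1], [1], [1], [0], [1], [0], [], [0, 1], [0, 1], [], [1], [0], [], [0, 1], [0], [], [1], [0], [0], [0, 1], [], [0, 1], [0, 1], [0, 1], [0, 1], [0], [0], [1], [0], [0, 1], [], [0], [0], [0, 1], [1], [0], [0, 1], [], [1], [], [0, 1], [0, 1], [], [0, 1], [1], [], [0, 1], [], [0, 1], [1], [0, 1], [0, 1], [1], [1], [1], [1], [1], [0], [1], [], [0, 1], [0], [0, 1], [1], [0], [], [0, 1], [0, 1], [1], [1], [1], [1], [1], [0], [0], [1], [0, 1], [0], [0, 1], [], [], [0, 1], [0], [0, 1], [1], [], [], [0], [], [1], [0],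 [0], [1], [0], [0], [0], [1], [], [1], [], [1], [0, 1], [], [], [0, 1], [0], [], [0, 1], [0], [0], [1], [1], [0, 1], [0, 1], [1], [0], [0, 1], [0], [0], [0], [0], [1], [], [], [0, 1], [0], [0], [0, 1], [1], [1], [1], [0], [0], [0], [], [], [0, 1], [1], [1], [], [1], [1], [], [], [0, 1], [0, 1], [0, 1], [0, 1], [0], [0, 1], [0], [0], [], [0], [0], [0, 1], [0, 1], [0], [0], [0, 1], [0], [0], [1], [0, 1], [1], [0], [], [0, 1], [1], [], [0, 1], [0, 1], [0], [0], [0], [], [1], [0, 1], [1], [0, 1], [], [0, 1], [0], [1], [0], [1], [], [], [1], [0, 1], [], [0, 1], [1], [], [1], [1], [1], [0], [], [1], [0, 1], [1], [0], [0], [], [], [1], [0, 1], [], [], [1], [1], [0], [0, 1], [0], [0], [1], [0, 1], [1], [1], [0], [0, 1], [0, 1], [0, 1], [1], [1], [0, 1], [0], [], [1], [], [0, 1], [1], [0, 1], [0], [1], [0, 1], [0], [], [0], [1], [], [0], [1], [], [0, 1], [1], [], [], [], [1], [], [], [1], [1], [], [0, 1], [1], [], [0], [0], [0], [], [0], [0, 1], [0, 1], [], [0, 1],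 [0], [1], [0, 1], [0, 1], [], [], [], [1], [0, 1], [0], [], [], [0, 1], [1], [0, 1], [0], [1], [0, 1], [0, 1], [1], [], [], [], [0], [], [], [], [0, 1], [], [1], [0, 1], [], [], [0], [0], [1], [1], [0, 1], [1], [], [1], [0, 1], [0, 1], [0], [], [], [1], [1], [0, 1], [1], [], [], [1], [], [1], [1], [], [0], [], [0, 1], [0, 1], [], [0, 1], [0], [1], [0, 1], [0, 1], [0, 1], [0], [1], [], [], [], [], [0, 1], [], [0, 1], [0, 1], [], [], [], [0], [], [], [0], [0], [], [1], [1], [], [0], [], [1], [], [1], [1], [], [0, 1], [0], [], [], [0, 1], [], [], [1], [0, 1], [], [1], [], [], [0], [1], [0, 1], [0, 1], [0], [], [], [0, 1], [], [0], [1], [1], [0, 1], [1], [1], [], [0], [], [], [0, 1], [0], [0], [0], [1], [0, 1], [0, 1], [1], [], [0], [], [0], [], [], [0], [], [1], [0], [], [1], [], [], [0], [1], [0], [], [0], [0, 1], [], [1], [1], [], [], [0], [0], [0, 1], [], [], [0, 1], [], [0], [0], [], [], [], [], [], [0], [0], [1], [], [], [], [], [0, 1], [0], [1], [], [],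 [1], [], [0, 1], [], [1], [], [], [0], [], [0], [0], [0], [0], [0], [1], [1], [0], [], [0, 1], [], [0, 1], [0], [], [1], [1], [], [], [0, 1], [], [], [0], [1], [0], [], [0], [1], [1], [1], [1], [1], [1], [1], [], [0, 1], [], [], [0, 1], [1], [], [0], [], [0], [0, 1], [0], [], [0], [], [1], [0, 1], [0, 1], [], [1], [1], [0], [], [0, 1], [0], [], [1], [0, 1], [], [], [], [0, 1], [0], [], [0], [0, 1], [0], [0], [0], [], [], [], [], [], [], [1], [1], [0, 1], [0, 1], [0], [0, 1], [], [1], [], [], [0], [], [1], [1], [], [1], [0, 1], [1], [], [0, 1], [1], [1], [1], [0], [], [0], [0], [], [], [0, 1], [0], [], [0], [0, 1], [0, 1], [1], [0, 1], [], [], [0, 1], [], [], [], [1], [], [0], [0, 1], [0], [0], [1], [0], [], [0], [1], [0, 1], [1], [0, 1], [0, 1], [0], [0], [], [], [0, 1], [], [], [1], [], [0], [1], [], [], [1], [0], [1], [], [1], [], [0, 1], [0], [], [0], [0], [0], [], [0], [1], [0], [0], [], [], [], [0, 1], [], [], [0, 1], [], [0], [1], [0, 1], [0], [0, 1],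 [1], [], [1]], [[0, 1], [0], [0], [], [], [0], [0], [], [], [0, 1], [], [0, 1], [1], [0], [0, 1], [1], [1], [0, 1], [0], [1], [1], [], [1], [1], [1], [1], [0], [1], [0, 1], [], [0], [0, 1], [], [], [], [0], [], [0], [0], [1], [1], [], [0], [0], [0, 1], [0], [0, 1], [], [], [0], [0], [], [0], [1], [], [0], [], [], [0], [], [1], [0], [1], [], [], [0], [], [1], [0], [0], [], [0], [], [0, 1], [], [], [], [1], [1], [1], [], [0], [1], [], [], [0, 1], [], [1], [1], [], [0, 1], [1], [], [], [1], [1], [], [0], [1], [], [0], [0, 1], [], [1], [], [], [1], [], [1], [1], [1], [1], [0], [0], [], [1], [0], [], [], [1], [], [0], [], [], [0], [0], [1], [0], [0, 1], [1], [0], [1], [0], [1], [1], [1], [1], [0], [0], [1], [0], [], [1], [1], [0], [0], [1], [0, 1], [], [], [], [0], [], [], [0], [0], [0, 1], [], [], [1], [], [1], [], [0], [], [], [1], [], [1], [], [], [0], [], [], [0], [], [0], [1], [], [], [0], [], [], [0], [0], [1], [], [0], [0], [0, 1], [0], [], [0, 1], [1],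 [0, 1], [], [], [], [], [1], [1], [1], [0], [], [1], [0], [1], [], [], [0], [], [], [0], [], [], [], [0], [], [], [0], [], [0], [], [], [], [1], [0], [1], [], [0], [], [], [1], [0], [], [], [1], [], [1], [], [1], [1], [], [0], [1], [], [], [0], [0], [1], [], [], [], [1], [1], [0], [], [], [], [1], [], [], [0], [0, 1], [1], [], [1], [], [], [], [], [1], [], [], [1], [], [1], [], [], [], [1], [], [], [0], [1], [0], [], [1], [1], [1], [1], [0], [], [], [0], [0], [], [0], [], [1], [0], [], [], [1], [], [0], [0], [1], [1], [0, 1], [], [], [], [0], [], [], [], [1], [], [], [], [1], [], [1], [], [], [], [1], [], [], [], [], [], [], [], [], [], [], [], [0], [0], [1], [0, 1], [], [0], [0, 1], [0], [], [1], [], [], [], [], [], [], [0], [0, 1], [], [0], [1], [0, 1], [0], [], [], [0], [], [], [1], [], [0], [0], [], [], [], [], [0], [1], [], [], [1], [], [], [0, 1], [1], [0], [], [0], [], [1], [], [], [], [], [0], [0, 1], [0], [0], [1], [], [0], [], [0], [0], [0], [],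 [], [], [], [], [0], [1], [0], [1], [], [], [0], [], [0, 1], [1], [], [1], [], [], [], [], [], [0], [1], [], [0], [0], [], [], [], [0], [], [], [1], [1], [], [], [], [], [], [], [], [1], [1], [0], [0], [0], [], [1], [], [], [], [0], [1], [0], [], [], [], [], [], [], [0, 1], [1], [], [], [1], [0], [0, 1], [], [], [], [], [1], [], [], [], [], [1], [0, 1], [1], [], [0], [1], [], [1], [], [], [1], [1], [0], [], [], [], [0], [], [0, 1], [], [], [0], [], [], [], [], [1], [], [], [0], [], [], [], [], [], [], [0, 1], [], [], [0, 1], [], [], [0], [], [0], [0], [], [], [], [0, 1], [], [1], [], [0], [0], [1], [1], [], [1], [], [], [], [], [1], [], [], [0], [1], [], [], [0, 1], [], [0], [0], [], [1], [], [1], [], [1], [1], [0], [], [], [], [], [], [], [], [], [], [], [], [], [], [], [], [], [0], [1], [0], [], [], [], [], [1], [], [], [], [], [], [], [1], [], [], [1], [], [0], [], [1], [0], [], [1], [], [], [0], [0], [1], [], [1], [], [], [1], [1], [], [], [], [0], [],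 [], [], [0], [0], [1], [1], [0], [], [], [1], [0], [0], [], [], [1], [0], [0], [], [], [], [], [], [], [0, 1], [1], [], [1], [], [], [], [], [1], [], [1], [], [], [], [1], [], [0], [0], [], [], [0, 1], [], [], [0], [], [1], [], [1], [], [], [0], [], [], [], [], [], [0], [], [], [0], [], [0], [0], [], [], [1], [1], [], [1], [], [], [], [0], [], [0], [0], [], [0], [], [0, 1], [], [], [], [], [0], [], [], [], [], [], [], [], [0], [], [], [], [], [], [0], [], [], [], [], [], [], [], [], [], [], [], [], [0], [0], [], [], [], [], [], [0], [], [], [], [], [1], [], [], [1], [], [], [], [1], [], [], [0, 1], [], [], [], [], [], [], [], [], [], [], [], [], [], [], [0], [0, 1], [], [], [], [0], [0, 1], [], [], [], [], [0], [], [], [], [], [1], [], [], [], [], [], [0], [], [], [1], [0], [], [0], [0], [1], [], [], [0], [0], [], [], [1], [], [], [], [], [0], [], [], [], [], [], [], [], [], [], [], [], [0, 1], [], [], [], [], [], [], [], [1], [], [], [], [0, 1], [], [0],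 [], [1], [], [], [1], [1], [], [], [1], [], [], [0, 1], [], [1], [], [], [], [], [], [], [0], [], [1], [0, 1]], [[], [], [], [], [], [], [], [], [], [1], [1], [], [], [], [], [], [], [], [], [], [], [], [], [0, 1], [], [], [], [], [], [0], [], [0], [0], [], [], [], [], [], [], [], [1], [], [], [0], [], [], [], [], [1], [], [], [], [], [], [1], [0], [], [], [], [], [0], [], [], [], [], [], [], [], [], [], [1], [], [], [], [1], [], [], [], [], [1], [], [], [], [], [0], [], [1], [], [], [], [], [], [], [], [], [], [], [], [], [], [], [], [], [], [], [], [], [], [], [], [], [1], [], [0], [], [], [], [], [], [0], [], [], [], [], [], [], [], [0], [0], [], [], [], [0], [], [], [], [], [1], [], [], [], [0], [], [0], [], [], [], [], [], [], [], [], [], [], [], [], [1], [], [], [], [1], [], [], [], [], [], [1], [], [0], [], [], [], [], [], [], [1], [], [], [], [], [], [], [], [], [], [], [], [1], [], [], [1], [], [], [0], [], [], [], [], [], [], [], [], [], [], [],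 [], [], [], [], [], [], [], [], [], [], [], [0], [], [], [], [], [1], [1], [], [], [], [], [], [], [], [], [], [], [], [], [], [], [], [], [], [], [], [0], [], [], [], [], [], [], [], [], [], [], [], [], [0], [], [1], [], [], [], [], [], [], [], [], [], [], [1], [], [], [], [], [], [], [], [], [], [], [], [], [], [0], [], [], [], [], [], [], [], [], [], [], [], [0, 1], [], [0], [], [], [], [], [], [], [], [], [], [1], [], [], [], [], [1], [], [1], [], [], [], [], [], [1], [], [1], [], [], [], [], [], [], [], [], [1], [], [0], [], [], [], [], [], [], [], [], [], [], [], [], [], [], [], [], [], [], [], [], [], [], [], [], [], [], [], [], [], [], [], [], [], [], [], [], [], [], [], [], [], [], [], [], [], [], [], [], [], [], [], [], [1], [], [], [], [], [], [], [], [], [], [], [], [], [], [], [], [], [], [], [], [], [], [], [], [], [], [], [], [], [], [], [], [], [], [], [1], [], [], [], [], [], [], []]]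
  cLen := 3795
  steps := [.cj 25 0, .cj 26 0, .cj 27 0, .cj 28 0, .mu 1 0, .mu 4 5, .mu 1 6, .mu 1 4, .mu 3 8, .mu 4 2, .mu 3 10, .mu 4 11, .mu 2 12]
  target := []

theorem m23_checkS : m23Cert.checkS = true := by decide +kernel

theorem m23_checkCenter : m23Cert.checkCenter = true := by decide +kernel

theorem m23_checkClass : m23Cert.checkClass = true := by decide +kernel

theorem m23_checkReps : m23Cert.checkReps = true := by decide +kernel

theorem m23_checkSteps : m23Cert.checkSteps = true := by decide +kernel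

theorem m23_two_simple (S : Sylow 2 Spor.M23) :
    (groupFusionSystem (S : Subgroup Spor.M23)).IsSimple 2 :=
  simple_of_subgroup_cert m23Cert m23Gens (by decide +kernel) (by decide +kernel) card_m23
    m23_checkS m23_checkCenter m23_checkClass m23_checkReps m23_checkSteps S

end Cfsg.Agent.Local.FS.Mathieu
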