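import Cfsg.Agent.Lib.Local.FS.PSUnGen
import Cfsg.Agent.Lib.Local.FS.SimpleNormalCentric

/-!
The defining-characteristic fusion system of `PSU_n(q)`, `n ≥ 4`, is simple.
-/

set_option autoImplicit false
set_option linter.unusedSectionVars false

namespace Cfsg.Agent.Local.FS.PSUnSimple

open Matrix Cfsg.Agent.Small.Unitary Cfsg.Agent.Small.PSUn
open scoped Pointwise

variable {F : Type*} [Field F] [Fintype F] [StarRing F] {n q : ℕ}
variable {p : ℕ} [Fact p.Prime] [CharP F p]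

local notation "Gn" => Cfsg.SU n F q
local notation "Pn" => Cfsg.PSU n F q
local notation "Vn" => Fin n → F

/-- Elements mapping a plane into itself. -/
def NE (q : ℕ) (e w : Fin n → F) : Subgroup (Cfsg.SU n F q) :=
  let M : Submonoid (Cfsg.SU n F q) :=
    { carrier := {h | (∃ a b : F, act h e = a • e + b • w) ∧ ∃ a b : F, act h w = a • e + b • w}
      one_mem' := ⟨⟨1, 0, by rw [act_one]; simp⟩, 0, 1, by rw [act_one]; simp⟩
      mul_mem' := by
        rintro g h ⟨⟨a, b, hge⟩, c, d, hgw⟩ ⟨⟨a', b', hhe⟩, c', d', hhw⟩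
        refine ⟨⟨a' * a + b' * c, a' * b + b' * d, ?_⟩, c' * a + d' * c, c' * b + d' * d, ?_⟩
        · rw [act_mul, hhe, act_add, act_smul, act_smul, hge, hgw]; module
        · rw [act_mul, hhw, act_add, act_smul, act_smul, hge, hgw]; module }
  { M with
    inv_mem' := fun {A} hA => by
      classical
      obtain ⟨k, hk⟩ : ∃ k : ℕ, A⁻¹ = A ^ k :=
        ⟨orderOf A - 1, inv_eq_of_mul_eq_one_right (by
          rw [← pow_succ', Nat.sub_add_cancel (orderOf_pos A), pow_orderOf_eq_one])⟩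
      rw [hk]
      exact M.pow_mem hA k }

theorem mem_NE {e w : Vn} {h : Gn} :
    h ∈ NE q e w ↔ (∃ a b : F, act h e = a • e + b • w) ∧ ∃ a b : F, act h w = a • e + b • w := Iff.rfl

/-- The radical of the stabiliser of a totally isotropic plane. -/
def R2 (q : ℕ) (e w : Fin n → F) : Subgroup (Cfsg.SU n F q) :=
  let M : Submonoid (Cfsg.SU n F q) :=
    { carrier := {g | act g e = e ∧ act g w = w ∧
        ∀ x : Fin n → F, herm e x = 0 → herm w x = 0 → ∃ a b : F, act g x = x + a • e + b • w}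
      one_mem' := ⟨act_one _, act_one _, fun x _ _ => ⟨0, 0, by rw [act_one]; simp⟩⟩
      mul_mem' := by
        rintro g h ⟨hge, hgw, hg⟩ ⟨hhe, hhw, hh⟩
        refine ⟨by rw [act_mul, hhe, hge], by rw [act_mul, hhw, hgw], fun x h1 h2 => ?_⟩
        obtain ⟨a, b, hhx⟩ := hh x h1 h2
        obtain ⟨a', b', hgx⟩ := hg x h1 h2
        exact ⟨a' + a, b' + b, by rw [act_mul, hhx, act_add, act_add, act_smul, act_smul, hge, hgw, hgx]; module⟩ }
  { M with
    inv_mem' := fun {A} hA => by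
      classical
      obtain ⟨k, hk⟩ : ∃ k : ℕ, A⁻¹ = A ^ k :=
        ⟨orderOf A - 1, inv_eq_of_mul_eq_one_right (by
          rw [← pow_succ', Nat.sub_add_cancel (orderOf_pos A), pow_orderOf_eq_one])⟩
      rw [hk]
      exact M.pow_mem hA k }

theorem mem_R2 {e w : Vn} {g : Gn} :
    g ∈ R2 q e w ↔ act g e = e ∧ act g w = w ∧
      ∀ x : Vn, herm e x = 0 → herm w x = 0 → ∃ a b : F, act g x = x + a • e + b • w := Iff.rfl

variable (hstar : ∀ x : F, star x = x ^ q) (hF : Fintype.card F = q ^ 2)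

include hstar in
theorem R2_conj {e w : Fin n → F} {h g : Cfsg.SU n F q} (hh : h ∈ NE q e w) (hg : g ∈ R2 q e w) :
    h * g * h⁻¹ ∈ R2 q e w := by
  have hE : ∀ {k : Cfsg.SU n F q}, k ∈ NE q e w → ∀ a b : F, ∃ c d : F,
      act k (a • e + b • w) = c • e + d • w := by
    intro k hk a b
    obtain ⟨⟨a1, b1, h1⟩, a2, b2, h2⟩ := hk
    exact ⟨a * a1 + b * a2, a * b1 + b * b2, by rw [act_add, act_smul, act_smul, h1, h2]; module⟩
  obtain ⟨hge, hgw, hgx⟩ := hg
  obtain ⟨⟨a, b, hhe⟩, c, d, hhw⟩ := inv_mem hh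
  have hfix : ∀ v : Fin n → F, (∃ a b : F, act h⁻¹ v = a • e + b • w) → act (h * g * h⁻¹) v = v := by
    rintro v ⟨a, b, hv⟩
    rw [act_mul, act_mul, hv, act_add, act_smul, act_smul, hge, hgw, ← hv, act_act_inv]
  refine ⟨hfix e ⟨a, b, hhe⟩, hfix w ⟨c, d, hhw⟩, fun x h1 h2 => ?_⟩
  have hperp : ∀ v : Fin n → F, (∃ a b : F, act h v = a • e + b • w) → herm v (act h⁻¹ x) = 0 := by
    rintro v ⟨a, b, hv⟩
    rw [← herm_act hstar h, act_act_inv, hv, herm_add_left, herm_smul_left, herm_smul_left, h1, h2]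
    ring
  obtain ⟨a', b', hx'⟩ := hgx (act h⁻¹ x) (hperp e (mem_NE.1 hh).1) (hperp w (mem_NE.1 hh).2)
  obtain ⟨c', d', he'⟩ := hE hh a' b'
  refine ⟨c', d', ?_⟩
  rw [act_mul, act_mul, hx', add_assoc, act_add, he', act_act_inv, add_assoc]

include hstar in
theorem eich_mem_R2 {e w v z : Fin n → F} {a : F} (hee : herm e e = 0) (hww : herm w w = 0) (hew : herm e w = 0)
    (hok : EOk v z a) (hv : ∃ c d : F, v = c • e + d • w) (hez : herm e z = 0) (hwz : herm w z = 0) :
    eich hstar v z a ∈ R2 q e w := by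
  obtain ⟨c, d, rfl⟩ := hv
  have hwe : herm w e = 0 := by rw [← star_herm, hew, star_zero]
  have hze : herm z e = 0 := by rw [← star_herm, hez, star_zero]
  have hzw : herm z w = 0 := by rw [← star_herm, hwz, star_zero]
  refine ⟨?_, ?_, fun x h1 h2 => ?_⟩
  · rw [act_eich hstar hok]; simp [herm_add_left, herm_smul_left, hee, hwe, hze]
  · rw [act_eich hstar hok]; simp [herm_add_left, herm_smul_left, hew, hww, hzw]
  · refine ⟨-herm z x * c, -herm z x * d, ?_⟩
    rw [act_eich hstar hok]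
    simp only [herm_add_left, herm_smul_left, h1, h2]
    module

include hstar hF in
theorem line_of_trans_eq (hn : 3 ≤ n) {v e : Vn} (hv : IsPt v) (hee : herm e e = 0) {s t : F} (hs0 : s ≠ 0)
    (hs : star s = -s) (ht : star t = -t) (h : eich hstar v 0 s = eich hstar e 0 t) : ∃ c : F, v = c • e := by
  obtain ⟨u, -, hvu⟩ := exists_partner hstar hF hn hv
  have h2 := congrArg (fun g => act g u) h
  simp only [act_eich_zero hstar hv.2 hs, act_eich_zero hstar hee ht, hvu, mul_one, add_right_inj] at h2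
  exact ⟨s⁻¹ * (t * herm e u), by rw [mul_smul, ← h2, smul_smul, inv_mul_cancel₀ hs0, one_smul]⟩

include hstar hF in
theorem eigen_of_trans (hn : 3 ≤ n) {v : Vn} (hv : IsPt v) {x : Gn} {θ : F} (hθ0 : θ ≠ 0) (hθ : star θ = -θ)
    (h : x * eich hstar v 0 θ = eich hstar v 0 θ * x) :
    ∃ r : F, star r * r = 1 ∧ act x v = r • v := by
  have h1 := eich_conj hstar x ((EOk_zero_iff hv.2).2 hθ)
  rw [h, mul_inv_cancel_right, show act x (0 : Vn) = 0 from Matrix.mulVec_zero _] at h1
  obtain ⟨c, hc⟩ := line_of_trans_eq hstar hF hn (hv.act hstar x) hv.2 hθ0 hθ hθ h1.symm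
  refine ⟨c, ?_, hc⟩
  obtain ⟨u, -, hvu⟩ := exists_partner hstar hF hn hv
  have h2 := congrArg (fun g => act g u) h1
  simp only [hc, act_eich_zero hstar hv.2 hθ,
    act_eich_zero hstar (show herm (c • v) (c • v) = 0 by rw [← hc]; exact (hv.act hstar x).2) hθ, hvu, mul_one,
    add_right_inj, herm_smul_left, smul_smul] at h2
  have h3 := smul_left_injective F hv.1 h2
  exact mul_left_cancel₀ hθ0 (show θ * (star c * c) = θ * 1 by linear_combination -h3)

include hstar hF in
theorem R2_pel {e w : Vn} (hee : herm e e = 0) (hww : herm w w = 0) (hew : herm e w = 0) {g : Gn}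
    (hg : g ∈ R2 q e w) : PEl p g := by
  obtain ⟨hge, hgw, hgx⟩ := hg
  have hN : ∀ x, (g.1.1 - 1) *ᵥ x = act g x - x := fun x => by rw [Matrix.sub_mulVec, Matrix.one_mulVec]; rfl
  have h3 : (g.1.1 - 1) * (g.1.1 - 1) * (g.1.1 - 1) = 0 := by
    refine ext_mulVec fun x => ?_
    rw [← Matrix.mulVec_mulVec, ← Matrix.mulVec_mulVec, Matrix.zero_mulVec, hN x]
    obtain ⟨a, b, hab⟩ := hgx (act g x - x)
      (by rw [herm_sub_right]; conv_lhs => enter [1, 1]; rw [← hge]
          rw [herm_act hstar, sub_self])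
      (by rw [herm_sub_right]; conv_lhs => enter [1, 1]; rw [← hgw]
          rw [herm_act hstar, sub_self])
    rw [hN (act g x - x), hab, add_assoc, add_sub_cancel_left, hN, act_add, act_smul, act_smul, hge, hgw, sub_self]
  refine ⟨2, ext_val ?_⟩
  rw [SubmonoidClass.coe_pow, Matrix.SpecialLinearGroup.coe_pow]
  exact pow_of_cube h3

include hstar in
theorem perp_of_commute {i j : Fin n} {e f : Vn} (P : Pair i j e f) {x : Gn} {α : F} (hα : star α * α = 1)
    (hxe : act x e = α • e) {z : Vn} {a : F} (ha : EOk e z a)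
    (h : x * eich hstar e z a = eich hstar e z a * x) : ∃ c : F, act x z = α • z + c • e := by
  have hcj := eich_conj hstar x ha
  rw [h, mul_inv_cancel_right, hxe] at hcj
  have hok := ha.act hstar x
  rw [hxe] at hok
  have h3 := congrArg (fun g => act g f) hcj
  simp only [act_eich hstar ha, act_eich hstar hok, P.ef, herm_smul_left, mul_one, one_smul] at h3
  refine ⟨α * (a - herm z f) - α * ((a * star α - herm (act x z) f) * α), ?_⟩
  have h4 : z + (a - herm z f) • e = star α • act x z + ((a * star α - herm (act x z) f) * α) • e := by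
    rw [add_assoc, add_assoc, smul_smul] at h3
    exact add_left_cancel h3
  have h5 := congrArg (α • ·) h4
  simp only [smul_add, smul_smul] at h5
  rw [show α * star α = 1 by rw [mul_comm]; exact hα, one_smul] at h5
  linear_combination (norm := module) -h5

include hstar p in
theorem split_scalar {x : Gn} {α : F} (hα : star α * α = 1)
    (hM3 : (α⁻¹ • x.1.1 - 1) * (α⁻¹ • x.1.1 - 1) * (α⁻¹ • x.1.1 - 1) = 0) :
    ∃ z r : Gn, z ∈ Subgroup.center Gn ∧ x = z * r ∧ ∀ y, act r y = α⁻¹ • act x y := by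
  have hα0 : α ≠ 0 := fun h => by rw [h, mul_zero] at hα; exact zero_ne_one hα
  have hsα : star α⁻¹ = α := by rw [star_inv₀]; exact inv_eq_of_mul_eq_one_right hα
  set M := α⁻¹ • x.1.1 with hMdef
  have hMU : Mᴴ * M = 1 := by
    rw [hMdef, Matrix.conjTranspose_smul, Matrix.smul_mul, Matrix.mul_smul, smul_smul, conjTranspose_mul_self hstar,
      hsα, mul_inv_cancel₀ hα0, one_smul]
  let r : Gn := mkSU hstar M hMU (det_of_cube (p := p) hM3)
  have hr : ∀ y, act r y = α⁻¹ • act x y := fun y => Matrix.smul_mulVec _ _ _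
  refine ⟨x * r⁻¹, r, ?_, by group, hr⟩
  have hxr : ∀ y, act x y = α • act r y := fun y => by rw [hr, smul_smul, mul_inv_cancel₀ hα0, one_smul]
  have hz : ∀ y, act (x * r⁻¹) y = α • y := fun y => by rw [act_mul, hxr, act_act_inv]
  refine Subgroup.mem_center_iff.2 fun g => eq_of_act fun y => ?_
  rw [act_mul g, act_mul _ g, hz, hz, act_smul]

include hstar hF p in
/-- The centraliser of the radical. -/
theorem R2_commute (hn : 3 ≤ n) {i j : Fin n} {e f w : Vn} (P : Pair i j e f) (hw : IsPt w)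
    (hew : herm e w = 0) (hfw : herm f w = 0) {x : Gn}
    (hx : ∀ r ∈ R2 q e w, x * r = r * x) : ∃ z r : Gn, z ∈ Subgroup.center Gn ∧ r ∈ R2 q e w ∧ x = z * r := by
  obtain ⟨θ, hθ0, hθ⟩ := exists_skew hstar hF
  have he := (pair_isPt P).1
  have hwe : herm w e = 0 := by rw [← star_herm, hew, star_zero]
  have hwf : herm w f = 0 := by rw [← star_herm, hfw, star_zero]
  have htr : ∀ c d : F, IsPt (c • e + d • w) → ∃ r : F, star r * r = 1 ∧ act x (c • e + d • w) = r • (c • e + d • w) :=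
    fun c d hv => eigen_of_trans hstar hF hn hv hθ0 hθ (hx _ (eich_mem_R2 hstar he.2 hw.2 hew
      ((EOk_zero_iff hv.2).2 hθ) ⟨c, d, rfl⟩ (herm_zero_right _) (herm_zero_right _)))
  obtain ⟨α, hα, hxe⟩ : ∃ r : F, star r * r = 1 ∧ act x e = r • e := by
    simpa using htr 1 0 (by simpa using he)
  obtain ⟨β, -, hxw⟩ : ∃ r : F, star r * r = 1 ∧ act x w = r • w := by
    simpa using htr 0 1 (by simpa using hw)
  obtain ⟨γ, -, hγ⟩ := htr 1 1 ⟨fun h => by
      have := congrArg (herm f) h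
      simp [herm_add_right, hfw, P.fe, herm_zero_right] at this,
    by simp [herm_add_left, herm_add_right, he.2, hw.2, hew, hwe]⟩
  rw [one_smul, one_smul, act_add, hxe, hxw, smul_add] at hγ
  have hαγ : α = γ := by
    have := congrArg (herm f) hγ
    simpa [herm_add_right, herm_smul_right, hfw, P.fe] using this
  rw [← hαγ] at hγ
  have hxw' : act x w = α • w := hxw.trans (add_left_cancel hγ)
  have hα0 : α ≠ 0 := fun h => by rw [h, mul_zero] at hα; exact zero_ne_one hα
  have hperp : ∀ z : Vn, herm e z = 0 → herm w z = 0 → ∃ c : F, act x z = α • z + c • e := by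
    intro z h1 h2
    obtain ⟨a, ha⟩ := exists_param hstar hF he.2 h1
    exact perp_of_commute hstar P hα hxe ha (hx _ (eich_mem_R2 hstar he.2 hw.2 hew ha ⟨1, 0, by simp⟩ h1 h2))
  set M := α⁻¹ • x.1.1 with hMdef
  have hMv : ∀ y, M *ᵥ y = α⁻¹ • act x y := fun y => Matrix.smul_mulVec _ _ _
  have hMe : M *ᵥ e = e := by rw [hMv, hxe, smul_smul, inv_mul_cancel₀ hα0, one_smul]
  have hMw : M *ᵥ w = w := by rw [hMv, hxw', smul_smul, inv_mul_cancel₀ hα0, one_smul]
  have hsα : star α⁻¹ = α := by rw [star_inv₀]; exact inv_eq_of_mul_eq_one_right hα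
  have hMh : ∀ u v, herm (M *ᵥ u) (M *ᵥ v) = herm u v := fun u v => by
    rw [hMv, hMv, herm_smul_left, herm_smul_right, herm_act hstar, hsα, mul_inv_cancel_left₀ hα0]
  have hM3 : (M - 1) * (M - 1) * (M - 1) = 0 := by
    have hN : ∀ y, (M - 1) *ᵥ y = M *ᵥ y - y := fun y => by rw [Matrix.sub_mulVec, Matrix.one_mulVec]
    refine ext_mulVec fun y => ?_
    rw [← Matrix.mulVec_mulVec, ← Matrix.mulVec_mulVec, Matrix.zero_mulVec, hN y]
    have h1 : herm e (M *ᵥ y - y) = 0 := by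
      rw [herm_sub_right]; conv_lhs => enter [1, 1]; rw [← hMe]
      rw [hMh, sub_self]
    have h2 : herm w (M *ᵥ y - y) = 0 := by
      rw [herm_sub_right]; conv_lhs => enter [1, 1]; rw [← hMw]
      rw [hMh, sub_self]
    obtain ⟨c, hc⟩ := hperp _ h1 h2
    rw [hN (M *ᵥ y - y), hMv (M *ᵥ y - y), hc, smul_add, smul_smul, inv_mul_cancel₀ hα0, one_smul,
      add_sub_cancel_left, smul_smul, hN, Matrix.mulVec_smul, hMe, sub_self]
  obtain ⟨z, r, hz, hxr, hr⟩ := split_scalar (p := p) hstar hα hM3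
  refine ⟨z, r, hz, ⟨?_, ?_, fun y h1 h2 => ?_⟩, hxr⟩
  · rw [hr, ← hMv, hMe]
  · rw [hr, ← hMv, hMw]
  · obtain ⟨c, hc⟩ := hperp y h1 h2
    refine ⟨α⁻¹ * c, 0, ?_⟩
    rw [hr, hc, smul_add, smul_smul, smul_smul, inv_mul_cancel₀ hα0]
    simp

include hstar hF p in
/-- The centraliser of the Eichler group. -/
theorem Qg_commute (hn : 3 ≤ n) {i j : Fin n} {e f : Vn} (P : Pair i j e f) {x : Gn}
    (hx : ∀ y ∈ Qg hstar P.ee, x * y = y * x) :
    ∃ z r : Gn, z ∈ Subgroup.center Gn ∧ r ∈ Qg hstar P.ee ∧ x = z * r := by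
  obtain ⟨θ, hθ0, hθ⟩ := exists_skew hstar hF
  have he := (pair_isPt P).1
  obtain ⟨α, hα, hxe⟩ := eigen_of_trans hstar hF hn he hθ0 hθ (hx _ ⟨0, θ, (EOk_zero_iff P.ee).2 hθ, rfl⟩)
  have hα0 : α ≠ 0 := fun h => by rw [h, mul_zero] at hα; exact zero_ne_one hα
  have hsα : star α⁻¹ = α := by rw [star_inv₀]; exact inv_eq_of_mul_eq_one_right hα
  set M := α⁻¹ • x.1.1 with hMdef
  have hMv : ∀ y, M *ᵥ y = α⁻¹ • act x y := fun y => Matrix.smul_mulVec _ _ _
  have hN : ∀ y, (M - 1) *ᵥ y = M *ᵥ y - y := fun y => by rw [Matrix.sub_mulVec, Matrix.one_mulVec]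
  have hMe : M *ᵥ e = e := by rw [hMv, hxe, smul_smul, inv_mul_cancel₀ hα0, one_smul]
  have hM3 : (M - 1) * (M - 1) * (M - 1) = 0 := by
    refine ext_mulVec fun y => ?_
    rw [← Matrix.mulVec_mulVec, ← Matrix.mulVec_mulVec, Matrix.zero_mulVec, hN y]
    have h1 : herm e (M *ᵥ y - y) = 0 := by
      rw [herm_sub_right]; conv_lhs => enter [1, 1]; rw [← hMe]
      rw [hMv, hMv, herm_smul_left, herm_smul_right, herm_act hstar, hsα, mul_inv_cancel_left₀ hα0, sub_self]
    obtain ⟨a, ha⟩ := exists_param hstar hF he.2 h1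
    obtain ⟨c, hc⟩ := perp_of_commute hstar P hα hxe ha (hx _ ⟨_, a, ha, rfl⟩)
    rw [hN (M *ᵥ y - y), hMv (M *ᵥ y - y), hc, smul_add, smul_smul, inv_mul_cancel₀ hα0, one_smul,
      add_sub_cancel_left, smul_smul, hN, Matrix.mulVec_smul, hMe, sub_self]
  obtain ⟨z, r, hz, hxr, hr⟩ := split_scalar (p := p) hstar hα hM3
  have hre : act r e = e := by rw [hr, ← hMv, hMe]
  obtain ⟨t, ht, hrt⟩ := eq_trans_of_commute hstar hF hn he hre fun y hy => by
    have h1 := hx y hy
    rw [hxr, mul_assoc, ← mul_assoc y z r, Subgroup.mem_center_iff.1 hz y, mul_assoc] at h1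
    exact mul_left_cancel h1
  exact ⟨z, r, hz, ⟨0, t, (EOk_zero_iff P.ee).2 ht, hrt⟩, hxr⟩

/-- Everything about the chosen Sylow subgroup. -/
structure Setup (p : ℕ) (S : Sylow p (Cfsg.SU n F q)) (i j : Fin n) (e f w : Fin n → F) : Prop where
  pair : Pair i j e f
  fix : ∀ s ∈ S, act s e = e
  wpt : IsPt w
  wsupp : Supp (Finset.univ \ {i, j}) w
  wfix : ∀ s ∈ S, ∃ r : F, act s w = w + r • e

include hstar hF in
theorem exists_setup (hn : 4 ≤ n) : ∃ (S : Sylow p Gn) (i j : Fin n) (e f w : Vn), Setup p S i j e f w := by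
  obtain ⟨S⟩ : Nonempty (Sylow p Gn) := inferInstance
  obtain ⟨u, hu, hfix⟩ := exists_fixed_point hstar hF (by omega) (S : Subgroup Gn) S.2
  obtain ⟨i, j, k, e, f, P, -, -⟩ := exists_std hstar hF (n := n) (by omega)
  obtain ⟨g, hg⟩ := exists_act_eq hstar hF (by omega) hu (pair_isPt P).1
  have hfix' : ∀ s ∈ g • S, act s e = e := by
    intro s hs
    rw [Sylow.smul_def] at hs
    replace hs : s ∈ MulAut.conj g • (S : Subgroup Gn) := hs
    rw [Subgroup.mem_pointwise_smul_iff_inv_smul_mem] at hs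
    have h1 := hfix _ hs
    simp only [MulAut.smul_def, MulAut.inv_apply, MulAut.conj_symm_apply] at h1
    rw [act_mul, act_mul, hg] at h1
    conv_rhs => rw [← hg, ← h1, act_act_inv]
  have hcard : 2 ≤ ((Finset.univ : Finset (Fin n)) \ {i, j}).card := by
    rw [Finset.card_sdiff_of_subset (Finset.subset_univ _), Finset.card_pair P.ne, Finset.card_univ,
      Fintype.card_fin]
    omega
  obtain ⟨w, hw, hws, hwfix⟩ := exists_fixed_in hstar hF hcard
    (((g • S : Sylow p Gn) : Subgroup Gn) ⊓ fixOut q (Finset.univ \ {i, j})) ((g • S).2.to_le inf_le_left)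
    inf_le_right
  refine ⟨g • S, i, j, e, f, w, P, hfix', hw, hws, fun s hs => ?_⟩
  obtain ⟨z, a, m, hok, -, hm, rfl⟩ := decomp_in hstar P (Finset.mem_univ i) (Finset.mem_univ j)
    (g := s) (fun k hk => absurd (Finset.mem_univ k) hk) (hfix' s hs)
  have hQ := Qg_le_sylow hstar (g • S) P.ee hfix' ⟨z, a, hok, rfl⟩
  refine ⟨-herm z w, ?_⟩
  rw [act_mul, hwfix m ⟨(Subgroup.mul_mem_cancel_left _ hQ).1 hs, hm⟩, act_eich hstar hok, (P.perp hws).1]
  simp

variable {S : Sylow p (Cfsg.SU n F q)} {i j : Fin n} {e f w : Fin n → F}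

include hstar in
theorem Setup.herms (A : Setup p S i j e f w) :
    herm e e = 0 ∧ herm w w = 0 ∧ herm e w = 0 ∧ herm f w = 0 :=
  ⟨A.pair.ee, A.wpt.2, A.pair.perp A.wsupp⟩

theorem Setup.le_NE (A : Setup p S i j e f w) : (S : Subgroup Gn) ≤ NE q e w := fun s hs => by
  refine ⟨⟨1, 0, by rw [A.fix s hs]; simp⟩, ?_⟩
  obtain ⟨r, hr⟩ := A.wfix s hs
  exact ⟨r, 1, by rw [hr]; module⟩

include hstar hF in
theorem Setup.R2_le (A : Setup p S i j e f w) : R2 q e w ≤ (S : Subgroup Gn) := by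
  obtain ⟨h1, h2, h3, -⟩ := A.herms hstar
  have hp : IsPGroup p (R2 (F := F) q e w) := fun ⟨g, hg⟩ => by
    obtain ⟨k, hk⟩ := R2_pel (p := p) hstar hF h1 h2 h3 hg
    exact ⟨k, Subtype.ext hk⟩
  refine sup_eq_left.mp (S.3 (IsPGroup.to_sup_of_normal_right' S.2 hp fun s hs => ?_) le_sup_left)
  exact Subgroup.mem_normalizer_fintype fun g hg => R2_conj hstar (A.le_NE hs) hg

include hstar hF in
/-- A nontrivial strongly closed subgroup is the whole Sylow subgroup. -/
theorem Setup.closed_eq (hn : 4 ≤ n) (A : Setup p S i j e f w) (T : Subgroup Pn)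
    (hTS : T ≤ (S : Subgroup Gn).map pu) (hT1 : T ≠ ⊥)
    (hcl : ∀ x ∈ T, ∀ g : Pn, g * x * g⁻¹ ∈ (S : Subgroup Gn).map pu → g * x * g⁻¹ ∈ T) :
    (S : Subgroup Gn).map pu ≤ T := by
  classical
  haveI : Finite Pn := Finite.of_surjective _ pu_surjective
  have hn3 : 3 ≤ n := by omega
  obtain ⟨hee, hww, hew, hfw⟩ := A.herms hstar
  have P := A.pair
  have he := (pair_isPt P).1
  have hwe : herm w e = 0 := by rw [← star_herm, hew, star_zero]
  have hmove : ∀ (x : Gn), (pu x : Pn) ∈ T → ∀ g : Gn, g * x * g⁻¹ ∈ S → (pu (g * x * g⁻¹) : Pn) ∈ T := by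
    intro x hx g hg
    rw [map_mul, map_mul, map_inv]
    exact hcl _ hx (pu g) (by rw [← map_inv, ← map_mul, ← map_mul]; exact Subgroup.mem_map_of_mem pu hg)
  have hQ : Qg hstar hee ≤ (S : Subgroup Gn) := Qg_le_sylow hstar S hee A.fix
  obtain ⟨x, hxT, hx1, hxc⟩ := exists_central_of_normalized (S.2.map pu) hTS hT1
    fun s hs x hx => hcl x hx s (mul_mem (mul_mem hs (hTS hx)) (inv_mem hs))
  have hxm : x ∈ cset ((S : Subgroup Gn).map (pu : Gn →* Pn)) := ⟨hTS hxT, fun y hy => (hxc y hy).symm⟩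
  rw [cset_sylow_map hstar hF hn3 S he A.fix] at hxm
  obtain ⟨t0, ht0, rfl⟩ := hxm
  have ht00 : t0 ≠ 0 := fun h => hx1 (by rw [h, eich_zero_zero hstar hee, map_one])
  have htr : ∀ t : F, star t = -t → (pu (eich hstar e 0 t) : Pn) ∈ T := by
    intro t ht
    rcases eq_or_ne t 0 with rfl | ht'
    · rw [eich_zero_zero hstar hee, map_one]; exact one_mem T
    obtain ⟨c, hc⟩ := exists_neg_norm hstar hF (r := t / t0) (by rw [star_div₀, ht, ht0, neg_div_neg_eq])
    have hc0 : c ≠ 0 := fun h => div_ne_zero ht' ht00 (by rw [← hc, h, mul_zero])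
    obtain ⟨g, hg⟩ := exists_act_eq hstar hF hn3 he (he.smul hc0)
    have e1 : g * eich hstar e 0 t0 * g⁻¹ = eich hstar e 0 t := by
      rw [eich_conj hstar g ((EOk_zero_iff hee).2 ht0), hg, show act g (0 : Vn) = 0 from Matrix.mulVec_zero _,
        eich_smul hstar ((EOk_zero_iff (he.smul hc0).2).2 ht0) hc0, smul_zero, hc, div_mul_cancel₀ _ ht00]
    exact e1 ▸ hmove _ hxT g (e1.symm ▸ hQ ⟨0, t, (EOk_zero_iff hee).2 ht, rfl⟩)
  -- transvections centred in the plane
  have htrE : ∀ c d : F, IsPt (c • e + d • w) → ∀ t : F, star t = -t →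
      (pu (eich hstar (c • e + d • w) 0 t) : Pn) ∈ T := by
    intro c d hv t ht
    obtain ⟨g, hg⟩ := exists_act_eq hstar hF hn3 he hv
    have e1 : g * eich hstar e 0 t * g⁻¹ = eich hstar (c • e + d • w) 0 t := by
      rw [eich_conj hstar g ((EOk_zero_iff hee).2 ht), hg, show act g (0 : Vn) = 0 from Matrix.mulVec_zero _]
    exact e1 ▸ hmove _ (htr t ht) g (e1.symm ▸ A.R2_le hstar hF
      (eich_mem_R2 hstar hee hww hew ((EOk_zero_iff hv.2).2 ht) ⟨c, d, rfl⟩ (herm_zero_right _) (herm_zero_right _)))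
  obtain ⟨θ, hθ0, hθ⟩ := exists_skew hstar hF
  have hshort : ∀ c : F, (pu (eich hstar e (c • w) 0) : Pn) ∈ T := by
    intro c
    rcases eq_or_ne c 0 with rfl | hc
    · rw [zero_smul, eich_zero_zero hstar hee, map_one]; exact one_mem T
    set d := c / θ with hd
    have hok : EOk e (c • w) 0 :=
      ⟨hee, by rw [herm_smul_right, hew, mul_zero], by rw [herm_smul_left, herm_smul_right, hww]; simp⟩
    have hdw : IsPt (d • w) := A.wpt.smul (div_ne_zero hc hθ0)
    have hedw : herm (e + d • w) (e + d • w) = 0 := by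
      simp [herm_add_left, herm_add_right, herm_smul_left, herm_smul_right, hee, hww, hew, hwe]
    have hpt : IsPt ((1 : F) • e + d • w) := by
      refine ⟨fun h => ?_, by rwa [one_smul]⟩
      have := congrArg (herm f) h
      simp [herm_add_right, herm_smul_right, hfw, P.fe, herm_zero_right] at this
    have hnθ : star (-θ) = -(-θ) := by rw [star_neg, hθ]
    have e1 : eich hstar e (c • w) 0 =
        eich hstar ((1 : F) • e + d • w) 0 θ * (eich hstar e 0 (-θ) * eich hstar ((0 : F) • e + d • w) 0 (-θ)) := by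
      rw [one_smul, zero_smul, zero_add]
      apply eq_of_act
      intro y
      simp only [act_mul, act_eich_zero hstar hedw hθ, act_eich_zero hstar hee hnθ,
        act_eich_zero hstar hdw.2 hnθ, act_eich hstar hok, herm_add_left, herm_add_right, herm_smul_left,
        herm_smul_right, hee, hww, hew, hwe, mul_zero, add_zero, zero_mul, zero_sub]
      have hθd : θ * d = c := by rw [hd]; field_simp
      have hθd' : -(θ * star d) = star c := by rw [← hθd, star_mul', hθ]; ring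
      rw [← hθd', ← hθd]
      module
    rw [e1, map_mul, map_mul]
    exact mul_mem (htrE 1 d hpt θ hθ) (mul_mem (htr _ hnθ)
      (htrE 0 d (by rwa [zero_smul, zero_add]) _ hnθ))
  set I' : Finset (Fin n) := Finset.univ \ {i, j} with hI'
  -- Eichler elements with isotropic parameter
  have hiso : ∀ z : Vn, Supp I' z → herm z z = 0 → (pu (eich hstar e z 0) : Pn) ∈ T := by
    intro z hzs hzz
    rcases eq_or_ne z 0 with rfl | hz0
    · rw [eich_zero_zero hstar hee, map_one]; exact one_mem T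
    obtain ⟨m, hm⟩ : ∃ m, z m ≠ 0 := Function.ne_iff.mp hz0
    have hmI : m ∈ I' := by_contra fun h => hm (hzs m h)
    have hcard : 2 ≤ I'.card := by
      rw [hI', Finset.card_sdiff_of_subset (Finset.subset_univ _), Finset.card_pair P.ne, Finset.card_univ,
        Fintype.card_fin]
      omega
    obtain ⟨l, hl, hlm⟩ := Finset.exists_mem_ne (show 1 < I'.card by omega) m
    obtain ⟨e', f', P'⟩ := exists_pair hstar hF hlm
    obtain ⟨c1, hc1, k1, hk1, hkw⟩ := to_line (p := p) hstar hF P' hl hmI A.wpt.1 hww A.wsupp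
    obtain ⟨c2, hc2, k2, hk2, hkz⟩ := to_line (p := p) hstar hF P' hl hmI hz0 hzz hzs
    have hgI : k2⁻¹ * k1 ∈ fixOut q I' := mul_mem (inv_mem (KI_le _ hk2)) (KI_le _ hk1)
    have hgw : act (k2⁻¹ * k1) ((c2 / c1) • w) = z := by
      rw [act_smul, act_mul, hkw, act_smul, smul_smul, div_mul_cancel₀ _ hc1, ← act_smul, ← hkz, act_inv_act]
    have hge : act (k2⁻¹ * k1) e = e := (fix_of_fixOut P hgI).1
    have hok : EOk e ((c2 / c1) • w) 0 :=
      ⟨hee, by rw [herm_smul_right, hew, mul_zero], by rw [herm_smul_left, herm_smul_right, hww]; simp⟩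
    have e1 : k2⁻¹ * k1 * eich hstar e ((c2 / c1) • w) 0 * (k2⁻¹ * k1)⁻¹ = eich hstar e z 0 := by
      rw [eich_conj hstar _ hok, hge, hgw]
    have hokz : EOk e z 0 := ⟨hee, (P.perp hzs).1, by rw [hzz]; simp⟩
    exact e1 ▸ hmove _ (hshort _) _ (e1.symm ▸ hQ ⟨z, 0, hokz, rfl⟩)
  -- the whole Eichler group
  have hgood : ∀ z : Vn, Supp I' z → ∃ a, EOk e z a ∧ (pu (eich hstar e z a) : Pn) ∈ T := by
    have hadd : ∀ z z' : Vn, (∃ a, EOk e z a ∧ (pu (eich hstar e z a) : Pn) ∈ T) →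
        (∃ a, EOk e z' a ∧ (pu (eich hstar e z' a) : Pn) ∈ T) →
        ∃ a, EOk e (z + z') a ∧ (pu (eich hstar e (z + z') a) : Pn) ∈ T := by
      rintro z z' ⟨a, ha, haT⟩ ⟨b, hb, hbT⟩
      exact ⟨_, ha.add hb, by rw [← eich_mul hstar ha hb, map_mul]; exact mul_mem haT hbT⟩
    have hisoK : ∀ z : Vn, Supp I' z → herm z z = 0 → ∃ a, EOk e z a ∧ (pu (eich hstar e z a) : Pn) ∈ T :=
      fun z hz hzz => ⟨0, ⟨hee, (P.perp hz).1, by rw [hzz]; simp⟩, hiso z hz hzz⟩
    intro z hz
    rw [← Finset.univ_sum_single z]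
    refine Finset.sum_induction _ (fun z => ∃ a, EOk e z a ∧ (pu (eich hstar e z a) : Pn) ∈ T) hadd
      (hisoK 0 (fun _ _ => rfl) (herm_zero_left _)) fun m _ => ?_
    by_cases hm : m ∈ I'
    swap
    · rw [hz m hm, Pi.single_zero]; exact hisoK 0 (fun _ _ => rfl) (herm_zero_left _)
    have hcard : 1 < I'.card := by
      rw [hI', Finset.card_sdiff_of_subset (Finset.subset_univ _), Finset.card_pair P.ne, Finset.card_univ,
        Fintype.card_fin]
      omega
    obtain ⟨l, hl, hlm⟩ := Finset.exists_mem_ne hcard m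
    obtain ⟨e', f', P'⟩ := exists_pair hstar hF hlm
    have hsupp : Supp ({l, m} : Finset (Fin n)) (Pi.single m (z m) : Vn) := Supp.single (by simp) _
    rw [pair_span P' hsupp]
    exact hadd _ _ (hisoK _ ((supp_pair hl hm P'.supp_e).smul _) (by rw [herm_smul_left, herm_smul_right, P'.ee]; ring))
      (hisoK _ ((supp_pair hl hm P'.supp_f).smul _) (by rw [herm_smul_left, herm_smul_right, P'.ff]; ring))
  have hQT : ∀ (z : Vn) (a : F), EOk e z a → (pu (eich hstar e z a) : Pn) ∈ T := by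
    intro z a hok
    set r := herm f z with hr
    have hz' : Supp I' (z - r • e) := by
      have h1 := P.decompose (Finset.mem_univ i) (Finset.mem_univ j) (v := z)
        (fun m hm => absurd (Finset.mem_univ m) hm)
      rwa [hok.2.1, zero_smul, sub_zero, ← hr] at h1
    obtain ⟨b, hb, hbT⟩ := hgood _ hz'
    have hok' : EOk e (z - r • e) (a + r - star r) := by
      obtain ⟨h1, h2, h3⟩ := hb
      refine ⟨h1, h2, ?_⟩
      have h4 := (hok.shift (-r)).2.2
      rw [show z + -r • e = z - r • e by rw [neg_smul, sub_eq_add_neg]] at h4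
      rw [star_sub, star_add, star_star]
      linear_combination h4
    have he2 : eich hstar e z a = eich hstar e (z - r • e) (a + r - star r) := by
      have h1 : EOk e (z - r • e) a := by
        have h := hok.shift (-r)
        rwa [show z + -r • e = z - r • e by rw [neg_smul, sub_eq_add_neg]] at h
      rw [← eich_shift hstar r h1, sub_add_cancel]
    have ht : star (a + r - star r - b) = -(a + r - star r - b) := by
      have h1 := hok'.2.2
      have h2 := hb.2.2
      rw [star_sub (a + r - star r) b]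
      linear_combination h1 - h2
    have he3 : eich hstar e (z - r • e) (a + r - star r) =
        eich hstar e (z - r • e) b * eich hstar e 0 (a + r - star r - b) := by
      rw [eich_mul hstar hb ((EOk_zero_iff hee).2 ht), add_zero, herm_zero_right, sub_zero, add_sub_cancel]
    rw [he2, he3, map_mul]
    exact mul_mem hbT (htr _ ht)
  -- everything
  have hgen := eich_gen (p := p) hstar hF n Finset.univ (by simp) (S : Subgroup Gn)
    (fun g _ k hk => absurd (Finset.mem_univ k) hk) S.2 fun Q _ hQ' hle => (S.3 hQ' hle).le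
  rintro _ ⟨s, hs, rfl⟩
  have h1 := Subgroup.mem_map_of_mem (pu : Gn →* Pn) (hgen hs)
  rw [MonoidHom.map_closure] at h1
  refine (Subgroup.closure_le T).2 ?_ h1
  rintro _ ⟨g, ⟨hgS, v, z, a, hv, hok, rfl⟩, rfl⟩
  obtain ⟨x, hx⟩ := exists_act_eq hstar hF hn3 hv he
  have hok' := hok.act hstar x
  rw [hx] at hok'
  have e1 : x⁻¹ * eich hstar e (act x z) a * x⁻¹⁻¹ = eich hstar v z a := by
    rw [← hx, ← eich_conj hstar x hok]; group
  exact e1 ▸ hmove _ (hQT _ _ hok') x⁻¹ (e1.symm ▸ hgS)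

include hstar hF in
/-- An element of the normalizer of the Sylow subgroup scales `e` as prescribed. -/
theorem Setup.exists_scale (A : Setup p S i j e f w) {lam : F} (hl : lam ≠ 0) :
    ∃ h : Gn, h ∈ Subgroup.normalizer ((S : Subgroup Gn) : Set Gn) ∧
      h ∈ Subgroup.closure {k | k ∈ NE q e w ∧ PEl p k} ∧ act h e = lam • e := by
  classical
  obtain ⟨hee, hww, hew, hfw⟩ := A.herms hstar
  have P := A.pair
  have hwe : herm w e = 0 := by rw [← star_herm, hew, star_zero]
  have hef : herm w f = 0 := by rw [← star_herm, hfw, star_zero]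
  obtain ⟨m, hm⟩ : ∃ m, w m ≠ 0 := Function.ne_iff.mp A.wpt.1
  have hmI : m ∈ (Finset.univ \ {i, j} : Finset (Fin n)) := by_contra fun h => hm (A.wsupp m h)
  set w' : Vn := Pi.single m (star (w m))⁻¹ with hw'
  have hw's : Supp (Finset.univ \ {i, j}) w' := Supp.single hmI _
  have hww' : herm w w' = 1 := by rw [hw', herm_single_right, mul_inv_cancel₀ (star_ne_zero.2 hm)]
  have hw'w : herm w' w = 1 := by rw [← star_herm, hww', star_one]
  have hw'e : herm w' e = 0 := by rw [← star_herm, (P.perp hw's).1, star_zero]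
  set H := Subgroup.closure {k : Gn | k ∈ NE q e w ∧ PEl p k} with hH
  have hX : ∀ c : F, ∃ x ∈ H, act x e = e + c • w ∧ act x w = w := by
    intro c
    have hok : EOk w (-star c • f) 0 :=
      ⟨hww, by rw [herm_smul_right, hef, mul_zero], by rw [herm_smul_left, herm_smul_right, P.ff]; simp⟩
    have h1 : act (eich hstar w (-star c • f) 0) e = e + c • w := by
      rw [act_eich hstar hok, hwe, herm_smul_left, P.fe]; simp
    have h2 : act (eich hstar w (-star c • f) 0) w = w := by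
      rw [act_eich hstar hok, hww, herm_smul_left, hfw]; simp
    exact ⟨_, Subgroup.subset_closure ⟨⟨⟨1, c, by rw [h1, one_smul]⟩, 0, 1, by rw [h2]; simp⟩,
      PEl_eich hstar hok⟩, h1, h2⟩
  have hY : ∀ c : F, ∃ y ∈ H, act y e = e ∧ act y w = w + c • e := by
    intro c
    obtain ⟨a, hok⟩ := exists_param hstar hF (e := e) (z := -star c • w') hee
      (by rw [herm_smul_right, (P.perp hw's).1, mul_zero])
    have h1 : act (eich hstar e (-star c • w') a) e = e := act_eich_self hstar hok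
    have h2 : act (eich hstar e (-star c • w') a) w = w + c • e := by
      rw [act_eich hstar hok, hew, herm_smul_left, hw'w]; simp
    exact ⟨_, Subgroup.subset_closure ⟨⟨⟨1, 0, by rw [h1]; simp⟩, c, 1, by rw [h2]; module⟩,
      PEl_eich hstar hok⟩, h1, h2⟩
  have hW : ∀ a : F, a ≠ 0 → ∃ x ∈ H, act x e = a • w ∧ act x w = (-a⁻¹) • e := by
    intro a ha
    obtain ⟨x, hx, hxe, hxw⟩ := hX a
    obtain ⟨y, hy, hye, hyw⟩ := hY (-a⁻¹)
    refine ⟨x * y * x, mul_mem (mul_mem hx hy) hx, ?_, ?_⟩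
    · rw [act_mul, act_mul, hxe, act_add, act_smul, hye, hyw, act_add, act_smul, act_add, act_smul, hxe, hxw,
        smul_add, smul_smul, mul_neg, mul_inv_cancel₀ ha]
      module
    · rw [act_mul, act_mul, hxw, hyw, act_add, act_smul, hxe, hxw, smul_add, smul_smul, neg_mul, inv_mul_cancel₀ ha]
      module
  obtain ⟨x1, hx1, hx1e, hx1w⟩ := hW 1 one_ne_zero
  obtain ⟨x2, hx2, hx2e, -⟩ := hW (-lam) (neg_ne_zero.2 hl)
  set h0 := x1 * x2 with hh0
  have hh0H : h0 ∈ H := mul_mem hx1 hx2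
  have hh0e : act h0 e = lam • e := by
    rw [hh0, act_mul, hx2e, act_smul, hx1w, smul_smul]; simp
  -- Frattini
  let Fe : Subgroup Gn :=
    { carrier := {g | act g e = e}
      one_mem' := act_one e
      mul_mem' := fun {a b} ha hb => by
        show act (a * b) e = e
        rw [act_mul, show act b e = e from hb, show act a e = e from ha]
      inv_mem' := fun {a} ha => by
        show act a⁻¹ e = e
        conv_lhs => rw [← show act a e = e from ha]
        rw [act_inv_act] }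
  set K1 := H ⊓ Fe
  have hSK : (S : Subgroup Gn) ≤ K1 := fun s hs =>
    ⟨Subgroup.subset_closure ⟨A.le_NE hs, by
      obtain ⟨k, hk⟩ := S.2 ⟨s, hs⟩
      exact ⟨k, congrArg Subtype.val hk⟩⟩, A.fix s hs⟩
  have hSK' : ((h0 • S : Sylow p Gn) : Subgroup Gn) ≤ K1 := by
    intro s hs
    rw [Sylow.smul_def] at hs
    replace hs : s ∈ MulAut.conj h0 • (S : Subgroup Gn) := hs
    rw [Subgroup.mem_pointwise_smul_iff_inv_smul_mem] at hs
    simp only [MulAut.smul_def, MulAut.inv_apply, MulAut.conj_symm_apply] at hs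
    obtain ⟨h1, h2⟩ := hSK hs
    refine ⟨?_, ?_⟩
    · have := mul_mem (mul_mem hh0H h1) (inv_mem hh0H)
      simpa [mul_assoc] using this
    · show act s e = e
      have h3 : act (h0⁻¹ * s * h0) e = e := h2
      rw [act_mul, act_mul, hh0e, act_smul, act_smul] at h3
      have h4 := congrArg (act h0) h3
      rw [act_smul, act_act_inv, hh0e] at h4
      exact smul_right_injective _ hl h4
  obtain ⟨k, hk⟩ := MulAction.exists_smul_eq K1 ((h0 • S).subtype hSK') (S.subtype hSK)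
  rw [Sylow.smul_subtype] at hk
  have hk' : (k : Gn) • h0 • S = S := Sylow.subtype_injective hk
  rw [← mul_smul] at hk'
  refine ⟨k * h0, Sylow.smul_eq_iff_mem_normalizer.1 hk', mul_mem k.2.1 hh0H, ?_⟩
  rw [act_mul, hh0e, act_smul, show act (k : Gn) e = e from k.2.2]

include hstar hF in
/-- Simplicity. -/
theorem psu_simple (hn : 4 ≤ n) (S' : Sylow p Pn) :
    (groupFusionSystem (S' : Subgroup Pn)).IsSimple p := by
  classical
  haveI : Finite Pn := Finite.of_surjective _ pu_surjective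
  have hn3 : 3 ≤ n := by omega
  obtain ⟨S, i, j, e, f, w, A⟩ := exists_setup (p := p) hstar hF hn
  obtain ⟨hee, hww, hew, hfw⟩ := A.herms hstar
  have P := A.pair
  have he := (pair_isPt P).1
  obtain ⟨θ, hθ0, hθ⟩ := exists_skew hstar hF
  set S₀ : Sylow p Pn := S.mapSurjective pu_surjective with hS₀def
  have hS₀ : (S₀ : Subgroup Pn) = (S : Subgroup Gn).map pu := Sylow.coe_mapSurjective ..
  have hQ : Qg hstar hee ≤ (S : Subgroup Gn) := Qg_le_sylow hstar S hee A.fix
  refine simple_of_normal_centric S₀ S' ?_ ?_ ?_ <;> rw [hS₀]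
  · intro h
    have h1 : (pu (eich hstar e 0 θ) : Pn) ∈ (S : Subgroup Gn).map pu :=
      Subgroup.mem_map_of_mem pu (hQ ⟨0, θ, (EOk_zero_iff hee).2 hθ, rfl⟩)
    rw [h, Subgroup.mem_bot, ← map_one (pu (n := n) (F := F) (q := q))] at h1
    exact hθ0 (eich_zero_eq_one hstar hF hn3 he hθ (pElem_inj hstar hF hn3
      (PEl_eich (p := p) hstar ((EOk_zero_iff hee).2 hθ)) ⟨0, one_pow _⟩ h1))
  · exact A.closed_eq hstar hF hn
  intro g hg
  obtain ⟨g, rfl⟩ := pu_surjective g
  have hSpel : ∀ s ∈ S, PEl p s := fun s hs => by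
    obtain ⟨k, hk⟩ := S.2 ⟨s, hs⟩
    exact ⟨k, congrArg Subtype.val hk⟩
  have hnorm : ∀ h : Gn, h ∈ Subgroup.normalizer ((S : Subgroup Gn) : Set Gn) →
      (pu h : Pn) ∈ Subgroup.normalizer (((S : Subgroup Gn).map pu : Subgroup Pn) : Set Pn) := by
    intro h hh
    refine Subgroup.mem_normalizer_fintype ?_
    rintro _ ⟨x, hx, rfl⟩
    rw [← map_inv, ← map_mul, ← map_mul]
    exact Subgroup.mem_map_of_mem pu ((Subgroup.mem_normalizer_iff.1 hh x).1 hx)
  have hgn : g ∈ Subgroup.normalizer ((S : Subgroup Gn) : Set Gn) := by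
    refine Subgroup.mem_normalizer_fintype fun x hx => ?_
    obtain ⟨u, hu, hue⟩ := (Subgroup.mem_normalizer_iff.1 hg (pu x)).1 (Subgroup.mem_map_of_mem pu hx)
    rw [← map_inv, ← map_mul, ← map_mul] at hue
    obtain ⟨k, hk⟩ := hSpel x hx
    exact (pElem_inj hstar hF hn3 (hSpel u hu) ⟨k, by rw [← MulAut.conj_apply, ← map_pow, hk, map_one]⟩ hue) ▸ hu
  -- `g` stabilises the line of `e`
  obtain ⟨lam, hlam⟩ : ∃ c : F, act g e = c • e := by
    have hokθ := (EOk_zero_iff hee).2 hθ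
    have hxS : g * eich hstar e 0 θ * g⁻¹ ∈ S :=
      (Subgroup.mem_normalizer_iff.1 hgn _).1 (hQ ⟨0, θ, hokθ, rfl⟩)
    obtain ⟨t, ht, heq⟩ := (sylow_center_elem hstar hF hn3 S he A.fix _).1 ⟨hxS, fun y hy => by
      have hy' : g⁻¹ * y * g ∈ S := by
        have := (Subgroup.mem_normalizer_iff.1 (inv_mem hgn) y).1 hy
        rwa [inv_inv] at this
      have h1 := ((sylow_center_elem hstar hF hn3 S he A.fix _).2 ⟨θ, hθ, rfl⟩).2 _ hy'
      calc g * eich hstar e 0 θ * g⁻¹ * y = g * (eich hstar e 0 θ * (g⁻¹ * y * g)) * g⁻¹ := by group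
        _ = g * (g⁻¹ * y * g * eich hstar e 0 θ) * g⁻¹ := by rw [h1]
        _ = _ := by group⟩
    rw [eich_conj hstar g hokθ, show act g (0 : Vn) = 0 from Matrix.mulVec_zero _] at heq
    exact line_of_trans_eq hstar hF hn3 (he.act hstar g) hee hθ0 hθ ht heq
  have hlam0 : lam ≠ 0 := fun h => (he.act hstar g).1 (by rw [hlam, h, zero_smul])
  obtain ⟨h, hhn, hhH, hhe⟩ := A.exists_scale hstar hF hlam0
  have hg'n : h⁻¹ * g ∈ Subgroup.normalizer ((S : Subgroup Gn) : Set Gn) := mul_mem (inv_mem hhn) hgn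
  have hg'e : act (h⁻¹ * g) e = e := by rw [act_mul, hlam, ← hhe, act_inv_act]
  rw [show g = h * (h⁻¹ * g) by rw [mul_inv_cancel_left], map_mul]
  refine Subgroup.mul_mem _ (Subgroup.subset_closure ⟨hnorm _ hhn, (R2 q e w).map pu, ?_, ?_, ?_, ?_⟩)
    (Subgroup.subset_closure ⟨hnorm _ hg'n, (Qg hstar hee).map pu, ?_, ?_, ?_, ?_⟩)
  · exact Subgroup.map_mono (A.R2_le hstar hF)
  · rintro _ ⟨s, hs, rfl⟩ _ ⟨x, hx, rfl⟩
    rw [← map_inv, ← map_mul, ← map_mul]
    exact Subgroup.mem_map_of_mem pu (R2_conj hstar (A.le_NE hs) hx)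
  · intro x hx
    obtain ⟨x, rfl⟩ := pu_surjective x
    obtain ⟨z, r, hz, hr, rfl⟩ := R2_commute (p := p) hstar hF hn3 P A.wpt hew hfw fun r hr =>
      pElem_comm hstar hF hn3 (R2_pel (p := p) hstar hF hee hww hew hr)
        (Subgroup.mem_centralizer_iff.1 hx _ ⟨r, hr, rfl⟩).symm
    exact ⟨r, hr, by rw [map_mul, pu_eq_one.2 hz, one_mul]⟩
  · have h1 := Subgroup.mem_map_of_mem (pu : Gn →* Pn) hhH
    rw [MonoidHom.map_closure] at h1
    refine Subgroup.closure_mono ?_ h1
    rintro _ ⟨k, ⟨hkN, e', he'⟩, rfl⟩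
    refine ⟨Subgroup.mem_normalizer_fintype ?_, e', by rw [← map_pow, he', map_one]⟩
    rintro _ ⟨x, hx, rfl⟩
    rw [← map_inv, ← map_mul, ← map_mul]
    exact Subgroup.mem_map_of_mem pu (R2_conj hstar hkN hx)
  · exact Subgroup.map_mono hQ
  · rintro _ ⟨s, hs, rfl⟩ _ ⟨_, ⟨z, a, hok, rfl⟩, rfl⟩
    rw [← map_inv, ← map_mul, ← map_mul, eich_conj hstar s hok, A.fix s hs]
    have h' := hok.act hstar s
    rw [A.fix s hs] at h'
    exact ⟨_, ⟨_, _, h', rfl⟩, rfl⟩
  · intro x hx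
    obtain ⟨x, rfl⟩ := pu_surjective x
    have hcomm : ∀ y ∈ Qg hstar hee, x * y = y * x := by
      rintro _ ⟨z, a, hok, rfl⟩
      exact pElem_comm hstar hF hn3 (PEl_eich (p := p) hstar hok)
        (Subgroup.mem_centralizer_iff.1 hx _ ⟨_, ⟨z, a, hok, rfl⟩, rfl⟩).symm
    obtain ⟨z, r, hz, hr, rfl⟩ := Qg_commute (p := p) hstar hF hn3 P hcomm
    exact ⟨r, hr, by rw [map_mul, pu_eq_one.2 hz, one_mul]⟩
  · have hKI := Subgroup.mem_map_of_mem (pu : Gn →* Pn) (show h⁻¹ * g ∈ Qg hstar hee ⊔ KI p q (Finset.univ \ {i, j}) by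
      obtain ⟨z, a, m, hok, -, hm, heq⟩ := decomp_in hstar P (Finset.mem_univ i) (Finset.mem_univ j)
        (fun k hk => absurd (Finset.mem_univ k) hk) hg'e
      rw [heq]
      exact Subgroup.mul_mem_sup ⟨z, a, hok, rfl⟩ (fixOut_le_KI hstar hF _ _ rfl hm))
    rw [Subgroup.map_sup] at hKI
    refine SetLike.le_def.1 (sup_le ?_ ?_) hKI
    · rintro _ ⟨x, hx, rfl⟩
      refine Subgroup.subset_closure ⟨Subgroup.le_normalizer (Subgroup.mem_map_of_mem pu hx), ?_⟩
      obtain ⟨k, hk⟩ := hSpel x (hQ hx)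
      exact ⟨k, by rw [← map_pow, hk, map_one]⟩
    · rw [KI, MonoidHom.map_closure]
      refine Subgroup.closure_mono ?_
      rintro _ ⟨k, ⟨hkI, e', he'⟩, rfl⟩
      refine ⟨Subgroup.mem_normalizer_fintype ?_, e', by rw [← map_pow, he', map_one]⟩
      rintro _ ⟨_, ⟨z, a, hok, rfl⟩, rfl⟩
      have hke : act k e = e := (fix_of_fixOut P hkI).1
      rw [← map_inv, ← map_mul, ← map_mul, eich_conj hstar k hok, hke]
      have h' := hok.act hstar k
      rw [hke] at h'
      exact ⟨_, ⟨_, _, h', rfl⟩, rfl⟩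

end Cfsg.Agent.Local.FS.PSUnSimple
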