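import Cfsg.Agent.Lib.Local.FS.SimpleGroupSystem

/-!
Simplicity of the two-fusion system when the Sylow subgroup is semidihedral of order sixteen
and its two kinds of involutions and of elements of order four are fused.
-/

set_option autoImplicit false

namespace Cfsg.Agent.Local.FS

open Cfsg Cfsg.FusionSystem Cfsg.Agent.Fusion

variable {G : Type*} [Group G] [Finite G]

theorem sd16_simple (S : Sylow 2 G) (hcard : Nat.card (S : Subgroup G) = 16)
    {a b : G} (ha : a ∈ (S : Subgroup G)) (hb : b ∈ (S : Subgroup G))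
    (ha8 : a ^ 8 = 1) (ha4 : a ^ 4 ≠ 1) (hb2 : b * b = 1) (hba : b * a = a ^ 3 * b)
    (h1 : ∃ g : G, g * a ^ 4 * g⁻¹ = b) (h2 : ∃ g : G, g * a ^ 2 * g⁻¹ = a * b) :
    (groupFusionSystem (S : Subgroup G)).IsSimple 2 := by
  classical
  have ho : orderOf a = 8 := by
    have := orderOf_eq_prime_pow (p := 2) (n := 2) (x := a) (by norm_num; exact ha4) (by norm_num; exact ha8)
    simpa using this
  have hbc : b * a ≠ a * b := by
    intro h
    rw [hba] at h
    have h' := mul_right_cancel h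
    have e : a ^ 2 = 1 := mul_right_cancel (b := a) (by rw [← pow_succ, one_mul]; exact h')
    exact ha4 (by rw [show 4 = 2 * 2 from rfl, pow_mul, e, one_pow])
  have hbinv : b⁻¹ = b := inv_eq_of_mul_eq_one_right hb2
  have hconj : ∀ i : ℕ, b * a ^ i = a ^ (3 * i) * b := by
    intro i
    induction i with
    | zero => simp
    | succ i ih => rw [pow_succ, ← mul_assoc, ih, mul_assoc, hba, ← mul_assoc, ← pow_add, Nat.mul_succ]
  have hnp : ∀ i : ℕ, b ≠ a ^ i := fun i h => hbc (by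
    rw [h]; exact ((Commute.refl a).pow_left i).eq)
  have hmk : ∀ x ∈ (S : Subgroup G), ∃ i : ℕ, i < 8 ∧ (x = a ^ i ∨ x = b * a ^ i) := by
    let f : Fin 8 ⊕ Fin 8 → (S : Subgroup G) := fun v => Sum.elim (fun i : Fin 8 => ⟨a ^ (i : ℕ), pow_mem ha _⟩)
      (fun i : Fin 8 => ⟨b * a ^ (i : ℕ), mul_mem hb (pow_mem ha _)⟩) v
    have hinj0 : ∀ i j : Fin 8, a ^ (i : ℕ) = a ^ (j : ℕ) → i = j := fun i j h => Fin.ext
      (pow_injOn_Iio_orderOf (by rw [ho]; exact i.2) (by rw [ho]; exact j.2) h)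
    have hmix : ∀ i j : Fin 8, a ^ (i : ℕ) ≠ b * a ^ (j : ℕ) := fun i j h => hnp ((i : ℕ) + 7 * (j : ℕ)) (by
      rw [pow_add, h, mul_assoc, ← pow_add, show (j : ℕ) + 7 * (j : ℕ) = 8 * (j : ℕ) by ring, pow_mul, ha8,
        one_pow, mul_one])
    have hinj : Function.Injective f := by
      rintro (i | i) (j | j) h
      · exact congrArg Sum.inl (hinj0 i j (congrArg Subtype.val h))
      · exact absurd (congrArg Subtype.val h) (hmix i j)
      · exact absurd (congrArg Subtype.val h).symm (hmix j i)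
      · exact congrArg Sum.inr (hinj0 i j (mul_left_cancel (congrArg Subtype.val h)))
    have hbij : Function.Bijective f :=
      (Nat.bijective_iff_injective_and_card f).2 ⟨hinj, by rw [hcard, Nat.card_sum, Nat.card_fin]⟩
    intro x hx
    obtain ⟨v, hv⟩ := hbij.2 ⟨x, hx⟩
    rcases v with i | i
    · exact ⟨i, i.2, Or.inl (congrArg Subtype.val hv).symm⟩
    · exact ⟨i, i.2, Or.inr (congrArg Subtype.val hv).symm⟩
  have hsq : ∀ i : ℕ, (b * a ^ i) * (b * a ^ i) = a ^ (4 * i) := by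
    intro i
    rw [mul_assoc, ← mul_assoc (a ^ i) b, show a ^ i * b = b * a ^ (3 * i) by
      rw [hconj, show 3 * (3 * i) = i + 8 * i by ring, pow_add, pow_mul, ha8, one_pow, mul_one],
      mul_assoc, ← pow_add, ← mul_assoc, hb2, one_mul]
    congr 1; ring
  refine simple_of_normalizer S ?_ ?_ ?_
  · intro h
    rw [h, Subgroup.card_bot] at hcard
    omega
  · intro n hn
    have hmem : ∀ x ∈ (S : Subgroup G), n * x * n⁻¹ ∈ (S : Subgroup G) :=
      fun x hx => (Subgroup.mem_normalizer_iff.1 hn x).1 hx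
    obtain ⟨i, hi8, hi⟩ := hmk _ (hmem a ha)
    have hai : n * a * n⁻¹ = a ^ i ∧ i % 2 = 1 := by
      rcases hi with hi | hi
      · refine ⟨hi, ?_⟩
        by_contra hev
        have h4 : (n * a * n⁻¹) ^ 4 = 1 := by
          rw [hi, ← pow_mul, show i * 4 = 8 * (i / 2) by omega, pow_mul, ha8, one_pow]
        rw [conj_pow, conj_eq_one_iff] at h4
        exact ha4 h4
      · exfalso
        have h4 : (n * a * n⁻¹) ^ 4 = 1 := by
          rw [hi, show (4 : ℕ) = 2 * 2 from rfl, pow_mul, pow_two, pow_two, hsq, ← pow_add,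
            show 4 * i + 4 * i = 8 * i by ring, pow_mul, ha8, one_pow]
        rw [conj_pow, conj_eq_one_iff] at h4
        exact ha4 h4
    have hsqa : n ^ 2 * a * (n ^ 2)⁻¹ = a := by
      have e : n ^ 2 * a * (n ^ 2)⁻¹ = n * (n * a * n⁻¹) * n⁻¹ := by rw [pow_two]; group
      rw [e, hai.1, ← conj_pow, hai.1, ← pow_mul]
      have hmod : (i * i) % 8 = 1 := by
        obtain ⟨_, h⟩ := hai
        interval_cases i <;> omega
      rw [← Nat.div_add_mod (i * i) 8, hmod, pow_add, pow_mul, ha8, one_pow, one_mul, pow_one]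
    have hn2 : n ^ 2 ∈ Subgroup.normalizer ((S : Subgroup G) : Set G) := pow_mem hn 2
    obtain ⟨k, -, hk⟩ := hmk _ ((Subgroup.mem_normalizer_iff.1 hn2 b).1 hb)
    have hkb : n ^ 2 * b * (n ^ 2)⁻¹ = b * a ^ k := by
      refine hk.resolve_left fun hk => hnp k ?_
      have e : n ^ 2 * a ^ k * (n ^ 2)⁻¹ = a ^ k := by rw [← conj_pow, hsqa]
      exact mul_left_cancel (mul_right_cancel (hk.trans e.symm))
    have hiter : ∀ m : ℕ, (n ^ 2) ^ m * a * ((n ^ 2) ^ m)⁻¹ = a ∧
        (n ^ 2) ^ m * b * ((n ^ 2) ^ m)⁻¹ = b * a ^ (k * m) := by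
      intro m
      induction m with
      | zero => simp
      | succ m ih =>
        obtain ⟨iha, ihb⟩ := ih
        refine ⟨?_, ?_⟩
        · calc (n ^ 2) ^ (m + 1) * a * ((n ^ 2) ^ (m + 1))⁻¹
              = (n ^ 2) ^ m * (n ^ 2 * a * (n ^ 2)⁻¹) * ((n ^ 2) ^ m)⁻¹ := by rw [pow_succ]; group
            _ = a := by rw [hsqa, iha]
        · calc (n ^ 2) ^ (m + 1) * b * ((n ^ 2) ^ (m + 1))⁻¹
              = (n ^ 2) ^ m * (n ^ 2 * b * (n ^ 2)⁻¹) * ((n ^ 2) ^ m)⁻¹ := by rw [pow_succ]; group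
            _ = ((n ^ 2) ^ m * b * ((n ^ 2) ^ m)⁻¹) * ((n ^ 2) ^ m * a * ((n ^ 2) ^ m)⁻¹) ^ k := by
              rw [hkb, conj_pow]; group
            _ = b * a ^ (k * (m + 1)) := by rw [iha, ihb, mul_assoc, ← pow_add, Nat.mul_succ]
    obtain ⟨c, hc, hcS⟩ : ∃ c : G, c = (n ^ 2) ^ 8 ∧ ∀ x ∈ (S : Subgroup G), c * x * c⁻¹ = x := by
      refine ⟨_, rfl, fun x hx => ?_⟩
      obtain ⟨ha', hb'⟩ := hiter 8
      rw [show k * 8 = 8 * k by ring, pow_mul a, ha8, one_pow, mul_one] at hb'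
      obtain ⟨j, -, rfl | rfl⟩ := hmk x hx
      · rw [← conj_pow, ha']
      · rw [← conj_mul, ← conj_pow, ha', hb']
    -- the odd part of `n`
    obtain ⟨e, m, hm, hem⟩ := Nat.exists_eq_pow_mul_and_not_dvd (orderOf_pos n).ne' 2 (by norm_num)
    have hnm : n ^ m ∈ (S : Subgroup G) := by
      have hp2 : IsPGroup 2 (Subgroup.zpowers (n ^ m)) := by
        refine IsPGroup.iff_card.mpr ?_
        rw [Nat.card_zpowers]
        obtain ⟨j, -, hj⟩ := (Nat.dvd_prime_pow Nat.prime_two).1 (orderOf_dvd_of_pow_eq_one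
          (show (n ^ m) ^ 2 ^ e = 1 by rw [← pow_mul, mul_comm, ← hem, pow_orderOf_eq_one]))
        exact ⟨j, hj⟩
      have := hp2.inf_normalizer_sylow S
      exact ((SetLike.ext_iff.mp this (n ^ m)).mp
        (Subgroup.mem_inf.mpr ⟨Subgroup.mem_zpowers _, pow_mem hn m⟩)).2
    have hco : Nat.Coprime 16 m := by
      rw [show (16 : ℕ) = 2 ^ 4 from rfl]
      exact (Nat.prime_two.coprime_iff_not_dvd.2 hm).pow_left 4
    obtain ⟨u, v, huv⟩ : IsCoprime (16 : ℤ) (m : ℤ) := by exact_mod_cast hco.isCoprime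
    refine ⟨(n ^ m) ^ v, zpow_mem hnm v, fun x hx => ?_⟩
    have hn' : n = (n ^ m) ^ v * c ^ u := by
      rw [hc, ← pow_mul, ← zpow_natCast n, ← zpow_natCast n (2 * 8), ← zpow_mul, ← zpow_mul, ← zpow_add]
      nth_rewrite 1 [← zpow_one n]
      congr 1
      push_cast
      linarith
    have hcz : ∀ x ∈ (S : Subgroup G), c ^ u * x * (c ^ u)⁻¹ = x := by
      intro x hx
      have hcomm : Commute c x := mul_inv_eq_iff_eq_mul.1 (hcS x hx)
      rw [(hcomm.zpow_left u).eq, mul_inv_cancel_right]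
    conv_lhs => rw [hn']
    calc (n ^ m) ^ v * c ^ u * x * ((n ^ m) ^ v * c ^ u)⁻¹
        = (n ^ m) ^ v * (c ^ u * x * (c ^ u)⁻¹) * ((n ^ m) ^ v)⁻¹ := by group
      _ = _ := by rw [hcz x hx]
  · intro T hT
    refine or_iff_not_imp_left.2 fun hT1 => le_antisymm hT.1 ?_
    haveI : Nontrivial T := (Subgroup.nontrivial_iff_ne_bot T).2 hT1
    obtain ⟨k, hk⟩ := IsPGroup.iff_card.1 ((S.2).to_le hT.1)
    have hdvd : 2 ∣ Nat.card T := by
      have h1 : 1 < Nat.card T := Finite.one_lt_card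
      rcases Nat.eq_zero_or_pos k with rfl | h
      · simp [hk] at h1
      · exact hk ▸ dvd_pow_self 2 h.ne'
    obtain ⟨t, ht⟩ := exists_prime_orderOf_dvd_card' 2 hdvd
    have htt : (t : G) * t = 1 := by
      have := pow_orderOf_eq_one (t : G)
      rwa [Subgroup.orderOf_coe, ht, pow_two] at this
    have ht1 : (t : G) ≠ 1 := fun h => by
      rw [← Subgroup.orderOf_coe, h, orderOf_one] at ht
      exact absurd ht (by norm_num)
    have hclosed : ∀ x ∈ T, ∀ g : G, g * x * g⁻¹ ∈ (S : Subgroup G) → g * x * g⁻¹ ∈ T :=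
      fun x hx g hg => stronglyClosed_group_conj hT hx g hg
    have haT : ∀ x ∈ T, a * x * a⁻¹ ∈ T := fun x hx =>
      hclosed x hx a (mul_mem (mul_mem ha (hT.1 hx)) (inv_mem ha))
    have ha7 : a⁻¹ = a ^ 7 := inv_eq_of_mul_eq_one_right (by rw [← pow_succ', ha8])
    have hshift : ∀ i : ℕ, b * a ^ i ∈ T → a ^ 2 ∈ T := by
      intro i hi
      have h3 : a * b = b * a ^ 3 := by
        rw [hconj, show 3 * 3 = 8 + 1 from rfl, pow_add, ha8, one_mul, pow_one]
      have h4 := haT _ hi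
      rw [← mul_assoc, h3, mul_assoc b, ← pow_add, ha7, mul_assoc b, ← pow_add,
        show 3 + i + 7 = i + 2 + 8 by ring, pow_add, ha8, mul_one] at h4
      have h5 := mul_mem (inv_mem hi) h4
      rwa [show (b * a ^ i)⁻¹ * (b * a ^ (i + 2)) = a ^ 2 by group] at h5
    have hz : a ^ 4 ∈ T := by
      obtain ⟨i, hi, hti | hti⟩ := hmk (t : G) (hT.1 t.2)
      · rw [hti, ← pow_add] at htt
        have hd := orderOf_dvd_of_pow_eq_one htt
        rw [ho] at hd
        have h4 : i = 4 := by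
          have : i ≠ 0 := fun h => ht1 (by rw [hti, h, pow_zero])
          omega
        rw [← h4, ← hti]; exact t.2
      · rw [show 4 = 2 * 2 from rfl, pow_mul]
        exact pow_mem (hshift i (hti ▸ t.2)) 2
    obtain ⟨g1, hg1⟩ := h1
    have hbT : b ∈ T := hg1 ▸ hclosed _ hz g1 (hg1 ▸ hb)
    have ha2T : a ^ 2 ∈ T := hshift 0 (by rwa [pow_zero, mul_one])
    obtain ⟨g2, hg2⟩ := h2
    have habT : a * b ∈ T := hg2 ▸ hclosed _ ha2T g2 (hg2 ▸ mul_mem ha hb)
    have haT' : a ∈ T := by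
      have := mul_mem habT hbT
      rwa [mul_assoc, hb2, mul_one] at this
    intro x hx
    obtain ⟨i, -, rfl | rfl⟩ := hmk x hx
    · exact pow_mem haT' i
    · exact mul_mem hbT (pow_mem haT' i)

end Cfsg.Agent.Local.FS
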