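import Cfsg.Agent.Lib.Local.FS.Series
import Cfsg.Agent.Lib.Local.TransvectionPair

/-!
# Fusion systems with trivial core on a `p`-group whose centre has index at most `p ^ 2`: basics
-/

set_option autoImplicit false

open scoped commutatorElement

namespace Cfsg.Agent.Local.FS.SmallCenter

open Cfsg Cfsg.FusionSystem Cfsg.Agent.Fusion Cfsg.Agent.Local

variable {Ω : Type*} [Group Ω] {S : Subgroup Ω} [Finite S] {F : FusionSystem S} {p : ℕ} [Fact p.Prime]

variable (S) in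
/-- The centre of `S` as a subgroup of the ambient group. -/
abbrev zS : Subgroup Ω := centralizerIn S S

theorem zS_le : zS S ≤ S := inf_le_left

theorem comm_zS {z x : Ω} (hz : z ∈ zS S) (hx : x ∈ S) : x * z = z * x :=
  (mem_centralizerIn.1 hz).2 x hx

theorem av_mul' {P : Subgroup Ω} (α : MulAut P) {x y : Ω} (hx : x ∈ P) (hy : y ∈ P) :
    av α (x * y) = av α x * av α y := by
  rw [av_apply α (P.mul_mem hx hy), av_apply α hx, av_apply α hy]
  exact congrArg Subtype.val (map_mul α ⟨x, hx⟩ ⟨y, hy⟩)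

theorem av_inv' {P : Subgroup Ω} (α : MulAut P) {x : Ω} (hx : x ∈ P) :
    av α x⁻¹ = (av α x)⁻¹ := by
  rw [av_apply α (P.inv_mem hx), av_apply α hx]
  exact congrArg Subtype.val (map_inv α ⟨x, hx⟩)

theorem av_pow' {P : Subgroup Ω} (α : MulAut P) {x : Ω} (hx : x ∈ P) (n : ℕ) :
    av α (x ^ n) = av α x ^ n := by
  rw [av_apply α (P.pow_mem hx n), av_apply α hx]
  exact congrArg Subtype.val (map_pow α ⟨x, hx⟩ n)

theorem av_mem_zS (α : MulAut S) {z : Ω} (hz : z ∈ zS S) : av α z ∈ zS S := by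
  refine mem_centralizerIn.2 ⟨av_mem α (zS_le hz), fun y hy => ?_⟩
  have := congrArg (av α) (comm_zS hz (av_mem α⁻¹ hy))
  rw [av_mul' α (av_mem _ hy) (zS_le hz), av_mul' α (zS_le hz) (av_mem _ hy), av_av_inv α hy] at this
  exact this

theorem commutator_le_self : ⁅S, S⁆ ≤ S :=
  Subgroup.commutator_le.2 fun a ha b hb =>
    S.mul_mem (S.mul_mem (S.mul_mem ha hb) (S.inv_mem ha)) (S.inv_mem hb)

theorem av_mem_commutator (α : MulAut S) {x : Ω} (hx : x ∈ ⁅S, S⁆) : av α x ∈ ⁅S, S⁆ := by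
  have hle : ⁅S, S⁆ ≤ ((⁅S, S⁆).comap (S.subtype.comp α.toMonoidHom)).map S.subtype := by
    refine Subgroup.commutator_le.2 fun a ha b hb => ?_
    refine ⟨⟨⁅a, b⁆, commutator_le_self (Subgroup.commutator_mem_commutator ha hb)⟩, ?_, rfl⟩
    show ((α ⟨⁅a, b⁆, _⟩ : S) : Ω) ∈ ⁅S, S⁆
    rw [show (⟨⁅a, b⁆, _⟩ : S) = ⁅(⟨a, ha⟩ : S), (⟨b, hb⟩ : S)⁆ from Subtype.ext rfl,
      map_commutatorElement]
    exact Subgroup.commutator_mem_commutator (SetLike.coe_mem _) (SetLike.coe_mem _)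
  obtain ⟨y, hy, rfl⟩ := hle hx
  rw [show av α (S.subtype y) = (S.subtype.comp α.toMonoidHom) y from av_coe α y]
  exact hy

variable (F p) in
/-- The hypotheses, with the consequences on `S` alone. -/
structure Setup : Prop where
  isP : IsPGroup p S
  sat : F.IsSaturated p
  core : F.core = ⊥
  na : ∃ x ∈ S, ∃ y ∈ S, x * y ≠ y * x
  card_eq : Nat.card S = p ^ 2 * Nat.card (zS S)
  comm_mem : ⁅S, S⁆ ≤ zS S
  pow_mem : ∀ x ∈ S, x ^ p ∈ zS S

theorem subgroupOf_zS : (zS S).subgroupOf S = Subgroup.center S := by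
  ext x
  rw [Subgroup.mem_subgroupOf, mem_centralizerIn, Subgroup.mem_center_iff]
  exact ⟨fun h y => Subtype.ext (h.2 y y.2), fun h =>
    ⟨x.2, fun y hy => congrArg Subtype.val (h ⟨y, hy⟩)⟩⟩

theorem setup (hS : IsPGroup p S) (hF : F.IsSaturated p) (hS1 : S ≠ ⊥) (hcore : F.core = ⊥)
    (hZ : (Subgroup.center ↥S).index ≤ p ^ 2) : Setup F p := by
  have hp : p.Prime := Fact.out
  have hna : ∃ x ∈ S, ∃ y ∈ S, x * y ≠ y * x := by
    by_contra h
    simp only [not_exists, not_and, not_not] at h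
    have hab : IsMulCommutative S := ⟨⟨fun a b => Subtype.ext (h a a.2 b b.2)⟩⟩
    have hn := normal_of_abelian hS hF hab
      (stronglyClosed_iff.2 ⟨le_rfl, fun P f _ hf x hx => hf.mem hx⟩)
    exact hS1 (le_bot_iff.1 (hcore ▸ le_sSup hn))
  obtain ⟨x₀, hx₀, y₀, hy₀, hne⟩ := hna
  have hncomm : ¬ ∀ a b : S, a * b = b * a := fun h =>
    hne (congrArg Subtype.val (h ⟨x₀, hx₀⟩ ⟨y₀, hy₀⟩))
  have hncyc : ¬ IsCyclic (S ⧸ Subgroup.center S) := fun h =>
    hncomm (commutative_of_cyclic_center_quotient (QuotientGroup.mk' (Subgroup.center S))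
      (QuotientGroup.ker_mk' _).le)
  have hidx : (Subgroup.center S).index = p ^ 2 := by
    obtain ⟨k, hk⟩ := IsPGroup.iff_card.1 (hS.to_quotient (Subgroup.center S))
    rw [← Subgroup.index_eq_card] at hk
    have hk2 : k ≤ 2 := (Nat.pow_le_pow_iff_right hp.one_lt).1 (hk ▸ hZ)
    rw [hk]
    interval_cases k
    · haveI : Subsingleton (S ⧸ Subgroup.center S) := Finite.card_le_one_iff_subsingleton.1 (by
        rw [← Subgroup.index_eq_card, hk, pow_zero])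
      exact absurd isCyclic_of_subsingleton hncyc
    · exact absurd (isCyclic_of_prime_card (p := p) (by rw [← Subgroup.index_eq_card, hk, pow_one])) hncyc
    · rfl
  have hq : Nat.card (S ⧸ Subgroup.center S) = p ^ 2 := by rw [← Subgroup.index_eq_card, hidx]
  have hmem : ∀ x : S, x ∈ Subgroup.center S → (x : Ω) ∈ zS S := fun x hx => by
    rw [← subgroupOf_zS] at hx; exact hx
  refine ⟨hS, hF, hcore, ⟨x₀, hx₀, y₀, hy₀, hne⟩, ?_, Subgroup.commutator_le.2 fun a ha b hb => ?_,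
    fun x hx => ?_⟩
  · rw [← hidx, ← Nat.card_congr (Subgroup.subgroupOfEquivOfLe (zS_le (S := S))).toEquiv, subgroupOf_zS]
    exact (Subgroup.index_mul_card _).symm
  · refine hmem ⁅(⟨a, ha⟩ : S), (⟨b, hb⟩ : S)⁆ ?_
    rw [← QuotientGroup.eq_one_iff, show ((⁅(⟨a, ha⟩ : S), (⟨b, hb⟩ : S)⁆ : S) : S ⧸ Subgroup.center S)
      = ⁅((⟨a, ha⟩ : S) : S ⧸ Subgroup.center S), ((⟨b, hb⟩ : S) : S ⧸ Subgroup.center S)⁆ from
      map_commutatorElement (QuotientGroup.mk' _) _ _, commutatorElement_eq_one_iff_mul_comm]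
    exact IsPGroup.commutative_of_card_eq_prime_sq hq _ _
  · refine hmem (⟨x, hx⟩ ^ p) ?_
    rw [← QuotientGroup.eq_one_iff, QuotientGroup.mk_pow]
    set y : S ⧸ Subgroup.center S := ((⟨x, hx⟩ : S) : S ⧸ Subgroup.center S)
    obtain ⟨k, hk2, hk⟩ := (Nat.dvd_prime_pow hp).1 (hq ▸ orderOf_dvd_natCard y)
    rw [← orderOf_dvd_iff_pow_eq_one, hk]
    interval_cases k
    · simp
    · simp
    · exact absurd (isCyclic_of_orderOf_eq_card y (hk.trans hq.symm)) hncyc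

variable (hs : Setup F p)
include hs

theorem Setup.comm_zS_mem {x y : Ω} (hx : x ∈ S) (hy : y ∈ S) : ⁅x, y⁆ ∈ zS S :=
  hs.comm_mem (Subgroup.commutator_mem_commutator hx hy)

omit hs in
theorem sylIn_inn (hS : IsPGroup p S) (hF : F.IsSaturated p) : SylIn p (Inn S) (F.autGroup S) := by
  have hinn : autInducedBy S S = Inn S := by
    ext α; rw [mem_autInducedBy, mem_Inn]
  have h := (fa_iff.1 (fc_fa_of_fn hS hF (fn_self (F := F))).2).2
  rwa [hinn] at h

/-- Automorphisms of `p`-power order are inner. -/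
theorem Setup.mem_inn {β : MulAut S} (hβ : β ∈ F.autGroup S) {k : ℕ} (hk : β ^ p ^ k = 1) :
    β ∈ Inn S := by
  have hP : IsPGroup p ↥(Subgroup.zpowers β) := by
    obtain ⟨j, -, hj⟩ := (Nat.dvd_prime_pow (Fact.out : p.Prime)).1 (orderOf_dvd_of_pow_eq_one hk)
    exact IsPGroup.of_card (n := j) (by rw [Nat.card_zpowers, hj])
  obtain ⟨x, -, hx⟩ := (sylIn_inn hs.isP hs.sat).conj_le hP (Subgroup.zpowers_le.2 hβ)
  have h1 : x * β * x⁻¹ ∈ Inn S := hx (Fusion.mem_cj.2 (by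
    rw [show x⁻¹ * (x * β * x⁻¹) * x = β by group]; exact Subgroup.mem_zpowers β))
  obtain ⟨g, hg, hgx⟩ := mem_Inn.1 h1
  refine mem_Inn.2 ⟨av x⁻¹ g, av_mem _ hg, fun y hy => ?_⟩
  have h2 := congrArg (av x⁻¹) (hgx _ (av_mem x hy))
  rw [← av_mul _ _ (av_mem x hy), show x⁻¹ * (x * β * x⁻¹) = β * x⁻¹ by group,
    av_mul _ _ (av_mem x hy), av_inv_av x hy] at h2
  rw [h2, av_mul' _ (S.mul_mem hg (av_mem x hy)) (S.inv_mem hg), av_mul' _ hg (av_mem x hy),
    av_inv' _ hg, av_inv_av x hy]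

theorem Setup.inn_fix {β : MulAut S} (hβ : β ∈ Inn S) {z : Ω} (hz : z ∈ zS S) : av β z = z := by
  obtain ⟨g, hg, h⟩ := mem_Inn.1 hβ
  rw [h z (zS_le hz), comm_zS hz hg, mul_inv_cancel_right]

/-- Some power of an automorphism prime to `p` is inner. -/
theorem Setup.exists_pow_inn {β : MulAut S} (hβ : β ∈ F.autGroup S) :
    ∃ m : ℕ, m.Coprime p ∧ β ^ m ∈ Inn S := by
  have hp : p.Prime := Fact.out
  have h0 : orderOf β ≠ 0 := (orderOf_pos β).ne'
  obtain ⟨e, m, hm, he⟩ := Nat.exists_eq_pow_mul_and_not_dvd h0 p hp.ne_one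
  refine ⟨m, Nat.Coprime.symm (hp.coprime_iff_not_dvd.2 hm), hs.mem_inn (Subgroup.pow_mem _ hβ m) (k := e) ?_⟩
  rw [← pow_mul, mul_comm, ← he, pow_orderOf_eq_one]

omit hs in
theorem mem_of_pow_coprime {G : Type*} [Group G] {N : Subgroup G} {x : G} {m n : ℕ}
    (hm : x ^ m ∈ N) (hn : x ^ n ∈ N) (hc : m.Coprime n) : x ∈ N := by
  have h : ((m : ℤ) * m.gcdA n + (n : ℤ) * m.gcdB n) = 1 := by
    rw [← Nat.gcd_eq_gcd_ab, hc.gcd_eq_one]; rfl
  have := N.mul_mem (N.zpow_mem hm (m.gcdA n)) (N.zpow_mem hn (m.gcdB n))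
  rwa [← zpow_natCast, ← zpow_mul, ← zpow_natCast, ← zpow_mul, ← zpow_add, h, zpow_one] at this

omit hs in
/-- The automorphisms fixing a set pointwise. -/
def fixing (K : Set Ω) (P : Subgroup Ω) : Subgroup (MulAut P) where
  carrier := {α | ∀ z ∈ K, z ∈ P → av α z = z}
  one_mem' := fun z _ hz => av_one hz
  mul_mem' := fun {α β} hα hβ z hzK hz => by rw [av_mul α β hz, hβ z hzK hz, hα z hzK hz]
  inv_mem' := fun {α} hα z hzK hz => by
    conv_lhs => rw [← hα z hzK hz]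
    exact av_inv_av α hz

/-- An automorphism of `S` trivial on `D ≤ Z(S)` and on `Z(S)/D` is trivial on `Z(S)`. -/
theorem Setup.fix_of_stabilizes {D : Subgroup Ω} (hD : D ≤ S) {σ : MulAut S} (hσ : σ ∈ F.autGroup S)
    (h1 : ∀ d ∈ D, av σ d = d) (h2 : ∀ z ∈ zS S, z⁻¹ * av σ z ∈ D) :
    ∀ z ∈ zS S, av σ z = z := by
  obtain ⟨j, hj⟩ := IsPGroup.iff_card.1 hs.isP
  obtain ⟨m, hm, hmi⟩ := hs.exists_pow_inn hσ
  have hfix : σ ∈ fixing (zS S : Set Ω) S := by
    refine mem_of_pow_coprime (m := m) (n := p ^ j) (fun z hz _ => hs.inn_fix hmi hz) ?_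
      (Nat.Coprime.pow_right j hm)
    intro z hz hzS
    have key : ∀ n : ℕ, av (σ ^ n) z = z * (z⁻¹ * av σ z) ^ n := by
      intro n
      induction n with
      | zero => rw [pow_zero, av_one hzS, pow_zero, mul_one]
      | succ n ih =>
        rw [pow_succ', av_mul _ _ hzS, ih, av_mul' σ hzS (hD (D.pow_mem (h2 z hz) n)),
          h1 _ (D.pow_mem (h2 z hz) n), pow_succ', ← mul_assoc z (z⁻¹ * av σ z), mul_inv_cancel_left]
    have hpow : (⟨z⁻¹ * av σ z, hD (h2 z hz)⟩ : S) ^ Nat.card S = 1 := pow_card_eq_one'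
    rw [key, ← hj, show (z⁻¹ * av σ z) ^ Nat.card S = 1 from congrArg Subtype.val hpow, mul_one]
  exact fun z hz => hfix z hz (zS_le hz)

/-- An invariant subgroup contained in all essential subgroups is trivial. -/
theorem Setup.eq_bot {K : Subgroup Ω} (hK : K ≤ S)
    (hAutS : ∀ α ∈ F.autGroup S, ∀ x ∈ K, av α x ∈ K)
    (hE : ∀ E, F.IsEssential p E → K ≤ E ∧ ∀ α ∈ F.autGroup E, ∀ x ∈ K, av α x ∈ K) : K = ⊥ := by
  have hn : F.IsNormal K := normal_of_gen hs.isP hs.sat hK fun P hP => by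
    rcases hP with rfl | hP
    · exact ⟨hK, hAutS⟩
    · exact hE P hP
  exact le_bot_iff.1 (hs.core ▸ le_sSup hn)

theorem Setup.exists_essential : ∃ E, F.IsEssential p E := by
  by_contra h
  obtain ⟨x, hx, y, hy, hne⟩ := hs.na
  have hS := hs.eq_bot le_rfl (fun α _ z hz => av_mem α hz) fun E hE => absurd ⟨E, hE⟩ h
  refine hne ?_
  rw [hS, Subgroup.mem_bot] at hx
  simp [hx]

end Cfsg.Agent.Local.FS.SmallCenter
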