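import Cfsg.Agent.Lib.Local.FS.SmallCenterBasic

/-!
# Essential subgroups when the centre of `S` has index `p ^ 2`
-/

set_option autoImplicit false

open scoped commutatorElement

namespace Cfsg.Agent.Local.FS.SmallCenter

open Cfsg Cfsg.FusionSystem Cfsg.Agent.Fusion Cfsg.Agent.Local

variable {Ω : Type*} [Group Ω] {S : Subgroup Ω} [Finite S] {F : FusionSystem S} {p : ℕ} [Fact p.Prime]

variable (F p) in
/-- The structure of an essential subgroup `E`: `E = ⟨u, w⟩ × C` with `⟨u⟩ = [S, S]`, `C ≤ Z(S)`. -/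
structure EssPair (E C : Subgroup Ω) (u w : Ω) : Prop where
  E_le : E ≤ S
  z_le : zS S ≤ E
  normal : ∀ s ∈ S, ∀ x ∈ E, s * x * s⁻¹ ∈ E
  lt : E < S
  comm : ∀ x ∈ E, ∀ y ∈ E, x * y = y * x
  C_le : C ≤ zS S
  d_eq : ⁅S, S⁆ = Subgroup.zpowers u
  u_pow : u ^ p = 1
  u_ne : u ≠ 1
  u_mem : u ∈ zS S
  u_notMem : u ∉ C
  w_mem : w ∈ E
  w_pow : w ^ p = 1
  w_notMem : w ∉ zS S
  decomp : ∀ x ∈ E, ∃ i j : ℕ, ∃ c ∈ C, x = u ^ i * w ^ j * c
  z_decomp : ∀ z ∈ zS S, ∃ i : ℕ, ∃ c ∈ C, z = u ^ i * c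
  C_inv : ∀ α ∈ F.autGroup E, ∀ c ∈ C, av α c ∈ C
  W_inv : ∀ α ∈ F.autGroup E, ∀ x ∈ Subgroup.zpowers u ⊔ Subgroup.zpowers w,
    av α x ∈ Subgroup.zpowers u ⊔ Subgroup.zpowers w
  ext' : ∀ α ∈ F.autGroup E, ∃ β ∈ F.autGroup S, ∀ c ∈ C, av β c = av α c
  tau : p ≠ 2 → ∃ β ∈ F.autGroup S, av β u = u⁻¹ ∧ ∀ c ∈ C, av β c = c

theorem commutator_mul_left {x x' y : Ω} (hx : x ∈ S) (h : ⁅x', y⁆ ∈ zS S) :
    ⁅x * x', y⁆ = ⁅x', y⁆ * ⁅x, y⁆ := by
  rw [show ⁅x * x', y⁆ = x * ⁅x', y⁆ * x⁻¹ * ⁅x, y⁆ by simp only [commutatorElement_def]; group,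
    comm_zS h hx, mul_inv_cancel_right]

variable (hs : Setup F p)
include hs

theorem Setup.exists_pow {T : Subgroup Ω} (hT : T ≤ S) : ∃ k, Nat.card T = p ^ k := by
  haveI := finite_of_le hT
  exact IsPGroup.iff_card.1 (hs.isP.to_le hT)

theorem Setup.card_between {T : Subgroup Ω} (h1 : zS S < T) (h2 : T < S) :
    Nat.card T = p * Nat.card (zS S) := by
  have hp : p.Prime := Fact.out
  obtain ⟨i, hi⟩ := hs.exists_pow (zS_le (S := S))
  obtain ⟨j, hj⟩ := hs.exists_pow h2.le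
  have c1 := card_lt_of_lt h1 h2.le
  have c2 := card_lt_of_lt h2 le_rfl
  rw [hs.card_eq, hi, hj, ← pow_add] at c2
  rw [hi, hj] at c1
  have e1 := (Nat.pow_lt_pow_iff_right hp.one_lt).1 c1
  have e2 := (Nat.pow_lt_pow_iff_right hp.one_lt).1 c2
  rw [hj, hi, ← pow_succ', show j = i + 1 by omega]

theorem Setup.eq_S_of_lt {E T : Subgroup Ω} (h1 : zS S < E) (h2 : E < T) (h3 : T ≤ S) : T = S := by
  by_contra hne
  have c1 := hs.card_between h1 (lt_of_lt_of_le h2 h3)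
  have c2 := hs.card_between (h1.trans h2) (lt_of_le_of_ne h3 hne)
  have := card_lt_of_lt h2 h3
  omega

/-- The basic facts about an essential subgroup. -/
theorem Setup.essential_basic {E : Subgroup Ω} (hE : F.IsEssential p E) :
    zS S < E ∧ E < S ∧ (∀ x ∈ E, ∀ y ∈ E, x * y = y * x) ∧ centralizerIn S E = E ∧
      ∀ s ∈ S, ∀ x ∈ E, s * x * s⁻¹ ∈ E := by
  have hlt := lt_of_essential hs.isP hs.sat hE
  have hC : centralizerIn S E ≤ E := hE.1.2 E (isConj_refl hlt.le)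
  have hz : zS S ≤ E := fun z hz => hC (mem_centralizerIn.2 ⟨zS_le hz, fun y hy => comm_zS hz (hlt.le hy)⟩)
  have hzlt : zS S < E := lt_of_le_of_ne hz fun he => hlt.not_ge fun x hx => hC (mem_centralizerIn.2
    ⟨hx, fun y hy => (comm_zS (he.symm ▸ hy) hx).symm⟩)
  have hab : ∀ x ∈ E, ∀ y ∈ E, x * y = y * x := by
    intro x hx
    by_cases hxz : x ∈ zS S
    · exact fun y hy => (comm_zS hxz (hlt.le hy)).symm
    set T := E ⊓ Subgroup.centralizer ({x} : Set Ω)
    have hzT : zS S ≤ T := fun z hz' => ⟨hz hz', Subgroup.mem_centralizer_iff.2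
      (by rintro _ rfl; exact comm_zS hz' (hlt.le hx))⟩
    have hxT : x ∈ T := ⟨hx, Subgroup.mem_centralizer_iff.2 (by rintro _ rfl; rfl)⟩
    have hzT' : zS S < T := lt_of_le_of_ne hzT fun he => hxz (he.symm ▸ hxT)
    haveI := finite_of_le hlt.le
    have hT : T = E := Subgroup.eq_of_le_of_card_ge inf_le_left
      (by rw [hs.card_between hzT' (lt_of_le_of_lt inf_le_left hlt), hs.card_between hzlt hlt])
    intro y hy
    have hy' := (hT.ge hy).2
    exact Subgroup.mem_centralizer_iff.1 hy' x rfl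
  refine ⟨hzlt, hlt, hab, le_antisymm hC fun x hx => mem_centralizerIn.2 ⟨hlt.le hx, fun y hy => hab y hy x hx⟩,
    fun s hs' x hx => ?_⟩
  have h := E.mul_mem (hz (hs.comm_zS_mem hs' (hlt.le hx))) hx
  simpa [commutatorElement_def] using h

theorem Setup.essential_pair {E : Subgroup Ω} (hE : F.IsEssential p E) :
    ∃ C u w, EssPair F p E C u w := by
  have hp : p.Prime := Fact.out
  obtain ⟨hzlt, hlt, hab, hCE, hnorm⟩ := hs.essential_basic hE
  have hES := hlt.le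
  have hEn : normalizerIn S E = S := inf_eq_left.2 fun s hs' => Subgroup.mem_normalizer_iff.2 fun x =>
    ⟨fun hx => hnorm s hs' x hx, fun hx => by simpa [mul_assoc] using hnorm s⁻¹ (S.inv_mem hs') _ hx⟩
  haveI := finite_of_le hES
  haveI := mulAut_finite_of_le hES
  obtain ⟨hfc, hfa⟩ := fc_fa_of_fn hs.isP hs.sat hE.2.1
  have hrec := receptive_of_fc hs.isP hs.sat hfc
  set A := autInducedBy S E
  have hcA : Nat.card A = p := by
    have h := card_autS_mul (S := S) (P := E)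
    rw [hCE, hEn, hs.card_between hzlt hlt, hs.card_eq, sq, mul_assoc] at h
    exact Nat.eq_of_mul_eq_mul_right (Nat.mul_pos hp.pos Nat.card_pos) h
  obtain ⟨s, hsS, hsE⟩ := SetLike.exists_of_lt hlt
  obtain ⟨a, ha, haS⟩ := exists_aut_conj (hEn.ge hsS).2
  have haA : a ∈ A := haS S hsS
  have haG : a ∈ F.autGroup E := autInducedBy_le_autGroup hES haA
  have ha1 : a ≠ 1 := fun h => hsE (hCE.le (mem_centralizerIn.2 ⟨hsS, fun y hy => by
    have h1 := ha y hy
    rw [h, av_one hy] at h1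
    exact (eq_mul_inv_iff_mul_eq.1 h1)⟩))
  have hap : a ^ p = 1 := by
    have h := pow_card_eq_one' (x := (⟨a, haA⟩ : A))
    rw [hcA] at h
    exact congrArg Subtype.val h
  have hAz : A = Subgroup.zpowers a := (Subgroup.eq_of_le_of_card_ge (Subgroup.zpowers_le.2 haA)
    (by rw [hcA, Nat.card_zpowers, orderOf_eq_prime hap ha1])).symm
  have hsyl := (fa_iff.1 hfa).2
  have hGfa : ∀ P : Subgroup (MulAut E), P ≤ F.autGroup E → IsPGroup p ↥P → Nat.card ↥P ≤ p :=
    fun P hP hPp => hcA ▸ hsyl.card_le hPp hP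
  have hgen : zS S < E → ∀ T : Subgroup Ω, E ≤ T → s ∈ T → T ≤ S → T = S := fun h T hET hsT hTS =>
    hs.eq_S_of_lt h (lt_of_le_not_ge hET fun hle => hsE (hle hsT)) hTS
  have hfixZ : ∀ x ∈ E, av a x = x → x ∈ zS S := by
    intro x hx hax
    rw [ha x hx, mul_inv_eq_iff_eq_mul] at hax
    have hT := hgen hzlt (S ⊓ Subgroup.centralizer ({x} : Set Ω))
      (fun y hy => ⟨hES hy, Subgroup.mem_centralizer_iff.2 (by rintro _ rfl; exact hab _ hx y hy)⟩)
      ⟨hsS, Subgroup.mem_centralizer_iff.2 (by rintro _ rfl; exact hax.symm)⟩ inf_le_left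
    exact mem_centralizerIn.2 ⟨hES hx, fun y hy =>
      ((Subgroup.mem_centralizer_iff.1 (hT.ge hy).2) x rfl).symm⟩
  letI iE : CommGroup E :=
    { (inferInstance : Group E) with mul_comm := fun x y => Subtype.ext (hab x x.2 y y.2) }
  have hfix : TransPair.fixSub a = (zS S).subgroupOf E := by
    ext x
    rw [TransPair.mem_fixSub, Subgroup.mem_subgroupOf]
    refine ⟨fun h => hfixZ x x.2 (by rw [av_coe, h]), fun h => Subtype.ext ?_⟩
    rw [← av_coe, ha x x.2, comm_zS h hsS, mul_inv_cancel_right]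
  have hidx : (TransPair.fixSub a).index = p := by
    have h1 := ((zS S).subgroupOf E).index_mul_card
    rw [Nat.card_congr (Subgroup.subgroupOfEquivOfLe hzlt.le).toEquiv, hs.card_between hzlt hlt] at h1
    rw [hfix]
    exact Nat.eq_of_mul_eq_mul_right Nat.card_pos h1
  obtain ⟨u, hu⟩ := TransPair.exists_datum (hs.isP.to_le hES) haG hap ha1 hGfa hidx
  have hn : ∃ g ∈ F.autGroup E, g * a * g⁻¹ ∉ Subgroup.zpowers a := by
    by_contra hcon
    simp only [not_exists, not_and, not_not] at hcon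
    have hnA : (A.subgroupOf (F.autGroup E)).Normal := by
      constructor
      intro β hβ γ
      rw [Subgroup.mem_subgroupOf, hAz] at hβ ⊢
      obtain ⟨k, hk⟩ := hβ
      show (γ : MulAut E) * β * (γ : MulAut E)⁻¹ ∈ _
      rw [← show a ^ k = β from hk, ← conj_zpow]
      exact zpow_mem (hcon γ γ.2) k
    have h1 : a ∈ Inn E := by
      rw [← (radical_of_essential hs.isP hs.sat hE).2]
      exact ⟨⟨a, haG⟩, le_pCore (hn := hnA) ((isPGroup_autS hs.isP).comap_subtype) haA, rfl⟩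
    obtain ⟨g, hg, h⟩ := mem_Inn.1 h1
    exact ha1 (aut_ext fun x hx => by rw [h x hx, hab g hg x hx, mul_inv_cancel_right, av_one hx])
  obtain ⟨w, C₀, P, hwp, hτ⟩ := hu.pair hn
  -- `[S, S] = ⟨u⟩`
  have huZ : (u : Ω) ∈ zS S := by
    have h1 : u ∈ TransPair.fixSub a := hu.u_fix
    rw [hfix] at h1
    exact h1
  have hud : (u : Ω) ∈ ⁅S, S⁆ := by
    obtain ⟨x, hx⟩ : ∃ x : E, x⁻¹ * a x ≠ 1 := by
      by_contra hcon
      simp only [not_exists, not_not] at hcon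
      exact ha1 (MulEquiv.ext fun x => (inv_mul_eq_one.1 (hcon x)).symm)
    obtain ⟨k, hk⟩ := TransPair.mem_zpowers_swap hu.u_pow hx (hu.diff x)
    rw [← hk]
    show ((x⁻¹ * a x : E) : Ω) ^ k ∈ ⁅S, S⁆
    rw [Subgroup.coe_mul, Subgroup.coe_inv, ← av_coe, ha x x.2,
      show (x : Ω)⁻¹ * (s * x * s⁻¹) = ⁅((x : Ω))⁻¹, s⁆ by simp [commutatorElement_def, mul_assoc]]
    exact zpow_mem (Subgroup.commutator_mem_commutator (S.inv_mem (hES x.2)) hsS) k
  have hD : ⁅S, S⁆ = Subgroup.zpowers (u : Ω) := by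
    refine le_antisymm ?_ (Subgroup.zpowers_le.2 hud)
    set D := Subgroup.zpowers (u : Ω)
    have hsd : ∀ e ∈ E, ⁅s, e⁆ ∈ D := by
      intro e he
      obtain ⟨k, hk⟩ := hu.diff ⟨e, he⟩
      refine ⟨k, ?_⟩
      have h1 := congrArg Subtype.val hk
      simp only [Subgroup.coe_mul, Subgroup.coe_inv, SubgroupClass.coe_zpow] at h1
      show (u : Ω) ^ k = ⁅s, e⁆
      rw [h1, ← av_apply a he, ha e he, commutatorElement_def]
      exact hab _ (E.inv_mem he) _ (hnorm s hsS e he)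
    let L : Ω → Subgroup Ω → Prop := fun y T => ∀ x ∈ T, ⁅x, y⁆ ∈ D
    have key : ∀ y ∈ S, L y E → ⁅s, y⁆ ∈ D → L y S := by
      intro y hy hLE hLs
      let T : Subgroup Ω :=
        { carrier := {x | x ∈ S ∧ ⁅x, y⁆ ∈ D}
          one_mem' := ⟨S.one_mem, by simp⟩
          mul_mem' := fun {a b} ha' hb => ⟨S.mul_mem ha'.1 hb.1, by
            rw [commutator_mul_left ha'.1 (hs.comm_zS_mem hb.1 hy)]; exact D.mul_mem hb.2 ha'.2⟩
          inv_mem' := fun {a} ha' => ⟨S.inv_mem ha'.1, by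
            have h1 := commutator_mul_left (x := a) (x' := a⁻¹) (y := y) ha'.1
              (hs.comm_zS_mem (S.inv_mem ha'.1) hy)
            rw [mul_inv_cancel, commutatorElement_one_left, eq_comm, mul_eq_one_iff_eq_inv] at h1
            rw [h1]; exact D.inv_mem ha'.2⟩ }
      have hT : T = S := hgen hzlt T (fun e he => ⟨hES he, hLE e he⟩) ⟨hsS, hLs⟩ fun x hx => hx.1
      exact fun x hx => (hT.ge hx).2
    have hE' : ∀ e ∈ E, L e S := fun e he => key e (hES he) (fun x hx => by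
      rw [commutatorElement_eq_one_iff_mul_comm.2 (hab x hx e he)]; exact D.one_mem) (hsd e he)
    have hs' : L s S := key s hsS (fun x hx => by
      rw [← commutatorElement_inv]; exact D.inv_mem (hsd x hx)) (by simp)
    refine Subgroup.commutator_le.2 fun x hx y hy => key y hy (fun e he => ?_) ?_ x hx
    · rw [← commutatorElement_inv]; exact D.inv_mem (hE' e he y hy)
    · rw [← commutatorElement_inv]; exact D.inv_mem (hs' y hy)
  have hmemC : ∀ c ∈ C₀.map E.subtype, ∃ h : c ∈ E, (⟨c, h⟩ : E) ∈ C₀ := by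
    rintro _ ⟨d, hd, rfl⟩
    exact ⟨d.2, hd⟩
  have hext : ∀ n ∈ F.autGroup E, n * a * n⁻¹ ∈ Subgroup.zpowers a →
      ∃ β ∈ F.autGroup S, ∀ x ∈ E, av β x = av n x := by
    intro n hn hna
    obtain ⟨g, hg, hgn⟩ := (receptive_iff.1 hrec).2 E _ (map_of_mem_autGroup hES hn) (im_av n)
    have hNf : Nf S E (av n) = S := by
      refine le_antisymm (fun x hx => hx.1) fun t ht => ?_
      obtain ⟨β, hβ, hβS⟩ := exists_aut_conj (hEn.ge ht).2
      have hβA : β ∈ A := hβS S ht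
      rw [hAz] at hβA
      obtain ⟨k, hk⟩ := hβA
      have h1 : n * β * n⁻¹ ∈ A := by
        rw [hAz, ← show a ^ k = β from hk, ← conj_zpow]
        exact zpow_mem hna k
      obtain ⟨h, hh, hhβ⟩ := mem_autInducedBy.1 h1
      refine ⟨ht, (hEn.ge ht).2, h, hh, fun x hx => ?_⟩
      have h2 := hhβ _ (av_mem n hx)
      rw [av_mul _ _ (av_mem n hx), av_inv_av n hx, av_mul _ _ hx, hβ x hx] at h2
      exact h2
    rw [hNf] at hg
    obtain ⟨β, hβ, hβg⟩ := exists_aut hg (Subgroup.eq_of_le_of_card_ge hg.im_le hg.card_im.ge)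
    exact ⟨β, hβ, fun x hx => by rw [hβg x (hES hx), hgn x hx]⟩
  refine ⟨C₀.map E.subtype, (u : Ω), (w : Ω),
    { E_le := hES
      z_le := hzlt.le
      normal := hnorm
      lt := hlt
      comm := hab
      C_le := ?_
      d_eq := hD
      u_pow := congrArg Subtype.val hu.u_pow
      u_ne := fun h => hu.u_ne (Subtype.ext h)
      u_mem := huZ
      u_notMem := ?_
      w_mem := w.2
      w_pow := congrArg Subtype.val hwp
      w_notMem := ?_
      decomp := ?_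
      z_decomp := ?_
      C_inv := ?_
      W_inv := ?_
      ext' := ?_
      tau := ?_ }⟩
  · rintro _ ⟨c, hc, rfl⟩
    have h1 : c ∈ TransPair.fixSub a := P.C_fix c hc
    rw [hfix] at h1
    exact h1
  · rintro ⟨c, hc, he⟩
    exact P.u_notMem (Subtype.ext (show (c : Ω) = u from he) ▸ hc)
  · intro h
    have h1 : w ∈ (zS S).subgroupOf E := h
    rw [← hfix] at h1
    exact P.w_notMem h1
  · intro x hx
    obtain ⟨i, j, c, hc, he⟩ := P.decomp ⟨x, hx⟩
    exact ⟨i, j, c, ⟨c, hc, rfl⟩, congrArg Subtype.val he⟩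
  · intro z hz
    have h1 : (⟨z, hzlt.le hz⟩ : E) ∈ (zS S).subgroupOf E := hz
    rw [← hfix] at h1
    obtain ⟨i, c, hc, he⟩ := P.fix_decomp _ h1
    exact ⟨i, c, ⟨c, hc, rfl⟩, congrArg Subtype.val he⟩
  · intro α hα c hc
    obtain ⟨hcE, hc'⟩ := hmemC c hc
    rw [av_apply α hcE]
    exact ⟨_, P.C_inv α hα _ hc', rfl⟩
  · intro α hα x hx
    have heq : Subgroup.zpowers (u : Ω) ⊔ Subgroup.zpowers (w : Ω)
        = (Subgroup.zpowers u ⊔ Subgroup.zpowers w).map E.subtype := by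
      rw [Subgroup.map_sup, MonoidHom.map_zpowers, MonoidHom.map_zpowers]; rfl
    rw [heq] at hx ⊢
    obtain ⟨y, hy, rfl⟩ := hx
    rw [show av α (E.subtype y) = E.subtype (α y) from av_coe α y]
    exact ⟨_, P.W_inv α hα y hy, rfl⟩
  · intro α hα
    obtain ⟨n, hn', hna, hnC⟩ := P.exists_normalizing α hα
    obtain ⟨β, hβ, hβn⟩ := hext n hn' hna
    refine ⟨β, hβ, fun c hc => ?_⟩
    obtain ⟨hcE, hc'⟩ := hmemC c hc
    rw [hβn c hcE, av_apply n hcE, av_apply α hcE, hnC _ hc']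
  · intro hp2
    obtain ⟨τ, hτG, hτa, hτu, hτC⟩ := hτ hp2
    obtain ⟨β, hβ, hβn⟩ := hext τ hτG (hτa.symm ▸ Subgroup.mem_zpowers a)
    refine ⟨β, hβ, ?_, fun c hc => ?_⟩
    · rw [hβn _ u.2, av_coe, hτu, Subgroup.coe_inv]
    · obtain ⟨hcE, hc'⟩ := hmemC c hc
      rw [hβn c hcE, av_apply τ hcE, hτC _ hc']

end Cfsg.Agent.Local.FS.SmallCenter
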