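import Cfsg.Agent.Lib.Local.FS.SmallCenterEssential
import Cfsg.Agent.Lib.Fusion.OmegaClassTwo
import Cfsg.Agent.Lib.Solv.Extraspecial
import Mathlib.GroupTheory.SpecificGroups.Dihedral

/-!
# A core-free system with hyperfocal subgroup `S` and `|S : Z(S)| ≤ p ^ 2` lives on an extraspecial group
-/

set_option autoImplicit false

open scoped commutatorElement

namespace Cfsg.Agent.Local.FS.SmallCenter

open Cfsg Cfsg.FusionSystem Cfsg.Agent.Fusion Cfsg.Agent.Local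

variable {Ω : Type*} [Group Ω] {S : Subgroup Ω} [Finite S] {F : FusionSystem S} {p : ℕ} [Fact p.Prime]

theorem closure_invariant {P : Subgroup Ω} (α : MulAut P) {X : Set Ω} {K : Subgroup Ω}
    (hXP : X ⊆ P) (h : ∀ x ∈ X, av α x ∈ K) : ∀ x ∈ Subgroup.closure X, av α x ∈ K := by
  intro x hx
  suffices x ∈ P ∧ av α x ∈ K from this.2
  induction hx using Subgroup.closure_induction with
  | mem x hx => exact ⟨hXP hx, h x hx⟩
  | one =>
    refine ⟨P.one_mem, ?_⟩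
    rw [av_apply α P.one_mem, show (⟨1, P.one_mem⟩ : P) = 1 from rfl, map_one]
    exact K.one_mem
  | mul x y _ _ ihx ihy =>
    exact ⟨P.mul_mem ihx.1 ihy.1, by rw [av_mul' α ihx.1 ihy.1]; exact K.mul_mem ihx.2 ihy.2⟩
  | inv x _ ihx => exact ⟨P.inv_mem ihx.1, by rw [av_inv' α ihx.1]; exact K.inv_mem ihx.2⟩

theorem av_fix_zpow {P : Subgroup Ω} (α : MulAut P) {x : Ω} (hx : x ∈ P) (k : ℤ) :
    av α (x ^ k) = av α x ^ k := by
  rw [av_apply α (P.zpow_mem hx k), av_apply α hx]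
  exact congrArg Subtype.val (map_zpow α ⟨x, hx⟩ k)

variable (hs : Setup F p)
include hs

theorem Setup.card_ess {E C : Subgroup Ω} {u w : Ω} (h : EssPair F p E C u w) :
    zS S < E ∧ Nat.card E = p * Nat.card (zS S) := by
  have h1 : zS S < E := lt_of_le_of_ne h.z_le fun he => h.w_notMem (he.symm ▸ h.w_mem)
  exact ⟨h1, hs.card_between h1 h.lt⟩

theorem Setup.ess_eq {E E' C C' : Subgroup Ω} {u w u' w' : Ω} (h : EssPair F p E C u w)
    (h' : EssPair F p E' C' u' w') (hle : E ≤ E') : E = E' := by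
  haveI := finite_of_le h'.E_le
  exact Subgroup.eq_of_le_of_card_ge hle (by rw [(hs.card_ess h).2, (hs.card_ess h').2])

/-- There is an element of order `p` outside a given essential subgroup. -/
theorem Setup.exists_torsion_notMem (hel : ∀ E, F.IsEssential p E → ∀ x ∈ E, x ^ p = 1)
    {E₀ C₀ : Subgroup Ω} {u w : Ω} (hE₀ : F.IsEssential p E₀) (h₀ : EssPair F p E₀ C₀ u w) :
    ∃ x ∈ S, x ^ p = 1 ∧ x ∉ E₀ := by
  by_contra hcon
  simp only [not_exists, not_and, not_not] at hcon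
  have h := hs.eq_bot h₀.E_le (fun α _ x hx => hcon _ (av_mem α (h₀.E_le hx)) ?_) fun E hE => ?_
  · exact h₀.u_ne (Subgroup.mem_bot.1 (h ▸ h₀.z_le h₀.u_mem))
  · rw [← av_pow' α (h₀.E_le hx), hel _ hE₀ x hx, av_apply α S.one_mem,
      show (⟨1, S.one_mem⟩ : S) = 1 from rfl, map_one]; rfl
  · obtain ⟨C, u', w', h'⟩ := hs.essential_pair hE
    have he : E = E₀ := hs.ess_eq h' h₀ fun x hx => hcon x (h'.E_le hx) (hel E hE x hx)
    subst he
    exact ⟨le_rfl, fun α _ x hx => av_mem α hx⟩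

/-! ### Odd primes -/

omit hs in
/-- Inverting `D` and trivial on `Z(S)/D`. -/
def InvD (β : MulAut S) : Prop :=
  (∀ d ∈ ⁅S, S⁆, av β d = d⁻¹) ∧ ∀ z ∈ zS S, z⁻¹ * av β z ∈ ⁅S, S⁆

theorem Setup.tau_invD {E C : Subgroup Ω} {u w : Ω} (h : EssPair F p E C u w) {β : MulAut S}
    (hu : av β u = u⁻¹) (hC : ∀ c ∈ C, av β c = c) : InvD β := by
  have huS : u ∈ S := zS_le h.u_mem
  refine ⟨fun d hd => ?_, fun z hz => ?_⟩
  · rw [h.d_eq] at hd
    obtain ⟨k, rfl⟩ := hd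
    show av β (u ^ k) = (u ^ k)⁻¹
    rw [av_fix_zpow β huS, hu, inv_zpow]
  · obtain ⟨i, c, hc, rfl⟩ := h.z_decomp z hz
    have hcS := zS_le (h.C_le hc)
    rw [av_mul' β (S.pow_mem huS i) hcS, hC c hc, av_pow' β huS, hu, mul_inv_rev, inv_pow]
    have hD : (u ^ i)⁻¹ * (u ^ i)⁻¹ ∈ ⁅S, S⁆ := by
      rw [h.d_eq]
      exact mul_mem (inv_mem (_root_.pow_mem (Subgroup.mem_zpowers u) i))
        (inv_mem (_root_.pow_mem (Subgroup.mem_zpowers u) i))
    rw [show c⁻¹ * (u ^ i)⁻¹ * ((u ^ i)⁻¹ * c) = c⁻¹ * ((u ^ i)⁻¹ * (u ^ i)⁻¹ * c) by group,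
      comm_zS (h.C_le hc) (zS_le (hs.comm_mem hD)), inv_mul_cancel_left]
    exact hD

theorem Setup.invD_unique {β₁ β₂ : MulAut S} (h₁' : β₁ ∈ F.autGroup S) (h₂' : β₂ ∈ F.autGroup S)
    (h₁ : InvD β₁) (h₂ : InvD β₂) : ∀ z ∈ zS S, av β₁ z = av β₂ z := by
  have hDS : ⁅S, S⁆ ≤ S := commutator_le_self
  have hinv : ∀ d ∈ ⁅S, S⁆, av β₁⁻¹ d = d⁻¹ := fun d hd => by
    conv_lhs => rw [← inv_inv d, ← h₁.1 d hd]
    rw [← av_inv' β₁ (hDS hd), av_inv_av β₁ (S.inv_mem (hDS hd))]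
  have hfix := hs.fix_of_stabilizes hDS (σ := β₁⁻¹ * β₂) (mul_mem (inv_mem h₁') h₂')
    (fun d hd => by rw [av_mul _ _ (hDS hd), h₂.1 d hd, hinv _ (inv_mem hd), inv_inv])
    (fun z hz => ?_)
  · intro z hz
    have := congrArg (av β₁) (hfix z hz)
    rwa [av_mul _ _ (zS_le hz), av_av_inv β₁ (av_mem β₂ (zS_le hz)), eq_comm] at this
  · have hzS := zS_le hz
    have hy : av β₁⁻¹ z ∈ zS S := av_mem_zS _ hz
    have hd1 := h₁.2 _ hy
    rw [av_av_inv β₁ hzS] at hd1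
    have hd2 := h₂.2 z hz
    rw [av_mul _ _ hzS, show av β₂ z = z * (z⁻¹ * av β₂ z) from (mul_inv_cancel_left _ _).symm,
      av_mul' _ hzS (hDS hd2), hinv _ hd2, ← mul_assoc]
    refine mul_mem ?_ (inv_mem hd2)
    have h3 := inv_mem hd1
    rwa [mul_inv_rev, inv_inv] at h3

theorem Setup.odd (hp2 : p ≠ 2) : Nat.card S = p ^ 3 ∧ Nat.card (zS S) = p ∧ ⁅S, S⁆ = zS S ∧
    ∀ x ∈ S, x ^ p = 1 := by
  have hp : p.Prime := Fact.out
  obtain ⟨E₀, hE₀⟩ := hs.exists_essential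
  obtain ⟨C₀, u, w₀, h₀⟩ := hs.essential_pair hE₀
  obtain ⟨τ₀, hτ₀, hτu, hτC⟩ := h₀.tau hp2
  have hτI := hs.tau_invD h₀ hτu hτC
  have hchar : ∀ z ∈ zS S, av τ₀ z = z → z ∈ C₀ := by
    intro z hz hzt
    obtain ⟨i, c, hc, rfl⟩ := h₀.z_decomp z hz
    have huS : u ∈ S := zS_le h₀.u_mem
    rw [av_mul' τ₀ (S.pow_mem huS i) (zS_le (h₀.C_le hc)), hτC c hc, av_pow' τ₀ huS, hτu,
      mul_left_inj, inv_pow] at hzt
    have h2 : (u ^ i) ^ 2 = 1 := by rw [sq]; nth_rewrite 1 [← hzt]; exact inv_mul_cancel _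
    have hp' : (u ^ i) ^ p = 1 := by rw [← pow_mul, mul_comm, pow_mul, h₀.u_pow, one_pow]
    have h1 : u ^ i = 1 := by
      have := pow_gcd_eq_one.2 ⟨h2, hp'⟩
      rwa [show Nat.gcd 2 p = 1 from (Nat.coprime_primes Nat.prime_two hp).2 (Ne.symm hp2), pow_one] at this
    rwa [h1, one_mul]
  have hC₀ : C₀ = ⊥ := by
    refine hs.eq_bot (h₀.C_le.trans zS_le) (fun β hβ c hc => ?_) fun E hE => ?_
    · have hcz := h₀.C_le hc
      refine hchar _ (av_mem_zS β hcz) ?_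
      have hγ : InvD (β * τ₀ * β⁻¹) := by
        refine ⟨fun d hd => ?_, fun z hz => ?_⟩
        · have hd' : av β⁻¹ d ∈ ⁅S, S⁆ := av_mem_commutator _ hd
          have hdS := commutator_le_self hd
          rw [av_mul _ _ hdS, av_mul _ _ (av_mem _ hdS), hτI.1 _ hd', av_inv' β (av_mem _ hdS),
            av_av_inv β hdS]
        · have hy := av_mem_zS β⁻¹ hz
          have h1 := av_mem_commutator β (hτI.2 _ hy)
          have hzS := zS_le hz
          rw [av_mul' β (S.inv_mem (zS_le hy)) (av_mem _ (zS_le hy)), av_inv' β (zS_le hy),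
            av_av_inv β hzS] at h1
          rwa [av_mul _ _ hzS, av_mul _ _ (av_mem _ hzS)]
      have h1 := hs.invD_unique hτ₀ (mul_mem (mul_mem hβ hτ₀) (inv_mem hβ)) hτI hγ _ (av_mem_zS β hcz)
      rw [h1, av_mul _ _ (av_mem β (zS_le hcz)), av_inv_av β (zS_le hcz), av_mul _ _ (zS_le hcz),
        hτC c hc]
    · obtain ⟨C, u', w', h'⟩ := hs.essential_pair hE
      obtain ⟨τ, hτ, hτu', hτC'⟩ := h'.tau hp2
      have heq := hs.invD_unique hτ₀ hτ hτI (hs.tau_invD h' hτu' hτC')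
      have hle : C ≤ C₀ := fun c hc => hchar c (h'.C_le hc) ((heq c (h'.C_le hc)).trans (hτC' c hc))
      have hge : C₀ ≤ C := fun c hc => by
        have hcz := h₀.C_le hc
        obtain ⟨i, c', hc', he⟩ := h'.z_decomp c hcz
        have h1 := (heq c hcz).symm.trans (hτC c hc)
        have hu'S : u' ∈ S := zS_le h'.u_mem
        rw [he, av_mul' τ (S.pow_mem hu'S i) (zS_le (h'.C_le hc')), hτC' c' hc', av_pow' τ hu'S,
          hτu', mul_left_inj, inv_pow] at h1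
        have h2 : (u' ^ i) ^ 2 = 1 := by rw [sq]; nth_rewrite 1 [← h1]; exact inv_mul_cancel _
        have hp' : (u' ^ i) ^ p = 1 := by rw [← pow_mul, mul_comm, pow_mul, h'.u_pow, one_pow]
        have h3 := pow_gcd_eq_one.2 ⟨h2, hp'⟩
        rw [show Nat.gcd 2 p = 1 from (Nat.coprime_primes Nat.prime_two hp).2 (Ne.symm hp2), pow_one] at h3
        rwa [he, h3, one_mul]
      refine ⟨h₀.C_le.trans h'.z_le, fun α hα c hc => hle (h'.C_inv α hα c (hge hc))⟩
  have hZ : zS S = Subgroup.zpowers u := by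
    refine le_antisymm (fun z hz => ?_) (Subgroup.zpowers_le.2 h₀.u_mem)
    obtain ⟨i, c, hc, rfl⟩ := h₀.z_decomp z hz
    rw [hC₀, Subgroup.mem_bot] at hc
    rw [hc, mul_one]; exact _root_.pow_mem (Subgroup.mem_zpowers u) i
  have hcZ : Nat.card (zS S) = p := by
    rw [hZ, Nat.card_zpowers]; exact orderOf_eq_prime h₀.u_pow h₀.u_ne
  have hel : ∀ E, F.IsEssential p E → ∀ x ∈ E, x ^ p = 1 := by
    intro E hE x hx
    obtain ⟨C, u', w', h'⟩ := hs.essential_pair hE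
    obtain ⟨i, j, c, hc, rfl⟩ := h'.decomp x hx
    have hc1 : c ^ p = 1 := TransPair.pow_of_mem_zpowers h₀.u_pow (hZ ▸ h'.C_le hc)
    have hu'E := h'.z_le h'.u_mem
    rw [(show Commute (u' ^ i * w' ^ j) c from h'.comm _
        (E.mul_mem (E.pow_mem hu'E i) (E.pow_mem h'.w_mem j)) _ (h'.z_le (h'.C_le hc))).mul_pow,
      (show Commute (u' ^ i) (w' ^ j) from h'.comm _ (E.pow_mem hu'E i) _ (E.pow_mem h'.w_mem j)).mul_pow,
      hc1, mul_one, ← pow_mul, ← pow_mul, mul_comm i, mul_comm j, pow_mul, pow_mul, h'.u_pow,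
      h'.w_pow, one_pow, one_pow, one_mul]
  obtain ⟨x, hxS, hxp, hxE⟩ := hs.exists_torsion_notMem hel hE₀ h₀
  refine ⟨by rw [hs.card_eq, hcZ, ← pow_succ], hcZ, h₀.d_eq.trans hZ.symm, ?_⟩
  let T : Subgroup Ω :=
    { carrier := {y | y ∈ S ∧ y ^ p = 1}
      one_mem' := ⟨S.one_mem, one_pow _⟩
      mul_mem' := fun {a b} ha hb => ⟨S.mul_mem ha.1 hb.1, by
        have h := congrArg Subtype.val (pow_prime_mul_of_class_two hp2 (x := (⟨a, ha.1⟩ : S))
          (y := ⟨b, hb.1⟩) (fun g => Subtype.ext (comm_zS (hs.comm_zS_mem hb.1 ha.1) g.2).symm)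
          (Subtype.ext (show b ^ p * a = a * b ^ p by rw [hb.2, one_mul, mul_one])))
        simp only [Subgroup.coe_mul, SubmonoidClass.coe_pow] at h
        rw [h, ha.2, hb.2, one_mul]⟩
      inv_mem' := fun {a} ha => ⟨S.inv_mem ha.1, by rw [inv_pow, ha.2, inv_one]⟩ }
  have hlt : E₀ < T := lt_of_le_not_ge (fun y hy => ⟨h₀.E_le hy, hel E₀ hE₀ y hy⟩)
    fun hle => hxE (hle ⟨hxS, hxp⟩)
  have hT : T = S := hs.eq_S_of_lt (hs.card_ess h₀).1 hlt fun y hy => hy.1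
  exact fun y hy => (hT.ge hy).2

/-! ### The prime two -/

omit hs in
theorem mem_or_of_le_union {G : Type*} [Group G] {A B T : Subgroup G}
    (h : ∀ y ∈ T, y ∈ A ∨ y ∈ B) : T ≤ A ∨ T ≤ B := by
  by_contra hcon
  simp only [not_or, SetLike.not_le_iff_exists] at hcon
  obtain ⟨⟨a, ha, haA⟩, ⟨b, hb, hbB⟩⟩ := hcon
  rcases h _ (T.mul_mem ha hb) with h1 | h1
  · exact haA (by simpa using A.mul_mem h1 (A.inv_mem ((h b hb).resolve_right hbB)))
  · exact hbB (by simpa using B.mul_mem (B.inv_mem ((h a ha).resolve_left haA)) h1)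

theorem Setup.two (hp : p = 2) (hhyp : F.hyperfocalSubgroup p = S) : Nat.card S = p ^ 3 ∧ Nat.card (zS S) = p ∧ ⁅S, S⁆ = zS S ∧
    Nonempty (S ≃* DihedralGroup 4) := by
  subst hp
  classical
  obtain ⟨E₀, hE₀⟩ := hs.exists_essential
  obtain ⟨C₀, u, w₀, h₀⟩ := hs.essential_pair hE₀
  have huS : u ∈ S := zS_le h₀.u_mem
  have hu2 : u * u = 1 := by rw [← pow_two]; exact h₀.u_pow
  have hDmem : ∀ d ∈ ⁅S, S⁆, d = 1 ∨ d = u := by
    intro d hd
    rw [h₀.d_eq] at hd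
    obtain ⟨n, rfl⟩ := TransPair.exists_npow h₀.u_pow hd
    rcases Nat.even_or_odd n with ⟨k, hk⟩ | ⟨k, hk⟩
    · left; rw [hk, ← two_mul, pow_mul, h₀.u_pow, one_pow]
    · right; rw [hk, pow_succ, pow_mul, h₀.u_pow, one_pow, one_mul]
  have huD : u ∈ ⁅S, S⁆ := h₀.d_eq ▸ Subgroup.mem_zpowers u
  have hufix : ∀ β : MulAut S, av β u = u := fun β => by
    refine (hDmem _ (av_mem_commutator β huD)).resolve_left fun h => h₀.u_ne ?_
    have h1 := congrArg (av β⁻¹) h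
    rw [av_inv_av β huS, av_apply β⁻¹ S.one_mem, show (⟨1, S.one_mem⟩ : S) = 1 from rfl, map_one] at h1
    exact h1
  have hu' : ∀ {E C : Subgroup Ω} {u' w' : Ω}, EssPair F 2 E C u' w' → u' = u := fun h' =>
    (hDmem _ (h'.d_eq ▸ Subgroup.mem_zpowers _)).resolve_left h'.u_ne
  -- the centre is elementary
  have hsq : ∀ z ∈ zS S, z * z = 1 := by
    set X : Set Ω := {y | ∃ z ∈ zS S, y = z * z}
    have hXS : X ⊆ S := by
      rintro _ ⟨z, hz, rfl⟩
      exact S.mul_mem (zS_le hz) (zS_le hz)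
    have hK : Subgroup.closure X = ⊥ := by
      refine hs.eq_bot ((Subgroup.closure_le S).2 hXS) (fun α _ => closure_invariant α hXS ?_) fun E hE => ?_
      · rintro _ ⟨z, hz, rfl⟩
        exact Subgroup.subset_closure ⟨_, av_mem_zS α hz, av_mul' α (zS_le hz) (zS_le hz)⟩
      · obtain ⟨C, u', w', h'⟩ := hs.essential_pair hE
        have hXE : X ⊆ E := by
          rintro _ ⟨z, hz, rfl⟩
          exact E.mul_mem (h'.z_le hz) (h'.z_le hz)
        refine ⟨(Subgroup.closure_le E).2 hXE, fun α hα => closure_invariant α hXE ?_⟩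
        rintro _ ⟨z, hz, rfl⟩
        obtain ⟨i, c, hc, rfl⟩ := h'.z_decomp z hz
        have hc' := h'.C_le hc
        have he : u' ^ i * c * (u' ^ i * c) = c * c := by
          rw [← pow_two, (show Commute (u' ^ i) c from (comm_zS hc' (S.pow_mem (zS_le h'.u_mem) i))).mul_pow,
            ← pow_mul, mul_comm i, pow_mul, h'.u_pow, one_pow, one_mul, pow_two]
        rw [he, av_mul' α (h'.z_le hc') (h'.z_le hc')]
        exact Subgroup.subset_closure ⟨_, h'.C_le (h'.C_inv α hα c hc), rfl⟩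
    exact fun z hz => Subgroup.mem_bot.1 (hK ▸ Subgroup.subset_closure ⟨z, hz, rfl⟩)
  have hel : ∀ E, F.IsEssential 2 E → ∀ x ∈ E, x ^ 2 = 1 := by
    intro E hE x hx
    obtain ⟨C, u', w', h'⟩ := hs.essential_pair hE
    obtain ⟨i, j, c, hc, rfl⟩ := h'.decomp x hx
    have hu'E := h'.z_le h'.u_mem
    rw [(show Commute (u' ^ i * w' ^ j) c from h'.comm _
        (E.mul_mem (E.pow_mem hu'E i) (E.pow_mem h'.w_mem j)) _ (h'.z_le (h'.C_le hc))).mul_pow,
      (show Commute (u' ^ i) (w' ^ j) from h'.comm _ (E.pow_mem hu'E i) _ (E.pow_mem h'.w_mem j)).mul_pow,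
      pow_two c, hsq c (h'.C_le hc), mul_one, ← pow_mul, ← pow_mul, mul_comm i, mul_comm j, pow_mul,
      pow_mul, h'.u_pow, h'.w_pow, one_pow, one_pow, one_mul]
  obtain ⟨x, hxS, hx2, hxE⟩ := hs.exists_torsion_notMem hel hE₀ h₀
  obtain ⟨hz0, hc0⟩ := hs.card_ess h₀
  have hxz : x ∉ zS S := fun h => hxE (h₀.z_le h)
  have hxpow : ∀ y ∈ Subgroup.zpowers x, y = 1 ∨ y = x := by
    intro y hy
    obtain ⟨n, rfl⟩ := TransPair.exists_npow hx2 hy
    rcases Nat.even_or_odd n with ⟨k, hk⟩ | ⟨k, hk⟩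
    · left; rw [hk, ← two_mul, pow_mul, hx2, one_pow]
    · right; rw [hk, pow_succ, pow_mul, hx2, one_pow, one_mul]
  have hgenS : ∀ T : Subgroup Ω, E₀ ≤ T → x ∈ T → T ≤ S → T = S := fun T h1 h2 h3 =>
    hs.eq_S_of_lt hz0 (lt_of_le_not_ge h1 fun hle => hxE (hle h2)) h3
  have hcent : ∀ e ∈ E₀, x * e = e * x → e ∈ zS S := by
    intro e he hxe
    have hT := hgenS (S ⊓ Subgroup.centralizer ({e} : Set Ω))
      (fun y hy => ⟨h₀.E_le hy, Subgroup.mem_centralizer_iff.2 (by rintro _ rfl; exact h₀.comm _ he y hy)⟩)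
      ⟨hxS, Subgroup.mem_centralizer_iff.2 (by rintro _ rfl; exact hxe.symm)⟩ inf_le_left
    exact mem_centralizerIn.2 ⟨h₀.E_le he, fun y hy =>
      ((Subgroup.mem_centralizer_iff.1 (hT.ge hy).2) e rfl).symm⟩
  set E₁ := Subgroup.zpowers x ⊔ zS S with hE₁def
  have hzn : S ≤ Subgroup.normalizer (zS S : Set Ω) := fun s hs' => Subgroup.mem_normalizer_iff.2 fun z =>
    ⟨fun hz => by rwa [comm_zS hz hs', mul_inv_cancel_right], fun hz => by
      have h1 := comm_zS hz (S.inv_mem hs')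
      rw [show s⁻¹ * (s * z * s⁻¹) = z * s⁻¹ by group, mul_left_inj] at h1
      rwa [h1]⟩
  have hE₁mem : ∀ y, y ∈ E₁ ↔ y ∈ zS S ∨ ∃ z ∈ zS S, y = x * z := by
    intro y
    constructor
    · intro hy
      obtain ⟨a, ha, b, hb, rfl⟩ := mem_sup_of_normalized hzn (Subgroup.zpowers_le.2 hxS) hy
      rcases hxpow a ha with rfl | rfl
      · left; rwa [one_mul]
      · exact Or.inr ⟨b, hb, rfl⟩
    · rintro (hy | ⟨z, hz, rfl⟩)
      · exact Subgroup.mem_sup_right hy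
      · exact mul_mem (Subgroup.mem_sup_left (Subgroup.mem_zpowers x)) (Subgroup.mem_sup_right hz)
  have hE₁S : E₁ ≤ S := sup_le (Subgroup.zpowers_le.2 hxS) zS_le
  have hE₀S' : S ≤ Subgroup.normalizer (E₀ : Set Ω) := fun s hs' => Subgroup.mem_normalizer_iff.2 fun y =>
    ⟨fun hy => h₀.normal s hs' y hy, fun hy => by
      simpa [mul_assoc] using h₀.normal s⁻¹ (S.inv_mem hs') _ hy⟩
  have hcase : ∀ y ∈ S, y ^ 2 = 1 → y ∈ E₀ ∨ y ∈ E₁ := by
    intro y hy hy2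
    have hy' : y ∈ Subgroup.zpowers x ⊔ E₀ := by
      rw [hgenS (Subgroup.zpowers x ⊔ E₀) le_sup_right (Subgroup.mem_sup_left (Subgroup.mem_zpowers x))
        (sup_le (Subgroup.zpowers_le.2 hxS) h₀.E_le)]
      exact hy
    obtain ⟨a, ha, e, he, rfl⟩ := mem_sup_of_normalized hE₀S' (Subgroup.zpowers_le.2 hxS) hy'
    rcases hxpow a ha with rfl | rfl
    · left; rwa [one_mul]
    · right
      refine (hE₁mem _).2 (Or.inr ⟨e, hcent e he ?_, rfl⟩)
      have he2 := hel E₀ hE₀ e he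
      rw [pow_two] at he2 hy2 hx2
      calc a * e = (a * e)⁻¹ := (inv_eq_of_mul_eq_one_right hy2).symm
        _ = e⁻¹ * a⁻¹ := mul_inv_rev _ _
        _ = e * a := by rw [inv_eq_of_mul_eq_one_right he2, inv_eq_of_mul_eq_one_right hx2]
  have hE₁lt : zS S < E₁ :=
    lt_of_le_of_ne le_sup_right fun he => hxz (he.symm ▸ Subgroup.mem_sup_left (Subgroup.mem_zpowers x))
  have hE₁ne : E₁ ≠ S := by
    intro he
    obtain ⟨a, ha, b, hb, hne⟩ := hs.na
    refine hne ?_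
    have hxx : ∀ z ∈ zS S, ∀ z' ∈ zS S, x * z * (x * z') = x * z' * (x * z) := fun z hz z' hz' =>
      (((Commute.refl x).mul_right (comm_zS hz' hxS)).mul_left
        (Commute.mul_right (comm_zS hz hxS).symm (comm_zS hz' (zS_le hz))) : Commute (x * z) (x * z'))
    rcases (hE₁mem a).1 (he.symm ▸ ha) with h1 | ⟨z, hz, rfl⟩
    · exact (comm_zS h1 hb).symm
    rcases (hE₁mem b).1 (he.symm ▸ hb) with h2 | ⟨z', hz', rfl⟩
    · exact comm_zS h2 ha
    · exact hxx z hz z' hz'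
  have hc1 := hs.card_between hE₁lt (lt_of_le_of_ne hE₁S hE₁ne)
  have hne01 : E₁ ≠ E₀ := fun h => hxE (h ▸ Subgroup.mem_sup_left (Subgroup.mem_zpowers x))
  -- subgroups of order `2|Z|` of exponent two
  have hmax : ∀ T : Subgroup Ω, T ≤ S → (∀ y ∈ T, y ^ 2 = 1) → Nat.card T = 2 * Nat.card (zS S) →
      T = E₀ ∨ T = E₁ := by
    intro T hT hT2 hcT
    haveI := finite_of_le h₀.E_le
    haveI := finite_of_le hE₁S
    rcases mem_or_of_le_union fun y hy => hcase y (hT hy) (hT2 y hy) with h | h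
    · exact Or.inl (Subgroup.eq_of_le_of_card_ge h (by rw [hcT, hc0]))
    · exact Or.inr (Subgroup.eq_of_le_of_card_ge h (by rw [hcT, hc1]))
  have hel₁ : ∀ y ∈ E₁, y ^ 2 = 1 := by
    intro y hy
    rcases (hE₁mem y).1 hy with h | ⟨z, hz, rfl⟩
    · rw [pow_two]; exact hsq y h
    · rw [(show Commute x z from comm_zS hz hxS).mul_pow, hx2, one_mul, pow_two]; exact hsq z hz
  have himg : ∀ β ∈ F.autGroup S, ∀ T, (T = E₀ ∨ T = E₁) → im T (av β) = E₀ ∨ im T (av β) = E₁ := by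
    intro β hβ T hT
    have hTS : T ≤ S := by rcases hT with rfl | rfl <;> [exact h₀.E_le; exact hE₁S]
    have hM := (map_of_mem_autGroup le_rfl hβ).restrict hTS
    refine hmax _ hM.im_le (fun y hy => ?_) ?_
    · obtain ⟨t, ht, rfl⟩ := hM.mem_im.1 hy
      have ht2 : t ^ 2 = 1 := by rcases hT with rfl | rfl <;> [exact hel _ hE₀ t ht; exact hel₁ t ht]
      rw [← av_pow' β (hTS ht), ht2]
      exact (map_of_mem_autGroup (le_refl S) hβ).map_one
    · rw [hM.card_im]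
      rcases hT with rfl | rfl <;> [exact hc0; exact hc1]
  have hbb : ∀ β ∈ F.autGroup S, ∀ T, (T = E₀ ∨ T = E₁) → ∀ y ∈ T, av (β * β) y ∈ T := by
    intro β hβ T hT y hy
    have hTS : T ≤ S := by rcases hT with rfl | rfl <;> [exact h₀.E_le; exact hE₁S]
    rw [av_mul _ _ (hTS hy)]
    have hinj : im E₀ (av β) ≠ im E₁ (av β) := by
      intro he
      refine hne01 (le_antisymm (fun z hz => ?_) (fun z hz => ?_))
      · obtain ⟨z', hz', hzz⟩ := ((map_of_mem_autGroup le_rfl hβ).restrict h₀.E_le).mem_im.1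
          (he.ge (mem_im_of_mem hz))
        rwa [← (map_of_mem_autGroup le_rfl hβ).injOn (h₀.E_le hz') (hE₁S hz) hzz]
      · obtain ⟨z', hz', hzz⟩ := ((map_of_mem_autGroup le_rfl hβ).restrict hE₁S).mem_im.1
          (he.le (mem_im_of_mem hz))
        rwa [← (map_of_mem_autGroup le_rfl hβ).injOn (hE₁S hz') (h₀.E_le hz) hzz]
    have h1 := mem_im_of_mem (f := av β) hy
    rcases himg β hβ E₀ (Or.inl rfl) with a0 | a0 <;> rcases himg β hβ E₁ (Or.inr rfl) with a1 | a1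
    · exact absurd (a0.trans a1.symm) hinj
    · rcases hT with rfl | rfl
      · rw [a0] at h1; exact a0.le (mem_im_of_mem h1)
      · rw [a1] at h1; exact a1.le (mem_im_of_mem h1)
    · rcases hT with rfl | rfl
      · rw [a0] at h1; exact a1.le (mem_im_of_mem h1)
      · rw [a1] at h1; exact a0.le (mem_im_of_mem h1)
    · exact absurd (a0.trans a1.symm) hinj
  have hessT : ∀ E, F.IsEssential 2 E → E = E₀ ∨ E = E₁ := by
    intro E hE
    obtain ⟨C, u', w', h'⟩ := hs.essential_pair hE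
    exact hmax E h'.E_le (hel E hE) (hs.card_ess h').2
  -- `Aut(S)` fixes the centre
  have hZfix : ∀ β ∈ F.autGroup S, ∀ z ∈ zS S, av β z = z := by
    set X : Set Ω := {y | ∃ β ∈ F.autGroup S, ∃ z ∈ zS S, y = z⁻¹ * av β z}
    have hXS : X ⊆ zS S := by
      rintro _ ⟨β, -, z, hz, rfl⟩
      exact mul_mem (inv_mem hz) (av_mem_zS β hz)
    have hXC : ∀ {E C : Subgroup Ω} {u' w' : Ω}, F.IsEssential 2 E → EssPair F 2 E C u' w' → X ⊆ C := by
      intro E C u' w' hE h'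
      have hCS : C ≤ S := h'.C_le.trans zS_le
      rintro _ ⟨β, hβ, z, hz, rfl⟩
      let N : Subgroup (MulAut S) :=
        { carrier := {σ | ∀ y ∈ S, av σ y ∈ C ↔ y ∈ C}
          one_mem' := fun y hy => by rw [av_one hy]
          mul_mem' := fun {σ σ'} h1 h2 y hy => by rw [av_mul _ _ hy, h1 _ (av_mem σ' hy), h2 y hy]
          inv_mem' := fun {σ} h1 y hy => by
            conv_rhs => rw [← av_av_inv σ hy, h1 _ (av_mem _ hy)] }
      have hpres : ∀ γ ∈ F.autGroup S, ∀ c ∈ C, av (γ * γ) c ∈ C := by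
        intro γ hγ c hc
        have hTE := hbb γ hγ E (hessT E hE)
        have hM := (map_of_mem_autGroup le_rfl (mul_mem hγ hγ)).restrict h'.E_le
        haveI := finite_of_le h'.E_le
        obtain ⟨α, hα, hαe⟩ := exists_aut hM
          (Subgroup.eq_of_le_of_card_ge (im_le_iff.2 hTE) hM.card_im.ge)
        rw [← hαe c (h'.z_le (h'.C_le hc))]
        exact h'.C_inv α hα c hc
      have h2N : β ^ 2 ∈ N := fun y hy => by
        rw [pow_two]
        refine ⟨fun h => ?_, hpres β hβ y⟩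
        have := hpres β⁻¹ (inv_mem hβ) _ h
        rwa [← mul_inv_rev, av_inv_av _ hy] at this
      obtain ⟨m, hm, hmi⟩ := hs.exists_pow_inn hβ
      have hmN : β ^ m ∈ N := fun y hy => by
        refine ⟨fun h => ?_, fun h => by rwa [hs.inn_fix hmi (h'.C_le h)]⟩
        have h1 := hs.inn_fix ((Inn S).inv_mem hmi) (h'.C_le h)
        rw [av_inv_av _ hy] at h1
        rwa [h1]
      have hN : β ∈ N := mem_of_pow_coprime h2N hmN (Nat.Coprime.symm hm)
      obtain ⟨i, c, hc, rfl⟩ := h'.z_decomp z hz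
      rw [hu' h', av_mul' β (S.pow_mem huS i) (hCS hc), av_pow' β huS, hufix, mul_inv_rev, mul_assoc,
        inv_mul_cancel_left]
      exact mul_mem (inv_mem hc) ((hN c (hCS hc)).2 hc)
    have hK : Subgroup.closure X = ⊥ := by
      refine hs.eq_bot ((Subgroup.closure_le S).2 (hXS.trans zS_le))
        (fun α hα => closure_invariant α (hXS.trans zS_le) ?_) fun E hE => ?_
      · rintro _ ⟨β, hβ, z, hz, rfl⟩
        refine Subgroup.subset_closure ⟨α * β * α⁻¹, mul_mem (mul_mem hα hβ) (inv_mem hα), av α z,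
          av_mem_zS α hz, ?_⟩
        have hzS := zS_le hz
        rw [av_mul' α (S.inv_mem hzS) (av_mem β hzS), av_inv' α hzS, av_mul _ _ (av_mem α hzS),
          av_inv_av α hzS, av_mul _ _ hzS]
      · obtain ⟨C, u', w', h'⟩ := hs.essential_pair hE
        have hXE : X ⊆ E := hXS.trans h'.z_le
        refine ⟨(Subgroup.closure_le E).2 hXE, fun α hα => closure_invariant α hXE fun y hy => ?_⟩
        obtain ⟨β', hβ', he⟩ := h'.ext' α hα
        rw [← he y (hXC hE h' hy)]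
        obtain ⟨β, hβ, z, hz, rfl⟩ := hy
        refine Subgroup.subset_closure ⟨β' * β * β'⁻¹, mul_mem (mul_mem hβ' hβ) (inv_mem hβ'), av β' z,
          av_mem_zS β' hz, ?_⟩
        have hzS := zS_le hz
        rw [av_mul' β' (S.inv_mem hzS) (av_mem β hzS), av_inv' β' hzS, av_mul _ _ (av_mem β' hzS),
          av_inv_av β' hzS, av_mul _ _ hzS]
    intro β hβ z hz
    exact (inv_mul_eq_one.1 (Subgroup.mem_bot.1 (hK ▸ Subgroup.subset_closure ⟨β, hβ, z, hz, rfl⟩))).symm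
  -- `Aut(S)` is inner
  have hE₀mem : ∀ y ∈ E₀, y ∈ zS S ∨ ∃ z ∈ zS S, y = w₀ * z := by
    intro y hy
    obtain ⟨i, j, c, hc, rfl⟩ := h₀.decomp y hy
    have huc : u ^ i * c ∈ zS S := mul_mem (_root_.pow_mem h₀.u_mem i) (h₀.C_le hc)
    rcases Nat.even_or_odd j with ⟨k, hk⟩ | ⟨k, hk⟩
    · left; rwa [hk, ← two_mul, pow_mul, h₀.w_pow, one_pow, mul_one]
    · refine Or.inr ⟨_, huc, ?_⟩
      rw [hk, pow_succ, pow_mul, h₀.w_pow, one_pow, one_mul,
        h₀.comm _ (E₀.pow_mem (h₀.z_le h₀.u_mem) i) _ h₀.w_mem, mul_assoc]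
  have hinn : ∀ β ∈ F.autGroup S, β ∈ Inn S := by
    intro β hβ
    set σ := β * β
    have hσ : σ ∈ F.autGroup S := mul_mem hβ hβ
    have hσfix := hZfix σ hσ
    have hone : ∀ {T : Subgroup Ω} {g : Ω}, T ≤ S → (∀ y ∈ T, av σ y ∈ T) →
        (∀ y ∈ T, y ∈ zS S ∨ ∃ z ∈ zS S, y = g * z) → ∀ y ∈ T, y⁻¹ * av σ y ∈ zS S := by
      intro T g hTS hinv hmem y hy
      rcases hmem y hy with h | ⟨z, hz, rfl⟩
      · rw [hσfix y h, inv_mul_cancel]; exact one_mem _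
      rcases hmem _ (hinv _ hy) with h | ⟨z', hz', he⟩
      · have h1 := hZfix σ⁻¹ (inv_mem hσ) _ h
        rw [av_inv_av σ (hTS hy)] at h1
        rw [← h1, inv_mul_cancel]; exact one_mem _
      · rw [he, mul_inv_rev, mul_assoc, inv_mul_cancel_left]
        exact mul_mem (inv_mem hz) hz'
    let T : Subgroup Ω :=
      { carrier := {y | y ∈ S ∧ y⁻¹ * av σ y ∈ zS S}
        one_mem' := ⟨S.one_mem, by rw [hσfix 1 (one_mem _), inv_mul_cancel]; exact one_mem _⟩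
        mul_mem' := fun {a b} ha hb => ⟨S.mul_mem ha.1 hb.1, by
          rw [av_mul' σ ha.1 hb.1, mul_inv_rev, show b⁻¹ * a⁻¹ * (av σ a * av σ b)
            = b⁻¹ * (a⁻¹ * av σ a) * av σ b by group, comm_zS ha.2 (S.inv_mem hb.1), mul_assoc]
          exact mul_mem ha.2 hb.2⟩
        inv_mem' := fun {a} ha => ⟨S.inv_mem ha.1, by
          rw [av_inv' σ ha.1, inv_inv, show a * (av σ a)⁻¹ = a * (a⁻¹ * av σ a)⁻¹ * a⁻¹ by group,
            comm_zS (inv_mem ha.2) ha.1, mul_inv_cancel_right]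
          exact inv_mem ha.2⟩ }
    have hT : T = S := hgenS T
      (fun y hy => ⟨h₀.E_le hy, hone h₀.E_le (hbb β hβ E₀ (Or.inl rfl)) hE₀mem y hy⟩)
      ⟨hxS, hone hE₁S (hbb β hβ E₁ (Or.inr rfl)) (fun y hy => (hE₁mem y).1 hy) x
        (Subgroup.mem_sup_left (Subgroup.mem_zpowers x))⟩ fun y hy => hy.1
    have hss : σ * σ = 1 := aut_ext fun y hy => by
      have h1 := (hT.ge hy).2
      rw [av_mul _ _ hy, av_one hy]
      obtain ⟨d, hd⟩ : ∃ d, d = y⁻¹ * av σ y := ⟨_, rfl⟩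
      have he : av σ y = y * d := by rw [hd, mul_inv_cancel_left]
      rw [← hd] at h1
      rw [he, av_mul' σ hy (zS_le h1), he, hσfix _ h1, mul_assoc, hsq _ h1, mul_one]
    refine hs.mem_inn hβ (k := 2) ?_
    rw [show (2 : ℕ) ^ 2 = 2 * 2 from rfl, pow_mul, pow_two, pow_two]
    exact hss
  -- the second essential subgroup
  have hE₁ess : F.IsEssential 2 E₁ := by
    by_contra h1
    have hall : ∀ E, F.IsEssential 2 E → E = E₀ := fun E hE =>
      (hessT E hE).resolve_right fun he => h1 (he ▸ hE)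
    have h := hs.eq_bot h₀.E_le (fun α hα y hy => by
      obtain ⟨g, hg, hgα⟩ := mem_Inn.1 (hinn α hα)
      rw [hgα y (h₀.E_le hy)]; exact h₀.normal g hg y hy)
      fun E hE => by
        obtain rfl := hall E hE
        exact ⟨le_rfl, fun α _ y hy => av_mem α hy⟩
    exact h₀.u_ne (Subgroup.mem_bot.1 (h ▸ h₀.z_le h₀.u_mem))
  obtain ⟨C₁, u₁, w₁, h₁'⟩ := hs.essential_pair hE₁ess
  have h₁ : EssPair F 2 E₁ C₁ u w₁ := hu' h₁' ▸ h₁'
  -- the focal subgroup
  set M := Subgroup.zpowers u ⊔ Subgroup.zpowers w₀ ⊔ Subgroup.zpowers w₁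
  have hW : ∀ {E C : Subgroup Ω} {w : Ω}, EssPair F 2 E C u w →
      Subgroup.zpowers u ⊔ Subgroup.zpowers w ≤ M → ∀ α ∈ F.autGroup E, ∀ y ∈ E, y⁻¹ * av α y ∈ M := by
    intro E C w h hle α hα y hy
    obtain ⟨i, j, c, hc, rfl⟩ := h.decomp y hy
    have hcE := h.z_le (h.C_le hc)
    have hv : u ^ i * w ^ j ∈ E := mul_mem (_root_.pow_mem (h.z_le h.u_mem) i) (_root_.pow_mem h.w_mem j)
    obtain ⟨β, hβ, he⟩ := h.ext' α hα
    rw [av_mul' α hv hcE, ← he c hc, hZfix β hβ c (h.C_le hc), mul_inv_rev]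
    have hvW : u ^ i * w ^ j ∈ Subgroup.zpowers u ⊔ Subgroup.zpowers w :=
      mul_mem (Subgroup.mem_sup_left (_root_.pow_mem (Subgroup.mem_zpowers u) i))
        (Subgroup.mem_sup_right (_root_.pow_mem (Subgroup.mem_zpowers w) j))
    have h1 := hle (mul_mem (inv_mem hvW) (h.W_inv α hα _ hvW))
    have h2 : (u ^ i * w ^ j)⁻¹ * av α (u ^ i * w ^ j) ∈ E := mul_mem (inv_mem hv) (av_mem α hv)
    rw [show c⁻¹ * (u ^ i * w ^ j)⁻¹ * (av α (u ^ i * w ^ j) * c)
      = c⁻¹ * ((u ^ i * w ^ j)⁻¹ * av α (u ^ i * w ^ j) * c) by group, h.comm _ h2 _ hcE,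
      inv_mul_cancel_left]
    exact h1
  have hK : IsClosedClass F (fun P f => ∀ y ∈ P, y⁻¹ * f y ∈ M) :=
    { congr := fun h he y hy => he y hy ▸ h y hy
      restrict := fun _ h hR y hy => h y (hR hy)
      comp := fun {P Q f g} _ _ h h' hm y hy => by
        have := mul_mem (h y hy) (h' _ (hm y hy))
        simpa [mul_assoc] using this
      inv := fun {P f g} hf h hg y hy => by
        obtain ⟨z, hz, rfl⟩ := hf.mem_im.1 hy
        rw [hg z hz]
        simpa using inv_mem (h z hz) }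
  have hfoc := alperin hs.isP hs.sat hK (fun R hR α hα y hy => by
    rcases hR with rfl | hR
    · obtain ⟨g, hg, hgα⟩ := mem_Inn.1 (hinn α hα)
      rw [hgα y hy, show y⁻¹ * (g * y * g⁻¹) = ⁅y⁻¹, g⁆ by simp [commutatorElement_def, mul_assoc]]
      exact Subgroup.mem_sup_left (Subgroup.mem_sup_left
        (h₀.d_eq ▸ Subgroup.commutator_mem_commutator (inv_mem hy) hg))
    · rcases hessT R hR with rfl | rfl
      · exact hW h₀ le_sup_left α hα y hy
      · exact hW h₁ (sup_le (le_sup_left.trans le_sup_left) le_sup_right) α hα y hy)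
  have hSM : S ≤ M := by
    have hle : F.hyperfocalSubgroup 2 ≤ M := (Subgroup.closure_le _).2 (by
      rintro _ ⟨P, α, y, hP, -, rfl⟩
      have := hfoc P _ (map_of_mem_autGroup hP α.2) y y.2
      rwa [av_coe] at this)
    exact hhyp.ge.trans hle
  -- `S` is dihedral of order eight
  have hw₀S : w₀ ∈ S := h₀.E_le h₀.w_mem
  have hw₁S : w₁ ∈ S := hE₁S h₁.w_mem
  have hw₀2 : w₀ * w₀ = 1 := by rw [← pow_two]; exact h₀.w_pow
  have hw₁2 : w₁ * w₁ = 1 := by rw [← pow_two]; exact h₁.w_pow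
  have hne : ⁅w₀, w₁⁆ ≠ 1 := by
    intro hcomm
    rw [commutatorElement_eq_one_iff_mul_comm] at hcomm
    have hw₁E : w₁ ∉ E₀ := by
      intro h
      obtain ⟨z, hz, he⟩ := ((hE₁mem w₁).1 h₁.w_mem).resolve_left h₁.w_notMem
      exact hxE ((mul_mem_cancel_right (h₀.z_le hz)).1 (he ▸ h))
    refine h₀.w_notMem ?_
    obtain ⟨z, hz, he⟩ := ((hE₁mem w₁).1 h₁.w_mem).resolve_left h₁.w_notMem
    refine hcent w₀ h₀.w_mem ?_
    rw [he, ← mul_assoc, mul_assoc x z w₀, ← comm_zS hz hw₀S, ← mul_assoc, mul_left_inj] at hcomm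
    exact hcomm.symm
  have hcu : ⁅w₀, w₁⁆ = u :=
    (hDmem _ (Subgroup.commutator_mem_commutator hw₀S hw₁S)).resolve_left hne
  have hr : (w₀ * w₁) * (w₀ * w₁) = u := by
    rw [← hcu, commutatorElement_def, inv_eq_of_mul_eq_one_right hw₀2, inv_eq_of_mul_eq_one_right hw₁2]
    group
  set r₀ : S := ⟨w₀ * w₁, S.mul_mem hw₀S hw₁S⟩
  set s₀ : S := ⟨w₀, hw₀S⟩
  set t₀ : S := ⟨w₁, hw₁S⟩
  have hs2 : s₀ * s₀ = 1 := Subtype.ext hw₀2
  have ht2 : t₀ * t₀ = 1 := Subtype.ext hw₁2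
  have hrs : r₀ = s₀ * t₀ := rfl
  have hsr : s₀ * r₀ * s₀⁻¹ = r₀⁻¹ := by
    rw [hrs, mul_inv_rev, inv_eq_of_mul_eq_one_right ht2, inv_eq_of_mul_eq_one_right hs2,
      ← mul_assoc, hs2, one_mul]
  have hr4 : r₀ ^ 4 = 1 := by
    refine Subtype.ext ?_
    show (w₀ * w₁) ^ 4 = 1
    rw [show (4 : ℕ) = 2 * 2 from rfl, pow_mul, pow_two (w₀ * w₁), hr, pow_two, hu2]
  have hcast : ∀ a b : ℕ, (a : ZMod 4) = b → r₀ ^ a = r₀ ^ b := fun a b h =>
    pow_eq_pow_iff_modEq.2 (((ZMod.natCast_eq_natCast_iff a b 4).1 h).of_dvd (orderOf_dvd_of_pow_eq_one hr4))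
  have hmulsr : ∀ i : ℕ, r₀ ^ i * s₀ = s₀ * (r₀ ^ i)⁻¹ := fun i => by
    rw [← inv_pow, ← hsr, _root_.conj_pow, inv_eq_of_mul_eq_one_right hs2, ← mul_assoc, ← mul_assoc, hs2,
      one_mul]
  have hneg : ∀ i j : ZMod 4, (r₀ ^ i.val)⁻¹ * r₀ ^ j.val = r₀ ^ (j - i).val := fun i j => by
    rw [inv_mul_eq_iff_eq_mul, ← pow_add]
    exact hcast _ _ (by push_cast; simp)
  let f : DihedralGroup 4 → S := fun d => match d with
    | DihedralGroup.r i => r₀ ^ i.val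
    | DihedralGroup.sr i => s₀ * r₀ ^ i.val
  have hf : ∀ a b, f (a * b) = f a * f b := by
    rintro (i | i) (j | j)
    · show r₀ ^ (i + j).val = r₀ ^ i.val * r₀ ^ j.val
      rw [← pow_add]; exact hcast _ _ (by push_cast; simp)
    · show s₀ * r₀ ^ (j - i).val = r₀ ^ i.val * (s₀ * r₀ ^ j.val)
      rw [← mul_assoc, hmulsr, mul_assoc, hneg]
    · show s₀ * r₀ ^ (i + j).val = s₀ * r₀ ^ i.val * r₀ ^ j.val
      rw [mul_assoc, ← pow_add]; exact congrArg _ (hcast _ _ (by push_cast; simp))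
    · show r₀ ^ (j - i).val = s₀ * r₀ ^ i.val * (s₀ * r₀ ^ j.val)
      rw [← mul_assoc, mul_assoc s₀ _ s₀, hmulsr, ← mul_assoc, hs2, one_mul, hneg]
  let φ := MonoidHom.mk' f hf
  have hs₀r : s₀ ∈ φ.range := ⟨DihedralGroup.sr 0, by show s₀ * r₀ ^ (0 : ZMod 4).val = s₀; simp⟩
  have ht₀r : t₀ ∈ φ.range := ⟨DihedralGroup.sr 1, by
    show s₀ * r₀ ^ (1 : ZMod 4).val = _
    rw [show (1 : ZMod 4).val = 1 from rfl, pow_one, hrs, ← mul_assoc, hs2, one_mul]⟩
  have hφs : Function.Surjective φ := by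
    intro y
    have hle : M ≤ φ.range.map S.subtype := by
      refine sup_le (sup_le ?_ ?_) ?_ <;> rw [Subgroup.zpowers_le]
      · exact ⟨r₀ * r₀, mul_mem (hrs ▸ mul_mem hs₀r ht₀r) (hrs ▸ mul_mem hs₀r ht₀r), hr⟩
      · exact ⟨s₀, hs₀r, rfl⟩
      · exact ⟨t₀, ht₀r, rfl⟩
    exact (Subgroup.mem_map_iff_mem S.subtype_injective).1 (hle (hSM y.2))
  have h8 : Nat.card S ≤ 8 := by
    have := Nat.card_le_card_of_surjective φ hφs
    rwa [DihedralGroup.nat_card] at this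
  have hz2 : 2 ≤ Nat.card (zS S) := by
    haveI := finite_of_le (zS_le (S := S))
    haveI : Nontrivial (zS S) := ⟨⟨1, ⟨u, h₀.u_mem⟩, fun h => h₀.u_ne (congrArg Subtype.val h).symm⟩⟩
    exact Finite.one_lt_card
  have h := hs.card_eq
  have hcS : Nat.card S = 8 := by omega
  have hcZ : Nat.card (zS S) = 2 := by omega
  refine ⟨by rw [hcS]; norm_num, hcZ, ?_, ⟨(MulEquiv.ofBijective φ
    ((Nat.bijective_iff_surjective_and_card _).2 ⟨hφs, by rw [DihedralGroup.nat_card, hcS]⟩)).symm⟩⟩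
  haveI := finite_of_le (zS_le (S := S))
  rw [h₀.d_eq]
  exact Subgroup.eq_of_le_of_card_ge (Subgroup.zpowers_le.2 h₀.u_mem)
    (by rw [hcZ, Nat.card_zpowers, orderOf_eq_prime h₀.u_pow h₀.u_ne])

omit hs in
/-- The group-theoretic conclusion. -/
theorem main (hS : IsPGroup p S) (hF : F.IsSaturated p) (hS1 : S ≠ ⊥) (hcore : F.core = ⊥)
    (hhyp : F.hyperfocalSubgroup p = S) (hZ : (Subgroup.center ↥S).index ≤ p ^ 2) :
    Cfsg.IsExtraspecial p S ∧ Nat.card S = p ^ 3 ∧ (p ≠ 2 → Monoid.exponent S = p) ∧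
      (p = 2 → Nonempty (S ≃* DihedralGroup 4)) := by
  have hs := setup hS hF hS1 hcore hZ
  have hp : p.Prime := Fact.out
  have key : Nat.card S = p ^ 3 ∧ Nat.card (zS S) = p ∧ ⁅S, S⁆ = zS S := by
    rcases eq_or_ne p 2 with h | h
    · obtain ⟨a, b, c, -⟩ := hs.two h hhyp
      exact ⟨a, b, c⟩
    · obtain ⟨a, b, c, -⟩ := hs.odd h
      exact ⟨a, b, c⟩
  obtain ⟨hcard, hcz, hD⟩ := key
  refine ⟨Cfsg.Agent.Solv.isExtraspecial_of hS ?_ ?_ ?_, hcard, fun hp2 => ?_, fun h2 => ?_⟩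
  · rw [← subgroupOf_zS, Nat.card_congr (Subgroup.subgroupOfEquivOfLe zS_le).toEquiv, hcz]
  · refine Subgroup.map_injective S.subtype_injective ?_
    rw [← subgroupOf_zS, Subgroup.map_subgroupOf_eq_of_le zS_le, ← hD, commutator_def,
      Subgroup.map_commutator, ← MonoidHom.range_eq_map, Subgroup.range_subtype]
  · intro y
    rw [← subgroupOf_zS]
    exact hs.pow_mem y y.2
  · obtain ⟨-, -, -, hexp⟩ := hs.odd hp2
    refine ((Nat.dvd_prime hp).1 (Monoid.exponent_dvd_of_forall_pow_eq_one fun y =>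
      Subtype.ext (hexp y y.2))).resolve_left fun h => ?_
    have hsub : Subsingleton S := Monoid.exp_eq_one_iff.1 h
    obtain ⟨a, ha, b, hb, hne⟩ := hs.na
    exact hne (congrArg Subtype.val (Subsingleton.elim ((⟨a, ha⟩ : S) * ⟨b, hb⟩) (⟨b, hb⟩ * ⟨a, ha⟩)))
  · exact (hs.two h2 hhyp).2.2.2

end Cfsg.Agent.Local.FS.SmallCenter
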