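import Cfsg.Agent.Lib.Local.FS.SimpleNormalCentric
import Cfsg.Agent.Lib.Solv.PGroupPhi

/-!
Small certificates for simplicity of two-fusion systems of permutation groups on 275 points with a
self-normalizing Sylow two-subgroup of order 128.

The normalizer of the Sylow subgroup `R` is handled without listing any centralizer: an element of odd
prime order normalizing `R` fixes a point in each of three invariant sets of `R` which generate `R` modulo
squares, so it centralizes `R`, and a permutation of odd order commuting with `R` is trivial as soon as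
points with equal stabilizers lie in one orbit.
-/

set_option autoImplicit false
set_option maxRecDepth 100000

namespace Cfsg.Agent.Local.FS.McLSmall

open Cfsg Cfsg.FusionSystem

/-- entry of a packed list -/
def nget (g i : ℕ) : ℕ := (g >>> (9 * i)) &&& 511

/-- nine-bit packing -/
def pack (l : List ℕ) : ℕ := l.foldr (fun x r => x + 512 * r) 0

/-- composition of the first `n` entries of packed lists -/
def pgo (p : ℕ) : ℕ → ℕ → ℕ
  | 0, _ => 0
  | n + 1, q => Nat.add (Nat.land (Nat.shiftRight p (Nat.mul 9 (Nat.land q 511))) 511)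
      (Nat.mul 512 (pgo p n (Nat.shiftRight q 9)))

/-- composition of packed lists: first `q`, then `p` -/
def pmul (p q : ℕ) : ℕ := pgo p 275 q

/-- the packed identity -/
def idC : ℕ := pack (List.range 275)

/-- packed image list of a permutation -/
def code (σ : Equiv.Perm (Fin 275)) : ℕ := pack (List.ofFn fun i => (σ i : ℕ))

theorem nget_pack : ∀ (l : List ℕ), (∀ x ∈ l, x < 512) → ∀ i, nget (pack l) i = l.getD i 0
  | [], _, i => by simp [nget, pack]
  | x :: l, h, i => by
    have hx : x < 512 := h x List.mem_cons_self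
    have ih := nget_pack l fun y hy => h y (List.mem_cons_of_mem x hy)
    have hp : pack (x :: l) = x + 512 * pack l := rfl
    cases i with
    | zero =>
      rw [hp, nget, Nat.mul_zero, Nat.shiftRight_zero, Nat.and_two_pow_sub_one_eq_mod _ 9]
      simp
      omega
    | succ i =>
      rw [List.getD_cons_succ, ← ih i, hp, nget, nget, Nat.shiftRight_eq_div_pow, Nat.shiftRight_eq_div_pow,
        show 9 * (i + 1) = 9 + 9 * i by ring, pow_add, ← Nat.div_div_eq_div_mul]
      congr 2
      omega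

theorem nget_code (σ : Equiv.Perm (Fin 275)) {i : ℕ} (hi : i < 275) : nget (code σ) i = σ ⟨i, hi⟩ := by
  rw [code, nget_pack _ (fun x hx => ?_)]
  · rw [List.getD_eq_getElem _ _ (show i < (List.ofFn fun i => (σ i : ℕ)).length by
      rw [List.length_ofFn]; exact hi)]
    exact List.getElem_ofFn _
  · obtain ⟨j, rfl⟩ := List.mem_ofFn.1 hx
    exact (σ j).2.trans (by norm_num)

theorem pgo_eq (p : ℕ) : ∀ n q, pgo p n q = pack ((List.range n).map fun i => nget p (nget q i))
  | 0, q => rfl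
  | n + 1, q => by
    have e : ∀ i, nget (q >>> 9) i = nget q (i + 1) := fun i => by
      rw [nget, nget, ← Nat.shiftRight_add, show 9 * (i + 1) = 9 + 9 * i by ring]
    rw [pgo, pgo_eq p n, List.range_succ_eq_map, List.map_cons, List.map_map]
    show nget p (q &&& 511) + 512 * pack ((List.range n).map fun i => nget p (nget (q >>> 9) i)) = _
    rw [show q &&& 511 = nget q 0 by rw [nget, Nat.mul_zero, Nat.shiftRight_zero]]
    simp only [e]
    rfl

theorem code_mul (σ τ : Equiv.Perm (Fin 275)) : code (σ * τ) = pmul (code σ) (code τ) := by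
  rw [pmul, pgo_eq, code]
  congr 1
  refine List.ext_getElem (by simp) fun i h1 h2 => ?_
  have hi : i < 275 := by simpa using h1
  simp only [List.getElem_ofFn, List.getElem_map, List.getElem_range]
  rw [nget_code τ hi, nget_code σ (τ ⟨i, hi⟩).2]
  rfl

theorem code_one : code (1 : Equiv.Perm (Fin 275)) = idC := by
  rw [code, idC]
  congr 1

theorem code_injective {σ τ : Equiv.Perm (Fin 275)} (h : code σ = code τ) : σ = τ := by
  refine Equiv.ext fun p => Fin.ext ?_
  rw [show p = ⟨p.1, p.2⟩ from rfl, ← nget_code σ p.2, h, nget_code τ p.2]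

/-- one layer from the previous one -/
def layer (sl : List ℕ) (prev : List ℕ) (kids : List (List ℕ)) : List ℕ :=
  (prev.zip kids).flatMap fun p => p.2.map fun i => pmul (sl.getD i idC) p.1

/-- all layers -/
def layers (sl : List ℕ) : List ℕ → List (List (List ℕ)) → List ℕ
  | cur, [] => cur
  | cur, k :: ks => cur ++ layers sl (layer sl cur k) ks

theorem layers_all {sl : List ℕ} {P : ℕ → Prop} (hop : ∀ i x, P x → P (pmul (sl.getD i idC) x)) :
    ∀ (ks : List (List (List ℕ))) (cur : List ℕ), (∀ x ∈ cur, P x) → ∀ x ∈ layers sl cur ks, P x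
  | [], cur, hc, x, hx => hc x hx
  | k :: ks, cur, hc, x, hx => by
    rcases List.mem_append.1 hx with hx | hx
    · exact hc x hx
    · refine layers_all hop ks _ (fun y hy => ?_) x hx
      obtain ⟨q, hq, hy⟩ := List.mem_flatMap.1 hy
      obtain ⟨i, -, rfl⟩ := List.mem_map.1 hy
      exact hop i _ (hc _ (List.of_mem_zip hq).1)

/-- bit mask of the listed elements fixing a point -/
def stMask (x : ℕ) : List ℕ → ℕ
  | [] => 0
  | r :: l => 2 * stMask x l + (if nget r x == x then 1 else 0)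

theorem stMask_eq {x y : ℕ} : ∀ {l : List ℕ}, stMask x l = stMask y l →
    ∀ r ∈ l, (nget r x = x ↔ nget r y = y)
  | [], _, r, hr => by simp at hr
  | a :: l, h, r, hr => by
    have key : stMask x l = stMask y l ∧ ((nget a x = x) ↔ (nget a y = y)) := by
      simp only [stMask, beq_iff_eq] at h
      by_cases h1 : nget a x = x <;> by_cases h2 : nget a y = y <;> simp [h1, h2] at h ⊢ <;> omega
    rcases List.mem_cons.1 hr with rfl | hr
    · exact key.2
    · exact stMask_eq key.1 r hr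

/-- fusion steps -/
inductive Step where
  | cj (g i t : ℕ) : Step
  | mu (i j : ℕ) : Step

/-- The data of a certificate. -/
structure Cert where
  slpStart : List ℕ
  slp : List (ℕ × ℕ)
  vals : List ℕ
  al : List ℕ
  bl : List ℕ
  creps : List ℕ
  cos : List (List ℕ)
  tab : List (ℕ × ℕ)
  z : ℕ
  s1 : ℕ
  s2 : ℕ
  s3 : ℕ
  kids : List (List (List ℕ))
  sq : List ℕ
  pKids : List (List (List ℕ))
  rl : List ℕ
  pl : List ℕ
  steps : List Step

namespace Cert

variable (c : Cert)

/-- all elements of the straight line program -/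
def elts : List ℕ := c.slpStart ++ c.vals

/-- one element -/
def e (i : ℕ) : ℕ := c.elts.getD i idC

/-- the generators of the subgroup -/
def sl : List ℕ := [c.e c.s1, c.e c.s2, c.e c.s3]

/-- squares generating the square subgroup -/
def sqs : List ℕ := c.sq.map fun i => pmul (c.rl.getD i idC) (c.rl.getD i idC)

/-- the properties of a coset -/
def cprop (C : List ℕ) : Bool × Bool × Bool :=
  (!(C.any fun v => c.pl.elem v) && (C.any fun v => c.al.elem v) && (C.all fun v => c.bl.elem v),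
    !(C.any fun v => c.al.elem v) && (C.any fun v => c.bl.elem v),
    (C.any fun v => c.al.elem v) && !(C.all fun v => c.bl.elem v))

/-- first property -/
def k1 (x : ℕ) : Bool := c.cos.any fun C => C.elem x && (c.cprop C).1

/-- second property -/
def k2 (x : ℕ) : Bool := c.cos.any fun C => C.elem x && (c.cprop C).2.1

/-- third property -/
def k3 (x : ℕ) : Bool := c.cos.any fun C => C.elem x && (c.cprop C).2.2

/-- membership in a coset -/
def inC (s x : ℕ) : Bool := c.cos.any fun C => C.elem s && C.elem x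

/-- the straight line program -/
def checkSlp : Bool :=
  (c.slp.length == c.vals.length) && (List.range c.slp.length).all fun i =>
    Nat.blt (c.slp.getD i (0, 0)).1 (c.slpStart.length + i) &&
      Nat.blt (c.slp.getD i (0, 0)).2 (c.slpStart.length + i) &&
      pmul (c.e (c.slp.getD i (0, 0)).1) (c.e (c.slp.getD i (0, 0)).2) == c.vals.getD i 0

/-- the subgroup -/
def checkR : Bool :=
  (layers c.sl [idC] c.kids == c.rl) && (c.rl.length == 128) && decide c.rl.Nodup && c.rl.elem idC &&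
    c.rl.all fun x => c.sl.all fun s => c.rl.elem (pmul s x)

/-- the center -/
def checkCenter : Bool :=
  c.rl.elem (c.e c.z) && (c.sl.all fun s => pmul s (c.e c.z) == pmul (c.e c.z) s) && !(c.e c.z == idC) &&
    c.rl.all fun x => !(c.sl.all fun s => pmul s x == pmul x s) || (x == idC || x == c.e c.z)

/-- the square subgroup -/
def checkPhi : Bool :=
  (layers c.sqs [idC] c.pKids == c.pl) && c.pl.elem idC &&
    (c.pl.all fun x => c.sqs.all fun s => c.pl.elem (pmul s x)) &&
    c.rl.all fun x => c.pl.elem (pmul x x)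

/-- the three invariant sets -/
def checkKeys : Bool :=
  ((c.rl.filter fun x => pmul x x == idC) == c.al) &&
    ((c.rl.filter fun x => pmul x x == idC || pmul x x == c.e c.z) == c.bl) &&
    ((c.creps.map fun r => c.pl.map fun p => pmul r p) == c.cos) && (c.creps.all fun r => c.rl.elem r) &&
    (c.rl.all fun x => c.cos.any fun C => C.elem x) &&
    ((c.rl.filter c.k1).all fun x => c.inC (c.e c.s1) x) && ((c.rl.filter c.k1).length == 16) &&
    ((c.rl.filter c.k2).all fun x => c.inC (c.e c.s2) x) && ((c.rl.filter c.k2).length == 16) &&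
    ((c.rl.filter c.k3).all fun x => c.inC (c.e c.s3) x || c.inC (pmul (c.e c.s3) (c.e c.s2)) x) &&
    ((c.rl.filter c.k3).length == 32)

/-- the representative of a mask -/
def repOf (v : ℕ) : ℕ := ((c.tab.find? fun w => w.1 == v).getD (0, 275)).2

/-- points with equal stabilizers lie in one orbit -/
def checkPts : Bool :=
  (List.range 275).all fun x => Nat.blt (c.repOf (stMask x c.rl)) 275 &&
    c.rl.any fun r => nget r (c.repOf (stMask x c.rl)) == x

/-- one step -/
def runSteps : List ℕ → List Step → Option (List ℕ)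
  | acc, [] => some acc
  | acc, .cj g i t :: ss =>
    if pmul (c.e g) (acc.getD i idC) == pmul (c.rl.getD t idC) (c.e g) then
      runSteps (acc ++ [c.rl.getD t idC]) ss else none
  | acc, .mu i j :: ss => runSteps (acc ++ [pmul (acc.getD i idC) (acc.getD j idC)]) ss

/-- fusion reaches the generators -/
def checkSteps : Bool :=
  match c.runSteps [c.e c.z] c.steps with
  | none => false
  | some acc => c.sl.all fun s => acc.elem s

end Cert

variable {G : Type*} [Group G] [Finite G]

attribute [local irreducible] code idC pmul pgo pack nget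

/-- elements with listed codes form the subgroup generated by a set of elements -/
theorem mem_closure_iff {π : G →* Equiv.Perm (Fin 275)} (hπ : Function.Injective π) (sl : List ℕ)
    (kids : List (List (List ℕ))) (l : List ℕ) (hs : ∀ s ∈ sl, ∃ g, code (π g) = s)
    (he : layers sl [idC] kids = l) (h1 : idC ∈ l) (hcl : ∀ x ∈ l, ∀ s ∈ sl, pmul s x ∈ l) :
    (∀ x, x ∈ Subgroup.closure {g | code (π g) ∈ sl} ↔ code (π x) ∈ l) ∧
      ∀ v ∈ l, ∃ x ∈ Subgroup.closure {g | code (π g) ∈ sl}, code (π x) = v := by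
  set H := Subgroup.closure {g | code (π g) ∈ sl}
  have hall : ∀ v ∈ l, ∃ x ∈ H, code (π x) = v := by
    rw [← he]
    refine layers_all (fun i x hx => ?_) kids _ (fun x hx => ?_)
    · obtain ⟨σ, hσ, rfl⟩ := hx
      rcases lt_or_ge i sl.length with hi | hi
      · obtain ⟨g, hg⟩ := hs _ (List.getElem_mem hi)
        refine ⟨g * σ, mul_mem (Subgroup.subset_closure (show code (π g) ∈ sl by
          rw [hg]; exact List.getElem_mem hi)) hσ, ?_⟩
        rw [map_mul, code_mul, List.getD_eq_getElem _ _ hi, hg]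
      · refine ⟨1 * σ, mul_mem (one_mem _) hσ, ?_⟩
        rw [map_mul, code_mul, map_one, code_one, List.getD_eq_default _ _ hi]
    · exact ⟨1, one_mem _, by rw [map_one, code_one, List.mem_singleton.1 hx]⟩
  refine ⟨fun x => ⟨fun hx => ?_, fun hx => ?_⟩, hall⟩
  · have : ∀ ρ, code (π ρ) ∈ l → code (π (x * ρ)) ∈ l := by
      refine Subgroup.closure_induction'' (p := fun τ _ => ∀ ρ, code (π ρ) ∈ l → code (π (τ * ρ)) ∈ l)
        ?_ ?_ ?_ ?_ hx
      · intro τ hτ ρ hρ
        rw [map_mul, code_mul]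
        exact hcl _ hρ _ hτ
      · intro τ hτ ρ hρ
        have hpow : ∀ m : ℕ, code (π (τ ^ m * ρ)) ∈ l := by
          intro m
          induction m with
          | zero => rwa [pow_zero, one_mul]
          | succ m ih =>
            rw [pow_succ', mul_assoc, map_mul, code_mul]
            exact hcl _ ih _ hτ
        obtain ⟨m, hm⟩ := (isOfFinOrder_of_finite τ).mem_powers_iff_mem_zpowers.2
          (inv_mem (Subgroup.mem_zpowers τ))
        rw [← hm]
        exact hpow m
      · intro ρ hρ; rwa [one_mul]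
      · intro a b _ _ ha hb ρ hρ
        rw [mul_assoc]
        exact ha _ (hb _ hρ)
    have h := this 1 (by rw [map_one, code_one]; exact h1)
    rwa [mul_one] at h
  · obtain ⟨y, hy, e⟩ := hall _ hx
    exact hπ (code_injective e) ▸ hy

/-- a permutation of prime order preserving a set of size prime to it fixes a member -/
theorem exists_fixed {H : Subgroup G} (s : G → Prop) [DecidablePred s] (m : G) (q : ℕ) [Fact q.Prime]
    (hq : m ^ q = 1) (hs : ∀ x, x ∈ H ∧ s x → m * x * m⁻¹ ∈ H ∧ s (m * x * m⁻¹))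
    (hcard : ¬ q ∣ Nat.card {x : G // x ∈ H ∧ s x}) : ∃ x, x ∈ H ∧ s x ∧ m * x = x * m := by
  classical
  haveI := Fintype.ofFinite {x : G // x ∈ H ∧ s x}
  let f : {x : G // x ∈ H ∧ s x} → {x : G // x ∈ H ∧ s x} := fun x => ⟨m * x.1 * m⁻¹, hs _ x.2⟩
  have hf : Function.Bijective f := Finite.injective_iff_bijective.1 fun a b h => Subtype.ext (by
    simpa [f] using congrArg Subtype.val h)
  let σ := Equiv.ofBijective f hf
  have hp : ∀ (k : ℕ) (x : {x : G // x ∈ H ∧ s x}), ((σ ^ k) x : G) = m ^ k * x * (m ^ k)⁻¹ := by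
    intro k
    induction k with
    | zero => intro x; simp
    | succ k ih =>
      intro x
      rw [pow_succ', Equiv.Perm.mul_apply]
      show m * _ * m⁻¹ = _
      rw [ih, pow_succ']
      group
  obtain ⟨a, ha⟩ := Equiv.Perm.exists_fixed_point_of_prime (p := q) (n := 1)
    (by rwa [← Nat.card_eq_fintype_card]) (σ := σ)
    (Equiv.ext fun x => Subtype.ext (by rw [pow_one, hp, hq]; simp))
  have e : m * (a : G) * m⁻¹ = a := congrArg Subtype.val ha
  exact ⟨a, a.2.1, a.2.2, mul_inv_eq_iff_eq_mul.1 e⟩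

set_option maxHeartbeats 1000000 in
/-- The simplicity criterion. -/
theorem simple_of_cert (c : Cert) (π : G →* Equiv.Perm (Fin 275)) (hπ : Function.Injective π)
    (hgen : ∀ s ∈ c.slpStart, ∃ g, code (π g) = s) {M : ℕ} (hN : Nat.card G = 128 * M) (hM : Odd M)
    (h0 : c.checkSlp = true) (h1 : c.checkR = true) (h2 : c.checkCenter = true) (h3 : c.checkPhi = true)
    (h4 : c.checkKeys = true) (h5 : c.checkPts = true) (h6 : c.checkSteps = true) (S : Sylow 2 G) :
    (groupFusionSystem (S : Subgroup G)).IsSimple 2 := by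
  classical
  have hL : ∀ x y, code (π (x * y)) = pmul (code (π x)) (code (π y)) := fun x y => by
    rw [map_mul, code_mul]
  have hL1 : code (π 1) = idC := by rw [map_one, code_one]
  have hinj : ∀ {x y}, code (π x) = code (π y) → x = y := fun h => hπ (code_injective h)
  -- the straight line program
  simp only [Cert.checkSlp, List.all_eq_true, List.mem_range, Bool.and_eq_true, beq_iff_eq, Nat.blt_eq] at h0
  obtain ⟨hslen, h0⟩ := h0
  have hex : ∀ i, ∃ g, code (π g) = c.e i := by
    intro i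
    induction i using Nat.strong_induction_on with
    | _ i ih =>
      rcases Nat.lt_or_ge i c.slpStart.length with hi | hi
      · obtain ⟨g, hg⟩ := hgen _ (List.getElem_mem hi)
        exact ⟨g, by rw [hg, Cert.e, Cert.elts, List.getD_append _ _ _ _ hi, List.getD_eq_getElem _ _ hi]⟩
      · rcases Nat.lt_or_ge (i - c.slpStart.length) c.slp.length with hj | hj
        · obtain ⟨⟨ha, hb⟩, e⟩ := h0 _ hj
          obtain ⟨a, ha'⟩ := ih _ (show (c.slp.getD (i - c.slpStart.length) (0, 0)).1 < i by omega)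
          obtain ⟨b, hb'⟩ := ih _ (show (c.slp.getD (i - c.slpStart.length) (0, 0)).2 < i by omega)
          refine ⟨a * b, ?_⟩
          rw [hL, ha', hb', e]
          unfold Cert.e Cert.elts
          rw [List.getD_append_right _ _ _ _ hi, List.getD_eq_getElem _ _ (hslen ▸ hj),
            List.getD_eq_getElem _ _ (hslen ▸ hj)]
        · refine ⟨1, ?_⟩
          unfold Cert.e Cert.elts
          rw [hL1, List.getD_eq_default]
          simp; omega
  choose gs hgs using hex
  -- the subgroup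
  simp only [Cert.checkR, Bool.and_eq_true, List.all_eq_true, beq_iff_eq, decide_eq_true_eq,
    List.elem_iff] at h1
  obtain ⟨⟨⟨⟨hlay, hlen⟩, hnd⟩, hone⟩, hclosed⟩ := h1
  set R : Subgroup G := Subgroup.closure {g | code (π g) ∈ c.sl} with hRdef
  have hsl : ∀ s ∈ c.sl, ∃ g, code (π g) = s := by
    intro s hs
    simp only [Cert.sl, List.mem_cons, List.not_mem_nil, or_false] at hs
    rcases hs with rfl | rfl | rfl <;> exact ⟨_, hgs _⟩
  obtain ⟨hR, hRall⟩ := mem_closure_iff hπ c.sl c.kids c.rl hsl hlay hone hclosed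
  have hRcard : Nat.card R = 2 ^ 7 := by
    rw [show (2 : ℕ) ^ 7 = c.rl.toFinset.card by rw [List.toFinset_card_of_nodup hnd, hlen]; norm_num,
      ← Nat.card_eq_finsetCard]
    refine Nat.card_congr (Equiv.ofBijective
      (fun σ : R => (⟨code (π σ), List.mem_toFinset.2 ((hR _).1 σ.2)⟩ : c.rl.toFinset)) ⟨?_, ?_⟩)
    · intro σ τ h
      exact Subtype.ext (hinj (congrArg Subtype.val h))
    · rintro ⟨v, hv⟩
      obtain ⟨x, hx, e⟩ := hRall v (List.mem_toFinset.1 hv)
      exact ⟨⟨x, hx⟩, Subtype.ext e⟩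
  have hRp : IsPGroup 2 R := IsPGroup.of_card hRcard
  obtain ⟨P, hP⟩ := hRp.exists_le_sylow
  have hPR : (P : Subgroup G) = R := by
    refine (Subgroup.eq_of_le_of_card_ge hP ?_).symm
    obtain ⟨j, hj⟩ := IsPGroup.iff_card.1 P.2
    rw [hRcard, hj]
    have hd : 2 ^ j ∣ 2 ^ 7 * M := by
      rw [← hj, show 2 ^ 7 * M = Nat.card G by rw [hN]; norm_num]
      exact Subgroup.card_subgroup_dvd_card _
    have hco : (2 ^ j).Coprime M := (Nat.coprime_two_left.2 hM).pow_left j
    exact Nat.le_of_dvd (by norm_num) (hco.dvd_of_dvd_mul_right hd)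
  -- the central involution
  simp only [Cert.checkCenter, Bool.and_eq_true, List.all_eq_true, beq_iff_eq, Bool.or_eq_true,
    List.elem_iff, Bool.not_eq_eq_eq_not, Bool.not_true, beq_eq_false_iff_ne, ne_eq] at h2
  obtain ⟨⟨⟨hzS, hzc⟩, hz1⟩, hcent⟩ := h2
  set z := gs c.z with hzdef
  have hzR : z ∈ R := (hR z).2 (by rw [hgs]; exact hzS)
  have hzne : z ≠ 1 := fun h => hz1 (by rw [← hgs, ← hzdef, h, hL1])
  have hcenter : ∀ x ∈ R, (∀ s ∈ R, s * x = x * s) → x = 1 ∨ x = z := by
    intro x hx hxc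
    have hall' : (c.sl.all fun s => pmul s (code (π x)) == pmul (code (π x)) s) = true := by
      simp only [List.all_eq_true, beq_iff_eq]
      intro s hs
      obtain ⟨g, rfl⟩ := hsl s hs
      rw [← hL, ← hL, hxc g (Subgroup.subset_closure hs)]
    rcases hcent _ ((hR x).1 hx) with h | h | h
    · rw [hall'] at h; exact absurd h (by decide)
    · exact Or.inl (hinj (by rw [hL1]; exact h))
    · exact Or.inr (hinj (by rw [hgs]; exact h))
  have hzcomm : ∀ s ∈ R, s * z = z * s := by
    have : R ≤ Subgroup.centralizer {z} := (Subgroup.closure_le _).2 fun g hg =>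
      Subgroup.mem_centralizer_singleton_iff.2 (hinj (by
        rw [hL, hL, hgs]
        exact hzc _ hg))
    exact fun s hs => Subgroup.mem_centralizer_singleton_iff.1 (this hs)
  -- the square subgroup
  simp only [Cert.checkPhi, Bool.and_eq_true, List.all_eq_true, beq_iff_eq, List.elem_iff] at h3
  obtain ⟨⟨⟨hplay, hpone⟩, hpclosed⟩, hsquares⟩ := h3
  set Φ : Subgroup G := Subgroup.closure {g | code (π g) ∈ c.sqs} with hΦdef
  have hsq : ∀ s ∈ c.sqs, ∃ y ∈ R, code (π (y * y)) = s := by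
    intro s hs
    obtain ⟨i, -, rfl⟩ := List.mem_map.1 hs
    have hm : c.rl.getD i idC ∈ c.rl := by
      rcases lt_or_ge i c.rl.length with hi | hi
      · rw [List.getD_eq_getElem _ _ hi]; exact List.getElem_mem _
      · rw [List.getD_eq_default _ _ hi]; exact hone
    obtain ⟨y, hy, e⟩ := hRall _ hm
    exact ⟨y, hy, by rw [hL, e]⟩
  obtain ⟨hΦ, hΦall⟩ := mem_closure_iff hπ c.sqs c.pKids c.pl
    (fun s hs => (hsq s hs).elim fun y hy => ⟨_, hy.2⟩) hplay hpone hpclosed
  have hsqΦ : ∀ x ∈ R, x * x ∈ Φ := fun x hx => (hΦ _).2 (by rw [hL]; exact hsquares _ ((hR x).1 hx))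
  have hΦR : Φ ≤ R := (Subgroup.closure_le _).2 fun g hg => by
    obtain ⟨y, hy, e⟩ := hsq _ hg
    exact hinj e ▸ mul_mem hy hy
  simp only [Cert.checkKeys, Bool.and_eq_true, List.all_eq_true, beq_iff_eq, Bool.or_eq_true, List.elem_iff] at h4
  obtain ⟨⟨⟨⟨⟨⟨⟨⟨⟨⟨hal, hbl⟩, hcos⟩, hcreps⟩, hcover⟩, hc1⟩, hn1⟩, hc2⟩, hn2⟩, hc3⟩, hn3⟩ := h4
  -- the properties
  have hA : ∀ v ∈ R, (code (π v) ∈ c.al ↔ v * v = 1) := by
    intro v hv
    rw [← hal, List.mem_filter, beq_iff_eq, ← hL, ← hL1]
    exact ⟨fun h => hinj h.2, fun h => ⟨(hR v).1 hv, by rw [h]⟩⟩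
  have hB : ∀ v ∈ R, (code (π v) ∈ c.bl ↔ v * v = 1 ∨ v * v = z) := by
    intro v hv
    rw [← hbl, List.mem_filter, Bool.or_eq_true, beq_iff_eq, beq_iff_eq, ← hL, ← hL1, ← hgs]
    exact ⟨fun h => h.2.imp hinj hinj, fun h => ⟨(hR v).1 hv, h.imp (fun e => by rw [e]) fun e => by rw [e]⟩⟩
  have hcoset : ∀ C ∈ c.cos, ∀ x : G, code (π x) ∈ C →
      x ∈ R ∧ ∀ v, (v ∈ C ↔ ∃ u ∈ Φ, code (π (x * u)) = v) := by
    intro C hC x hx
    rw [← hcos] at hC
    obtain ⟨r, hr, rfl⟩ := List.mem_map.1 hC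
    obtain ⟨w, hw, rfl⟩ := hRall r (hcreps r hr)
    have hmem : ∀ v, v ∈ (c.pl.map fun p => pmul (code (π w)) p) ↔ ∃ u ∈ Φ, code (π (w * u)) = v := by
      intro v
      rw [List.mem_map]
      constructor
      · rintro ⟨p, hp, rfl⟩
        obtain ⟨u, hu, rfl⟩ := hΦall p hp
        exact ⟨u, hu, hL w u⟩
      · rintro ⟨u, hu, rfl⟩
        exact ⟨_, (hΦ u).1 hu, (hL w u).symm⟩
    obtain ⟨u₀, hu₀, e⟩ := (hmem _).1 hx
    obtain rfl := hinj e
    refine ⟨mul_mem hw (hΦR hu₀), fun v => (hmem v).trans ?_⟩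
    constructor
    · rintro ⟨u, hu, rfl⟩
      exact ⟨u₀⁻¹ * u, mul_mem (inv_mem hu₀) hu, by rw [mul_assoc, mul_inv_cancel_left]⟩
    · rintro ⟨u, hu, rfl⟩
      exact ⟨u₀ * u, mul_mem hu₀ hu, by rw [mul_assoc]⟩
  let PA : G → Prop := fun v => v * v = 1
  let PB : G → Prop := fun v => v * v = 1 ∨ v * v = z
  let Q1 : G → Prop := fun x => (¬ ∃ u ∈ Φ, x * u ∈ Φ) ∧ (∃ u ∈ Φ, PA (x * u)) ∧ ∀ u ∈ Φ, PB (x * u)
  let Q2 : G → Prop := fun x => (¬ ∃ u ∈ Φ, PA (x * u)) ∧ ∃ u ∈ Φ, PB (x * u)
  let Q3 : G → Prop := fun x => (∃ u ∈ Φ, PA (x * u)) ∧ ¬ ∀ u ∈ Φ, PB (x * u)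
  have hprop : ∀ C ∈ c.cos, ∀ x : G, code (π x) ∈ C →
      ((c.cprop C).1 = true ↔ Q1 x) ∧ ((c.cprop C).2.1 = true ↔ Q2 x) ∧ ((c.cprop C).2.2 = true ↔ Q3 x) := by
    intro C hC x hx
    obtain ⟨hxR, hmem⟩ := hcoset C hC x hx
    have e1 : (C.any fun v => c.pl.elem v) = true ↔ ∃ u ∈ Φ, x * u ∈ Φ := by
      simp only [List.any_eq_true, List.elem_iff, hmem]
      exact ⟨fun ⟨v, ⟨u, hu, e⟩, hv⟩ => ⟨u, hu, (hΦ _).2 (e ▸ hv)⟩, fun ⟨u, hu, h⟩ => ⟨_, ⟨u, hu, rfl⟩, (hΦ _).1 h⟩⟩
    have e2 : (C.any fun v => c.al.elem v) = true ↔ ∃ u ∈ Φ, PA (x * u) := by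
      simp only [List.any_eq_true, List.elem_iff, hmem]
      exact ⟨fun ⟨v, ⟨u, hu, e⟩, hv⟩ => ⟨u, hu, (hA _ (mul_mem hxR (hΦR hu))).1 (e ▸ hv)⟩,
        fun ⟨u, hu, h⟩ => ⟨_, ⟨u, hu, rfl⟩, (hA _ (mul_mem hxR (hΦR hu))).2 h⟩⟩
    have e3 : (C.any fun v => c.bl.elem v) = true ↔ ∃ u ∈ Φ, PB (x * u) := by
      simp only [List.any_eq_true, List.elem_iff, hmem]
      exact ⟨fun ⟨v, ⟨u, hu, e⟩, hv⟩ => ⟨u, hu, (hB _ (mul_mem hxR (hΦR hu))).1 (e ▸ hv)⟩,
        fun ⟨u, hu, h⟩ => ⟨_, ⟨u, hu, rfl⟩, (hB _ (mul_mem hxR (hΦR hu))).2 h⟩⟩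
    have e4 : (C.all fun v => c.bl.elem v) = true ↔ ∀ u ∈ Φ, PB (x * u) := by
      simp only [List.all_eq_true, List.elem_iff, hmem]
      exact ⟨fun h u hu => (hB _ (mul_mem hxR (hΦR hu))).1 (h _ ⟨u, hu, rfl⟩),
        fun h v ⟨u, hu, e⟩ => e ▸ (hB _ (mul_mem hxR (hΦR hu))).2 (h u hu)⟩
    refine ⟨?_, ?_, ?_⟩ <;>
      simp only [Cert.cprop, Q1, Q2, Q3, Bool.and_eq_true, Bool.not_eq_eq_eq_not, Bool.not_true,
        ← Bool.not_eq_true, e1, e2, e3, e4, and_assoc]
  have hk : ∀ x ∈ R, (c.k1 (code (π x)) = true ↔ Q1 x) ∧ (c.k2 (code (π x)) = true ↔ Q2 x) ∧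
      (c.k3 (code (π x)) = true ↔ Q3 x) := by
    intro x hx
    obtain ⟨C, hC, hxC⟩ : ∃ C ∈ c.cos, code (π x) ∈ C := by
      simpa [List.any_eq_true] using hcover _ ((hR x).1 hx)
    refine ⟨?_, ?_, ?_⟩ <;> simp only [Cert.k1, Cert.k2, Cert.k3, List.any_eq_true, Bool.and_eq_true, List.elem_iff]
    · exact ⟨fun ⟨D, hD, h1, h2⟩ => (hprop D hD x h1).1.1 h2, fun h => ⟨C, hC, hxC, (hprop C hC x hxC).1.2 h⟩⟩
    · exact ⟨fun ⟨D, hD, h1, h2⟩ => (hprop D hD x h1).2.1.1 h2, fun h => ⟨C, hC, hxC, (hprop C hC x hxC).2.1.2 h⟩⟩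
    · exact ⟨fun ⟨D, hD, h1, h2⟩ => (hprop D hD x h1).2.2.1 h2, fun h => ⟨C, hC, hxC, (hprop C hC x hxC).2.2.2 h⟩⟩
  -- no element of odd prime order normalizes the subgroup
  simp only [Cert.checkPts, Bool.and_eq_true, List.all_eq_true, List.mem_range, Nat.blt_eq, List.any_eq_true,
    beq_iff_eq] at h5
  have hpts := h5
  have hodd : ∀ (q : ℕ), q.Prime → q ≠ 2 → ∀ m ∈ Subgroup.normalizer (R : Set G), m ^ q = 1 → m = 1 := by
    intro q hqp hq2 m hm hmq
    haveI := Fact.mk hqp
    have hmR : ∀ x, x ∈ R ↔ m * x * m⁻¹ ∈ R := fun x => Subgroup.mem_normalizer_iff.1 hm x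
    have hmz : m * z * m⁻¹ = z := by
      refine (hcenter _ ((hmR z).1 hzR) fun s hs => ?_).resolve_left fun h => hzne (conj_eq_one_iff.1 h)
      have hs' : m⁻¹ * s * m ∈ R := (Subgroup.mem_normalizer_iff''.1 hm s).1 hs
      calc s * (m * z * m⁻¹) = m * ((m⁻¹ * s * m) * z) * m⁻¹ := by group
        _ = m * (z * (m⁻¹ * s * m)) * m⁻¹ := by rw [hzcomm _ hs']
        _ = m * z * m⁻¹ * s := by group
    have hmΦ : ∀ u, u ∈ Φ ↔ m * u * m⁻¹ ∈ Φ := by
      have h : Φ ≤ Φ.comap (MulAut.conj m).toMonoidHom := (Subgroup.closure_le _).2 fun g hg => by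
        obtain ⟨y, hy, e⟩ := hsq _ hg
        obtain rfl := hinj e
        have h' := hsqΦ _ ((hmR y).1 hy)
        rw [show m * y * m⁻¹ * (m * y * m⁻¹) = m * (y * y) * m⁻¹ by group] at h'
        exact h'
      have hme : Φ.map (MulAut.conj m).toMonoidHom = Φ := Subgroup.eq_of_le_of_card_ge
        (Subgroup.map_le_iff_le_comap.2 h)
        (by rw [Subgroup.card_map_of_injective (MulAut.conj m).injective])
      intro u
      have hin : Function.Injective (MulAut.conj m).toMonoidHom := (MulAut.conj m).injective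
      have := Subgroup.mem_map_iff_mem hin (K := Φ) (x := u)
      rw [show Φ.map ((MulAut.conj m).toMonoidHom) = Φ from hme] at this
      exact this.symm
    have hcj : ∀ x u : G, m * x * m⁻¹ * (m * u * m⁻¹) = m * (x * u) * m⁻¹ := fun x u => by group
    have hPA : ∀ v : G, PA (m * v * m⁻¹) ↔ PA v := fun v => by
      show m * v * m⁻¹ * (m * v * m⁻¹) = 1 ↔ v * v = 1
      rw [show m * v * m⁻¹ * (m * v * m⁻¹) = m * (v * v) * m⁻¹ by group, conj_eq_one_iff]
    have hPB : ∀ v : G, PB (m * v * m⁻¹) ↔ PB v := fun v => by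
      show m * v * m⁻¹ * (m * v * m⁻¹) = 1 ∨ m * v * m⁻¹ * (m * v * m⁻¹) = z ↔ v * v = 1 ∨ v * v = z
      rw [show m * v * m⁻¹ * (m * v * m⁻¹) = m * (v * v) * m⁻¹ by group, conj_eq_one_iff]
      refine or_congr Iff.rfl ⟨fun h => ?_, fun h => by rw [h, hmz]⟩
      have e' : m * (v * v) * m⁻¹ = m * z * m⁻¹ := by rw [hmz]; exact h
      exact mul_left_cancel (mul_right_cancel e')
    have hq : ∀ (P : G → Prop), (∀ v, P (m * v * m⁻¹) ↔ P v) → ∀ x,
        ((∃ u ∈ Φ, P (m * x * m⁻¹ * u)) ↔ ∃ u ∈ Φ, P (x * u)) ∧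
          ((∀ u ∈ Φ, P (m * x * m⁻¹ * u)) ↔ ∀ u ∈ Φ, P (x * u)) := by
      intro P hP x
      have key : ∀ u, P (m * x * m⁻¹ * (m * u * m⁻¹)) ↔ P (x * u) := fun u => by rw [hcj, hP]
      have surj : ∀ u ∈ Φ, ∃ u' ∈ Φ, m * u' * m⁻¹ = u := fun u hu =>
        ⟨m⁻¹ * u * m, (hmΦ _).2 (by convert hu using 1; group), by group⟩
      constructor
      · constructor
        · rintro ⟨u, hu, h⟩
          obtain ⟨u', hu', rfl⟩ := surj u hu
          exact ⟨u', hu', (key u').1 h⟩
        · rintro ⟨u, hu, h⟩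
          exact ⟨_, (hmΦ u).1 hu, (key u).2 h⟩
      · constructor
        · exact fun h u hu => (key u).1 (h _ ((hmΦ u).1 hu))
        · intro h u hu
          obtain ⟨u', hu', rfl⟩ := surj u hu
          exact (key u').2 (h u' hu')
    have fixedIn : ∀ (k : ℕ → Bool) (N : ℕ), (c.rl.filter k).length = N → ¬ q ∣ N →
        (∀ x ∈ R, k (code (π (m * x * m⁻¹))) = k (code (π x))) →
        ∃ x ∈ R, code (π x) ∈ c.rl.filter k ∧ m * x = x * m := by
      intro k N hlenk hdvd hk
      have hcardk : Nat.card {x : G // x ∈ R ∧ k (code (π x)) = true} = N := by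
        rw [← hlenk, ← List.toFinset_card_of_nodup (hnd.filter _), ← Nat.card_eq_finsetCard]
        refine Nat.card_congr (Equiv.ofBijective
          (fun σ => (⟨code (π σ.1), List.mem_toFinset.2 (List.mem_filter.2 ⟨(hR _).1 σ.2.1, σ.2.2⟩)⟩ :
            (c.rl.filter k).toFinset)) ⟨?_, ?_⟩)
        · intro σ τ h
          exact Subtype.ext (hinj (congrArg Subtype.val h))
        · rintro ⟨v, hv⟩
          obtain ⟨hv1, hv2⟩ := List.mem_filter.1 (List.mem_toFinset.1 hv)
          obtain ⟨x, hx, rfl⟩ := hRall v hv1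
          exact ⟨⟨x, hx, hv2⟩, rfl⟩
      obtain ⟨x, hx, hkx, hxm⟩ := exists_fixed (H := R) (fun x => k (code (π x)) = true) m q hmq
        (fun x hx => ⟨(hmR x).1 hx.1, by rw [hk x hx.1]; exact hx.2⟩) (by rwa [hcardk])
      exact ⟨x, hx, List.mem_filter.2 ⟨(hR x).1 hx, hkx⟩, hxm⟩
    have hq16 : ¬ q ∣ 16 := fun h =>
      hq2 ((Nat.prime_dvd_prime_iff_eq hqp Nat.prime_two).1 (hqp.dvd_of_dvd_pow (show q ∣ 2 ^ 4 by simpa using h)))
    have hq32 : ¬ q ∣ 32 := fun h =>
      hq2 ((Nat.prime_dvd_prime_iff_eq hqp Nat.prime_two).1 (hqp.dvd_of_dvd_pow (show q ∣ 2 ^ 5 by simpa using h)))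
    obtain ⟨a1, ha1, hf1, hm1⟩ := fixedIn c.k1 16 hn1 hq16 fun x hx => by
      rw [Bool.eq_iff_iff, (hk x hx).1, (hk _ ((hmR x).1 hx)).1]
      exact and_congr (not_congr (hq (fun v => v ∈ Φ) (fun v => (hmΦ v).symm) x).1)
        (and_congr (hq PA hPA x).1 (hq PB hPB x).2)
    obtain ⟨a2, ha2, hf2, hm2⟩ := fixedIn c.k2 16 hn2 hq16 fun x hx => by
      rw [Bool.eq_iff_iff, (hk x hx).2.1, (hk _ ((hmR x).1 hx)).2.1]
      exact and_congr (not_congr (hq PA hPA x).1) (hq PB hPB x).1
    obtain ⟨a3, ha3, hf3, hm3⟩ := fixedIn c.k3 32 hn3 hq32 fun x hx => by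
      rw [Bool.eq_iff_iff, (hk x hx).2.2, (hk _ ((hmR x).1 hx)).2.2]
      exact and_congr (hq PA hPA x).1 (not_congr (hq PB hPB x).2)
    -- they generate modulo squares
    have hco : ∀ (s : G) (x : G), c.inC (code (π s)) (code (π x)) = true → ∃ u ∈ Φ, s * u = x := by
      intro s x h
      simp only [Cert.inC, List.any_eq_true, Bool.and_eq_true, List.elem_iff] at h
      obtain ⟨C, hC, hs, hx⟩ := h
      obtain ⟨u, hu, e⟩ := ((hcoset C hC s hs).2 _).1 hx
      exact ⟨u, hu, hinj e⟩
    obtain ⟨u1, hu1, e1⟩ := hco (gs c.s1) a1 (by rw [hgs]; exact hc1 _ hf1)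
    obtain ⟨u2, hu2, e2⟩ := hco (gs c.s2) a2 (by rw [hgs]; exact hc2 _ hf2)
    let C : Subgroup R := (Subgroup.centralizer ({m} : Set G)).subgroupOf R
    have hC : ∀ (x : G) (hx : x ∈ R), m * x = x * m → (⟨x, hx⟩ : R) ∈ C := fun x hx h =>
      Subgroup.mem_subgroupOf.2 (Subgroup.mem_centralizer_singleton_iff.2 h.symm)
    have hfr : ∀ (u : G) (hu : u ∈ Φ), (⟨u, hΦR hu⟩ : R) ∈ frattini R := by
      intro u hu
      have : Φ ≤ (frattini R).map R.subtype := (Subgroup.closure_le _).2 fun g hg => by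
        obtain ⟨y, hy, e⟩ := hsq _ hg
        obtain rfl := hinj e
        exact ⟨⟨y, hy⟩ * ⟨y, hy⟩, by rw [← pow_two]; exact Solv.pow_mem_frattini hRp _, rfl⟩
      obtain ⟨w, hw, e⟩ := this hu
      exact (show (⟨u, hΦR hu⟩ : R) = w from Subtype.ext e.symm) ▸ hw
    set K := C ⊔ frattini R with hK
    have hmemK : ∀ (s a u : G) (hs : s ∈ R) (ha : a ∈ R), u ∈ Φ → s * u = a → m * a = a * m →
        (⟨s, hs⟩ : R) ∈ K := by
      intro s a u hs ha hu e hma
      have e' : (⟨s, hs⟩ : R) = ⟨a, ha⟩ * (⟨u, hΦR hu⟩ : R)⁻¹ := Subtype.ext (by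
        show s = a * u⁻¹
        rw [← e]; group)
      rw [e']
      exact mul_mem (Subgroup.mem_sup_left (hC a ha hma)) (Subgroup.mem_sup_right (inv_mem (hfr u hu)))
    have hsR : ∀ i, i = c.s1 ∨ i = c.s2 ∨ i = c.s3 → gs i ∈ R := fun i hi =>
      Subgroup.subset_closure (show code (π (gs i)) ∈ c.sl by
        rw [hgs]; rcases hi with rfl | rfl | rfl <;> simp [Cert.sl])
    have r1 := hsR c.s1 (Or.inl rfl)
    have r2 := hsR c.s2 (Or.inr (Or.inl rfl))
    have r3 := hsR c.s3 (Or.inr (Or.inr rfl))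
    have k1' := hmemK _ a1 u1 r1 ha1 hu1 e1 hm1
    have k2' := hmemK _ a2 u2 r2 ha2 hu2 e2 hm2
    have k3' : (⟨gs c.s3, r3⟩ : R) ∈ K := by
      rcases hc3 _ hf3 with h | h
      · obtain ⟨u, hu, e⟩ := hco (gs c.s3) a3 (by rw [hgs]; exact h)
        exact hmemK _ a3 u r3 ha3 hu e hm3
      · obtain ⟨u, hu, e⟩ := hco (gs c.s3 * gs c.s2) a3 (by rw [hL, hgs, hgs]; exact h)
        have := mul_mem (hmemK _ a3 u (mul_mem r3 r2) ha3 hu e hm3) (inv_mem k2')
        convert this using 1
        exact Subtype.ext (by show gs c.s3 = gs c.s3 * gs c.s2 * (gs c.s2)⁻¹; group)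
    have hKtop : K = ⊤ := by
      rw [eq_top_iff]
      rintro ⟨x, hx⟩ -
      have : R ≤ K.map R.subtype := (Subgroup.closure_le _).2 fun g hg => by
        simp only [Cert.sl, Set.mem_ofPred_eq, List.mem_cons, List.not_mem_nil, or_false] at hg
        rcases hg with h | h | h <;> rw [← hgs] at h <;> rw [hinj h]
        exacts [⟨_, k1', rfl⟩, ⟨_, k2', rfl⟩, ⟨_, k3', rfl⟩]
      obtain ⟨w, hw, e⟩ := this hx
      exact (show (⟨x, hx⟩ : R) = w from Subtype.ext e.symm) ▸ hw
    have hCtop : C = ⊤ := frattini_nongenerating hKtop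
    have hcomm : ∀ r ∈ R, m * r = r * m := fun r hr =>
      (Subgroup.mem_centralizer_singleton_iff.1
        (Subgroup.mem_subgroupOf.1 (hCtop ▸ Subgroup.mem_top (⟨r, hr⟩ : R) : (⟨r, hr⟩ : R) ∈ C))).symm
    -- a commuting permutation of odd order
    refine hπ (Equiv.ext fun x => ?_)
    rw [map_one, Equiv.Perm.one_apply]
    set y := π m x with hy
    have hfix : ∀ r ∈ R, π r x = x ↔ π r y = y := by
      intro r hr
      have e : π r y = π m (π r x) := by
        rw [hy, ← Equiv.Perm.mul_apply, ← map_mul, ← hcomm r hr, map_mul, Equiv.Perm.mul_apply]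
      rw [e, hy]
      exact ((π m).injective.eq_iff).symm
    have hmask : stMask x c.rl = stMask y c.rl := by
      have aux : ∀ l, (∀ v ∈ l, v ∈ c.rl) → stMask x l = stMask y l := by
        intro l
        induction l with
        | nil => intro _; rfl
        | cons v l ih =>
          intro hl
          obtain ⟨r, hr, rfl⟩ := hRall v (hl v List.mem_cons_self)
          simp only [stMask, ih fun w hw => hl w (List.mem_cons_of_mem _ hw)]
          have e : (nget (code (π r)) x == (x : ℕ)) = (nget (code (π r)) y == (y : ℕ)) := by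
            rw [Bool.eq_iff_iff, beq_iff_eq, beq_iff_eq, nget_code _ x.2, nget_code _ y.2,
              Fin.val_inj, Fin.val_inj]
            exact hfix r hr
          rw [e]
      exact aux _ fun v hv => hv
    obtain ⟨hlt, v, hv, hvx⟩ := hpts x x.2
    obtain ⟨-, v', hv', hvy⟩ := hpts y y.2
    rw [← hmask] at hvy
    obtain ⟨a, ha, rfl⟩ := hRall v hv
    obtain ⟨b, hb, rfl⟩ := hRall v' hv'
    rw [nget_code _ hlt] at hvx hvy
    set r := b * a⁻¹ with hrdef
    have hr : r ∈ R := mul_mem hb (inv_mem ha)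
    have hrx : π r x = y := by
      rw [← show π a ⟨_, hlt⟩ = x from Fin.ext hvx, hrdef, map_mul, map_inv, Equiv.Perm.mul_apply,
        Equiv.Perm.inv_def, Equiv.symm_apply_apply]
      exact Fin.ext hvy
    have hpow : ∀ k : ℕ, π (m ^ k) x = π (r ^ k) x := by
      intro k
      induction k with
      | zero => rw [pow_zero, pow_zero]
      | succ k ih =>
        calc π (m ^ (k + 1)) x = π (m ^ k) (π m x) := by rw [pow_succ, map_mul, Equiv.Perm.mul_apply]
          _ = π (m ^ k) (π r x) := by rw [hrx]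
          _ = π r (π (m ^ k) x) := by
            rw [← Equiv.Perm.mul_apply, ← Equiv.Perm.mul_apply, ← map_mul, ← map_mul,
              (show Commute (m ^ k) r from (show Commute m r from hcomm r hr).pow_left k).eq]
          _ = π r (π (r ^ k) x) := by rw [ih]
          _ = π (r ^ (k + 1)) x := by rw [pow_succ', map_mul π r (r ^ k), Equiv.Perm.mul_apply]
    have hq' : π (r ^ q) x = x := by rw [← hpow, hmq, map_one]; rfl
    have h128 : r ^ (2 ^ 7) = 1 := by
      have h := pow_card_eq_one' (G := R) (x := ⟨r, hr⟩)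
      rw [hRcard] at h
      exact congrArg Subtype.val h
    have hrmem : r ∈ (MulAction.stabilizer (Equiv.Perm (Fin 275)) x).comap π := by
      set H := (MulAction.stabilizer (Equiv.Perm (Fin 275)) x).comap π
      have hq'' : r ^ (q : ℤ) ∈ H := by rw [zpow_natCast]; exact hq'
      have h128' : r ^ ((2 ^ 7 : ℕ) : ℤ) ∈ H := by rw [zpow_natCast, h128]; exact one_mem _
      obtain ⟨a, b, hab⟩ := (Nat.isCoprime_iff_coprime.2 (((Nat.coprime_primes hqp Nat.prime_two).2 hq2).pow_right 7) :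
        IsCoprime (q : ℤ) ((2 ^ 7 : ℕ) : ℤ))
      have := mul_mem (zpow_mem hq'' a) (zpow_mem h128' b)
      rwa [← zpow_mul, ← zpow_mul, ← zpow_add, mul_comm (q : ℤ), mul_comm ((2 ^ 7 : ℕ) : ℤ), hab, zpow_one] at this
    exact hrx.symm.trans hrmem
  have hnorm : Subgroup.normalizer (R : Set G) ≤ R := by
    intro n hn
    obtain ⟨e, he⟩ : ∃ e, orderOf n = 2 ^ e := by
      refine ⟨_, Nat.eq_prime_pow_of_unique_prime_dvd (orderOf_pos n).ne' fun {q} hq hd => ?_⟩
      by_contra hq2
      obtain ⟨k, hk⟩ := hd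
      have h1 := hodd q hq hq2 (n ^ k) (pow_mem hn k) (by rw [← pow_mul, mul_comm, ← hk, pow_orderOf_eq_one])
      have hdk : orderOf n ∣ k := orderOf_dvd_of_pow_eq_one h1
      have hk0 : 0 < k := by
        rcases Nat.eq_zero_or_pos k with h | h
        · rw [h, mul_zero] at hk; exact absurd hk (orderOf_pos n).ne'
        · exact h
      have := Nat.le_of_dvd hk0 hdk
      rw [hk] at this
      have h3 : 2 * k ≤ q * k := Nat.mul_le_mul_right k hq.two_le
      omega
    have hz : IsPGroup 2 (Subgroup.zpowers n) := IsPGroup.of_card (by rw [Nat.card_zpowers, he])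
    have h := IsPGroup.inf_normalizer_sylow hz P
    have hn' : n ∈ Subgroup.zpowers n ⊓ Subgroup.normalizer ((P : Subgroup G) : Set G) :=
      ⟨Subgroup.mem_zpowers n, by rw [hPR]; exact hn⟩
    have hn'' : n ∈ Subgroup.zpowers n ⊓ (P : Subgroup G) := h ▸ hn'
    exact hPR ▸ hn''.2
  have hcentR : Subgroup.centralizer (R : Set G) ≤ R :=
    (Subgroup.centralizer_le_normalizer _).trans hnorm
  have hgenR : ∀ s ∈ R, IsNormalGenerator 2 R s := by
    intro s hs
    have hconj : ∀ a ∈ R, ∀ x ∈ R, a * x * a⁻¹ ∈ R := fun a ha x hx => mul_mem (mul_mem ha hx) (inv_mem ha)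
    refine ⟨Subgroup.le_normalizer hs, R, le_rfl, hconj, hcentR,
      Subgroup.subset_closure ⟨Subgroup.le_normalizer hs, 7, ?_⟩⟩
    have h := pow_card_eq_one' (G := R) (x := ⟨s, hs⟩)
    rw [hRcard] at h
    exact congrArg Subtype.val h
  refine simple_of_normal_centric P S (by rw [hPR]; intro h; exact hzne (Subgroup.mem_bot.1 (h ▸ hzR))) ?_ ?_
  · intro T hTP hT1 hcl
    rw [hPR] at hTP hcl ⊢
    obtain ⟨x, hx, hx1, hxc⟩ := exists_central_of_normalized (p := 2) hRp hTP hT1
      fun s hs x hx => hcl x hx s (mul_mem (mul_mem hs (hTP hx)) (inv_mem hs))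
    have hzT : z ∈ T := ((hcenter x (hTP hx) hxc).resolve_left hx1) ▸ hx
    have hget : ∀ (acc : List ℕ), (∀ x ∈ acc, ∃ y ∈ T, code (π y) = x) → ∀ i,
        ∃ y ∈ T, code (π y) = acc.getD i idC := fun acc ha i => by
      rcases lt_or_ge i acc.length with hi | hi
      · rw [List.getD_eq_getElem _ _ hi]; exact ha _ (List.getElem_mem _)
      · rw [List.getD_eq_default _ _ hi]; exact ⟨1, one_mem _, hL1⟩
    have hrun : ∀ (ss : List Step) (acc res : List ℕ), (∀ x ∈ acc, ∃ y ∈ T, code (π y) = x) →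
        c.runSteps acc ss = some res → ∀ x ∈ res, ∃ y ∈ T, code (π y) = x := by
      intro ss
      induction ss with
      | nil => intro acc res ha h; cases h; exact ha
      | cons s ss ih =>
        intro acc res ha h
        cases s with
        | cj g i t =>
          rw [Cert.runSteps] at h
          split at h
          · next heq =>
            refine ih _ _ (fun x hx => ?_) h
            rcases List.mem_append.1 hx with hx | hx
            · exact ha x hx
            · rw [List.mem_singleton] at hx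
              subst hx
              obtain ⟨y, hy, hyL⟩ := hget acc ha i
              have ht : c.rl.getD t idC ∈ c.rl := by
                rcases lt_or_ge t c.rl.length with hi | hi
                · rw [List.getD_eq_getElem _ _ hi]; exact List.getElem_mem _
                · rw [List.getD_eq_default _ _ hi]; exact hone
              obtain ⟨w, hw, hwL⟩ := hRall _ ht
              rw [beq_iff_eq, ← hyL, ← hwL, ← hgs, ← hL, ← hL] at heq
              have e : gs g * y * (gs g)⁻¹ = w := by rw [hinj heq]; group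
              exact ⟨w, e ▸ hcl y hy (gs g) (e ▸ hw), hwL⟩
          · exact absurd h (by simp)
        | mu i j =>
          rw [Cert.runSteps] at h
          refine ih _ _ (fun x hx => ?_) h
          rcases List.mem_append.1 hx with hx | hx
          · exact ha x hx
          · rw [List.mem_singleton] at hx
            subst hx
            obtain ⟨y, hy, hyL⟩ := hget acc ha i
            obtain ⟨y', hy', hyL'⟩ := hget acc ha j
            exact ⟨y * y', mul_mem hy hy', by rw [hL, hyL, hyL']⟩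
    unfold Cert.checkSteps at h6
    split at h6
    · exact absurd h6 (by simp)
    · next res hres =>
      have hres' := hrun c.steps _ res (fun x hx => ⟨z, hzT, (hgs _).trans (List.mem_singleton.1 hx).symm⟩) hres
      simp only [List.all_eq_true, List.elem_iff] at h6
      refine (Subgroup.closure_le _).2 fun g hg => ?_
      obtain ⟨y, hy, hyL⟩ := hres' _ (h6 _ hg)
      exact hinj hyL ▸ hy
  · rw [hPR]
    exact fun n hn => Subgroup.subset_closure (hgenR n (hnorm hn))

end Cfsg.Agent.Local.FS.McLSmall
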