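import Cfsg.Agent.Lib.Local.FS.NormalSubCentric
import Cfsg.Agent.Lib.Local.FS.NormSat
import Cfsg.Agent.Lib.Local.FS.CentSat
import Cfsg.Agent.Lib.Local.FS.Centric
import Cfsg.Agent.Lib.Local.FS.Normal
import Cfsg.Agent.Lib.Local.FS.Omega
import Cfsg.Agent.Lib.Local.FS.PowerIndex
import Cfsg.Agent.Lib.Fusion.AlperinOmegaWithin
import Cfsg.Agent.Lib.Fusion.OmegaSeries

/-!
Small exponent abelian subgroups control fusion.
-/

set_option autoImplicit false

namespace Cfsg.Agent.Local.FS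

open Cfsg Cfsg.FusionSystem Cfsg.Agent.Fusion

universe u

variable {Ω : Type u} [Group Ω] {S : Subgroup Ω} {F E : FusionSystem S}
  {A B H P R : Subgroup Ω} {f g : Ω → Ω} {p n : ℕ}

/-- An abelian subgroup of exponent dividing `p ^ n`. -/
def SmallAb (p n : ℕ) (A : Subgroup Ω) : Prop :=
  (∀ a ∈ A, ∀ b ∈ A, a * b = b * a) ∧ ∀ a ∈ A, a ^ p ^ n = 1

theorem SmallAb.sup (hA : SmallAb p n A) (hB : SmallAb p n B) (h : ∀ a ∈ A, ∀ b ∈ B, a * b = b * a) :
    SmallAb p n (A ⊔ B) := by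
  have key : ∀ x ∈ A ⊔ B, ∃ a ∈ A, ∃ b ∈ B, a * b = x := by
    intro x hx
    have hn : B ≤ Subgroup.normalizer (A : Set Ω) := fun b hb => Subgroup.mem_normalizer_iff.2 fun a => by
      constructor
      · intro ha; rw [← h a ha b hb, mul_inv_cancel_right]; exact ha
      · intro ha
        have h1 := h _ ha b hb
        have : b * a * b⁻¹ = a := by
          calc b * a * b⁻¹ = b⁻¹ * (b * (b * a * b⁻¹)) := by group
            _ = b⁻¹ * ((b * a * b⁻¹) * b) := by rw [h1]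
            _ = a := by group
        rwa [this] at ha
    rw [← SetLike.mem_coe, Subgroup.coe_mul_of_right_le_normalizer_left A B hn] at hx
    exact hx
  refine ⟨fun x hx y hy => ?_, fun x hx => ?_⟩
  · obtain ⟨a, ha, b, hb, rfl⟩ := key x hx
    obtain ⟨a', ha', b', hb', rfl⟩ := key y hy
    calc a * b * (a' * b') = a * (b * a') * b' := by group
      _ = a * (a' * b) * b' := by rw [h a' ha' b hb]
      _ = (a * a') * (b * b') := by group
      _ = (a' * a) * (b' * b) := by rw [hA.1 a ha a' ha', hB.1 b hb b' hb']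
      _ = a' * (a * b') * b := by group
      _ = _ := by rw [h a ha b' hb']; group
  · obtain ⟨a, ha, b, hb, rfl⟩ := key x hx
    rw [(show Commute a b from h a ha b hb).mul_pow, hA.2 a ha, hB.2 b hb, one_mul]

variable [Finite S]

theorem SmallAb.image (hA : SmallAb p n A) (hf : Map F A f) : SmallAb p n (im A f) := by
  refine ⟨fun x hx y hy => ?_, fun x hx => ?_⟩
  · obtain ⟨a, ha, rfl⟩ := hf.mem_im.1 hx
    obtain ⟨b, hb, rfl⟩ := hf.mem_im.1 hy
    rw [← hf.map_mul ha hb, hA.1 a ha b hb, hf.map_mul hb ha]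
  · obtain ⟨a, ha, rfl⟩ := hf.mem_im.1 hx
    obtain ⟨φ, hφ, he⟩ := id hf
    have h1 := map_pow φ ⟨a, ha⟩ (p ^ n)
    have h2 : (⟨a, ha⟩ : A) ^ p ^ n = 1 := Subtype.ext (hA.2 a ha)
    rw [h2, map_one, he] at h1
    exact h1.symm

/-- A code for the set of maps of `F`. -/
noncomputable def mapCode (F : FusionSystem S) : ℕ :=
  Set.ncard {q : Subgroup S × (S → S) | Map F (q.1.map S.subtype) (fun x =>
    open Classical in if h : x ∈ S then (q.2 ⟨x, h⟩ : Ω) else 1)}

theorem mapCode_lt {S' : Subgroup Ω} (hS' : S' = S) (G : FusionSystem S') [Finite S']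
    (hsub : ∀ P f, Map G P f → Map F P f) (hne : ∃ P f, Map F P f ∧ ¬ Map G P f) :
    mapCode G < mapCode F := by
  classical
  subst hS'
  haveI : Finite (Subgroup ↥S' × (↥S' → ↥S')) := by
    haveI : Finite (Subgroup ↥S') := Finite.of_injective (fun H : Subgroup ↥S' => (H : Set ↥S'))
      SetLike.coe_injective
    infer_instance
  refine Set.ncard_lt_ncard ⟨fun q hq => ?_, fun hle => ?_⟩ (Set.toFinite _)
  · simp only [Set.mem_ofPred_eq] at hq ⊢
    exact hsub _ _ hq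
  obtain ⟨P, f, hf, hG⟩ := hne
  have hP : (P.subgroupOf S').map S'.subtype = P := Subgroup.map_subgroupOf_eq_of_le hf.le
  obtain ⟨q, hq⟩ : ∃ q : Subgroup ↥S' × (↥S' → ↥S'), q = (P.subgroupOf S',
      fun x : ↥S' => if h : (x : Ω) ∈ P then (⟨f x, hf.mem h⟩ : ↥S') else 1) := ⟨_, rfl⟩
  have hval : ∀ x ∈ P, (if h : x ∈ S' then (q.2 ⟨x, h⟩ : Ω) else 1) = f x := fun x hx => by
    rw [dif_pos (hf.le hx), hq]
    simp [hx]
  have hqF : Map F (q.1.map S'.subtype) (fun x => if h : x ∈ S' then (q.2 ⟨x, h⟩ : Ω) else 1) := by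
    rw [show q.1.map S'.subtype = P by rw [hq]; exact hP]
    exact hf.congr fun x hx => (hval x hx).symm
  have hqG := hle hqF
  simp only [Set.mem_ofPred_eq] at hqG
  rw [show q.1.map S'.subtype = P by rw [hq]; exact hP] at hqG
  exact hG (hqG.congr hval)

variable [Fact p.Prime]

theorem map_normSys {hQ : B ≤ S} :
    Map (normSys F hQ) P f ↔ P ≤ normalizerIn S B ∧ (∀ x ∈ P, f x ∈ normalizerIn S B) ∧
      ∃ g, Map F (P ⊔ B) g ∧ (∀ x ∈ P, g x = f x) ∧ im B g = B := by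
  constructor
  · rintro ⟨φ, hφ, h⟩
    obtain ⟨hP, hm, g, hg, hφg, hgB⟩ := mem_normalizerHom.1 hφ
    exact ⟨hP, fun x hx => (h ⟨x, hx⟩ ▸ hm ⟨x, hx⟩ :),
      g, hg, fun x hx => ((hφg ⟨x, hx⟩).symm.trans (h ⟨x, hx⟩) :), hgB⟩
  · rintro ⟨hP, hm, g, hg, hgf, hgB⟩
    obtain ⟨φ, hφ, h⟩ := (hg.restrict le_sup_left).congr hgf
    exact ⟨φ, mem_normalizerHom.2 ⟨hP, fun x => by rw [h]; exact hm x x.2, g, hg,
      fun x => (h x).trans (hgf x x.2).symm, hgB⟩, h⟩

omit [Fact p.Prime] in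
theorem map_centSys' {hQ : B ≤ S} :
    Map (centSys F hQ) P f ↔ P ≤ centralizerIn S B ∧
      ∃ g, Map F (P ⊔ B) g ∧ (∀ x ∈ P, g x = f x) ∧ ∀ x ∈ B, g x = x := by
  constructor
  · rintro ⟨φ, hφ, h⟩
    obtain ⟨hP, -, g, hg, hφg, hgT⟩ := mem_centralizerHom.1 hφ
    exact ⟨hP, g, hg, fun x hx => ((hφg ⟨x, hx⟩).symm.trans (h ⟨x, hx⟩) :), hgT⟩
  · rintro ⟨hP, g, hg, hgf, hgT⟩
    obtain ⟨φ, hφ, h⟩ := (hg.restrict le_sup_left).congr hgf
    refine ⟨φ, mem_centralizerHom.2 ⟨hP, fun x => ?_, g, hg, fun x => (h x).trans (hgf x x.2).symm, hgT⟩, h⟩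
    rw [h, ← hgf x x.2]
    have h1 := hg.mem_centralizer le_sup_right (Subgroup.mem_sup_left x.2) (mem_centralizerIn.1 (hP x.2)).2
    rwa [im_congr (g := id) hgT, im_id] at h1

/-- The normalizer system of `B` lies in `E` once its centralizer system does. -/
theorem normSys_le_of_centSys (hS : IsPGroup p S) (hE : E.IsSaturated p) (hF : F.IsSaturated p)
    (hEF : E.IsSubsystemOf F) (hB : F.IsFullyNormalized B) (hBE : E.IsFullyNormalized B)
    (hBab : ∀ a ∈ B, ∀ b ∈ B, a * b = b * a)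
    (hcent : ∀ P f, Map (centSys F hB.1) P f → Map E P f)
    (haut : ∀ h, Map F B h → Map E B h) : ∀ P f, Map (normSys F hB.1) P f → Map E P f := by
  have hBS := hB.1
  obtain ⟨N, hNdef⟩ : ∃ N, N = normSys F hBS := ⟨_, rfl⟩
  rw [← hNdef]
  haveI : Finite ↥(normalizerIn S B) := finite_of_le inf_le_left
  have hNs : N.IsSaturated p := hNdef ▸ normSys_saturated hS hF hB
  have hNp : IsPGroup p ↥(normalizerIn S B) := hS.to_le inf_le_left
  have hNF : ∀ {P f}, Map N P f → Map F P f := fun h => by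
    obtain ⟨-, -, g, hg, hgf, -⟩ := map_normSys.1 (hNdef ▸ h)
    exact (hg.restrict le_sup_left).congr hgf
  have hBN : N.IsNormal B := by
    refine normal_iff.2 ⟨le_normalizerIn hBS, fun P f hf => ?_⟩
    obtain ⟨hP, hm, g, hg, hgf, hgB⟩ := map_normSys.1 (hNdef ▸ hf)
    refine ⟨g, hNdef ▸ map_normSys.2 ⟨sup_le hP (le_normalizerIn hBS), fun x hx => ?_, g,
      by rwa [sup_assoc, sup_idem], fun x _ => rfl, hgB⟩, hgf, hgB⟩
    refine (show im P g ⊔ im B g ≤ normalizerIn S B from sup_le ?_ (hgB.le.trans (le_normalizerIn hBS)))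
      (hg.im_sup_le (mem_im_of_mem hx))
    exact im_le_iff.2 fun y hy => by rw [hgf y hy]; exact hm y hy
  have hCsub : centralizerIn S B ≤ normalizerIn S B := centralizerIn_le_normalizerIn
  haveI : Finite ↥(centralizerIn S B) := finite_of_le inf_le_left
  have hCsc : N.StronglyClosed (centralizerIn S B) := by
    refine stronglyClosed_iff.2 ⟨hCsub, fun P f hP hf x hx => ?_⟩
    obtain ⟨-, -, g, hg, hgf, hgB⟩ := map_normSys.1 (hNdef ▸ hf)
    have h1 := hg.mem_centralizer le_sup_right (Subgroup.mem_sup_left hx) (mem_centralizerIn.1 (hP hx)).2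
    rwa [hgB, hgf x hx] at h1
  have hGN : (centSys F hBS).IsSubsystemOf N := fun P φ hφ => by
    obtain ⟨hP, g, hg, hgf, hgB⟩ := map_centSys'.1 (map_of_mem hφ)
    refine mem_iff_map.2 (hNdef ▸ map_normSys.2 ⟨hP.trans hCsub, fun x hx => hCsub ?_, g, hg, hgf, ?_⟩)
    · rw [fn_apply φ hx]
      exact ((centSys F hBS).le_of_mem hφ).2 ⟨x, hx⟩
    · rw [im_congr (g := id) hgB, im_id]
  have hBfcE := (fc_fa_of_fn hS hE hBE).1
  have hBfcF := (fc_fa_of_fn hS hF hB).1
  refine fun P f hf => alperin hNp hNs (K := fun P f => Map E P f)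
    ⟨fun h he => h.congr he, fun _ h hR => h.restrict hR, fun _ _ h h' hm => h.comp h' hm,
      fun {P f g} _ h hgf => by
        obtain ⟨g', hg', hg'f, -, -⟩ := h.exists_inv
        refine hg'.congr fun y hy => ?_
        obtain ⟨x, hx, rfl⟩ := h.mem_im.1 hy
        rw [hg'f x hx, hgf x hx]⟩ (fun P hP α hα => ?_) P f hf
  obtain ⟨hPc, hPr⟩ := gen_centric_radical hNp hNs hP
  have hPN : P ≤ normalizerIn S B := hPc.1
  have hPS : P ≤ S := hPN.trans inf_le_left
  haveI := mulAut_finite_of_le hPS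
  haveI := mulAut_finite_of_le hPN
  have hBP : B ≤ P := normal_le_centric_radical hNp hBN hPc hPr
  have hαN := map_of_mem_autGroup hPN hα
  have hαm : Map F P (av α) := hNF hαN
  have hαB : im B (av α) = B := by
    obtain ⟨-, -, g, hg, hgf, hgB⟩ := map_normSys.1 (hNdef ▸ hαN)
    rwa [← im_congr fun x hx => hgf x (hBP hx)]
  -- on `B`
  obtain ⟨ê, hê, hêe⟩ := (receptive_iff.1 (receptive_of_fc hS hE hBfcE)).2 B _
    (haut _ (hαm.restrict hBP)) hαB
  set P₀ := P ⊓ centralizerIn S B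
  have hBC : B ≤ centralizerIn S B := fun b hb => mem_centralizerIn.2 ⟨hBS hb, fun a ha => hBab a ha b hb⟩
  have hBP₀ : B ≤ P₀ := le_inf hBP hBC
  have hdom : centralizerIn S B ≤ Nf S B (av α) := centralizerIn_le_Nf
  have hαP₀ : ∀ x ∈ P₀, av α x ∈ P₀ := fun x hx =>
    ⟨av_mem α hx.1, stronglyClosed_map hCsc hαN hx.1 hx.2⟩
  have hαP₀i : im P₀ (av α) = P₀ := by
    haveI := finite_of_le (show P₀ ≤ S from inf_le_left.trans hPS)
    exact Subgroup.eq_of_le_of_card_ge (im_le_iff.2 hαP₀) (hαm.restrict inf_le_left).card_im.ge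
  have hêC : im (centralizerIn S B) ê = centralizerIn S B := by
    refine Subgroup.eq_of_le_of_card_ge (im_le_iff.2 fun x hx => ?_) (hê.restrict hdom).card_im.ge
    have h1 := hê.mem_centralizer (le_Nf (hαm.restrict hBP)) (hdom hx) (mem_centralizerIn.1 hx).2
    rwa [im_congr hêe, hαB] at h1
  obtain ⟨k, hk, hkê, hêk, -⟩ := (hê.restrict hdom).exists_inv
  rw [hêC] at hk hêk
  have hkm : Map F (centralizerIn S B) k := hk.of_sub hEF
  have hh : Map E P₀ (k ∘ av α) := by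
    refine hcent _ _ (map_centSys'.2 ⟨inf_le_right, k ∘ av α,
      (((hαm.restrict inf_le_left : Map F P₀ (av α))).comp hkm fun x hx => (hαP₀ x hx).2).restrict
        (sup_le le_rfl hBP₀), fun x _ => rfl, fun b hb => ?_⟩)
    show k (av α b) = b
    rw [← hêe b hb, hkê b (hBC hb)]
  have hα₀ : Map E P₀ (av α) := by
    refine (hh.comp (hê.restrict hdom) fun x hx => (hêk _ (hαP₀ x hx).2).2).congr fun x hx => ?_
    exact (hêk _ (hαP₀ x hx).2).1
  -- `P₀` is centric
  have hP₀G : (centSys F hBS).IsCentric P₀ := by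
    by_contra hno
    exact (not_radical_of_inter_not_centric hNp hNs hCsc hGN hPc hno).2 hPr
  have hP₀F : F.IsCentric P₀ := by
    refine ⟨inf_le_left.trans hPS, fun Q hQ => ?_⟩
    obtain ⟨φ, hφ, rfl⟩ := isConj_iff.1 hQ
    obtain ⟨l, hl, hlφ, hφl, hli⟩ := (hφ.restrict hBP₀).exists_inv
    obtain ⟨l', hl', hl'l⟩ := (receptive_iff.1 (receptive_of_fc hS hF hBfcF)).2 _ l hl hli
    have hQC : im P₀ φ ≤ centralizerIn S (im B φ) := im_le_iff.2 fun x hx =>
      hφ.mem_centralizer hBP₀ hx (mem_centralizerIn.1 hx.2).2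
    have hQdom : im P₀ φ ≤ Nf S (im B φ) l := hQC.trans centralizerIn_le_Nf
    intro c hc
    have hcB : c ∈ centralizerIn S (im B φ) := mem_centralizerIn.2 ⟨hc.1,
      fun y hy => (mem_centralizerIn.1 hc).2 y (im_mono hBP₀ hy)⟩
    have hm : Map F P₀ (l' ∘ φ) := hφ.comp hl' fun x hx => hQdom (mem_im_of_mem hx)
    have hfix : ∀ b ∈ B, (l' ∘ φ) b = b := fun b hb => by
      show l' (φ b) = b
      rw [hl'l _ (mem_im_of_mem hb), hlφ b hb]
    have hG : Map (centSys F hBS) P₀ (l' ∘ φ) :=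
      map_centSys'.2 ⟨inf_le_right, l' ∘ φ, hm.restrict (sup_le le_rfl hBP₀), fun x _ => rfl, hfix⟩
    have h1 := hP₀G.2 _ (isConj_iff.2 ⟨_, hG, rfl⟩)
    have hlc : l' c ∈ centralizerIn (centralizerIn S B) (im P₀ (l' ∘ φ)) := by
      refine mem_centralizerIn.2 ⟨?_, fun y hy => ?_⟩
      · have h2 := hl'.mem_centralizer (le_Nf hl) (centralizerIn_le_Nf hcB) (mem_centralizerIn.1 hcB).2
        rwa [im_congr hl'l, hli] at h2
      · obtain ⟨x, hx, rfl⟩ := hm.mem_im.1 hy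
        show l' (φ x) * l' c = l' c * l' (φ x)
        rw [← hl'.map_mul (hQdom (mem_im_of_mem hx)) (centralizerIn_le_Nf hcB),
          ← hl'.map_mul (centralizerIn_le_Nf hcB) (hQdom (mem_im_of_mem hx)),
          (mem_centralizerIn.1 hc).2 _ (mem_im_of_mem hx)]
    obtain ⟨x, hx, hxe⟩ := hm.mem_im.1 (h1 hlc)
    rw [← hl'.injOn (hQdom (mem_im_of_mem hx)) (centralizerIn_le_Nf hcB) hxe]
    exact mem_im_of_mem hx
  have hP₀E : E.IsCentric P₀ := ⟨hP₀F.1, fun Q hQ => hP₀F.2 Q (isConj_of_sub hEF hQ)⟩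
  obtain ⟨a, ha, haα⟩ := (receptive_iff.1 (receptive_of_fc hS hE (fc_of_centric hP₀E))).2 P₀ _ hα₀ hαP₀i
  have hPnorm : ∀ t ∈ P, t ∈ Subgroup.normalizer (P₀ : Set Ω) := fun t ht =>
    mem_normalizer_of_conj_mem (inf_le_left.trans hPS) fun x hx =>
      ⟨P.mul_mem (P.mul_mem ht hx.1) (P.inv_mem ht), stronglyClosed_conj_mem hCsc (hPN ht) hx.2⟩
  have hPdom : P ≤ Nf S P₀ (av α) := fun t ht => ⟨hPS ht, hPnorm t ht, av α t, hαm.mem ht,
    fun x hx => hαm.map_conj ht hx.1⟩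
  have hdiff : ∀ t ∈ P, (av α t)⁻¹ * a t ∈ P₀ := by
    intro t ht
    refine hP₀F.2 P₀ (isConj_refl hP₀F.1) (mem_centralizerIn.2
      ⟨S.mul_mem (S.inv_mem (hαm.mem ht)) (ha.mem (hPdom ht)), fun y hy => ?_⟩)
    obtain ⟨x, hx, rfl⟩ := (hαm.restrict inf_le_left).mem_im.1 (hαP₀i.ge hy)
    have htx := conj_mem_of_normalizer (hPnorm t ht) hx
    have e1 := ha.map_conj (hPdom ht) (le_Nf hα₀ hx)
    rw [haα x hx, haα _ htx, hαm.map_conj ht hx.1] at e1
    calc av α x * ((av α t)⁻¹ * a t)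
        = (av α t)⁻¹ * (av α t * av α x * (av α t)⁻¹) * a t := by group
      _ = (av α t)⁻¹ * (a t * av α x * (a t)⁻¹) * a t := by rw [e1]
      _ = _ := by group
  have haP : im P a = P := by
    haveI := finite_of_le hPS
    refine Subgroup.eq_of_le_of_card_ge (im_le_iff.2 fun t ht => ?_) (ha.restrict hPdom).card_im.ge
    rw [show a t = av α t * ((av α t)⁻¹ * a t) by group]
    exact P.mul_mem (av_mem α ht) (hdiff t ht).1
  obtain ⟨γ, hγ, hγa⟩ := exists_aut (ha.restrict hPdom) haP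
  have hγN : γ ∈ N.autGroup P := by
    refine mem_autGroup_of_map (hNdef ▸ map_normSys.2 ⟨hPN, fun x hx => hPN (av_mem γ hx), av γ,
      ((map_of_mem_autGroup hPS hγ).of_sub hEF).restrict (sup_le le_rfl hBP), fun x _ => rfl, ?_⟩)
    rw [im_congr (g := av α) fun b hb => by rw [hγa b (hBP hb), haα b (hBP₀ hb)]]
    exact hαB
  have hk₁ : ∀ x ∈ P, x ∈ centralizerIn S B → av (γ⁻¹ * α) x = x := fun x hx hxC => by
    rw [av_mul _ _ hx, ← haα x ⟨hx, hxC⟩, ← hγa x hx, av_inv_av γ hx]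
  have hk₂ : ∀ x ∈ P, x⁻¹ * av (γ⁻¹ * α) x ∈ centralizerIn S B := by
    intro x hx
    have hm := map_of_mem_autGroup hPN ((N.autGroup P).inv_mem hγN)
    have h1 : (av γ x)⁻¹ * av α x ∈ centralizerIn S B := by
      rw [hγa x hx]
      have := (centralizerIn S B).inv_mem (hdiff x hx).2
      rwa [mul_inv_rev, inv_inv] at this
    have hmem : (av γ x)⁻¹ * av α x ∈ P := P.mul_mem (P.inv_mem (av_mem γ hx)) (av_mem α hx)
    have h2 := stronglyClosed_map hCsc hm hmem h1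
    rwa [hm.map_mul (P.inv_mem (av_mem γ hx)) (av_mem α hx), hm.map_inv (av_mem γ hx), av_inv_av γ hx,
      ← av_mul _ _ hx] at h2
  have hin := stab_mem_pCore hNp hCsc hPN (mul_mem (inv_mem hγN) hα) hk₁ hk₂
  rw [hPr.2] at hin
  have hinE : γ⁻¹ * α ∈ E.autGroup P := inn_le_autGroup hPS hin
  have := mul_mem hγ hinE
  rw [mul_inv_cancel_left] at this
  exact map_of_mem_autGroup hPS this

/-- **Small exponent abelian subgroups control fusion**. -/
theorem map_of_small_exponent : ∀ (m k : ℕ) {S : Subgroup Ω} [Finite S] (E F : FusionSystem S)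
    (H : Subgroup Ω), Nat.card S = m → mapCode F = k → IsPGroup p S → E.IsSaturated p → F.IsSaturated p →
    E.IsSubsystemOf F → F.hyperfocalSubgroup p ≤ H → F.StronglyClosed H → p ^ n ≠ 2 → n ≠ 0 →
    (∀ A f, A ≤ H → SmallAb p n A → Map F A f → Map E A f) →
    ∀ P f, Map F P f → Map E P f := by
  classical
  intro m
  induction m using Nat.strong_induction_on with
  | _ m ihm =>
  intro k
  induction k using Nat.strong_induction_on with
  | _ k ihk =>
  intro S _ E F H hm hk hS hE hF hEF hHyp hH hn2 hn0 hyp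
  -- the centralizer systems
  have hcent : ∀ B, B ≤ H → SmallAb p n B → ¬ F.IsCentral B → ∀ (hB : F.IsFullyNormalized B),
      E.IsFullyNormalized B → ∀ P f, Map (centSys F hB.1) P f → Map E P f := by
    intro B hBH hBs hBc hB hBE P f hf
    haveI : Finite ↥(centralizerIn S B) := finite_of_le inf_le_left
    have hGs := centSys_saturated hS hF (fc_fa_of_fn hS hF hB).1
    have hEs := centSys_saturated hS hE (fc_fa_of_fn hS hE hBE).1
    have hsub : (centSys E hB.1).IsSubsystemOf (centSys F hB.1) := fun P φ hφ => by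
      obtain ⟨hP, g, hg, hgf, hgB⟩ := map_centSys'.1 (map_of_mem hφ)
      exact mem_iff_map.2 (map_centSys'.2 ⟨hP, g, hg.of_sub hEF, hgf, hgB⟩)
    have hGF : (centSys F hB.1).IsSubsystemOf F := fun P φ hφ => hφ.1
    have hHyp' : (centSys F hB.1).hyperfocalSubgroup p ≤ H ⊓ centralizerIn S B :=
      le_inf ((Cfsg.Agent.Local.FS.hyperfocal_mono hGF).trans hHyp) hyperfocal_le
    have hH' : (centSys F hB.1).StronglyClosed (H ⊓ centralizerIn S B) := by
      refine stronglyClosed_iff.2 ⟨inf_le_right, fun P f hP hf x hx => ⟨?_, hf.mem hx⟩⟩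
      exact stronglyClosed_map hH (hf.of_sub hGF) hx (hP hx).1
    have hyp' : ∀ A f, A ≤ H ⊓ centralizerIn S B → SmallAb p n A → Map (centSys F hB.1) A f →
        Map (centSys E hB.1) A f := by
      intro A f hA hAs hf
      obtain ⟨hAC, g, hg, hgf, hgB⟩ := map_centSys'.1 hf
      exact map_centSys'.2 ⟨hAC, g, hyp _ g (sup_le (hA.trans inf_le_left) hBH)
        (hAs.sup hBs fun a ha b hb => ((mem_centralizerIn.1 (hAC ha)).2 b hb).symm) hg, hgf, hgB⟩
    suffices h : Map (centSys E hB.1) P f by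
      obtain ⟨hP, g, hg, hgf, hgB⟩ := map_centSys'.1 h
      exact (hg.restrict le_sup_left).congr hgf
    rcases eq_or_lt_of_le (inf_le_left : centralizerIn S B ≤ S) with heq | hlt
    · refine ihk (mapCode (centSys F hB.1)) ?_ (centSys E hB.1) (centSys F hB.1) _
        (by show Nat.card ↥(centralizerIn S B) = m; rw [show centralizerIn S B = S from heq, hm]) rfl
        (hS.to_le inf_le_left) hEs hGs hsub hHyp' hH' hn2 hn0 hyp' P f hf
      rw [← hk]
      have heq' : centralizerIn S B = S := heq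
      refine mapCode_lt (S' := centralizerIn S B) heq' (centSys F hB.1) (fun P f h => h.of_sub hGF) ?_
      by_contra hno
      simp only [not_exists, not_and, not_not] at hno
      refine hBc ⟨hB.1, fun Q φ hφ => ?_⟩
      obtain ⟨hQ, g, hg, hgf, hgB⟩ := map_centSys'.1 (hno Q _ (map_of_mem hφ))
      obtain ⟨ψ, hψ, he⟩ := hg
      exact ⟨ψ, hψ, fun x => by rw [he, Subgroup.coe_inclusion, hgf x x.2, fn_coe],
        fun x => by rw [he, Subgroup.coe_inclusion, hgB x x.2]⟩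
    · exact ihm _ (by rw [← hm]; exact card_lt_of_lt hlt le_rfl) _ (centSys E hB.1) (centSys F hB.1) _ rfl rfl
        (hS.to_le inf_le_left) hEs hGs hsub hHyp' hH' hn2 hn0 hyp' P f hf
  -- maps on subgroups normalising a non-central small subgroup
  have hstar : ∀ R g B, Map F R g → B ≤ R → B ≤ H → (∀ r ∈ R, r ∈ Subgroup.normalizer (B : Set Ω)) →
      SmallAb p n B → ¬ F.IsCentral B → Map E R g := by
    intro R g B hg hBR hBH hRB hBs hBc
    obtain ⟨B₁, hBB₁, hB₁⟩ := exists_fullyNormalized (F := F) (hBR.trans hg.le)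
    obtain ⟨u, hu, hui⟩ := isConj_iff.1 hBB₁
    have hBB₁E : E.IsConj B B₁ := isConj_iff.2 ⟨u, hyp B u hBH hBs hu, hui⟩
    have hB₁E : E.IsFullyNormalized B₁ := ⟨hB₁.1, fun Q hQ => hB₁.2 Q (isConj_of_sub hEF hQ)⟩
    have hgBE : E.IsConj (im B g) B₁ := isConj_trans
      (isConj_symm (isConj_iff.2 ⟨g, hyp B g hBH hBs (hg.restrict hBR), rfl⟩)) hBB₁E
    obtain ⟨v, hv, hvm, hvi⟩ := exists_map_normalizer_fn hS hE hB₁E hBB₁E
    obtain ⟨w, hw, hwm, hwi⟩ := exists_map_normalizer_fn hS hE hB₁E hgBE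
    have hRN : R ≤ normalizerIn S B := fun r hr => ⟨hg.le hr, hRB r hr⟩
    have hgRN : ∀ r ∈ R, g r ∈ normalizerIn S (im B g) := fun r hr =>
      ⟨hg.mem hr, (hg.mem_normalizer hBR hr (hRB r hr)).2⟩
    have hB₁H : B₁ ≤ H := hui ▸ im_le_iff.2 fun x hx => stronglyClosed_map hH hu hx (hBH hx)
    have hB₁s : SmallAb p n B₁ := hui ▸ hBs.image hu
    have hB₁c : ¬ F.IsCentral B₁ := by
      intro hc
      apply hBc
      obtain ⟨φ, hφ, hφr⟩ := isConj_symm hBB₁
      obtain ⟨ψ, hψ, h1, h2⟩ := hc.2 B₁ φ hφ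
      have hBeq : B = B₁ := by
        rw [← hφr]
        ext y
        constructor
        · rintro ⟨x, rfl⟩
          rw [← h1 x, show Subgroup.inclusion le_sup_left x = Subgroup.inclusion le_sup_right x from
            Subtype.ext rfl, h2 x]
          exact x.2
        · intro hy
          exact ⟨⟨y, hy⟩, by rw [← h1 ⟨y, hy⟩]; exact (h2 ⟨y, hy⟩)⟩
      exact hBeq ▸ hc
    obtain ⟨k, hk, hkv, hvk, -⟩ := (hv.restrict hRN).exists_inv
    have hgw : Map F R (w ∘ g) := hg.comp (hw.of_sub hEF) hgRN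
    have hκ : Map F (im R v) ((w ∘ g) ∘ k) := (hk.of_sub hEF).comp hgw fun y hy => (hvk y hy).2
    have hκN : Map (normSys F hB₁.1) (im R v) ((w ∘ g) ∘ k) := by
      refine map_normSys.2 ⟨im_le_iff.2 fun r hr => hvm r (hRN hr), fun y hy => hwm _ (hgRN _ (hvk y hy).2),
        (w ∘ g) ∘ k, hκ.restrict (sup_le le_rfl (hvi ▸ im_mono hBR)), fun _ _ => rfl, ?_⟩
      have h1 : ∀ b ∈ B, ((w ∘ g) ∘ k) (v b) = w (g b) := fun b hb => by
        show w (g (k (v b))) = _
        rw [hkv b (hBR hb)]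
      rw [← hvi, ← (hv.restrict (hBR.trans hRN)).im_comp, im_congr (f := ((w ∘ g) ∘ k) ∘ v) (g := w ∘ g) h1,
        (hg.restrict hBR).im_comp, hwi]
      exact hvi.symm
    have hκE := normSys_le_of_centSys hS hE hF hEF hB₁ hB₁E hB₁s.1 (hcent B₁ hB₁H hB₁s hB₁c hB₁ hB₁E)
      (fun h hh => hyp B₁ h hB₁H hB₁s hh) _ _ hκN
    have hwg : Map E R (w ∘ g) := ((hv.restrict hRN).comp hκE fun r hr => mem_im_of_mem hr).congr
      fun r hr => by show w (g (k (v r))) = w (g r); rw [hkv r hr]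
    obtain ⟨l, hl, hlw, -, -⟩ := hw.exists_inv
    refine (hwg.comp hl fun r hr => mem_im_of_mem (hgRN r hr)).congr fun r hr => ?_
    exact hlw _ (hgRN r hr)
  refine fun P f hf => alperin hS hF (isClosedClass_map E) (fun R hR α hα => ?_) P f hf
  have hRfn := gen_fn (F := F) (p := p) hR
  have hRS := hRfn.1
  haveI := mulAut_finite_of_le hRS
  haveI := finite_of_le hRS
  by_cases hex : ∃ B, B ≤ R ∧ B ≤ H ∧ (∀ r ∈ R, r ∈ Subgroup.normalizer (B : Set Ω)) ∧ SmallAb p n B ∧ ¬ F.IsCentral B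
  · obtain ⟨B, h1, h2, h3, h4, h5⟩ := hex
    exact hstar R _ B (map_of_mem_autGroup hRS hα) h1 h2 h3 h4 h5
  simp only [not_exists, not_and, not_not] at hex
  obtain ⟨β, hβ, γ, hγ, rfl⟩ := exists_autS_mul_residual hS hF hRfn hα
  refine map_of_mem_autGroup hRS ((E.autGroup R).mul_mem (autInducedBy_le_autGroup hRS hβ) ?_)
  suffices h : pResidual p ↥(F.autGroup R) ≤ (E.autGroup R).subgroupOf (F.autGroup R) from h hγ
  rw [pResidual]
  refine (Subgroup.closure_le _).2 fun δ hδ => ?_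
  -- a maximal small subgroup of `R ⊓ H`
  let M : Subgroup R := H.subgroupOf R
  haveI hMn : M.Normal := ⟨fun x hx r => stronglyClosed_conj_mem hH (hRS r.2) hx⟩
  haveI : Finite (Subgroup ↥R) := Finite.of_injective (fun K : Subgroup ↥R => (K : Set ↥R)) SetLike.coe_injective
  obtain ⟨A, ⟨hAn, hAM, hAc, hAe⟩, hmax⟩ := Set.exists_max_image
    {A : Subgroup R | A.Normal ∧ A ≤ M ∧ IsMulCommutative A ∧ ∀ a ∈ A, a ^ p ^ n = 1}
    (fun A : Subgroup R => Nat.card A) (Set.toFinite _)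
    ⟨⊥, inferInstance, bot_le, inferInstance, fun a ha => by rw [Subgroup.mem_bot.1 ha, one_pow]⟩
  haveI := hAn
  have hA₀s : SmallAb p n (A.map R.subtype) := by
    refine ⟨?_, ?_⟩
    · rintro _ ⟨a, ha, rfl⟩ _ ⟨b, hb, rfl⟩
      exact congrArg (fun z : A => ((z : R) : Ω)) (hAc.1.comm ⟨a, ha⟩ ⟨b, hb⟩)
    · rintro _ ⟨a, ha, rfl⟩
      show ((a : R) : Ω) ^ p ^ n = 1
      rw [← Subgroup.coe_pow, hAe a ha, Subgroup.coe_one]
  have hA₀c : F.IsCentral (A.map R.subtype) := hex _ (Subgroup.map_subtype_le A)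
    (by rintro _ ⟨a, ha, rfl⟩; exact hAM ha)
    (fun r hr => mem_normalizer_of_conj_mem ((Subgroup.map_subtype_le A).trans hRS) fun x hx => by
      obtain ⟨a, ha, rfl⟩ := hx
      exact ⟨⟨r, hr⟩ * a * ⟨r, hr⟩⁻¹, hAn.conj_mem a ha ⟨r, hr⟩, rfl⟩) hA₀s
  have hcen : ∀ α' ∈ F.autGroup R, ∀ x ∈ A.map R.subtype, av α' x = x := by
    intro α' hα' x hx
    have hxR : x ∈ R := Subgroup.map_subtype_le A hx
    obtain ⟨φ, hφ, hφe⟩ := map_of_mem_autGroup hRS hα'
    obtain ⟨ψ, hψ, h1, h2⟩ := hA₀c.2 R φ hφ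
    have h3 := h1 ⟨x, hxR⟩
    rw [show Subgroup.inclusion le_sup_left (⟨x, hxR⟩ : R) = Subgroup.inclusion le_sup_right
      (⟨x, hx⟩ : ↥(A.map R.subtype)) from Subtype.ext rfl, h2 ⟨x, hx⟩, hφe] at h3
    exact h3.symm
  have hZA : ∀ r : R, ∀ a ∈ A, r * a = a * r := by
    intro r a ha
    obtain ⟨β', hβ', hβS⟩ := exists_aut_conj (P := R) (g := (r : Ω)) (Subgroup.le_normalizer r.2)
    have h1 := hcen β' (autInducedBy_le_autGroup hRS (hβS S (hRS r.2))) a ⟨a, ha, rfl⟩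
    rw [hβ' (a : Ω) (a : R).2] at h1
    refine Subtype.ext ?_
    calc ((r : Ω) * (a : Ω)) = ((r : Ω) * a * (r : Ω)⁻¹) * r := by group
      _ = (a : Ω) * r := by rw [h1]
  have hfixM : ∀ x : R, x ∈ M → x ^ p ^ n = 1 → (δ : MulAut R) x = x := by
    intro x hxM hxe
    have hxA : x ∈ A := mem_of_maximal_normal_abelian_within (hS.to_le hRS) n hn2 A hAc hAe M hAM
      (fun B hBn hBM hBc hBe hAB => (Subgroup.eq_of_le_of_card_ge hAB (hmax B ⟨hBn, hBM, hBc, hBe⟩)).symm)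
      x (Subgroup.mem_centralizer_iff.2 fun a ha => (hZA x a ha).symm) hxe hxM
    exact Subtype.ext ((av_coe (δ : MulAut R) x).symm.trans (hcen _ δ.2 _ ⟨x, hxA, rfl⟩))
  have hshift : ∀ x : R, x⁻¹ * (δ : MulAut R) x ∈ M := fun x => by
    have := hHyp (inv_mul_mem_hyperfocal hRS (Subgroup.subset_closure hδ) x.2)
    rw [av_coe] at this
    exact this
  have hM : ∀ x : R, x ∈ M → (δ : MulAut R) x ∈ M := fun x hx => by
    have := M.mul_mem hx (hshift x)
    rwa [mul_inv_cancel_left] at this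
  have ho : (orderOf (δ : MulAut R)).Coprime p := by rw [Subgroup.orderOf_coe]; exact hδ
  -- the restriction to `M`
  have hMi : ∀ x : R, x ∈ M → (δ : MulAut R)⁻¹ x ∈ M := fun x hx => by
    have := M.mul_mem hx (M.inv_mem (hshift ((δ : MulAut R)⁻¹ x)))
    rw [MulAut.apply_inv_self, mul_inv_rev, inv_inv, mul_inv_cancel_left] at this
    exact this
  let δM : MulAut M :=
    { toFun := fun x => ⟨(δ : MulAut R) x, hM x x.2⟩
      invFun := fun x => ⟨(δ : MulAut R)⁻¹ x, hMi x x.2⟩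
      left_inv := fun x => Subtype.ext (MulAut.inv_apply_self R (δ : MulAut R) x)
      right_inv := fun x => Subtype.ext (MulAut.apply_inv_self R (δ : MulAut R) x)
      map_mul' := fun x y => Subtype.ext (map_mul (δ : MulAut R) (x : R) (y : R)) }
  have hδM : ∀ (j : ℕ) (x : M), (((δM ^ j) x : M) : R) = ((δ : MulAut R) ^ j) (x : R) := by
    intro j
    induction j with
    | zero => intro x; rfl
    | succ j ih => intro x; rw [pow_succ, pow_succ, MulAut.mul_apply, MulAut.mul_apply, ih]; rfl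
  have hoM : (orderOf δM).Coprime p := by
    refine Nat.Coprime.coprime_dvd_left (orderOf_dvd_of_pow_eq_one (MulEquiv.ext fun x => Subtype.ext ?_)) ho
    rw [hδM, pow_orderOf_eq_one]; rfl
  have h1 : δM = 1 := by
    refine aut_eq_one_of_fix_omega ((hS.to_le hRS).to_subgroup M) δM hoM fun x hx => Subtype.ext ?_
    refine hfixM x x.2 ?_
    have hxp : (x : M) ^ p ^ n = 1 := by
      rcases hx with hx | ⟨h2, hx⟩
      · rw [← Nat.succ_pred_eq_of_ne_zero hn0, pow_succ', pow_mul, hx, one_pow]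
      · subst h2
        obtain ⟨j, rfl⟩ : ∃ j, n = j + 2 := ⟨n - 2, by
          rcases n with _ | _ | n
          · exact absurd rfl hn0
          · simp at hn2
          · omega⟩
        rw [pow_add, mul_comm, pow_mul, show (2 : ℕ) ^ 2 = 4 from rfl, hx, one_pow]
    rw [← Subgroup.coe_pow, hxp, Subgroup.coe_one]
  have h2 : (δ : MulAut R) = 1 := by
    refine MulEquiv.ext fun x => ?_
    refine aut_fix_step (hS.to_le hRS) _ ho x ?_
    exact congrArg Subtype.val (DFunLike.congr_fun h1 ⟨_, hshift x⟩)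
  show (δ : MulAut R) ∈ E.autGroup R
  rw [h2]
  exact one_mem _

end Cfsg.Agent.Local.FS
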