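import Cfsg.Agent.Lib.Local.FS.InnerCriterion
import Cfsg.Agent.Lib.Local.FS.Sub
import Cfsg.Agent.S1988

/-!
Minimal noninner systems are constrained.
-/

set_option autoImplicit false

namespace Cfsg.Agent.Local.FS

open Cfsg Cfsg.FusionSystem Cfsg.Agent.Fusion

universe u

/-- A group with self-centralizing `p`-core and a normal `p`-complement is a `p`-group. -/
theorem sylow_eq_top_of_hnpc {L : Type u} [Group L] [Finite L] {p : ℕ} [Fact p.Prime] (P : Sylow p L)
    (hc : Subgroup.centralizer ((pCore p L : Subgroup L) : Set L) ≤ pCore p L)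
    (h : HasNormalPComplement p L) : (P : Subgroup L) = ⊤ := by
  obtain ⟨N, hN, hcompl⟩ := hnpc_exists_complement h P
  haveI := hN
  have hcop := coprime_card_of_isComplement' hcompl
  have hbot : N = ⊥ := by
    rw [← le_bot_iff]
    intro x hx
    have hinf : N ⊓ pCore p L = ⊥ := coprime_inf_pGroup hcop (isPGroup_pCore p L)
    have hxC : x ∈ Subgroup.centralizer ((pCore p L : Subgroup L) : Set L) := by
      refine Subgroup.mem_centralizer_iff.2 fun q hq => ?_
      have h1 : x * q * x⁻¹ * q⁻¹ ∈ N ⊓ pCore p L := by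
        refine ⟨?_, Subgroup.mul_mem _ ((inferInstance : (pCore p L).Normal).conj_mem _ hq x)
          (Subgroup.inv_mem _ hq)⟩
        rw [show x * q * x⁻¹ * q⁻¹ = x * (q * x⁻¹ * q⁻¹) by group]
        exact N.mul_mem hx (hN.conj_mem _ (N.inv_mem hx) q)
      rw [hinf, Subgroup.mem_bot] at h1
      calc q * x = (x * q * x⁻¹ * q⁻¹) * (q * x) := by rw [h1, one_mul]
        _ = x * q := by group
    rw [← hinf]; exact ⟨hx, hc hxC⟩
  subst hbot
  simpa [Subgroup.isComplement'_bot_left] using hcompl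

/-- The criterion hypothesis holds for the lower `K`-infinity functor. -/
theorem kInfLower_hG {p : ℕ} [Fact p.Prime] (hp : p ≠ 2) (L : Type u) [Group L] [Finite L] (P : Sylow p L)
    (hc : Subgroup.centralizer ((pCore p L : Subgroup L) : Set L) ≤ pCore p L)
    (hN : Subgroup.normalizer ((inducedFunctor kInfLower (P : Subgroup L) : Subgroup L) : Set L) ≤ P) :
    (P : Subgroup L) = ⊤ := by
  refine sylow_eq_top_of_hnpc P hc (Cfsg.Agent.S1988.result hp P (Or.inr fun g hg ho => ?_))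
  have h1 : g = 1 := by
    obtain ⟨k, hk⟩ := P.2 ⟨g, hN hg⟩
    have hdvd : orderOf g ∣ p ^ k := orderOf_dvd_of_pow_eq_one (congrArg Subtype.val hk)
    exact orderOf_eq_one_iff.1 (Nat.eq_one_of_dvd_coprimes (ho.pow_right k) dvd_rfl hdvd)
  rw [h1]; exact Subgroup.one_mem _

variable {Ω : Type u} [Group Ω] {S : Subgroup Ω} {F : FusionSystem S} {p : ℕ} [Fact p.Prime]
variable {W : ∀ (Q : Type u) [Group Q], Subgroup Q}

omit [Fact p.Prime] in
/-- A system over a subgroup equal to `S` is a system over `S`. -/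
theorem exists_cast {V : Subgroup Ω} (hV : V = S) (N : FusionSystem V) :
    ∃ N' : FusionSystem S, (∀ P, N'.Hom P = N.Hom P) ∧ (N.IsSaturated p → N'.IsSaturated p) ∧
      (IsInner N' → IsInner N) := by
  subst hV
  exact ⟨N, fun _ => rfl, id, id⟩

/-- In a minimal noninner system, proper local systems are inner. -/
theorem pAt_of_minimal [Finite S] (hS : IsPGroup p S) (hF : F.IsSaturated p)
    (hmin : ∀ E : FusionSystem S, E.IsSaturated p → E.IsSubsystemOf F →
      (∀ P, E.Hom P = F.Hom P) ∨ IsInner E)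
    {U : Subgroup Ω} (hU : F.IsFullyNormalized U) (hVS : normalizerIn S U = S) (hUn : ¬ F.IsNormal U) :
    PAt F p U := by
  obtain ⟨N', hN', hsat, hinn⟩ := exists_cast (p := p) hVS (normSys F hU.1)
  have hsub : N'.IsSubsystemOf F := fun P φ hφ => by
    rw [hN'] at hφ
    exact hφ.1
  rcases hmin N' (hsat (normSys_saturated hS hF hU)) hsub with heq | hin
  · refine absurd (normal_iff.2 ⟨hU.1, fun P f hf => ?_⟩) hUn
    obtain ⟨φ, hφ, he⟩ := hf
    rw [← heq P, hN' P] at hφ
    obtain ⟨-, -, g, hg, hgf, hgU⟩ := (map_normalizerSystem_iff fun _ => rfl).1 (map_of_mem hφ)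
    exact ⟨g, hg, fun x hx => (hgf x hx).trans ((fn_apply φ hx).trans (he ⟨x, hx⟩)), hgU⟩
  · exact pAt_of_isInner hS (N := normSys F hU.1) (fun _ => rfl) (hinn hin)

/-- **A minimal noninner system is constrained.** -/
theorem constrained_of_minimal [Finite S]
    (hW1 : ∀ (Q : Type u) [Group Q] [Finite Q], IsPGroup p Q → Nontrivial Q → W Q ≠ ⊥)
    (hW2 : ∀ (Q R : Type u) [Group Q] [Group R] [Finite Q], IsPGroup p Q → ∀ φ : Q ≃* R,
      (W Q).map φ.toMonoidHom = W R)
    (hG : ∀ (L : Type u) [Group L] [Finite L] (P : Sylow p L),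
      Subgroup.centralizer ((pCore p L : Subgroup L) : Set L) ≤ pCore p L →
      Subgroup.normalizer ((inducedFunctor W (P : Subgroup L) : Subgroup L) : Set L) ≤ P →
      (P : Subgroup L) = ⊤)
    (hS : IsPGroup p S) (hF : F.IsSaturated p) (hne : ¬ IsInner F)
    (hmin : ∀ E : FusionSystem S, E.IsSaturated p → E.IsSubsystemOf F →
      (∀ P, E.Hom P = F.Hom P) ∨ IsInner E) : F.IsConstrained p := by
  set W₀ := inducedFunctor W S
  have hW₀S : W₀ ≤ S := Subgroup.map_subtype_le _
  have hN : normalizerIn S W₀ = S :=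
    le_antisymm inf_le_left ((le_normalizerIn le_rfl).trans (normalizer_le_functor hS hW2 le_rfl))
  have hsub : ∀ U, F.IsFullyNormalized U → normalizerIn S U = S → ¬ F.IsNormal U → PAt F p U :=
    fun U hU hV hn => pAt_of_minimal hS hF hmin hU hV hn
  have hWn : F.IsNormal W₀ := by
    by_contra hn
    refine hne (isInner_of_functor hW1 hW2 hG hS hF (hsub W₀ ⟨hW₀S, fun R _ => ?_⟩ hN hn))
    rw [hN]; exact Subgroup.card_le_of_le inf_le_left
  have hS1 : S ≠ ⊥ := fun h => hne fun P f hf => ⟨1, S.one_mem, fun x hx => by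
    have h1 : x = 1 := Subgroup.mem_bot.1 (h ▸ hf.le hx)
    subst h1
    rw [hf.map_one]; simp⟩
  have hbot : F.core ≠ ⊥ := fun h => by
    refine hW1 S hS ((Subgroup.nontrivial_iff_ne_bot S).2 hS1) ?_
    exact (Subgroup.map_eq_bot_iff_of_injective _ S.subtype_injective).1 (le_bot_iff.1 (h ▸ le_sSup hWn))
  refine ⟨hF, F.core, core_normal hS hF, ?_⟩
  by_contra hc
  exact hne (isInner_of_core hS hF hbot hc hsub fun Ω' _ S' _ E _ hp' hsat hP _ =>
    isInner_of_functor hW1 hW2 hG hp' hsat (hP W hW1 hW2))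

omit [Fact p.Prime] in
/-- A noninner saturated system contains a minimal one. -/
theorem exists_minimal [Finite S] (hF : F.IsSaturated p) (hne : ¬ IsInner F) :
    ∃ E : FusionSystem S, E.IsSaturated p ∧ E.IsSubsystemOf F ∧ ¬ IsInner E ∧
      ∀ D : FusionSystem S, D.IsSaturated p → D.IsSubsystemOf E → (∀ P, D.Hom P = E.Hom P) ∨ IsInner D := by
  classical
  have hex : ∃ m, ∃ E : FusionSystem S, E.IsSaturated p ∧ E.IsSubsystemOf F ∧ ¬ IsInner E ∧
      (allMaps E).ncard = m := ⟨_, F, hF, fun _ => subset_rfl, hne, rfl⟩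
  obtain ⟨E, hE, hsub, hEne, hm⟩ := Nat.find_spec hex
  refine ⟨E, hE, hsub, hEne, fun D hD hDE => ?_⟩
  by_contra hcon
  push Not at hcon
  obtain ⟨⟨P, hP⟩, hDne⟩ := hcon
  have hle : allMaps D ⊆ allMaps E := fun x hx => hDE _ hx
  have hlt : (allMaps D).ncard < (allMaps E).ncard := by
    refine Set.ncard_lt_ncard (lt_of_le_not_ge hle fun hge => hP ?_) (allMaps_finite E)
    exact Set.Subset.antisymm (hDE P) fun φ hφ => hge (show (⟨P, φ⟩ : Σ P : Subgroup Ω, (P →* Ω)) ∈ allMaps E from hφ)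
  exact Nat.find_min hex (hm ▸ hlt) ⟨D, hD, fun Q => (hDE Q).trans (hsub Q), hDne, rfl⟩

end Cfsg.Agent.Local.FS
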