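import Cfsg.Agent.Lib.Local.FS.ThompsonInner

/-!
Minimal noninner systems without the section `S₄` are constrained.
-/

set_option autoImplicit false

namespace Cfsg.Agent.Local.FS

open Cfsg Cfsg.FusionSystem Cfsg.Agent.Fusion

variable {Ω : Type*} [Group Ω] {S : Subgroup Ω} [Finite S] {F : FusionSystem S} {p : ℕ} [Fact p.Prime]

theorem constrained_of_minimal_thompson (hS : IsPGroup p S) (hF : F.IsSaturated p) (hne : ¬ IsInner F)
    (hmin : ∀ E : FusionSystem S, E.IsSaturated p → E.IsSubsystemOf F →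
      (∀ P, E.Hom P = F.Hom P) ∨ IsInner E)
    (hp : p ≠ 2 ∨ F.IsSectionFree p (Equiv.Perm (Fin 4))) : F.IsConstrained p := by
  have hsub : ∀ U, F.IsFullyNormalized U → normalizerIn S U = S → ¬ F.IsNormal U → PAt F p U :=
    fun U hU hV hn => pAt_of_minimal hS hF hmin hU hV hn
  have hS1 : S ≠ ⊥ := fun h => hne fun P f hf => ⟨1, S.one_mem, fun x hx => by
    have h1 : x = 1 := Subgroup.mem_bot.1 (h ▸ hf.le hx)
    subst h1
    rw [hf.map_one]; simp⟩
  have hcen : ∀ {T : Subgroup Ω}, T ≤ Subgroup.centralizer ((T ⊓ Subgroup.centralizer (T : Set Ω) : Subgroup Ω) : Set Ω) :=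
    fun {T} => Subgroup.le_centralizer_iff.1 inf_le_right
  have hbot : F.core ≠ ⊥ := by
    intro h
    have hW : ∀ W, IsCharPFunctor p W → PAt F p (inducedFunctor W S) := fun W hW => by
      have hV : normalizerIn S (inducedFunctor W S) = S :=
        le_antisymm inf_le_left ((le_normalizerIn le_rfl).trans (normalizer_le_functor hS hW.2 le_rfl))
      refine hsub _ ⟨Subgroup.map_subtype_le _, fun R _ => by rw [hV]; exact Subgroup.card_le_of_le inf_le_left⟩
        hV fun hn => hW.1 S hS ((Subgroup.nontrivial_iff_ne_bot S).2 hS1) ?_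
      exact (Subgroup.map_eq_bot_iff_of_injective _ S.subtype_injective).1 (le_bot_iff.1 (h ▸ le_sSup hn))
    refine hne (isInner_thompson hS hF hp ?_ (hW wJA isCharPFunctor_wJA))
    rw [← inducedFunctor_wCen]
    exact cAt_of_pAt (by rw [inducedFunctor_wCen]; exact (hcen (T := _)).trans (Subgroup.centralizer_le_normalizer _))
      (hW wCen isCharPFunctor_wCen)
  refine ⟨hF, F.core, core_normal hS hF, ?_⟩
  by_contra hc
  refine hne (isInner_of_core hS hF hbot hc hsub fun Ω' _ S' _ E _ hp' hsat hP hX => ?_)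
  refine isInner_thompson hp' hsat (hp.imp id (hX _)) ?_ (hP wJA isCharPFunctor_wJA.1 isCharPFunctor_wJA.2)
  rw [← inducedFunctor_wCen]
  exact cAt_of_pAt (by rw [inducedFunctor_wCen]; exact (Subgroup.le_centralizer_iff.1 inf_le_right).trans (Subgroup.centralizer_le_normalizer _))
    (hP wCen isCharPFunctor_wCen.1 isCharPFunctor_wCen.2)

end Cfsg.Agent.Local.FS
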