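import Cfsg.Agent.Lib.Local.FS.Burnside
import Cfsg.Agent.Lib.Local.FS.Sat

set_option autoImplicit false

namespace Cfsg.Agent.Local.FS

open Cfsg Cfsg.FusionSystem Cfsg.Agent.Fusion Cfsg.Agent.Local.FS.Marks

universe u

variable {Ω : Type u} [Group Ω] {T : Subgroup Ω} {F : FusionSystem T} {p : ℕ}

theorem card_subgroupOf_eq {D : Subgroup Ω} (h : D ≤ T) : Nat.card ↥(D.subgroupOf T) = Nat.card D :=
  Nat.card_congr (Subgroup.subgroupOfEquivOfLe h).toEquiv

theorem map_subtype_conj (g : T) (E : Subgroup T) :
    (E.map (MulAut.conj g).toMonoidHom).map T.subtype = im (E.map T.subtype) (fun x => (g : Ω) * x * (g : Ω)⁻¹) := by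
  have h : (E.map T.subtype).map (MulAut.conj (g : Ω)).toMonoidHom =
      im (E.map T.subtype) (fun x => (g : Ω) * x * (g : Ω)⁻¹) := by
    rw [im, ← Subgroup.closure_eq (Subgroup.map (MulAut.conj (g : Ω)).toMonoidHom _)]
    rfl
  rw [← h, Subgroup.map_map, Subgroup.map_map]
  congr 1

/-- Equal counts at conjugates of order at least `n`. -/
def StableFrom (F : FusionSystem T) (K : Subgroup Ω → Prop) (X : Type u) [MulAction T X] (n : ℕ) : Prop :=
  ∀ D D' : Subgroup Ω, K D → F.IsConj D D' → n ≤ Nat.card D →
    fixCount X (D.subgroupOf T) = fixCount X (D'.subgroupOf T)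

variable [Finite T] [Fact p.Prime] {K : Subgroup Ω → Prop}

omit [Fact p.Prime] in
theorem eq_zero_of_not {X : Type u} [MulAction T X] (hKsub : ∀ {D E : Subgroup Ω}, E ≤ D → K D → K E)
    (hX : ∀ x : X, K ((MulAction.stabilizer T x).map T.subtype)) {D : Subgroup Ω} (hD : D ≤ T) (hK : ¬ K D) :
    fixCount X (D.subgroupOf T) = 0 := by
  by_contra h
  obtain ⟨x, hx⟩ := exists_le_stabilizer_of_fixCount_ne h
  exact hK (hKsub (show D ≤ (MulAction.stabilizer T x).map T.subtype from
    fun d hd => ⟨⟨d, hD hd⟩, hx hd, rfl⟩) (hX x))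

/-- The congruence between counts at a subgroup and at a fully normalised conjugate. -/
theorem fixCount_congr_fn (hT : IsPGroup p T) (hF : F.IsSaturated p)
    (hKconj : ∀ {D D' : Subgroup Ω}, F.IsConj D D' → K D → K D')
    (hKsub : ∀ {D E : Subgroup Ω}, E ≤ D → K D → K E) {X : Type u} [MulAction T X] [Finite X]
    (hX : ∀ x : X, K ((MulAction.stabilizer T x).map T.subtype)) {D D' : Subgroup Ω}
    (hfn : F.IsFullyNormalized D) (hDD : F.IsConj D' D) {n : ℕ} (hn : Nat.card D' = n)
    (hst : StableFrom F K X (n + 1)) :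
    fixCount X (D'.subgroupOf T) ≡ fixCount X (D.subgroupOf T)
      [MOD fixCount (T ⧸ D'.subgroupOf T) (D'.subgroupOf T)] := by
  classical
  have hD'T := (isConj_le hDD).1
  obtain ⟨f, hf, hfm, hfi⟩ := exists_map_normalizer_fn hT hF hfn hDD
  haveI := finite_of_le (show normalizerIn T D' ≤ T from inf_le_left)
  let ρ₁ : ↥(normalizerIn T D') →* T := Subgroup.inclusion inf_le_left
  let ρ₂ : ↥(normalizerIn T D') →* T :=
    MonoidHom.mk' (fun x => ⟨f x, hf.mem x.2⟩) fun x y => Subtype.ext (hf.map_mul x.2 y.2)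
  set D₀ := D'.subgroupOf (normalizerIn T D') with hD₀
  haveI : D₀.Normal := ⟨fun d hd g =>
    show (g : Ω) * (d : Ω) * (g : Ω)⁻¹ ∈ D' from conj_mem_of_normalizer (P := D') g.2.2 hd⟩
  have hle : D' ≤ normalizerIn T D' := le_normalizerIn hD'T
  haveI := finite_of_le (S := T) hD'T
  have e1 : ∀ E : Subgroup ↥(normalizerIn T D'),
      E.map ρ₁ = (E.map (normalizerIn T D').subtype).subgroupOf T := by
    intro E; ext ⟨x, hx⟩
    constructor
    · rintro ⟨y, hy, he⟩; exact ⟨y, hy, congrArg Subtype.val he⟩
    · rintro ⟨y, hy, he⟩; exact ⟨y, hy, Subtype.ext he⟩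
  have e2 : ∀ E : Subgroup ↥(normalizerIn T D'),
      E.map ρ₂ = (im (E.map (normalizerIn T D').subtype) f).subgroupOf T := by
    intro E; ext ⟨x, hx⟩
    constructor
    · rintro ⟨y, hy, he⟩
      rw [Subgroup.mem_subgroupOf]
      exact congrArg Subtype.val he ▸ mem_im_of_mem (f := f) ⟨y, hy, rfl⟩
    · intro hm
      obtain ⟨_, ⟨y, hy, rfl⟩, he⟩ :=
        (hf.restrict (Subgroup.map_subtype_le E)).mem_im.1 (Subgroup.mem_subgroupOf.1 hm)
      exact ⟨y, hy, Subtype.ext he⟩
  have hcount : ∀ E : Subgroup ↥(normalizerIn T D'), D₀ < E →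
      fixCount X (E.map ρ₁) = fixCount X (E.map ρ₂) := by
    intro E hE
    rw [e1, e2]
    set A := E.map (normalizerIn T D').subtype with hA
    have hAN : A ≤ normalizerIn T D' := Subgroup.map_subtype_le E
    have hcard : n + 1 ≤ Nat.card A := by
      have h1 : D' < A := by
        have := (Subgroup.map_lt_map_iff_of_injective (normalizerIn T D').subtype_injective).2 hE
        rwa [hD₀, Subgroup.map_subgroupOf_eq_of_le hle] at this
      have := card_lt_of_lt h1 (hAN.trans inf_le_left)
      omega
    have hconj : F.IsConj A (im A f) := isConj_iff.2 ⟨f, hf.restrict hAN, rfl⟩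
    by_cases hK : K A
    · exact hst A _ hK hconj hcard
    · rw [eq_zero_of_not hKsub hX (hAN.trans inf_le_left) hK,
        eq_zero_of_not hKsub hX (isConj_le hconj).2 fun h => hK (hKconj (isConj_symm hconj) h)]
  have hmod := @fixCount_modEq ↥(normalizerIn T D') _ _ X X (MulAction.compHom X ρ₁)
    (MulAction.compHom X ρ₂) _ _ D₀ _ fun E hE => by
      rw [fixCount_comp, fixCount_comp]; exact hcount E hE
  rw [fixCount_comp, fixCount_comp, e1, e2, hD₀, Subgroup.map_subgroupOf_eq_of_le hle, hfi] at hmod
  have hidx : fixCount (T ⧸ D'.subgroupOf T) (D'.subgroupOf T) = D₀.index := by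
    have h1 := fixCount_quotient_self (D'.subgroupOf T)
    have hN : Subgroup.normalizer ((D'.subgroupOf T : Subgroup T) : Set T) =
        (normalizerIn T D').subgroupOf T := by
      ext g
      rw [Subgroup.mem_subgroupOf, Subgroup.mem_normalizer_iff]
      constructor
      · intro h
        refine ⟨g.2, mem_normalizer_of_conj_mem hD'T fun y hy => ?_⟩
        exact (h ⟨y, hD'T hy⟩).1 hy
      · intro h x
        exact Subgroup.mem_normalizer_iff.1 h.2 x.1
    rw [hN, card_subgroupOf_eq hD'T, card_subgroupOf_eq (show normalizerIn T D' ≤ T from inf_le_left)] at h1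
    have h2 := Subgroup.index_mul_card D₀
    rw [hD₀, card_subgroupOf_eq hle, ← h1] at h2
    exact (Nat.eq_of_mul_eq_mul_right Nat.card_pos h2).symm
  rw [hidx]; exact hmod

/-- Stabilisation: a finite set can be completed to a stable one by adding orbits of small type. -/
theorem exists_stable (hT : IsPGroup p T) (hF : F.IsSaturated p)
    (hKconj : ∀ {D D' : Subgroup Ω}, F.IsConj D D' → K D → K D')
    (hKsub : ∀ {D E : Subgroup Ω}, E ≤ D → K D → K E)
    (X : Type u) [MulAction T X] [Finite X] (hX : ∀ x : X, K ((MulAction.stabilizer T x).map T.subtype))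
    (n₀ : ℕ) (h₀ : StableFrom F K X n₀) (d : ℕ)
    (hd : ∀ D : Subgroup Ω, D ≤ T → K D → Nat.card D < n₀ → d ∣ (D.subgroupOf T).index) :
    ∃ (Y : Type u) (_ : MulAction T Y) (_ : Finite Y),
      (∀ y : Y, K ((MulAction.stabilizer T y).map T.subtype)) ∧ StableFrom F K Y 0 ∧
      Nat.card Y ≡ Nat.card X [MOD d] := by
  classical
  induction n₀ generalizing X with
  | zero => exact ⟨X, inferInstance, inferInstance, hX, h₀, rfl⟩
  | succ n ih =>
    let D₁ : Subgroup Ω → Subgroup Ω := fun D =>
      Classical.epsilon fun D'' => F.IsConj D D'' ∧ F.IsFullyNormalized D''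
    have hD₁ : ∀ D, D ≤ T → F.IsConj D (D₁ D) ∧ F.IsFullyNormalized (D₁ D) := fun D hD =>
      Classical.epsilon_spec (p := fun D'' => F.IsConj D D'' ∧ F.IsFullyNormalized D'')
        (exists_fullyNormalized hD)
    have hD₁c : ∀ {A B}, F.IsConj A B → D₁ A = D₁ B := fun {A B} h => congrArg Classical.epsilon
      (funext fun C => propext (and_congr_left fun _ =>
        ⟨fun hC => isConj_trans (isConj_symm h) hC, fun hC => isConj_trans h hC⟩))
    let W : Subgroup Ω → ℕ := fun D => fixCount (T ⧸ D.subgroupOf T) (D.subgroupOf T)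
    let tgt' : Subgroup Ω → ℕ := fun D => fixCount X ((D₁ D).subgroupOf T) + Nat.card X * W (D₁ D)
    have hW : ∀ D, D ≤ T → W D * Nat.card D = Nat.card ↥(normalizerIn T D) := by
      intro D hD
      have h1 := fixCount_quotient_self (D.subgroupOf T)
      rw [card_subgroupOf_eq hD] at h1
      refine h1.trans ((congrArg (fun H : Subgroup T => Nat.card H) ?_).trans
        (card_subgroupOf_eq (inf_le_left (a := T) (b := Subgroup.normalizer (D : Set Ω)))))
      ext g
      rw [Subgroup.mem_subgroupOf, Subgroup.mem_normalizer_iff]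
      exact ⟨fun h => ⟨g.2, mem_normalizer_of_conj_mem hD fun y hy => (h ⟨y, hD hy⟩).1 hy⟩,
        fun h x => Subgroup.mem_normalizer_iff.1 h.2 x.1⟩
    obtain ⟨Y, iY, fY, hY, hgt, heq, hcard⟩ := exists_add_orbits (G := T) (fun E => K (E.map T.subtype))
      (fun g E hE => by
        rw [map_subtype_conj]
        exact hKconj (isConj_iff.2 ⟨_, map_conjBy (Subgroup.map_subtype_le E) g.2, rfl⟩) hE)
      X hX n (fun E => tgt' (E.map T.subtype))
      (fun g E hE _ => by
        show tgt' _ = tgt' _
        simp only [tgt']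
        rw [map_subtype_conj, ← hD₁c (isConj_iff.2 ⟨_, map_conjBy (Subgroup.map_subtype_le E) g.2, rfl⟩)])
      (fun E hE hn => by
        set D' := E.map T.subtype with hD'
        have hD'T : D' ≤ T := Subgroup.map_subtype_le E
        have hEeq : E = D'.subgroupOf T := (Subgroup.comap_map_eq_self_of_injective T.subtype_injective E).symm
        have hn' : Nat.card D' = n := (Subgroup.card_map_of_injective T.subtype_injective).trans hn
        obtain ⟨hconj, hfn⟩ := hD₁ D' hD'T
        have hmod := fixCount_congr_fn hT hF hKconj hKsub hX hfn hconj hn' h₀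
        have hWpos : 0 < W (D₁ D') := by
          rcases Nat.eq_zero_or_pos (W (D₁ D')) with h | h
          · exfalso
            have := hW (D₁ D') hfn.1
            rw [h, zero_mul] at this
            exact Nat.card_pos.ne this
          · exact h
        have hWdvd : W D' ∣ W (D₁ D') := by
          have a := hW D' hD'T
          have b := hW (D₁ D') hfn.1
          rw [← isConj_card hconj] at b
          haveI := finite_of_le (S := T) hD'T
          haveI := finite_of_le (S := T) (show normalizerIn T D' ≤ T from inf_le_left)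
          haveI := finite_of_le (S := T) (show normalizerIn T (D₁ D') ≤ T from inf_le_left)
          obtain ⟨i, hi⟩ := IsPGroup.iff_card.1 (hT.to_le (show normalizerIn T D' ≤ T from inf_le_left))
          obtain ⟨j, hj⟩ := IsPGroup.iff_card.1 (hT.to_le (show normalizerIn T (D₁ D') ≤ T from inf_le_left))
          have hle : Nat.card ↥(normalizerIn T D') ≤ Nat.card ↥(normalizerIn T (D₁ D')) :=
            hfn.2 D' (isConj_symm hconj)
          have hle' : Nat.card ↥(normalizerIn T D') ∣ Nat.card ↥(normalizerIn T (D₁ D')) := by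
            rw [hi, hj] at hle ⊢
            exact pow_dvd_pow p ((Nat.pow_le_pow_iff_right (Nat.Prime.one_lt Fact.out)).1 hle)
          rw [← a, ← b] at hle'
          exact Nat.dvd_of_mul_dvd_mul_right Nat.card_pos hle'
        have hfx : fixCount X E ≤ tgt' D' := by
          refine le_trans (Finite.card_subtype_le _) (le_add_left ?_)
          exact Nat.le_mul_of_pos_right _ hWpos
        refine ⟨hfx, ?_⟩
        rw [hEeq] at hfx ⊢
        show W D' ∣ _
        refine (Nat.modEq_iff_dvd' hfx).1 (hmod.trans ?_)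
        conv_lhs => rw [← add_zero (fixCount X ((D₁ D').subgroupOf T))]
        exact Nat.ModEq.add_left _ (Nat.modEq_zero_iff_dvd.2 (hWdvd.mul_left _)).symm)
      d (fun E hE hn => by
        have := hd (E.map T.subtype) (Subgroup.map_subtype_le E) hE
          (by rw [Subgroup.card_map_of_injective T.subtype_injective, hn]; exact Nat.lt_succ_self n)
        rwa [← Subgroup.comap_map_eq_self_of_injective T.subtype_injective E])
    have h₀' : StableFrom F K Y n := by
      intro D D' hD hconj hn
      have hc := isConj_card hconj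
      obtain ⟨hDT, hD'T⟩ := isConj_le hconj
      rcases eq_or_lt_of_le hn with h | h
      · have key : ∀ A, A ≤ T → K A → Nat.card A = n → fixCount Y (A.subgroupOf T) = tgt' A := by
          intro A hA hKA hcA
          have hm : (A.subgroupOf T).map T.subtype = A := Subgroup.map_subgroupOf_eq_of_le hA
          rw [heq _ (by show K _; rw [hm]; exact hKA) (by rw [card_subgroupOf_eq hA, hcA]), hm]
        rw [key D hDT hD h.symm, key D' hD'T (hKconj hconj hD) (by omega)]
        simp only [tgt']
        rw [hD₁c hconj]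
      · rw [hgt _ (by rw [card_subgroupOf_eq hDT]; exact h),
          hgt _ (by rw [card_subgroupOf_eq hD'T]; omega)]
        exact h₀ D D' hD hconj h
    obtain ⟨Z, iZ, fZ, hZ, hZs, hZc⟩ := ih Y hY h₀' fun D hDT hD h => hd D hDT hD (h.trans (Nat.lt_succ_self n))
    exact ⟨Z, iZ, fZ, hZ, hZs, hZc.trans hcard⟩

end Cfsg.Agent.Local.FS
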