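import Cfsg.Agent.Lib.Local.FS.NormSat
import Cfsg.Agent.Lib.Fusion.Cores

/-!
`p`-stability of a fusion system is inherited by and detected in normaliser systems.
-/

set_option autoImplicit false

namespace Cfsg.Agent.Local.FS

open Cfsg Cfsg.FusionSystem Cfsg.Agent.Fusion

variable {Ω : Type*} [Group Ω] {S : Subgroup Ω} [Finite S] {F : FusionSystem S} {p : ℕ} [Fact p.Prime]

/-- The stability condition at one subgroup. -/
def QuadInCore (F : FusionSystem S) (p : ℕ) (Q : Subgroup Ω) : Prop :=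
  ∀ χ : MulAut ↥Q, χ ∈ F.autGroup Q → (∀ a : ↥Q, (χ a⁻¹) * a * (χ a⁻¹) * (χ (χ a)) = 1) →
    χ ∈ ((pCore p ↥(F.autGroup Q)).map (F.autGroup Q).subtype : Subgroup (MulAut ↥Q))

theorem pCore_map_equiv_le {A B : Type*} [Group A] [Group B] (e : A ≃* B) :
    (pCore p A).map e.toMonoidHom ≤ pCore p B := by
  haveI : ((pCore p A).map e.toMonoidHom).Normal :=
    Subgroup.Normal.map inferInstance _ e.surjective
  intro x hx
  exact le_pCore (N := (pCore p A).map e.toMonoidHom) ((isPGroup_pCore p A).map _) hx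

theorem quadInCore_of_conj {P Q : Subgroup Ω} (hPQ : F.IsConj P Q) (h : QuadInCore F p Q) :
    QuadInCore F p P := by
  obtain ⟨f, hf, hi⟩ := isConj_iff.1 hPQ
  obtain ⟨e, he⟩ := exists_equiv hf hi
  intro χ hχ hq
  have hm := congr_mem_autGroup hf hi he hχ
  obtain ⟨⟨β, hβA⟩, hβ, hβe⟩ := h (MulAut.congr e χ) hm fun b => by
    obtain ⟨a, rfl⟩ := e.surjective b
    simp only [← map_inv, MulAut.congr_apply, MulEquiv.trans_apply, MulEquiv.symm_apply_apply, ← map_mul]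
    rw [hq, map_one]
  simp only [Subgroup.coe_subtype] at hβe
  subst hβe
  let E : ↥(F.autGroup Q) ≃* ↥(F.autGroup P) :=
    ((MulEquiv.subgroupMap (MulAut.congr e) (F.autGroup P)).trans
      (MulEquiv.subgroupCongr (map_autGroup hf hi he))).symm
  refine ⟨E ⟨MulAut.congr e χ, hm⟩, pCore_map_equiv_le E (Subgroup.mem_map_of_mem E.toMonoidHom hβ), ?_⟩
  have : E.symm ⟨χ, hχ⟩ = ⟨MulAut.congr e χ, hm⟩ := rfl
  rw [← this, MulEquiv.apply_symm_apply]
  rfl

theorem quadInCore_all (h : ∀ Q, F.IsFullyNormalized Q → QuadInCore F p Q) {P : Subgroup Ω} (hP : P ≤ S) :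
    QuadInCore F p P := by
  obtain ⟨Q, hPQ, hQ⟩ := exists_fullyNormalized (F := F) hP
  exact quadInCore_of_conj hPQ (h Q hQ)

omit [Finite S] [Fact p.Prime] in
theorem autGroup_normalizerSystem_le {R Q : Subgroup Ω} {N : FusionSystem (normalizerIn S R)}
    (hN : F.IsNormalizerSystem R N) : N.autGroup Q ≤ F.autGroup Q :=
  Subgroup.closure_mono fun α (hα : _ ∈ N.Hom Q) => by
    rw [hN Q] at hα
    exact hα.1

theorem quadInCore_normalizerSystem (h : ∀ Q, F.IsFullyNormalized Q → QuadInCore F p Q) {R Q : Subgroup Ω}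
    {N : FusionSystem (normalizerIn S R)} (hN : F.IsNormalizerSystem R N) (hQ : Q ≤ S) :
    QuadInCore N p Q := by
  intro χ hχ hq
  have hle := autGroup_normalizerSystem_le (Q := Q) hN
  obtain ⟨a, ha, hae⟩ := quadInCore_all h hQ χ (hle hχ) hq
  obtain ⟨D, hD⟩ : ∃ D, D = (pCore p ↥(F.autGroup Q)).comap (Subgroup.inclusion hle) := ⟨_, rfl⟩
  haveI : D.Normal := hD ▸ inferInstance
  have hDp : IsPGroup p D := hD ▸ (isPGroup_pCore p ↥(F.autGroup Q)).comap_of_injective _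
    (Subgroup.inclusion_injective hle)
  refine ⟨⟨χ, hχ⟩, le_pCore hDp ?_, rfl⟩
  rw [hD, Subgroup.mem_comap]
  rwa [show Subgroup.inclusion hle ⟨χ, hχ⟩ = a from Subtype.ext hae.symm]

/-- A quadratic automorphism of a cyclic subgroup. -/
theorem quadInCore_of_cyclic (hS : IsPGroup p S) {Q : Subgroup Ω} (hQ : Q ≤ S) (hcyc : IsCyclic ↥Q) :
    QuadInCore F p Q := by
  intro χ hχ hq
  haveI := finite_of_le hQ
  obtain ⟨g, hg⟩ := IsCyclic.exists_generator (α := ↥Q)
  letI : CommGroup ↥Q := IsCyclic.commGroup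
  have hfix : ∀ a : ↥Q, χ (χ a * a⁻¹) = χ a * a⁻¹ := by
    intro a
    have h1 := hq a
    rw [map_inv] at h1
    have h2 : χ (χ a) = χ a * a⁻¹ * χ a :=
      calc χ (χ a) = χ a * a⁻¹ * χ a * ((χ a)⁻¹ * a * (χ a)⁻¹ * χ (χ a)) := by group
        _ = χ a * a⁻¹ * χ a := by rw [h1, mul_one]
    rw [map_mul, map_inv, h2, mul_inv_cancel_right]
  have hpow : ∀ (k : ℕ) (a : ↥Q), (χ ^ k) a = a * (χ a * a⁻¹) ^ k := by
    intro k a
    induction k with
    | zero => simp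
    | succ k ih =>
      rw [pow_succ', MulAut.mul_apply, ih, map_mul, map_pow, hfix, pow_succ]
      generalize hd : χ a * a⁻¹ = d
      rw [show χ a = d * a by rw [← hd, inv_mul_cancel_right], mul_comm d a, mul_assoc, mul_comm d]
  obtain ⟨n, hn⟩ := IsPGroup.iff_card.1 (hS.to_le hQ)
  have hχp : χ ^ p ^ n = 1 := MulEquiv.ext fun a => by
    rw [hpow, ← hn, pow_card_eq_one', mul_one, MulAut.one_apply]
  have hab : ∀ α β : MulAut ↥Q, α * β = β * α := by
    intro α β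
    refine MulEquiv.ext fun x => ?_
    obtain ⟨i, rfl⟩ := Subgroup.mem_zpowers_iff.1 (hg x)
    obtain ⟨j, hj⟩ := Subgroup.mem_zpowers_iff.1 (hg (α g))
    obtain ⟨l, hl⟩ := Subgroup.mem_zpowers_iff.1 (hg (β g))
    simp only [MulAut.mul_apply, map_zpow, ← hj, ← hl, ← zpow_mul]
    ring_nf
  haveI : (Subgroup.zpowers (⟨χ, hχ⟩ : ↥(F.autGroup Q))).Normal := ⟨fun x hx y => by
    rwa [show y * x = x * y from Subtype.ext (hab y x), mul_inv_cancel_right]⟩
  refine ⟨⟨χ, hχ⟩, le_pCore (N := Subgroup.zpowers (⟨χ, hχ⟩ : ↥(F.autGroup Q))) ?_ (Subgroup.mem_zpowers _), rfl⟩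
  rintro ⟨x, hx⟩
  obtain ⟨i, rfl⟩ := Subgroup.mem_zpowers_iff.1 hx
  refine ⟨n, Subtype.ext ?_⟩
  show ((⟨χ, hχ⟩ : ↥(F.autGroup Q)) ^ i) ^ p ^ n = 1
  rw [← zpow_natCast, ← zpow_mul, mul_comm, zpow_mul, zpow_natCast,
    show (⟨χ, hχ⟩ : ↥(F.autGroup Q)) ^ p ^ n = 1 from Subtype.ext hχp, one_zpow]

theorem stable_of_normalizers (hS : IsPGroup p S)
    (h : ∀ R : Subgroup Ω, F.IsFullyNormalized R → ¬ IsCyclic ↥R →
      ∀ N : FusionSystem (normalizerIn S R), F.IsNormalizerSystem R N →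
        ∀ Q : Subgroup Ω, N.IsFullyNormalized Q → QuadInCore N p Q)
    {R : Subgroup Ω} (hR : F.IsFullyNormalized R) : QuadInCore F p R := by
  by_cases hc : IsCyclic ↥R
  · exact quadInCore_of_cyclic hS hR.1 hc
  obtain ⟨N, hN⟩ : ∃ N, N = normSys F hR.1 := ⟨_, rfl⟩
  have hN' : F.IsNormalizerSystem R N := fun _ => by rw [hN]; rfl
  have hfn : N.IsFullyNormalized R := by
    refine ⟨le_normalizerIn hR.1, fun Q hQ => ?_⟩
    obtain ⟨φ, hφ, rfl⟩ := hQ
    rw [hN' R] at hφ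
    obtain ⟨-, -, g, hg, hφg, hgR⟩ := mem_normalizerHom.1 hφ
    have e : φ.range = R :=
      ((hg.restrict le_sup_right).im_eq_range hφg).symm.trans hgR
    rw [e]
  have he : F.autGroup R = N.autGroup R := by
    refine le_antisymm (fun α hα => ?_) (autGroup_normalizerSystem_le hN')
    refine Subgroup.subset_closure ?_
    show _ ∈ N.Hom R
    rw [hN' R]
    refine mem_normalizerHom.2 ⟨le_normalizerIn hR.1, fun x => le_normalizerIn hR.1 (SetLike.coe_mem _),
      av α, by rw [sup_idem]; exact map_of_mem_autGroup hR.1 hα, fun x => (av_coe α x).symm, im_av α⟩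
  intro χ hχ hq
  have := h R hR hc N hN' R hfn χ (he ▸ hχ) hq
  rwa [← he] at this

end Cfsg.Agent.Local.FS
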