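import Cfsg.Agent.Lib.Local.FS.StableNormalizers
import Cfsg.Agent.Lib.Local.FS.Essential

/-!
`p`-stability of a saturated fusion system is detected in the normalisers of centric radical subgroups.
-/

set_option autoImplicit false

namespace Cfsg.Agent.Local.FS

open Cfsg Cfsg.FusionSystem Cfsg.Agent.Fusion

variable {Ω : Type*} [Group Ω] {S : Subgroup Ω} [Finite S] {F : FusionSystem S} {p : ℕ} [Fact p.Prime]

/-- For every subgroup of `S` a conjugate has all its automorphisms extended to a fully normalised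
centric radical subgroup. -/
theorem exists_radical_cover (hS : IsPGroup p S) (hF : F.IsSaturated p) :
    ∀ (n : ℕ) (Q : Subgroup Ω), Q ≤ S → Nat.card ↥S - Nat.card ↥Q = n →
      ∃ R Q' : Subgroup Ω, F.IsCentric R ∧ F.IsRadical p R ∧ F.IsFullyNormalized R ∧ F.IsConj Q Q' ∧
        Q' ≤ R ∧ ∀ α ∈ F.autGroup Q', ∃ g, Map F R g ∧ im R g = R ∧ ∀ x ∈ Q', g x = av α x := by
  intro n
  induction n using Nat.strong_induction_on with
  | _ n ih =>
  intro Q₀ hQ₀ hn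
  obtain ⟨Q, hQ₀Q, hfn⟩ := exists_fullyNormalized (F := F) hQ₀
  have hQ : Q ≤ S := hfn.1
  rw [isConj_card hQ₀Q] at hn
  suffices h : ∃ R Q' : Subgroup Ω, F.IsCentric R ∧ F.IsRadical p R ∧ F.IsFullyNormalized R ∧ F.IsConj Q Q' ∧
      Q' ≤ R ∧ ∀ α ∈ F.autGroup Q', ∃ g, Map F R g ∧ im R g = R ∧ ∀ x ∈ Q', g x = av α x by
    obtain ⟨R, Q', h1, h2, h3, h4, h5⟩ := h
    exact ⟨R, Q', h1, h2, h3, isConj_trans hQ₀Q h4, h5⟩
  by_cases hcr : F.IsCentric Q ∧ F.IsRadical p Q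
  · exact ⟨Q, Q, hcr.1, hcr.2, hfn, isConj_refl hQ, le_rfl,
      fun α hα => ⟨av α, map_of_mem_autGroup hQ hα, im_av α, fun _ _ => rfl⟩⟩
  haveI := mulAut_finite_of_le hQ
  obtain ⟨hfc, hfa⟩ := fc_fa_of_fn hS hF hfn
  obtain ⟨K, hK⟩ : ∃ K, K = (pCore p ↥(F.autGroup Q)).map (F.autGroup Q).subtype := ⟨_, rfl⟩
  have hKA : K ≤ F.autGroup Q := hK ▸ Subgroup.map_subtype_le _
  have hKS : K ≤ autInducedBy S Q := by
    obtain ⟨-, T, hT⟩ := hfa
    rw [hK]
    rintro _ ⟨a, ha, rfl⟩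
    have h2 : a ∈ (T : Subgroup ↥(F.autGroup Q)) := pCore_le_sylow T ha
    rw [hT] at h2
    exact h2
  have hKconj : ∀ α ∈ F.autGroup Q, ∀ β ∈ K, α * β * α⁻¹ ∈ K := by
    intro α hα β hβ
    rw [hK] at hβ ⊢
    obtain ⟨b, hb, rfl⟩ := hβ
    obtain ⟨a, ha⟩ : ∃ a : ↥(F.autGroup Q), (a : MulAut Q) = α := ⟨⟨α, hα⟩, rfl⟩
    have hn' : (pCore p ↥(F.autGroup Q)).Normal := inferInstance
    refine Subgroup.mem_map.2 ⟨a * b * a⁻¹, hn'.conj_mem b hb a, ?_⟩
    simp only [map_mul, map_inv, Subgroup.coe_subtype, ha]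
  haveI hIn : ((Inn Q).subgroupOf (F.autGroup Q)).Normal := by
    refine ⟨fun a ha g => ?_⟩
    rw [Subgroup.mem_subgroupOf] at ha ⊢
    obtain ⟨y, hy, hya⟩ := mem_Inn.1 ha
    refine mem_Inn.2 ⟨av (g : MulAut Q) y, av_mem _ hy, fun x hx => ?_⟩
    have hm := map_of_mem_autGroup hQ g.2
    show av ((g : MulAut Q) * (a : MulAut Q) * (g : MulAut Q)⁻¹) x = _
    rw [av_mul _ _ hx, av_mul _ _ (av_mem _ hx), hya _ (av_mem _ hx), hm.map_conj hy (av_mem _ hx),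
      av_av_inv _ hx]
  have hInnK : Inn Q ≤ K := fun β hβ => by
    rw [hK]
    exact ⟨⟨β, inn_le_autGroup hQ hβ⟩, le_pCore (N := (Inn Q).subgroupOf (F.autGroup Q))
      ((isPGroup_inn hS hQ).comap_subtype (K := F.autGroup Q)) hβ, rfl⟩
  obtain ⟨P, hP⟩ : ∃ P, P = (K.comap (normalizerHomS S Q)).map (normalizerIn S Q).subtype := ⟨_, rfl⟩
  have hPmem : ∀ g : Ω, g ∈ P ↔ g ∈ normalizerIn S Q ∧ ∃ β ∈ K, ∀ x ∈ Q, av β x = g * x * g⁻¹ := by
    intro g
    rw [hP]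
    constructor
    · rintro ⟨g, hg, rfl⟩
      exact ⟨g.2, _, hg, fun x hx => normalizerHomS_apply g hx⟩
    · rintro ⟨hg, β, hβ, he⟩
      refine ⟨⟨g, hg⟩, ?_, rfl⟩
      show normalizerHomS S Q ⟨g, hg⟩ ∈ K
      rwa [show normalizerHomS S Q ⟨g, hg⟩ = β from
        aut_ext fun x hx => by rw [normalizerHomS_apply _ hx, he x hx]]
  have hPS : P ≤ S := fun g hg => ((hPmem g).1 hg).1.1
  have hQP : Q ≤ P := fun g hg => by
    obtain ⟨β, hβ, hβi⟩ := exists_aut_conj (P := Q) (Subgroup.le_normalizer hg)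
    exact (hPmem g).2 ⟨le_normalizerIn hQ hg, β, hInnK (mem_Inn.2 ⟨g, hg, hβ⟩), hβ⟩
  have hCP : centralizerIn S Q ≤ P := fun g hg =>
    (hPmem g).2 ⟨centralizerIn_le_normalizerIn hg, 1, one_mem _, fun x hx => by
      rw [av_one hx, ← (mem_centralizerIn.1 hg).2 x hx]; simp⟩
  have hlt : Q < P := by
    refine lt_of_le_of_ne hQP fun he => hcr ?_
    have hc : F.IsCentric Q := centric_of_fc hfc (he ▸ hCP)
    refine ⟨hc, hQ, ?_⟩
    rw [← hK]
    refine le_antisymm (fun β hβ => ?_) hInnK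
    obtain ⟨g, hg, hgβ⟩ := mem_autInducedBy.1 (hKS hβ)
    have hgP : g ∈ P := (hPmem g).2 ⟨⟨hg, mem_normalizer_of_conj_aut hgβ⟩, β, hβ, hgβ⟩
    exact mem_Inn.2 ⟨g, he ▸ hgP, hgβ⟩
  haveI := finite_of_le hPS
  have hext : ∀ α ∈ F.autGroup Q, ∃ β ∈ F.autGroup P, ∀ x ∈ Q, av β x = av α x := by
    intro α hα
    have hm := map_of_mem_autGroup hQ hα
    obtain ⟨g, hg, hgα⟩ := (receptive_iff.1 (receptive_of_fc hS hF hfc)).2 Q _ hm (im_av α)
    have hPN : P ≤ Nf S Q (av α) := by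
      intro a ha
      obtain ⟨haN, β, hβ, haβ⟩ := (hPmem a).1 ha
      obtain ⟨h, hh, hhe⟩ := mem_autInducedBy.1 (hKS (hKconj α hα β hβ))
      refine ⟨haN.1, haN.2, h, hh, fun x hx => ?_⟩
      have h1 := hhe _ (av_mem α hx)
      rw [av_mul _ _ (av_mem α hx), av_inv_av α hx, av_mul _ _ hx, haβ x hx] at h1
      exact h1
    have hgP := hg.restrict hPN
    have himQ : im Q g = Q := by rw [im_congr hgα, im_av]
    have hmemP : ∀ a ∈ P, g a ∈ P := by
      intro a ha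
      obtain ⟨haN, β, hβ, haβ⟩ := (hPmem a).1 ha
      refine (hPmem _).2 ⟨⟨hgP.mem ha, ?_⟩, α * β * α⁻¹, hKconj α hα β hβ, fun x hx => ?_⟩
      · have := hgP.mem_normalizer hQP ha haN.2
        rw [himQ] at this
        exact this.2
      · have hz : av α⁻¹ x ∈ Q := av_mem α⁻¹ hx
        calc av (α * β * α⁻¹) x = av α (av β (av α⁻¹ x)) := by rw [av_mul _ _ hx, av_mul _ _ hz]
          _ = g (a * av α⁻¹ x * a⁻¹) := by
            rw [haβ _ hz, ← hgα _ (conj_mem_of_normalizer haN.2 hz)]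
          _ = g a * x * (g a)⁻¹ := by
            rw [hgP.map_conj ha (hQP hz), hgα _ hz, av_av_inv α hx]
    have himP : im P g = P := by
      refine hgP.im_eq hmemP fun y hy => ?_
      exact hgP.surj_of_card_le hPS hmemP le_rfl y hy
    obtain ⟨β, hβ, hβe⟩ := exists_aut hgP himP
    exact ⟨β, hβ, fun x hx => by rw [hβe x (hQP hx), hgα x hx]⟩
  have hmeas : Nat.card ↥S - Nat.card ↥P < n := by
    have h1 := card_lt_of_lt hlt hPS
    have h2 := Subgroup.card_le_of_le hPS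
    omega
  obtain ⟨R, P', hRc, hRr, hRn, hPP', hP'R, hcov⟩ := ih _ hmeas P hPS rfl
  obtain ⟨f, hf, hfi⟩ := isConj_iff.1 hPP'
  have hfQ := hf.restrict hQP
  refine ⟨R, im Q f, hRc, hRr, hRn, isConj_iff.2 ⟨f, hfQ, rfl⟩,
    (im_mono hQP).trans (hfi ▸ hP'R), fun α' hα' => ?_⟩
  obtain ⟨e, he⟩ := exists_equiv hfQ rfl
  obtain ⟨eP, heP⟩ := exists_equiv hf hfi
  rw [← map_autGroup hfQ rfl he] at hα'
  obtain ⟨α, hα, rfl⟩ := hα'
  obtain ⟨β, hβ, hβα⟩ := hext α hα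
  obtain ⟨g, hg, hgi, hgβ⟩ := hcov _ (congr_mem_autGroup hf hfi heP hβ)
  refine ⟨g, hg, hgi, fun y hy => ?_⟩
  obtain ⟨x, hx, rfl⟩ := hfQ.mem_im.1 hy
  rw [hgβ _ (hfi.le (mem_im_of_mem (hQP hx))), av_congr_apply heP β (hQP hx), hβα x hx]
  exact (av_congr_apply he α hx).symm

/-- Stability in the normalisers of the fully normalised centric radical subgroups gives stability. -/
theorem stable_of_radical_normalizers (hS : IsPGroup p S) (hF : F.IsSaturated p)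
    (h : ∀ R : Subgroup Ω, F.IsFullyNormalized R → F.IsCentric R → F.IsRadical p R →
      ∀ N : FusionSystem (normalizerIn S R), F.IsNormalizerSystem R N →
        ∀ Q : Subgroup Ω, N.IsFullyNormalized Q → QuadInCore N p Q)
    {Q : Subgroup Ω} (hQ : F.IsFullyNormalized Q) : QuadInCore F p Q := by
  obtain ⟨R, Q', hRc, hRr, hRn, hQQ', hQ'R, hcov⟩ := exists_radical_cover hS hF _ Q hQ.1 rfl
  obtain ⟨N, hN⟩ : ∃ N, N = normSys F hRn.1 := ⟨_, rfl⟩
  have hN' : F.IsNormalizerSystem R N := fun _ => by rw [hN]; rfl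
  haveI := finite_of_le (show normalizerIn S R ≤ S from inf_le_left)
  have hQ'N : Q' ≤ normalizerIn S R := hQ'R.trans (le_normalizerIn hRn.1)
  have he : N.autGroup Q' = F.autGroup Q' := by
    refine le_antisymm (autGroup_normalizerSystem_le hN') fun α hα => Subgroup.subset_closure ?_
    show _ ∈ N.Hom Q'
    rw [hN' Q']
    obtain ⟨g, hg, hgi, hge⟩ := hcov α hα
    refine mem_normalizerHom.2 ⟨hQ'N, fun x => hQ'N (SetLike.coe_mem _), g,
      by rw [sup_eq_right.2 hQ'R]; exact hg, fun x => ?_, hgi⟩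
    rw [hge x x.2, av_coe]; rfl
  refine quadInCore_of_conj hQQ' fun χ hχ hq => ?_
  have := quadInCore_all (F := N) (h R hRn hRc hRr N hN') hQ'N χ (he ▸ hχ) hq
  rwa [he] at this

end Cfsg.Agent.Local.FS
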