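import Cfsg.Agent.Lib.Local.FS.StableConstrained

/-!
Stability of a group and stability of its fusion system.
-/

set_option autoImplicit false

universe u

namespace Cfsg.Agent.Local.FS

open Cfsg Cfsg.FusionSystem Cfsg.Agent.Fusion
open scoped commutatorElement

variable {G : Type u} [Group G] [Finite G] {p : ℕ} [Fact p.Prime] {P : Subgroup G}

omit [Fact p.Prime] in
/-- The identity for a quadratic automorphism induced by conjugation. -/
theorem quad_identity_iff {Q : Subgroup G} {g : G} {χ : MulAut ↥Q}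
    (hχ : ∀ a : Q, ((χ a : Q) : G) = g * a * g⁻¹) :
    (∀ a : ↥Q, (χ a⁻¹) * a * (χ a⁻¹) * (χ (χ a)) = 1) ↔
      ⁅⁅Q, Subgroup.zpowers g⁆, Subgroup.zpowers g⁆ = ⊥ := by
  have key : ∀ a : Q, (χ a⁻¹) * a * (χ a⁻¹) * (χ (χ a)) = 1 ↔ Commute g ⁅(a : G)⁻¹, g⁆ := by
    intro a
    have e : (((χ a⁻¹) * a * (χ a⁻¹) * (χ (χ a)) : Q) : G) = ⁅(a : G)⁻¹, g⁆⁻¹ * (g * ⁅(a : G)⁻¹, g⁆ * g⁻¹) := by
      simp only [Subgroup.coe_mul, hχ, Subgroup.coe_inv, commutatorElement_def]
      group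
    rw [← Subtype.coe_inj, e, OneMemClass.coe_one, inv_mul_eq_one, eq_mul_inv_iff_mul_eq]
    exact ⟨fun h => h.symm, fun h => h.eq.symm⟩
  constructor
  · intro h
    have hc : ∀ x ∈ Q, Commute g ⁅x, g⁆ := fun x hx => by
      simpa using (key ⟨x, hx⟩⁻¹).1 (h _)
    have hpow : ∀ x ∈ Q, ∀ i : ℕ, Commute g ⁅x, g ^ i⁆ := by
      intro x hx i
      induction i with
      | zero => simp
      | succ i ih =>
        have e : ⁅x, g ^ (i + 1)⁆ = ⁅x, g ^ i⁆ * (g ^ i * ⁅x, g⁆ * (g ^ i)⁻¹) := by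
          simp only [commutatorElement_def, pow_succ]; group
        rw [e, ((hc x hx).pow_left i).eq, mul_inv_cancel_right]
        exact ih.mul_right (hc x hx)
    have hle : ⁅Q, Subgroup.zpowers g⁆ ≤ Subgroup.centralizer {g} := by
      refine Subgroup.commutator_le.2 fun x hx z hz => Subgroup.mem_centralizer_singleton_iff.2 ?_
      obtain ⟨i, rfl⟩ := (mem_powers_iff_mem_zpowers).2 hz
      exact (hpow x hx i).eq.symm
    rw [eq_bot_iff]
    refine Subgroup.commutator_le.2 fun x hx z hz => Subgroup.mem_bot.2 (commutatorElement_eq_one_iff_commute.2 ?_)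
    obtain ⟨i, rfl⟩ := Subgroup.mem_zpowers_iff.1 hz
    exact (show Commute x g from Subgroup.mem_centralizer_singleton_iff.1 (hle hx)).zpow_right i
  · intro h a
    refine (key a).2 (commutatorElement_eq_one_iff_commute.1 (Subgroup.mem_bot.1 (h ▸ ?_))).symm
    exact Subgroup.commutator_mem_commutator
      (Subgroup.commutator_mem_commutator (Q.inv_mem a.2) (Subgroup.mem_zpowers g)) (Subgroup.mem_zpowers g)

/-- The `p`-core of the automizer in the system and in the group. -/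
theorem mem_pCore_autGroup_iff {Q : Subgroup G} (hQ : Q ≤ P) {g : G}
    (hg : g ∈ Subgroup.normalizer (Q : Set G)) {χ : MulAut ↥Q} (hχ : ∀ a : Q, ((χ a : Q) : G) = g * a * g⁻¹) :
    χ ∈ ((pCore p ↥((groupFusionSystem P).autGroup Q)).map ((groupFusionSystem P).autGroup Q).subtype :
        Subgroup (MulAut ↥Q)) ↔
      ∃ D : Subgroup G, D ≤ Subgroup.normalizer (Q : Set G) ∧
        Subgroup.normalizer (Q : Set G) ≤ Subgroup.normalizer (D : Set G) ∧
        (∀ d ∈ D, ∃ k, d ^ p ^ k ∈ Subgroup.centralizer (Q : Set G)) ∧ g ∈ D := by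
  set N := Subgroup.normalizer (Q : Set G) with hN
  set A := (groupFusionSystem P).autGroup Q with hA
  have hex : ∀ n : N, ∃ α : A, ∀ x ∈ Q, av (α : MulAut Q) x = n * x * (n : G)⁻¹ := by
    intro n
    obtain ⟨α, hα, hK⟩ := exists_aut_conj n.2
    exact ⟨⟨α, by rw [hA, autGroup_group hQ]; exact hK ⊤ trivial⟩, hα⟩
  choose f hf using hex
  have hext : ∀ {α β : MulAut Q}, (∀ x ∈ Q, av α x = av β x) → α = β := fun {α β} h =>
    MulEquiv.ext fun x => Subtype.ext (by
      have := h x x.2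
      rwa [av_coe, av_coe] at this)
  let φ : N →* A := MonoidHom.mk' f fun a b => Subtype.ext (hext fun x hx => by
    rw [Subgroup.coe_mul, av_mul _ _ hx, hf (a * b) x hx, hf b x hx,
      hf a _ (conj_mem_of_normalizer b.2 hx), Subgroup.coe_mul]; group)
  have hφs : Function.Surjective φ := by
    rintro ⟨α, hα⟩
    rw [hA, autGroup_group hQ] at hα
    obtain ⟨n, -, hn⟩ := mem_autInducedBy.1 hα
    have hnN : n ∈ N := mem_normalizer_of_cj_le (by
      rintro _ ⟨x, hx, rfl⟩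
      show n * x * n⁻¹ ∈ Q
      rw [← hn x hx]; exact av_mem α hx)
    exact ⟨⟨n, hnN⟩, Subtype.ext (hext fun x hx => (hf _ x hx).trans (hn x hx).symm)⟩
  have hker : ∀ n : N, φ n = 1 ↔ (n : G) ∈ Subgroup.centralizer (Q : Set G) := by
    intro n
    rw [Subgroup.mem_centralizer_iff, Subtype.ext_iff]
    refine ⟨fun h x hx => ?_, fun h => hext fun x hx => ?_⟩
    · have h1 := hf n x hx
      rw [show (f n : MulAut Q) = 1 from h, av_one hx, eq_mul_inv_iff_mul_eq] at h1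
      exact h1
    · show av (f n : MulAut Q) x = av (1 : MulAut Q) x
      rw [hf n x hx, av_one hx, ← h x hx, mul_inv_cancel_right]
  have hχφ : χ = (φ ⟨g, hg⟩ : MulAut Q) := hext fun x hx => by
    rw [av_apply χ hx, hχ]; exact (hf ⟨g, hg⟩ x hx).symm
  constructor
  · rintro ⟨a, ha, hae⟩
    refine ⟨((pCore p A).comap φ).map N.subtype, Subgroup.map_subtype_le _, fun n hn => ?_, fun d hd => ?_, ?_⟩
    · refine mem_normalizer_of_cj_le ?_
      rintro _ ⟨_, ⟨d, hd, rfl⟩, rfl⟩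
      exact ⟨⟨n, hn⟩ * d * ⟨n, hn⟩⁻¹,
        (inferInstance : ((pCore p A).comap φ).Normal).conj_mem d hd ⟨n, hn⟩, rfl⟩
    · obtain ⟨d, hd, rfl⟩ := hd
      obtain ⟨k, hk⟩ := isPGroup_pCore p A ⟨φ d, hd⟩
      refine ⟨k, ?_⟩
      have := (hker (d ^ p ^ k)).1 (by rw [map_pow]; exact congrArg Subtype.val hk)
      rwa [Subgroup.coe_pow] at this
    · refine ⟨⟨g, hg⟩, ?_, rfl⟩
      show φ ⟨g, hg⟩ ∈ pCore p A
      rwa [← show a = φ ⟨g, hg⟩ from Subtype.ext (hae.trans hχφ)]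
  · rintro ⟨D, hDN, hND, hDp, hgD⟩
    haveI : (D.subgroupOf N).Normal := (Subgroup.normal_subgroupOf_iff_le_normalizer hDN).2 hND
    haveI : ((D.subgroupOf N).map φ).Normal := Subgroup.Normal.map inferInstance φ hφs
    refine ⟨φ ⟨g, hg⟩, le_pCore (N := (D.subgroupOf N).map φ) ?_ ⟨⟨g, hg⟩, hgD, rfl⟩, hχφ.symm⟩
    rintro ⟨_, d, hd, rfl⟩
    obtain ⟨k, hk⟩ := hDp _ hd
    refine ⟨k, Subtype.ext ?_⟩
    show φ d ^ p ^ k = 1
    rw [← map_pow, hker, Subgroup.coe_pow]
    exact hk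

/-- The condition on the fusion system gives stability of the group. -/
theorem isNormalizerPStable_of_system (hP : SylIn p P ⊤)
    (hst : ∀ Q : Subgroup G, (groupFusionSystem P).IsFullyNormalized Q → ∀ χ : MulAut ↥Q,
      χ ∈ (groupFusionSystem P).autGroup Q → (∀ a : ↥Q, (χ a⁻¹) * a * (χ a⁻¹) * (χ (χ a)) = 1) →
      χ ∈ ((pCore p ↥((groupFusionSystem P).autGroup Q)).map ((groupFusionSystem P).autGroup Q).subtype :
        Subgroup (MulAut ↥Q))) :
    IsNormalizerPStable p G := by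
  intro X hX g hg hq
  obtain ⟨c₁, -, hc₁⟩ := hP.conj_le hX le_top
  obtain ⟨c₂, hle, hsyl⟩ := exists_conj_sylIn_normalizer hP hc₁
  rw [cj_cj] at hle hsyl
  set c := c₂ * c₁
  set Q := cj X c
  have hfn : (groupFusionSystem P).IsFullyNormalized Q := (fn_group_iff hP hle).2 hsyl
  set e : G ≃* G := MulAut.conj c
  have hnorm : cj (Subgroup.normalizer (X : Set G)) c = Subgroup.normalizer (Q : Set G) := cj_normalizer X c
  set g' := c * g * c⁻¹
  have hg' : g' ∈ Subgroup.normalizer (Q : Set G) := hnorm ▸ conj_mem_cj hg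
  have hq' : ⁅⁅Q, Subgroup.zpowers g'⁆, Subgroup.zpowers g'⁆ = ⊥ := by
    have h1 := congrArg (Subgroup.map e.toMonoidHom) hq
    rwa [Subgroup.map_commutator, Subgroup.map_commutator, Subgroup.map_bot, MonoidHom.map_zpowers] at h1
  obtain ⟨χ, hχ, hK⟩ := exists_aut_conj hg'
  have hχ' : ∀ a : Q, ((χ a : Q) : G) = g' * a * g'⁻¹ := fun a => by rw [← av_coe]; exact hχ a a.2
  obtain ⟨D, hDN, hND, hDp, hgD⟩ := (mem_pCore_autGroup_iff hle hg' hχ').1
    (hst Q hfn χ (by rw [autGroup_group hle]; exact hK ⊤ trivial) ((quad_identity_iff hχ').2 hq'))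
  refine (mem_pCore_automizer_iff X g hg).2 ⟨cj D c⁻¹, ?_, ?_, ?_, ?_⟩
  · have h1 := cj_mono hDN c⁻¹
    rwa [← hnorm, cj_cj_inv] at h1
  · have h1 := cj_mono hND c⁻¹
    rwa [← hnorm, cj_cj_inv, cj_normalizer] at h1
  · intro d hd
    rw [mem_cj, inv_inv] at hd
    obtain ⟨k, hk⟩ := hDp _ hd
    refine ⟨k, Subgroup.mem_centralizer_iff.2 fun y hy => ?_⟩
    rw [conj_pow] at hk
    have h1 := congrArg (fun t => c⁻¹ * t * c) (Subgroup.mem_centralizer_iff.1 hk _ (conj_mem_cj (g := c) hy))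
    simpa [mul_assoc] using h1
  · rw [mem_cj, inv_inv]
    exact hgD

/-- Stability of the group gives the condition on its fusion system. -/
theorem system_of_isNormalizerPStable (hP : IsPGroup p P) (h : IsNormalizerPStable p G) :
    ∀ Q : Subgroup G, (groupFusionSystem P).IsFullyNormalized Q → ∀ χ : MulAut ↥Q,
      χ ∈ (groupFusionSystem P).autGroup Q → (∀ a : ↥Q, (χ a⁻¹) * a * (χ a⁻¹) * (χ (χ a)) = 1) →
      χ ∈ ((pCore p ↥((groupFusionSystem P).autGroup Q)).map ((groupFusionSystem P).autGroup Q).subtype :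
        Subgroup (MulAut ↥Q)) := by
  intro Q hQ χ hχ hid
  obtain ⟨-, -, g, hg⟩ := map_group_iff.1 (map_of_mem_autGroup hQ.1 hχ)
  have hgN : g ∈ Subgroup.normalizer (Q : Set G) := mem_normalizer_of_cj_le (by
    rintro _ ⟨x, hx, rfl⟩
    show g * x * g⁻¹ ∈ Q
    rw [← hg x hx]; exact av_mem χ hx)
  have hχ' : ∀ a : Q, ((χ a : Q) : G) = g * a * g⁻¹ := fun a => by rw [← av_coe]; exact hg a a.2
  exact (mem_pCore_autGroup_iff hQ.1 hgN hχ').2 ((mem_pCore_automizer_iff Q g hgN).1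
    (h Q (hP.to_le hQ.1) g hgN ((quad_identity_iff hχ').1 hid)))

/-- The fusion system of a stable group is constrained. -/
theorem group_isConstrained (hp2 : p ≠ 2) (hP : SylIn p P ⊤) (h : IsNormalizerPStable p G) :
    (groupFusionSystem P).IsConstrained p := by
  obtain ⟨⟨Q, hQ, hc⟩, -⟩ := stable_constrained hp2 _ G P le_rfl hP h
  refine ⟨group_saturated hP, Q, hQ, hQ.1, fun R hR => ?_⟩
  rw [eq_of_isConj_stronglyClosed (normal_stronglyClosed hQ) hR]
  exact hc

/-- The fusion system of a stable group on a nontrivial Sylow subgroup has nontrivial core. -/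
theorem group_core_ne_bot (hp2 : p ≠ 2) (hP : SylIn p P ⊤) (h : IsNormalizerPStable p G) (h1 : P ≠ ⊥) :
    (groupFusionSystem P).core ≠ ⊥ := by
  obtain ⟨-, hW⟩ := stable_constrained hp2 _ G P le_rfl hP h
  exact fun he => zFam_comm_ne_bot hP.isPGroup h1 (le_bot_iff.1 (he ▸ le_sSup hW))

end Cfsg.Agent.Local.FS
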