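import Cfsg.Agent.Lib.Local.FS.EssentialSL2
import Cfsg.Agent.Lib.Solv.RankTwoAction

/-!
Two non-commuting transvections of a plane generate a split torus.
-/

set_option autoImplicit false

namespace Cfsg.Agent.Local.FS.Torus

open Cfsg Cfsg.Agent.Local.FS

variable {p : ℕ} [hp : Fact p.Prime] {V : Type*} [Group V] [Finite V] {G : Type*} [Group G]

/-- An element of order `p` moved outside the normal `p`-subgroups has a non-commuting conjugate. -/
theorem exists_noncommuting (φ : G →* MulAut V) (hker : IsPGroup p φ.ker) {a : G} (hap : φ a ^ p = 1)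
    (hK : ∀ K : Subgroup G, K.Normal → IsPGroup p K → a ∉ K) :
    ∃ g : G, φ a * φ (g * a * g⁻¹) ≠ φ (g * a * g⁻¹) * φ a := by
  by_contra hcon
  push Not at hcon
  set s : Set (MulAut V) := Set.range fun g : G => φ (g * a * g⁻¹) with hs
  have hcomm : ∀ x ∈ s, ∀ y ∈ s, x * y = y * x := by
    rintro _ ⟨g, rfl⟩ _ ⟨h, rfl⟩
    have e := hcon (g⁻¹ * h)
    simp only [map_mul, map_inv] at e ⊢
    calc φ g * φ a * (φ g)⁻¹ * (φ h * φ a * (φ h)⁻¹)
        = φ g * (φ a * ((φ g)⁻¹ * φ h * φ a * ((φ g)⁻¹ * φ h)⁻¹)) * (φ g)⁻¹ := by group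
      _ = φ g * ((φ g)⁻¹ * φ h * φ a * ((φ g)⁻¹ * φ h)⁻¹ * φ a) * (φ g)⁻¹ := by rw [e]
      _ = φ h * φ a * (φ h)⁻¹ * (φ g * φ a * (φ g)⁻¹) := by group
  haveI hK1 := Subgroup.isMulCommutative_closure hcomm
  have hKp : IsPGroup p (Subgroup.closure s) := by
    intro x
    refine ⟨1, ?_⟩
    rw [pow_one]
    refine Subtype.ext ?_
    obtain ⟨x, hx⟩ := x
    show x ^ p = 1
    induction hx using Subgroup.closure_induction with
    | mem x hx =>
      obtain ⟨g, rfl⟩ := hx
      show φ (g * a * g⁻¹) ^ p = 1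
      rw [map_mul, map_mul, map_inv, conj_pow, hap, mul_one, mul_inv_cancel]
    | one => exact one_pow p
    | mul x y hx hy ihx ihy =>
      rw [(show Commute x y from congrArg Subtype.val (hK1.is_comm.comm ⟨x, hx⟩ ⟨y, hy⟩)).mul_pow,
        ihx, ihy, one_mul]
    | inv x _ ihx => rw [inv_pow, ihx, inv_one]
  refine hK ((Subgroup.closure s).comap φ) ⟨fun x hx g => ?_⟩ (hKp.comap_of_ker_isPGroup φ hker)
    (Subgroup.subset_closure ⟨1, by simp⟩)
  show φ (g * x * g⁻¹) ∈ Subgroup.closure s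
  have hsub : ∀ u ∈ Subgroup.closure s, φ g * u * (φ g)⁻¹ ∈ Subgroup.closure s := by
    intro u hu
    induction hu using Subgroup.closure_induction with
    | mem u hu =>
      obtain ⟨h, rfl⟩ := hu
      refine Subgroup.subset_closure ⟨g * h, ?_⟩
      simp only [map_mul, map_inv, mul_inv_rev, mul_assoc]
    | one => simp
    | mul u v _ _ ihu ihv =>
      have := mul_mem ihu ihv
      rwa [show φ g * u * (φ g)⁻¹ * (φ g * v * (φ g)⁻¹) = φ g * (u * v) * (φ g)⁻¹ by group] at this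
    | inv u _ ihu =>
      have := inv_mem ihu
      rwa [show (φ g * u * (φ g)⁻¹)⁻¹ = φ g * u⁻¹ * (φ g)⁻¹ by group] at this
  rw [map_mul, map_mul, map_inv]
  exact hsub _ hx

variable (hc : ∀ x y : V, x * y = y * x) (hexp : ∀ x : V, x ^ p = 1) (hcard : Nat.card V = p ^ 2)

include hc hexp hcard in
/-- The fixed points of an element of order `p` form the line of any non-trivial fixed point. -/
theorem mem_line {a : MulAut V} (ha : orderOf a = p) {e : V} (he : e ≠ 1) (hae : a e = e) {x : V}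
    (hx : a x = x) : x ∈ Subgroup.zpowers e := by
  obtain ⟨u, -, -, huf, -⟩ := exists_fixed_line hc hcard ha
  have h1 : orderOf u = p := orderOf_eq_prime (hexp u) fun h => he (by
    have := huf e hae
    rwa [h, Subgroup.zpowers_one_eq_bot, Subgroup.mem_bot] at this)
  have h2 : Subgroup.zpowers e = Subgroup.zpowers u :=
    Subgroup.eq_of_le_of_card_ge (Subgroup.zpowers_le.2 (huf e hae))
      (by rw [Nat.card_zpowers, Nat.card_zpowers, h1, orderOf_eq_prime (hexp e) he])
  exact h2 ▸ huf x hx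

include hc hexp hcard in
theorem displacement {a : MulAut V} (ha : orderOf a = p) {e : V} (he : e ≠ 1) (hae : a e = e) (x : V) :
    a x * x⁻¹ ∈ Subgroup.zpowers e := by
  obtain ⟨u, hu, hau, -, hur⟩ := exists_fixed_line hc hcard ha
  have h2 : Subgroup.zpowers u = Subgroup.zpowers e :=
    Subgroup.eq_of_le_of_card_ge (Subgroup.zpowers_le.2 (mem_line hc hexp hcard ha he hae hau))
      (by rw [Nat.card_zpowers, Nat.card_zpowers, orderOf_eq_prime (hexp e) he,
        orderOf_eq_prime (hexp u) hu])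
  exact h2 ▸ hur x

include hc hexp hcard in
theorem commute_of_same_line {a b : MulAut V} (ha : orderOf a = p) (hb : orderOf b = p) {e : V} (he : e ≠ 1)
    (hae : a e = e) (hbe : b e = e) : a * b = b * a := by
  refine MulEquiv.ext fun x => ?_
  rw [MulAut.mul_apply, MulAut.mul_apply]
  obtain ⟨i, hi⟩ := Subgroup.mem_zpowers_iff.1 (displacement hc hexp hcard ha he hae x)
  obtain ⟨j, hj⟩ := Subgroup.mem_zpowers_iff.1 (displacement hc hexp hcard hb he hbe x)
  have hax : a x = e ^ i * x := by rw [hi, inv_mul_cancel_right]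
  have hbx : b x = e ^ j * x := by rw [hj, inv_mul_cancel_right]
  rw [hbx, map_mul, map_zpow, hae, hax, map_mul, map_zpow, hbe, hbx, ← mul_assoc, ← mul_assoc,
    ← zpow_add, ← zpow_add, add_comm]

include hc hexp hcard in
/-- No line is invariant under two non-commuting elements of order `p`. -/
theorem no_invariant_line {a b : MulAut V} (ha : orderOf a = p) (hb : orderOf b = p) (hab : a * b ≠ b * a)
    {e : V} (he : e ≠ 1) (hae : a e ∈ Subgroup.zpowers e) (hbe : b e ∈ Subgroup.zpowers e) : False := by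
  have key : ∀ c : MulAut V, orderOf c = p → c e ∈ Subgroup.zpowers e → c e = e := by
    intro c hco hce
    obtain ⟨i, hi⟩ := Subgroup.mem_zpowers_iff.1 hce
    have hiter : ∀ k : ℕ, (c ^ k) e = e ^ i ^ k := by
      intro k
      induction k with
      | zero => simp
      | succ k ih => rw [pow_succ, MulAut.mul_apply, ← hi, map_zpow, ih, ← zpow_mul, ← pow_succ]
    have h := hiter p
    rw [← hco, pow_orderOf_eq_one, hco, MulAut.one_apply] at h
    have ho : orderOf e = p := orderOf_eq_prime (hexp e) he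
    have h' : (1 : ℤ) ≡ i ^ p [ZMOD (p : ℤ)] := by
      have := zpow_eq_zpow_iff_modEq.1 (show e ^ (1 : ℤ) = e ^ i ^ p by rw [zpow_one]; exact h)
      rwa [ho] at this
    rw [← hi]
    conv_rhs => rw [← zpow_one e]
    rw [zpow_eq_zpow_iff_modEq, ho, ← ZMod.intCast_eq_intCast_iff]
    have h'' := (ZMod.intCast_eq_intCast_iff _ _ _).2 h'
    push_cast at h'' ⊢
    rw [ZMod.pow_card] at h''
    exact h''.symm
  exact hab (commute_of_same_line hc hexp hcard ha hb he (key a ha hae) (key b hb hbe))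

include hc hexp hcard in
/-- A power of a transvection with prescribed displacement. -/
theorem exists_pow {a : MulAut V} (ha : orderOf a = p) {e f : V} (he : e ≠ 1) (hae : a e = e)
    (hf : f ∉ Subgroup.zpowers e) (i : ℕ) : ∃ k : ℕ, (a ^ k) e = e ∧ (a ^ k) f = e ^ i * f := by
  obtain ⟨j, hj⟩ := mem_powers_iff_mem_zpowers.2 (displacement hc hexp hcard ha he hae f)
  simp only at hj
  have hj' : a f = e ^ j * f := by rw [hj, inv_mul_cancel_right]
  have hj0 : ¬ p ∣ j := fun hd => hf (mem_line hc hexp hcard ha he hae (by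
    rw [hj', orderOf_dvd_iff_pow_eq_one.1 ((orderOf_eq_prime (hexp e) he).symm ▸ hd), one_mul]))
  obtain ⟨m, -, hm⟩ := Nat.exists_mul_mod_eq_one_of_coprime
    ((hp.out.coprime_iff_not_dvd.2 hj0).symm) hp.out.one_lt
  have hpw : ∀ k : ℕ, (a ^ k) e = e ∧ (a ^ k) f = e ^ (j * k) * f := by
    intro k
    induction k with
    | zero => simp
    | succ k ih =>
      refine ⟨by rw [pow_succ', MulAut.mul_apply, ih.1, hae], ?_⟩
      rw [pow_succ', MulAut.mul_apply, ih.2, map_mul, map_pow, hae, hj', ← mul_assoc, ← pow_add, Nat.mul_succ]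
  refine ⟨m * i, (hpw _).1, ?_⟩
  rw [(hpw _).2, ← mul_assoc, pow_mul, show e ^ (j * m) = e by rw [pow_eq_pow_mod _ (hexp e), hm, pow_one]]

include hc hexp hcard in
/-- The split torus. -/
theorem exists_torus (φ : G →* MulAut V) (a g : G) (hap : φ a ^ p = 1)
    (hab : φ a * φ (g * a * g⁻¹) ≠ φ (g * a * g⁻¹) * φ a) {e : V} (he : e ≠ 1) (hae : φ a e = e)
    {μ ν : ℕ} (hμν : μ * ν ≡ 1 [MOD p]) :
    ∃ (α : G) (f : V), α ∈ Subgroup.normalClosure {a} ∧ f ∉ Subgroup.zpowers e ∧
      φ α e = e ^ μ ∧ φ α f = f ^ ν := by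
  obtain ⟨b, hbd⟩ : ∃ b, b = g * a * g⁻¹ := ⟨_, rfl⟩
  rw [← hbd] at hab
  have ha1 : φ a ≠ 1 := fun h => hab (by rw [h, one_mul, mul_one])
  have hb1 : φ b ≠ 1 := fun h => hab (by rw [h, one_mul, mul_one])
  have hbp : φ b ^ p = 1 := by rw [hbd, map_mul, map_mul, map_inv, conj_pow, hap, mul_one, mul_inv_cancel]
  have hao : orderOf (φ a) = p := orderOf_eq_prime hap ha1
  have hbo : orderOf (φ b) = p := orderOf_eq_prime hbp hb1
  obtain ⟨f, hfd⟩ : ∃ f, f = φ g e := ⟨_, rfl⟩
  have hbf : φ b f = f := by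
    rw [hbd, hfd, map_mul, map_mul, map_inv, MulAut.mul_apply, MulAut.mul_apply, MulAut.inv_apply_self, hae]
  have hf1 : f ≠ 1 := by rw [hfd]; simpa using he
  have hfe : f ∉ Subgroup.zpowers e := fun h => hab (by
    obtain ⟨i, hi⟩ := Subgroup.mem_zpowers_iff.1 h
    exact commute_of_same_line hc hexp hcard hao hbo hf1 (by rw [← hi, map_zpow, hae]) hbf)
  have hef : e ∉ Subgroup.zpowers f := fun h => hfe (by
    rw [Subgroup.eq_of_le_of_card_ge (Subgroup.zpowers_le.2 h)
      (by rw [Nat.card_zpowers, Nat.card_zpowers, orderOf_eq_prime (hexp e) he,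
        orderOf_eq_prime (hexp f) hf1])]
    exact Subgroup.mem_zpowers f)
  obtain ⟨N, hN⟩ : ∃ N, N = Subgroup.normalClosure {a} := ⟨_, rfl⟩
  have haN : a ∈ N := hN ▸ Subgroup.subset_normalClosure (Set.mem_singleton a)
  have hbN : b ∈ N := by
    rw [hN] at haN ⊢
    exact hbd ▸ Subgroup.normalClosure_normal.conj_mem a haN g
  -- `e ↦ f ^ s`, `f ↦ e ^ t`
  have key : ∀ t s : ℕ, t * s + 1 ≡ 0 [MOD p] → ∃ w ∈ N, φ w e = f ^ s ∧ φ w f = e ^ t := by
    intro t s hts
    obtain ⟨k, hk1, hk2⟩ := exists_pow hc hexp hcard hao he hae hfe t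
    obtain ⟨l, hl1, hl2⟩ := exists_pow hc hexp hcard hbo hf1 hbf hef s
    rw [← map_pow] at hk1 hk2 hl1 hl2
    have hz : ∀ x : V, x ^ (t * s) * x = 1 := fun x => by
      rw [← pow_succ, pow_eq_pow_mod _ (hexp x), hts, Nat.zero_mod, pow_zero]
    refine ⟨a ^ k * b ^ l * a ^ k, mul_mem (mul_mem (pow_mem haN k) (pow_mem hbN l)) (pow_mem haN k), ?_, ?_⟩
    · simp only [map_mul φ, MulAut.mul_apply]
      rw [hk1, hl2, map_mul, map_pow (φ (a ^ k)), hk2, hk1, (show Commute (e ^ t) f from hc _ _).mul_pow, ← pow_mul,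
        hc (e ^ _) (f ^ s), mul_assoc, hz e, mul_one]
    · simp only [map_mul φ, MulAut.mul_apply]
      rw [hk2, map_mul, hl1, map_pow (φ (b ^ l)), hl2, (show Commute (f ^ s) e from hc _ _).mul_pow, ← pow_mul,
        hc (f ^ _) (e ^ t), mul_assoc, Nat.mul_comm s t, hz f, mul_one, map_pow (φ (a ^ k)), hk1]
  have hp1 := hp.out.one_lt
  obtain ⟨w₁, hw₁, h11, h12⟩ := key 1 (p - 1) (by
    rw [one_mul, Nat.sub_add_cancel hp1.le]; exact Nat.modEq_zero_iff_dvd.2 dvd_rfl)
  obtain ⟨w₂, hw₂, h21, h22⟩ := key (μ * (p - 1)) ν (by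
    rw [← ZMod.natCast_eq_natCast_iff] at hμν ⊢
    push_cast [Nat.cast_sub hp1.le] at hμν ⊢
    rw [ZMod.natCast_self]
    linear_combination -hμν)
  refine ⟨w₂ * w₁, f, hN ▸ mul_mem hw₂ hw₁, hfe, ?_, ?_⟩
  · rw [map_mul, MulAut.mul_apply, h11, map_pow (φ w₂), h22, ← pow_mul, pow_eq_pow_iff_modEq,
      orderOf_eq_prime (hexp e) he, ← ZMod.natCast_eq_natCast_iff]
    push_cast [Nat.cast_sub hp1.le]
    rw [ZMod.natCast_self]
    ring
  · rw [map_mul, MulAut.mul_apply, h12, pow_one, h21]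

end Cfsg.Agent.Local.FS.Torus
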