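import Cfsg.Agent.Lib.Local.FS.TowerGood
import Cfsg.Agent.Lib.Local.FS.RankThreeTorus
import Cfsg.Agent.Lib.Local.FS.Essential

/-!
The bottom of the tower: an elementary abelian essential subgroup of order `p³` that is not normal
in the normaliser of its normaliser.
-/

set_option autoImplicit false

open scoped commutatorElement

namespace Cfsg.Agent.Local.FS.Tower

open Cfsg Cfsg.FusionSystem Cfsg.Agent.Fusion RankThree

variable {Ω : Type*} [Group Ω] {S : Subgroup Ω} [Finite S] {F : FusionSystem S} {p : ℕ}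
  [hp : Fact p.Prime]

theorem zmod_val_pow {x : Ω} (hx : x ^ p = 1) (m : ℕ) : x ^ ((m : ZMod p)).val = x ^ m := by
  rw [ZMod.val_natCast]
  conv_rhs => rw [← Nat.mod_add_div m p, pow_add, pow_mul, hx, one_pow, mul_one]

omit [Finite S] hp in
theorem commutator_mem_of_normalizer {E : Subgroup Ω} {x a : Ω} (hx : x ∈ Subgroup.normalizer (E : Set Ω))
    (ha : a ∈ E) : ⁅x, a⁆ ∈ E := by
  rw [commutatorElement_def]
  exact E.mul_mem (conj_mem_of_normalizer hx ha) (E.inv_mem ha)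

/-- The automiser of an elementary abelian essential subgroup of order `p³`. -/
theorem exists_base (hS : IsPGroup p S) (hF : F.IsSaturated p) {E : Subgroup Ω}
    (hE : F.IsEssential p E) (hEel : IsElementaryAbelian p E) (hcard : Nat.card E = p ^ 3)
    (hbig : p ^ 5 ≤ Nat.card S) :
    ∃ (Z₀ : Subgroup Ω) (e c l : Ω) (L M : ZMod p) (t : Ω → Ω),
      Base F p E Z₀ e c l L M ∧ Tor F E e c l L M t ∧
      (∀ h ∈ normalizerIn S E, h ∈ Nf S E t) ∧
      ∀ α ∈ F.autGroup E, IsPEl p α →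
        (∀ γ ∈ autInducedBy S E, α * γ * α⁻¹ ∈ autInducedBy S E) → α ∈ autInducedBy S E := by
  classical
  have hab : ∀ a ∈ E, ∀ b ∈ E, a * b = b * a := fun a ha b hb =>
    congrArg Subtype.val (hEel.1.is_comm.comm (⟨a, ha⟩ : E) ⟨b, hb⟩)
  have hexp : ∀ a ∈ E, a ^ p = 1 := hEel.2
  have hES : E < S := lt_of_essential hS hF hE
  haveI := finite_of_le hES.le
  haveI := mulAut_finite_of_le hES.le
  have hcen : F.IsCentric E := hE.1
  have hfn : F.IsFullyNormalized E := hE.2.1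
  obtain ⟨hfc, hfa⟩ := fc_fa_of_fn hS hF hfn
  have hrec := receptive_of_fc hS hF hfc
  obtain ⟨hN, hemb⟩ := essential_data hS hF hE
  letI : CommGroup E := { (inferInstance : Group E) with mul_comm := hEel.1.is_comm.comm }
  have hInn : ∀ α : MulAut E, α ∈ Inn E → α = 1 := by
    intro α hα
    obtain ⟨w, hw, hwx⟩ := mem_Inn.1 hα
    exact aut_ext fun x hx => by rw [hwx x hx, av_one hx, hab w hw x hx, mul_inv_cancel_right]
  -- the strongly embedded situation
  obtain ⟨X, hX⟩ : ∃ X, X = F.autGroup E := ⟨_, rfl⟩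
  obtain ⟨H, hH⟩ : ∃ H : Subgroup X, H = (Subgroup.closure (extSet F E)).subgroupOf X := ⟨_, rfl⟩
  obtain ⟨T, hT⟩ : ∃ T : Subgroup X, T = (autInducedBy S E).subgroupOf X := ⟨_, rfl⟩
  have hTX : autInducedBy S E ≤ X := hX ▸ autInducedBy_le_autGroup hES.le
  have hHX : Subgroup.closure (extSet F E) ≤ X := hX ▸ closure_extSet_le
  have hTH : autInducedBy S E ≤ Subgroup.closure (extSet F E) := autInducedBy_le_closure_extSet hES
  have hSyl : SylIn p (autInducedBy S E) X := hX ▸ (fa_iff.1 hfa).2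
  have hEmb : Emb p H T := by
    refine ⟨?_, ?_, ?_, ?_, ?_⟩
    · intro htop
      obtain ⟨-, hne, -⟩ := Local.isStronglyPEmbedded_iff.1 hemb
      refine hne (eq_top_iff.2 fun q _ => ?_)
      obtain ⟨a, rfl⟩ := QuotientGroup.mk'_surjective _ q
      refine ⟨a, Subgroup.mem_subgroupOf.2 ?_, rfl⟩
      have h1 : (⟨(a : MulAut E), hX.ge a.2⟩ : X) ∈ H := htop.ge (Subgroup.mem_top _)
      have h2 : (⟨(a : MulAut E), hX.ge a.2⟩ : X) ∈ (Subgroup.closure (extSet F E)).subgroupOf X := hH.le h1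
      exact Subgroup.mem_subgroupOf.1 h2
    · intro a ha
      rw [hH, Subgroup.mem_subgroupOf]
      rw [hT, Subgroup.mem_subgroupOf] at ha
      exact hTH ha
    · rw [hT]; exact (isPGroup_autS (P := E) hS).comap_subtype
    · intro y hy hy1 γ hγ
      rw [hT, Subgroup.mem_subgroupOf] at hy hγ
      rw [hH, Subgroup.mem_subgroupOf]
      exact Subgroup.subset_closure (mem_extSet_of_conj hrec (show (γ : MulAut E) ∈ F.autGroup E from hX.le γ.2) hy
        (fun hin => hy1 (Subtype.ext (hInn _ hin))) (by simpa using hγ))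
    · rintro y hy ⟨j, hj⟩
      rw [hH, Subgroup.mem_subgroupOf] at hy
      have hj' : (y : MulAut E) ^ p ^ j = 1 := by rw [← Subgroup.coe_pow, hj, Subgroup.coe_one]
      have hzp : IsPGroup p ↥(Subgroup.zpowers (y : MulAut E)) := by
        obtain ⟨i, -, hi⟩ := (Nat.dvd_prime_pow hp.out).1 (orderOf_dvd_of_pow_eq_one hj')
        exact IsPGroup.of_card ((Nat.card_zpowers _).trans hi)
      obtain ⟨χ, hχ, hle⟩ := (hSyl.mono hTH hHX).conj_le hzp (Subgroup.zpowers_le.2 hy)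
      refine ⟨⟨χ, hHX hχ⟩, hH ▸ Subgroup.mem_subgroupOf.2 hχ, ?_⟩
      rw [hT, Subgroup.mem_subgroupOf]
      exact hle (conj_mem_cj (Subgroup.mem_zpowers _))
  obtain ⟨hmod⟩ : Nonempty (Module (ZMod p) (Additive E)) := ⟨AddCommGroup.zmodModule fun v => by
    refine Additive.toMul.injective ?_
    rw [toMul_nsmul, toMul_zero]
    exact Subtype.ext (hexp _ (Additive.toMul v).2)⟩
  obtain ⟨lin, hlin⟩ : ∃ lin : MulAut E → (Additive E ≃ₗ[ZMod p] Additive E),
      ∀ a v, lin a v = Additive.ofMul (a (Additive.toMul v)) :=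
    ⟨fun a => (MulEquiv.toAdditive a : Additive E ≃+ Additive E).toLinearEquiv
      fun r v => ZMod.map_smul (MulEquiv.toAdditive a : Additive E ≃+ Additive E) r v, fun a v => rfl⟩
  let ρ : X →* (Additive E ≃ₗ[ZMod p] Additive E) :=
    MonoidHom.mk' (fun a => lin a) fun a b => by
      ext v
      simp only [LinearEquiv.mul_apply, hlin, Subgroup.coe_mul, MulAut.mul_apply, toMul_ofMul]
  have hρv : ∀ (a : X) (v : E), Additive.toMul (ρ a (Additive.ofMul v)) = (a : MulAut E) v := fun a v => by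
    show Additive.toMul (lin a (Additive.ofMul v)) = _
    rw [hlin, toMul_ofMul, toMul_ofMul]
  have hρ : Function.Injective ρ := by
    intro a b h
    refine Subtype.ext (MulEquiv.ext fun v => ?_)
    rw [← hρv a v, ← hρv b v, h]
  have hV : Nat.card (Additive E) = p ^ 3 := (Nat.card_congr Additive.toMul).trans hcard
  haveI : Finite (Additive E) := Finite.of_equiv _ Additive.ofMul
  -- the normaliser has order `p⁴`
  obtain ⟨N, hNd⟩ : ∃ N, N = normalizerIn S E := ⟨_, rfl⟩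
  have hNS : N ≤ S := hNd ▸ inf_le_left
  have hEN : E < N := hNd ▸ lt_normalizerIn hS hES
  have hC : centralizerIn S E = E := le_antisymm (hcen.2 E (isConj_refl hES.le))
    (fun a ha => mem_centralizerIn.2 ⟨hES.le ha, fun b hb => hab b hb a ha⟩)
  have hTc : Nat.card T = Nat.card ↥(autInducedBy S E) := by
    rw [hT]; exact Nat.card_congr (Subgroup.subgroupOfEquivOfLe hTX).toEquiv
  have hNc : Nat.card N = p ^ 4 := by
    refine le_antisymm ?_ ?_
    · rw [hNd, ← card_autS_mul (S := S) (P := E), hC, ← hTc, hcard, pow_succ' p 3]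
      exact Nat.mul_le_mul_right _ (hEmb.card_le hρ hV)
    · have h1 := step_le hS hNS hEN
      rwa [hcard, ← pow_succ] at h1
  -- `Z₀`
  obtain ⟨Z₀, hZd⟩ : ∃ Z₀, Z₀ = E ⊓ Subgroup.centralizer (N : Set Ω) := ⟨_, rfl⟩
  have hZE : Z₀ ≤ E := hZd ▸ inf_le_left
  have hNn : N ≤ Subgroup.normalizer (E : Set Ω) := hNd ▸ inf_le_right
  have hmove : N < S := lt_of_le_of_ne hNS fun h => by
    rw [← h, hNc, Nat.pow_le_pow_iff_right hp.out.one_lt] at hbig
    omega
  obtain ⟨g, hg, hgN⟩ := SetLike.exists_of_lt (lt_normalizerIn hS hmove)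
  have hgE : g ∉ Subgroup.normalizer (E : Set Ω) := fun h => hgN (hNd ▸ ⟨hg.1, h⟩)
  obtain ⟨E', hE'⟩ : ∃ E', E' = E.map (MulAut.conj g).toMonoidHom := ⟨_, rfl⟩
  have hE'c : Nat.card E' = p ^ 3 := by
    rw [hE', Subgroup.card_map_of_injective (MulEquiv.injective _), hcard]
  have hE'N : E' ≤ N := by
    rw [hE']; rintro _ ⟨y, hy, rfl⟩; exact conj_mem_of_normalizer hg.2 (hEN.le hy)
  have hE'E : ¬ E' ≤ E := fun h => hgE (mem_normalizer_of_conj_mem hES.le fun y hy => h (hE' ▸ ⟨y, hy, rfl⟩))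
  have hsup : E ⊔ E' = N := by
    refine eq_of_card hNS (sup_le hEN.le hE'N) ?_
    have hlt : E < E ⊔ E' := lt_of_le_of_ne le_sup_left fun h => hE'E (h ▸ le_sup_right)
    have h1 := step_le hS ((sup_le hEN.le hE'N).trans hNS) hlt
    rw [hcard, ← pow_succ] at h1
    rw [hNc]; exact h1
  have hint : E ⊓ E' ≤ Z₀ := by
    rw [hZd]
    refine le_inf inf_le_left fun z hz => Subgroup.mem_centralizer_iff.2 ?_
    have hle : E ⊔ E' ≤ Subgroup.centralizer ({z} : Set Ω) := by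
      refine sup_le (fun y hy => Subgroup.mem_centralizer_singleton_iff.2 (hab y hy z hz.1)) fun y hy => ?_
      rw [Subgroup.mem_centralizer_singleton_iff]
      obtain ⟨a, ha, rfl⟩ := hE' ▸ hy
      obtain ⟨b, hb, rfl⟩ := hE' ▸ hz.2
      show g * a * g⁻¹ * (g * b * g⁻¹) = g * b * g⁻¹ * (g * a * g⁻¹)
      rw [show g * a * g⁻¹ * (g * b * g⁻¹) = g * (a * b) * g⁻¹ by group, hab a ha b hb]; group
    exact fun y hy => Subgroup.mem_centralizer_singleton_iff.1 (hle (hsup.ge hy))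
  have hintc : p ^ 2 ≤ Nat.card (E ⊓ E' : Subgroup Ω) := by
    haveI := finite_of_le hNS
    have h1 : E.relIndex N * Nat.card E = Nat.card N := by
      have := Subgroup.relIndex_mul_relIndex ⊥ E N bot_le hEN.le
      rw [Subgroup.relIndex_bot_left, Subgroup.relIndex_bot_left] at this
      rw [mul_comm]; exact this
    have hNE : E.relIndex N = p := by
      rw [hcard, hNc, pow_succ' p 3] at h1
      exact Nat.eq_of_mul_eq_mul_right (pow_pos hp.out.pos 3) h1
    have h2 := Subgroup.relIndex_le_of_le_right (H := E) hE'N (by rw [hNE]; exact hp.out.ne_zero)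
    have h3 := Subgroup.relIndex_mul_relIndex ⊥ (E ⊓ E') E' bot_le inf_le_right
    rw [Subgroup.relIndex_bot_left, Subgroup.relIndex_bot_left, Subgroup.inf_relIndex_right, hE'c] at h3
    rw [hNE] at h2
    refine Nat.le_of_mul_le_mul_right ?_ hp.out.pos
    rw [← pow_succ, ← h3]
    exact Nat.mul_le_mul_left _ h2
  have hZ0E : Z₀ < E := by
    refine lt_of_le_of_ne hZE fun h => hEN.not_ge fun y hy => hC.le (mem_centralizerIn.2 ⟨hNS hy, fun a ha => ?_⟩)
    have := h.ge ha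
    rw [hZd] at this
    exact (Subgroup.mem_centralizer_iff.1 this.2 y hy).symm
  have hZc : Nat.card Z₀ = p ^ 2 := by
    refine le_antisymm ?_ ?_
    · have h1 := step_le hS hES.le hZ0E
      rw [hcard, pow_succ] at h1
      exact Nat.le_of_mul_le_mul_right h1 hp.out.pos
    · haveI := finite_of_le (hZE.trans hES.le)
      exact hintc.trans (Subgroup.card_le_of_le hint)
  have hcentN : ∀ y ∈ N, ∀ z ∈ Z₀, y * z = z * y := fun y hy z hz => by
    rw [hZd] at hz; exact Subgroup.mem_centralizer_iff.1 hz.2 y hy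
  have hfixN : ∀ a ∈ E, (∀ y ∈ N, y * a = a * y) → a ∈ Z₀ := fun a ha h => by
    rw [hZd]; exact ⟨ha, Subgroup.mem_centralizer_iff.2 h⟩
  -- the transvection
  obtain ⟨x, hx, hxE⟩ := SetLike.exists_of_lt hEN
  obtain ⟨γ, hγ, hγS⟩ := exists_aut_conj (hNn hx)
  have hγI := hγS S (hNS hx)
  obtain ⟨z, hz⟩ : ∃ z : X, (z : MulAut E) = γ := ⟨⟨γ, hTX hγI⟩, rfl⟩
  have hzT : z ∈ T := by rw [hT, Subgroup.mem_subgroupOf, hz]; exact hγI
  have hNgen : Subgroup.zpowers x ⊔ E = N := by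
    refine eq_of_card hNS (sup_le (Subgroup.zpowers_le.2 hx) hEN.le) ?_
    have hlt : E < Subgroup.zpowers x ⊔ E :=
      lt_of_le_of_ne le_sup_right fun h => hxE (h ▸ Subgroup.mem_sup_left (Subgroup.mem_zpowers x))
    have h1 := step_le hS ((sup_le (Subgroup.zpowers_le.2 hx) hEN.le).trans hNS) hlt
    rw [hcard, ← pow_succ] at h1
    rw [hNc]; exact h1
  have hfixz : ∀ v : E, (z : MulAut E) v = v ↔ (v : Ω) ∈ Z₀ := by
    intro v
    have h1 : ((z : MulAut E) v : Ω) = x * v * x⁻¹ := by rw [hz, ← av_coe]; exact hγ v v.2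
    constructor
    · intro h
      refine hfixN v v.2 fun y hy => ?_
      have hle : Subgroup.zpowers x ⊔ E ≤ Subgroup.centralizer ({(v : Ω)} : Set Ω) := by
        refine sup_le (Subgroup.zpowers_le.2 ?_) fun a ha => Subgroup.mem_centralizer_singleton_iff.2 (hab a ha v v.2)
        rw [h] at h1
        exact Subgroup.mem_centralizer_singleton_iff.2 (eq_mul_inv_iff_mul_eq.1 h1).symm
      exact Subgroup.mem_centralizer_singleton_iff.1 (hle (hNgen.ge hy))
    · intro h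
      refine Subtype.ext ?_
      rw [h1, hcentN x hx v h, mul_inv_cancel_right]
  have hz1 : z ≠ 1 := by
    intro h
    obtain ⟨a, ha, haZ⟩ := SetLike.exists_of_lt hZ0E
    exact haZ ((hfixz ⟨a, ha⟩).1 (by rw [h]; rfl))
  have hTle := hEmb.card_le hρ hV
  haveI : Finite X := inferInstance
  have hzo : orderOf z = p := by
    have h1 : orderOf z ∣ Nat.card T := by
      have := orderOf_dvd_natCard (⟨z, hzT⟩ : T)
      rwa [Subgroup.orderOf_mk] at this
    obtain ⟨i, hi⟩ := IsPGroup.iff_card.1 hEmb.pgroup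
    rw [hi] at h1 hTle
    have hi1 : i ≤ 1 := (Nat.pow_le_pow_iff_right hp.out.one_lt).1 (by rwa [pow_one])
    rcases Nat.le_one_iff_eq_zero_or_eq_one.1 hi1 with rfl | rfl
    · exact absurd (orderOf_eq_one_iff.1 (Nat.dvd_one.1 (by simpa using h1))) hz1
    · rcases (Nat.dvd_prime hp.out).1 (by simpa using h1) with h | h
      · exact absurd (orderOf_eq_one_iff.1 h) hz1
      · exact h
  have hTgen : ∀ y ∈ T, ∃ m : ℕ, y = z ^ m := by
    intro y hy
    have he : Subgroup.zpowers z = T := Subgroup.eq_of_le_of_card_ge (Subgroup.zpowers_le.2 hzT)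
      (by rw [Nat.card_zpowers, hzo]; exact hTle)
    obtain ⟨m, hm⟩ := mem_powers_iff_mem_zpowers.2 (he.ge hy)
    exact ⟨m, hm.symm⟩
  obtain ⟨W, hW⟩ : ∃ W : Submodule (ZMod p) (Additive E), ∀ v, v ∈ W ↔ ρ z v = v :=
    ⟨{ carrier := {v | ρ z v = v}
       add_mem' := fun {a b} ha hb => by show ρ z (a + b) = a + b; rw [map_add, ha, hb]
       zero_mem' := map_zero _
       smul_mem' := fun r a ha => by show ρ z (r • a) = r • a; rw [map_smul, ha] }, fun v => Iff.rfl⟩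
  have hWZ : ∀ v : E, Additive.ofMul v ∈ W ↔ (v : Ω) ∈ Z₀ := fun v => by
    rw [hW, ← hfixz v, ← hρv z v]
    exact ⟨fun h => by rw [h, toMul_ofMul], fun h => Additive.toMul.injective (h.trans (toMul_ofMul v).symm)⟩
  obtain ⟨a, haE, haZ⟩ := SetLike.exists_of_lt hZ0E
  obtain ⟨χ, hχ, hχ0, hχa⟩ := exists_char hS hES.le hZE
    (fun b hb => mem_normalizer_of_conj_mem (hZE.trans hES.le) fun y hy => by
      rw [hab b hb y (hZE hy), mul_inv_cancel_right]; exact hy)
    (by rw [hcard, hZc, ← pow_succ]) haE haZ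
  have hspan : ∀ v : Additive E, ∃ r : ZMod p, v - r • Additive.ofMul (⟨a, haE⟩ : E) ∈ W := by
    intro v
    obtain ⟨w, rfl⟩ := Additive.ofMul.surjective v
    refine ⟨χ w, ?_⟩
    have e1 : Additive.ofMul w - χ w • Additive.ofMul (⟨a, haE⟩ : E) =
        Additive.ofMul (w * ((⟨a, haE⟩ : E) ^ (χ w).val)⁻¹) := by
      conv_lhs => rw [← ZMod.natCast_zmod_val (χ w), Nat.cast_smul_eq_nsmul]
      rw [sub_eq_add_neg, ← ofMul_pow, ← ofMul_inv, ← ofMul_mul]
    rw [e1, hWZ]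
    have hm : (w : Ω) * (a ^ (χ w).val)⁻¹ ∈ E := E.mul_mem w.2 (E.inv_mem (E.pow_mem haE _))
    refine (hχ0 _ hm).1 ?_
    rw [char_sub hχ w.2 (E.pow_mem haE _), char_pow hχ haE, hχa, ZMod.natCast_zmod_val, mul_one, sub_self]
  obtain ⟨φ, hTv, hφa⟩ := exists_tv (ρ := ρ) (z := z) (hzo ▸ pow_orderOf_eq_one z) hW
    (fun h => haZ ((hWZ ⟨a, haE⟩).1 h)) hspan
  obtain ⟨cv, hcv⟩ : ∃ cv, cv = ρ z (Additive.ofMul (⟨a, haE⟩ : E)) - Additive.ofMul (⟨a, haE⟩ : E) := ⟨_, rfl⟩
  rw [← hcv] at hTv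
  obtain ⟨τ, ev, lv, L, M, hev, hlv, hlv', hLM, hord, hte, htc, htl, hnorm⟩ := hEmb.torus hρ hV hTv hzT hz1
  obtain ⟨c, hc⟩ : ∃ c : E, c = Additive.toMul cv := ⟨_, rfl⟩
  obtain ⟨e, he⟩ : ∃ e : E, e = Additive.toMul ev := ⟨_, rfl⟩
  obtain ⟨l, hl⟩ : ∃ l : E, l = Additive.toMul lv := ⟨_, rfl⟩
  have hker : ∀ v : Additive E, φ v = 0 ↔ v ∈ W := by
    intro v
    rw [hW, hTv.2 v]
    refine ⟨fun h => by rw [h, zero_smul, add_zero], fun h => ?_⟩
    have h1 : φ v • cv = 0 := by simpa using h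
    refine (smul_eq_zero.1 h1).resolve_right fun h0 => hz1 (hρ (LinearEquiv.ext fun w => ?_))
    rw [hTv.2 w, h0, smul_zero, add_zero, map_one]
    rfl
  have hsmul : ∀ (r : ZMod p) (v : E), Additive.toMul (r • Additive.ofMul v) = v ^ r.val := fun r v => by
    conv_lhs => rw [← ZMod.natCast_zmod_val r, Nat.cast_smul_eq_nsmul]
    rfl
  have hcZ : (c : Ω) ∈ Z₀ := (hWZ c).1 (by rw [hc, ofMul_toMul, ← hker]; exact hTv.1)
  have hlZ : (l : Ω) ∈ Z₀ := (hWZ l).1 (by rw [hl, ofMul_toMul, ← hker]; exact hlv)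
  have heZ : (e : Ω) ∉ Z₀ := fun h => hev ((hker ev).2 (by
    rw [← ofMul_toMul ev, ← he]; exact (hWZ e).2 h))
  have hc1 : (c : Ω) ≠ 1 := by
    intro h
    apply hz1
    refine hρ (LinearEquiv.ext fun w => ?_)
    have h0 : cv = 0 := Additive.toMul.injective (by
      rw [← hc, toMul_zero]; exact Subtype.ext h)
    rw [hTv.2 w, h0, smul_zero, add_zero, map_one]
    rfl
  have hcord : orderOf (c : Ω) = p := orderOf_eq_prime (hexp c c.2) hc1
  have hlC : (l : Ω) ∉ Subgroup.zpowers (c : Ω) := by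
    intro h
    obtain ⟨i, hi⟩ := Subgroup.mem_zpowers_iff.1 h
    apply hlv'
    rw [Submodule.mem_span_singleton]
    refine ⟨(i : ZMod p), ?_⟩
    rw [Int.cast_smul_eq_zsmul]
    refine Additive.toMul.injective ?_
    rw [toMul_zsmul, ← hc, ← hl]
    exact Subtype.ext (by rw [← hi]; simp)
  have hτA : (τ : MulAut E) ∈ F.autGroup E := hX.le τ.2
  obtain ⟨t, ht⟩ : ∃ t, t = av (τ : MulAut E) := ⟨_, rfl⟩
  have hact : ∀ (y : E) (r : ZMod p), ρ τ (Additive.ofMul y) = r • Additive.ofMul y → t y = (y : Ω) ^ r.val := by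
    intro y r h
    rw [ht, av_coe, ← hρv τ y, h, hsmul]
    rfl
  refine ⟨Z₀, e, c, l, L, M, t, ?_, ?_, ?_, ?_⟩
  · refine ⟨hS, hF, hcen, hcard, hab, hexp, hNd ▸ hNc, hZE, hZc, e.2, heZ, ?_, hcZ, hcord, hlZ, hlC, ?_,
      hNd ▸ hcentN, hNd ▸ hfixN, ?_, hLM, hord⟩
    · refine (eq_of_card hES.le (sup_le (Subgroup.zpowers_le.2 e.2) hZE) ?_).ge
      have hlt : Z₀ < Subgroup.zpowers (e : Ω) ⊔ Z₀ :=
        lt_of_le_of_ne le_sup_right fun h => heZ (h ▸ Subgroup.mem_sup_left (Subgroup.mem_zpowers _))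
      have h1 := step_le hS ((sup_le (Subgroup.zpowers_le.2 e.2) hZE).trans hES.le) hlt
      rw [hZc, ← pow_succ] at h1
      rw [hcard]; exact h1
    · refine (eq_of_card (hZE.trans hES.le) (sup_le (Subgroup.zpowers_le.2 hcZ) (Subgroup.zpowers_le.2 hlZ)) ?_).ge
      have hlt : Subgroup.zpowers (c : Ω) < Subgroup.zpowers (c : Ω) ⊔ Subgroup.zpowers (l : Ω) :=
        lt_of_le_of_ne le_sup_left fun h => hlC (h ▸ Subgroup.mem_sup_right (Subgroup.mem_zpowers _))
      have h1 := step_le hS ((sup_le (Subgroup.zpowers_le.2 hcZ)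
        (Subgroup.zpowers_le.2 hlZ)).trans (hZE.trans hES.le)) hlt
      rw [Nat.card_zpowers, hcord, ← sq] at h1
      rw [hZc]; exact h1
    · intro y hy b hb
      obtain ⟨δ, hδ, hδS⟩ := exists_aut_conj (hNn (hNd ▸ hy))
      have hδI := hδS S (hNS (hNd ▸ hy))
      obtain ⟨m, hm⟩ := hTgen ⟨δ, hTX hδI⟩ (by rw [hT]; exact Subgroup.mem_subgroupOf.2 hδI)
      have h1 : Additive.toMul (ρ (z ^ m) (Additive.ofMul (⟨b, hb⟩ : E))) = δ ⟨b, hb⟩ := by rw [hρv, ← hm]
      rw [hTv.pow, toMul_add, ← ofMul_toMul cv, ← hc, hsmul] at h1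
      have h2 := congrArg Subtype.val h1
      rw [← av_coe, hδ b hb] at h2
      simp only [Subgroup.coe_mul, toMul_ofMul, SubmonoidClass.coe_pow] at h2
      rw [commutatorElement_def, ← h2, hab b hb _ (E.pow_mem c.2 _), mul_inv_cancel_right]
      exact Subgroup.pow_mem _ (Subgroup.mem_zpowers _) _
  · refine ⟨ht ▸ map_of_mem_autGroup hES.le hτA, fun y hy => ht ▸ av_mem _ hy, ?_, ?_, ?_⟩
    · exact hact e L (by rw [he, ofMul_toMul]; exact hte)
    · exact hact c M (by rw [hc, ofMul_toMul]; exact htc)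
    · rw [ht, av_coe, ← hρv τ l, hl, ofMul_toMul, htl]
  · intro h hh
    obtain ⟨δ, hδ, hδS⟩ := exists_aut_conj (hNn (hNd ▸ hh))
    have hδI := hδS S (hNS (hNd ▸ hh))
    have h1 := hnorm ⟨δ, hTX hδI⟩ (by rw [hT]; exact Subgroup.mem_subgroupOf.2 hδI)
    rw [hT, Subgroup.mem_subgroupOf] at h1
    obtain ⟨s, hs, hsx⟩ := mem_autInducedBy.1 h1
    refine ⟨hNS (hNd ▸ hh), hNn (hNd ▸ hh), s, hs, fun y hy => ?_⟩
    have h2 := hsx _ (av_mem (τ : MulAut E) hy)
    simp only [Subgroup.coe_mul, Subgroup.coe_inv] at h2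
    rw [av_mul _ _ (av_mem _ hy), av_inv_av _ hy, av_mul _ _ hy, hδ y hy] at h2
    rw [ht]
    exact h2
  · intro α hα ⟨j, hj⟩ hnα
    have hzp : IsPGroup p ↥(Subgroup.zpowers α) := by
      obtain ⟨i, -, hi⟩ := (Nat.dvd_prime_pow hp.out).1 (orderOf_dvd_of_pow_eq_one hj)
      exact IsPGroup.of_card ((Nat.card_zpowers _).trans hi)
    have hαn : α ∈ Subgroup.normalizer (autInducedBy S E : Set (MulAut E)) :=
      Subgroup.mem_normalizer_fintype hnα
    have hle : Subgroup.zpowers α ≤ Subgroup.normalizer (autInducedBy S E : Set (MulAut E)) :=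
      Subgroup.zpowers_le.2 hαn
    have h1 := hSyl.eq_of_le (hzp.to_sup_of_normal_right' (isPGroup_autS (P := E) hS) hle) le_sup_right
      (sup_le (Subgroup.zpowers_le.2 (hX.ge hα)) hTX)
    exact h1.le (Subgroup.mem_sup_left (Subgroup.mem_zpowers α))

end Cfsg.Agent.Local.FS.Tower
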