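import Cfsg.Agent.Lib.Local.FS.TowerStep
import Cfsg.Agent.Lib.Local.FS.EssentialRankTwo
import Cfsg.Agent.Lib.Local.FS.EssentialFourth
import Cfsg.Agent.Lib.Solv.PolySeq

/-!
The automiser of the next level of a tower has all its `p`-elements induced by `S`.
-/

set_option autoImplicit false

open scoped commutatorElement

namespace Cfsg.Agent.Local.FS.Tower

open Cfsg Cfsg.FusionSystem Cfsg.Agent.Fusion

variable {Ω : Type*} [Group Ω] {S : Subgroup Ω} [Finite S] {F : FusionSystem S} {p : ℕ}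
  [hp : Fact p.Prime]

/-- A unipotent `2 × 2` matrix. -/
theorem unipotent_two {T : Matrix (Fin 2) (Fin 2) (ZMod p)} {j : ℕ} (h : T ^ p ^ j = 1) :
    (T 1 1 - 1 = -(T 0 0 - 1)) ∧ (T 0 0 - 1) * (T 0 0 - 1) + T 0 1 * T 1 0 = 0 := by
  obtain ⟨N, hN⟩ : ∃ N, N = T - 1 := ⟨_, rfl⟩
  have h0 : N ^ p ^ j = 0 := by
    rw [hN, sub_pow_char_pow_of_commute p j (Commute.one_right T), h, one_pow, sub_self]
  have hd : N.det = 0 := by
    have := congrArg Matrix.det h0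
    rw [Matrix.det_pow, Matrix.det_zero] at this
    exact eq_zero_of_pow_eq_zero this
  rw [Matrix.det_fin_two] at hd
  have htr : N.trace = 0 := (Matrix.isNilpotent_trace_of_isNilpotent ⟨_, h0⟩).eq_zero
  rw [Matrix.trace_fin_two] at htr
  simp only [hN, Matrix.sub_apply, Matrix.one_apply_eq, Matrix.one_apply_ne (show (0 : Fin 2) ≠ 1 by decide),
    Matrix.one_apply_ne (show (1 : Fin 2) ≠ 0 by decide), sub_zero] at hd htr
  refine ⟨eq_neg_of_add_eq_zero_right htr, ?_⟩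
  linear_combination -hd + (T 0 0 - 1) * htr

theorem pow_one_add {R : Type*} [Ring R] {N : R} (h : N * N = 0) (i : ℕ) :
    (1 + N) ^ i = 1 + (i : R) * N := by
  induction i with
  | zero => simp
  | succ i ih =>
    rw [pow_succ, ih, add_mul, one_mul, mul_add, mul_one, mul_assoc, h, mul_zero, add_zero, Nat.cast_succ,
      add_mul, one_mul]
    abel

open Cfsg.Agent.Solv.PolySeq in
/-- An automorphism of order prime to `p` which is trivial on `H / H'` is trivial. -/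
theorem eq_one_of_triv {H : Type*} [Group H] [Finite H] (hH : IsPGroup p H) {δ : MulAut H} {q : ℕ}
    (hq : q.Prime) (hqp : q ≠ p) (hδq : δ ^ q = 1) (h : ∀ x : H, x⁻¹ * δ x ∈ commutator H) : δ = 1 := by
  have hstep : ∀ j, ∀ x ∈ (⊤ : Subgroup H).lowerCentralSeries j,
      x⁻¹ * δ x ∈ (⊤ : Subgroup H).lowerCentralSeries (j + 1) := by
    intro j
    induction j with
    | zero => intro x _; rw [zero_add, Subgroup.lowerCentralSeries_one]; exact h x
    | succ j ih =>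
      intro x hx
      rw [Subgroup.lowerCentralSeries_succ] at hx
      rw [Subgroup.commutator_def] at hx
      have hn : ((⊤ : Subgroup H).lowerCentralSeries (j + 1 + 1)).Normal := inferInstance
      induction hx using Subgroup.closure_induction with
      | mem y hy =>
        obtain ⟨a, ha, b, -, rfl⟩ := hy
        obtain ⟨u, hu, hau⟩ : ∃ u ∈ (⊤ : Subgroup H).lowerCentralSeries (j + 1), δ a = a * u :=
          ⟨_, ih a ha, by group⟩
        obtain ⟨v, hv, hbv⟩ : ∃ v ∈ commutator H, δ b = b * v := ⟨_, h b, by group⟩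
        have h1 : ⁅u, b * v⁆ ∈ (⊤ : Subgroup H).lowerCentralSeries (j + 1 + 1) := by
          rw [Subgroup.lowerCentralSeries_succ]
          exact Subgroup.commutator_mem_commutator hu (Subgroup.mem_top _)
        have h2 : ⁅a, v⁆ ∈ (⊤ : Subgroup H).lowerCentralSeries (j + 1 + 1) := by
          have := F_commutator (a := j + 1) (b := 2) (show a ∈ F H (j + 1) from ha)
            (show v ∈ F H 2 from (Subgroup.lowerCentralSeries_one (G := H)).ge hv)
          exact this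
        rw [map_commutatorElement, hau, hbv, show ⁅a, b⁆⁻¹ * ⁅a * u, b * v⁆ =
          (⁅a, b⁆⁻¹ * (a * ⁅u, b * v⁆ * a⁻¹) * ⁅a, b⁆⁻¹⁻¹) * (b * ⁅a, v⁆ * b⁻¹) by
            simp only [commutatorElement_def]; group]
        exact Subgroup.mul_mem _ (hn.conj_mem _ (hn.conj_mem _ h1 _) _) (hn.conj_mem _ h2 _)
      | one => simp
      | mul x y _ _ ihx ihy =>
        rw [map_mul, show (x * y)⁻¹ * (δ x * δ y) = (y⁻¹ * (x⁻¹ * δ x) * y⁻¹⁻¹) * (y⁻¹ * δ y) by group]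
        exact Subgroup.mul_mem _ (hn.conj_mem _ ihx _) ihy
      | inv x _ ihx =>
        rw [map_inv, show x⁻¹⁻¹ * (δ x)⁻¹ = x * (x⁻¹ * δ x)⁻¹ * x⁻¹ by group]
        exact hn.conj_mem _ (Subgroup.inv_mem _ ihx) _
  obtain ⟨m, hm⟩ := Subgroup.nilpotent_iff_lowerCentralSeries.1 (hH.isNilpotent : Group.IsNilpotent H)
  have hfix : ∀ d j, j + d = m → ∀ x ∈ (⊤ : Subgroup H).lowerCentralSeries j, δ x = x := by
    intro d
    induction d with
    | zero =>
      intro j hj x hx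
      rw [show j = m by omega, hm, Subgroup.mem_bot] at hx
      rw [hx, map_one]
    | succ d ih =>
      intro j hj x hx
      exact fix_of_fix hH hq hqp hδq (ih (j + 1) (by omega) _ (hstep j x hx))
  exact MulEquiv.ext fun x => hfix m 0 (by omega) x (Subgroup.mem_top x)

variable {E Z₀ : Subgroup Ω} {e c l : Ω} {L M : ZMod p} {P P' : Subgroup Ω}

/-- All `p`-elements of the automiser of the next level come from `S`. -/
theorem good_up (hb : Base F p E Z₀ e c l L M) (hPP' : P < P') (hP' : P' = normalizerIn S P) (hEP : E ≤ P)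
    (hNP' : normalizerIn S E ≤ P') (hP'lt : P' < S) (cent : ∀ x ∈ P', ∀ z ∈ Z₀, x * z = z * x)
    (hcard : Nat.card P' = Nat.card P * p) (hRc : Nat.card P' = Nat.card (der Z₀ P') * p ^ 2)
    (hRP : der Z₀ P' ≤ P) (heR : e ∉ der Z₀ P')
    (hweak : ∀ α ∈ F.autGroup P, IsPEl p α → (∀ γ ∈ autInducedBy S P, α * γ * α⁻¹ ∈ autInducedBy S P) →
      α ∈ autInducedBy S P)
    (hc : c ∈ ⁅P', P'⁆) : Good F p P' := by
  classical
  have hS := hb.pgroup
  have hP'S := hP'lt.le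
  have hP'n : P' ≤ Subgroup.normalizer (P : Set Ω) := hP' ▸ inf_le_right
  have hPS : P ≤ S := hPP'.le.trans hP'S
  haveI := finite_of_le hP'S
  haveI := mulAut_finite_of_le hP'S
  haveI := mulAut_finite_of_le hPS
  obtain ⟨R, hR⟩ : ∃ R, R = der Z₀ P' := ⟨_, rfl⟩
  rw [← hR] at hRc hRP heR
  have hcle : ⁅P', P'⁆ ≤ P' := Subgroup.commutator_le.2 fun a ha b hb' =>
    P'.mul_mem (P'.mul_mem (P'.mul_mem ha hb') (P'.inv_mem ha)) (P'.inv_mem hb')
  have hcR : ⁅P', P'⁆ ≤ R := hR ▸ le_sup_left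
  have hRP' : R ≤ P' := hR ▸ sup_le hcle (hb.Z_le hNP')
  have hnR : ∀ (X : Subgroup Ω), X ≤ P' → ⁅P', P'⁆ ≤ X → P' ≤ Subgroup.normalizer (X : Set Ω) :=
    fun X hX hcX h hh => mem_normalizer_of_conj_mem (hX.trans hP'S)
      (normalizes_of_comm fun x hx => hcX (Subgroup.commutator_mem_commutator hh (hX hx)))
  have heP : e ∈ P := hEP hb.e_mem
  have heP' := hPP'.le heP
  obtain ⟨g, hg, hgP⟩ := SetLike.exists_of_lt hPP'
  obtain ⟨P'', hP''⟩ : ∃ Q, Q = normalizerIn S P' := ⟨_, rfl⟩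
  obtain ⟨u, hu, hu'⟩ := SetLike.exists_of_lt (hP''.symm ▸ lt_normalizerIn hS hP'lt : P' < P'')
  rw [hP''] at hu
  have huP : u ∉ Subgroup.normalizer (P : Set Ω) := fun h => hu' (hP'.ge ⟨hu.1, h⟩)
  -- invariance under automorphisms in the system
  have hinv : ∀ f : Ω → Ω, Map F P' f → (∀ x ∈ P', f x ∈ P') →
      (∀ x ∈ ⁅P', P'⁆, f x ∈ ⁅P', P'⁆) ∧ (∀ x ∈ R, f x ∈ R) := by
    intro f hf hfP
    refine ⟨commutator_map hf hfP, fun x hx => ?_⟩
    refine (show x ∈ P' ∧ f x ∈ R from ?_).2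
    rw [hR, der, Subgroup.sup_eq_closure] at hx
    induction hx using Subgroup.closure_induction with
    | mem y hy =>
      rcases hy with hy | hy
      · exact ⟨hcle hy, hcR (commutator_map hf hfP y hy)⟩
      · exact ⟨hb.Z_le hNP' hy, hR ▸ Subgroup.mem_sup_right (hb.map_Z hNP' cent hf hfP y hy)⟩
    | one => exact ⟨P'.one_mem, by rw [hf.map_one]; exact R.one_mem⟩
    | mul a b _ _ iha ihb =>
      exact ⟨P'.mul_mem iha.1 ihb.1, by rw [hf.map_mul iha.1 ihb.1]; exact R.mul_mem iha.2 ihb.2⟩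
    | inv a _ iha => exact ⟨P'.inv_mem iha.1, by rw [hf.map_inv iha.1]; exact R.inv_mem iha.2⟩
  -- `P'` has exponent `p` modulo `R`
  obtain ⟨σ, hσ, hσS⟩ := exists_aut_conj (P := P') hu.2
  have huR : ∀ x ∈ R, u * x * u⁻¹ ∈ R :=
    (hinv _ (map_conjBy hP'S hu.1) fun x hx => conj_mem_of_normalizer hu.2 hx).2
  obtain ⟨Pu, hPu⟩ : ∃ Pu, Pu = P.map (MulAut.conj u).toMonoidHom := ⟨_, rfl⟩
  have hPuP' : Pu ≤ P' := by
    rw [hPu]; rintro _ ⟨x, hx, rfl⟩; exact conj_mem_of_normalizer hu.2 (hPP'.le hx)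
  have hPuc : Nat.card Pu = Nat.card P := by
    rw [hPu, Subgroup.card_map_of_injective (MulEquiv.injective _)]
  have hRPu : R ≤ Pu := by
    intro x hx
    rw [hPu]
    refine ⟨u⁻¹ * x * u, hRP ?_, by show u * (u⁻¹ * x * u) * u⁻¹ = x; group⟩
    have h2 := (hinv _ (map_conjBy hP'S (S.inv_mem hu.1))
      fun y hy => conj_mem_of_normalizer (Subgroup.inv_mem _ hu.2) hy).2 x hx
    rwa [inv_inv] at h2
  have hPPu : P ⊓ Pu = R := by
    refine (eq_of_card (inf_le_left.trans hPS) (le_inf hRP hRPu) ?_).symm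
    have hlt : P ⊓ Pu < P := lt_of_le_of_ne inf_le_left fun h => huP (mem_normalizer_of_conj_mem hPS fun y hy => by
      have hPeq : P = Pu := eq_of_card (hPuP'.trans hP'S) (h.ge.trans inf_le_right) hPuc.le
      have h1 : u * y * u⁻¹ ∈ Pu := hPu ▸ ⟨y, hy, rfl⟩
      rwa [← hPeq] at h1)
    have h1 := step_le hS hPS hlt
    rw [hcard, sq, ← mul_assoc] at hRc
    exact Nat.le_of_mul_le_mul_right (Nat.eq_of_mul_eq_mul_right hp.out.pos hRc ▸ h1) hp.out.pos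
  have hexp : ∀ x ∈ P', x ^ p ∈ R := by
    intro x hx
    rw [← hPPu]
    have key : ∀ X : Subgroup Ω, X ≤ P' → Nat.card X = Nat.card P → R ≤ X → x ^ p ∈ X := by
      intro X hX hXc hRX
      by_cases hxX : x ∈ X
      · exact X.pow_mem hxX p
      obtain ⟨χ, hχ, hχ0, -⟩ := exists_char hS hP'S hX (hnR X hX (hcR.trans hRX)) (by rw [hXc, hcard]) hx hxX
      refine (hχ0 _ (P'.pow_mem hx p)).1 ?_
      rw [char_pow hχ hx, ZMod.natCast_self, zero_mul]
    exact ⟨key P hPP'.le rfl hRP, key Pu hPuP' hPuc hRPu⟩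
  -- coordinates
  obtain ⟨Mx, hMx⟩ : ∃ Mx, Mx = Subgroup.zpowers g ⊔ R := ⟨_, rfl⟩
  have hMxP' : Mx ≤ P' := hMx ▸ sup_le (Subgroup.zpowers_le.2 hg) hRP'
  have hgM : g ∈ Mx := hMx ▸ Subgroup.mem_sup_left (Subgroup.mem_zpowers g)
  have hRM : R ≤ Mx := hMx ▸ le_sup_right
  have hMc : Nat.card Mx = Nat.card R * p := by
    refine le_antisymm ?_ (step_le hS (hMxP'.trans hP'S) (lt_of_le_of_ne hRM fun h => hgP (hRP (h ▸ hgM))))
    have h1 : Mx.subgroupOf P' = R.subgroupOf P' ⊔ Subgroup.zpowers (⟨g, hg⟩ : P') := by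
      rw [hMx, Subgroup.subgroupOf_sup (Subgroup.zpowers_le.2 hg) hRP', sup_comm]
      congr 1
      apply Subgroup.map_injective P'.subtype_injective
      rw [Subgroup.map_subgroupOf_eq_of_le (Subgroup.zpowers_le.2 hg), MonoidHom.map_zpowers]
      rfl
    haveI : (R.subgroupOf P').Normal := ⟨fun b hb' q => Subgroup.mem_subgroupOf.2
      (conj_mem_of_normalizer (hnR R hRP' hcR q.2) (Subgroup.mem_subgroupOf.1 hb'))⟩
    have h2 := card_sup_zpowers_le (p := p) (R.subgroupOf P') (b := (⟨g, hg⟩ : P'))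
      (Subgroup.mem_subgroupOf.2 (hexp g hg))
    rwa [← h1, Nat.card_congr (Subgroup.subgroupOfEquivOfLe hMxP').toEquiv,
      Nat.card_congr (Subgroup.subgroupOfEquivOfLe hRP').toEquiv] at h2
  have hMcard : Nat.card P' = Nat.card Mx * p := by rw [hRc, hMc, sq, mul_assoc]
  have heM : e ∉ Mx := fun h => hgP (by
    have hlt : R < Subgroup.zpowers e ⊔ R := lt_of_le_of_ne le_sup_right fun h' => heR
      (h' ▸ Subgroup.mem_sup_left (Subgroup.mem_zpowers e))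
    have h1 := step_le hS (sup_le (Subgroup.zpowers_le.2 (hPS heP)) (hRP.trans hPS)) hlt
    have heq : Subgroup.zpowers e ⊔ R = Mx :=
      eq_of_card (hMxP'.trans hP'S) (sup_le (Subgroup.zpowers_le.2 h) hRM) (by rw [hMc]; exact h1)
    exact (sup_le (Subgroup.zpowers_le.2 heP) hRP : Subgroup.zpowers e ⊔ R ≤ P) (heq ▸ hgM))
  obtain ⟨χP, hP0, hP1, hPg⟩ := exists_char hS hP'S hPP'.le hP'n hcard hg hgP
  obtain ⟨χM, hM0, hM1, hMe⟩ := exists_char hS hP'S hMxP' (hnR Mx hMxP' (hcR.trans hRM)) hMcard heP' heM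
  have hPe : χP e = 0 := (hP1 e heP').2 heP
  have hMg : χM g = 0 := (hM1 g hg).2 hgM
  have hzeroR : ∀ x ∈ R, χM x = 0 ∧ χP x = 0 := fun x hx =>
    ⟨(hM1 x (hRP' hx)).2 (hRM hx), (hP1 x (hRP' hx)).2 (hRP hx)⟩
  have hmemR : ∀ x ∈ P', χM x = 0 → χP x = 0 → x ∈ R := by
    intro x hx h1 h2
    have hlt : P ⊓ Mx < P := lt_of_le_of_ne inf_le_left fun h => heM ((inf_le_right : P ⊓ Mx ≤ Mx) (h.ge heP))
    have h3 := step_le hS hPS hlt
    have heq : R = P ⊓ Mx := eq_of_card (inf_le_left.trans hPS) (le_inf hRP hRM) (by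
      rw [hcard, sq, ← mul_assoc] at hRc
      exact Nat.le_of_mul_le_mul_right (Nat.eq_of_mul_eq_mul_right hp.out.pos hRc ▸ h3) hp.out.pos)
    exact heq ▸ ⟨(hP1 x hx).1 h2, (hM1 x hx).1 h1⟩
  obtain ⟨T, hT⟩ : ∃ T : MulAut P' → Matrix (Fin 2) (Fin 2) (ZMod p),
      ∀ α, T α = !![χM (av α e), χM (av α g); χP (av α e), χP (av α g)] := ⟨_, fun _ => rfl⟩
  have hlin : ∀ α ∈ F.autGroup P', ∀ x ∈ P',
      χM (av α x) = T α 0 0 * χM x + T α 0 1 * χP x ∧ χP (av α x) = T α 1 0 * χM x + T α 1 1 * χP x := by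
    intro α hα x hx
    have hmap := map_of_mem_autGroup hP'S hα
    have hee : e ^ (χM x).val * g ^ (χP x).val ∈ P' := P'.mul_mem (P'.pow_mem heP' _) (P'.pow_mem hg _)
    obtain ⟨y, hy⟩ : ∃ y, y = x * (e ^ (χM x).val * g ^ (χP x).val)⁻¹ := ⟨_, rfl⟩
    have hyP : y ∈ P' := hy ▸ P'.mul_mem hx (P'.inv_mem hee)
    have hyR : y ∈ R := by
      refine hmemR y hyP ?_ ?_
      · rw [hy, char_sub hM0 hx hee, hM0 _ (P'.pow_mem heP' _) _ (P'.pow_mem hg _), char_pow hM0 heP',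
          char_pow hM0 hg, hMe, hMg, ZMod.natCast_zmod_val, mul_one, mul_zero, add_zero, sub_self]
      · rw [hy, char_sub hP0 hx hee, hP0 _ (P'.pow_mem heP' _) _ (P'.pow_mem hg _), char_pow hP0 heP',
          char_pow hP0 hg, hPe, hPg, ZMod.natCast_zmod_val (χP x), mul_one, mul_zero, zero_add, sub_self]
    have hyR' := hzeroR _ ((hinv _ hmap fun x hx => av_mem α hx).2 y hyR)
    have hxeq : av α x = av α y * (av α e ^ (χM x).val * av α g ^ (χP x).val) := by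
      rw [← map_pow hmap heP', ← map_pow hmap hg, ← hmap.map_mul (P'.pow_mem heP' _) (P'.pow_mem hg _),
        ← hmap.map_mul hyP hee, hy, inv_mul_cancel_right]
    have hpe : av α e ^ (χM x).val ∈ P' := P'.pow_mem (av_mem α heP') _
    have hpg : av α g ^ (χP x).val ∈ P' := P'.pow_mem (av_mem α hg) _
    simp only [hT, Matrix.of_apply, Matrix.cons_val', Matrix.cons_val_zero, Matrix.cons_val_one,
      Matrix.cons_val_fin_one]
    constructor
    · rw [hxeq, hM0 _ (av_mem α hyP) _ (P'.mul_mem hpe hpg), hM0 _ hpe _ hpg,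
        char_pow hM0 (av_mem α heP'), char_pow hM0 (av_mem α hg), hyR'.1, ZMod.natCast_zmod_val,
        ZMod.natCast_zmod_val]
      ring
    · rw [hxeq, hP0 _ (av_mem α hyP) _ (P'.mul_mem hpe hpg), hP0 _ hpe _ hpg,
        char_pow hP0 (av_mem α heP'), char_pow hP0 (av_mem α hg), hyR'.2, ZMod.natCast_zmod_val,
        ZMod.natCast_zmod_val]
      ring
  have hT1 : T 1 = 1 := by
    rw [hT, av_one heP', av_one hg, hMe, hMg, hPe, hPg]
    exact Matrix.one_fin_two.symm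
  have hTmul : ∀ α ∈ F.autGroup P', ∀ β ∈ F.autGroup P', T (α * β) = T α * T β := by
    intro α hα β hβ
    rw [hT (α * β), av_mul _ _ heP', av_mul _ _ hg, (hlin α hα _ (av_mem β heP')).1,
      (hlin α hα _ (av_mem β heP')).2, (hlin α hα _ (av_mem β hg)).1, (hlin α hα _ (av_mem β hg)).2, hT α, hT β,
      Matrix.mul_fin_two]
    simp
  have hTpow : ∀ α ∈ F.autGroup P', ∀ m : ℕ, T (α ^ m) = T α ^ m := by
    intro α hα m
    induction m with
    | zero => rw [pow_zero, pow_zero, hT1]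
    | succ m ih => rw [pow_succ, hTmul _ ((F.autGroup P').pow_mem hα m) _ hα, ih, pow_succ]
  have hunip : ∀ α ∈ F.autGroup P', IsPEl p α → (T α 1 1 - 1 = -(T α 0 0 - 1)) ∧
      (T α 0 0 - 1) * (T α 0 0 - 1) + T α 0 1 * T α 1 0 = 0 := by
    rintro α hα ⟨j, hj⟩
    exact unipotent_two (j := j) (by rw [← hTpow α hα, hj, hT1])
  -- elements fixing `P`
  have hfix : ∀ α ∈ F.autGroup P', IsPEl p α → T α 1 0 = 0 →
      α ∈ autInducedBy S P' ∧ T α = 1 := by
    rintro α hα ⟨j, hj⟩ hb0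
    have hmap := map_of_mem_autGroup hP'S hα
    have hαP : ∀ x ∈ P, av α x ∈ P := by
      intro x hx
      refine (hP1 _ (av_mem α (hPP'.le hx))).1 ?_
      rw [(hlin α hα x (hPP'.le hx)).2, hb0, (hP1 x (hPP'.le hx)).2 hx, zero_mul, mul_zero, add_zero]
    have hres := hmap.restrict hPP'.le
    have him : im P (av α) = P := hres.im_eq hαP (hres.surj_of_card_le hPS hαP le_rfl)
    obtain ⟨β, hβ, hβα⟩ := exists_aut hres him
    have hβp : IsPEl p β := ⟨j, aut_ext fun x hx => by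
      rw [← av_pow hPP'.le (fun y hy => (hβα y hy).symm) (p ^ j) x hx, hj, av_one (hPP'.le hx), av_one hx]⟩
    have hnorm : ∀ γ ∈ autInducedBy S P, β * γ * β⁻¹ ∈ autInducedBy S P := by
      intro γ hγ
      obtain ⟨s, hs, hsx⟩ := mem_autInducedBy.1 hγ
      have hsP' : s ∈ P' := hP'.ge ⟨hs, mem_normalizer_of_conj_aut hsx⟩
      refine mem_autInducedBy.2 ⟨av α s, hP'S (av_mem α hsP'), fun x hx => ?_⟩
      have hy : av β⁻¹ x ∈ P := av_mem _ hx
      rw [av_mul _ _ hx, av_mul _ _ hy, hsx _ hy, hβα _ (conj_mem_of_normalizer (mem_normalizer_of_conj_aut hsx) hy),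
        hmap.map_conj hsP' (hPP'.le hy), ← hβα _ hy, av_av_inv β hx]
    obtain ⟨s, hs, hsx⟩ := mem_autInducedBy.1 (hweak β hβ hβp hnorm)
    have hsP' : s ∈ P' := hP'.ge ⟨hs, mem_normalizer_of_conj_aut hsx⟩
    obtain ⟨z, hz, -, hzP⟩ := centric_agree hS hb.sat (centric_mono hb.centric hEP hPS) hPP'.le
      (map_conjBy hP'S hs) hmap fun x hx => by rw [← hβα x hx, hsx x hx]
    have hw : s * z ∈ P' := P'.mul_mem hsP' (hPP'.le hz)
    have hwx : ∀ x ∈ P', av α x = (s * z) * x * (s * z)⁻¹ := fun x hx => by rw [hzP x hx]; group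
    refine ⟨mem_autInducedBy.2 ⟨s * z, hP'S hw, hwx⟩, ?_⟩
    rw [hT, hwx e heP', hwx g hg, char_conj hM0 hw heP', char_conj hM0 hw hg, char_conj hP0 hw heP',
      char_conj hP0 hw hg, hMe, hMg, hPe, hPg]
    exact Matrix.one_fin_two.symm
  -- the element from `P''`
  have hσA : σ ∈ F.autGroup P' := autInducedBy_le_autGroup hP'S (hσS S hu.1)
  have hσp : IsPEl p σ := by
    obtain ⟨j, hj⟩ := (isPGroup_autS (P := P') hS) ⟨σ, hσS S hu.1⟩
    exact ⟨j, congrArg Subtype.val hj⟩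
  have hb₀ : T σ 1 0 ≠ 0 := by
    intro h0
    refine huP (mem_normalizer_of_conj_mem hPS fun y hy => ?_)
    refine (hP1 _ (conj_mem_of_normalizer hu.2 (hPP'.le hy))).1 ?_
    rw [← hσ y (hPP'.le hy), (hlin σ hσA y (hPP'.le hy)).2, h0, (hP1 y (hPP'.le hy)).2 hy, zero_mul, mul_zero,
      add_zero]
  intro α hα hαp
  by_cases hbα : T α 1 0 = 0
  · exact (hfix α hα hαp hbα).1
  obtain ⟨e1, e2⟩ := hunip α hα hαp
  obtain ⟨f1, f2⟩ := hunip σ hσA hσp
  obtain ⟨n, hn⟩ : ∃ n, n = T α 0 0 - 1 := ⟨_, rfl⟩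
  obtain ⟨n₀, hn₀⟩ : ∃ n₀, n₀ = T σ 0 0 - 1 := ⟨_, rfl⟩
  obtain ⟨b, hbd⟩ : ∃ b, b = T α 1 0 := ⟨_, rfl⟩
  obtain ⟨b₀, hbd₀⟩ : ∃ b₀, b₀ = T σ 1 0 := ⟨_, rfl⟩
  obtain ⟨q, hq⟩ : ∃ q, q = T α 0 1 := ⟨_, rfl⟩
  obtain ⟨q₀, hq₀⟩ : ∃ q₀, q₀ = T σ 0 1 := ⟨_, rfl⟩
  rw [← hn, ← hbd, ← hq] at e2
  rw [← hn] at e1
  rw [← hn₀, ← hbd₀, ← hq₀] at f2
  rw [← hn₀] at f1
  rw [← hbd₀] at hb₀
  rw [← hbd] at hbα
  obtain ⟨Nm, hNm⟩ : ∃ Nm : Matrix (Fin 2) (Fin 2) (ZMod p), Nm = !![n, q; b, -n] := ⟨_, rfl⟩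
  obtain ⟨N₀, hN₀⟩ : ∃ N₀ : Matrix (Fin 2) (Fin 2) (ZMod p), N₀ = !![n₀, q₀; b₀, -n₀] := ⟨_, rfl⟩
  have hTα : T α = 1 + Nm := by
    ext i j
    fin_cases i <;> fin_cases j <;> simp [hNm, hq, hbd, hn]
    linear_combination e1.trans (congrArg Neg.neg hn)
  have hTσ : T σ = 1 + N₀ := by
    ext i j
    fin_cases i <;> fin_cases j <;> simp [hN₀, hq₀, hbd₀, hn₀]
    linear_combination f1.trans (congrArg Neg.neg hn₀)
  have hsq : Nm * Nm = 0 := by
    rw [hNm, Matrix.mul_fin_two]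
    ext i j
    fin_cases i <;> fin_cases j <;> simp <;> first | linear_combination e2 | linear_combination -e2 | ring
  have hsq₀ : N₀ * N₀ = 0 := by
    rw [hN₀, Matrix.mul_fin_two]
    ext i j
    fin_cases i <;> fin_cases j <;> simp <;> first | linear_combination f2 | linear_combination -f2 | ring
  have hpowT : ∀ i : ℕ, T (α ^ i) = 1 + (i : ZMod p) • Nm := fun i => by
    rw [hTpow α hα, hTα, pow_one_add hsq, ← nsmul_eq_mul, Nat.cast_smul_eq_nsmul]
  have hD : b * n₀ - n * b₀ = 0 := by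
    by_contra hD
    obtain ⟨i, hi⟩ : ∃ i : ℕ, (i : ZMod p) = -b₀ / (b * n₀ - n * b₀) :=
      ⟨(-b₀ / (b * n₀ - n * b₀)).val, ZMod.natCast_zmod_val _⟩
    have hαi := (F.autGroup P').pow_mem hα i
    have hαi' := (F.autGroup P').inv_mem hαi
    obtain ⟨j, hj⟩ := hσp
    have hTinv : T (α ^ i)⁻¹ = 1 - (i : ZMod p) • Nm := by
      have h1 : T (α ^ i)⁻¹ * T (α ^ i) = 1 := by rw [← hTmul _ hαi' _ hαi, inv_mul_cancel, hT1]
      have h2 : T (α ^ i) * (1 - (i : ZMod p) • Nm) = 1 := by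
        rw [hpowT, mul_sub, mul_one, add_mul, one_mul, smul_mul_smul_comm, hsq, smul_zero, add_zero, add_sub_cancel_right]
      exact left_inv_eq_right_inv h1 h2
    have hγT : T (α ^ i * σ * (α ^ i)⁻¹) = (1 + (i : ZMod p) • Nm) * (1 + N₀) * (1 - (i : ZMod p) • Nm) := by
      rw [hTmul _ ((F.autGroup P').mul_mem hαi hσA) _ hαi', hTmul _ hαi _ hσA, hpowT, hTσ, hTinv]
    have h10 : T (α ^ i * σ * (α ^ i)⁻¹) 1 0 = 0 := by
      rw [hγT, hNm, hN₀, Matrix.one_fin_two, Matrix.smul_of]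
      simp [Matrix.mul_apply, Fin.sum_univ_two]
      have h2 : (i : ZMod p) * (b * n₀ - n * b₀) = -b₀ := by rw [hi, div_mul_cancel₀ _ hD]
      have h3 : b₀ * (b₀ + 2 * (i : ZMod p) * (b * n₀ - n * b₀) + 0) +
          ((i : ZMod p) * (b * n₀ - n * b₀)) ^ 2 = 0 := by rw [mul_assoc 2, h2]; ring
      refine mul_left_cancel₀ hb₀ ?_
      rw [mul_zero]
      linear_combination h3 - (i : ZMod p) ^ 2 * b ^ 2 * f2
    have h2 := (hfix _ ((F.autGroup P').mul_mem ((F.autGroup P').mul_mem hαi hσA) hαi')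
      ⟨j, by rw [conj_pow, hj, mul_one, mul_inv_cancel]⟩ h10).2
    rw [hTmul _ ((F.autGroup P').mul_mem hαi hσA) _ hαi', hTmul _ hαi _ hσA] at h2
    have h3 : T (α ^ i)⁻¹ * T (α ^ i) = 1 := by rw [← hTmul _ hαi' _ hαi, inv_mul_cancel, hT1]
    have h4 : T (α ^ i) * T σ = T (α ^ i) := by
      have h5 := congrArg (· * T (α ^ i)) h2
      simpa [mul_assoc, h3] using h5
    have h5 : T σ = 1 := by
      have h6 := congrArg (T (α ^ i)⁻¹ * ·) h4
      simpa [← mul_assoc, h3] using h6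
    apply hb₀
    rw [hbd₀, h5]
    simp
  obtain ⟨s, hs⟩ : ∃ s, s = b / b₀ := ⟨_, rfl⟩
  have hbs : b = s * b₀ := by rw [hs, div_mul_cancel₀ _ hb₀]
  have hns : n = s * n₀ := by
    refine mul_right_cancel₀ hb₀ ?_
    rw [show s * n₀ * b₀ = b * n₀ by rw [hbs]; ring]
    linear_combination -hD
  have hqs : q = s * q₀ := by
    refine mul_right_cancel₀ hbα ?_
    rw [hbs]
    have e2' := e2
    rw [hns, hbs] at e2'
    linear_combination e2' - s ^ 2 * f2
  have hNeq : Nm = s • N₀ := by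
    rw [hNm, hN₀, hns, hqs, hbs]
    ext i j
    fin_cases i <;> fin_cases j <;> simp
  obtain ⟨κ, hκ⟩ : ∃ κ, κ = α * σ ^ (-s).val := ⟨_, rfl⟩
  have hκA : κ ∈ F.autGroup P' := hκ ▸ (F.autGroup P').mul_mem hα ((F.autGroup P').pow_mem hσA _)
  have hTκ : T κ = 1 := by
    rw [hκ, hTmul _ hα _ ((F.autGroup P').pow_mem hσA _), hTpow σ hσA, hTσ, pow_one_add hsq₀, hTα, hNeq,
      ← nsmul_eq_mul, ← Nat.cast_smul_eq_nsmul (ZMod p), ZMod.natCast_zmod_val, mul_add, mul_one, add_mul, one_mul,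
      smul_mul_smul_comm, hsq₀, smul_zero, add_zero, neg_smul, add_assoc, add_neg_cancel, add_zero]
  -- trivial action on `R / [P', P']`
  have hZR : Z₀ ≤ R := hR ▸ le_sup_right
  have hcs : ∀ γ ∈ F.autGroup P', IsPEl p γ → ∀ x ∈ R, x⁻¹ * av γ x ∈ ⁅P', P'⁆ := by
    rintro γ hγ ⟨j, hj⟩ x hx
    have hmap := map_of_mem_autGroup hP'S hγ
    have hZB : Z₀ ⊓ ⁅P', P'⁆ ≤ Z₀ := inf_le_left
    have hZn : Z₀ ≤ Subgroup.normalizer ((Z₀ ⊓ ⁅P', P'⁆ : Subgroup Ω) : Set Ω) := fun z hz =>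
      mem_normalizer_of_conj_mem (hZB.trans ((hb.Z_le hNP').trans hP'S)) fun y hy => by
        rw [cent z (hb.Z_le hNP' hz) y hy.1, mul_inv_cancel_right]; exact hy
    have hiter : ∀ m, ∀ z ∈ P', (av γ)^[m] z = av (γ ^ m) z := by
      intro m
      induction m with
      | zero => intro z hz; rw [pow_zero, av_one hz]; rfl
      | succ m ih => intro z hz; rw [Function.iterate_succ_apply, ih _ (av_mem γ hz), pow_succ, av_mul _ _ hz]
    have hcardle : Nat.card Z₀ ≤ Nat.card (Z₀ ⊓ ⁅P', P'⁆ : Subgroup Ω) * p := by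
      rw [hb.cardZ, sq]
      refine Nat.mul_le_mul_right p ?_
      haveI := finite_of_le (hZB.trans ((hb.Z_le hNP').trans hP'S))
      refine le_trans ?_ (Subgroup.card_le_of_le (Subgroup.zpowers_le.2 (show c ∈ Z₀ ⊓ ⁅P', P'⁆ from ⟨hb.c_mem, hc⟩)))
      rw [Nat.card_zpowers, hb.c_ord]
    have hs := small_fix hS ((hb.Z_le hNP').trans hP'S) hZB hZn hcardle (f := av γ)
      (hb.map_Z hNP' cent hmap fun y hy => av_mem γ hy)
      (fun y hy => ⟨hb.map_Z hNP' cent hmap (fun y hy => av_mem γ hy) y hy.1,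
        (hinv _ hmap fun y hy => av_mem γ hy).1 y hy.2⟩)
      (fun y hy z hz => hmap.map_mul (hb.Z_le hNP' hy) (hb.Z_le hNP' hz))
      ⟨j, fun z hz => by rw [hiter _ z (hb.Z_le hNP' hz), hj, av_one (hb.Z_le hNP' hz)]⟩
    have hK : ∀ y ∈ R, y ∈ P' ∧ y⁻¹ * av γ y ∈ ⁅P', P'⁆ := by
      intro y hy
      rw [hR, der, Subgroup.sup_eq_closure] at hy
      induction hy using Subgroup.closure_induction with
      | mem y hy =>
        rcases hy with hy | hy
        · exact ⟨hcle hy, Subgroup.mul_mem _ (Subgroup.inv_mem _ hy) ((hinv _ hmap fun y hy => av_mem γ hy).1 y hy)⟩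
        · exact ⟨hb.Z_le hNP' hy, (hs y hy).2⟩
      | one => exact ⟨P'.one_mem, by rw [hmap.map_one]; simp⟩
      | mul a b _ _ iha ihb =>
        refine ⟨P'.mul_mem iha.1 ihb.1, ?_⟩
        rw [hmap.map_mul iha.1 ihb.1, show (a * b)⁻¹ * (av γ a * av γ b) =
          (b⁻¹ * (a⁻¹ * av γ a) * b⁻¹⁻¹) * (b⁻¹ * av γ b) by group]
        exact Subgroup.mul_mem _ (conj_mem_of_normalizer (hnR _ hcle le_rfl (P'.inv_mem ihb.1)) iha.2) ihb.2
      | inv a _ iha =>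
        refine ⟨P'.inv_mem iha.1, ?_⟩
        rw [hmap.map_inv iha.1, show a⁻¹⁻¹ * (av γ a)⁻¹ = a * (a⁻¹ * av γ a)⁻¹ * a⁻¹ by group]
        exact conj_mem_of_normalizer (hnR _ hcle le_rfl iha.1) (Subgroup.inv_mem _ iha.2)
    exact (hK x hx).2
  have hclosed : ∀ γ δ : MulAut P', (∀ x ∈ R, x⁻¹ * av γ x ∈ ⁅P', P'⁆) → δ ∈ F.autGroup P' →
      (∀ x ∈ R, x⁻¹ * av δ x ∈ ⁅P', P'⁆) → ∀ x ∈ R, x⁻¹ * av (γ * δ) x ∈ ⁅P', P'⁆ := by
    intro γ δ hγ hδ hδ' x hx
    have hy := (hinv _ (map_of_mem_autGroup hP'S hδ) fun y hy => av_mem δ hy).2 x hx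
    rw [av_mul _ _ (hRP' hx),
      show x⁻¹ * av γ (av δ x) = (x⁻¹ * av δ x) * ((av δ x)⁻¹ * av γ (av δ x)) by group]
    exact Subgroup.mul_mem _ (hδ' x hx) (hγ _ hy)
  have hone : ∀ x ∈ R, x⁻¹ * av (1 : MulAut P') x ∈ ⁅P', P'⁆ := fun x hx => by
    rw [av_one (hRP' hx)]; simp
  have hTrσ : ∀ m : ℕ, ∀ x ∈ R, x⁻¹ * av (σ ^ m) x ∈ ⁅P', P'⁆ := by
    intro m
    induction m with
    | zero => rw [pow_zero]; exact hone
    | succ m ih => rw [pow_succ]; exact hclosed _ _ ih hσA (hcs σ hσA hσp)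
  have hTrκ : ∀ x ∈ R, x⁻¹ * av κ x ∈ ⁅P', P'⁆ :=
    hκ ▸ hclosed _ _ (hcs α hα hαp) ((F.autGroup P').pow_mem hσA _) (hTrσ _)
  have hκpow : ∀ m : ℕ, ∀ x ∈ R, x⁻¹ * av (κ ^ m) x ∈ ⁅P', P'⁆ := by
    intro m
    induction m with
    | zero => rw [pow_zero]; exact hone
    | succ m ih => rw [pow_succ]; exact hclosed _ _ ih hκA hTrκ
  have hκp : IsPEl p κ := by
    obtain ⟨o, ho⟩ : ∃ o, o = orderOf κ := ⟨_, rfl⟩
    have ho0 : o ≠ 0 := ho ▸ (orderOf_pos κ).ne'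
    obtain ⟨k, hk⟩ : ∃ k, o = p ^ k := by
      refine ⟨_, Nat.eq_prime_pow_of_unique_prime_dvd ho0 fun {q} hq hd => ?_⟩
      by_contra hqp
      haveI := Fact.mk hq
      obtain ⟨δ, hδ⟩ : ∃ δ, δ = κ ^ (o / q) := ⟨_, rfl⟩
      have hδo : orderOf δ = q := by
        rw [hδ, ho]
        exact orderOf_pow_orderOf_div (orderOf_pos κ).ne' (ho ▸ hd)
      have hδA : δ ∈ F.autGroup P' := hδ ▸ (F.autGroup P').pow_mem hκA _
      have hTδ : T δ = 1 := by rw [hδ, hTpow κ hκA, hTκ, one_pow]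
      have hδR : ∀ x ∈ R, x⁻¹ * av δ x ∈ ⁅P', P'⁆ := hδ ▸ hκpow _
      have hmap := map_of_mem_autGroup hP'S hδA
      have hδP : ∀ x ∈ P', x⁻¹ * av δ x ∈ ⁅P', P'⁆ := by
        intro x hx
        obtain ⟨r, hr⟩ : ∃ r, r = x⁻¹ * av δ x := ⟨_, rfl⟩
        rw [← hr]
        have hrP : r ∈ P' := hr ▸ P'.mul_mem (P'.inv_mem hx) (av_mem δ hx)
        have hrR : r ∈ R := by
          refine hmemR r hrP ?_ ?_
          · rw [hr, hM0 _ (P'.inv_mem hx) _ (av_mem δ hx), char_inv hM0 hx, (hlin δ hδA x hx).1, hTδ]; simp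
          · rw [hr, hP0 _ (P'.inv_mem hx) _ (av_mem δ hx), char_inv hP0 hx, (hlin δ hδA x hx).2, hTδ]; simp
        have hiter : ∀ i : ℕ, (x * r ^ i)⁻¹ * av (δ ^ i) x ∈ ⁅P', P'⁆ := by
          intro i
          induction i with
          | zero => rw [pow_zero, pow_zero, av_one hx]; simp
          | succ i ih =>
            have hxi : x * r ^ i ∈ P' := P'.mul_mem hx (P'.pow_mem hrP i)
            obtain ⟨k, hk⟩ : ∃ k, k = (x * r ^ i)⁻¹ * av (δ ^ i) x := ⟨_, rfl⟩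
            rw [← hk] at ih
            have hkx : av (δ ^ i) x = x * r ^ i * k := by rw [hk]; group
            rw [pow_succ' δ, av_mul _ _ hx, hkx, hmap.map_mul hxi (hcle ih), hmap.map_mul hx (P'.pow_mem hrP i),
              show (x * r ^ (i + 1))⁻¹ * (av δ x * av δ (r ^ i) * av δ k) =
                ((r ^ i)⁻¹ * ((x * r)⁻¹ * av δ x) * (r ^ i)) * ((r ^ i)⁻¹ * av δ (r ^ i)) * av δ k by
                rw [pow_succ']; group,
              show (x * r)⁻¹ * av δ x = 1 by rw [hr]; group, mul_one, inv_mul_cancel, one_mul]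
            exact Subgroup.mul_mem _ (hδR _ (R.pow_mem hrR i)) ((hinv _ hmap fun y hy => av_mem δ hy).1 k ih)
        have h1 := hiter q
        rw [← hδo, pow_orderOf_eq_one, av_one hx, hδo, show (x * r ^ q)⁻¹ * x = (r ^ q)⁻¹ by group,
          Subgroup.inv_mem_iff] at h1
        obtain ⟨a, ha⟩ := hS ⟨r, hP'S hrP⟩
        have hra : orderOf r ∣ p ^ a := orderOf_dvd_of_pow_eq_one (congrArg Subtype.val ha)
        obtain ⟨m, hm⟩ := exists_pow_eq_self_of_coprime (n := q) (x := r)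
          (Nat.Coprime.coprime_dvd_right hra (((Nat.coprime_primes hq hp.out).2 hqp).pow_right a))
        rw [← hm]
        exact Subgroup.pow_mem _ h1 m
      have hcomm : (commutator P').map P'.subtype = ⁅P', P'⁆ := Subgroup.map_subtype_commutator P'
      have h1 : δ = 1 := eq_one_of_triv (hS.to_le hP'S) hq hqp (by rw [← hδo, pow_orderOf_eq_one]) fun y => by
        have h2 := hδP y y.2
        rw [av_coe, ← hcomm] at h2
        obtain ⟨w, hw, hwe⟩ := h2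
        rwa [show w = y⁻¹ * δ y from Subtype.ext hwe] at hw
      rw [h1, orderOf_one] at hδo
      exact hq.ne_one hδo.symm
    exact ⟨k, by rw [← hk, ho, pow_orderOf_eq_one]⟩
  have hκS := (hfix κ hκA hκp (by rw [hTκ]; simp)).1
  have hσI := hσS S hu.1
  rw [show α = κ * (σ ^ (-s).val)⁻¹ by rw [hκ, mul_inv_cancel_right]]
  exact Subgroup.mul_mem _ hκS (Subgroup.inv_mem _ (Subgroup.pow_mem _ hσI _))

end Cfsg.Agent.Local.FS.Tower
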