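import Cfsg.Agent.Lib.Local.FS.Centric
import Cfsg.Agent.Lib.Local.FS.TowerTools

/-!
One step of a normaliser tower above a self-centralising subgroup of order `p³`, carrying an
automorphism with known eigenvalues.
-/

set_option autoImplicit false

open scoped commutatorElement

namespace Cfsg.Agent.Local.FS.Tower

open Cfsg Cfsg.FusionSystem Cfsg.Agent.Fusion

variable {Ω : Type*} [Group Ω] {S : Subgroup Ω} [Finite S] {F : FusionSystem S} {p : ℕ}
  [hp : Fact p.Prime]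

/-- The fixed data at the bottom of the tower. -/
structure Base (F : FusionSystem S) (p : ℕ) (E Z₀ : Subgroup Ω) (e c l : Ω) (L M : ZMod p) : Prop where
  pgroup : IsPGroup p S
  sat : F.IsSaturated p
  centric : F.IsCentric E
  cardE : Nat.card E = p ^ 3
  comm : ∀ a ∈ E, ∀ b ∈ E, a * b = b * a
  exp : ∀ a ∈ E, a ^ p = 1
  cardN : Nat.card (normalizerIn S E) = p ^ 4
  leZ : Z₀ ≤ E
  cardZ : Nat.card Z₀ = p ^ 2
  e_mem : e ∈ E
  e_not : e ∉ Z₀
  genE : E ≤ Subgroup.zpowers e ⊔ Z₀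
  c_mem : c ∈ Z₀
  c_ord : orderOf c = p
  l_mem : l ∈ Z₀
  l_not : l ∉ Subgroup.zpowers c
  genZ : Z₀ ≤ Subgroup.zpowers c ⊔ Subgroup.zpowers l
  centN : ∀ x ∈ normalizerIn S E, ∀ z ∈ Z₀, x * z = z * x
  fixN : ∀ a ∈ E, (∀ x ∈ normalizerIn S E, x * a = a * x) → a ∈ Z₀
  commN : ∀ x ∈ normalizerIn S E, ∀ a ∈ E, ⁅x, a⁆ ∈ Subgroup.zpowers c
  LM : L * M = 1
  ord : ∀ m : ℕ, M ^ m = 1 → p - 1 ∣ m

/-- `α` is an element of `p`-power order. -/
def IsPEl (p : ℕ) {H : Type*} [Monoid H] (α : H) : Prop := ∃ j : ℕ, α ^ p ^ j = 1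

/-- Every `p`-element of the automiser is induced by `S`. -/
def Good (F : FusionSystem S) (p : ℕ) (P : Subgroup Ω) : Prop :=
  ∀ α ∈ F.autGroup P, IsPEl p α → α ∈ autInducedBy S P

/-- The next derived term of the tower. -/
def der (Z₀ P : Subgroup Ω) : Subgroup Ω := ⁅P, P⁆ ⊔ Z₀

/-- `t` has the prescribed values on `E`. -/
structure Tor (F : FusionSystem S) (P : Subgroup Ω) (e c l : Ω) (L M : ZMod p) (t : Ω → Ω) : Prop where
  map : Map F P t
  mem : ∀ x ∈ P, t x ∈ P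
  te : t e = e ^ L.val
  tc : t c = c ^ M.val
  tl : t l = l

/-- A level of the tower. -/
structure Lvl (F : FusionSystem S) (p : ℕ) (E Z₀ : Subgroup Ω) (e c l : Ω) (L M : ZMod p) (k : ℕ)
    (P Q : Subgroup Ω) (t : Ω → Ω) : Prop where
  lt : Q < P
  eq : P = normalizerIn S Q
  cardP : Nat.card P = p ^ (k + 3)
  cardQ : Nat.card Q = p ^ (k + 2)
  leQ : E ≤ Q
  cent : ∀ x ∈ P, ∀ z ∈ Z₀, x * z = z * x
  cardD : Nat.card (der Z₀ P) = p ^ (k + 1)
  D_le : der Z₀ P ≤ Q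
  e_not : e ∉ der Z₀ P
  good : Good F p P
  tor : Tor F P e c l L M t
  weight : ∀ h ∈ P, t h * (h ^ (M ^ (k + 1)).val)⁻¹ ∈ Q
  chain : ∀ h ∈ P, h ∉ Q →
    (fun a => ⁅a, e⁆)^[k] h ∈ Subgroup.zpowers c ∧ (fun a => ⁅a, e⁆)^[k] h ≠ 1

/-- What holds for the normaliser of a level. -/
structure Up (F : FusionSystem S) (p : ℕ) (Z₀ : Subgroup Ω) (e c l : Ω) (L M : ZMod p) (k : ℕ)
    (P P' : Subgroup Ω) (t : Ω → Ω) : Prop where
  lt : P < P'
  eq : P' = normalizerIn S P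
  cardP' : Nat.card P' = p ^ (k + 4)
  cardD : Nat.card (der Z₀ P') = p ^ (k + 2)
  D_le : der Z₀ P' ≤ P
  e_not : e ∉ der Z₀ P'
  tor : Tor F P' e c l L M t
  weight : ∀ h ∈ P', t h * (h ^ (M ^ (k + 2)).val)⁻¹ ∈ P
  chain : ∀ h ∈ P', h ∉ P →
    (fun a => ⁅a, e⁆)^[k + 1] h ∈ Subgroup.zpowers c ∧ (fun a => ⁅a, e⁆)^[k + 1] h ≠ 1

variable {E Z₀ : Subgroup Ω} {e c l : Ω} {L M : ZMod p} {P Q : Subgroup Ω} {t : Ω → Ω}

omit hp in
theorem Base.leS (hb : Base F p E Z₀ e c l L M) : E ≤ S := hb.centric.1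

omit hp in
/-- Above `N_S(E)` the centre is `Z₀`. -/
theorem Base.center_mem (hb : Base F p E Z₀ e c l L M) (hNP : normalizerIn S E ≤ P) (hPS : P ≤ S)
    {x : Ω} (hx : x ∈ P) (hc : ∀ y ∈ P, y * x = x * y) : x ∈ Z₀ := by
  have hEN : E ≤ normalizerIn S E := le_normalizerIn hb.leS
  exact hb.fixN x (centric_inv_mem hb.centric (hPS hx) fun y hy => hc y (hNP (hEN hy)))
    fun y hy => hc y (hNP hy)

omit hp in
theorem Base.Z_le (hb : Base F p E Z₀ e c l L M) (hNP : normalizerIn S E ≤ P) : Z₀ ≤ P :=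
  hb.leZ.trans ((le_normalizerIn hb.leS).trans hNP)

omit hp in
/-- Maps of `P` onto itself preserve `Z₀`. -/
theorem Base.map_Z (hb : Base F p E Z₀ e c l L M) (hNP : normalizerIn S E ≤ P)
    (hcent : ∀ x ∈ P, ∀ z ∈ Z₀, x * z = z * x) {f : Ω → Ω} (hf : Map F P f) (hfP : ∀ x ∈ P, f x ∈ P) :
    ∀ z ∈ Z₀, f z ∈ Z₀ := by
  intro z hz
  have hzP := hb.Z_le hNP hz
  refine hb.center_mem hNP hf.le (hfP z hzP) fun y hy => ?_
  obtain ⟨x, hx, rfl⟩ := hf.surj_of_card_le hf.le hfP le_rfl y hy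
  rw [← hf.map_mul hx hzP, ← hf.map_mul hzP hx, hcent x hx z hz]

omit hp in
theorem commutator_map {f : Ω → Ω} (hf : Map F P f) (hfP : ∀ x ∈ P, f x ∈ P) :
    ∀ x ∈ ⁅P, P⁆, f x ∈ ⁅P, P⁆ := by
  have hle : ⁅P, P⁆ ≤ P := Subgroup.commutator_le.2 fun a ha b hb =>
    P.mul_mem (P.mul_mem (P.mul_mem ha hb) (P.inv_mem ha)) (P.inv_mem hb)
  intro x hx
  refine (show x ∈ P ∧ f x ∈ ⁅P, P⁆ from ?_).2
  rw [Subgroup.commutator_def] at hx
  induction hx using Subgroup.closure_induction with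
  | mem y hy =>
    obtain ⟨a, ha, b, hb, rfl⟩ := hy
    refine ⟨hle (Subgroup.commutator_mem_commutator ha hb), ?_⟩
    have : f ⁅a, b⁆ = ⁅f a, f b⁆ := by
      rw [commutatorElement_def, commutatorElement_def,
        hf.map_mul (P.mul_mem (P.mul_mem ha hb) (P.inv_mem ha)) (P.inv_mem hb),
        hf.map_mul (P.mul_mem ha hb) (P.inv_mem ha), hf.map_mul ha hb, hf.map_inv ha, hf.map_inv hb]
    rw [this]
    exact Subgroup.commutator_mem_commutator (hfP a ha) (hfP b hb)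
  | one => exact ⟨P.one_mem, by rw [hf.map_one]; exact Subgroup.one_mem _⟩
  | mul a b _ _ iha ihb =>
    exact ⟨P.mul_mem iha.1 ihb.1, by rw [hf.map_mul iha.1 ihb.1]; exact Subgroup.mul_mem _ iha.2 ihb.2⟩
  | inv a _ iha => exact ⟨P.inv_mem iha.1, by rw [hf.map_inv iha.1]; exact Subgroup.inv_mem _ iha.2⟩

omit hp in
theorem map_pow {f : Ω → Ω} (hf : Map F P f) {x : Ω} (hx : x ∈ P) (m : ℕ) : f (x ^ m) = f x ^ m := by
  induction m with
  | zero => rw [pow_zero, pow_zero, hf.map_one]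
  | succ m ih => rw [pow_succ, hf.map_mul (P.pow_mem hx m) hx, ih, pow_succ]

/-- The step of the tower. -/
theorem Lvl.up {k : ℕ} (hb : Base F p E Z₀ e c l L M) (hl : Lvl F p E Z₀ e c l L M k P Q t)
    (hNP : normalizerIn S E ≤ P) (hPS : P < S) :
    ∃ t', Up F p Z₀ e c l L M k P (normalizerIn S P) t' := by
  classical
  obtain ⟨P', hP'⟩ : ∃ P', P' = normalizerIn S P := ⟨_, rfl⟩
  rw [← hP']
  have hPP' : P < P' := hP' ▸ lt_normalizerIn hb.pgroup hPS
  have hP'S : P' ≤ S := hP' ▸ inf_le_left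
  have hP'n : P' ≤ Subgroup.normalizer (P : Set Ω) := hP' ▸ inf_le_right
  obtain ⟨D, hD⟩ : ∃ D, D = der Z₀ P := ⟨_, rfl⟩
  have hcP : ⁅P, P⁆ ≤ P := Subgroup.commutator_le.2 fun a ha b hb' =>
    P.mul_mem (P.mul_mem (P.mul_mem ha hb') (P.inv_mem ha)) (P.inv_mem hb')
  have hDP : D ≤ P := hD ▸ sup_le hcP (hb.Z_le hNP)
  have hDQ : D ≤ Q := hD ▸ hl.D_le
  have heP : e ∈ P := hl.lt.le (hl.leQ hb.e_mem)
  have heD : e ∉ D := hD ▸ hl.e_not
  have hnD : ∀ f : Ω → Ω, Map F P f → (∀ x ∈ P, f x ∈ P) → ∀ x ∈ D, f x ∈ D := by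
    intro f hf hfP x hx
    refine (show x ∈ P ∧ f x ∈ D from ?_).2
    rw [hD, der, Subgroup.sup_eq_closure] at hx
    induction hx using Subgroup.closure_induction with
    | mem y hy =>
      rcases hy with hy | hy
      · exact ⟨hcP hy, hD ▸ Subgroup.mem_sup_left (commutator_map hf hfP y hy)⟩
      · exact ⟨hb.Z_le hNP hy, hD ▸ Subgroup.mem_sup_right (hb.map_Z hNP hl.cent hf hfP y hy)⟩
    | one => exact ⟨P.one_mem, by rw [hf.map_one]; exact D.one_mem⟩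
    | mul a b _ _ iha ihb =>
      exact ⟨P.mul_mem iha.1 ihb.1, by rw [hf.map_mul iha.1 ihb.1]; exact D.mul_mem iha.2 ihb.2⟩
    | inv a _ iha => exact ⟨P.inv_mem iha.1, by rw [hf.map_inv iha.1]; exact D.inv_mem iha.2⟩
  have hP'D : P' ≤ Subgroup.normalizer (D : Set Ω) := by
    intro h hh
    refine mem_normalizer_of_conj_mem (hDP.trans hPS.le) fun y hy => ?_
    exact hnD _ (map_conjBy hPS.le (hP'S hh)) (fun x hx => conj_mem_of_normalizer (hP'n hh) hx) y hy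
  have hcardD : Nat.card D = p ^ (k + 1) := hD ▸ hl.cardD
  have hDlt : D < P := lt_of_le_of_ne hDP fun h => by
    rw [h, hl.cardP] at hcardD
    exact absurd (Nat.pow_right_injective hp.out.two_le hcardD) (by omega)
  obtain ⟨r, hr, hrD, hrfix⟩ := exists_fixed hb.pgroup hP'S hPP'.le hP'n hDlt
  have hrh : ∀ h ∈ P', ⁅h, r⁆ ∈ D := fun h hh => by
    rw [← commutatorElement_inv]; exact D.inv_mem (hrfix h hh)
  obtain ⟨W, hW⟩ : ∃ W, W = Subgroup.zpowers r ⊔ D := ⟨_, rfl⟩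
  have hWP : W ≤ P := hW ▸ sup_le (Subgroup.zpowers_le.2 hr) hDP
  have hDW : D ≤ W := hW ▸ le_sup_right
  have hrW : r ∈ W := hW ▸ Subgroup.mem_sup_left (Subgroup.mem_zpowers r)
  have hWn : ∀ h ∈ P', ∀ x ∈ W, h * x * h⁻¹ ∈ W := by
    intro h hh x hx
    have hle : W.map (MulAut.conj h).toMonoidHom ≤ W := by
      rw [hW, Subgroup.map_sup, MonoidHom.map_zpowers]
      refine sup_le (Subgroup.zpowers_le.2 ?_) ?_
      · show h * r * h⁻¹ ∈ _
        rw [show h * r * h⁻¹ = ⁅h, r⁆ * r by rw [commutatorElement_def]; group]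
        exact Subgroup.mul_mem _ (Subgroup.mem_sup_right (hrh h hh))
          (Subgroup.mem_sup_left (Subgroup.mem_zpowers r))
      · rintro _ ⟨y, hy, rfl⟩
        exact Subgroup.mem_sup_right (conj_mem_of_normalizer (hP'D hh) hy)
    exact hle ⟨x, hx, rfl⟩
  have hP'W : P' ≤ Subgroup.normalizer (W : Set Ω) := fun h hh =>
    mem_normalizer_of_conj_mem (hWP.trans hPS.le) (hWn h hh)
  obtain ⟨g, hg, hgP⟩ := SetLike.exists_of_lt hPP'
  have hgQ : g ∉ Subgroup.normalizer (Q : Set Ω) := fun h => hgP (hl.eq.ge ⟨hP'S hg, h⟩)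
  have hWQ : ¬ W ≤ Q := by
    intro h
    have hDW' : D < W := lt_of_le_of_ne hDW fun he => hrD (he ▸ hrW)
    have h2 := step_le hb.pgroup (hWP.trans hPS.le) hDW'
    rw [hcardD, ← pow_succ] at h2
    exact hgQ ((eq_of_card (hl.lt.le.trans hPS.le) h (by rw [hl.cardQ]; exact h2)) ▸ hP'W hg)
  have hWlt : W < P := lt_of_le_of_ne hWP fun h => by
    -- `P/D` is not generated by one fixed element
    let K : Subgroup Ω :=
      { carrier := {x | x ∈ P ∧ ⁅g, x⁆ ∈ D}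
        one_mem' := ⟨P.one_mem, by simp⟩
        mul_mem' := fun {a b} ha hb' => ⟨P.mul_mem ha.1 hb'.1, by
          rw [commutator_conj_right]
          exact D.mul_mem ha.2 (conj_mem_of_normalizer (hP'D (hPP'.le ha.1)) hb'.2)⟩
        inv_mem' := fun {a} ha => ⟨P.inv_mem ha.1, by
          rw [show ⁅g, a⁻¹⁆ = a⁻¹ * ⁅g, a⁆⁻¹ * a⁻¹⁻¹ by simp only [commutatorElement_def]; group]
          exact conj_mem_of_normalizer (hP'D (hPP'.le (P.inv_mem ha.1))) (D.inv_mem ha.2)⟩ }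
    have hK : P ≤ K := h.ge.trans (hW ▸ sup_le (Subgroup.zpowers_le.2 (show r ∈ K from ⟨hr, hrh g hg⟩))
      fun y hy => show y ∈ K from ⟨hDP hy, by
        rw [commutatorElement_def]
        exact D.mul_mem (conj_mem_of_normalizer (hP'D hg) hy) (D.inv_mem hy)⟩)
    have : ∀ x ∈ P, ⁅g, x⁆ ∈ D := fun x hx => (hK hx).2
    exact hgQ (mem_normalizer_of_conj_mem (hl.lt.le.trans hPS.le)
      (normalizes_of_comm fun x hx => hDQ (this x (hl.lt.le hx))))
  have hDW' : D < W := lt_of_le_of_ne hDW fun he => hrD (he ▸ hrW)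
  have hcardW : Nat.card W = p ^ (k + 2) := by
    refine le_antisymm ?_ ?_
    · have h1 := step_le hb.pgroup hPS.le hWlt
      rw [hl.cardP, show k + 3 = k + 2 + 1 by omega, pow_succ] at h1
      exact Nat.le_of_mul_le_mul_right h1 hp.out.pos
    · have h1 := step_le hb.pgroup (hWP.trans hPS.le) hDW'
      rwa [hcardD, ← pow_succ] at h1
  have hfixPW : ∀ h ∈ P', ∀ x ∈ P, ⁅h, x⁆ ∈ W := fun h hh =>
    conj_fix hb.pgroup hPS.le hWP (hPP'.le.trans hP'W)
      (by rw [hl.cardP, hcardW, ← pow_succ]) (hP'S hh) (hP'n hh) (hP'W hh)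
  have hcD : Nat.card W = Nat.card D * p := by rw [hcardW, hcardD, ← pow_succ]
  have hWD : W ≤ Subgroup.normalizer (D : Set Ω) := (hWP.trans hPP'.le).trans hP'D
  have hfixWD : ∀ h ∈ P', ∀ x ∈ W, ⁅h, x⁆ ∈ D := fun h hh =>
    conj_fix hb.pgroup (hWP.trans hPS.le) hDW hWD hcD.le (hP'S hh) (hP'W hh) (hP'D hh)
  obtain ⟨χ, hχ, hχ0, -⟩ := exists_char hb.pgroup (hWP.trans hPS.le) hDW hWD hcD hrW hrD
  have hWc : ∀ h ∈ P', ∀ x ∈ W, χ (h * x * h⁻¹) = χ x := by
    intro h hh x hx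
    rw [show h * x * h⁻¹ = ⁅h, x⁆ * x by rw [commutatorElement_def]; group, hχ _ (hDW (hfixWD h hh x hx)) x hx,
      (hχ0 _ (hDW (hfixWD h hh x hx))).2 (hfixWD h hh x hx), zero_add]
  obtain ⟨β, hβd⟩ : ∃ β : Ω → ZMod p, ∀ h, β h = χ ⁅h, e⁆ := ⟨_, fun _ => rfl⟩
  have hβ : ∀ a ∈ P', ∀ b ∈ P', β (a * b) = β a + β b := by
    intro a ha b hb'
    rw [hβd, hβd, hβd, commutator_conj_left, hχ _ (hWn a ha _ (hfixPW b hb' e heP)) _ (hfixPW a ha e heP),
      hWc a ha _ (hfixPW b hb' e heP), add_comm]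
  have hQeq : Subgroup.zpowers e ⊔ D = Q := by
    refine eq_of_card (hl.lt.le.trans hPS.le) (sup_le (Subgroup.zpowers_le.2 (hl.leQ hb.e_mem)) hDQ) ?_
    have hlt : D < Subgroup.zpowers e ⊔ D := lt_of_le_of_ne le_sup_right fun h => heD
      (h ▸ Subgroup.mem_sup_left (Subgroup.mem_zpowers e))
    have h1 := step_le hb.pgroup
      (sup_le (Subgroup.zpowers_le.2 (hb.leS hb.e_mem)) (hDP.trans hPS.le)) hlt
    rw [hcardD, ← pow_succ] at h1
    rw [hl.cardQ]; exact h1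
  have hβ0 : ∀ h ∈ P', β h = 0 ↔ h ∈ P := by
    intro h hh
    rw [hβd, hχ0 _ (hfixPW h hh e heP)]
    refine ⟨fun hc => hl.eq.ge ⟨hP'S hh, mem_normalizer_of_conj_mem (hl.lt.le.trans hPS.le) ?_⟩, fun hP1 => ?_⟩
    · intro y hy
      have hle : (Subgroup.zpowers e ⊔ D).map (MulAut.conj h).toMonoidHom ≤ Subgroup.zpowers e ⊔ D := by
        rw [Subgroup.map_sup, MonoidHom.map_zpowers]
        refine sup_le (Subgroup.zpowers_le.2 ?_) ?_
        · show h * e * h⁻¹ ∈ _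
          rw [show h * e * h⁻¹ = ⁅h, e⁆ * e by rw [commutatorElement_def]; group]
          exact Subgroup.mul_mem _ (Subgroup.mem_sup_right hc) (Subgroup.mem_sup_left (Subgroup.mem_zpowers e))
        · rintro _ ⟨z, hz, rfl⟩
          exact Subgroup.mem_sup_right (conj_mem_of_normalizer (hP'D hh) hz)
      rw [hQeq] at hle
      exact hle ⟨y, hy, rfl⟩
    · rw [hD]; exact Subgroup.mem_sup_left (Subgroup.commutator_mem_commutator hP1 heP)
  have hgβ : β g ≠ 0 := fun h => hgP ((hβ0 g hg).1 h)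
  have hgen : ∀ h ∈ P', ∃ i : ℕ, h * (g ^ i)⁻¹ ∈ P := by
    intro h hh
    refine ⟨(β h / β g).val, (hβ0 _ (P'.mul_mem hh (P'.inv_mem (P'.pow_mem hg _)))).1 ?_⟩
    rw [char_sub hβ hh (P'.pow_mem hg _), char_pow hβ hg, ZMod.natCast_zmod_val, div_mul_cancel₀ _ hgβ, sub_self]
  have hcardP' : Nat.card P' = p ^ (k + 4) := by
    refine le_antisymm ?_ ?_
    · haveI := finite_of_le hP'S
      let φ : P' →* Multiplicative (ZMod p) :=
        MonoidHom.mk' (fun x => Multiplicative.ofAdd (β x)) fun x y => by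
          show Multiplicative.ofAdd (β (x * y)) = _
          rw [hβ x x.2 y y.2]; rfl
      have hker : φ.ker = P.subgroupOf P' := by
        ext x
        rw [MonoidHom.mem_ker, Subgroup.mem_subgroupOf]
        exact Multiplicative.ofAdd.injective.eq_iff' rfl |>.trans (hβ0 x x.2)
      have h1 := φ.ker.card_mul_index
      rw [Subgroup.index_ker, hker, Nat.card_congr (Subgroup.subgroupOfEquivOfLe hPP'.le).toEquiv, hl.cardP] at h1
      rw [← h1, show k + 4 = k + 3 + 1 by omega, pow_succ]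
      refine Nat.mul_le_mul_left _ ?_
      refine (Nat.card_le_card_of_injective _ Subtype.val_injective).trans ?_
      rw [Nat.card_congr Multiplicative.toAdd, Nat.card_zmod]
    · have h1 := step_le hb.pgroup hP'S hPP'
      rwa [hl.cardP, ← pow_succ] at h1
  have hgeD : ⁅g, e⁆ ∉ D := fun h => hgβ (by rw [hβd]; exact (hχ0 _ (hfixPW g hg e heP)).2 h)
  have hWgen : W = Subgroup.zpowers ⁅g, e⁆ ⊔ D := by
    refine (eq_of_card (hWP.trans hPS.le)
      (sup_le (Subgroup.zpowers_le.2 (hfixPW g hg e heP)) hDW) ?_).symm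
    have hlt : D < Subgroup.zpowers ⁅g, e⁆ ⊔ D := lt_of_le_of_ne le_sup_right fun h => hgeD
      (h ▸ Subgroup.mem_sup_left (Subgroup.mem_zpowers _))
    have h1 := step_le hb.pgroup
      (sup_le (Subgroup.zpowers_le.2 (hPS.le (hWP (hfixPW g hg e heP)))) (hDP.trans hPS.le)) hlt
    rw [hcardD, ← pow_succ] at h1
    rw [hcardW]; exact h1
  have hR : der Z₀ P' = W := by
    refine le_antisymm (sup_le ?_ ((hD ▸ le_sup_right : Z₀ ≤ D).trans hDW)) ?_
    · exact commutator_le_of_cyclic_step hPP'.le hP'n hWP hP'W hfixPW hg hgen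
    · rw [hWgen, der]
      refine sup_le (Subgroup.zpowers_le.2 (Subgroup.mem_sup_left
        (Subgroup.commutator_mem_commutator hg (hPP'.le heP)))) ?_
      rw [hD, der]
      exact sup_le_sup_right (Subgroup.commutator_mono hPP'.le hPP'.le) _
  have heW : e ∉ W := fun h => hWQ ((eq_of_card (hWP.trans hPS.le)
    (hQeq ▸ sup_le (Subgroup.zpowers_le.2 h) hDW) (by rw [hl.cardQ, hcardW])).ge)
  -- the extension of `t`
  have hiP : im P t = P := hl.tor.map.im_eq hl.tor.mem (hl.tor.map.surj_of_card_le hPS.le hl.tor.mem le_rfl)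
  obtain ⟨a, ha, hat⟩ := exists_aut hl.tor.map hiP
  haveI := mulAut_finite_of_le hPS.le
  have hNf : P' ≤ Nf S P t := by
    intro h hh
    obtain ⟨γ, hγ, hγS⟩ := exists_aut_conj (hP'n hh)
    have hγI := hγS S (hP'S hh)
    obtain ⟨j, hj⟩ := (isPGroup_autS (P := P) hb.pgroup) ⟨γ, hγI⟩
    have hβ' := hl.good (a * γ * a⁻¹)
      ((F.autGroup P).mul_mem ((F.autGroup P).mul_mem ha (autInducedBy_le_autGroup hPS.le hγI))
        ((F.autGroup P).inv_mem ha))
      ⟨j, by rw [conj_pow, show γ ^ p ^ j = 1 from congrArg Subtype.val hj, mul_one, mul_inv_cancel]⟩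
    obtain ⟨s, hs, hsx⟩ := mem_autInducedBy.1 hβ'
    refine ⟨hP'S hh, hP'n hh, s, hs, fun x hx => ?_⟩
    have h1 := hsx _ (av_mem a hx)
    rw [av_mul _ _ (av_mem a hx), av_inv_av a hx, av_mul _ _ hx, hγ x hx, hat _ hx,
      hat _ (conj_mem_of_normalizer (hP'n hh) hx)] at h1
    exact h1
  have hPc : F.IsCentric P := centric_mono hb.centric (hl.leQ.trans hl.lt.le) hPS.le
  obtain ⟨f, hf, hft⟩ := (receptive_iff.1 (receptive_of_fc hb.pgroup hb.sat (fc_of_centric hPc))).2 P t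
    hl.tor.map hiP
  have hfP' := hf.restrict hNf
  have hfm : ∀ x ∈ P', f x ∈ P' := by
    intro x hx
    refine hP' ▸ ⟨hfP'.mem hx, mem_normalizer_of_conj_mem hPS.le fun y hy => ?_⟩
    obtain ⟨u, hu, rfl⟩ := hl.tor.map.mem_im.1 (hiP.ge hy)
    rw [← hft u hu, ← hfP'.map_conj hx (hPP'.le hu), hft _ (conj_mem_of_normalizer (hP'n hx) hu)]
    exact hl.tor.mem _ (conj_mem_of_normalizer (hP'n hx) hu)
  have hcPm : c ∈ P := hb.Z_le hNP hb.c_mem
  have htor : Tor F P' e c l L M f := ⟨hfP', hfm, by rw [hft e heP]; exact hl.tor.te,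
    by rw [hft c hcPm]; exact hl.tor.tc, by rw [hft l (hb.Z_le hNP hb.l_mem)]; exact hl.tor.tl⟩
  have hZt : ∀ z ∈ Z₀, f z ∈ Z₀ := fun z hz => by
    rw [hft z (hb.Z_le hNP hz)]; exact hb.map_Z hNP hl.cent hl.tor.map hl.tor.mem z hz
  have hWt : ∀ x ∈ W, f x ∈ W := by
    intro x hx
    refine (show x ∈ P' ∧ f x ∈ W from ?_).2
    rw [← hR, der, Subgroup.sup_eq_closure] at hx
    induction hx using Subgroup.closure_induction with
    | mem y hy =>
      rcases hy with hy | hy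
      · exact ⟨(hWP.trans hPP'.le) (hR ▸ Subgroup.mem_sup_left hy),
          hR ▸ Subgroup.mem_sup_left (commutator_map hfP' hfm y hy)⟩
      · exact ⟨hPP'.le (hb.Z_le hNP hy), hR ▸ Subgroup.mem_sup_right (hZt y hy)⟩
    | one => exact ⟨P'.one_mem, by rw [hfP'.map_one]; exact W.one_mem⟩
    | mul a b _ _ iha ihb =>
      exact ⟨P'.mul_mem iha.1 ihb.1, by rw [hfP'.map_mul iha.1 ihb.1]; exact W.mul_mem iha.2 ihb.2⟩
    | inv a _ iha => exact ⟨P'.inv_mem iha.1, by rw [hfP'.map_inv iha.1]; exact W.inv_mem iha.2⟩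
  obtain ⟨A, hA⟩ : ∃ A, A = M ^ (k + 1) := ⟨_, rfl⟩
  have hχf : ∀ x ∈ W, χ (f x) = A * χ x := by
    intro x hx
    have hxP := hWP hx
    have hm : f x * (x ^ A.val)⁻¹ ∈ W := W.mul_mem (hWt x hx) (W.inv_mem (W.pow_mem hx _))
    have hQ' : f x * (x ^ A.val)⁻¹ ∈ Q := by rw [hft x hxP, hA]; exact hl.weight x hxP
    have h0 : χ (f x * (x ^ A.val)⁻¹) = 0 := by
      rw [hχ0 _ hm]
      by_contra hne
      refine hWQ ((eq_of_card (hWP.trans hPS.le) (sup_le (Subgroup.zpowers_le.2 hm) hDW) ?_).ge.trans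
        (sup_le (Subgroup.zpowers_le.2 hQ') hDQ))
      have hlt : D < Subgroup.zpowers (f x * (x ^ A.val)⁻¹) ⊔ D := lt_of_le_of_ne le_sup_right fun h => hne
        (h ▸ Subgroup.mem_sup_left (Subgroup.mem_zpowers _))
      have h1 := step_le hb.pgroup
        ((sup_le (Subgroup.zpowers_le.2 hm) hDW).trans (hWP.trans hPS.le)) hlt
      rw [hcardD, ← pow_succ] at h1
      rw [hcardW]; exact h1
    rw [char_sub hχ (hWt x hx) (W.pow_mem hx _), char_pow hχ hx, ZMod.natCast_zmod_val, sub_eq_zero] at h0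
    exact h0
  have hcm : ∀ h ∈ P', ∀ m : ℕ, χ ⁅h, e ^ m⁆ = m * β h := by
    intro h hh m
    induction m with
    | zero => rw [pow_zero, commutatorElement_one_right, char_one hχ, Nat.cast_zero, zero_mul]
    | succ m ih =>
      rw [pow_succ, commutator_conj_right, hχ _ (hfixPW h hh _ (P.pow_mem heP m)) _
        (hWn _ (hPP'.le (P.pow_mem heP m)) _ (hfixPW h hh e heP)), hWc _ (hPP'.le (P.pow_mem heP m)) _
        (hfixPW h hh e heP), ih, ← hβd, Nat.cast_succ, add_mul, one_mul]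
  refine ⟨f, hPP', hP', hcardP', hR ▸ hcardW, hR ▸ hWP, hR ▸ heW, htor, fun h hh => ?_, fun h hh hhP => ?_⟩
  · refine (hβ0 _ (P'.mul_mem (hfm h hh) (P'.inv_mem (P'.pow_mem hh _)))).1 ?_
    rw [char_sub hβ (hfm h hh) (P'.pow_mem hh _), char_pow hβ hh, ZMod.natCast_zmod_val, sub_eq_zero]
    have h1 : f ⁅h, e⁆ = ⁅f h, e ^ L.val⁆ := by
      rw [commutatorElement_def, commutatorElement_def,
        hfP'.map_mul (P'.mul_mem (P'.mul_mem hh (hPP'.le heP)) (P'.inv_mem hh)) (P'.inv_mem (hPP'.le heP)),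
        hfP'.map_mul (P'.mul_mem hh (hPP'.le heP)) (P'.inv_mem hh), hfP'.map_mul hh (hPP'.le heP),
        hfP'.map_inv hh, hfP'.map_inv (hPP'.le heP), htor.te]
    have h2 := hχf _ (hfixPW h hh e heP)
    rw [h1, hcm _ (hfm h hh), ZMod.natCast_zmod_val, ← hβd] at h2
    calc β (f h) = (L * M) * β (f h) := by rw [hb.LM, one_mul]
      _ = M * (L * β (f h)) := by ring
      _ = _ := by rw [h2, hA, show M ^ (k + 2) = M * M ^ (k + 1) by rw [← pow_succ']]; ring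
  · rw [Function.iterate_succ_apply]
    refine hl.chain _ (hWP (hfixPW h hh e heP)) fun hQ' => hhP ((hβ0 h hh).1 ?_)
    rw [hβd, hχ0 _ (hfixPW h hh e heP)]
    by_contra hne
    refine hWQ ((eq_of_card (hWP.trans hPS.le) (sup_le (Subgroup.zpowers_le.2 (hfixPW h hh e heP)) hDW) ?_).ge.trans
      (sup_le (Subgroup.zpowers_le.2 hQ') hDQ))
    have hlt : D < Subgroup.zpowers ⁅h, e⁆ ⊔ D := lt_of_le_of_ne le_sup_right fun h' => hne
      (h' ▸ Subgroup.mem_sup_left (Subgroup.mem_zpowers _))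
    have h1 := step_le hb.pgroup
      ((sup_le (Subgroup.zpowers_le.2 (hfixPW h hh e heP)) hDW).trans (hWP.trans hPS.le)) hlt
    rw [hcardD, ← pow_succ] at h1
    rw [hcardW]; exact h1

end Cfsg.Agent.Local.FS.Tower
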