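import Cfsg.Agent.Lib.Local.FS.TransferControl
import Cfsg.Agent.Lib.Local.FS.TateCor
import Cfsg.Agent.Lib.Fusion.KInfTransfer

/-!
Transfer in saturated systems for `p` at least five whose automorphisms of `S` form a `p`-group.
-/

set_option autoImplicit false

namespace Cfsg.Agent.Local.FS

open Cfsg Cfsg.FusionSystem Cfsg.Agent.Fusion
open scoped commutatorElement

universe u

variable {p : ℕ} [Fact p.Prime]

theorem kInf_transfer_core (hp : 5 ≤ p) (G : Type u) [Group G] [Finite G] (P : Sylow p G)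
    (_hc : Subgroup.centralizer ((pCore p G : Subgroup G) : Set G) ≤ pCore p G) :
    pCore p G ⊓ commutator G = pCore p G ⊓ (commutator ↥(Subgroup.normalizer
      (inducedFunctor kInfLower (P : Subgroup G) : Set G))).map
      (Subgroup.normalizer (inducedFunctor kInfLower (P : Subgroup G) : Set G)).subtype := by
  obtain ⟨T, hT1, hT2, hT3, hT⟩ := kInfLower_transfer hp G
  have hTs : SylIn p T (⊤ : Subgroup G) := ⟨hT1, hT2, hT3⟩
  obtain ⟨x, -, hx⟩ := hTs.conj_le P.isPGroup' le_top
  have hcard : Nat.card T ≤ Nat.card (P : Subgroup G) := by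
    obtain ⟨Q, hQ⟩ := hTs.exists_sylow
    rw [← hQ, Sylow.card_eq_multiplicity, Sylow.card_eq_multiplicity]
  have hPT : cj (P : Subgroup G) x = T := Subgroup.eq_of_le_of_card_ge hx (by rw [card_cj]; exact hcard)
  have hcf := isConjugacyFunctor_induced (G := G) (isCharPFunctor_kInfLower.{u} p)
  have hQT : pCore p G ≤ T := by
    obtain ⟨Q, hQ⟩ := hTs.exists_sylow
    exact hQ ▸ pCore_le_sylow Q
  rw [Subgroup.map_subtype_commutator]
  set NT := Subgroup.normalizer (inducedFunctor kInfLower T : Set G)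
  rw [top_inf_eq, ← commutator_def] at hT
  have h1 : pCore p G ⊓ commutator G = pCore p G ⊓ ⁅NT, NT⁆ := by
    rw [← inf_eq_left.2 hQT, inf_assoc, hT, ← inf_assoc]
  have hN : cj (Subgroup.normalizer (inducedFunctor kInfLower (P : Subgroup G) : Set G)) x = NT := by
    rw [cj_normalizer, ← (show inducedFunctor kInfLower (cj (P : Subgroup G) x) =
      cj (inducedFunctor kInfLower (P : Subgroup G)) x from (hcf _ P.isPGroup').2.2 x), hPT]
  have hN2 : cj ⁅Subgroup.normalizer (inducedFunctor kInfLower (P : Subgroup G) : Set G),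
      Subgroup.normalizer (inducedFunctor kInfLower (P : Subgroup G) : Set G)⁆ x = ⁅NT, NT⁆ := by
    rw [← hN]
    exact Subgroup.map_commutator _ _ _
  haveI : (pCore p G ⊓ commutator G).Normal := Subgroup.normal_inf_normal _ _
  apply Subgroup.map_injective (f := (MulAut.conj x).toMonoidHom) (MulAut.conj x).injective
  rw [Subgroup.map_inf _ _ _ (MulAut.conj x).injective, Subgroup.map_inf _ _ _ (MulAut.conj x).injective]
  show cj (pCore p G) x ⊓ cj (commutator G) x = cj (pCore p G) x ⊓ cj _ x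
  rw [cj_of_normal, cj_of_normal, hN2, h1]

theorem focal_lt_of_isPGroup_autGroup (hp : 5 ≤ p) : ∀ (k : ℕ) (Ω : Type u) [Group Ω] (S : Subgroup Ω)
    [Finite S] (F : FusionSystem S), Nat.card S = k → IsPGroup p S → F.IsSaturated p → S ≠ ⊥ →
    IsPGroup p ↥(F.autGroup S) → F.focalSubgroup < S := by
  intro k
  induction k using Nat.strong_induction_on with
  | _ k ihk =>
  intro Ω _ S _ F hk hS hF hS1 haut
  have hW := isCharPFunctor_kInfLower.{u} p
  set W₀ := inducedFunctor kInfLower S with hW₀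
  have hctrl := focControlled hW.1 hW.2 (fun G _ _ P h => kInf_transfer_core hp G P h) hS hF
  suffices hH : ∃ H : Subgroup Ω, H < S ∧ ∀ P g, Map F P g → W₀ ≤ P → im W₀ g = W₀ → FocClass H P g by
    obtain ⟨H, hHS, hH⟩ := hH
    refine lt_of_le_of_lt ((Subgroup.closure_le _).2 ?_) hHS
    rintro _ ⟨P, φ, x, hφ, rfl⟩
    have h1 := normFoc_le_of hH (hctrl P _ (map_of_mem hφ) x x.2)
    rwa [fn_coe] at h1
  have hW₀S : W₀ ≤ S := Subgroup.map_subtype_le _
  haveI hne : Nontrivial S := (Subgroup.nontrivial_iff_ne_bot S).2 hS1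
  have hW₀ne : W₀ ≠ ⊥ := fun h =>
    hW.1 S hS hne ((Subgroup.map_eq_bot_iff_of_injective _ S.subtype_injective).1 h)
  by_cases hWS : W₀ = S
  · refine ⟨⁅S, S⁆, ?_, fun P g hg hP hgW x hx => ?_⟩
    · refine lt_of_le_of_ne ((Subgroup.commutator_le).2 fun a ha b hb => ?_) fun h => ?_
      · rw [commutatorElement_def]; exact S.mul_mem (S.mul_mem (S.mul_mem ha hb) (S.inv_mem ha)) (S.inv_mem hb)
      · have h1 : (frattini ↥S).map S.subtype = S :=
          le_antisymm (Subgroup.map_subtype_le _) (h.ge.trans (commutator_le_frattini_map hS))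
        obtain ⟨M, hM, -⟩ := (eq_top_or_exists_le_coatom (⊥ : Subgroup S)).resolve_left bot_ne_top
        refine hM.1 (eq_top_iff.2 (le_trans (ge_of_eq ?_) (frattini_le_coatom hM)))
        rw [← Subgroup.comap_map_eq_self_of_injective S.subtype_injective (frattini ↥S), h1]
        exact Subgroup.subgroupOf_self S
    · rw [hWS] at hP hgW
      obtain ⟨α, hα, hαg⟩ := exists_aut (hg.restrict hP) hgW
      have hsyl := (fa_iff.1 (fc_fa_of_fn hS hF fn_self).2).2
      haveI := mulAut_finite_of_le (le_refl S)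
      have hmem : α ∈ autInducedBy S S := by
        haveI : ((autInducedBy S S).subgroupOf (F.autGroup S)).FiniteIndex := inferInstance
        obtain ⟨j, hj⟩ := haut.index ((autInducedBy S S).subgroupOf (F.autGroup S))
        rcases j with _ | j
        · rw [pow_zero] at hj
          exact Subgroup.relIndex_eq_one.1 hj hα
        · exact absurd (show p ∣ (autInducedBy S S).relIndex (F.autGroup S) by
            rw [Subgroup.relIndex, hj]; exact dvd_pow_self p (Nat.succ_ne_zero j)) hsyl.not_dvd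
      obtain ⟨s, hs, hsα⟩ := mem_autInducedBy.1 hmem
      have hxS := hg.le hx
      rw [← hαg x hxS, hsα x hxS,
        show x⁻¹ * (s * x * s⁻¹) = ⁅x⁻¹, s⁆ by simp [commutatorElement_def, mul_assoc]]
      exact Subgroup.commutator_mem_commutator (S.inv_mem hxS) hs
  have hV : normalizerIn S W₀ = S := normalizerIn_functor hS hW.2
  have hfn := fn_of_normalized (F := F) hW₀S hV
  set V := normalizerIn S W₀ with hVdef
  have hVp : IsPGroup p V := hS.to_le inf_le_left
  have hNs : (normSys F hfn.1).IsSaturated p := normSys_saturated hS hF hfn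
  have hWn : (normSys F hfn.1).IsNormal W₀ := normal_normalizerSystem (F := F) hfn.1 fun _ => rfl
  let N : FusionSystem V := normSys F hfn.1
  have hsc := normal_stronglyClosed hWn
  haveI hnor : (W₀.subgroupOf V).Normal := by
    rw [Subgroup.normal_subgroupOf_iff_le_normalizer hsc.1]
    exact stronglyClosed_le_normalizer hsc
  have hker : ∀ s : V, QuotientGroup.mk' (W₀.subgroupOf V) s = 1 ↔ (s : Ω) ∈ W₀ := fun s =>
    (QuotientGroup.eq_one_iff s).trans Subgroup.mem_subgroupOf
  have hsurj := QuotientGroup.mk'_surjective (W₀.subgroupOf V)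
  set θ := QuotientGroup.mk' (W₀.subgroupOf V)
  set E := factorSys hsc θ hker hsurj
  have hE : N.IsFactorSystem W₀ θ E :=
    ⟨hWn.1, hker, MonoidHom.range_eq_top.2 hsurj, fun P' φ' => fmap_iff.trans (and_iff_right le_top).symm⟩
  haveI := fac_finite hE
  have hEp := fac_isPGroup hE hVp
  have htop : (⊤ : Subgroup (V ⧸ W₀.subgroupOf V)) ≠ ⊥ := fun h => hWS (le_antisymm hW₀S fun x hx => by
    refine (fac_ue_eq_one hE (hV.ge hx)).1 (Subgroup.mem_bot.1 (h ▸ ?_))
    exact Subgroup.mem_top _)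
  have hEaut : IsPGroup p ↥(E.autGroup (⊤ : Subgroup (V ⧸ W₀.subgroupOf V))) := by
    rintro ⟨β, hβ⟩
    obtain ⟨-, f, hf, hff⟩ := fac_lift hE hsc (map_of_mem_autGroup le_rfl hβ)
    rw [fac_pre_top hE] at hf hff
    have hfS : Map F S f := (map_of_normSys hf).restrict hV.ge
    obtain ⟨α, hα, hαf⟩ := exists_aut hfS (Subgroup.eq_of_le_of_card_ge hfS.im_le hfS.card_im.ge)
    obtain ⟨j, hj⟩ := haut ⟨α, hα⟩
    have hj' : α ^ p ^ j = 1 := congrArg Subtype.val hj
    refine ⟨j, Subtype.ext (aut_ext fun a _ => ?_)⟩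
    show av (β ^ p ^ j) a = av 1 a
    obtain ⟨x, hx, rfl⟩ := fac_exists_pre hE (le_refl (⊤ : Subgroup (V ⧸ W₀.subgroupOf V))) (Subgroup.mem_top a)
    have hxS : x ∈ S := hV.le (fac_mem_pre.1 hx).1
    rw [← semiconj_pow (A := S) (ue θ) (fun y _ => Subgroup.mem_top _) (fun y hy => by
      rw [hαf y hy, hff y (hV.ge hy)]) (p ^ j) x hxS, hj', av_one hxS, av_one (Subgroup.mem_top _)]
  have hlt : E.focalSubgroup < ⊤ := by
    refine ihk _ ?_ _ _ E rfl hEp (fac_saturated hVp hNs hsc hE) htop hEaut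
    have hc := fac_card hE (le_refl (⊤ : Subgroup (V ⧸ W₀.subgroupOf V)))
    rw [fac_pre_top hE, show Nat.card V = k by rw [hV, hk]] at hc
    rw [hc]
    haveI := finite_of_le hW₀S
    exact lt_mul_of_one_lt_left Nat.card_pos ((Subgroup.one_lt_card_iff_ne_bot _).2 hW₀ne)
  refine ⟨preimageAlong θ E.focalSubgroup, lt_of_le_of_ne ((preimage_le _).trans hV.le) fun h => ?_, ?_⟩
  · refine hlt.ne (fac_pre_inj hE le_top le_rfl ?_)
    rw [fac_pre_top hE, h, hV]
  · intro P g hg hP hgW x hx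
    have hgN : Map N P g := (map_normalizerSystem_iff fun _ => rfl).2
      ⟨hg.le.trans hV.ge, fun y hy => hV.ge (hg.mem hy), g, by rwa [sup_eq_left.2 hP], fun _ _ => rfl, hgW⟩
    have he : preimageAlong θ (imageAlong θ P) = P := by rw [fac_pre_up hE hgN.le, sup_eq_left.2 hP]
    have hg' := fac_induced hE hsc (fac_up_le hE) (show Map N (preimageAlong θ (imageAlong θ P)) g by rwa [he])
    have hxm : ue θ x ∈ imageAlong θ P := ue_mem_up hgN.le hx
    refine fac_mem_pre.2 ⟨V.mul_mem (V.inv_mem (hgN.le hx)) (hgN.mem hx), ?_⟩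
    rw [ue_mul (V.inv_mem (hgN.le hx)) (hgN.mem hx), ue_inv (hgN.le hx)]
    obtain ⟨φ, hφ, hφe⟩ := hg'
    refine Subgroup.subset_closure ⟨_, φ, ⟨ue θ x, hxm⟩, hφ, ?_⟩
    rw [hφe]
    show _ = (ue θ x)⁻¹ * ue θ (g (ve θ (ue θ x)))
    rw [fac_congr hE hsc hgN hP (by
      rw [← he]; exact fac_mem_pre.2 ⟨ve_mem, (fac_ue_ve hE (fac_ue_mem hE (hgN.le hx))).symm ▸ hxm⟩)
      hx (fac_ue_ve hE (fac_ue_mem hE (hgN.le hx)))]

end Cfsg.Agent.Local.FS
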