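import Cfsg.Agent.Lib.Local.FS.Factor
import Cfsg.Agent.Lib.Local.FS.Abelian
import Cfsg.Agent.Lib.Local.FS.Focal

/-!
A saturated fusion system on a two-group in which every element fuses into the centre lives on an
abelian group.

The real elements have square one, so the involutions form an abelian strongly closed, hence normal,
subgroup `V`; by induction `S/V` is abelian, and an automorphism of `S` lifting the fusion in `S/V`
shows that `S = Z(S) V`.
-/

set_option autoImplicit false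

namespace Cfsg.Agent.Local.FS.TwoCentral

open Cfsg Cfsg.FusionSystem Cfsg.Agent.Fusion Cfsg.Agent.Local.FS

universe u

variable {Ω : Type u} [Group Ω] {S : Subgroup Ω}

/-- Every element of `S` is sent by a map of the system to an element centralising `S`. -/
def AllCentral (F : FusionSystem S) : Prop :=
  ∀ x ∈ S, ∃ f, Map F (Subgroup.zpowers x) f ∧ f x ∈ Subgroup.centralizer (S : Set Ω)

variable {F : FusionSystem S}

/-- A map on a cyclic group takes values in the powers of the image of the generator. -/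
theorem map_zpowers_mem {x : Ω} {f : Ω → Ω} (h : Map F (Subgroup.zpowers x) f) {y : Ω}
    (hy : y ∈ Subgroup.zpowers x) : f y ∈ Subgroup.zpowers (f x) := by
  obtain ⟨n, rfl⟩ := Subgroup.mem_zpowers_iff.1 hy
  obtain ⟨φ, -, he⟩ := h
  refine ⟨n, ?_⟩
  show f x ^ n = f (x ^ n)
  rw [← he ⟨x, Subgroup.mem_zpowers x⟩, ← he ⟨x ^ n, hy⟩, ← map_zpow]
  rfl

variable [Finite S]

/-- A central element sent to its inverse squares to one. -/
theorem central_real (hS : IsPGroup 2 S) (hF : F.IsSaturated 2) {z : Ω} (hzS : z ∈ S)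
    (hz : z ∈ Subgroup.centralizer (S : Set Ω)) {f : Ω → Ω} (hf : Map F (Subgroup.zpowers z) f)
    (he : f z = z⁻¹) : z * z = 1 := by
  haveI : Fact (Nat.Prime 2) := ⟨Nat.prime_two⟩
  have hC : ∀ Q : Subgroup Ω, Q ≤ Subgroup.zpowers z → centralizerIn S Q = S := fun Q hQ =>
    le_antisymm inf_le_left fun s hs => mem_centralizerIn.2 ⟨hs, fun y hy => by
      obtain ⟨n, rfl⟩ := Subgroup.mem_zpowers_iff.1 (hQ hy)
      exact (Subgroup.mem_centralizer_iff.1 (zpow_mem hz n) s hs).symm⟩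
  have him : im (Subgroup.zpowers z) f ≤ Subgroup.zpowers z := im_le_iff.2 fun y hy => by
    have := map_zpowers_mem hf hy
    rwa [he, Subgroup.zpowers_inv] at this
  have hfc : F.IsFullyCentralized (im (Subgroup.zpowers z) f) :=
    ⟨hf.im_le, fun Q _ => by rw [hC _ him]; exact Subgroup.card_le_of_le inf_le_left⟩
  obtain ⟨g, hg, hgf⟩ := (receptive_iff.1 (receptive_of_fc hS hF hfc)).2 _ f hf rfl
  have hgS := hg.restrict ((hC _ le_rfl).ge.trans centralizerIn_le_Nf)
  obtain ⟨α, hα, hαg⟩ := exists_aut hgS (Subgroup.eq_of_le_of_card_ge hgS.im_le hgS.card_im.ge)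
  have hαz : av α z = z⁻¹ := by rw [hαg z hzS, hgf z (Subgroup.mem_zpowers z), he]
  haveI : Finite (MulAut S) := mulAut_finite_of_le (le_refl S)
  set R := autInducedBy S S with hR
  have hsyl : SylIn 2 R (F.autGroup S) := (fa_iff.1 (fc_fa_of_fn hS hF fn_self).2).2
  -- the inner automorphisms fix the central elements
  have hfix : ∀ β ∈ R, av β z = z := fun β hβ => by
    obtain ⟨s, hs, hb⟩ := mem_autInducedBy.1 hβ
    rw [hb z hzS, Subgroup.mem_centralizer_iff.1 hz s hs, mul_inv_cancel_right]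
  have hnorm : ∀ β ∈ F.autGroup S, ∀ γ ∈ R, β * γ * β⁻¹ ∈ R := fun β hβ γ hγ => by
    obtain ⟨s, hs, hc⟩ := mem_autInducedBy.1 hγ
    refine mem_autInducedBy.2 ⟨_, av_mem β hs, fun x hx => ?_⟩
    have hx' := av_mem β⁻¹ hx
    rw [av_mul _ _ hx, av_mul _ _ hx', hc _ hx', (map_of_mem_autGroup le_rfl hβ).map_conj hs hx',
      av_av_inv β hx]
  obtain ⟨a, m, hm, ho⟩ := Nat.exists_eq_two_pow_mul_odd (orderOf_pos α).ne'
  have h2 : IsPGroup 2 (Subgroup.zpowers (α ^ m)) := by
    refine IsPGroup.of_card (n := a) ?_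
    rw [Nat.card_zpowers, orderOf_pow' _ hm.pos.ne', ho, Nat.gcd_eq_right (dvd_mul_left m (2 ^ a)),
      Nat.mul_div_cancel _ hm.pos]
  have hle : Subgroup.zpowers (α ^ m) ≤ Subgroup.normalizer (R : Set (MulAut S)) :=
    Subgroup.zpowers_le.2 (Subgroup.mem_normalizer_iff.2 fun γ => ⟨hnorm _ (pow_mem hα m) γ, fun hγ => by
      simpa [mul_assoc] using hnorm (α ^ m)⁻¹ (inv_mem (pow_mem hα m)) _ hγ⟩)
  have hmemR : α ^ m ∈ R := (hsyl.eq_of_le (IsPGroup.to_sup_of_normal_right' h2 hsyl.isPGroup hle)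
    le_sup_right (sup_le (Subgroup.zpowers_le.2 (pow_mem hα m)) hsyl.le)).le
    (Subgroup.mem_sup_left (Subgroup.mem_zpowers _))
  have hodd : ∀ k : ℕ, av (α ^ (2 * k + 1)) z = z⁻¹ := by
    intro k
    induction k with
    | zero => simpa using hαz
    | succ k ih =>
      have hzi : av α z⁻¹ = z := by
        rw [(map_of_mem_autGroup le_rfl hα).map_inv hzS, hαz, inv_inv]
      rw [show 2 * (k + 1) + 1 = 1 + (1 + (2 * k + 1)) by ring, pow_add, pow_one, av_mul _ _ hzS,
        pow_add, pow_one, av_mul _ _ hzS, ih, hzi, hαz]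
  obtain ⟨k, rfl⟩ := hm
  exact mul_eq_one_iff_eq_inv.2 ((hfix _ hmemR).symm.trans (hodd k))

/-- An element sent to its inverse squares to one. -/
theorem real_sq (hS : IsPGroup 2 S) (hF : F.IsSaturated 2) (h : AllCentral F) {x : Ω} {P : Subgroup Ω}
    {f : Ω → Ω} (hf : Map F P f) (hx : x ∈ P) (he : f x = x⁻¹) : x * x = 1 := by
  have hfx := hf.restrict (Subgroup.zpowers_le.2 hx)
  obtain ⟨k, hk, hkc⟩ := h x (hf.le hx)
  obtain ⟨k', hk', hk'k, hkk', -⟩ := hk.exists_inv
  have hxm := Subgroup.mem_zpowers x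
  have hzim : k x ∈ im (Subgroup.zpowers x) k := mem_im_of_mem hxm
  have hfk : Map F (im (Subgroup.zpowers x) k) (k ∘ f ∘ k') :=
    (hk'.comp hfx fun y hy => (hkk' y hy).2).comp hk fun y hy => by
      have := map_zpowers_mem hfx (hkk' y hy).2
      rwa [he, Subgroup.zpowers_inv] at this
  have hval : (k ∘ f ∘ k') (k x) = (k x)⁻¹ := by
    simp only [Function.comp_apply, hk'k x hxm, he, hk.map_inv hxm]
  have := central_real hS hF (hk.mem hxm) hkc (hfk.restrict (Subgroup.zpowers_le.2 hzim)) hval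
  rw [← hk.map_mul hxm hxm, ← hk.map_one] at this
  exact hk.injOn (mul_mem hxm hxm) (one_mem _) this

/-- The group is abelian when all its elements fuse into the centre. -/
theorem abelian {n : ℕ} : ∀ {Ω : Type u} [Group Ω] {S : Subgroup Ω} [Finite S] (F : FusionSystem S),
    IsPGroup 2 S → F.IsSaturated 2 → AllCentral F → Nat.card S = n →
      ∀ x ∈ S, ∀ y ∈ S, x * y = y * x := by
  induction n using Nat.strong_induction_on with
  | _ n ih =>
  intro Ω _ S _ F hS hF h hn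
  classical
  haveI : Fact (Nat.Prime 2) := ⟨Nat.prime_two⟩
  have hinv : ∀ {u : Ω}, u * u = 1 → u⁻¹ = u := fun hu => inv_eq_of_mul_eq_one_right hu
  have hcomm : ∀ u ∈ S, ∀ v ∈ S, u * u = 1 → v * v = 1 → u * v = v * u := by
    intro u hu v hv hu2 hv2
    have := real_sq hS hF h (map_conjBy (F := F) (le_refl S) hu) (mul_mem hu hv) (by
      show u * (u * v) * u⁻¹ = (u * v)⁻¹
      rw [mul_inv_rev, hinv hu2, hinv hv2, ← mul_assoc u u v, hu2, one_mul])
    rw [mul_eq_one_iff_eq_inv, mul_inv_rev, hinv hu2, hinv hv2] at this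
    exact this
  let V : Subgroup Ω :=
    { carrier := {u | u ∈ S ∧ u * u = 1}
      one_mem' := ⟨one_mem _, one_mul 1⟩
      mul_mem' := fun {u v} hu hv => ⟨mul_mem hu.1 hv.1, by
        calc u * v * (u * v) = u * (v * u) * v := by group
          _ = u * (u * v) * v := by rw [hcomm u hu.1 v hv.1 hu.2 hv.2]
          _ = (u * u) * (v * v) := by group
          _ = 1 := by rw [hu.2, hv.2, one_mul]⟩
      inv_mem' := fun {u} hu => by
        show u⁻¹ ∈ S ∧ u⁻¹ * u⁻¹ = 1
        exact ⟨inv_mem hu.1, by rw [← mul_inv_rev, hu.2, inv_one]⟩ }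
  have hVS : V ≤ S := fun _ hu => hu.1
  have hsq : ∀ (P : Subgroup Ω) (f : Ω → Ω), Map F P f → ∀ u ∈ P, u * u = 1 → f u * f u = 1 :=
    fun P f hf u hu hu2 => by rw [← hf.map_mul hu hu, hu2, hf.map_one]
  have hsc : F.StronglyClosed V :=
    stronglyClosed_iff.2 ⟨hVS, fun P f hP hf x hx => ⟨hf.mem hx, hsq P f hf x hx (hP hx).2⟩⟩
  by_cases hVbot : V = ⊥
  · intro x hx y _
    suffices x = 1 by rw [this, one_mul, mul_one]
    obtain ⟨k, hk⟩ := hS ⟨x, hx⟩
    have hk' : x ^ 2 ^ k = 1 := congrArg Subtype.val hk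
    have key : ∀ j : ℕ, x ^ 2 ^ j = 1 → x = 1 := by
      intro j
      induction j with
      | zero => intro hj; rwa [pow_zero, pow_one] at hj
      | succ j ihj =>
        intro hj
        refine ihj ?_
        have hmem : x ^ 2 ^ j ∈ V := ⟨pow_mem hx _, by rwa [← pow_add, ← two_mul, ← pow_succ']⟩
        rwa [hVbot, Subgroup.mem_bot] at hmem
    exact key k hk'
  have hnormal : F.IsNormal V :=
    normal_of_abelian hS hF ⟨⟨fun a b => Subtype.ext (hcomm a a.2.1 b b.2.1 a.2.2 b.2.2)⟩⟩ hsc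
  haveI : (V.subgroupOf S).Normal :=
    Subgroup.normal_subgroupOf_of_le_normalizer (stronglyClosed_le_normalizer hsc)
  let θ := QuotientGroup.mk' (V.subgroupOf S)
  have hker : ∀ s : S, θ s = 1 ↔ (s : Ω) ∈ V := fun s =>
    (QuotientGroup.eq_one_iff s).trans Subgroup.mem_subgroupOf
  have hsurj : Function.Surjective θ := QuotientGroup.mk'_surjective _
  let E := factorSys hsc θ hker hsurj
  have hE : F.IsFactorSystem V θ E :=
    ⟨hVS, hker, MonoidHom.range_eq_top.2 hsurj, fun P' φ' => fmap_iff.trans (and_iff_right le_top).symm⟩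
  haveI : Finite (⊤ : Subgroup (↥S ⧸ V.subgroupOf S)) := fac_finite hE
  have hallE : AllCentral E := by
    intro a _
    obtain ⟨s, rfl⟩ := hsurj a
    obtain ⟨f, hf, hfc⟩ := h s s.2
    obtain ⟨g, hg, hgf, -⟩ := (normal_iff.1 hnormal).2 _ f hf
    have hxS : Subgroup.zpowers (s : Ω) ≤ S := Subgroup.zpowers_le.2 s.2
    rw [← fac_pre_up hE hxS] at hg
    have hP' := fac_up_le hE (P := Subgroup.zpowers (s : Ω))
    refine ⟨_, (fac_induced hE hsc hP' hg).restrict (Subgroup.zpowers_le.2 ?_), ?_⟩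
    · rw [← ue_coe (i := θ) s]
      exact ue_mem_up hxS (Subgroup.mem_zpowers _)
    · have hv : ue θ (g (ve θ (θ s))) = ue θ (f s) := by
        rw [← hgf _ (Subgroup.mem_zpowers _)]
        have hmemS : (s : Ω) ∈ preimageAlong θ (imageAlong θ (Subgroup.zpowers (s : Ω))) :=
          fac_mem_pre.2 ⟨s.2, ue_mem_up hxS (Subgroup.mem_zpowers _)⟩
        refine fac_congr hE hsc hg (fac_le_pre hE) (fac_mem_pre.2 ⟨ve_mem, ?_⟩) hmemS ?_
        · rw [fac_ue_ve hE (Subgroup.mem_top _), ← ue_coe (i := θ) s]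
          exact ue_mem_up hxS (Subgroup.mem_zpowers _)
        · rw [fac_ue_ve hE (Subgroup.mem_top _), ue_coe]
      show ue θ (g (ve θ (θ s))) ∈ _
      rw [hv]
      refine Subgroup.mem_centralizer_iff.2 fun b _ => ?_
      obtain ⟨t, rfl⟩ := hsurj b
      rw [← ue_coe (i := θ) t, ← ue_mul t.2 (hf.mem (Subgroup.mem_zpowers _)),
        ← ue_mul (hf.mem (Subgroup.mem_zpowers _)) t.2, Subgroup.mem_centralizer_iff.1 hfc t t.2]
  have hlt : Nat.card (⊤ : Subgroup (↥S ⧸ V.subgroupOf S)) < n := by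
    have hc := fac_card hE (le_refl (⊤ : Subgroup (↥S ⧸ V.subgroupOf S)))
    rw [fac_pre_top hE, hn] at hc
    haveI := finite_of_le hVS
    have h2 : 1 < Nat.card V := by
      haveI := V.nontrivial_iff_ne_bot.2 hVbot
      exact Finite.one_lt_card
    rw [hc]
    exact lt_mul_left Nat.card_pos h2
  have hEsat := fac_saturated hS hF hsc hE
  have habel := ih _ hlt E (fac_isPGroup hE hS) hEsat hallE rfl
  have hdec : ∀ x ∈ S, ∃ c ∈ S ⊓ Subgroup.centralizer (S : Set Ω), ∃ v ∈ V, x = c * v := by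
    intro x hx
    obtain ⟨f, hf, hfc⟩ := h x hx
    obtain ⟨g, hg, hgf, -⟩ := (normal_iff.1 hnormal).2 _ f hf
    have hxS : Subgroup.zpowers x ≤ S := Subgroup.zpowers_le.2 hx
    have hfS := hf.mem (Subgroup.mem_zpowers x)
    rw [← fac_pre_up hE hxS] at hg
    have hP' := fac_up_le hE (P := Subgroup.zpowers x)
    obtain ⟨α', hα', hαe⟩ := abelian_extend (fac_isPGroup hE hS) hEsat habel (fac_induced hE hsc hP' hg)
    have hxup : ue θ x ∈ imageAlong θ (Subgroup.zpowers x) := ue_mem_up hxS (Subgroup.mem_zpowers x)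
    have hval : av α' (ue θ x) = ue θ (f x) := by
      rw [hαe _ hxup, ← hgf _ (Subgroup.mem_zpowers _)]
      refine fac_congr hE hsc hg (fac_le_pre hE) (fac_mem_pre.2 ⟨ve_mem, ?_⟩)
        (fac_mem_pre.2 ⟨hx, hxup⟩) ?_
      · rwa [fac_ue_ve hE (Subgroup.mem_top _)]
      · rw [fac_ue_ve hE (Subgroup.mem_top _)]
    obtain ⟨-, φ, hφ, hφe⟩ := fac_lift hE hsc (map_of_mem_autGroup le_rfl hα')
    rw [fac_pre_top hE] at hφ hφe
    obtain ⟨α, hα, hαφ⟩ := exists_aut hφ (Subgroup.eq_of_le_of_card_ge hφ.im_le hφ.card_im.ge)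
    have hmap := map_of_mem_autGroup le_rfl (inv_mem hα)
    have hm := av_mem α hx
    have hv : (f x)⁻¹ * av α x ∈ V := (fac_ue_eq_one hE (mul_mem (inv_mem hfS) hm)).1 (by
      rw [ue_mul (inv_mem hfS) hm, ue_inv hfS, hαφ x hx, hφe x hx, hval, inv_mul_cancel])
    refine ⟨av α⁻¹ (f x), ⟨hmap.mem hfS, Subgroup.mem_centralizer_iff.2 fun b hb => ?_⟩,
      av α⁻¹ ((f x)⁻¹ * av α x), ⟨hmap.mem (hVS hv), hsq S _ hmap _ (hVS hv) hv.2⟩, ?_⟩
    · have hb' := av_mem α hb
      calc b * av α⁻¹ (f x) = av α⁻¹ (av α b) * av α⁻¹ (f x) := by rw [av_inv_av α hb]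
        _ = av α⁻¹ (av α b * f x) := (hmap.map_mul hb' hfS).symm
        _ = av α⁻¹ (f x * av α b) := by rw [Subgroup.mem_centralizer_iff.1 hfc _ hb']
        _ = av α⁻¹ (f x) * b := by rw [hmap.map_mul hfS hb', av_inv_av α hb]
    · rw [← hmap.map_mul hfS (hVS hv), mul_inv_cancel_left, av_inv_av α hx]
  intro x hx y hy
  obtain ⟨c, ⟨hcS, hc⟩, v, hv, rfl⟩ := hdec x hx
  obtain ⟨d, ⟨hdS, hd⟩, w, hw, rfl⟩ := hdec y hy
  have e1 : c * (d * w) = d * w * c := (Subgroup.mem_centralizer_iff.1 hc _ hy).symm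
  have e2 : v * d = d * v := Subgroup.mem_centralizer_iff.1 hd _ (hVS hv)
  have e3 : v * w = w * v := hcomm v hv.1 w hw.1 hv.2 hw.2
  calc c * v * (d * w) = c * (v * d) * w := by group
    _ = c * d * (v * w) := by rw [e2]; group
    _ = c * (d * w) * v := by rw [e3]; group
    _ = d * w * (c * v) := by rw [e1]; group

end Cfsg.Agent.Local.FS.TwoCentral
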