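import Cfsg.Agent.Lib.Local.FS.USixStabCheckPts
import Cfsg.Agent.Lib.Spor.Co2Co3

/-!
The stabilizer of two minimal vectors with inner product −16 is the six-dimensional projective unitary
group over four elements.
-/

set_option autoImplicit false
set_option maxRecDepth 100000

namespace Cfsg.Agent.Local.FS.USixStab

open Cfsg Cfsg.Agent.Spor Cfsg.Agent.Spor.CC Equiv
open Cfsg.Agent.Local.FS.McLSmall (fword vecOf_fword)

local notation "Zv" => GolayPt → ℤ

theorem distinctB_nodup : ∀ (seen : ℕ) (l : List ℕ), distinctB seen l = true →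
    l.Nodup ∧ ∀ x ∈ l, seen.testBit x = false
  | _, [], _ => ⟨List.nodup_nil, by simp⟩
  | seen, x :: l, h => by
    simp only [distinctB, Bool.and_eq_true, Bool.not_eq_eq_eq_not, Bool.not_true] at h
    obtain ⟨h1, h2⟩ := distinctB_nodup (seen ||| 2 ^ x) l h.2
    refine ⟨List.nodup_cons.2 ⟨fun hx => by simpa [Nat.testBit_two_pow_self] using h2 x hx, h1⟩, ?_⟩
    intro y hy
    rcases List.mem_cons.1 hy with rfl | hy
    · exact h.1
    · have := h2 y hy
      simp only [Nat.testBit_or, Bool.or_eq_false_iff] at this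
      exact this.1

theorem testBit_pmask : ∀ (l : List ℕ) (j : ℕ), (pmask l).testBit j = true ↔ j ∈ l
  | [], j => by simp [pmask]
  | a :: l, j => by
    show (2 ^ a ||| pmask l).testBit j = true ↔ _
    rw [Nat.testBit_or, Bool.or_eq_true, Nat.testBit_two_pow, decide_eq_true_eq, testBit_pmask l j,
      List.mem_cons]
    exact or_congr_left eq_comm

theorem reach_ok (f : Fin 2 → ℕ → ℕ) (P : ℕ → Prop) (hstep : ∀ s p, P p → P (f s p)) :
    ∀ (l : List (ℕ × ℕ × ℕ)) (seen : ℕ), (∀ i, seen.testBit i = true → P i) →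
      ∀ i, (reachM f l seen).testBit i = true → P i
  | [], _, h => h
  | e :: l, seen, h => by
    refine reach_ok f P hstep l _ fun i hi => ?_
    cases hc : (seen.testBit e.2.1 && Nat.beq (f (Fin.ofNat 2 e.2.2) e.2.1) e.1) with
    | false => rw [hc, cond_false] at hi; exact h i hi
    | true =>
      rw [hc, cond_true, Nat.testBit_or, Bool.or_eq_true, Nat.testBit_two_pow, decide_eq_true_eq] at hi
      rw [Bool.and_eq_true] at hc
      rcases hi with hi | rfl
      · exact h i hi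
      · rw [← Nat.eq_of_beq_eq_true hc.2]
        exact hstep _ _ (h _ hc.1)

theorem reach_all (f : Fin 2 → ℕ → ℕ) (P : ℕ → Prop) (hstep : ∀ s p, P p → P (f s p)) (h0 : P 0)
    {l : List (ℕ × ℕ × ℕ)} {n : ℕ} (hl : reachM f l 1 = 2 ^ n - 1) {i : ℕ} (hi : i < n) : P i := by
  refine reach_ok f P hstep l 1 (fun j hj => ?_) i (by rw [hl, Nat.testBit_two_pow_sub_one]; exact decide_eq_true hi)
  rw [show (1 : ℕ) = 2 ^ 0 from rfl, Nat.testBit_two_pow, decide_eq_true_eq] at hj
  exact hj ▸ h0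

theorem step_spec (s : Fin 2) {i : ℕ} (hi : i < 891) :
    pi s i < 891 ∧ fword (word s) (row i) = row (pi s i) := by
  have h : stepOK s i = true := by
    by_cases h1 : i < 300
    · exact all_range (p := stepOK s) (steps0 s) (Nat.zero_le _) (by omega)
    by_cases h2 : i < 600
    · exact all_range (p := stepOK s) (steps1 s) (by omega) (by omega)
    exact all_range (p := stepOK s) (steps2 s) (by omega) (by omega)
  simp only [stepOK, Bool.and_eq_true, beq_iff_eq] at h
  exact ⟨Nat.le_of_ble_eq_true h.1, h.2⟩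

theorem quad_spec (s : Fin 2) {j : ℕ} (hj : j < 693) : sig s j < 693 ∧
    (∀ a, a ∈ (quad j).map (pi s) ↔ a ∈ quad (sig s j)) ∧ ∀ i ∈ quad j, i < 891 := by
  have h := all_range (p := quadOK s) (quads0 s) (u := j) (Nat.zero_le _) (by omega)
  simp only [quadOK, Bool.and_eq_true, List.all_eq_true] at h
  refine ⟨Nat.le_of_ble_eq_true h.1.1, fun a => ?_, fun i hi => Nat.le_of_ble_eq_true (h.2 i hi)⟩
  rw [← testBit_pmask, ← testBit_pmask, Nat.eq_of_beq_eq_true h.1.2]

/-- the first vector -/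
noncomputable def vP : ↥leechLattice := ⟨pairRef, pairRef_spec.1⟩

/-- the second vector -/
noncomputable def wP : ↥leechLattice := ⟨vecOf wL, leechCheck_mem wL_ok.1⟩

/-- the pair stabilizer -/
noncomputable def K : Subgroup ↥Co0 := MulAction.stabilizer ↥Co0 vP ⊓ MulAction.stabilizer ↥Co0 wP

theorem exists_gen (s : Fin 2) :
    ∃ g ∈ K, ∀ v : ↥leechLattice, ((g • v : ↥leechLattice) : Zv) = wordApp (word s) (v : Zv) := by
  obtain ⟨x, hx⟩ := exists_xi
  have h := words_ok s
  simp only [Bool.and_eq_true, beq_iff_eq] at h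
  obtain ⟨⟨hok, hv⟩, hw⟩ := h
  obtain ⟨g, -, hg⟩ := word_elem ⊤ (fun _ _ => Subgroup.mem_top _) (Subgroup.mem_top x) hx (word s) hok
  refine ⟨g, Subgroup.mem_inf.2 ⟨Subtype.ext ?_, Subtype.ext ?_⟩, hg⟩
  · rw [hg]
    show wordApp (word s) pairRef = pairRef
    rw [← vecOf_rowOf pairRef, ← vecOf_fword, hv]
  · rw [hg]
    show wordApp (word s) (vecOf wL) = vecOf wL
    rw [← vecOf_fword, hw]

/-- a generator -/
noncomputable def gen (s : Fin 2) : ↥K := ⟨(exists_gen s).choose, (exists_gen s).choose_spec.1⟩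

theorem gen_row (s : Fin 2) {i : ℕ} (hi : i < 891) {y : ↥leechLattice} (hy : (y : Zv) = vecOf (row i)) :
    (((gen s).1 • y : ↥leechLattice) : Zv) = vecOf (row (pi s i)) := by
  show (((exists_gen s).choose • y : ↥leechLattice) : Zv) = _
  rw [(exists_gen s).choose_spec.2, hy, ← vecOf_fword, (step_spec s hi).2]

theorem row_mem {i : ℕ} (hi : i < 891) : vecOf (row i) ∈ leechLattice := by
  obtain ⟨-, h⟩ := reach_all pi (fun i => i < 891 ∧ vecOf (row i) ∈ leechLattice)
    (fun s p ⟨hp, hm⟩ => ⟨(step_spec s hp).1, by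
      rw [← gen_row s hp (y := ⟨_, hm⟩) rfl]
      exact ((gen s).1 • (⟨_, hm⟩ : ↥leechLattice)).2⟩)
    ⟨by norm_num, leechCheck_mem root_ok⟩ treeV_ok hi
  exact h

/-- a set of vectors -/
def S (j : Fin 693) : Set ↥leechLattice := {y | ∃ i ∈ quad j, (y : Zv) = vecOf (row i)}

theorem rowOf_vecOf_row (i : ℕ) : rowOf (vecOf (row i)) = row i := by
  have hl : (row i).length = 24 := by simp [row]
  refine List.ext_getElem (by rw [hl]; simp [rowOf]) fun k h1 h2 => ?_
  simp only [rowOf, List.getElem_map, List.getElem_range, vecOf]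
  rw [idx_pt _ (hl ▸ h2), List.getD_eq_getElem _ _ h2]

theorem row_key {a b : ℕ} (ha : a < 891) (hb : b < 891) (h : vecOf (row a) = vecOf (row b)) :
    fld keyTab 16 a = fld keyTab 16 b := by
  have e : row a = row b := by rw [← rowOf_vecOf_row a, h, rowOf_vecOf_row]
  have ha' := Nat.eq_of_beq_eq_true (all_range (p := fun i => Nat.beq (keyL (row i)) (fld keyTab 16 i)) keys_ok
    (u := a) (Nat.zero_le _) (by omega))
  have hb' := Nat.eq_of_beq_eq_true (all_range (p := fun i => Nat.beq (keyL (row i)) (fld keyTab 16 i)) keys_ok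
    (u := b) (Nat.zero_le _) (by omega))
  rw [← ha', ← hb', e]

theorem S_injective : Function.Injective S := by
  intro i j h
  have key : ∀ i j : Fin 693, S i = S j → ∀ x,
      x ∈ (quad i).map (fun a => fld keyTab 16 a) → x ∈ (quad j).map (fun a => fld keyTab 16 a) := by
    intro i j h x hx
    obtain ⟨a, ha, rfl⟩ := List.mem_map.1 hx
    have ha' := (quad_spec 0 i.2).2.2 a ha
    have hy : (⟨_, row_mem ha'⟩ : ↥leechLattice) ∈ S i := ⟨a, ha, rfl⟩
    rw [h] at hy
    obtain ⟨b, hb, e⟩ := hy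
    exact List.mem_map.2 ⟨b, hb, (row_key ha' ((quad_spec 0 j.2).2.2 b hb) e).symm⟩
  have e : qsig i = qsig j := by
    unfold qsig
    congr 1
    refine Nat.eq_of_testBit_eq fun x => Bool.eq_iff_iff.2 ?_
    rw [testBit_pmask, testBit_pmask]
    exact ⟨key i j h x, key j i h.symm x⟩
  exact Fin.ext (List.inj_on_of_nodup_map (distinctB_nodup _ _ qsig_distinct).1 (List.mem_range.2 i.2)
    (List.mem_range.2 j.2) e)

/-- the relation between elements and permutations of the sets -/
def relG : Subgroup (↥K × Perm (Fin 693)) where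
  carrier := {x | ∀ j, (fun y => x.1.1 • y) '' S j = S (x.2 j)}
  one_mem' := fun j => by simp
  mul_mem' := fun {a b} ha hb j => by
    show (fun y => (a.1.1 * b.1.1) • y) '' S j = S (a.2 (b.2 j))
    rw [← ha, ← hb, Set.image_image]
    simp only [mul_smul]
  inv_mem' := fun {a} ha j => by
    show (fun y => a.1.1⁻¹ • y) '' S j = S (a.2⁻¹ j)
    have h := ha (a.2⁻¹ j)
    rw [Perm.inv_def, Equiv.apply_symm_apply] at h
    rw [← h, Set.image_image]
    simp

theorem sig_inj (s : Fin 2) {i j : ℕ} (hi : i < 693) (hj : j < 693) (h : sig s i = sig s j) : i = j :=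
  List.inj_on_of_nodup_map (distinctB_nodup _ _ (sig_distinct s)).1 (List.mem_range.2 hi) (List.mem_range.2 hj) h

/-- a permutation of the sets -/
noncomputable def sigP (s : Fin 2) : Perm (Fin 693) :=
  Equiv.ofBijective (fun j => ⟨sig s j, (quad_spec s j.2).1⟩)
    (Finite.injective_iff_bijective.1 fun i j h => Fin.ext (sig_inj s i.2 j.2 (congrArg Fin.val h)))

theorem sigP_val (s : Fin 2) (j : Fin 693) : (sigP s j : ℕ) = sig s j := rfl

theorem gen_rel (s : Fin 2) : (gen s, sigP s) ∈ relG := by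
  intro j
  obtain ⟨-, hq, hlt⟩ := quad_spec s j.2
  ext y
  constructor
  · rintro ⟨z, ⟨i, hi, hz⟩, rfl⟩
    exact ⟨pi s i, (hq _).1 (List.mem_map_of_mem hi), gen_row s (hlt i hi) hz⟩
  · rintro ⟨b, hb, hy⟩
    obtain ⟨i, hi, rfl⟩ := List.mem_map.1 ((hq b).2 hb)
    exact ⟨⟨_, row_mem (hlt i hi)⟩, ⟨i, hi, rfl⟩, Subtype.ext ((gen_row s (hlt i hi) rfl).trans hy.symm)⟩

/-- the pairs generated -/
noncomputable def P : Subgroup (↥K × Perm (Fin 693)) := Subgroup.closure (Set.range fun s => (gen s, sigP s))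

/-- the permutation group generated -/
noncomputable def Q : Subgroup (Perm (Fin 693)) := P.map (MonoidHom.snd _ _)

theorem P_rel : P ≤ relG := (Subgroup.closure_le _).2 (by rintro _ ⟨s, rfl⟩; exact gen_rel s)

theorem sigP_mem (s : Fin 2) : sigP s ∈ Q :=
  ⟨(gen s, sigP s), Subgroup.subset_closure ⟨s, rfl⟩, rfl⟩

/-- the matrix of a generator in the special unitary group -/
def matSU (s : Fin 2) : SUSix.G6 :=
  Small.Unitary.mkSU SpFour.F4.star_eq_pow (mat s) (mat_unitary s) (mat_det s)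

theorem uperm_matSU (s : Fin 2) : SUSix.uperm (matSU s) = sigP s :=
  Equiv.ext fun j => Fin.ext <| (SUSix.uperm_val _ j).trans <| by
    rw [sigP_val]
    exact Nat.eq_of_beq_eq_true (all_range (p := matPtOK s) (mat_pts s) (Nat.zero_le _) (by omega))

theorem Q_le : Q ≤ SUSix.uperm.range := by
  rw [Q, P, MonoidHom.map_closure, Subgroup.closure_le]
  rintro _ ⟨_, ⟨s, rfl⟩, rfl⟩
  exact ⟨matSU s, uperm_matSU s⟩

theorem Q_trans (j : Fin 693) : ∃ q ∈ Q, q 0 = j := by
  obtain ⟨hj, h⟩ := reach_all sig (fun i => ∃ hi : i < 693, ∃ q ∈ Q, q 0 = (⟨i, hi⟩ : Fin 693))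
    (fun s p ⟨hp, q, hq, e⟩ => ⟨(quad_spec s hp).1, sigP s * q, mul_mem (sigP_mem s) hq,
      Fin.ext (by rw [Perm.mul_apply, e, sigP_val])⟩)
    ⟨by norm_num, 1, one_mem _, rfl⟩ treeQ_ok j.2
  exact h

theorem Q_eq : Q = SUSix.uperm.range := by
  refine le_antisymm Q_le ?_
  have hstar := SpFour.F4.star_eq_pow
  set N' := Q.comap SUSix.uperm
  have hiso : Small.Unitary.herm (SUSix.vecOf (SUSix.pt transPt)) (SUSix.vecOf (SUSix.pt transPt)) = 0 :=
    (SUSix.pt_spec (by decide)).2.2
  have h1 : star (1 : SpFour.F4) = -1 := by decide +kernel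
  set T := Small.Unitary.trans (F := SpFour.F4) hstar _ hiso 1 h1
  have hT : T ∈ N' := by
    show SUSix.uperm T ∈ Q
    rw [show T = matSU 0 from Subtype.ext (Subtype.ext mat_trans.symm), uperm_matSU]
    exact sigP_mem 0
  have hnorm : ∀ (c : SpFour.F4), c ≠ 0 → star c * c * 1 = 1 := by decide +kernel
  have hconj : ∀ A : SUSix.G6, A * T * A⁻¹ ∈ N' := by
    intro A
    set k : Fin 693 := SUSix.uperm A ⟨transPt, by decide⟩
    obtain ⟨a, ha, ha'⟩ := Q_trans ⟨transPt, by decide⟩
    obtain ⟨b, hb, hb'⟩ := Q_trans k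
    obtain ⟨B, hB⟩ := Q_le (mul_mem hb (inv_mem ha))
    have hBk : SUSix.uperm B ⟨transPt, by decide⟩ = k := by
      rw [hB, Perm.mul_apply, ← ha', Perm.inv_def, Equiv.symm_apply_apply, hb']
    have hBQ : B ∈ N' := by show SUSix.uperm B ∈ Q; rw [hB]; exact mul_mem hb (inv_mem ha)
    have himg : ∀ C : SUSix.G6, SUSix.uperm C ⟨transPt, by decide⟩ = k →
        ∃ c : SpFour.F4, c ≠ 0 ∧ Small.Unitary.act C (SUSix.vecOf (SUSix.pt transPt)) = c • SUSix.vecOf (SUSix.pt k) := by
      intro C hC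
      obtain ⟨hne, hi⟩ := SUSix.img_ok C (i := transPt) (by decide)
      obtain ⟨-, c, hc, e⟩ := SUSix.exists_pt _ hne hi
      refine ⟨c, hc, ?_⟩
      rw [← hC, SUSix.uperm_val]
      exact e
    have hval : ∀ C : SUSix.G6, SUSix.uperm C ⟨transPt, by decide⟩ = k →
        (C * T * C⁻¹).1.1 = Small.Unitary.transMat (SUSix.vecOf (SUSix.pt k)) 1 := by
      intro C hC
      obtain ⟨c, hc, e⟩ := himg C hC
      rw [Small.Unitary.conj_trans]
      show Small.Unitary.transMat (Small.Unitary.act C _) 1 = _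
      rw [e, Small.Unitary.transMat_smul_vec, hnorm c hc]
    have : A * T * A⁻¹ = B * T * B⁻¹ := Subtype.ext (Subtype.ext ((hval A rfl).trans (hval B hBk).symm))
    rw [this]
    exact mul_mem (mul_mem hBQ hT) (inv_mem hBQ)
  have hle : Subgroup.normalClosure {T} ≤ N' := (Subgroup.closure_le _).2 fun x hx => by
    obtain ⟨t, rfl, h⟩ := Group.mem_conjugatesOfSet_iff.1 hx
    obtain ⟨A, rfl⟩ := isConj_iff.1 h
    exact hconj A
  have ht : ∀ t : SpFour.F4, star t = -t → t = 0 ∨ t = 1 := by decide +kernel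
  have htop : Subgroup.normalClosure {T} = ⊤ :=
    Small.Unitary.normal_eq_top (hstar := hstar) SpFour.F4.card_sq (by norm_num) (by omega)
      (SUSix.pt_spec (i := transPt) (by decide)).2.1 hiso fun t htt => by
        rcases ht t htt with rfl | rfl
        · convert Subgroup.one_mem _
          refine Subtype.ext (Subtype.ext ?_)
          show Small.Unitary.transMat _ (0 : SpFour.F4) = 1
          simp [Small.Unitary.transMat]
        · exact Subgroup.subset_normalClosure rfl
  rintro _ ⟨A, rfl⟩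
  exact hle (htop ▸ Subgroup.mem_top A)

theorem card_K : Nat.card ↥K = 9196830720 := by
  classical
  haveI := co0_finite
  set G := MulAction.stabilizer ↥Co0 vP
  have horb : (MulAction.orbit ↥G wP).ncard = 4600 := by
    rw [← (census pairRef_spec.1 pairRef_spec.2).1, ← Set.ncard_image_of_injective _ Subtype.val_injective]
    congr 1
    ext x
    constructor
    · rintro ⟨_, ⟨g, rfl⟩, rfl⟩
      refine ⟨(g.1 • wP).2, (g.1.2.2 _).trans wL_ok.2.1, ?_⟩
      have := co0_dot g.1 vP wP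
      rw [show g.1 • vP = vP from g.2] at this
      exact this.trans wL_ok.2.2
    · rintro ⟨hx, hn, hd⟩
      obtain ⟨g, g1, g2⟩ := sixteen_transitive vP wP ⟨x, hx⟩ pairRef_spec.2 wL_ok.2.1 hn wL_ok.2.2 hd
      exact ⟨⟨x, hx⟩, ⟨⟨g, g1⟩, g2⟩, rfl⟩
  have h := Nat.card_congr (MulAction.orbitProdStabilizerEquivGroup ↥G wP)
  rw [Nat.card_prod, Nat.card_coe_set_eq, horb, card_co2 (v := vP) pairRef_spec.2] at h
  have e : Nat.card (MulAction.stabilizer ↥G wP) = Nat.card ↥K :=
    Nat.card_congr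
      { toFun := fun g => ⟨g.1.1, g.1.2, g.2⟩
        invFun := fun g => ⟨⟨g.1, g.2.1⟩, g.2.2⟩
        left_inv := fun g => rfl
        right_inv := fun g => rfl }
  omega

theorem K_iso : Nonempty (↥K ≃* PSU 6 SpFour.F4 2) := by
  haveI := co0_finite
  obtain ⟨e⟩ := SUSix.range_equiv
  have hfst : Function.Injective ((MonoidHom.fst ↥K (Perm (Fin 693))).comp P.subtype) := by
    refine (injective_iff_map_eq_one _).2 fun x hx => ?_
    have hx' : x.1.1 = 1 := hx
    refine Subtype.ext (Prod.ext hx' (Equiv.ext fun j => (S_injective ?_).symm))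
    have := P_rel x.2 j
    rw [hx'] at this
    simpa using this
  haveI : Finite ↥P := Finite.of_injective _ hfst
  let f := (MonoidHom.fst ↥K (Perm (Fin 693))).comp P.subtype
  let g : ↥P →* ↥Q := ((MonoidHom.snd ↥K (Perm (Fin 693))).comp P.subtype).codRestrict Q fun x => ⟨x.1, x.2, rfl⟩
  have hg : Function.Surjective g := fun ⟨_, x, hx, rfl⟩ => ⟨⟨x, hx⟩, rfl⟩
  have hQ : Nat.card ↥Q = 9196830720 := by rw [Q_eq]; exact SUSix.card_range
  have h1 : Nat.card ↥P ≤ Nat.card ↥K := Nat.card_le_card_of_injective _ hfst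
  have h2 : Nat.card ↥Q ≤ Nat.card ↥P := Nat.card_le_card_of_surjective g hg
  have hP : Nat.card ↥P = 9196830720 := by rw [card_K] at h1; omega
  have hf : Function.Bijective f := (Nat.bijective_iff_injective_and_card _).2 ⟨hfst, by rw [hP, card_K]⟩
  have hg' : Function.Bijective g := (Nat.bijective_iff_surjective_and_card _).2 ⟨hg, by rw [hP, hQ]⟩
  exact ⟨(MulEquiv.ofBijective f hf).symm.trans ((MulEquiv.ofBijective g hg').trans
    ((MulEquiv.subgroupCongr Q_eq).trans e))⟩

/-- a conjugate pair has the same stabilizer up to isomorphism -/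
theorem stab_iso (v w : ↥leechLattice) (hv : sqNorm (v : Zv) = 32) (hw : sqNorm (w : Zv) = 32)
    (hd : dotInt (v : Zv) (w : Zv) = -16) :
    Nonempty (↥(MulAction.stabilizer ↥Co0 v ⊓ MulAction.stabilizer ↥Co0 w) ≃* ↥K) := by
  obtain ⟨k, hk⟩ := transitive_of_orb (fun y hy hn => orb_short hy hn) v vP hv pairRef_spec.2
  have hd' : dotInt (vP : Zv) ((k • w : ↥leechLattice) : Zv) = -16 := by
    have := co0_dot k v w
    rw [hk] at this
    exact this.trans hd
  obtain ⟨g, g1, g2⟩ := sixteen_transitive vP (k • w) wP pairRef_spec.2 ((k.2.2 _).trans hw) wL_ok.2.1 hd' wL_ok.2.2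
  have e1 : (g * k) • v = vP := by rw [mul_smul, hk, g1]
  have e2 : (g * k) • w = wP := by rw [mul_smul, g2]
  generalize g * k = c at e1 e2
  refine ⟨((MulAction.stabilizer ↥Co0 v ⊓ MulAction.stabilizer ↥Co0 w).equivMapOfInjective
    (MulAut.conj c).toMonoidHom (MulAut.conj c).injective).trans (MulEquiv.subgroupCongr ?_)⟩
  ext x
  simp only [Subgroup.mem_map, K, Subgroup.mem_inf, MulAction.mem_stabilizer_iff, MulEquiv.coe_toMonoidHom,
    MulAut.conj_apply]
  constructor
  · rintro ⟨y, ⟨h1, h2⟩, rfl⟩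
    refine ⟨?_, ?_⟩
    · rw [← e1, mul_smul, mul_smul, inv_smul_smul, h1]
    · rw [← e2, mul_smul, mul_smul, inv_smul_smul, h2]
  · rintro ⟨h1, h2⟩
    refine ⟨c⁻¹ * x * c, ⟨?_, ?_⟩, by group⟩
    · rw [mul_smul, mul_smul, e1, h1, inv_smul_eq_iff]; exact e1.symm
    · rw [mul_smul, mul_smul, e2, h2, inv_smul_eq_iff]; exact e2.symm

end Cfsg.Agent.Local.FS.USixStab
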