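import Cfsg.Agent.Lib.Local.FS.USixStabData
import Cfsg.Agent.Lib.Local.FS.McLPerm
import Cfsg.Agent.Lib.Spor.MclConfig
import Cfsg.Agent.Lib.Spor.SUSixPoints
import Cfsg.Agent.Lib.Spor.LeechSixteen

/-!
Checks on the data for the stabilizer of two minimal vectors.
-/

set_option autoImplicit false
set_option maxRecDepth 100000

namespace Cfsg.Agent.Local.FS.USixStab

open Cfsg Cfsg.Agent.Spor Cfsg.Agent.Spor.CC
open Cfsg.Agent.Local.FS.McLSmall (fword)

local notation "Zv" => GolayPt → ℤ

/-- a word -/
def word (s : Fin 2) : List LOp := words.getD s []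

/-- the second vector -/
def wL : List ℤ := -4 :: 4 :: List.replicate 22 0

/-- the coordinates of a vector -/
def row (i : ℕ) : List ℤ :=
  (List.range 24).map fun k => (((rowCodes.getD i 0 >>> (4 * k)) &&& 15 : ℕ) : ℤ) - 8

/-- the permutation of the vectors -/
def pi (s : Fin 2) (i : ℕ) : ℕ := fld (piTab.getD s 0) 16 i

/-- the permutation of the sets -/
def sig (s : Fin 2) (j : ℕ) : ℕ := fld (sigTab.getD s 0) 16 j

/-- a set -/
def quad (j : ℕ) : List ℕ := quads.getD j []

/-- the mask of a list -/
def pmask (l : List ℕ) : ℕ := l.foldr (fun a m => 2 ^ a ||| m) 0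

/-- the images are distinct -/
def distinctB : ℕ → List ℕ → Bool
  | _, [] => true
  | seen, x :: l => !(seen.testBit x) && distinctB (seen ||| 2 ^ x) l

/-- the key of coordinates -/
def keyL (l : List ℤ) : ℕ := ((List.zipWith (· * ·) keyCoef l).sum % 64).toNat

/-- the signature of a set -/
def qsig (j : ℕ) : ℕ := pmask ((quad j).map fun i => fld keyTab 16 i) % sigMod

/-- the points reached along a tree -/
def reachM (f : Fin 2 → ℕ → ℕ) : List (ℕ × ℕ × ℕ) → ℕ → ℕ
  | [], seen => seen
  | e :: l, seen => reachM f l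
      (bif seen.testBit e.2.1 && Nat.beq (f (Fin.ofNat 2 e.2.2) e.2.1) e.1 then seen ||| 2 ^ e.1 else seen)

/-- one vector is mapped correctly -/
def stepOK (s : Fin 2) (i : ℕ) : Bool :=
  Nat.blt (pi s i) 891 && fword (word s) (row i) == row (pi s i)

/-- one set is mapped correctly -/
def quadOK (s : Fin 2) (j : ℕ) : Bool :=
  Nat.blt (sig s j) 693 && Nat.beq (pmask ((quad j).map (pi s))) (pmask (quad (sig s j))) &&
    (quad j).all (fun i => Nat.blt i 891)

/-- the matrix of a generator -/
def mat (s : Fin 2) : Matrix (Fin 6) (Fin 6) SpFour.F4 := SUSix.matOf (mats.getD s 0)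

/-- one point is mapped correctly -/
def matPtOK (s : Fin 2) (j : ℕ) : Bool := Nat.beq (SUSix.actN (mat s) j) (sig s j)

theorem words_ok : ∀ s : Fin 2, ((word s).all LOp.ok && fword (word s) (rowOf pairRef) == rowOf pairRef &&
    fword (word s) wL == wL) = true := by decide +kernel

theorem wL_ok : leechCheck (vecOf wL) = true ∧ sqNorm (vecOf wL) = 32 ∧ dotInt pairRef (vecOf wL) = -16 := by
  refine ⟨?_, ?_, ?_⟩ <;> decide +kernel

theorem root_ok : leechCheck (vecOf (row 0)) = true := by decide +kernel

theorem steps0 : ∀ s : Fin 2, rangeOK (stepOK s) 0 300 = true := by decide +kernel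
theorem quads0 : ∀ s : Fin 2, rangeOK (quadOK s) 0 693 = true := by decide +kernel

theorem keys_ok : rangeOK (fun i => Nat.beq (keyL (row i)) (fld keyTab 16 i)) 0 891 = true := by decide +kernel

theorem qsig_distinct : distinctB 0 ((List.range 693).map qsig) = true := by decide +kernel

theorem sig_distinct : ∀ s : Fin 2, distinctB 0 ((List.range 693).map (sig s)) = true := by decide +kernel

theorem treeV_ok : reachM pi treeV 1 = 2 ^ 891 - 1 := by decide +kernel

theorem treeQ_ok : reachM sig treeQ 1 = 2 ^ 693 - 1 := by decide +kernel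

theorem mat_unitary : ∀ s : Fin 2, (mat s).conjTranspose * mat s = 1 := by decide +kernel

theorem mat_det : ∀ s : Fin 2, (mat s).det = 1 := by decide +kernel

theorem mat_trans : mat 0 = Small.Unitary.transMat (SUSix.vecOf (SUSix.pt transPt)) 1 := by decide +kernel

end Cfsg.Agent.Local.FS.USixStab
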