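import Cfsg.Agent.Lib.Local.FS.USixStabCheck

/-!
Further checks on the data for the stabilizer of two minimal vectors.
-/

set_option autoImplicit false
set_option maxRecDepth 100000

namespace Cfsg.Agent.Local.FS.USixStab

open Cfsg Cfsg.Agent.Spor Cfsg.Agent.Spor.CC

theorem steps1 : ∀ s : Fin 2, rangeOK (stepOK s) 300 300 = true := by decide +kernel

theorem steps2 : ∀ s : Fin 2, rangeOK (stepOK s) 600 291 = true := by decide +kernel

theorem mat_pts : ∀ s : Fin 2, rangeOK (matPtOK s) 0 693 = true := by decide +kernel

end Cfsg.Agent.Local.FS.USixStab
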