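import Cfsg.Agent.Lib.Local.FS.InnerCriterion
import Cfsg.Agent.Lib.Local.FS.TateCor
import Cfsg.Agent.Lib.Local.FS.Solvable
import Cfsg.Agent.Lib.Lead.SupersolubleCore
import Cfsg.Agent.Lib.Solv.PGroupPhi

/-!
Inner systems detected by weakly embedded subgroups of one order with inner normalizer systems.
-/

set_option autoImplicit false
set_option linter.style.haveILetI false

namespace Cfsg.Agent.Local.FS

open Cfsg Cfsg.FusionSystem Cfsg.Agent.Fusion

universe u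

variable {Ω : Type u} [Group Ω] {S : Subgroup Ω}

/-- Every subgroup of order `n` is weakly embedded. -/
def WeakEmb (F : FusionSystem S) (n : ℕ) : Prop :=
  ∀ Q : Subgroup Ω, Q ≤ S → Nat.card Q = n →
    ∃ P, F.StronglyClosed P ∧ F.StronglyClosed (Q ⊔ P) ∧ F.StronglyClosed (Q ⊓ P)

/-- The automorphism condition at every subgroup of order `n`. -/
def PAtOrder (F : FusionSystem S) (p n : ℕ) : Prop :=
  ∀ H : Subgroup Ω, H ≤ S → Nat.card H = n → PAt F p H

variable [Finite S] {F : FusionSystem S} {p : ℕ}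

omit [Finite S] in
theorem sc_inf {A B : Subgroup Ω} (hA : F.StronglyClosed A) (hB : F.StronglyClosed B) :
    F.StronglyClosed (A ⊓ B) :=
  stronglyClosed_iff.2 ⟨inf_le_left.trans hA.1, fun _ _ hP hf x hx =>
    ⟨stronglyClosed_map hA hf hx (hP hx).1, stronglyClosed_map hB hf hx (hP hx).2⟩⟩

theorem sc_exists_minimal {A : Subgroup Ω} (hA : F.StronglyClosed A) (hne : A ≠ ⊥) :
    ∃ N, F.StronglyClosed N ∧ N ≤ A ∧ N ≠ ⊥ ∧ ∀ K, F.StronglyClosed K → K ≤ N → K ≠ ⊥ → K = N := by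
  suffices ∀ k, ∀ A : Subgroup Ω, Nat.card A = k → F.StronglyClosed A → A ≠ ⊥ →
      ∃ N, F.StronglyClosed N ∧ N ≤ A ∧ N ≠ ⊥ ∧ ∀ K, F.StronglyClosed K → K ≤ N → K ≠ ⊥ → K = N from
    this _ A rfl hA hne
  intro k
  induction k using Nat.strong_induction_on with
  | _ k ih =>
  intro A hk hA hne
  by_cases h : ∀ K, F.StronglyClosed K → K ≤ A → K ≠ ⊥ → K = A
  · exact ⟨A, hA, le_rfl, hne, h⟩
  simp only [not_forall] at h
  obtain ⟨K, hK, hKA, hK1, hKne⟩ := h
  obtain ⟨N, h1, h2, h3⟩ := ih _ (hk ▸ card_lt_of_lt (lt_of_le_of_ne hKA hKne) hA.1) K rfl hK hK1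
  exact ⟨N, h1, h2.trans hKA, h3⟩

variable [Fact p.Prime]

theorem exists_subgroup_between (hS : IsPGroup p S) {A T : Subgroup Ω} (hA : A ≤ T) (hT : T ≤ S) {k : ℕ}
    (h1 : Nat.card A ≤ p ^ k) (h2 : p ^ k ≤ Nat.card T) :
    ∃ Q, A ≤ Q ∧ Q ≤ T ∧ Nat.card Q = p ^ k := by
  haveI := finite_of_le hT
  have hTp : IsPGroup p T := hS.to_le hT
  obtain ⟨m, hm⟩ := hTp.exists_card_eq
  obtain ⟨a, ha⟩ := (hTp.to_subgroup (A.subgroupOf T)).exists_card_eq
  have hcA : Nat.card ↥(A.subgroupOf T) = Nat.card A := card_subgroupOf_eq hA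
  rw [← hcA, ha] at h1
  rw [hm] at h2
  have hp1 := (Fact.out : p.Prime).one_lt
  obtain ⟨K, hK, hAK⟩ := Sylow.exists_subgroup_card_pow_prime_le p
    (hm ▸ pow_dvd_pow p ((Nat.pow_le_pow_iff_right hp1).1 h2)) (A.subgroupOf T) ha
    ((Nat.pow_le_pow_iff_right hp1).1 h1)
  refine ⟨K.map T.subtype, ?_, Subgroup.map_subtype_le K, ?_⟩
  · intro x hx
    exact ⟨⟨x, hA hx⟩, hAK (show (⟨x, hA hx⟩ : T) ∈ A.subgroupOf T from hx), rfl⟩
  · rw [Subgroup.card_map_of_injective T.subtype_injective, hK]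

/-- Strongly closed subgroups of the given order exist between any two strongly closed subgroups. -/
theorem exists_sc_card (hS : IsPGroup p S) (hF : F.IsSaturated p) {k : ℕ} (hWE : WeakEmb F (p ^ k))
    {B₀ T₀ : Subgroup Ω} (hB₀ : F.StronglyClosed B₀) (hT₀ : F.StronglyClosed T₀) (hle : B₀ ≤ T₀)
    (h1 : Nat.card B₀ ≤ p ^ k) (h2 : p ^ k ≤ Nat.card T₀) :
    ∃ R, F.StronglyClosed R ∧ B₀ ≤ R ∧ R ≤ T₀ ∧ Nat.card R = p ^ k := by
  suffices ∀ j, ∀ B : Subgroup Ω, p ^ k - Nat.card B = j → F.StronglyClosed B → B₀ ≤ B → B ≤ T₀ →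
      Nat.card B ≤ p ^ k → ∃ R, F.StronglyClosed R ∧ B₀ ≤ R ∧ R ≤ T₀ ∧ Nat.card R = p ^ k from
    this _ B₀ rfl hB₀ le_rfl hle h1
  intro j
  induction j using Nat.strong_induction_on with
  | _ j ih =>
  intro B hj hB hB₀B hBT hc
  rcases eq_or_lt_of_le hc with hc' | hc'
  · exact ⟨B, hB, hB₀B, hBT, hc'⟩
  haveI := finite_of_le hT₀.1
  have hgrow : ∀ B' : Subgroup Ω, F.StronglyClosed B' → B ≤ B' → B' ≠ B → B' ≤ T₀ → p ^ k < Nat.card B' ∨
      ∃ R, F.StronglyClosed R ∧ B₀ ≤ R ∧ R ≤ T₀ ∧ Nat.card R = p ^ k := by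
    intro B' hB' hBB' hne hB'T
    rcases lt_or_ge (p ^ k) (Nat.card B') with h | h
    · exact Or.inl h
    refine Or.inr (ih _ ?_ B' rfl hB' (hB₀B.trans hBB') hB'T h)
    have := card_lt_of_lt (lt_of_le_of_ne hBB' hne.symm) hB'.1
    omega
  by_contra hcon
  have hBT₀ : B ≠ T₀ := fun h => absurd (h ▸ hc') (not_lt.2 h2)
  have hmin : ∃ T : Subgroup Ω, F.StronglyClosed T ∧ B ≤ T ∧ T ≠ B ∧ T ≤ T₀ ∧
      ∀ T', F.StronglyClosed T' → B ≤ T' → T' ≠ B → T' ≤ T → T' = T := by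
    suffices ∀ i, ∀ T : Subgroup Ω, Nat.card T = i → F.StronglyClosed T → B ≤ T → T ≠ B → T ≤ T₀ →
        ∃ T : Subgroup Ω, F.StronglyClosed T ∧ B ≤ T ∧ T ≠ B ∧ T ≤ T₀ ∧
          ∀ T', F.StronglyClosed T' → B ≤ T' → T' ≠ B → T' ≤ T → T' = T from
      this _ T₀ rfl hT₀ hBT hBT₀.symm le_rfl
    intro i
    induction i using Nat.strong_induction_on with
    | _ i ih' =>
    intro T hi hT hBT hne hTT
    by_cases h : ∀ T', F.StronglyClosed T' → B ≤ T' → T' ≠ B → T' ≤ T → T' = T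
    · exact ⟨T, hT, hBT, hne, hTT, h⟩
    simp only [not_forall] at h
    obtain ⟨T', a, b, c, d, e⟩ := h
    exact ih' _ (hi ▸ card_lt_of_lt (lt_of_le_of_ne d e) hT.1) T' rfl a b c (d.trans hTT)
  obtain ⟨T, hT, hBT', hTne, hTT, hTmin⟩ := hmin
  have hTbig := (hgrow T hT hBT' hTne hTT).resolve_right hcon
  obtain ⟨Q, hBQ, hQT, hQc⟩ := exists_subgroup_between hS hBT' hT.1 hc hTbig.le
  obtain ⟨P, hP, hQP, hQiP⟩ := hWE Q (hQT.trans hT.1) hQc
  haveI := finite_of_le (hQT.trans hT.1)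
  have hne1 : Q ≠ B := fun h => hc'.ne (h ▸ hQc)
  have hQiB : Q ⊓ P ≤ B := by
    by_contra h
    have hle' : Q ⊓ P ⊔ B ≤ Q := sup_le inf_le_left hBQ
    have hbig := (hgrow _ (stronglyClosed_sup hS hF hQiP hB) le_sup_right
      (fun he => h (le_sup_left.trans he.le)) (hle'.trans (hQT.trans hTT))).resolve_right hcon
    exact absurd (Subgroup.card_le_of_le hle') (not_le.2 (hQc ▸ hbig))
  have hTQP : T ≤ Q ⊔ P := by
    have := hTmin _ (sc_inf hQP hT) (hBQ.trans (le_inf le_sup_left hQT))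
      (fun he => hne1 (le_antisymm ((le_inf le_sup_left hQT).trans he.le) hBQ)) inf_le_right
    exact this.ge.trans inf_le_left
  have hsplit : ∀ x ∈ T, ∃ a ∈ Q, ∃ b ∈ P ⊓ T, a * b = x := by
    intro x hx
    obtain ⟨a, ha, b, hb, rfl⟩ :=
      mem_sup_of_normalized (stronglyClosed_le_normalizer hP) (hQT.trans hT.1) (hTQP hx)
    refine ⟨a, ha, b, ⟨hb, ?_⟩, rfl⟩
    simpa using T.mul_mem (T.inv_mem (hQT ha)) hx
  have hPT := sc_inf hP hT
  by_cases hPB : P ⊓ T ≤ B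
  · refine absurd (Subgroup.card_le_of_le (show T ≤ Q from fun x hx => ?_)) (not_le.2 (hQc ▸ hTbig))
    obtain ⟨a, ha, b, hb, rfl⟩ := hsplit x hx
    exact Q.mul_mem ha (hBQ (hPB hb))
  · have hB' := hTmin _ (stronglyClosed_sup hS hF hPT hB) le_sup_right
      (fun he => hPB (le_sup_left.trans he.le)) (sup_le inf_le_right hBT')
    refine hne1 (le_antisymm (fun x hx => ?_) hBQ)
    obtain ⟨a, ha, b, hb, rfl⟩ :=
      mem_sup_of_normalized (stronglyClosed_le_normalizer hB) hPT.1 (hB'.ge (hQT hx))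
    refine B.mul_mem (hQiB ⟨?_, ha.1⟩) hb
    simpa using Q.mul_mem hx (Q.inv_mem (hBQ hb))

omit [Fact p.Prime] in
/-- A power fixing a subgroup pointwise modulo which it is trivial is a `p`-element. -/
theorem pow_of_pow {A : Subgroup Ω} {α : MulAut A} {k : ℕ} (h : ∃ l, (α ^ p ^ k) ^ p ^ l = 1) :
    ∃ l, α ^ p ^ l = 1 := by
  obtain ⟨l, hl⟩ := h
  exact ⟨k + l, by rw [pow_add, pow_mul, hl]⟩

theorem isInner_of_all (hS : IsPGroup p S) (hF : F.IsSaturated p)
    (h : ∀ A : Subgroup Ω, F.IsCentric A → ∀ α ∈ F.autGroup A, ∃ k, α ^ p ^ k = 1) : IsInner F := by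
  refine isInner_of_gen hS hF fun R hR => ?_
  rintro ⟨α, hα⟩
  obtain ⟨k, hk⟩ := h R (gen_centric_radical hS hF hR).1 α hα
  exact ⟨k, Subtype.ext hk⟩

/-- A normal subgroup with the automorphism condition forces the system to be inner. -/
theorem isInner_of_normal_pAt (hS : IsPGroup p S) (hF : F.IsSaturated p) {R : Subgroup Ω} (hR : F.IsNormal R)
    (h : PAt F p R) : IsInner F := by
  refine isInner_of_all hS hF fun A hA α hα => ?_
  obtain ⟨g, hg, hgf, hgR⟩ := (normal_iff.1 hR).2 A (av α) (map_of_mem_autGroup hA.1 hα)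
  haveI := finite_of_le hg.le
  have hi : im (A ⊔ R) g = A ⊔ R := by
    refine Subgroup.eq_of_le_of_card_ge (hg.im_sup_le.trans (sup_le ?_ ?_)) hg.card_im.ge
    · rw [im_congr hgf, im_av]; exact le_sup_left
    · rw [hgR]; exact le_sup_right
  obtain ⟨γ, hγ, hγg⟩ := exists_aut hg hi
  have hnorm : A ⊔ R ≤ normalizerIn S R :=
    le_inf (sup_le hA.1 hR.1) ((sup_le hA.1 hR.1).trans (stronglyClosed_le_normalizer (normal_stronglyClosed hR)))
  have hγR : im R (av γ) = R :=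
    (im_congr fun x hx => hγg x (Subgroup.mem_sup_right hx)).trans hgR
  obtain ⟨k, hk⟩ := h (A ⊔ R) le_sup_right hnorm γ hγ hγR
  exact ⟨k, pow_eq_one_of_semiconj id (fun x hx => Subgroup.mem_sup_left hx) (Set.injOn_id _)
    (fun x hx => by
      show av α x = av γ x
      rw [hγg x (Subgroup.mem_sup_left hx), hgf x hx]) hk⟩

omit [Fact p.Prime] in
theorem im_eq_self_of_sc {T A : Subgroup Ω} (hT : F.StronglyClosed T) {g : Ω → Ω} (hg : Map F A g) (hTA : T ≤ A) :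
    im T g = T := by
  haveI := finite_of_le hT.1
  exact Subgroup.eq_of_le_of_card_ge (im_le_iff.2 fun x hx => stronglyClosed_map hT hg (hTA hx) hx)
    (hg.restrict hTA).card_im.ge

omit [Finite S] [Fact p.Prime] in
theorem sc_commute {R N : Subgroup Ω} (hR : F.StronglyClosed R) (hN : F.StronglyClosed N) (hRN : R ⊓ N = ⊥)
    {r : Ω} (hr : r ∈ R) {x : Ω} (hx : x ∈ N) : r * x * r⁻¹ = x := by
  have h1 : r * x * r⁻¹ * x⁻¹ ∈ R := by
    simpa [mul_assoc] using R.mul_mem hr (stronglyClosed_conj_mem hR (hN.1 hx) (R.inv_mem hr))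
  have h2 : r * x * r⁻¹ * x⁻¹ ∈ N :=
    N.mul_mem (stronglyClosed_conj_mem hN (hR.1 hr) hx) (N.inv_mem hx)
  exact mul_inv_eq_one.1 (Subgroup.mem_bot.1 (hRN ▸ (show r * x * r⁻¹ * x⁻¹ ∈ R ⊓ N from ⟨h1, h2⟩)))

omit [Fact p.Prime] in
/-- Extension past a strongly closed subgroup meeting `N` trivially. -/
theorem isInner_of_complement [Fact p.Prime] (hS : IsPGroup p S) (hF : F.IsSaturated p) {R N : Subgroup Ω}
    (hR : F.StronglyClosed R) (hN : F.StronglyClosed N) (hRN : R ⊓ N = ⊥) (hP : PAt F p R)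
    (htriv : ∀ A : Subgroup Ω, A ≤ S → ∀ α ∈ F.autGroup A, ∃ k, ∀ x ∈ A, x⁻¹ * av (α ^ p ^ k) x ∈ N) :
    IsInner F := by
  suffices ∀ j, ∀ A : Subgroup Ω, Nat.card S - Nat.card A = j → F.IsCentric A →
      ∀ α ∈ F.autGroup A, ∃ k, α ^ p ^ k = 1 from isInner_of_all hS hF fun A hA => this _ A rfl hA
  intro j
  induction j using Nat.strong_induction_on with
  | _ j ih =>
  intro A hj hA α hα
  have hAS := hA.1
  have hRn := stronglyClosed_le_normalizer hR
  by_cases hRA : R ≤ A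
  · exact hP A hRA (le_inf hAS (hAS.trans hRn)) α hα
      (im_eq_self_of_sc hR (map_of_mem_autGroup hAS hα) hRA)
  obtain ⟨k, hk⟩ := htriv A hAS α hα
  set β := α ^ p ^ k with hβdef
  have hβ : β ∈ F.autGroup A := Subgroup.pow_mem _ hα _
  have hm := map_of_mem_autGroup hAS hβ
  have hlt : A < A ⊔ (R ⊓ Subgroup.normalizer (A : Set Ω)) :=
    lt_of_le_not_ge le_sup_left fun h => hRA (le_of_inf_normalizer_le hS hR.1 hRn hAS (le_sup_right.trans h))
  have hNf : A ⊔ (R ⊓ Subgroup.normalizer (A : Set Ω)) ≤ Nf S A (av β) := by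
    refine sup_le (le_Nf hm) fun r hr => ⟨hR.1 hr.1, hr.2, r, hR.1 hr.1, fun x hx => ?_⟩
    have hc := conj_mem_of_normalizer hr.2 hx
    have hq : r * x * r⁻¹ * x⁻¹ ∈ R := by
      simpa [mul_assoc] using R.mul_mem hr.1 (stronglyClosed_conj_mem hR (hAS hx) (R.inv_mem hr.1))
    have hqA : r * x * r⁻¹ * x⁻¹ ∈ A := A.mul_mem hc (A.inv_mem hx)
    have hfix : av β (r * x * r⁻¹ * x⁻¹) = r * x * r⁻¹ * x⁻¹ := by
      refine (inv_mul_eq_one.1 (Subgroup.mem_bot.1 (hRN ▸ (show _ ∈ R ⊓ N from ⟨?_, hk _ hqA⟩)))).symm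
      exact R.mul_mem (R.inv_mem hq) (stronglyClosed_map hR hm hqA hq)
    have hn := sc_commute hR hN hRN hr.1 (hk x hx)
    calc av β (r * x * r⁻¹) = av β (r * x * r⁻¹ * x⁻¹ * x) := by rw [inv_mul_cancel_right]
      _ = r * x * r⁻¹ * x⁻¹ * av β x := by rw [hm.map_mul hqA hx, hfix]
      _ = r * x * r⁻¹ * (x⁻¹ * av β x) := by group
      _ = r * x * r⁻¹ * (r * (x⁻¹ * av β x) * r⁻¹) := by rw [hn]
      _ = r * av β x * r⁻¹ := by group
  obtain ⟨g, hg, hgf⟩ := (receptive_iff.1 (receptive_of_fc hS hF (fc_of_centric hA))).2 A _ hm (im_av β)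
  have hg' := hg.restrict hNf
  have hBS := hg'.le
  haveI := finite_of_le hBS
  have hgA : im A g = A := (im_congr hgf).trans (im_av β)
  have hi : im (A ⊔ (R ⊓ Subgroup.normalizer (A : Set Ω))) g = A ⊔ (R ⊓ Subgroup.normalizer (A : Set Ω)) := by
    refine Subgroup.eq_of_le_of_card_ge (hg'.im_sup_le.trans (sup_le (hgA.le.trans le_sup_left)
      (im_le_iff.2 fun r hr => Subgroup.mem_sup_right ⟨stronglyClosed_map hR hg' (Subgroup.mem_sup_right hr) hr.1, ?_⟩)))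
      hg'.card_im.ge
    have := (hg'.mem_normalizer le_sup_left (Subgroup.mem_sup_right hr) hr.2).2
    rwa [hgA] at this
  obtain ⟨γ, hγ, hγg⟩ := exists_aut hg' hi
  have h1 := card_lt_of_lt hlt hBS
  have h2 : Nat.card ↥(A ⊔ (R ⊓ Subgroup.normalizer (A : Set Ω))) ≤ Nat.card S := Subgroup.card_le_of_le hBS
  obtain ⟨l, hl⟩ := ih _ (by omega) _ rfl (centric_mono hA le_sup_left hBS) γ hγ
  exact pow_of_pow ⟨l, pow_eq_one_of_semiconj id (fun x hx => Subgroup.mem_sup_left hx) (Set.injOn_id _)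
    (fun x hx => by
      show av β x = av γ x
      rw [hγg x (Subgroup.mem_sup_left hx), hgf x hx]) hl⟩

theorem trivial_mod_of_factor {Ω' : Type*} [Group Ω'] {S' : Subgroup Ω'} {θ : S →* Ω'} {E : FusionSystem S'}
    {N : Subgroup Ω} (hS : IsPGroup p S) (hF : F.IsSaturated p) (hN : F.StronglyClosed N)
    (hE : F.IsFactorSystem N θ E) (hEi : IsInner E) {A : Subgroup Ω} (hA : A ≤ S) {α : MulAut A}
    (hα : α ∈ F.autGroup A) : ∃ k, ∀ x ∈ A, x⁻¹ * av (α ^ p ^ k) x ∈ N := by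
  obtain ⟨g, hg, hgf⟩ := quotMap_all hS hF hN A _ (map_of_mem_autGroup hA hα)
  have hpre := fac_pre_up hE hA
  have hg2 : Map F (preimageAlong θ (imageAlong θ A)) g := hpre ▸ hg
  obtain ⟨u, hu, hue⟩ := hEi _ _ (fac_induced hE hN (fac_up_le hE) hg2)
  have hstep : ∀ x ∈ A, ue θ (av α x) = u * ue θ x * u⁻¹ := by
    intro x hx
    have hxA : x ∈ preimageAlong θ (imageAlong θ A) := hpre ▸ Subgroup.mem_sup_left hx
    rw [← hue _ (ue_mem_up hA hx)]
    have h1 : ue θ (g x) = ue θ (av α x) := by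
      have hyS := hA (av_mem α hx)
      have h2 := (fac_ue_eq_one hE (S.mul_mem (S.inv_mem hyS) (hg.mem (Subgroup.mem_sup_left hx)))).2 (hgf x hx)
      rw [ue_mul (S.inv_mem hyS) (hg.mem (Subgroup.mem_sup_left hx)), ue_inv hyS, inv_mul_eq_one] at h2
      exact h2.symm
    rw [← h1]
    refine fac_congr hE hN hg2 (fac_le_pre hE) hxA ?_ (fac_ue_ve hE (fac_ue_mem hE (hA hx))).symm
    exact fac_mem_pre.2 ⟨ve_mem, (fac_ue_ve hE (fac_ue_mem hE (hA hx))).symm ▸ ue_mem_up hA hx⟩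
  obtain ⟨k, hk⟩ := fac_isPGroup hE hS ⟨u, hu⟩
  have hk' : u ^ p ^ k = 1 := congrArg Subtype.val hk
  have hiter : ∀ n : ℕ, ∀ x ∈ A, ue θ (av (α ^ n) x) = u ^ n * ue θ x * (u ^ n)⁻¹ := by
    intro n
    induction n with
    | zero => intro x hx; simp [av_one hx]
    | succ n ih =>
      intro x hx
      rw [pow_succ, av_mul _ _ hx, ih _ (av_mem α hx), hstep x hx, pow_succ]
      group
  refine ⟨k, fun x hx => ?_⟩
  have hyS := hA (av_mem (α ^ p ^ k) hx)
  refine (fac_ue_eq_one hE (S.mul_mem (S.inv_mem (hA hx)) hyS)).1 ?_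
  rw [ue_mul (S.inv_mem (hA hx)) hyS, ue_inv (hA hx), hiter _ x hx, hk', one_mul, inv_one, mul_one,
    inv_mul_cancel]

/-- If `N ≤ Φ(S)` and every automorphism is a `p`-element modulo `N` the system is inner. -/
theorem isInner_of_le_frattini (hS : IsPGroup p S) (hF : F.IsSaturated p) {N : Subgroup Ω}
    (hN : F.StronglyClosed N) (hle : N ≤ (frattini ↥S).map S.subtype)
    (htriv : ∀ A : Subgroup Ω, A ≤ S → ∀ α ∈ F.autGroup A, ∃ k, ∀ x ∈ A, x⁻¹ * av (α ^ p ^ k) x ∈ N) :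
    IsInner F := by
  have hhyp : F.hyperfocalSubgroup p ≤ N := by
    refine (Subgroup.closure_le _).2 ?_
    rintro _ ⟨P, α, x, hP, hres, rfl⟩
    haveI := mulAut_finite_of_le hP
    let K : Subgroup ↥(F.autGroup P) :=
      { carrier := {γ | ∀ y ∈ P, y⁻¹ * av (γ : MulAut P) y ∈ N}
        one_mem' := fun y hy => by
          show y⁻¹ * av (1 : MulAut P) y ∈ N
          rw [av_one hy, inv_mul_cancel]; exact N.one_mem
        mul_mem' := by
          intro a b ha hb y hy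
          show y⁻¹ * av ((a : MulAut P) * (b : MulAut P)) y ∈ N
          rw [av_mul _ _ hy]
          simpa [mul_assoc] using N.mul_mem (hb y hy) (ha _ (av_mem (b : MulAut P) hy))
        inv_mem' := by
          intro a ha y hy
          have h1 := ha _ (av_mem (a : MulAut P)⁻¹ hy)
          rw [av_av_inv _ hy] at h1
          simpa using N.inv_mem h1 }
    have hKle : pResidual p ↥(F.autGroup P) ≤ K := by
      refine (Subgroup.closure_le _).2 fun γ hγ => ?_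
      obtain ⟨k, hk⟩ := htriv P hP _ γ.2
      have hmem : γ ^ p ^ k ∈ K := by simpa [K] using hk
      obtain ⟨c, hc⟩ := exists_pow_eq_self_of_coprime (n := p ^ k) (x := γ) ((Nat.Coprime.pow_left _ hγ.symm))
      rw [← hc]; exact K.pow_mem hmem c
    rw [← av_coe]
    exact hKle hres x x.2
  rw [inner_of_hyperfocal_le_frattini hS hF (hhyp.trans hle)]
  exact isInner_iff_hom.2 fun P => rfl

omit [Fact p.Prime] in
theorem weakEmb_factor [Fact p.Prime] (hS : IsPGroup p S) (hF : F.IsSaturated p) {Ω' : Type*} [Group Ω']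
    {S' : Subgroup Ω'} {θ : S →* Ω'} {E : FusionSystem S'} {N : Subgroup Ω} (hN : F.StronglyClosed N)
    (hE : F.IsFactorSystem N θ E) {n' : ℕ} (hWE : WeakEmb F (Nat.card N * n')) : WeakEmb E n' := by
  intro Q' hQ' hQc
  have hpreS : preimageAlong θ Q' ≤ S := preimage_le Q'
  obtain ⟨P, hP, hsup, hinf⟩ := hWE _ hpreS (by rw [fac_card hE hQ', hQc])
  have hupsc : ∀ {U : Subgroup Ω}, F.StronglyClosed U → E.StronglyClosed (imageAlong θ U) := by
    intro U hU
    refine stronglyClosed_iff.2 ⟨fac_up_le hE, fun A f hA hf a ha => ?_⟩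
    obtain ⟨hA', g, hg, hgf⟩ := fac_lift hE hN hf
    obtain ⟨x, hx, rfl⟩ := fac_exists_pre hE hA' ha
    have hxU : x ∈ U ⊔ N := by
      rw [← fac_pre_up hE hU.1]
      exact fac_mem_pre.2 ⟨(fac_mem_pre.1 hx).1, hA ha⟩
    have h1 : g x ∈ U ⊔ N := stronglyClosed_map (stronglyClosed_sup hS hF hU hN) hg hx hxU
    rw [← hgf x hx]
    rw [← fac_pre_up hE hU.1] at h1
    exact (fac_mem_pre.1 h1).2
  have hNQ : N ≤ preimageAlong θ Q' := fac_le_pre hE
  refine ⟨imageAlong θ P, hupsc hP, ?_, ?_⟩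
  · convert hupsc hsup using 1
    refine le_antisymm (sup_le (fun a ha => ?_) (fun a ha => ?_)) fun a ha => ?_
    · obtain ⟨x, hx, rfl⟩ := fac_exists_pre hE hQ' ha
      exact ue_mem_up (sup_le hpreS hP.1) (Subgroup.mem_sup_left hx)
    · obtain ⟨x, hx, rfl⟩ := (mem_up hP.1).1 ha
      exact ue_mem_up (sup_le hpreS hP.1) (Subgroup.mem_sup_right hx)
    · obtain ⟨x, hx, rfl⟩ := (mem_up (sup_le hpreS hP.1)).1 ha
      obtain ⟨y, hy, z, hz, rfl⟩ := mem_sup_of_normalized (stronglyClosed_le_normalizer hP) hpreS hx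
      rw [ue_mul (hpreS hy) (hP.1 hz)]
      exact Subgroup.mul_mem_sup (fac_mem_pre.1 hy).2 (ue_mem_up hP.1 hz)
  · convert hupsc hinf using 1
    refine le_antisymm (fun a ha => ?_) fun a ha => ?_
    · obtain ⟨x, hx, rfl⟩ := (mem_up hP.1).1 ha.2
      exact ue_mem_up (inf_le_left.trans hpreS) ⟨fac_mem_pre.2 ⟨hP.1 hx, ha.1⟩, hx⟩
    · obtain ⟨x, hx, rfl⟩ := (mem_up (inf_le_left.trans hpreS)).1 ha
      exact ⟨(fac_mem_pre.1 hx.1).2, ue_mem_up hP.1 hx.2⟩

omit [Fact p.Prime] in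
theorem pAtOrder_factor {Ω' : Type*} [Group Ω']
    {S' : Subgroup Ω'} {θ : S →* Ω'} {E : FusionSystem S'} {N : Subgroup Ω} (hN : F.StronglyClosed N)
    (hE : F.IsFactorSystem N θ E) {n' : ℕ} (hP : PAtOrder F p (Nat.card N * n')) : PAtOrder E p n' := by
  intro H' hH' hHc A' hHA hA α hα hi
  haveI := fac_finite hE
  have hA' : A' ≤ S' := hA.trans inf_le_left
  have hm := map_of_mem_autGroup hA' hα
  obtain ⟨-, f, hf, hff⟩ := fac_lift hE hN hm
  have hfi : im (preimageAlong θ A') f = preimageAlong θ A' := by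
    rw [← fac_im hE hN hf hm hff, im_av]
  obtain ⟨γ, hγ, hγf⟩ := exists_aut hf hfi
  have hHAp : preimageAlong θ H' ≤ preimageAlong θ A' := (fac_pre_le_iff hE hH').2 hHA
  have hγH : im (preimageAlong θ H') (av γ) = preimageAlong θ H' := by
    haveI := finite_of_le (preimage_le (i := θ) H')
    have hfH := hf.restrict hHAp
    refine Subgroup.eq_of_le_of_card_ge (im_le_iff.2 fun x hx => ?_) ?_
    · rw [hγf x (hHAp hx)]
      refine fac_mem_pre.2 ⟨hfH.mem hx, ?_⟩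
      rw [hff x (hHAp hx)]
      exact hi.le (mem_im_of_mem (fac_mem_pre.1 hx).2)
    · rw [im_congr fun x hx => hγf x (hHAp hx), hfH.card_im]
  have hnorm : preimageAlong θ A' ≤ normalizerIn S (preimageAlong θ H') := fun x hx => by
    obtain ⟨hxS, hxA⟩ := fac_mem_pre.1 hx
    exact ⟨hxS, (fac_mem_normalizer hE hH' hxS).1 (hA hxA).2⟩
  obtain ⟨k, hk⟩ := hP _ (preimage_le H') (by rw [fac_card hE hH', hHc]) _ hHAp hnorm γ hγ hγH
  refine ⟨k, aut_ext fun a ha => ?_⟩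
  obtain ⟨x, hx, rfl⟩ := fac_exists_pre hE hA' ha
  have h1 := semiconj_pow (α := γ) (β := α) (ue θ) (fun y hy => (fac_mem_pre.1 hy).2)
    (fun y hy => by rw [hγf y hy]; exact hff y hy) (p ^ k) x hx
  rw [hk, av_one hx] at h1
  rw [av_one ha, ← h1]

theorem exists_center_elt (hS : IsPGroup p S) {R : Subgroup Ω} (hR : R ≤ S)
    (hn : S ≤ Subgroup.normalizer (R : Set Ω)) (hne : R ≠ ⊥) :
    ∃ x ∈ R, orderOf x = p ∧ ∀ s ∈ S, s * x = x * s := by
  haveI := Subgroup.normal_subgroupOf_iff_le_normalizer hR |>.2 hn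
  obtain ⟨z, hzR, hzc, hz1⟩ := Cfsg.Agent.Lead.SupCore.inf_center_ne_bot' hS (R.subgroupOf S) (by
    intro h
    refine hne (le_bot_iff.1 fun x hx => ?_)
    have : (⟨x, hR hx⟩ : S) ∈ R.subgroupOf S := hx
    rw [h, Subgroup.mem_bot] at this
    exact Subgroup.mem_bot.2 (congrArg Subtype.val this))
  obtain ⟨m, hm⟩ := hS z
  obtain ⟨e, -, he⟩ := (Nat.dvd_prime_pow Fact.out).1 (orderOf_dvd_of_pow_eq_one hm)
  have he0 : e ≠ 0 := fun h => hz1 (orderOf_eq_one_iff.1 (by rw [he, h, pow_zero]))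
  refine ⟨((z ^ p ^ (e - 1) : S) : Ω), (R.subgroupOf S).pow_mem hzR _, ?_, fun s hs => ?_⟩
  · rw [Subgroup.orderOf_coe, orderOf_pow' _ (pow_ne_zero _ (Nat.Prime.ne_zero Fact.out)), he,
      Nat.gcd_eq_right (pow_dvd_pow p (Nat.sub_le e 1)), Nat.pow_div (Nat.sub_le e 1) (Nat.Prime.pos Fact.out),
      Nat.sub_sub_self (Nat.one_le_iff_ne_zero.2 he0), pow_one]
  · exact congrArg Subtype.val (Subgroup.mem_center_iff.1 (Subgroup.pow_mem _ hzc _) ⟨s, hs⟩)

/-- The case of no small strongly closed subgroup. -/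
theorem exists_abelian_of_no_small (hS : IsPGroup p S) (hF : F.IsSaturated p) {k : ℕ}
    (hWE : WeakEmb F (p ^ k)) (hk : p ^ k < Nat.card S)
    (hbig : ∀ N, F.StronglyClosed N → N ≠ ⊥ → p ^ k ≤ Nat.card N) :
    ∃ R, F.StronglyClosed R ∧ Nat.card R = p ^ k ∧ ∀ a ∈ R, ∀ b ∈ R, a * b = b * a := by
  have hp := (Fact.out : p.Prime)
  have hScl : F.StronglyClosed S :=
    stronglyClosed_iff.2 ⟨le_rfl, fun _ _ _ hf x hx => hf.mem hx⟩
  have hk1 : ∀ {U : Subgroup Ω}, F.StronglyClosed U → Nat.card U = p ^ k → ∀ W, F.StronglyClosed W → W ≤ U →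
      W = ⊥ ∨ W = U := by
    intro U hU hUc W hW hWU
    refine (eq_or_ne W ⊥).imp_right fun h => ?_
    haveI := finite_of_le hU.1
    exact Subgroup.eq_of_le_of_card_ge hWU (hUc ▸ hbig W hW h)
  obtain ⟨R, hR, -, -, hRc⟩ := exists_sc_card hS hF hWE stronglyClosed_bot hScl bot_le
    (by rw [Subgroup.card_bot]; exact Nat.one_le_pow _ _ hp.pos) hk.le
  by_contra hcon
  simp only [not_exists, not_and] at hcon
  have hnab : ∀ U, F.StronglyClosed U → Nat.card U = p ^ k → ¬ (∀ a ∈ U, ∀ b ∈ U, a * b = b * a) :=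
    fun U hU hUc => hcon U hU hUc
  have hk3 : p ^ 2 ≤ p ^ k := by
    refine Nat.pow_le_pow_right hp.pos (le_of_not_gt fun h => hnab R hR hRc ?_)
    haveI := finite_of_le hR.1
    have hcyc : IsCyclic R := by
      obtain rfl | rfl : k = 0 ∨ k = 1 := by omega
      · haveI : Subsingleton R := (Nat.card_eq_one_iff_unique.1 (by rw [hRc, pow_zero])).1
        exact isCyclic_of_subsingleton
      · exact isCyclic_of_prime_card (by rw [hRc, pow_one])
    intro a ha b hb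
    letI := hcyc.commGroup
    exact congrArg Subtype.val (mul_comm (⟨a, ha⟩ : R) ⟨b, hb⟩)
  have hp2 : p ≤ p ^ k := le_trans (by nlinarith [hp.two_le]) hk3
  have hRne : R ≠ ⊥ := fun h => by
    rw [h, Subgroup.card_bot] at hRc
    nlinarith [hp.two_le]
  obtain ⟨x, hxR, hxo, hxc⟩ := exists_center_elt hS hR.1 (stronglyClosed_le_normalizer hR) hRne
  have hx1 : x ≠ 1 := fun h => hp.ne_one (by rw [← hxo, h, orderOf_one])
  have hxS := hR.1 hxR
  -- a subgroup of the same order through `x` other than `R`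
  obtain ⟨Q, hQS, hQc, hxQ, hQR⟩ : ∃ Q, Q ≤ S ∧ Nat.card Q = p ^ k ∧ x ∈ Q ∧ Q ≠ R := by
    by_contra hno
    simp only [not_exists, not_and, not_not] at hno
    obtain ⟨m, hm⟩ := hS.exists_card_eq
    have hkm : k < m := (Nat.pow_lt_pow_iff_right hp.one_lt).1 (hm ▸ hk)
    obtain ⟨K, hRK, hKS, hKc⟩ := exists_subgroup_between hS hR.1 le_rfl (k := k + 1)
      (hRc ▸ Nat.pow_le_pow_right hp.pos (Nat.le_succ k)) (hm ▸ Nat.pow_le_pow_right hp.pos hkm)
    haveI := finite_of_le hKS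
    have hRlt : R < K := lt_of_le_of_ne hRK fun h => by
      rw [h, hKc] at hRc
      exact absurd (Nat.pow_right_injective hp.two_le hRc) (Nat.succ_ne_self k)
    obtain ⟨y, hyK, hyR⟩ := SetLike.exists_of_lt hRlt
    set U := Subgroup.closure ({x, y} : Set Ω) with hU
    have hUK : U ≤ K := (Subgroup.closure_le _).2 (by
      rintro z (rfl | rfl)
      · exact hRK hxR
      · exact hyK)
    have hUeq : U = K := by
      refine Subgroup.eq_of_le_of_card_ge hUK ?_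
      by_contra hlt
      haveI := finite_of_le (hUK.trans hKS)
      obtain ⟨j, hj⟩ := (hS.to_le (hUK.trans hKS)).exists_card_eq
      have hjk : j ≤ k := by
        have : p ^ j < p ^ (k + 1) := by rw [← hj, ← hKc]; omega
        exact Nat.lt_succ_iff.1 ((Nat.pow_lt_pow_iff_right hp.one_lt).1 this)
      obtain ⟨Q, hUQ, hQK, hQc⟩ := exists_subgroup_between hS hUK hKS (k := k)
        (hj ▸ Nat.pow_le_pow_right hp.pos hjk) (hKc ▸ Nat.pow_le_pow_right hp.pos (Nat.le_succ k))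
      have := hno Q (hQK.trans hKS) hQc (hUQ (Subgroup.subset_closure (Set.mem_insert _ _)))
      exact hyR (this ▸ hUQ (Subgroup.subset_closure (Set.mem_insert_of_mem _ rfl)))
    refine hnab R hR hRc fun a ha b hb => ?_
    haveI : IsMulCommutative ↥U := Subgroup.isMulCommutative_closure (by
      rintro c (rfl | rfl) d (rfl | rfl)
      · rfl
      · exact (hxc _ (hKS hyK)).symm
      · exact hxc _ (hKS hyK)
      · rfl)
    exact congrArg Subtype.val (IsMulCommutative.is_comm.comm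
      (⟨a, hUeq.ge (hRK ha)⟩ : U) ⟨b, hUeq.ge (hRK hb)⟩)
  obtain ⟨P, hP, hQP, hQiP⟩ := hWE Q hQS hQc
  haveI := finite_of_le hQS
  have hQnsc : ¬ F.StronglyClosed Q := fun h => by
    rcases hk1 hR hRc _ (sc_inf h hR) inf_le_right with h' | h'
    · exact hx1 (Subgroup.mem_bot.1 (h' ▸ (show x ∈ Q ⊓ R from ⟨hxQ, hxR⟩)))
    · exact hQR (Subgroup.eq_of_le_of_card_ge (h'.ge.trans inf_le_left) (by rw [hQc, hRc])).symm
  have hQiP0 : Q ⊓ P = ⊥ := by
    by_contra h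
    exact hQnsc (Subgroup.eq_of_le_of_card_ge inf_le_left (hQc ▸ hbig _ hQiP h) ▸ hQiP)
  have hPne : P ≠ ⊥ := fun h => hQnsc (by rw [h, sup_bot_eq] at hQP; exact hQP)
  obtain ⟨R', hR', -, hR'P, hR'c⟩ := exists_sc_card hS hF hWE stronglyClosed_bot hP bot_le
    (by rw [Subgroup.card_bot]; exact Nat.one_le_pow _ _ hp.pos) (hbig P hP hPne)
  have hRR' : R ⊓ R' = ⊥ := by
    rcases hk1 hR hRc _ (sc_inf hR hR') inf_le_left with h | h
    · exact h
    · exact absurd (Subgroup.mem_bot.1 (hQiP0 ▸ (show x ∈ Q ⊓ P from ⟨hxQ, hR'P (h.ge hxR).2⟩))) hx1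
  have hR'ne : R' ≠ ⊥ := fun h => by
    rw [h, Subgroup.card_bot] at hR'c
    nlinarith [hp.two_le]
  obtain ⟨y, hyR', hyo, hyc⟩ := exists_center_elt hS hR'.1 (stronglyClosed_le_normalizer hR') hR'ne
  have hy1 : y ≠ 1 := fun h => hp.ne_one (by rw [← hyo, h, orderOf_one])
  set W := R ⊔ R' with hW
  have hWsc : F.StronglyClosed W := stronglyClosed_sup hS hF hR hR'
  haveI := finite_of_le hWsc.1
  set V := Subgroup.zpowers x ⊔ Subgroup.zpowers y with hV
  have hVW : V ≤ W := sup_le_sup (Subgroup.zpowers_le.2 hxR) (Subgroup.zpowers_le.2 hyR')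
  have hVc : Nat.card V ≤ p ^ 2 := by
    have hn : Subgroup.zpowers x ≤ Subgroup.normalizer (Subgroup.zpowers y : Set Ω) := by
      refine le_trans ?_ (Subgroup.centralizer_le_normalizer _)
      rw [Subgroup.zpowers_le, Subgroup.mem_centralizer_iff]
      intro z hz
      obtain ⟨i, rfl⟩ := Subgroup.mem_zpowers_iff.1 hz
      exact ((show Commute x y from hyc x hxS).zpow_right i).eq.symm
    show Nat.card ((V : Subgroup Ω) : Set Ω) ≤ _
    rw [hV, Subgroup.coe_mul_of_left_le_normalizer_right _ _ hn]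
    refine Set.natCard_mul_le.trans ?_
    rw [SetLike.coe_sort_coe, SetLike.coe_sort_coe, Nat.card_zpowers, Nat.card_zpowers, hxo, hyo, sq]
  have hWlarge : p ^ k < Nat.card W := by
    refine hRc ▸ card_lt_of_lt (lt_of_le_of_ne le_sup_left fun h => hy1 ?_) hWsc.1
    exact Subgroup.mem_bot.1 (hRR' ▸ (show y ∈ R ⊓ R' from ⟨h.ge (Subgroup.mem_sup_right hyR'), hyR'⟩))
  obtain ⟨Q₂, hVQ, hQW, hQ₂c⟩ := exists_subgroup_between hS hVW hWsc.1 (hVc.trans hk3) hWlarge.le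
  have hxQ₂ : x ∈ Q₂ := hVQ (Subgroup.mem_sup_left (Subgroup.mem_zpowers x))
  have hyQ₂ : y ∈ Q₂ := hVQ (Subgroup.mem_sup_right (Subgroup.mem_zpowers y))
  have hQ₂S := hQW.trans hWsc.1
  haveI := finite_of_le hQ₂S
  obtain ⟨P₂, hP₂, hQP₂, hQiP₂⟩ := hWE Q₂ hQ₂S hQ₂c
  have hQ₂nsc : ¬ F.StronglyClosed Q₂ := fun h => by
    rcases hk1 hR hRc _ (sc_inf h hR) inf_le_right with h' | h'
    · exact hx1 (Subgroup.mem_bot.1 (h' ▸ (show x ∈ Q₂ ⊓ R from ⟨hxQ₂, hxR⟩)))
    · have heq := Subgroup.eq_of_le_of_card_ge (h'.ge.trans inf_le_left) (by rw [hQ₂c, hRc])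
      exact hy1 (Subgroup.mem_bot.1 (hRR' ▸ (show y ∈ R ⊓ R' from ⟨heq.ge hyQ₂, hyR'⟩)))
  have hQiP₂0 : Q₂ ⊓ P₂ = ⊥ := by
    by_contra h
    exact hQ₂nsc (Subgroup.eq_of_le_of_card_ge inf_le_left (hQ₂c ▸ hbig _ hQiP₂ h) ▸ hQiP₂)
  have hWle : W ≤ Q₂ ⊔ P₂ := by
    refine sup_le ?_ ?_
    · refine ((hk1 hR hRc _ (sc_inf hQP₂ hR) inf_le_right).resolve_left fun h => hx1 ?_).ge.trans inf_le_left
      exact Subgroup.mem_bot.1 (h ▸ (show x ∈ (Q₂ ⊔ P₂) ⊓ R from ⟨Subgroup.mem_sup_left hxQ₂, hxR⟩))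
    · refine ((hk1 hR' hR'c _ (sc_inf hQP₂ hR') inf_le_right).resolve_left fun h => hy1 ?_).ge.trans inf_le_left
      exact Subgroup.mem_bot.1 (h ▸ (show y ∈ (Q₂ ⊔ P₂) ⊓ R' from ⟨Subgroup.mem_sup_left hyQ₂, hyR'⟩))
  have hP₃ := sc_inf hP₂ hWsc
  have hP₃ne : P₂ ⊓ W ≠ ⊥ := fun h => by
    refine absurd (Subgroup.card_le_of_le (show W ≤ Q₂ from fun w hw => ?_)) (not_le.2 (hQ₂c ▸ hWlarge))
    obtain ⟨a, ha, b, hb, rfl⟩ := mem_sup_of_normalized (stronglyClosed_le_normalizer hP₂) hQ₂S (hWle hw)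
    have hbW : b ∈ W := by simpa using W.mul_mem (W.inv_mem (hQW ha)) hw
    have hb1 : b = 1 := Subgroup.mem_bot.1 (h ▸ (show b ∈ P₂ ⊓ W from ⟨hb, hbW⟩))
    rw [hb1, mul_one]
    exact ha
  have hdR : P₂ ⊓ W ⊓ R = ⊥ := by
    rcases hk1 hR hRc _ (sc_inf hP₃ hR) inf_le_right with h | h
    · exact h
    · exact absurd (Subgroup.mem_bot.1 (hQiP₂0 ▸ (show x ∈ Q₂ ⊓ P₂ from ⟨hxQ₂, (h.ge hxR).1.1⟩))) hx1
  have hdR' : P₂ ⊓ W ⊓ R' = ⊥ := by
    rcases hk1 hR' hR'c _ (sc_inf hP₃ hR') inf_le_right with h | h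
    · exact h
    · exact absurd (Subgroup.mem_bot.1 (hQiP₂0 ▸ (show y ∈ Q₂ ⊓ P₂ from ⟨hyQ₂, (h.ge hyR').1.1⟩))) hy1
  -- the projection to the centre of `R'`
  let Z' : Subgroup Ω := R' ⊓ Subgroup.centralizer (R' : Set Ω)
  have hproj : ∀ w : ↥(P₂ ⊓ W), ∃ z : Z', (w : Ω) * (z : Ω)⁻¹ ∈ R := by
    intro w
    obtain ⟨r, hr, r', hr', he⟩ :=
      mem_sup_of_normalized (stronglyClosed_le_normalizer hR') hR.1 (show (w : Ω) ∈ R ⊔ R' from w.2.2)
    refine ⟨⟨r', hr', Subgroup.mem_centralizer_iff.2 fun a ha => ?_⟩, ?_⟩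
    · have h1 := sc_commute hP₃ hR' hdR' w.2 ha
      rw [← he] at h1
      have h2 : r' * a * r'⁻¹ ∈ R' := R'.mul_mem (R'.mul_mem hr' ha) (R'.inv_mem hr')
      have h3 := sc_commute hR hR' hRR' hr h2
      have h4 : r' * a * r'⁻¹ = a := by
        calc r' * a * r'⁻¹ = r * (r' * a * r'⁻¹) * r⁻¹ := h3.symm
          _ = r * r' * a * (r * r')⁻¹ := by group
          _ = a := h1
      exact (mul_inv_eq_iff_eq_mul.1 h4).symm
    · show (w : Ω) * r'⁻¹ ∈ R
      rw [← he, mul_inv_cancel_right]; exact hr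
  choose π hπ using hproj
  have hinj : Function.Injective π := fun w w' h => by
    have h1 : (w : Ω) * (w' : Ω)⁻¹ ∈ R := by
      have := R.mul_mem (hπ w) (R.inv_mem (hπ w'))
      rw [h] at this
      simpa [mul_assoc] using this
    exact Subtype.ext (mul_inv_eq_one.1 (Subgroup.mem_bot.1 (hdR ▸
      (show (w : Ω) * (w' : Ω)⁻¹ ∈ P₂ ⊓ W ⊓ R from ⟨(P₂ ⊓ W).mul_mem w.2 ((P₂ ⊓ W).inv_mem w'.2), h1⟩))))
  haveI := finite_of_le hR'.1
  haveI : Finite Z' := finite_of_le (inf_le_left.trans hR'.1)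
  have hZ' : Z' = R' := Subgroup.eq_of_le_of_card_ge inf_le_left
    (hR'c ▸ (hbig _ hP₃ hP₃ne).trans (Nat.card_le_card_of_injective π hinj))
  exact hnab R' hR' hR'c fun a ha b hb => Subgroup.mem_centralizer_iff.1 (hZ'.ge hb).2 a ha

/-- Weakly embedded subgroups of one order with inner normalizers force the system to be inner. -/
theorem isInner_of_weakEmb (hS : IsPGroup p S) (hF : F.IsSaturated p) {k : ℕ} (hk0 : 0 < k)
    (hkS : p ^ k < Nat.card S) (hWE : WeakEmb F (p ^ k)) (hPA : PAtOrder F p (p ^ k)) : IsInner F := by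
  suffices ∀ j, ∀ (Ω : Type u) [Group Ω] (S : Subgroup Ω) [Finite S] (F : FusionSystem S) (k : ℕ),
      Nat.card S = j → IsPGroup p S → F.IsSaturated p → 0 < k → p ^ k < Nat.card S → WeakEmb F (p ^ k) →
      PAtOrder F p (p ^ k) → IsInner F from this _ Ω S F k rfl hS hF hk0 hkS hWE hPA
  intro j
  induction j using Nat.strong_induction_on with
  | _ j ih =>
  intro Ω _ S _ F k hj hS hF hk0 hkS hWE hPA
  have hp := (Fact.out : p.Prime)
  by_cases hbig : ∀ N, F.StronglyClosed N → N ≠ ⊥ → p ^ k ≤ Nat.card N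
  · obtain ⟨R, hR, hRc, hab⟩ := exists_abelian_of_no_small hS hF hWE hkS hbig
    exact isInner_of_normal_pAt hS hF (normal_of_abelian_stronglyClosed hS hF hR hab) (hPA R hR.1 hRc)
  -- every small strongly closed subgroup gives an inner factor system
  have hmod : ∀ N, F.StronglyClosed N → N ≠ ⊥ → Nat.card N < p ^ k →
      ∀ A : Subgroup Ω, A ≤ S → ∀ α ∈ F.autGroup A, ∃ i, ∀ x ∈ A, x⁻¹ * av (α ^ p ^ i) x ∈ N := by
    intro N hN hN1 hNlt A hA α hα
    haveI := finite_of_le hN.1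
    haveI hnor : (N.subgroupOf S).Normal := by
      rw [Subgroup.normal_subgroupOf_iff_le_normalizer hN.1]
      exact stronglyClosed_le_normalizer hN
    have hker : ∀ s : S, QuotientGroup.mk' (N.subgroupOf S) s = 1 ↔ (s : Ω) ∈ N := fun s =>
      (QuotientGroup.eq_one_iff s).trans Subgroup.mem_subgroupOf
    have hsurj := QuotientGroup.mk'_surjective (N.subgroupOf S)
    have hE : F.IsFactorSystem N (QuotientGroup.mk' (N.subgroupOf S)) (factorSys hN _ hker hsurj) :=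
      ⟨hN.1, hker, MonoidHom.range_eq_top.2 hsurj, fun P' φ' => fmap_iff.trans (and_iff_right le_top).symm⟩
    haveI := fac_finite hE
    obtain ⟨a, ha⟩ := (hS.to_le hN.1).exists_card_eq
    have hak : a < k := (Nat.pow_lt_pow_iff_right hp.one_lt).1 (ha ▸ hNlt)
    have hsplit : p ^ k = Nat.card N * p ^ (k - a) := by rw [ha, ← pow_add, Nat.add_sub_cancel' hak.le]
    have hcS := fac_card hE (le_refl (⊤ : Subgroup (S ⧸ N.subgroupOf S)))
    rw [fac_pre_top hE] at hcS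
    have hN2 : 1 < Nat.card N := (Subgroup.one_lt_card_iff_ne_bot N).2 hN1
    refine trivial_mod_of_factor hS hF hN hE (ih _ ?_ (S ⧸ N.subgroupOf S) _ _ (k - a) rfl
      (fac_isPGroup hE hS) (fac_saturated hS hF hN hE) (Nat.sub_pos_of_lt hak) ?_
      (weakEmb_factor hS hF hN hE (hsplit ▸ hWE)) (pAtOrder_factor hN hE (hsplit ▸ hPA))) hA hα
    · rw [← hj, hcS]; exact lt_mul_of_one_lt_left Nat.card_pos hN2
    · rw [hsplit, hcS] at hkS
      exact lt_of_mul_lt_mul_left' hkS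
  simp only [not_forall, not_le] at hbig
  obtain ⟨N₀, hN₀, hN₀1, hN₀lt⟩ := hbig
  obtain ⟨N, hN, hNN, hN1, hNmin⟩ := sc_exists_minimal hN₀ hN₀1
  haveI := finite_of_le hN₀.1
  have hNlt : Nat.card N < p ^ k := lt_of_le_of_lt (Subgroup.card_le_of_le hNN) hN₀lt
  have htriv := hmod N hN hN1 hNlt
  haveI := finite_of_le hN.1
  by_cases hother : ∃ M, F.StronglyClosed M ∧ M ≠ ⊥ ∧ Nat.card M < p ^ k ∧ M ⊓ N = ⊥
  · obtain ⟨M, hM, hM1, hMlt, hMN⟩ := hother
    refine isInner_of_all hS hF fun A hA α hα => ?_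
    obtain ⟨i, hi⟩ := htriv A hA.1 α hα
    obtain ⟨l, hl⟩ := hmod M hM hM1 hMlt A hA.1 _ (Subgroup.pow_mem _ hα (p ^ i))
    refine pow_of_pow (k := i) ⟨l, (aut_ext fun x hx => ?_ : (α ^ p ^ i) ^ p ^ l = 1)⟩
    rw [av_one hx]
    refine (inv_mul_eq_one.1 (Subgroup.mem_bot.1 (hMN ▸
      (show _ ∈ M ⊓ N from ⟨hl x hx, ?_⟩)))).symm
    have hpow : ∀ n : ℕ, x⁻¹ * av ((α ^ p ^ i) ^ n) x ∈ N := by
      intro n
      induction n with
      | zero => rw [pow_zero, av_one hx, inv_mul_cancel]; exact N.one_mem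
      | succ n ihn =>
        rw [pow_succ', av_mul _ _ hx]
        simpa [mul_assoc] using N.mul_mem ihn (hi _ (av_mem ((α ^ p ^ i) ^ n) hx))
    exact hpow _
  have hScl : F.StronglyClosed S := stronglyClosed_iff.2 ⟨le_rfl, fun _ _ _ hf x hx => hf.mem hx⟩
  by_cases hNp : Nat.card N = p
  · have hab : ∀ a ∈ N, ∀ b ∈ N, a * b = b * a := by
      haveI := isCyclic_of_prime_card hNp
      intro a ha b hb
      letI := (inferInstance : IsCyclic N).commGroup
      exact congrArg Subtype.val (mul_comm (⟨a, ha⟩ : N) ⟨b, hb⟩)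
    have hNn := normal_of_abelian_stronglyClosed hS hF hN hab
    obtain ⟨x, hxN, hxo, hxc⟩ := exists_center_elt hS hN.1 (stronglyClosed_le_normalizer hN) hN1
    have hNx : Subgroup.zpowers x = N := Subgroup.eq_of_le_of_card_ge (Subgroup.zpowers_le.2 hxN)
      (by rw [Nat.card_zpowers, hxo, hNp])
    have hcentral : ∀ z ∈ N, ∀ s ∈ S, s * z = z * s := fun z hz s hs => by
      obtain ⟨i, rfl⟩ := Subgroup.mem_zpowers_iff.1 (hNx.ge hz)
      exact (show Commute s x from hxc s hs).zpow_right i |>.eq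
    obtain ⟨R, hR, hNR, -, hRc⟩ := exists_sc_card hS hF hWE hN hScl hN.1 hNlt.le hkS.le
    have hfix : ∀ β ∈ F.autGroup N, β = 1 := by
      intro β hβ
      have hm := map_of_mem_autGroup hN.1 hβ
      have hfn : F.IsFullyNormalized N :=
        ⟨hN.1, fun Q hQ => by rw [eq_of_isConj_stronglyClosed hN hQ]⟩
      obtain ⟨g, hg, hgf⟩ :=
        (receptive_iff.1 (receptive_of_fc hS hF (fc_fa_of_fn hS hF hfn).1)).2 N _ hm (im_av β)
      have hSN : S ≤ Nf S N (av β) := le_trans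
        (fun s hs => mem_centralizerIn.2 ⟨hs, fun z hz => (hcentral z hz s hs).symm⟩) centralizerIn_le_Nf
      have hgS := hg.restrict hSN
      obtain ⟨γ, hγ, hγg⟩ := exists_aut hgS (Subgroup.eq_of_le_of_card_ge hgS.im_le hgS.card_im.ge)
      obtain ⟨i, hi⟩ := hPA R hR.1 hRc S hR.1 (le_inf le_rfl (stronglyClosed_le_normalizer hR)) γ hγ
        (im_eq_self_of_sc hR (map_of_mem_autGroup le_rfl hγ) hR.1)
      have hβpow : β ^ p ^ i = 1 := pow_eq_one_of_semiconj id (fun z hz => hN.1 hz) (Set.injOn_id _)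
        (fun z hz => by
          show av β z = av γ z
          rw [hγg z (hN.1 hz), hgf z hz]) hi
      haveI := finite_mulAut (P := N)
      have hd := orderOf_dvd_of_pow_eq_one hβpow
      obtain ⟨e, -, he⟩ := (Nat.dvd_prime_pow hp).1 hd
      have hlt : orderOf β ≤ Nat.card (MulAut N) := orderOf_le_card
      haveI := isCyclic_of_prime_card hNp
      rw [IsCyclic.card_mulAut, hNp, Nat.totient_prime hp, he] at hlt
      refine orderOf_eq_one_iff.1 (he.trans ?_)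
      rcases Nat.eq_zero_or_pos e with rfl | h0
      · simp
      · have := Nat.le_self_pow h0.ne' p
        have := hp.pos
        omega
    refine isInner_of_all hS hF fun A hA α hα => ?_
    obtain ⟨i, hi⟩ := htriv A hA.1 α hα
    have hNA : N ≤ A := fun z hz =>
      centric_inv_mem hA (hN.1 hz) fun a ha => hcentral z hz a (hA.1 ha)
    haveI := finite_of_le hA.1
    have hm := map_of_mem_autGroup hA.1 hα
    obtain ⟨β, hβ, hβα⟩ := exists_aut (hm.restrict hNA) (im_eq_self_of_sc hN hm hNA)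
    have hfixN : ∀ z ∈ N, av α z = z := fun z hz => by rw [← hβα z hz, hfix β hβ, av_one hz]
    obtain ⟨l, hl⟩ := exists_pow_eq_one_of_stabilizes (hS.to_le hA.1) (α := α ^ p ^ i)
      (fun t => if t = 0 then ⊥ else if t = 1 then N else ⊤) 2 (if_pos rfl) (by simp) (by
        refine monotone_nat_of_le_succ fun t => ?_
        match t with
        | 0 => simp
        | 1 => simp
        | (t + 2) => simp)
      (by
        intro t ht z hz hzC
        match t, ht with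
        | 0, _ =>
          simp at hzC ⊢
          have : ∀ n : ℕ, av (α ^ n) z = z := fun n => by
            induction n with
            | zero => simp [av_one hz]
            | succ n ihn => rw [pow_succ, av_mul _ _ hz, hfixN z hzC, ihn]
          rw [this, inv_mul_cancel]
        | 1, _ => simpa using hi z hz)
    exact pow_of_pow ⟨l, hl⟩
  by_cases hQ : ∃ Q, Q ≤ S ∧ Nat.card Q = p ^ k ∧ Q ⊓ N ≠ ⊥ ∧ ¬ N ≤ Q
  · obtain ⟨Q, hQS, hQc, hQN, hNQ⟩ := hQ
    obtain ⟨P, hP, hQP, hQiP⟩ := hWE Q hQS hQc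
    have hPN : P ⊓ N = ⊥ := by
      by_contra h
      have hNP : N ≤ P := (hNmin _ (sc_inf hP hN) inf_le_right h).ge.trans inf_le_left
      refine hNQ ((hNmin _ (sc_inf hQiP hN) inf_le_right ?_).ge.trans (inf_le_left.trans inf_le_left))
      rwa [inf_assoc, inf_eq_right.2 hNP]
    have hPne : P ≠ ⊥ := fun h => hNQ (by
      rw [h, sup_bot_eq] at hQP
      exact (hNmin _ (sc_inf hQP hN) inf_le_right hQN).ge.trans inf_le_left)
    have hPc : p ^ k ≤ Nat.card P := le_of_not_gt fun h => hother ⟨P, hP, hPne, h, hPN⟩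
    obtain ⟨R, hR, -, hRP, hRc⟩ := exists_sc_card hS hF hWE stronglyClosed_bot hP bot_le
      (by rw [Subgroup.card_bot]; exact Nat.one_le_pow _ _ hp.pos) hPc
    exact isInner_of_complement hS hF hR hN (le_bot_iff.1 (hPN ▸ inf_le_inf_right N hRP))
      (hPA R hR.1 hRc) htriv
  simp only [not_exists, not_and, not_not] at hQ
  refine isInner_of_le_frattini hS hF hN ?_ htriv
  have hNS := hN.1
  intro y hy
  refine ⟨⟨y, hNS hy⟩, ?_, rfl⟩
  rw [SetLike.mem_coe, frattini, Order.radical, Subgroup.mem_iInf]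
  intro M
  simp only [Subgroup.mem_iInf]
  intro hM
  have hidx : M.index = p := Cfsg.Agent.Solv.coatom_index hS hM
  have hMc : p * Nat.card M = Nat.card S := by rw [← hidx, M.index_mul_card]
  obtain ⟨m, hm⟩ := hS.exists_card_eq
  have hkm : k < m := (Nat.pow_lt_pow_iff_right hp.one_lt).1 (hm ▸ hkS)
  have hMge : p ^ k ≤ Nat.card M := by
    refine Nat.le_of_mul_le_mul_left (c := p) ?_ hp.pos
    rw [hMc, hm, ← pow_succ']
    exact Nat.pow_le_pow_right hp.pos hkm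
  set M' := M.map S.subtype with hM'
  have hM'c : Nat.card M' = Nat.card M := Subgroup.card_map_of_injective S.subtype_injective
  have hNM : M' ⊓ N ≠ ⊥ := by
    intro h
    let e : N → S ⧸ M := fun z => QuotientGroup.mk ⟨z, hNS z.2⟩
    have he : Function.Injective e := fun z w hzw => by
      have h1 := QuotientGroup.eq.1 hzw
      have h2 : (z : Ω)⁻¹ * w ∈ M' ⊓ N := ⟨⟨_, h1, rfl⟩, N.mul_mem (N.inv_mem z.2) w.2⟩
      rw [h, Subgroup.mem_bot, inv_mul_eq_one] at h2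
      exact Subtype.ext h2
    have h1 := Nat.card_le_card_of_injective e he
    rw [← Subgroup.index_eq_card, hidx] at h1
    obtain ⟨a, ha⟩ := (hS.to_le hNS).exists_card_eq
    rw [ha] at h1 hNp
    have ha0 : 0 < a := Nat.pos_of_ne_zero fun h0 => by
      rw [h0, pow_zero] at ha
      exact hN1 (Subgroup.eq_bot_of_card_eq N ha)
    have h3 := Nat.le_self_pow ha0.ne' p
    exact hNp (le_antisymm h1 h3)
  haveI := finite_of_le (show M' ≤ S from Subgroup.map_subtype_le M)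
  obtain ⟨Q, hAQ, hQM, hQc⟩ := exists_subgroup_between hS (inf_le_left : M' ⊓ N ≤ M')
    (Subgroup.map_subtype_le M) ((Subgroup.card_le_of_le inf_le_right).trans hNlt.le) (hM'c ▸ hMge)
  have hQS : Q ≤ S := hQM.trans (Subgroup.map_subtype_le M)
  have hQN : Q ⊓ N ≠ ⊥ := fun h => hNM (le_bot_iff.1 (h ▸ le_inf hAQ inf_le_right))
  obtain ⟨z, hz, hze⟩ := hQM (hQ Q hQS hQc hQN hy)
  exact (show z = ⟨y, hNS hy⟩ from Subtype.ext hze) ▸ hz

end Cfsg.Agent.Local.FS
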