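import Cfsg.Agent.Lib.Local.FS.TransferControl
import Cfsg.Agent.Lib.Local.FS.TateCor
import Cfsg.Agent.Lib.Fusion.WreathQuotient
import Cfsg.Agent.S5092
import Cfsg.Agent.Lib.Solv.PGroupPhi

/-!
Yoshida's transfer theorem for saturated fusion systems.
-/

set_option autoImplicit false

namespace Cfsg.Agent.Local.FS

open Cfsg Cfsg.FusionSystem Cfsg.Agent.Fusion
open scoped commutatorElement

universe u v

/-- Every homomorphism on a subgroup of index `p` to a group of order `p` has trivial norm. -/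
def NormTrivial (p : ℕ) (G : Type*) [Group G] : Prop :=
  ∀ (M : Subgroup G) (hM : M.Normal) (u : G) (μ : M →* Multiplicative (ZMod p)), M.index = p →
    ∀ m : M, ∏ i ∈ Finset.range p, μ ⟨u ^ i * m * (u ^ i)⁻¹, hM.conj_mem _ m.2 _⟩ = 1

section Action

variable {G : Type u} [Group G] [Finite G] {p : ℕ} [Fact p.Prime] {Q : Type v} [MulAction G Q]

theorem prod_iterate_cocycle {A : Type*} [CommGroup A] {c : G → Q → A}
    (hc : ∀ a b q, c (a * b) q = c a (b • q) * c b q) (z : G) (q : Q) (n : ℕ) :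
    ∏ i ∈ Finset.range n, c z (z ^ i • q) = c (z ^ n) q := by
  induction n with
  | zero =>
    have h := hc 1 1 q
    rw [one_mul, one_smul] at h
    rw [Finset.prod_range_zero, pow_zero]
    exact mul_eq_left.1 h.symm |>.symm
  | succ n ih => rw [Finset.prod_range_succ, ih, pow_succ' z, hc, mul_comm]

/-- The product of a cocycle over a nontrivial orbit. -/
theorem prod_cocycle_transitive (hG : IsPGroup p G) (hW : NormTrivial p G) [Fintype Q] [MulAction.IsPretransitive G Q]
    (q₀ : Q) (hne : MulAction.stabilizer G q₀ ≠ ⊤) (c : G → Q → Multiplicative (ZMod p))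
    (hc : ∀ a b q, c (a * b) q = c a (b • q) * c b q) (z : G)
    (hz : ∀ (n : ℕ) (q : Q), p ∣ n → z ^ n • q = q → c (z ^ n) q = 1) : ∏ q, c z q = 1 := by
  classical
  have hp : p.Prime := Fact.out
  obtain ⟨n, hn⟩ := IsPGroup.iff_card.1 hG
  obtain ⟨a, ha⟩ := IsPGroup.iff_card.1 (hG.to_subgroup (MulAction.stabilizer G q₀))
  have han : a < n := by
    have h1 : Nat.card (MulAction.stabilizer G q₀) < Nat.card G :=
      lt_of_le_of_ne (Subgroup.card_le_card_group _) fun h => hne (Subgroup.eq_top_of_card_eq _ h)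
    rw [hn, ha] at h1
    exact (Nat.pow_lt_pow_iff_right hp.one_lt).1 h1
  obtain ⟨M, hMc, hHM⟩ := Sylow.exists_subgroup_card_pow_prime_le p (n := a) (m := n - 1)
    (by rw [hn]; exact pow_dvd_pow p (by omega)) _ ha (by omega)
  have hMi : M.index = p := by
    have h := M.index_mul_card
    rw [hn, hMc] at h
    refine Nat.eq_of_mul_eq_mul_right (pow_pos hp.pos (n - 1)) (h.trans ?_)
    rw [← pow_succ', show n - 1 + 1 = n by omega]
  haveI hMn : M.Normal := Subgroup.normal_of_index_eq_minFac_card (by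
    rw [hMi, hn, Nat.pow_minFac (by omega), hp.minFac_eq])
  -- the blocks
  have hex : ∀ q : Q, ∃ g : G, g • q₀ = q := fun q => MulAction.exists_smul_eq G q₀ q
  choose g hg using hex
  let β : Q → G ⧸ M := fun q => (g q : G ⧸ M)
  have hβ : ∀ (a : G) (q : Q), β (a • q) = (a : G ⧸ M) * β q := fun a q => by
    show (g (a • q) : G ⧸ M) = _
    rw [← QuotientGroup.mk_mul, QuotientGroup.eq]
    refine hHM ?_
    rw [MulAction.mem_stabilizer_iff, mul_smul, inv_smul_eq_iff, mul_smul, hg q, hg]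
  obtain hzM | hzM := em (z ∈ M)
  swap
  · let π : Equiv.Perm Q := MulAction.toPerm z
    have hπ : ∀ (i : ℕ) (q : Q), (π ^ i) q = z ^ i • q := fun i q => by
      induction i with
      | zero => simp
      | succ i ih => rw [pow_succ', pow_succ', mul_smul, ← ih]; rfl
    refine (prod_eq_pow_card π (fun q => c z q) 1 fun q m hm => ?_).trans (one_pow _)
    simp only [hπ, prod_iterate_cocycle hc, one_pow]
    rw [hπ] at hm
    refine hz m q ?_ hm
    have h1 := hβ (z ^ m) q
    rw [hm, right_eq_mul, QuotientGroup.mk_pow] at h1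
    have h2 : orderOf (z : G ⧸ M) = p := by
      refine orderOf_eq_prime ?_ fun h => hzM ((QuotientGroup.eq_one_iff z).1 h)
      rw [← hMi, Subgroup.index_eq_card]; exact pow_card_eq_one'
    exact h2 ▸ orderOf_dvd_of_pow_eq_one h1
  obtain ⟨u, hu⟩ : ∃ u : G, u ∉ M := by
    by_contra h
    push Not at h
    exact hp.ne_one (hMi ▸ Subgroup.index_eq_one.2 ((Subgroup.eq_top_iff' M).2 h))
  let blk : G ⧸ M → Finset Q := fun j => Finset.univ.filter fun q => β q = j
  have hblk : ∀ j (m : M), ∀ q, q ∈ blk j ↔ (m : G) • q ∈ blk j := fun j m q => by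
    simp only [blk, Finset.mem_filter, Finset.mem_univ, true_and, hβ, (QuotientGroup.eq_one_iff (m : G)).2 m.2, one_mul]
  let μ : G ⧸ M → (M →* Multiplicative (ZMod p)) := fun j =>
    MonoidHom.mk' (fun m => ∏ q ∈ blk j, c (m : G) q) fun m m' => by
      rw [Subgroup.coe_mul]
      simp only [hc, Finset.prod_mul_distrib]
      congr 1
      exact Finset.prod_bij (fun q _ => (m' : G) • q) (fun q hq => (hblk j m' q).1 hq)
        (fun q _ q' _ h => (MulAction.injective (m' : G)) h)
        (fun q hq => ⟨(m' : G)⁻¹ • q, (hblk j m' _).2 (by rwa [smul_inv_smul]), smul_inv_smul _ _⟩) fun q _ => rfl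
  have hμ : ∀ (a : G) (j : G ⧸ M) (m : M),
      μ ((a : G ⧸ M) * j) ⟨a * m * a⁻¹, hMn.conj_mem _ m.2 _⟩ = μ j m := by
    intro a j m
    show ∏ q ∈ blk ((a : G ⧸ M) * j), c (a * (m : G) * a⁻¹) q = ∏ q ∈ blk j, c (m : G) q
    have e : ∀ q ∈ blk j, c (a * (m : G) * a⁻¹) (a • q) = c a ((m : G) • q) * c (m : G) q * (c a q)⁻¹ := by
      intro q _
      have h1 := hc (a * (m : G) * a⁻¹) a q
      rw [inv_mul_cancel_right, hc] at h1
      exact eq_mul_inv_of_mul_eq h1.symm
    rw [← Finset.prod_bij (s := blk j) (f := fun q => c (a * (m : G) * a⁻¹) (a • q)) (fun q _ => a • q)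
      (fun q hq => by
        simp only [blk, Finset.mem_filter, Finset.mem_univ, true_and] at hq ⊢
        rw [hβ, hq])
      (fun q _ q' _ h => (MulAction.injective a) h)
      (fun q hq => ⟨a⁻¹ • q, by
        simp only [blk, Finset.mem_filter, Finset.mem_univ, true_and] at hq ⊢
        rw [hβ, hq, QuotientGroup.mk_inv, inv_mul_cancel_left], smul_inv_smul _ _⟩) fun q _ => rfl,
      Finset.prod_congr rfl e, Finset.prod_mul_distrib, Finset.prod_mul_distrib, Finset.prod_inv_distrib,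
      Finset.prod_bij (t := blk j) (g := fun q => c a q) (fun q _ => (m : G) • q) (fun q hq => (hblk j m q).1 hq)
      (fun q _ q' _ h => (MulAction.injective (m : G)) h)
      (fun q hq => ⟨(m : G)⁻¹ • q, (hblk j m _).2 (by rwa [smul_inv_smul]), smul_inv_smul _ _⟩) fun q _ => rfl,
      mul_inv_cancel_comm]
  have hu' : orderOf (u : G ⧸ M) = p := by
    refine orderOf_eq_prime ?_ fun h => hu ((QuotientGroup.eq_one_iff u).1 h)
    rw [← hMi, Subgroup.index_eq_card]; exact pow_card_eq_one'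
  have hbij : Function.Bijective fun i : Fin p => (u⁻¹ : G ⧸ M) ^ (i : ℕ) := by
    rw [Nat.bijective_iff_injective_and_card]
    refine ⟨fun i j h => Fin.ext ?_, by rw [Nat.card_eq_fintype_card, Fintype.card_fin, ← hMi, Subgroup.index_eq_card]⟩
    exact pow_injOn_Iio_orderOf (by rw [Set.mem_Iio, orderOf_inv, hu']; exact i.2)
      (by rw [Set.mem_Iio, orderOf_inv, hu']; exact j.2) h
  haveI : Fintype (G ⧸ M) := Fintype.ofFinite _
  calc ∏ q, c z q = ∏ j : G ⧸ M, μ j ⟨z, hzM⟩ := (Finset.prod_fiberwise Finset.univ β (fun q => c z q)).symm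
    _ = ∏ i : Fin p, μ ((u⁻¹ : G ⧸ M) ^ (i : ℕ)) ⟨z, hzM⟩ :=
        (hbij.prod_comp fun j => μ j ⟨z, hzM⟩).symm
    _ = ∏ i ∈ Finset.range p, μ 1 ⟨u ^ i * z * (u ^ i)⁻¹, hMn.conj_mem _ hzM _⟩ := by
        rw [Finset.prod_range]
        refine Finset.prod_congr rfl fun i _ => ?_
        have h1 := hμ (u ^ (i : ℕ)) ((u⁻¹ : G ⧸ M) ^ (i : ℕ)) ⟨z, hzM⟩
        rw [QuotientGroup.mk_pow, inv_pow, mul_inv_cancel] at h1
        rw [inv_pow]
        exact h1.symm
    _ = 1 := hW M hMn u (μ 1) hMi ⟨z, hzM⟩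

/-- The product of a cocycle only sees the fixed points. -/
theorem prod_cocycle (hG : IsPGroup p G) (hW : NormTrivial p G) [Fintype Q]
    (c : G → Q → Multiplicative (ZMod p)) (hc : ∀ a b q, c (a * b) q = c a (b • q) * c b q) (z : G)
    (a : Multiplicative (ZMod p))
    (hz : ∀ (n : ℕ) (q : Q), p ∣ n → z ^ n • q = q → c (z ^ n) q = 1)
    (hfix : ∀ q, (∀ g : G, g • q = q) → c z q = a) :
    ∏ q, c z q = a ^ Fintype.card Q := by
  classical
  haveI : Fintype (MulAction.orbitRel.Quotient G Q) := Fintype.ofFinite _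
  haveI : ∀ ω : MulAction.orbitRel.Quotient G Q, Fintype (MulAction.orbit G ω.out) := fun ω => Fintype.ofFinite _
  let e := MulAction.selfEquivSigmaOrbits G Q
  rw [← e.symm.prod_comp (fun q => c z q), Fintype.prod_sigma,
    show Fintype.card Q = ∑ ω : MulAction.orbitRel.Quotient G Q, Fintype.card (MulAction.orbit G ω.out) by
      rw [Fintype.card_congr e, Fintype.card_sigma], ← Finset.prod_pow_eq_pow_sum]
  refine Finset.prod_congr rfl fun ω _ => ?_
  show ∏ x : MulAction.orbit G ω.out, c z (x : Q) = _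
  by_cases hs : MulAction.stabilizer G ω.out = ⊤
  · have hf : ∀ g : G, g • ω.out = ω.out := fun g => MulAction.mem_stabilizer_iff.1 (hs ▸ Subgroup.mem_top g)
    have hsub : Fintype.card (MulAction.orbit G ω.out) = 1 := by
      refine Fintype.card_eq_one_iff.2 ⟨⟨ω.out, MulAction.mem_orbit_self _⟩, ?_⟩
      rintro ⟨x, g, rfl⟩
      exact Subtype.ext (hf g)
    rw [hsub, pow_one, Finset.prod_eq_single (⟨ω.out, MulAction.mem_orbit_self _⟩ : MulAction.orbit G ω.out)]
    · exact hfix ω.out hf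
    · rintro ⟨x, g, rfl⟩ _ h
      exact absurd (Subtype.ext (hf g)) h
    · exact fun h => absurd (Finset.mem_univ _) h
  · have hst : MulAction.stabilizer G (⟨ω.out, MulAction.mem_orbit_self _⟩ : MulAction.orbit G ω.out) ≠ ⊤ := by
      intro h
      refine hs ((Subgroup.eq_top_iff' _).2 fun g => ?_)
      have h1 : g • (⟨ω.out, MulAction.mem_orbit_self ω.out⟩ : MulAction.orbit G ω.out) =
          ⟨ω.out, MulAction.mem_orbit_self ω.out⟩ := MulAction.mem_stabilizer_iff.1 (by rw [h]; exact Subgroup.mem_top g)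
      exact MulAction.mem_stabilizer_iff.2 (congrArg Subtype.val h1)
    rw [prod_cocycle_transitive (Q := ↥(MulAction.orbit G ω.out)) hG hW
      (⟨ω.out, MulAction.mem_orbit_self ω.out⟩ : MulAction.orbit G ω.out) hst
      (fun (g : G) (x : MulAction.orbit G ω.out) => c g (x : Q))
      (fun (a b : G) (x : MulAction.orbit G ω.out) => hc a b (x : Q)) z
      (fun (n : ℕ) (x : MulAction.orbit G ω.out) hn hx => hz n (x : Q) hn (congrArg Subtype.val hx))]
    obtain ⟨k, hk⟩ := hG.card_orbit ω.out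
    rw [Nat.card_eq_fintype_card] at hk
    rcases k with _ | k
    · refine absurd ((Subgroup.eq_top_iff' _).2 fun g => ?_) hst
      haveI := Fintype.card_le_one_iff_subsingleton.1 (hk.le.trans (pow_zero p).le)
      exact MulAction.mem_stabilizer_iff.2 (Subsingleton.elim _ _)
    · rw [hk]
      refine (orderOf_dvd_iff_pow_eq_one.1 ?_).symm
      refine (orderOf_dvd_natCard a).trans ?_
      rw [Nat.card_congr Multiplicative.toAdd, Nat.card_zmod, pow_succ]
      exact dvd_mul_left _ _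

end Action

variable {Ω : Type u} [Group Ω] {S : Subgroup Ω} [Finite S] {F : FusionSystem S} {p : ℕ} [Fact p.Prime]

/-- The transfer step of Yoshida's theorem. -/
theorem transfer_eq_pow_of_normTrivial (hS : IsPGroup p S) (hW : NormTrivial p S) (b : CharBiset F p) (s : b.Sect)
    (χ : S →* Multiplicative (ZMod p)) (z : S)
    (hlow : ∀ (n : ℕ) P f, p ∣ n → Map F P f → ∀ t : S, ((z ^ n : S) : Ω) ∈ P →
      (t : Ω) = f ((z ^ n : S) : Ω) → χ t = 1)
    (htop : ∀ f, Map F S f → ∀ t : S, (t : Ω) = f z → χ t = χ z) :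
    CharBiset.transfer s χ z = χ z ^ b.orbits := by
  letI : MulAction S b.Orb := { smul := b.act, one_smul := b.act_one, mul_smul := b.act_mul }
  show ∏ q, χ (s.coc z q) = _
  rw [← CharBiset.orbits_eq b]
  refine prod_cocycle hS hW (fun g q => χ (s.coc g q))
    (fun a b' q => by rw [CharBiset.Sect.coc_mul, map_mul]; rfl) z _ (fun n q hn hfix => ?_) fun q hq => ?_
  · obtain ⟨P, f, hf, hst⟩ := b.stab (s.σ q)
    have hspec := s.coc_spec (z ^ n) q
    rw [show b.act (z ^ n) q = q from hfix] at hspec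
    obtain ⟨hm, he⟩ := (hst _ _).1 hspec.symm
    exact hlow n P f hn hf _ hm he
  · obtain ⟨P, f, hf, hst⟩ := b.stab (s.σ q)
    have hall : ∀ g : S, (g : Ω) ∈ P ∧ ((s.coc g q : S) : Ω) = f g := fun g => by
      have hspec := s.coc_spec g q
      rw [show b.act g q = q from hq g] at hspec
      exact (hst _ _).1 hspec.symm
    have hPS : P = S := le_antisymm hf.le fun x hx => (hall ⟨x, hx⟩).1
    exact htop f (hPS ▸ hf) _ (hall z).2

/-- **Yoshida**: if the norms are trivial the automorphisms of `S` control transfer. -/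
theorem focal_le_normFoc_of_normTrivial (hS : IsPGroup p S) (hF : F.IsSaturated p) (hW : NormTrivial p S) :
    F.focalSubgroup ≤ normFoc F S := by
  classical
  set K := normFoc F S with hK
  have hKS : K ≤ S := normFoc_le F S
  have hcS : ⁅S, S⁆ ≤ K := by
    rw [Subgroup.commutator_le]
    intro a ha b hb
    have hm : Map F S (fun x => b * x * b⁻¹) := map_conjBy le_rfl hb
    have hi : im S (fun x => b * x * b⁻¹) = S := Subgroup.eq_of_le_of_card_ge
      (im_le_iff.2 fun x hx => S.mul_mem (S.mul_mem hb hx) (S.inv_mem hb)) hm.card_im.ge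
    have h := normFoc_generator hm le_rfl hi a⁻¹ (S.inv_mem ha)
    simpa [commutatorElement_def, mul_assoc] using h
  set Φ := (frattini ↥S).map S.subtype
  have hfS : F.focalSubgroup ≤ S := by
    refine (Subgroup.closure_le _).2 ?_
    rintro _ ⟨P, φ, x, hφ, rfl⟩
    exact S.mul_mem (S.inv_mem ((F.le_of_mem hφ).1 x.2)) ((F.le_of_mem hφ).2 x)
  have hfh : F.focalSubgroup = F.hyperfocalSubgroup p ⊔ ⁅S, S⁆ := S5092.result p hS F hF
  have hhf : F.hyperfocalSubgroup p ≤ F.focalSubgroup := hfh ▸ le_sup_left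
  suffices hmain : F.focalSubgroup ≤ K ⊔ Φ by
    set L := F.hyperfocalSubgroup p ⊓ K with hL
    have hLn : ∀ s ∈ S, ∀ x ∈ L, s * x * s⁻¹ ∈ L := fun s hs x hx => ⟨hyperfocal_conj_mem hs hx.1, by
      have h1 := K.mul_mem (hcS (Subgroup.commutator_mem_commutator hs (hKS hx.2))) hx.2
      rwa [commutatorElement_def, inv_mul_cancel_right] at h1⟩
    have hKL : K ≤ L ⊔ Φ := by
      refine normFoc_le_of fun P g hg hSP hgS x hx => ?_
      obtain ⟨α, hα, hαg⟩ := exists_aut (hg.restrict hSP) hgS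
      obtain ⟨β, hβ, γ, hγ, rfl⟩ := exists_autS_mul_residual hS hF fn_self hα
      obtain ⟨s, hs, hsβ⟩ := mem_autInducedBy.1 hβ
      have hxS := hg.le hx
      set y := av (γ : MulAut S) x
      have hy : y ∈ S := av_mem _ hxS
      have h1 : g x = s * y * s⁻¹ := by rw [← hαg x hxS, av_mul _ _ hxS, hsβ _ hy]
      have h2 : y * (x⁻¹ * g x) * y⁻¹ = y * (x⁻¹ * y) * y⁻¹ * ⁅y, ⁅y⁻¹, s⁆⁆ * ⁅y⁻¹, s⁆ := by
        rw [h1]; simp [commutatorElement_def, mul_assoc]
      have hxy : x⁻¹ * y ∈ L := ⟨inv_mul_mem_hyperfocal le_rfl hγ hxS,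
        normFoc_generator (map_of_mem_autGroup le_rfl γ.2) le_rfl (im_av _) x hxS⟩
      have h3 : x⁻¹ * g x = (x⁻¹ * y) * ⁅y⁻¹, s⁆ := by
        rw [h1]; simp [commutatorElement_def, mul_assoc]
      rw [h3]
      exact Subgroup.mul_mem _ (Subgroup.mem_sup_left hxy) (Subgroup.mem_sup_right
        (commutator_le_frattini_map hS (Subgroup.commutator_mem_commutator (S.inv_mem hy) hs)))
    have h := hyperfocal_le_of_le_sup hS hF inf_le_left hLn
      (hhf.trans (hmain.trans (sup_le hKL le_sup_right)))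
    rw [hfh]
    exact sup_le (h.trans inf_le_right) hcS
  by_contra hcon
  -- an element of least order outside
  obtain ⟨z₀, hz₀f, hz₀⟩ := SetLike.not_le_iff_exists.1 hcon
  obtain ⟨z, ⟨hzf, hz⟩, hmin⟩ := Set.exists_min_image {z : S | (z : Ω) ∈ F.focalSubgroup ∧ (z : Ω) ∉ K ⊔ Φ}
    orderOf (Set.toFinite _) ⟨⟨z₀, hfS hz₀f⟩, hz₀f, hz₀⟩
  set T := (K ⊔ Φ).subgroupOf S
  have hΦT : frattini ↥S ≤ T := fun x hx => Subgroup.mem_sup_right (Subgroup.mem_map_of_mem _ hx)
  obtain ⟨χ, hχT, hχz⟩ : ∃ χ : S →* Multiplicative (ZMod p), (∀ x ∈ T, χ x = 1) ∧ χ z ≠ 1 := by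
    obtain ⟨M, ⟨hTM, hzM⟩, hmax⟩ := Set.exists_max_image {N : Subgroup S | T ≤ N ∧ z ∉ N}
      (fun N : Subgroup S => Nat.card N) (Set.toFinite _) ⟨T, le_rfl, hz⟩
    have hcomm : commutator ↥S ≤ M := (Solv.commutator_le_frattini_pgroup hS).trans (hΦT.trans hTM)
    haveI hMn : M.Normal := ⟨fun m hm g => by
      have h := M.mul_mem (hcomm (Subgroup.commutator_mem_commutator (Subgroup.mem_top g) (Subgroup.mem_top m))) hm
      rwa [commutatorElement_def, inv_mul_cancel_right] at h⟩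
    have hexp : ∀ w : S ⧸ M, w ^ p = 1 := fun w => by
      obtain ⟨x, rfl⟩ := QuotientGroup.mk'_surjective M w
      rw [← map_pow]
      exact (QuotientGroup.eq_one_iff _).2 (hTM (hΦT (Solv.pow_mem_frattini hS x)))
    have hz1 : (z : S ⧸ M) ≠ 1 := fun h => hzM ((QuotientGroup.eq_one_iff z).1 h)
    have hgen : Subgroup.zpowers (z : S ⧸ M) = ⊤ := by
      refine (Subgroup.eq_top_iff' _).2 fun w => ?_
      by_cases hw : w = 1
      · rw [hw]; exact one_mem _
      set N := (Subgroup.zpowers w).comap (QuotientGroup.mk' M)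
      have hMN : M ≤ N := fun m hm => by
        show (m : S ⧸ M) ∈ Subgroup.zpowers w
        rw [(QuotientGroup.eq_one_iff m).2 hm]; exact one_mem _
      have hzw : (z : S ⧸ M) ∈ Subgroup.zpowers w := by
        by_contra hzN
        have h := Subgroup.eq_of_le_of_card_ge hMN (hmax N ⟨hTM.trans hMN, hzN⟩)
        obtain ⟨x, rfl⟩ := QuotientGroup.mk'_surjective M w
        exact hw ((QuotientGroup.eq_one_iff x).2 (h.ge (Subgroup.mem_zpowers _)))
      have h1 : Subgroup.zpowers (z : S ⧸ M) = Subgroup.zpowers w := by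
        refine Subgroup.eq_of_le_of_card_ge (Subgroup.zpowers_le.2 hzw) ?_
        rw [Nat.card_zpowers, Nat.card_zpowers, orderOf_eq_prime (hexp _) hw, orderOf_eq_prime (hexp _) hz1]
      exact h1.ge (Subgroup.mem_zpowers w)
    have hMi : M.index = p := by
      rw [Subgroup.index_eq_card, ← Subgroup.card_top, ← hgen, Nat.card_zpowers, orderOf_eq_prime (hexp _) hz1]
    haveI : Fact (Nat.card (S ⧸ M)).Prime := ⟨by rw [← Subgroup.index_eq_card, hMi]; exact Fact.out⟩
    haveI : IsCyclic (S ⧸ M) := isCyclic_of_prime_card (p := p) (by rw [← Subgroup.index_eq_card, hMi])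
    let e : S ⧸ M ≃* Multiplicative (ZMod p) := mulEquivOfCyclicCardEq (by
      rw [← Subgroup.index_eq_card, hMi, Nat.card_congr Multiplicative.toAdd, Nat.card_zmod])
    refine ⟨e.toMonoidHom.comp (QuotientGroup.mk' M), fun x hx => ?_, fun h => hzM ?_⟩
    · show e (x : S ⧸ M) = 1
      rw [(QuotientGroup.eq_one_iff x).2 (hTM hx), map_one]
    · exact (QuotientGroup.eq_one_iff z).1 (e.injective (h.trans (map_one e).symm))
  obtain ⟨b⟩ := exists_charBiset hS hF
  obtain ⟨s⟩ : Nonempty b.Sect := inferInstance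
  have hone : ∀ t : S, (t : Ω) ∈ F.focalSubgroup → orderOf t < orderOf z → χ t = 1 := fun t ht hlt => by
    by_contra h
    exact absurd (hmin t ⟨ht, fun hm => h (hχT t hm)⟩) (not_le.2 hlt)
  have h1 := transfer_eq_pow_of_normTrivial hS hW b s χ z (fun n P f hn hf t hP ht => ?_) fun f hf t ht => ?_
  · rw [CharBiset.transfer_focal s χ hzf] at h1
    refine hχz (orderOf_eq_one_iff.1 (Nat.eq_one_of_dvd_coprimes (a := p) (b := b.orbits) ?_ ?_ ?_))
    · exact (Nat.Prime.coprime_iff_not_dvd Fact.out).2 b.not_dvd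
    · exact (orderOf_dvd_natCard _).trans (by rw [Nat.card_congr Multiplicative.toAdd, Nat.card_zmod])
    · exact orderOf_dvd_of_pow_eq_one h1.symm
  · have hzn : ((z ^ n : S) : Ω) ∈ F.focalSubgroup := by
      rw [SubmonoidClass.coe_pow]; exact Subgroup.pow_mem _ hzf n
    obtain ⟨φ, hφ, hφe⟩ := hf
    have htf : (t : Ω) ∈ F.focalSubgroup := by
      have h2 := F.focalSubgroup.mul_mem hzn (Subgroup.subset_closure ⟨P, φ, ⟨_, hP⟩, hφ, rfl⟩)
      rwa [mul_inv_cancel_left, hφe, ← ht] at h2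
    have hordle : orderOf t ∣ orderOf (z ^ n) := by
      refine orderOf_dvd_of_pow_eq_one (Subtype.ext ?_)
      rw [SubmonoidClass.coe_pow, ht, ← hφe ⟨_, hP⟩, ← map_pow]
      have h0 : (⟨((z ^ n : S) : Ω), hP⟩ : P) ^ orderOf (z ^ n) = 1 := Subtype.ext (by
        show ((z ^ n : S) : Ω) ^ orderOf (z ^ n) = 1
        rw [← SubmonoidClass.coe_pow, pow_orderOf_eq_one]; rfl)
      rw [h0, map_one]; rfl
    refine hone t htf (lt_of_le_of_lt (Nat.le_of_dvd (orderOf_pos _) hordle) ?_)
    have hz1 : orderOf z ≠ 1 := fun h => hχz (by rw [orderOf_eq_one_iff.1 h, map_one])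
    obtain ⟨k, hk⟩ := IsPGroup.iff_orderOf.1 hS z
    rw [orderOf_pow, hk]
    rcases k with _ | k
    · exact absurd (hk.trans (pow_zero p)) hz1
    · refine Nat.div_lt_self (pow_pos (Nat.Prime.pos Fact.out) _) ?_
      exact lt_of_lt_of_le (Nat.Prime.one_lt Fact.out) (Nat.le_of_dvd (Nat.gcd_pos_of_pos_left _ (pow_pos (Nat.Prime.pos Fact.out) _))
        (Nat.dvd_gcd (by rw [pow_succ]; exact dvd_mul_left _ _) hn))
  · have h2 := hχT (z⁻¹ * t) (Subgroup.mem_sup_left (show (z : Ω)⁻¹ * (t : Ω) ∈ K by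
      rw [ht]
      exact normFoc_generator hf le_rfl (Subgroup.eq_of_le_of_card_ge hf.im_le hf.card_im.ge) _ z.2))
    rw [map_mul, map_inv, inv_mul_eq_one] at h2
    exact h2.symm

end Cfsg.Agent.Local.FS
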